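import Mathlib
import Groth.Agent.Lib.Helper24.EtaleNormal

/-!
# Unramified + dominant over a (geometrically) unibranch base is étale: algebraic core (helper9)

* `EUAt A p`: local rings of étale `A`-algebras at primes over `p` are domains.
* `euAt_of_normal`: holds for normal domains (via helper24).
* `ker_le_of_euAt`: the kernel of a standard étale surjection onto `B_f` dies in the local ring.
* `exists_mul_eq_zero_of_finite_minimalPrimes`: in a reduced ring with finitely many minimal
  primes, the kernel of `C → C_q` is killed by a single element outside `q`.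
* `exists_etale_away`: the main algebraic statement (EGA IV 18.10.1, affine form).
-/

set_option autoImplicit false

namespace Groth.Agent.Lib.helper9.UnramCore

universe u

open Algebra TensorProduct

/-- Local rings of étale `A`-algebras at primes over `p` are domains. -/
def EUAt (A : Type u) [CommRing A] (p : Ideal A) : Prop :=
  ∀ (C : Type u) [CommRing C] [Algebra A C] [Algebra.Etale A C] (q' : Ideal C) [q'.IsPrime],
    q'.under A = p → IsDomain (Localization.AtPrime q')

theorem euAt_of_normal (A : Type u) [CommRing A] [IsDomain A] [IsIntegrallyClosed A]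
    (p : Ideal A) : EUAt A p := by
  intro C _ _ _ q' _ _
  exact (Groth.Agent.Lib.Helper24.EtaleNormal.isDomain_and_isIntegrallyClosed_of_localization_etale
    A C (Localization.AtPrime q') q'.primeCompl).1

/-- In a reduced ring with finitely many minimal primes, the kernel of `C → C_q` is killed by a
single element outside `q`. -/
theorem exists_mul_eq_zero_of_finite_minimalPrimes {C : Type u} [CommRing C] [IsReduced C]
    (hfin : (minimalPrimes C).Finite) (q' : Ideal C) [q'.IsPrime] :
    ∃ h : C, h ∉ q' ∧ ∀ c t : C, t ∉ q' → t * c = 0 → h * c = 0 := by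
  classical
  let g : Ideal C → C := fun r => if hr : ∃ x, x ∈ r ∧ x ∉ q' then hr.choose else 1
  have hg1 : ∀ r, g r ∉ q' := by
    intro r
    by_cases hr : ∃ x, x ∈ r ∧ x ∉ q'
    · simp only [g, dif_pos hr]
      exact hr.choose_spec.2
    · simp only [g, dif_neg hr]
      exact fun h1 => ‹q'.IsPrime›.ne_top ((Ideal.eq_top_iff_one _).2 h1)
  have hg2 : ∀ r : Ideal C, ¬ r ≤ q' → g r ∈ r := by
    intro r hr
    have hr' : ∃ x, x ∈ r ∧ x ∉ q' := by
      by_contra hcon
      push Not at hcon
      exact hr fun x hx => hcon x hx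
    simp only [g, dif_pos hr']
    exact hr'.choose_spec.1
  refine ⟨∏ r ∈ hfin.toFinset, g r, ?_, ?_⟩
  · intro hmem
    rw [Ideal.IsPrime.prod_mem_iff] at hmem
    obtain ⟨r, _, hr⟩ := hmem
    exact hg1 r hr
  · intro c t ht htc
    have hnil : (∏ r ∈ hfin.toFinset, g r) * c ∈ nilradical C := by
      rw [nilradical, ← Ideal.sInf_minimalPrimes, Ideal.mem_sInf]
      intro r hr
      have hrp : r.IsPrime := hr.1.1
      by_cases hle : r ≤ q'
      · have htr : t ∉ r := fun h1 => ht (hle h1)
        have : t * c ∈ r := by rw [htc]; exact r.zero_mem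
        exact r.mul_mem_left _ ((hrp.mem_or_mem this).resolve_left htr)
      · refine r.mul_mem_right _ ?_
        have hmem : r ∈ hfin.toFinset := hfin.mem_toFinset.2 hr
        exact Ideal.mem_of_dvd _ (Finset.dvd_prod_of_mem g hmem) (hg2 r hle)
    have := nilradical_eq_zero C
    rw [this] at hnil
    simpa using hnil


section EtaleOverDomain

variable (A : Type u) [CommRing A] [IsDomain A] (C : Type u) [CommRing C] [Algebra A C]
  [Algebra.Etale A C]

include A in
/-- An étale algebra over a domain is reduced. -/
theorem isReduced_of_etale_domain : IsReduced C := by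
  let K := FractionRing A
  have hflat : Module.Flat A C := inferInstance
  have hinj : Function.Injective (algebraMap C (C ⊗[A] K)) :=
    Algebra.TensorProduct.includeLeft_injective (S := C) (IsFractionRing.injective A K)
  have hredK : IsReduced (K ⊗[A] C) := Algebra.FormallyUnramified.isReduced_of_field K _
  let e : C ⊗[A] K ≃ₐ[A] K ⊗[A] C := Algebra.TensorProduct.comm A C K
  have hred : IsReduced (C ⊗[A] K) := isReduced_of_injective e.toRingHom e.injective
  exact isReduced_of_injective (algebraMap C (C ⊗[A] K)) hinj

include A in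
/-- An étale algebra over a domain has finitely many minimal primes. -/
theorem finite_minimalPrimes_of_etale_domain : (minimalPrimes C).Finite := by
  have hqf : Algebra.QuasiFinite A C := inferInstance
  refine (Algebra.QuasiFinite.finite_primesOver (S := C) (⊥ : Ideal A)).subset ?_
  intro r hr
  have hrp : r.IsPrime := hr.1.1
  obtain ⟨P, hPr, hP, hPover⟩ :=
    Ideal.exists_ideal_le_liesOver_of_le (p := (⊥ : Ideal A)) (q := r.under A) r bot_le
  have : r ≤ P := hr.2 ⟨hP, bot_le⟩ hPr
  have hPr' : P = r := le_antisymm hPr this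
  subst hPr'
  exact ⟨hrp, hPover⟩

end EtaleOverDomain


/-- Key step: for an algebra of finite type unramified at `q`, with `EUAt` at the prime below and
a generization of `q` lying over a "generic" prime, the kernel of the standard étale surjection
onto `B_f` dies in the local ring at the preimage of `q`. -/
theorem exists_stdEtale_surjection_ker {A B : Type u} [CommRing A] [CommRing B] [Algebra A B]
    [Algebra.FiniteType A B] (q : Ideal B) [q.IsPrime] [Algebra.IsUnramifiedAt A q]
    (hEU : EUAt A (q.under A))
    (hgen : ∃ q'' : Ideal B, q''.IsPrime ∧ q'' ≤ q ∧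
      ∀ a ∈ q''.under A, ∃ s : A, s ∉ q.under A ∧ s * a = 0) :
    ∃ (f : B) (_ : f ∉ q) (P : StandardEtalePair A) (φ : P.Ring →ₐ[A] Localization.Away f),
      Function.Surjective φ ∧
      ∀ c : P.Ring, φ c = 0 →
        ∃ t : P.Ring, φ t ∉ q.map (algebraMap B (Localization.Away f)) ∧ t * c = 0 := by
  obtain ⟨f, hf, P, φ, hφ⟩ :=
    Algebra.IsUnramifiedAt.exists_hasStandardEtaleSurjectionOn (R := A) q
  refine ⟨f, hf, P, φ, hφ, ?_⟩
  have hdisj : Disjoint ((Submonoid.powers f : Submonoid B) : Set B) (q : Set B) :=
    (Ideal.disjoint_powers_iff_notMem_of_isPrime _).mpr hf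
  have hqf : (q.map (algebraMap B (Localization.Away f))).IsPrime :=
    IsLocalization.isPrime_of_isPrime_disjoint (.powers f) _ _ ‹_› hdisj
  have hqfc : (q.map (algebraMap B (Localization.Away f))).comap
      (algebraMap B (Localization.Away f)) = q :=
    IsLocalization.under_map_of_isPrime_disjoint (.powers f) _ ‹_› hdisj
  set qf := q.map (algebraMap B (Localization.Away f)) with hqf_def
  let q' : Ideal P.Ring := qf.comap φ.toRingHom
  have hq' : q'.IsPrime := Ideal.comap_isPrime _ _
  have hcompA : φ.toRingHom.comp (algebraMap A P.Ring) =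
      (algebraMap B (Localization.Away f)).comp (algebraMap A B) := by
    ext a
    simp [← IsScalarTower.algebraMap_apply]
  have hq'A : q'.under A = q.under A := by
    simp only [Ideal.under, q', Ideal.comap_comap, hcompA]
    rw [← Ideal.comap_comap, hqfc]
  obtain ⟨q'', hq''p, hq''le, hq''A⟩ := hgen
  have hdisj'' : Disjoint ((Submonoid.powers f : Submonoid B) : Set B) (q'' : Set B) :=
    (Ideal.disjoint_powers_iff_notMem_of_isPrime _).mpr (fun h => hf (hq''le h))
  have hqf'' : (q''.map (algebraMap B (Localization.Away f))).IsPrime :=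
    IsLocalization.isPrime_of_isPrime_disjoint (.powers f) _ _ ‹_› hdisj''
  have hqfc'' : (q''.map (algebraMap B (Localization.Away f))).comap
      (algebraMap B (Localization.Away f)) = q'' :=
    IsLocalization.under_map_of_isPrime_disjoint (.powers f) _ ‹_› hdisj''
  let r'' : Ideal P.Ring := (q''.map (algebraMap B (Localization.Away f))).comap φ.toRingHom
  have hr'' : r''.IsPrime := Ideal.comap_isPrime _ _
  have hr''le : r'' ≤ q' := Ideal.comap_mono (Ideal.map_mono hq''le)
  have hr''A : r''.under A = q''.under A := by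
    simp only [Ideal.under, r'', Ideal.comap_comap, hcompA]
    rw [← Ideal.comap_comap, hqfc'']
  have : IsDomain (Localization.AtPrime q') := hEU P.Ring q' hq'A
  let N : Ideal P.Ring := RingHom.ker (algebraMap P.Ring (Localization.AtPrime q'))
  have hNp : N.IsPrime := RingHom.ker_isPrime _
  have hNmem : ∀ c : P.Ring, c ∈ N ↔ ∃ t : q'.primeCompl, (t : P.Ring) * c = 0 := by
    intro c
    exact IsLocalization.map_eq_zero_iff q'.primeCompl (Localization.AtPrime q') c
  have hNle : N ≤ r'' := by
    intro c hc
    obtain ⟨t, ht⟩ := (hNmem c).1 hc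
    have htr : (t : P.Ring) ∉ r'' := fun h => t.2 (hr''le h)
    have : (t : P.Ring) * c ∈ r'' := by rw [ht]; exact r''.zero_mem
    exact (hr''.mem_or_mem this).resolve_left htr
  have hNA : N.under A = r''.under A := by
    refine le_antisymm (Ideal.comap_mono hNle) ?_
    intro a ha
    rw [hr''A] at ha
    obtain ⟨s, hs, hsa⟩ := hq''A a ha
    rw [Ideal.mem_comap] at ⊢
    refine (hNmem _).2 ⟨⟨algebraMap A P.Ring s, ?_⟩, ?_⟩
    · intro h
      apply hs
      rw [← hq'A]
      exact h
    · simp only
      rw [← map_mul, hsa, map_zero]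
  have hNeq : N = r'' := Algebra.QuasiFinite.eq_of_le_of_under_eq (R := A) N r'' hNle hNA
  intro c hc
  have hcr : c ∈ r'' := by
    rw [Ideal.mem_comap]
    have : φ.toRingHom c = 0 := hc
    rw [this]
    exact Ideal.zero_mem _
  rw [← hNeq] at hcr
  obtain ⟨t, ht⟩ := (hNmem c).1 hcr
  exact ⟨t, t.2, ht⟩


/-- **EGA IV 18.10.1, affine form.** Let `A` be a domain, `B` an `A`-algebra of finite type
unramified at a prime `q`, such that local rings of étale `A`-algebras at primes over `q ∩ A` are
domains and such that some generization of `q` lies over `(0)`. Then `B_g` is étale over `A` for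
some `g ∉ q`. -/
theorem exists_etale_away {A B : Type u} [CommRing A] [IsDomain A] [CommRing B] [Algebra A B]
    [Algebra.FiniteType A B] (q : Ideal B) [q.IsPrime] [Algebra.IsUnramifiedAt A q]
    (hEU : EUAt A (q.under A))
    (hgen : ∃ q'' : Ideal B, q''.IsPrime ∧ q'' ≤ q ∧ q''.under A = ⊥) :
    ∃ g : B, g ∉ q ∧ Algebra.Etale A (Localization.Away g) := by
  have hgen' : ∃ q'' : Ideal B, q''.IsPrime ∧ q'' ≤ q ∧
      ∀ a ∈ q''.under A, ∃ s : A, s ∉ q.under A ∧ s * a = 0 := by
    obtain ⟨q'', h1, h2, h3⟩ := hgen
    refine ⟨q'', h1, h2, fun a ha => ⟨1, ?_, ?_⟩⟩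
    · exact fun h => (inferInstance : (q.under A).IsPrime).ne_top ((Ideal.eq_top_iff_one _).2 h)
    · rw [h3] at ha
      simp [(Ideal.mem_bot).1 ha]
  obtain ⟨f, hf, P, φ, hφ, hker⟩ := exists_stdEtale_surjection_ker q hEU hgen'
  have hdisj : Disjoint ((Submonoid.powers f : Submonoid B) : Set B) (q : Set B) :=
    (Ideal.disjoint_powers_iff_notMem_of_isPrime _).mpr hf
  have hqf : (q.map (algebraMap B (Localization.Away f))).IsPrime :=
    IsLocalization.isPrime_of_isPrime_disjoint (.powers f) _ _ ‹_› hdisj
  have hqfc : (q.map (algebraMap B (Localization.Away f))).comap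
      (algebraMap B (Localization.Away f)) = q :=
    IsLocalization.under_map_of_isPrime_disjoint (.powers f) _ ‹_› hdisj
  let q' : Ideal P.Ring := (q.map (algebraMap B (Localization.Away f))).comap φ.toRingHom
  have hq' : q'.IsPrime := Ideal.comap_isPrime _ _
  have hred : IsReduced P.Ring := isReduced_of_etale_domain A P.Ring
  obtain ⟨h, hh, hkill⟩ := exists_mul_eq_zero_of_finite_minimalPrimes
    (finite_minimalPrimes_of_etale_domain A P.Ring) q'
  have hkill' : ∀ c : P.Ring, φ c = 0 → h * c = 0 := by
    intro c hc
    obtain ⟨t, ht, htc⟩ := hker c hc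
    exact hkill c t ht htc
  obtain ⟨u, hu⟩ := hφ (algebraMap B (Localization.Away f) f)
  obtain ⟨n, b, hb⟩ := IsLocalization.Away.surj f (φ h)
  have ha : φ (h * u ^ n) = algebraMap B (Localization.Away f) b := by
    rw [map_mul, map_pow, hu, hb]
  have hunit : IsUnit (algebraMap B (Localization.Away f) f ^ n) :=
    (IsLocalization.Away.algebraMap_isUnit f).pow n
  have hbq : b ∉ q := by
    intro hbq
    have h1 : algebraMap B (Localization.Away f) b ∈ q.map (algebraMap B (Localization.Away f)) :=
      Ideal.mem_map_of_mem _ hbq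
    rw [← hb] at h1
    rcases hqf.mem_or_mem h1 with h2 | h2
    · exact hh h2
    · exact hqf.ne_top (Ideal.eq_top_of_isUnit_mem _ h2 hunit)
  refine ⟨f * b, ‹q.IsPrime›.mul_notMem hf hbq, ?_⟩
  set a : P.Ring := h * u ^ n with ha_def
  have hloc : IsLocalization.Away (f * b) (Localization.Away (φ a)) :=
    ha ▸ .mul' (Localization.Away f) _ _ _
  let ψ : Localization.Away a →ₐ[A] Localization.Away (φ a) :=
    IsLocalization.Away.mapₐ (Localization.Away a) (Localization.Away (φ a)) φ a
  have hψsurj : Function.Surjective ψ := IsLocalization.Away.mapₐ_surjective_of_surjective a hφ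
  have hψinj : Function.Injective ψ := by
    rw [injective_iff_map_eq_zero]
    intro x hx
    obtain ⟨m, c, hc⟩ := IsLocalization.Away.surj a x
    have h1 : ψ (algebraMap P.Ring (Localization.Away a) c) = 0 := by
      have h0 := congrArg ψ hc
      rw [map_mul ψ, hx, zero_mul] at h0
      exact h0.symm
    have h2 : algebraMap (Localization.Away f) (Localization.Away (φ a)) (φ c) = 0 := by
      rw [← h1]
      simp [ψ, IsLocalization.Away.map, IsLocalization.map_eq]
    obtain ⟨⟨_, k, rfl⟩, hk⟩ :=
      (IsLocalization.map_eq_zero_iff (Submonoid.powers (φ a)) (Localization.Away (φ a)) (φ c)).1 h2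
    have h3 : φ (a ^ k * c) = 0 := by
      rw [map_mul, map_pow]; exact hk
    have h4 : h * (a ^ k * c) = 0 := hkill' _ h3
    have h5 : algebraMap P.Ring (Localization.Away a) c = 0 := by
      rw [IsLocalization.map_eq_zero_iff (Submonoid.powers a)]
      refine ⟨⟨a ^ (k + 1), k + 1, rfl⟩, ?_⟩
      show a ^ (k + 1) * c = 0
      calc a ^ (k + 1) * c = u ^ n * (h * (a ^ k * c)) := by rw [ha_def]; ring
        _ = 0 := by rw [h4, mul_zero]
    have hunit' : IsUnit (algebraMap P.Ring (Localization.Away a) a ^ m) :=
      (IsLocalization.Away.algebraMap_isUnit a).pow m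
    rw [h5] at hc
    exact (hunit'.mul_left_eq_zero).1 hc
  let e : Localization.Away a ≃ₐ[A] Localization.Away (φ a) :=
    AlgEquiv.ofBijective ψ ⟨hψinj, hψsurj⟩
  have het1 : Algebra.Etale A (Localization.Away a) := inferInstance
  have het2 : Algebra.Etale A (Localization.Away (φ a)) := .of_equiv e
  let e' : Localization.Away (f * b) ≃ₐ[A] Localization.Away (φ a) :=
    (IsLocalization.algEquiv (Submonoid.powers (f * b)) (Localization.Away (f * b))
      (Localization.Away (φ a))).restrictScalars A
  exact .of_equiv e'.symm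

end Groth.Agent.Lib.helper9.UnramCore
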