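import Mathlib
import Groth.Agent.Lib.Helper9.UnramCore

/-!
# `EULoc`: étale-local domain property of a local ring, and transfer to `EUAt` (helper9)
-/

set_option autoImplicit false

namespace Groth.Agent.Lib.helper9.UnramCore

universe u

open Algebra TensorProduct

/-- Local rings of étale `R`-algebras dominating `R` are domains. -/
def EULoc (R : Type u) [CommRing R] : Prop :=
  ∀ (C G : Type u) [CommRing C] [Algebra R C] [Algebra.Etale R C] [CommRing G] [Algebra C G]
    [Algebra R G] [IsScalarTower R C G] (M : Submonoid C) [IsLocalization M G] [IsLocalRing G]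
    [IsLocalHom (algebraMap R G)], IsDomain G

theorem euLoc_of_normal (R : Type u) [CommRing R] [IsDomain R] [IsIntegrallyClosed R] :
    EULoc R := by
  intro C G _ _ _ _ _ _ _ M _ _ _
  exact (Groth.Agent.Lib.Helper24.EtaleNormal.isDomain_and_isIntegrallyClosed_of_localization_etale
    R C G M).1

attribute [local instance] Algebra.TensorProduct.rightAlgebra in
theorem euAt_of_euLoc {A : Type u} [CommRing A] (p : Ideal A) [p.IsPrime] (R : Type u)
    [CommRing R] [Algebra A R] [IsLocalization.AtPrime R p] (h : EULoc R) : EUAt A p := by
  intro C _ _ _ q' _ hq'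
  have hmem : ∀ y : A, y ∉ p → algebraMap A C y ∉ q' := by
    intro y hy hy'
    apply hy
    rw [← hq']
    exact hy'
  have hunits : ∀ y : p.primeCompl, IsUnit (algebraMap A (Localization.AtPrime q') y) := by
    intro y
    rw [IsScalarTower.algebraMap_apply A C (Localization.AtPrime q')]
    exact IsLocalization.map_units (Localization.AtPrime q')
      (⟨algebraMap A C y, hmem y y.2⟩ : q'.primeCompl)
  let ρ : R →+* Localization.AtPrime q' := IsLocalization.lift (M := p.primeCompl) hunits
  let algRD : Algebra R (Localization.AtPrime q') := ρ.toAlgebra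
  have st1 : IsScalarTower A R (Localization.AtPrime q') :=
    .of_algebraMap_eq' (IsLocalization.lift_comp hunits).symm
  let μ : R ⊗[A] C →ₐ[A] Localization.AtPrime q' :=
    Algebra.TensorProduct.productMap (IsScalarTower.toAlgHom A R (Localization.AtPrime q'))
      (IsScalarTower.toAlgHom A C (Localization.AtPrime q'))
  let algCRD : Algebra (R ⊗[A] C) (Localization.AtPrime q') := μ.toRingHom.toAlgebra
  have st2 : IsScalarTower R (R ⊗[A] C) (Localization.AtPrime q') := by
    refine .of_algebraMap_eq fun r => ?_
    show ρ r = μ (r ⊗ₜ 1)
    simp [μ, RingHom.algebraMap_toAlgebra]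
  have st3 : IsScalarTower C (R ⊗[A] C) (Localization.AtPrime q') := by
    refine .of_algebraMap_eq fun c => ?_
    show algebraMap C (Localization.AtPrime q') c = μ (1 ⊗ₜ c)
    simp [μ]
  have hloc1 : IsLocalization (Algebra.algebraMapSubmonoid C p.primeCompl) (R ⊗[A] C) :=
    IsLocalization.tensorRight R p.primeCompl
  have hle : Algebra.algebraMapSubmonoid C p.primeCompl ≤ q'.primeCompl := by
    rintro _ ⟨y, hy, rfl⟩
    exact hmem y hy
  have hloc2 : IsLocalization (q'.primeCompl.map (algebraMap C (R ⊗[A] C)))
      (Localization.AtPrime q') :=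
    IsLocalization.isLocalization_of_submonoid_le (R ⊗[A] C) (Localization.AtPrime q')
      (Algebra.algebraMapSubmonoid C p.primeCompl) q'.primeCompl hle
  have hlh : IsLocalHom (algebraMap R (Localization.AtPrime q')) := by
    constructor
    intro r hr
    obtain ⟨a, s, rfl⟩ := IsLocalization.exists_mk'_eq p.primeCompl r
    rw [IsLocalization.AtPrime.isUnit_mk'_iff R p]
    by_contra hap
    have hap' : a ∈ p := by simpa using hap
    have h1 : algebraMap A C a ∈ q' := by
      have : a ∈ q'.under A := hq' ▸ hap'
      exact this
    have h2 : IsUnit (algebraMap A (Localization.AtPrime q') a) := by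
      have h3 : algebraMap R (Localization.AtPrime q') (IsLocalization.mk' R a s) *
          algebraMap A (Localization.AtPrime q') s = algebraMap A (Localization.AtPrime q') a := by
        rw [IsScalarTower.algebraMap_apply A R (Localization.AtPrime q') s,
          IsScalarTower.algebraMap_apply A R (Localization.AtPrime q') a, ← map_mul,
          IsLocalization.mk'_spec]
      rw [← h3]
      exact hr.mul (hunits s)
    rw [IsScalarTower.algebraMap_apply A C (Localization.AtPrime q'),
      IsLocalization.AtPrime.isUnit_to_map_iff (Localization.AtPrime q') q'] at h2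
    exact h2 h1
  exact h (R ⊗[A] C) (Localization.AtPrime q') (q'.primeCompl.map (algebraMap C (R ⊗[A] C)))

end Groth.Agent.Lib.helper9.UnramCore
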