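import Mathlib
import Groth.Agent.Lib.Helper9.UnramEULoc

/-!
# Geometrically unibranch local domains satisfy `EULoc` (helper9)
-/

set_option autoImplicit false

namespace Groth.Agent.Lib.helper9.UnramCore

universe u

open Algebra TensorProduct

theorem add_pow_of_natCast_eq_zero {E : Type*} [CommRing E] (p : ℕ)
    (hp : p = 1 ∨ (p.Prime ∧ (p : E) = 0)) (x y : E) (n : ℕ) :
    (x + y) ^ p ^ n = x ^ p ^ n + y ^ p ^ n := by
  rcases hp with rfl | ⟨hp, h0⟩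
  · simp
  · obtain ⟨r, hr⟩ := exists_add_pow_prime_pow_eq hp x y n
    rw [hr, h0]; ring

/-- Every element of `C ⊗ R̄` has a `p`-power congruent to an element of `C` modulo `m̄`. -/
theorem exists_pow_sub_mem {R C Rb : Type u} [CommRing R] [CommRing C] [CommRing Rb]
    [Algebra R C] [Algebra R Rb] (m : Ideal Rb) (p : ℕ)
    (hp : p = 1 ∨ (p.Prime ∧ (p : Rb) ∈ m))
    (hres : ∀ x : Rb, ∃ (n : ℕ) (r : R), x ^ p ^ n - algebraMap R Rb r ∈ m)
    (J : Ideal (C ⊗[R] Rb)) (hJ : ∀ μ ∈ m, (1 : C) ⊗ₜ[R] μ ∈ J) (z : C ⊗[R] Rb) :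
    ∃ (n : ℕ) (c : C), z ^ p ^ n - c ⊗ₜ[R] (1 : Rb) ∈ J := by
  have hpE : p = 1 ∨ (p.Prime ∧ ((p : ℕ) : (C ⊗[R] Rb) ⧸ J) = 0) := by
    rcases hp with h | ⟨h1, h2⟩
    · exact Or.inl h
    · refine Or.inr ⟨h1, ?_⟩
      have h3 : ((p : ℕ) : C ⊗[R] Rb) = (1 : C) ⊗ₜ[R] ((p : ℕ) : Rb) := by
        have := map_natCast (Algebra.TensorProduct.includeRight : Rb →ₐ[R] C ⊗[R] Rb) p
        rw [← this]
        rfl
      have h4 : ((p : ℕ) : C ⊗[R] Rb) ∈ J := h3 ▸ hJ _ h2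
      rw [← map_natCast (Ideal.Quotient.mk J)]
      exact Ideal.Quotient.eq_zero_iff_mem.2 h4
  suffices h : ∃ (n : ℕ) (c : C), (Ideal.Quotient.mk J z) ^ p ^ n =
      Ideal.Quotient.mk J (c ⊗ₜ[R] (1 : Rb)) by
    obtain ⟨n, c, h⟩ := h
    refine ⟨n, c, ?_⟩
    rw [← Ideal.Quotient.eq, map_pow]
    exact h
  induction z using TensorProduct.induction_on with
  | zero => exact ⟨0, 0, by simp⟩
  | tmul c rb =>
    obtain ⟨n, r, hr⟩ := hres rb
    refine ⟨n, c ^ p ^ n * algebraMap R C r, ?_⟩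
    rw [← map_pow, Ideal.Quotient.eq, Algebra.TensorProduct.tmul_pow]
    have h1 : (c ^ p ^ n * algebraMap R C r) ⊗ₜ[R] (1 : Rb) =
        (c ^ p ^ n) ⊗ₜ[R] (algebraMap R Rb r) := by
      rw [mul_comm, ← Algebra.smul_def, TensorProduct.smul_tmul, Algebra.smul_def, mul_one]
    rw [h1, ← TensorProduct.tmul_sub]
    have h2 : (c ^ p ^ n) ⊗ₜ[R] (rb ^ p ^ n - algebraMap R Rb r) =
        ((c ^ p ^ n) ⊗ₜ[R] (1 : Rb)) * ((1 : C) ⊗ₜ[R] (rb ^ p ^ n - algebraMap R Rb r)) := by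
      rw [Algebra.TensorProduct.tmul_mul_tmul, mul_one, one_mul]
    rw [h2]
    exact J.mul_mem_left _ (hJ _ hr)
  | add z₁ z₂ h₁ h₂ =>
    obtain ⟨n₁, c₁, e₁⟩ := h₁
    obtain ⟨n₂, c₂, e₂⟩ := h₂
    refine ⟨n₁ + n₂, c₁ ^ p ^ n₂ + c₂ ^ p ^ n₁, ?_⟩
    rw [map_add, add_pow_of_natCast_eq_zero p hpE]
    have f₁ : (Ideal.Quotient.mk J z₁) ^ p ^ (n₁ + n₂) =
        Ideal.Quotient.mk J ((c₁ ^ p ^ n₂) ⊗ₜ[R] (1 : Rb)) := by
      rw [pow_add, pow_mul, e₁, ← map_pow, Algebra.TensorProduct.tmul_pow, one_pow]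
    have f₂ : (Ideal.Quotient.mk J z₂) ^ p ^ (n₁ + n₂) =
        Ideal.Quotient.mk J ((c₂ ^ p ^ n₁) ⊗ₜ[R] (1 : Rb)) := by
      rw [add_comm n₁ n₂, pow_add, pow_mul, e₂, ← map_pow, Algebra.TensorProduct.tmul_pow,
        one_pow]
    rw [f₁, f₂, ← map_add, ← TensorProduct.add_tmul]


/-- Two primes of `C ⊗ R̄` containing `m̄` with the same contraction to `C` are equal. -/
theorem prime_eq_of_comap_eq {R C Rb : Type u} [CommRing R] [CommRing C] [CommRing Rb]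
    [Algebra R C] [Algebra R Rb] (m : Ideal Rb) (p : ℕ)
    (hp : p = 1 ∨ (p.Prime ∧ (p : Rb) ∈ m))
    (hres : ∀ x : Rb, ∃ (n : ℕ) (r : R), x ^ p ^ n - algebraMap R Rb r ∈ m)
    (Q₁ Q₂ : Ideal (C ⊗[R] Rb)) [Q₁.IsPrime] [Q₂.IsPrime]
    (h₁ : ∀ μ ∈ m, (1 : C) ⊗ₜ[R] μ ∈ Q₁) (h₂ : ∀ μ ∈ m, (1 : C) ⊗ₜ[R] μ ∈ Q₂)
    (hc : ∀ c : C, c ⊗ₜ[R] (1 : Rb) ∈ Q₁ ↔ c ⊗ₜ[R] (1 : Rb) ∈ Q₂) : Q₁ = Q₂ := by
  have key : ∀ (Q Q' : Ideal (C ⊗[R] Rb)) [Q.IsPrime] [Q'.IsPrime],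
      (∀ μ ∈ m, (1 : C) ⊗ₜ[R] μ ∈ Q) → (∀ μ ∈ m, (1 : C) ⊗ₜ[R] μ ∈ Q') →
      (∀ c : C, c ⊗ₜ[R] (1 : Rb) ∈ Q → c ⊗ₜ[R] (1 : Rb) ∈ Q') → Q ≤ Q' := by
    intro Q Q' _ _ hQ hQ' hcc z hz
    obtain ⟨n, c, hn⟩ := exists_pow_sub_mem (C := C) m p hp hres (Q ⊓ Q')
      (fun μ hμ => ⟨hQ μ hμ, hQ' μ hμ⟩) z
    have h3 : c ⊗ₜ[R] (1 : Rb) ∈ Q := by
      have := Q.sub_mem (Q.pow_mem_of_mem hz (p ^ n) (by
        rcases hp with rfl | ⟨hp, -⟩
        · simp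
        · exact pow_pos hp.pos n)) hn.1
      simpa using this
    have h4 : c ⊗ₜ[R] (1 : Rb) ∈ Q' := hcc c h3
    have h5 : z ^ p ^ n ∈ Q' := by
      have := Q'.add_mem hn.2 h4
      simpa using this
    exact Ideal.IsPrime.mem_of_pow_mem inferInstance _ h5
  exact le_antisymm (key Q₁ Q₂ h₁ h₂ fun c => (hc c).1) (key Q₂ Q₁ h₂ h₁ fun c => (hc c).2)


attribute [local instance] Algebra.TensorProduct.rightAlgebra in
/-- A local ring `R` with a normal local integral extension `R̄` whose residue field is purely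
inseparable over that of `R` satisfies `EULoc`. -/
theorem euLoc_of_unibranch (R Rb : Type u) [CommRing R] [IsLocalRing R] [CommRing Rb]
    [IsDomain Rb] [IsIntegrallyClosed Rb] [IsLocalRing Rb] [Algebra R Rb]
    [Algebra.IsIntegral R Rb] (hinj : Function.Injective (algebraMap R Rb)) (p : ℕ)
    (hp : p = 1 ∨ (p.Prime ∧ (p : Rb) ∈ IsLocalRing.maximalIdeal Rb))
    (hres : ∀ x : Rb, ∃ (n : ℕ) (r : R),
      x ^ p ^ n - algebraMap R Rb r ∈ IsLocalRing.maximalIdeal Rb) : EULoc R := by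
  intro C G _ _ _ _ _ _ _ M _ _ _
  let e : Rb ⊗[R] C ≃ₐ[Rb] C ⊗[R] Rb :=
    { __ := Algebra.TensorProduct.comm R Rb C, commutes' := fun _ => rfl }
  have het : Algebra.Etale Rb (C ⊗[R] Rb) := .of_equiv e
  let Gb := Localization (Algebra.algebraMapSubmonoid (C ⊗[R] Rb) M)
  let algGGb : Algebra G Gb := localizationAlgebra M (C ⊗[R] Rb)
  have hflat : Module.Flat R C := inferInstance
  have hinjC : Function.Injective (algebraMap C (C ⊗[R] Rb)) :=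
    Algebra.TensorProduct.includeLeft_injective (S := C) hinj
  have hιinj : Function.Injective (algebraMap G Gb) :=
    localizationAlgebra_injective G Gb hinjC
  have hιint : (algebraMap G Gb).IsIntegral := by
    rw [localizationAlgebraMap_def]
    exact isIntegral_localization
  have hnt : Nontrivial Gb := hιinj.nontrivial
  -- compatibility
  have hcompat : ∀ c : C, algebraMap G Gb (algebraMap C G c) =
      algebraMap (C ⊗[R] Rb) Gb (c ⊗ₜ[R] (1 : Rb)) := by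
    intro c
    rw [localizationAlgebraMap_def, IsLocalization.map_eq]
    rfl
  have hmax : ∀ N : Ideal Gb, N.IsMaximal → N.comap (algebraMap G Gb) =
      IsLocalRing.maximalIdeal G := by
    intro N hN
    have : (N.comap (algebraMap G Gb)).IsMaximal :=
      Ideal.isMaximal_comap_of_isIntegral_of_isMaximal' _ hιint N
    exact IsLocalRing.eq_maximalIdeal this
  have huniq : ∀ N₁ N₂ : Ideal Gb, N₁.IsMaximal → N₂.IsMaximal → N₁ = N₂ := by
    intro N₁ N₂ hN₁ hN₂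
    have hcN : ∀ (N : Ideal Gb), N.IsMaximal → ∀ c : C,
        c ⊗ₜ[R] (1 : Rb) ∈ N.comap (algebraMap (C ⊗[R] Rb) Gb) ↔
          algebraMap C G c ∈ IsLocalRing.maximalIdeal G := by
      intro N hN c
      rw [Ideal.mem_comap, ← hcompat, ← hmax N hN, Ideal.mem_comap]
    have hmN : ∀ (N : Ideal Gb), N.IsMaximal → ∀ μ ∈ IsLocalRing.maximalIdeal Rb,
        (1 : C) ⊗ₜ[R] μ ∈ N.comap (algebraMap (C ⊗[R] Rb) Gb) := by
      intro N hN μ hμ
      let Q := N.comap (algebraMap (C ⊗[R] Rb) Gb)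
      have hQ : Q.IsPrime := Ideal.comap_isPrime _ _
      let P := Q.comap (algebraMap Rb (C ⊗[R] Rb))
      have hP : P.IsPrime := Ideal.comap_isPrime _ _
      have hPR : P.comap (algebraMap R Rb) = IsLocalRing.maximalIdeal R := by
        ext r
        rw [Ideal.mem_comap, Ideal.mem_comap]
        have h1 : algebraMap Rb (C ⊗[R] Rb) (algebraMap R Rb r) =
            (algebraMap R C r) ⊗ₜ[R] (1 : Rb) := by
          show (1 : C) ⊗ₜ[R] (algebraMap R Rb r) = _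
          rw [Algebra.algebraMap_eq_smul_one, Algebra.algebraMap_eq_smul_one,
            TensorProduct.smul_tmul]
        rw [h1, hcN N hN, ← IsScalarTower.algebraMap_apply R C G,
          ← IsLocalRing.maximalIdeal_comap (algebraMap R G), Ideal.mem_comap]
      have hPmax : P.IsMaximal :=
        Ideal.isMaximal_of_isIntegral_of_isMaximal_comap (R := R) P (by rw [hPR]; infer_instance)
      have hPeq : P = IsLocalRing.maximalIdeal Rb := IsLocalRing.eq_maximalIdeal hPmax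
      have : μ ∈ P := hPeq ▸ hμ
      exact this
    have hQ₁ : (N₁.comap (algebraMap (C ⊗[R] Rb) Gb)).IsPrime := Ideal.comap_isPrime _ _
    have hQ₂ : (N₂.comap (algebraMap (C ⊗[R] Rb) Gb)).IsPrime := Ideal.comap_isPrime _ _
    have hQeq := prime_eq_of_comap_eq (IsLocalRing.maximalIdeal Rb) p hp hres
      (N₁.comap (algebraMap (C ⊗[R] Rb) Gb)) (N₂.comap (algebraMap (C ⊗[R] Rb) Gb))
      (hmN N₁ hN₁) (hmN N₂ hN₂) (fun c => (hcN N₁ hN₁ c).trans (hcN N₂ hN₂ c).symm)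
    calc N₁ = Ideal.map (algebraMap (C ⊗[R] Rb) Gb) (N₁.comap (algebraMap (C ⊗[R] Rb) Gb)) :=
          (IsLocalization.map_under (Algebra.algebraMapSubmonoid (C ⊗[R] Rb) M) Gb N₁).symm
      _ = Ideal.map (algebraMap (C ⊗[R] Rb) Gb) (N₂.comap (algebraMap (C ⊗[R] Rb) Gb)) := by
          rw [hQeq]
      _ = N₂ := IsLocalization.map_under (Algebra.algebraMapSubmonoid (C ⊗[R] Rb) M) Gb N₂
  have hloc : IsLocalRing Gb := by
    obtain ⟨N, hN⟩ := Ideal.exists_maximal Gb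
    exact IsLocalRing.of_unique_max_ideal ⟨N, hN, fun N' hN' => huniq N' N hN' hN⟩
  have hdom : IsDomain Gb :=
    (Groth.Agent.Lib.Helper24.EtaleNormal.isDomain_and_isIntegrallyClosed_of_localization_etale
      Rb (C ⊗[R] Rb) Gb (Algebra.algebraMapSubmonoid (C ⊗[R] Rb) M)).1
  exact hιinj.isDomain (algebraMap G Gb)

end Groth.Agent.Lib.helper9.UnramCore
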