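import Mathlib
import Groth.Prelude.Def_CAlg2
import Groth.Agent.Lib.Helper9.UnramGU

/-!
# Non-reduced geometrically unibranch local rings: local rings of étale algebras have a
unique minimal prime (helper9)
-/

set_option autoImplicit false

namespace Groth.Agent.Lib.helper9.UnramCore

universe u

open Algebra TensorProduct

/-- Local rings of étale `R`-algebras dominating `R` have prime nilradical. -/
def EULocRed (R : Type u) [CommRing R] : Prop :=
  ∀ (C G : Type u) [CommRing C] [Algebra R C] [Algebra.Etale R C] [CommRing G] [Algebra C G]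
    [Algebra R G] [IsScalarTower R C G] (M : Submonoid C) [IsLocalization M G] [IsLocalRing G]
    [IsLocalHom (algebraMap R G)], (nilradical G).IsPrime

/-- If `R → R̄` has nil kernel and `C` is flat over `R`, then `C → C ⊗ R̄` has nil kernel. -/
theorem isNilpotent_of_tmul_one_eq_zero {R C Rb : Type u} [CommRing R] [CommRing C] [CommRing Rb]
    [Algebra R C] [Algebra R Rb] [Module.Flat R C]
    (hker : ∀ r : R, algebraMap R Rb r = 0 → IsNilpotent r) (c : C)
    (hc : c ⊗ₜ[R] (1 : Rb) = 0) : IsNilpotent c := by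
  let K : Ideal R := RingHom.ker (algebraMap R Rb)
  have hex : Function.Exact (Submodule.subtype K) (Algebra.linearMap R Rb) := by
    intro r
    constructor
    · intro hr
      exact ⟨⟨r, hr⟩, rfl⟩
    · rintro ⟨k, rfl⟩
      exact k.2
  have hex' := Module.Flat.lTensor_exact C hex
  have h0 : (Algebra.linearMap R Rb).lTensor C (c ⊗ₜ[R] (1 : R)) = 0 := by
    rw [LinearMap.lTensor_tmul]
    simpa using hc
  obtain ⟨t, ht⟩ := (hex' _).1 h0
  have key : ∀ t : C ⊗[R] K, TensorProduct.rid R C ((Submodule.subtype K).lTensor C t) ∈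
      nilradical C := by
    intro t
    induction t using TensorProduct.induction_on with
    | zero => simp
    | tmul c' k =>
      rw [LinearMap.lTensor_tmul, TensorProduct.rid_tmul, Algebra.smul_def]
      have hk : IsNilpotent (k : R) := hker _ k.2
      exact (nilradical C).mul_mem_right _ (mem_nilradical.2 (hk.map (algebraMap R C)))
    | add t₁ t₂ h₁ h₂ =>
      rw [map_add, map_add]
      exact (nilradical C).add_mem h₁ h₂
  have := key t
  rw [ht, TensorProduct.rid_tmul, one_smul] at this
  exact mem_nilradical.1 this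

attribute [local instance] Algebra.TensorProduct.rightAlgebra in
/-- A local ring `R` with a normal local integral extension `R̄` (kernel nil) whose residue field
is purely inseparable over that of `R` satisfies `EULocRed`. -/
theorem euLocRed_of_unibranch (R Rb : Type u) [CommRing R] [IsLocalRing R] [CommRing Rb]
    [IsDomain Rb] [IsIntegrallyClosed Rb] [IsLocalRing Rb] [Algebra R Rb]
    [Algebra.IsIntegral R Rb] (hker : ∀ r : R, algebraMap R Rb r = 0 → IsNilpotent r) (p : ℕ)
    (hp : p = 1 ∨ (p.Prime ∧ (p : Rb) ∈ IsLocalRing.maximalIdeal Rb))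
    (hres : ∀ x : Rb, ∃ (n : ℕ) (r : R),
      x ^ p ^ n - algebraMap R Rb r ∈ IsLocalRing.maximalIdeal Rb) : EULocRed R := by
  intro C G _ _ _ _ _ _ _ M _ _ _
  let e : Rb ⊗[R] C ≃ₐ[Rb] C ⊗[R] Rb :=
    { __ := Algebra.TensorProduct.comm R Rb C, commutes' := fun _ => rfl }
  have het : Algebra.Etale Rb (C ⊗[R] Rb) := .of_equiv e
  let Gb := Localization (Algebra.algebraMapSubmonoid (C ⊗[R] Rb) M)
  let algGGb : Algebra G Gb := localizationAlgebra M (C ⊗[R] Rb)
  have hflat : Module.Flat R C := inferInstance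
  have hnilC : ∀ c : C, algebraMap C (C ⊗[R] Rb) c = 0 → IsNilpotent c := fun c hc =>
    isNilpotent_of_tmul_one_eq_zero hker c hc
  have hιint : (algebraMap G Gb).IsIntegral := by
    rw [localizationAlgebraMap_def]
    exact isIntegral_localization
  -- compatibility
  have hcompat : ∀ c : C, algebraMap G Gb (algebraMap C G c) =
      algebraMap (C ⊗[R] Rb) Gb (c ⊗ₜ[R] (1 : Rb)) := by
    intro c
    rw [localizationAlgebraMap_def, IsLocalization.map_eq]
    rfl
  have hιnil : ∀ g : G, algebraMap G Gb g = 0 → IsNilpotent g := by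
    intro g hg
    obtain ⟨c, m, rfl⟩ := IsLocalization.exists_mk'_eq M g
    have h1 : algebraMap G Gb (algebraMap C G c) = 0 := by
      have h2 : algebraMap C G c = IsLocalization.mk' G c m * algebraMap C G m := by
        rw [IsLocalization.mk'_spec]
      rw [h2, map_mul, hg, zero_mul]
    rw [hcompat] at h1
    obtain ⟨⟨_, ⟨m', hm', rfl⟩⟩, hm''⟩ :=
      (IsLocalization.map_eq_zero_iff (Algebra.algebraMapSubmonoid (C ⊗[R] Rb) M) Gb _).1 h1
    have h3 : algebraMap C (C ⊗[R] Rb) (m' * c) = 0 := by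
      rw [map_mul]
      exact hm''
    have h4 : IsNilpotent (m' * c) := hnilC _ h3
    have h5 : IsNilpotent (algebraMap C G (m' * c)) := h4.map _
    have h6 : IsLocalization.mk' G c m =
        algebraMap C G (m' * c) * IsLocalization.mk' G 1 (⟨m', hm'⟩ * m) := by
      rw [← IsLocalization.mk'_eq_mul_mk'_one, IsLocalization.mk'_eq_iff_eq]
      congr 1
      simp only [Submonoid.coe_mul]
      ring
    rw [h6]
    exact (Commute.all _ _).isNilpotent_mul_right h5
  have hnt : Nontrivial Gb := by
    by_contra hnt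
    rw [not_nontrivial_iff_subsingleton] at hnt
    have h1 : IsNilpotent (1 : G) := hιnil 1 (Subsingleton.elim _ _)
    exact not_isNilpotent_one h1
  have hmax : ∀ N : Ideal Gb, N.IsMaximal → N.comap (algebraMap G Gb) =
      IsLocalRing.maximalIdeal G := by
    intro N hN
    have : (N.comap (algebraMap G Gb)).IsMaximal :=
      Ideal.isMaximal_comap_of_isIntegral_of_isMaximal' _ hιint N
    exact IsLocalRing.eq_maximalIdeal this
  have huniq : ∀ N₁ N₂ : Ideal Gb, N₁.IsMaximal → N₂.IsMaximal → N₁ = N₂ := by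
    intro N₁ N₂ hN₁ hN₂
    have hcN : ∀ (N : Ideal Gb), N.IsMaximal → ∀ c : C,
        c ⊗ₜ[R] (1 : Rb) ∈ N.comap (algebraMap (C ⊗[R] Rb) Gb) ↔
          algebraMap C G c ∈ IsLocalRing.maximalIdeal G := by
      intro N hN c
      rw [Ideal.mem_comap, ← hcompat, ← hmax N hN, Ideal.mem_comap]
    have hmN : ∀ (N : Ideal Gb), N.IsMaximal → ∀ μ ∈ IsLocalRing.maximalIdeal Rb,
        (1 : C) ⊗ₜ[R] μ ∈ N.comap (algebraMap (C ⊗[R] Rb) Gb) := by
      intro N hN μ hμ
      let Q := N.comap (algebraMap (C ⊗[R] Rb) Gb)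
      have hQ : Q.IsPrime := Ideal.comap_isPrime _ _
      let P := Q.comap (algebraMap Rb (C ⊗[R] Rb))
      have hP : P.IsPrime := Ideal.comap_isPrime _ _
      have hPR : P.comap (algebraMap R Rb) = IsLocalRing.maximalIdeal R := by
        ext r
        rw [Ideal.mem_comap, Ideal.mem_comap]
        have h1 : algebraMap Rb (C ⊗[R] Rb) (algebraMap R Rb r) =
            (algebraMap R C r) ⊗ₜ[R] (1 : Rb) := by
          show (1 : C) ⊗ₜ[R] (algebraMap R Rb r) = _
          rw [Algebra.algebraMap_eq_smul_one, Algebra.algebraMap_eq_smul_one,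
            TensorProduct.smul_tmul]
        rw [h1, hcN N hN, ← IsScalarTower.algebraMap_apply R C G,
          ← IsLocalRing.maximalIdeal_comap (algebraMap R G), Ideal.mem_comap]
      have hPmax : P.IsMaximal :=
        Ideal.isMaximal_of_isIntegral_of_isMaximal_comap (R := R) P (by rw [hPR]; infer_instance)
      have hPeq : P = IsLocalRing.maximalIdeal Rb := IsLocalRing.eq_maximalIdeal hPmax
      have : μ ∈ P := hPeq ▸ hμ
      exact this
    have hQ₁ : (N₁.comap (algebraMap (C ⊗[R] Rb) Gb)).IsPrime := Ideal.comap_isPrime _ _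
    have hQ₂ : (N₂.comap (algebraMap (C ⊗[R] Rb) Gb)).IsPrime := Ideal.comap_isPrime _ _
    have hQeq := prime_eq_of_comap_eq (IsLocalRing.maximalIdeal Rb) p hp hres
      (N₁.comap (algebraMap (C ⊗[R] Rb) Gb)) (N₂.comap (algebraMap (C ⊗[R] Rb) Gb))
      (hmN N₁ hN₁) (hmN N₂ hN₂) (fun c => (hcN N₁ hN₁ c).trans (hcN N₂ hN₂ c).symm)
    calc N₁ = Ideal.map (algebraMap (C ⊗[R] Rb) Gb) (N₁.comap (algebraMap (C ⊗[R] Rb) Gb)) :=
          (IsLocalization.map_under (Algebra.algebraMapSubmonoid (C ⊗[R] Rb) M) Gb N₁).symm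
      _ = Ideal.map (algebraMap (C ⊗[R] Rb) Gb) (N₂.comap (algebraMap (C ⊗[R] Rb) Gb)) := by
          rw [hQeq]
      _ = N₂ := IsLocalization.map_under (Algebra.algebraMapSubmonoid (C ⊗[R] Rb) M) Gb N₂
  have hloc : IsLocalRing Gb := by
    obtain ⟨N, hN⟩ := Ideal.exists_maximal Gb
    exact IsLocalRing.of_unique_max_ideal ⟨N, hN, fun N' hN' => huniq N' N hN' hN⟩
  have hdom : IsDomain Gb :=
    (Groth.Agent.Lib.Helper24.EtaleNormal.isDomain_and_isIntegrallyClosed_of_localization_etale
      Rb (C ⊗[R] Rb) Gb (Algebra.algebraMapSubmonoid (C ⊗[R] Rb) M)).1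
  have hkp : (RingHom.ker (algebraMap G Gb)).IsPrime := RingHom.ker_isPrime _
  have hkeq : RingHom.ker (algebraMap G Gb) = nilradical G := by
    apply le_antisymm
    · intro g hg
      exact mem_nilradical.2 (hιnil g hg)
    · rw [nilradical_eq_sInf]
      exact sInf_le hkp
  exact hkeq ▸ hkp

theorem euLocRed_of_isGeomUnibranch (R : Type u) [CommRing R] [IsLocalRing R]
    (h : CAlg2.IsGeomUnibranch R) : EULocRed R := by
  obtain ⟨⟨hdom, hloc⟩, hres⟩ := h
  have hdomRb : IsDomain (CAlg2.normRed R) := inferInstance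
  have hic : IsIntegrallyClosed (CAlg2.normRed R) :=
    integralClosure.isIntegrallyClosedOfFiniteExtension (FractionRing (CAlg2.red R))
  let φ : R →+* CAlg2.normRed R :=
    (algebraMap (CAlg2.red R) (CAlg2.normRed R)).comp (Ideal.Quotient.mk (nilradical R))
  let algRRb : Algebra R (CAlg2.normRed R) := φ.toAlgebra
  have st : IsScalarTower R (CAlg2.red R) (CAlg2.normRed R) := .of_algebraMap_eq' rfl
  have hint1 : Algebra.IsIntegral R (CAlg2.red R) :=
    Algebra.isIntegral_of_surjective Ideal.Quotient.mk_surjective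
  have hint : Algebra.IsIntegral R (CAlg2.normRed R) :=
    Algebra.IsIntegral.trans (R := R) (A := CAlg2.red R) (B := CAlg2.normRed R)
  have hker : ∀ r : R, algebraMap R (CAlg2.normRed R) r = 0 → IsNilpotent r := by
    intro r hr
    have h1 : Function.Injective (algebraMap (CAlg2.red R) (CAlg2.normRed R)) := by
      intro a b hab
      have := congrArg Subtype.val hab
      exact IsFractionRing.injective (CAlg2.red R) (FractionRing (CAlg2.red R)) this
    have h2 : Ideal.Quotient.mk (nilradical R) r = 0 := by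
      apply h1
      rw [map_zero]
      exact hr
    exact mem_nilradical.1 (Ideal.Quotient.eq_zero_iff_mem.1 h2)
  have hres' := hres (IsLocalRing.maximalIdeal (CAlg2.normRed R))
  obtain ⟨q, hq⟩ : ∃ q, q = ringExpChar (CAlg2.normRed R ⧸ IsLocalRing.maximalIdeal (CAlg2.normRed R)) :=
    ⟨_, rfl⟩
  rw [← hq] at hres'
  have hexp : ExpChar (CAlg2.normRed R ⧸ IsLocalRing.maximalIdeal (CAlg2.normRed R)) q :=
    hq ▸ inferInstance
  refine euLocRed_of_unibranch R (CAlg2.normRed R) hker q ?_ ?_
  · cases hexp with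
    | zero => exact Or.inl rfl
    | prime hprime =>
      refine Or.inr ⟨hprime, ?_⟩
      rw [← Ideal.Quotient.eq_zero_iff_mem, map_natCast]
      exact CharP.cast_eq_zero _ q
  · intro x
    obtain ⟨n, r, hr⟩ := hres' (Ideal.Quotient.mk _ x)
    refine ⟨n, r, ?_⟩
    rw [← Ideal.Quotient.eq, map_pow]
    exact hr.symm

end Groth.Agent.Lib.helper9.UnramCore
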