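import Mathlib
import Groth.Prelude.Def_CAlg2
import Groth.Agent.Lib.Helper9.UnramGURed
import Groth.Agent.Lib.Helper24.Henselization

/-!
# Unibranch local rings: local rings of étale algebras with trivial residue extension have a
unique minimal prime (helper9)
-/

set_option autoImplicit false

namespace Groth.Agent.Lib.helper9.UnramCore

universe u

open Algebra TensorProduct

/-- Local rings of étale `R`-algebras dominating `R` with trivial residue field extension have
prime nilradical. -/
def EULocRedEl (R : Type u) [CommRing R] : Prop :=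
  ∀ (C G : Type u) [CommRing C] [Algebra R C] [Algebra.Etale R C] [CommRing G] [Algebra C G]
    [Algebra R G] [IsScalarTower R C G] (M : Submonoid C) [IsLocalization M G] [IsLocalRing G]
    [IsLocalHom (algebraMap R G)],
    (∀ g : G, ∃ r : R, g - algebraMap R G r ∈ IsLocalRing.maximalIdeal G) →
    (nilradical G).IsPrime

attribute [local instance] Algebra.TensorProduct.rightAlgebra in
/-- A local ring `R` with a normal local integral extension `R̄` (kernel nil) satisfies
`EULocRedEl`. -/
theorem euLocRedEl_of_unibranch (R Rb : Type u) [CommRing R] [IsLocalRing R] [CommRing Rb]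
    [IsDomain Rb] [IsIntegrallyClosed Rb] [IsLocalRing Rb] [Algebra R Rb]
    [Algebra.IsIntegral R Rb] (hker : ∀ r : R, algebraMap R Rb r = 0 → IsNilpotent r) :
    EULocRedEl R := by
  intro C G _ _ _ _ _ _ _ M _ _ _ hresG
  let e : Rb ⊗[R] C ≃ₐ[Rb] C ⊗[R] Rb :=
    { __ := Algebra.TensorProduct.comm R Rb C, commutes' := fun _ => rfl }
  have het : Algebra.Etale Rb (C ⊗[R] Rb) := .of_equiv e
  let Gb := Localization (Algebra.algebraMapSubmonoid (C ⊗[R] Rb) M)
  let algGGb : Algebra G Gb := localizationAlgebra M (C ⊗[R] Rb)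
  have hflat : Module.Flat R C := inferInstance
  have hnilC : ∀ c : C, algebraMap C (C ⊗[R] Rb) c = 0 → IsNilpotent c := fun c hc =>
    isNilpotent_of_tmul_one_eq_zero hker c hc
  have hιint : (algebraMap G Gb).IsIntegral := by
    rw [localizationAlgebraMap_def]
    exact isIntegral_localization
  -- compatibility
  have hcompat : ∀ c : C, algebraMap G Gb (algebraMap C G c) =
      algebraMap (C ⊗[R] Rb) Gb (c ⊗ₜ[R] (1 : Rb)) := by
    intro c
    rw [localizationAlgebraMap_def, IsLocalization.map_eq]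
    rfl
  have hιnil : ∀ g : G, algebraMap G Gb g = 0 → IsNilpotent g := by
    intro g hg
    obtain ⟨c, m, rfl⟩ := IsLocalization.exists_mk'_eq M g
    have h1 : algebraMap G Gb (algebraMap C G c) = 0 := by
      have h2 : algebraMap C G c = IsLocalization.mk' G c m * algebraMap C G m := by
        rw [IsLocalization.mk'_spec]
      rw [h2, map_mul, hg, zero_mul]
    rw [hcompat] at h1
    obtain ⟨⟨_, ⟨m', hm', rfl⟩⟩, hm''⟩ :=
      (IsLocalization.map_eq_zero_iff (Algebra.algebraMapSubmonoid (C ⊗[R] Rb) M) Gb _).1 h1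
    have h3 : algebraMap C (C ⊗[R] Rb) (m' * c) = 0 := by
      rw [map_mul]
      exact hm''
    have h4 : IsNilpotent (m' * c) := hnilC _ h3
    have h5 : IsNilpotent (algebraMap C G (m' * c)) := h4.map _
    have h6 : IsLocalization.mk' G c m =
        algebraMap C G (m' * c) * IsLocalization.mk' G 1 (⟨m', hm'⟩ * m) := by
      rw [← IsLocalization.mk'_eq_mul_mk'_one, IsLocalization.mk'_eq_iff_eq]
      congr 1
      simp only [Submonoid.coe_mul]
      ring
    rw [h6]
    exact (Commute.all _ _).isNilpotent_mul_right h5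
  have hnt : Nontrivial Gb := by
    by_contra hnt
    rw [not_nontrivial_iff_subsingleton] at hnt
    have h1 : IsNilpotent (1 : G) := hιnil 1 (Subsingleton.elim _ _)
    exact not_isNilpotent_one h1
  have hmax : ∀ N : Ideal Gb, N.IsMaximal → N.comap (algebraMap G Gb) =
      IsLocalRing.maximalIdeal G := by
    intro N hN
    have : (N.comap (algebraMap G Gb)).IsMaximal :=
      Ideal.isMaximal_comap_of_isIntegral_of_isMaximal' _ hιint N
    exact IsLocalRing.eq_maximalIdeal this
  have hcN : ∀ (N : Ideal Gb), N.IsMaximal → ∀ c : C,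
      c ⊗ₜ[R] (1 : Rb) ∈ N.comap (algebraMap (C ⊗[R] Rb) Gb) ↔
        algebraMap C G c ∈ IsLocalRing.maximalIdeal G := by
    intro N hN c
    rw [Ideal.mem_comap, ← hcompat, ← hmax N hN, Ideal.mem_comap]
  have hP : ∀ (N : Ideal Gb), N.IsMaximal → ∀ μ : Rb,
      (1 : C) ⊗ₜ[R] μ ∈ N.comap (algebraMap (C ⊗[R] Rb) Gb) ↔
        μ ∈ IsLocalRing.maximalIdeal Rb := by
    intro N hN μ
    let Q := N.comap (algebraMap (C ⊗[R] Rb) Gb)
    have hQ : Q.IsPrime := Ideal.comap_isPrime _ _
    let P := Q.comap (algebraMap Rb (C ⊗[R] Rb))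
    have hPp : P.IsPrime := Ideal.comap_isPrime _ _
    have hPR : P.comap (algebraMap R Rb) = IsLocalRing.maximalIdeal R := by
      ext r
      rw [Ideal.mem_comap, Ideal.mem_comap]
      have h1 : algebraMap Rb (C ⊗[R] Rb) (algebraMap R Rb r) =
          (algebraMap R C r) ⊗ₜ[R] (1 : Rb) := by
        show (1 : C) ⊗ₜ[R] (algebraMap R Rb r) = _
        rw [Algebra.algebraMap_eq_smul_one, Algebra.algebraMap_eq_smul_one,
          TensorProduct.smul_tmul]
      rw [h1, hcN N hN, ← IsScalarTower.algebraMap_apply R C G,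
        ← IsLocalRing.maximalIdeal_comap (algebraMap R G), Ideal.mem_comap]
    have hPmax : P.IsMaximal :=
      Ideal.isMaximal_of_isIntegral_of_isMaximal_comap (R := R) P (by rw [hPR]; infer_instance)
    have hPeq : P = IsLocalRing.maximalIdeal Rb := IsLocalRing.eq_maximalIdeal hPmax
    rw [← hPeq]
    rfl
  -- every element of `C ⊗ R̄` is congruent to some `1 ⊗ b` modulo every contracted maximal ideal
  have hcong : ∀ z : C ⊗[R] Rb, ∃ b : Rb, ∀ N : Ideal Gb, N.IsMaximal →
      z - (1 : C) ⊗ₜ[R] b ∈ N.comap (algebraMap (C ⊗[R] Rb) Gb) := by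
    intro z
    induction z using TensorProduct.induction_on with
    | zero =>
      refine ⟨0, fun N _ => ?_⟩
      rw [TensorProduct.tmul_zero, sub_zero]
      exact Ideal.zero_mem _
    | tmul c b' =>
      obtain ⟨r, hr⟩ := hresG (algebraMap C G c)
      refine ⟨r • b', fun N hN => ?_⟩
      have h1 : c ⊗ₜ[R] b' - (1 : C) ⊗ₜ[R] (r • b') =
          ((c - algebraMap R C r) ⊗ₜ[R] (1 : Rb)) * ((1 : C) ⊗ₜ[R] b') := by
        rw [Algebra.TensorProduct.tmul_mul_tmul, mul_one, one_mul, TensorProduct.sub_tmul,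
          ← TensorProduct.smul_tmul, Algebra.algebraMap_eq_smul_one]
      rw [h1]
      apply Ideal.mul_mem_right
      rw [hcN N hN, map_sub, ← IsScalarTower.algebraMap_apply R C G]
      exact hr
    | add z₁ z₂ h₁ h₂ =>
      obtain ⟨b₁, hb₁⟩ := h₁
      obtain ⟨b₂, hb₂⟩ := h₂
      refine ⟨b₁ + b₂, fun N hN => ?_⟩
      have h1 : z₁ + z₂ - (1 : C) ⊗ₜ[R] (b₁ + b₂) =
          (z₁ - (1 : C) ⊗ₜ[R] b₁) + (z₂ - (1 : C) ⊗ₜ[R] b₂) := by
        rw [TensorProduct.tmul_add]
        ring
      rw [h1]
      exact Ideal.add_mem _ (hb₁ N hN) (hb₂ N hN)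
  have hle : ∀ N₁ N₂ : Ideal Gb, N₁.IsMaximal → N₂.IsMaximal →
      N₁.comap (algebraMap (C ⊗[R] Rb) Gb) ≤ N₂.comap (algebraMap (C ⊗[R] Rb) Gb) := by
    intro N₁ N₂ hN₁ hN₂ z hz
    obtain ⟨b, hb⟩ := hcong z
    have h1 : (1 : C) ⊗ₜ[R] b ∈ N₁.comap (algebraMap (C ⊗[R] Rb) Gb) := by
      have h2 := Ideal.sub_mem _ hz (hb N₁ hN₁)
      rwa [sub_sub_cancel] at h2
    have h3 : (1 : C) ⊗ₜ[R] b ∈ N₂.comap (algebraMap (C ⊗[R] Rb) Gb) :=
      (hP N₂ hN₂ b).2 ((hP N₁ hN₁ b).1 h1)
    have h4 := Ideal.add_mem _ (hb N₂ hN₂) h3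
    rwa [sub_add_cancel] at h4
  have huniq : ∀ N₁ N₂ : Ideal Gb, N₁.IsMaximal → N₂.IsMaximal → N₁ = N₂ := by
    intro N₁ N₂ hN₁ hN₂
    have hQeq : N₁.comap (algebraMap (C ⊗[R] Rb) Gb) = N₂.comap (algebraMap (C ⊗[R] Rb) Gb) :=
      le_antisymm (hle N₁ N₂ hN₁ hN₂) (hle N₂ N₁ hN₂ hN₁)
    calc N₁ = Ideal.map (algebraMap (C ⊗[R] Rb) Gb) (N₁.comap (algebraMap (C ⊗[R] Rb) Gb)) :=
          (IsLocalization.map_under (Algebra.algebraMapSubmonoid (C ⊗[R] Rb) M) Gb N₁).symm
      _ = Ideal.map (algebraMap (C ⊗[R] Rb) Gb) (N₂.comap (algebraMap (C ⊗[R] Rb) Gb)) := by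
          rw [hQeq]
      _ = N₂ := IsLocalization.map_under (Algebra.algebraMapSubmonoid (C ⊗[R] Rb) M) Gb N₂
  have hloc : IsLocalRing Gb := by
    obtain ⟨N, hN⟩ := Ideal.exists_maximal Gb
    exact IsLocalRing.of_unique_max_ideal ⟨N, hN, fun N' hN' => huniq N' N hN' hN⟩
  have hdom : IsDomain Gb :=
    (Groth.Agent.Lib.Helper24.EtaleNormal.isDomain_and_isIntegrallyClosed_of_localization_etale
      Rb (C ⊗[R] Rb) Gb (Algebra.algebraMapSubmonoid (C ⊗[R] Rb) M)).1
  have hkp : (RingHom.ker (algebraMap G Gb)).IsPrime := RingHom.ker_isPrime _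
  have hkeq : RingHom.ker (algebraMap G Gb) = nilradical G := by
    apply le_antisymm
    · intro g hg
      exact mem_nilradical.2 (hιnil g hg)
    · rw [nilradical_eq_sInf]
      exact sInf_le hkp
  exact hkeq ▸ hkp

theorem euLocRedEl_of_isUnibranch (R : Type u) [CommRing R] [IsLocalRing R]
    (h : CAlg2.IsUnibranch R) : EULocRedEl R := by
  obtain ⟨hdom, hloc⟩ := h
  have hdomRb : IsDomain (CAlg2.normRed R) := inferInstance
  have hic : IsIntegrallyClosed (CAlg2.normRed R) :=
    integralClosure.isIntegrallyClosedOfFiniteExtension (FractionRing (CAlg2.red R))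
  let φ : R →+* CAlg2.normRed R :=
    (algebraMap (CAlg2.red R) (CAlg2.normRed R)).comp (Ideal.Quotient.mk (nilradical R))
  let algRRb : Algebra R (CAlg2.normRed R) := φ.toAlgebra
  have st : IsScalarTower R (CAlg2.red R) (CAlg2.normRed R) := .of_algebraMap_eq' rfl
  have hint1 : Algebra.IsIntegral R (CAlg2.red R) :=
    Algebra.isIntegral_of_surjective Ideal.Quotient.mk_surjective
  have hint : Algebra.IsIntegral R (CAlg2.normRed R) :=
    Algebra.IsIntegral.trans (R := R) (A := CAlg2.red R) (B := CAlg2.normRed R)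
  have hker : ∀ r : R, algebraMap R (CAlg2.normRed R) r = 0 → IsNilpotent r := by
    intro r hr
    have h1 : Function.Injective (algebraMap (CAlg2.red R) (CAlg2.normRed R)) := by
      intro a b hab
      have := congrArg Subtype.val hab
      exact IsFractionRing.injective (CAlg2.red R) (FractionRing (CAlg2.red R)) this
    have h2 : Ideal.Quotient.mk (nilradical R) r = 0 := by
      apply h1
      rw [map_zero]
      exact hr
    exact mem_nilradical.1 (Ideal.Quotient.eq_zero_iff_mem.1 h2)
  exact euLocRedEl_of_unibranch R (CAlg2.normRed R) hker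

attribute [local instance] Algebra.TensorProduct.rightAlgebra in
/-- Transfer of `EULocRedEl` from `R = A_p` to localizations `G = C_{q'}` of étale `A`-algebras
at primes over `p` with trivial residue field extension. -/
theorem transfer_local_el {A : Type u} [CommRing A] (p : Ideal A) [p.IsPrime] (R : Type u)
    [CommRing R] [Algebra A R] [IsLocalization.AtPrime R p] (h : EULocRedEl R)
    (C : Type u) [CommRing C] [Algebra A C] [Algebra.Etale A C] (q' : Ideal C) [q'.IsPrime]
    (hq' : q'.under A = p) (G : Type u) [CommRing G] [Algebra C G]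
    [IsLocalization.AtPrime G q'] [IsLocalRing G]
    (hres : ∀ g : G, ∃ (a s : A), s ∉ p ∧
      algebraMap C G (algebraMap A C s) * g - algebraMap C G (algebraMap A C a) ∈
        IsLocalRing.maximalIdeal G) :
    (nilradical G).IsPrime := by
  let algAG : Algebra A G := ((algebraMap C G).comp (algebraMap A C)).toAlgebra
  have st0 : IsScalarTower A C G := .of_algebraMap_eq' rfl
  have hmem : ∀ y : A, y ∉ p → algebraMap A C y ∉ q' := by
    intro y hy hy'
    apply hy
    rw [← hq']
    exact hy'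
  have hunits : ∀ y : p.primeCompl, IsUnit (algebraMap A G y) := by
    intro y
    rw [IsScalarTower.algebraMap_apply A C G]
    exact IsLocalization.map_units G (⟨algebraMap A C y, hmem y y.2⟩ : q'.primeCompl)
  let ρ : R →+* G := IsLocalization.lift (M := p.primeCompl) hunits
  let algRG : Algebra R G := ρ.toAlgebra
  have st1 : IsScalarTower A R G := .of_algebraMap_eq' (IsLocalization.lift_comp hunits).symm
  let μ : R ⊗[A] C →ₐ[A] G :=
    Algebra.TensorProduct.productMap (IsScalarTower.toAlgHom A R G) (IsScalarTower.toAlgHom A C G)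
  let algCRG : Algebra (R ⊗[A] C) G := μ.toRingHom.toAlgebra
  have st2 : IsScalarTower R (R ⊗[A] C) G := by
    refine .of_algebraMap_eq fun r => ?_
    show ρ r = μ (r ⊗ₜ 1)
    simp [μ, RingHom.algebraMap_toAlgebra]
  have st3 : IsScalarTower C (R ⊗[A] C) G := by
    refine .of_algebraMap_eq fun c => ?_
    show algebraMap C G c = μ (1 ⊗ₜ c)
    simp [μ]
  have hloc1 : IsLocalization (Algebra.algebraMapSubmonoid C p.primeCompl) (R ⊗[A] C) :=
    IsLocalization.tensorRight R p.primeCompl
  have hle : Algebra.algebraMapSubmonoid C p.primeCompl ≤ q'.primeCompl := by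
    rintro _ ⟨y, hy, rfl⟩
    exact hmem y hy
  have hloc2 : IsLocalization (q'.primeCompl.map (algebraMap C (R ⊗[A] C))) G :=
    IsLocalization.isLocalization_of_submonoid_le (R ⊗[A] C) G
      (Algebra.algebraMapSubmonoid C p.primeCompl) q'.primeCompl hle
  have hlh : IsLocalHom (algebraMap R G) := by
    constructor
    intro r hr
    obtain ⟨a, s, rfl⟩ := IsLocalization.exists_mk'_eq p.primeCompl r
    rw [IsLocalization.AtPrime.isUnit_mk'_iff R p]
    by_contra hap
    have hap' : a ∈ p := by simpa using hap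
    have h1 : algebraMap A C a ∈ q' := by
      have : a ∈ q'.under A := hq' ▸ hap'
      exact this
    have h2 : IsUnit (algebraMap A G a) := by
      have h3 : algebraMap R G (IsLocalization.mk' R a s) * algebraMap A G s =
          algebraMap A G a := by
        rw [IsScalarTower.algebraMap_apply A R G s, IsScalarTower.algebraMap_apply A R G a,
          ← map_mul, IsLocalization.mk'_spec]
      rw [← h3]
      exact hr.mul (hunits s)
    rw [IsScalarTower.algebraMap_apply A C G,
      IsLocalization.AtPrime.isUnit_to_map_iff G q'] at h2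
    exact h2 h1
  refine h (R ⊗[A] C) G (q'.primeCompl.map (algebraMap C (R ⊗[A] C))) ?_
  intro g
  obtain ⟨a, s, hs, hg⟩ := hres g
  refine ⟨IsLocalization.mk' R a (⟨s, hs⟩ : p.primeCompl), ?_⟩
  have hsu : IsUnit (algebraMap A G s) := hunits ⟨s, hs⟩
  have h1 : algebraMap A G s * (g - algebraMap R G (IsLocalization.mk' R a (⟨s, hs⟩ : p.primeCompl))) =
      algebraMap A G s * g - algebraMap A G a := by
    rw [mul_sub]
    congr 1
    rw [IsScalarTower.algebraMap_apply A R G s, IsScalarTower.algebraMap_apply A R G a,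
      ← map_mul, mul_comm, IsLocalization.mk'_spec]
  have h2 : algebraMap A G s * (g - algebraMap R G (IsLocalization.mk' R a (⟨s, hs⟩ : p.primeCompl))) ∈
      IsLocalRing.maximalIdeal G := by
    rw [h1]
    exact hg
  rcases (IsLocalRing.maximalIdeal.isMaximal G).isPrime.mem_or_mem h2 with h3 | h3
  · exact absurd hsu ((IsLocalRing.mem_maximalIdeal _).1 h3)
  · exact h3

section Stage

open Groth.Agent.Lib.helper24.Henselization Groth.Agent.Lib.helper24.Henselization.Idx

variable {A : Type u} [CommRing A] [IsLocalRing A]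

theorem nilradical_isPrime_Hens_of_stage (h : ∀ i : Idx A, (nilradical i.G).IsPrime) :
    (nilradical (Hens A)).IsPrime := by
  rw [Ideal.isPrime_iff]
  constructor
  · intro htop
    have h1 : (1 : Hens A) ∈ nilradical (Hens A) := htop ▸ Submodule.mem_top
    exact not_isNilpotent_one (mem_nilradical.1 h1)
  · intro z w hzw
    obtain ⟨i, x, rfl⟩ := exists_ofH z
    obtain ⟨j, y, rfl⟩ := exists_ofH w
    obtain ⟨m, him, hjm⟩ := exists_ge_ge i j
    obtain ⟨n, hn⟩ := mem_nilradical.1 hzw
    rw [← ofH_tr i m him, ← ofH_tr j m hjm, ← map_mul, ← map_pow] at hn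
    obtain ⟨k, hmk, hk⟩ := ofH_eq_zero hn
    rw [map_pow, map_mul] at hk
    have hp := h k
    have h1 : tr m k hmk (tr i m him x) * tr m k hmk (tr j m hjm y) ∈ nilradical k.G :=
      mem_nilradical.2 ⟨n, hk⟩
    rcases hp.mem_or_mem h1 with h2 | h2
    · left
      rw [← ofH_tr i m him, ← ofH_tr m k hmk]
      exact mem_nilradical.2 ((mem_nilradical.1 h2).map (ofH k))
    · right
      rw [← ofH_tr j m hjm, ← ofH_tr m k hmk]
      exact mem_nilradical.2 ((mem_nilradical.1 h2).map (ofH k))

end Stage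

end Groth.Agent.Lib.helper9.UnramCore
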