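import Mathlib

/-!
# A surjectivity criterion for maps of residue fields (helper9)
-/

set_option autoImplicit false

namespace Groth.Agent.Lib.helper9.UnramCore

/-- `κ(p) → κ(q)` is surjective when every element of `E` is, modulo `q`, a fraction of elements
coming from `A`. -/
theorem residueField_map_surjective_of_fractions {A E : Type*} [CommRing A] [CommRing E]
    (ψ : A →+* E) (p : Ideal A) [p.IsPrime] (q : Ideal E) [q.IsPrime] (hpq : p = q.comap ψ)
    (h : ∀ e : E, ∃ r t : A, t ∉ p ∧ ψ t * e - ψ r ∈ q) :
    Function.Surjective (Ideal.ResidueField.map p q ψ hpq) := by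
  intro k
  obtain ⟨l, rfl⟩ := IsLocalRing.residue_surjective k
  obtain ⟨e, s, rfl⟩ := IsLocalization.exists_mk'_eq q.primeCompl l
  obtain ⟨r, t, ht, hrt⟩ := h e
  obtain ⟨r', t', ht', hrt'⟩ := h s
  have hz : ∀ x : E, algebraMap E q.ResidueField x = 0 ↔ x ∈ q := fun x =>
    Ideal.algebraMap_residueField_eq_zero
  have htq : algebraMap E q.ResidueField (ψ t) ≠ 0 := by
    rw [Ne, hz]
    intro h1
    exact ht (hpq ▸ (Ideal.mem_comap.2 h1))
  have htq' : algebraMap E q.ResidueField (ψ t') ≠ 0 := by
    rw [Ne, hz]
    intro h1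
    exact ht' (hpq ▸ (Ideal.mem_comap.2 h1))
  have hsq : algebraMap E q.ResidueField (s : E) ≠ 0 := by
    rw [Ne, hz]
    exact s.2
  have h1 : algebraMap E q.ResidueField (ψ t) * algebraMap E q.ResidueField e =
      algebraMap E q.ResidueField (ψ r) := by
    rw [← sub_eq_zero, ← map_mul, ← map_sub, hz]
    exact hrt
  have h2 : algebraMap E q.ResidueField (ψ t') * algebraMap E q.ResidueField (s : E) =
      algebraMap E q.ResidueField (ψ r') := by
    rw [← sub_eq_zero, ← map_mul, ← map_sub, hz]
    exact hrt'
  have h3 : IsLocalRing.residue (Localization.AtPrime q) (IsLocalization.mk' _ e s) *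
      algebraMap E q.ResidueField (s : E) = algebraMap E q.ResidueField e := by
    rw [IsScalarTower.algebraMap_apply E (Localization.AtPrime q) q.ResidueField,
      IsScalarTower.algebraMap_apply E (Localization.AtPrime q) q.ResidueField,
      IsLocalRing.ResidueField.algebraMap_eq, ← map_mul, IsLocalization.mk'_spec]
  have hr'q : algebraMap E q.ResidueField (ψ r') ≠ 0 := by
    rw [← h2]
    exact mul_ne_zero htq' hsq
  refine ⟨algebraMap A p.ResidueField r / algebraMap A p.ResidueField t /
    (algebraMap A p.ResidueField r' / algebraMap A p.ResidueField t'), ?_⟩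
  rw [map_div₀, map_div₀, map_div₀, Ideal.ResidueField.map_algebraMap,
    Ideal.ResidueField.map_algebraMap, Ideal.ResidueField.map_algebraMap,
    Ideal.ResidueField.map_algebraMap]
  have h4 : IsLocalRing.residue (Localization.AtPrime q) (IsLocalization.mk' _ e s) =
      algebraMap E q.ResidueField e / algebraMap E q.ResidueField (s : E) := by
    rw [eq_div_iff hsq]
    exact h3
  rw [h4, ← h1, ← h2]
  field_simp

end Groth.Agent.Lib.helper9.UnramCore
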