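import Mathlib
import Groth.Prelude.Def_CAlg2
import Groth.Agent.Lib.Helper9.UnramGU

/-!
# The prelude's geometrically unibranch local domains satisfy `EULoc` (helper9)
-/

set_option autoImplicit false

namespace Groth.Agent.Lib.helper9.UnramCore

universe u

open Algebra TensorProduct

theorem euLoc_of_isGeomUnibranch (R : Type u) [CommRing R] [IsLocalRing R] [IsDomain R]
    (h : CAlg2.IsGeomUnibranch R) : EULoc R := by
  obtain ⟨⟨hdom, hloc⟩, hres⟩ := h
  have hdomRb : IsDomain (CAlg2.normRed R) := inferInstance
  have hic : IsIntegrallyClosed (CAlg2.normRed R) :=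
    integralClosure.isIntegrallyClosedOfFiniteExtension (FractionRing (CAlg2.red R))
  let φ : R →+* CAlg2.normRed R :=
    (algebraMap (CAlg2.red R) (CAlg2.normRed R)).comp (Ideal.Quotient.mk (nilradical R))
  let algRRb : Algebra R (CAlg2.normRed R) := φ.toAlgebra
  have st : IsScalarTower R (CAlg2.red R) (CAlg2.normRed R) := .of_algebraMap_eq' rfl
  have hint1 : Algebra.IsIntegral R (CAlg2.red R) :=
    Algebra.isIntegral_of_surjective Ideal.Quotient.mk_surjective
  have hint : Algebra.IsIntegral R (CAlg2.normRed R) :=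
    Algebra.IsIntegral.trans (R := R) (A := CAlg2.red R) (B := CAlg2.normRed R)
  have hinj : Function.Injective (algebraMap R (CAlg2.normRed R)) := by
    have h1 : Function.Injective (algebraMap (CAlg2.red R) (CAlg2.normRed R)) := by
      intro a b hab
      have := congrArg Subtype.val hab
      exact IsFractionRing.injective (CAlg2.red R) (FractionRing (CAlg2.red R)) this
    have h2 : Function.Injective (Ideal.Quotient.mk (nilradical R)) := by
      rw [RingHom.injective_iff_ker_eq_bot, Ideal.mk_ker, nilradical_eq_zero]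
      rfl
    show Function.Injective φ
    simp only [φ, RingHom.coe_comp]
    exact h1.comp h2
  have hres' := hres (IsLocalRing.maximalIdeal (CAlg2.normRed R))
  obtain ⟨q, hq⟩ : ∃ q, q = ringExpChar (CAlg2.normRed R ⧸ IsLocalRing.maximalIdeal (CAlg2.normRed R)) :=
    ⟨_, rfl⟩
  rw [← hq] at hres'
  have hexp : ExpChar (CAlg2.normRed R ⧸ IsLocalRing.maximalIdeal (CAlg2.normRed R)) q :=
    hq ▸ inferInstance
  refine euLoc_of_unibranch R (CAlg2.normRed R) hinj q ?_ ?_
  · cases hexp with
    | zero => exact Or.inl rfl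
    | prime hprime =>
      refine Or.inr ⟨hprime, ?_⟩
      rw [← Ideal.Quotient.eq_zero_iff_mem, map_natCast]
      exact CharP.cast_eq_zero _ q
  · intro x
    obtain ⟨n, r, hr⟩ := hres' (Ideal.Quotient.mk _ x)
    refine ⟨n, r, ?_⟩
    rw [← Ideal.Quotient.eq, map_pow]
    exact hr.symm

end Groth.Agent.Lib.helper9.UnramCore
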