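import Mathlib
import Groth.Agent.Lib.Helper9.UnramCore

/-!
# Étale at a prime from unramified + `EUAt` + a generic generization (helper9)

Version of `exists_etale_away` that does not need the base to be a domain and concludes
`Algebra.IsEtaleAt`.
-/

set_option autoImplicit false

namespace Groth.Agent.Lib.helper9.UnramCore

universe u

open Algebra TensorProduct

theorem isEtaleAt_of_euAt {A B : Type u} [CommRing A] [CommRing B] [Algebra A B]
    [Algebra.FiniteType A B] (q : Ideal B) [q.IsPrime] [Algebra.IsUnramifiedAt A q]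
    (hEU : EUAt A (q.under A))
    (hgen : ∃ q'' : Ideal B, q''.IsPrime ∧ q'' ≤ q ∧
      ∀ a ∈ q''.under A, ∃ s : A, s ∉ q.under A ∧ s * a = 0) :
    Algebra.IsEtaleAt A q := by
  obtain ⟨f, hf, P, φ, hφ, hker⟩ := exists_stdEtale_surjection_ker q hEU hgen
  have hdisj : Disjoint ((Submonoid.powers f : Submonoid B) : Set B) (q : Set B) :=
    (Ideal.disjoint_powers_iff_notMem_of_isPrime _).mpr hf
  have hqf : (q.map (algebraMap B (Localization.Away f))).IsPrime :=
    IsLocalization.isPrime_of_isPrime_disjoint (.powers f) _ _ ‹_› hdisj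
  have hqfc : (q.map (algebraMap B (Localization.Away f))).comap
      (algebraMap B (Localization.Away f)) = q :=
    IsLocalization.under_map_of_isPrime_disjoint (.powers f) _ ‹_› hdisj
  have hmemqf : ∀ s : B, algebraMap B (Localization.Away f) s ∈
      q.map (algebraMap B (Localization.Away f)) ↔ s ∈ q := by
    intro s
    rw [← Ideal.mem_comap, hqfc]
  let q' : Ideal P.Ring := (q.map (algebraMap B (Localization.Away f))).comap φ.toRingHom
  have hq' : q'.IsPrime := Ideal.comap_isPrime _ _
  have hmemq' : ∀ t : P.Ring, t ∈ q' ↔ φ t ∈ q.map (algebraMap B (Localization.Away f)) :=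
    fun t => Iff.rfl
  have hfunit : IsUnit (algebraMap B (Localization.AtPrime q) f) :=
    IsLocalization.map_units (Localization.AtPrime q) (⟨f, hf⟩ : q.primeCompl)
  let l : Localization.Away f →+* Localization.AtPrime q := IsLocalization.Away.lift f hfunit
  have hl : ∀ b : B, l (algebraMap B (Localization.Away f) b) =
      algebraMap B (Localization.AtPrime q) b := fun b => IsLocalization.Away.lift_eq f hfunit b
  let χ : P.Ring →+* Localization.AtPrime q := l.comp φ.toRingHom
  letI algCBq : Algebra P.Ring (Localization.AtPrime q) := χ.toAlgebra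
  have hχ : ∀ c : P.Ring, algebraMap P.Ring (Localization.AtPrime q) c = l (φ c) := fun _ => rfl
  have st : IsScalarTower A P.Ring (Localization.AtPrime q) := by
    refine .of_algebraMap_eq fun a => ?_
    rw [hχ, AlgHom.commutes, IsScalarTower.algebraMap_apply A B (Localization.Away f), hl,
      ← IsScalarTower.algebraMap_apply]
  -- preimages under `φ` of elements of `B`
  have hpre : ∀ b : B, ∃ c : P.Ring, φ c = algebraMap B (Localization.Away f) b :=
    fun b => hφ _
  have hloc : IsLocalization q'.primeCompl (Localization.AtPrime q) := by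
    refine ⟨?_, ?_, ?_⟩
    · rintro ⟨t, ht⟩
      obtain ⟨n, b, hb⟩ := IsLocalization.Away.surj f (φ t)
      have hbq : b ∉ q := by
        intro hbq
        have h1 := (hmemqf b).2 hbq
        rw [← hb] at h1
        rcases hqf.mem_or_mem h1 with h2 | h2
        · exact ht h2
        · exact hqf.ne_top (Ideal.eq_top_of_isUnit_mem _ h2
            ((IsLocalization.Away.algebraMap_isUnit f).pow n))
      have h3 : l (φ t) * (algebraMap B (Localization.AtPrime q) f) ^ n =
          algebraMap B (Localization.AtPrime q) b := by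
        rw [← hl, ← hl, ← map_pow, ← map_mul, hb]
      have h4 : IsUnit (algebraMap B (Localization.AtPrime q) b) :=
        IsLocalization.map_units (Localization.AtPrime q) (⟨b, hbq⟩ : q.primeCompl)
      rw [← h3] at h4
      exact isUnit_of_mul_isUnit_left h4
    · intro z
      obtain ⟨⟨b, s⟩, hz⟩ := IsLocalization.surj q.primeCompl z
      obtain ⟨c, hc⟩ := hpre b
      obtain ⟨t, ht⟩ := hpre s
      have htq' : t ∉ q' := by
        rw [hmemq', ht, hmemqf]
        exact s.2
      refine ⟨⟨c, ⟨t, htq'⟩⟩, ?_⟩
      simp only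
      rw [hχ, hχ, hc, ht, hl, hl]
      exact hz
    · intro c₁ c₂ h12
      have h0 : l (φ (c₁ - c₂)) = 0 := by
        rw [map_sub, map_sub, sub_eq_zero]
        exact h12
      obtain ⟨n, b, hb⟩ := IsLocalization.Away.surj f (φ (c₁ - c₂))
      have h1 : algebraMap B (Localization.AtPrime q) b = 0 := by
        rw [← hl, ← hb, map_mul, h0, zero_mul]
      obtain ⟨s, hs⟩ := (IsLocalization.map_eq_zero_iff q.primeCompl _ b).1 h1
      obtain ⟨t₀, ht₀⟩ := hpre s
      have ht₀q' : t₀ ∉ q' := by
        rw [hmemq', ht₀, hmemqf]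
        exact s.2
      have h2 : φ (t₀ * (c₁ - c₂)) = 0 := by
        have hunit : IsUnit (algebraMap B (Localization.Away f) f ^ n) :=
          (IsLocalization.Away.algebraMap_isUnit f).pow n
        have h3 : φ (t₀ * (c₁ - c₂)) * algebraMap B (Localization.Away f) f ^ n = 0 := by
          rw [map_mul, mul_assoc, hb, ht₀, ← map_mul, hs, map_zero]
        exact (hunit.mul_left_eq_zero).1 h3
      obtain ⟨t₁, ht₁, h4⟩ := hker _ h2
      refine ⟨⟨t₁ * t₀, ?_⟩, ?_⟩
      · exact fun h => (hq'.mem_or_mem h).elim ht₁ ht₀q'
      · simp only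
        rw [← sub_eq_zero, ← mul_sub, mul_assoc]
        exact h4
  have h1 : Algebra.FormallyEtale P.Ring (Localization.AtPrime q) :=
    Algebra.FormallyEtale.of_isLocalization q'.primeCompl
  exact Algebra.FormallyEtale.comp A P.Ring (Localization.AtPrime q)

end Groth.Agent.Lib.helper9.UnramCore
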