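import Mathlib
import Groth.Agent.Lib.Helper9.UnramCore

/-!
# Unramified + dominant over a unibranch base is étale: scheme-level wrapper (helper9)
-/

set_option autoImplicit false

namespace Groth.Agent.Lib.helper9.UnramGeom

open AlgebraicGeometry CategoryTheory Groth.Agent.Lib.helper9.UnramCore

universe u

/-- Étale on an affine chart gives étale on that open. -/
theorem etale_ι_comp_of_appLE {X Y : Scheme.{u}} (f : X ⟶ Y) {V : Y.Opens}
    (hV : IsAffineOpen V) {W : X.Opens} (hW : IsAffineOpen W) (e : W ≤ f ⁻¹ᵁ V)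
    (h : (f.appLE V W e).hom.Etale) : Etale (W.ι ≫ f) := by
  have h1 : Etale (f.resLE V W e) := by
    have : IsAffine W := hW
    have : IsAffine V := hV
    have : (RingHom.toMorphismProperty RingHom.Etale).RespectsIso :=
      RingHom.toMorphismProperty_respectsIso_iff.mp
        (HasRingHomProperty.isLocal_ringHomProperty @Etale).respectsIso
    rw [HasRingHomProperty.iff_of_isAffine (P := @Etale)]
    exact (MorphismProperty.arrow_mk_iso_iff (RingHom.toMorphismProperty RingHom.Etale)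
      (arrowResLEAppIso f V W e)).mpr h
  rw [← Scheme.Hom.resLE_comp_ι f e]
  infer_instance

/-- Formally unramified on an open gives formally unramified on affine charts inside. -/
theorem formallyUnramified_appLE_of_ι_comp {X Y : Scheme.{u}} (f : X ⟶ Y) {V : Y.Opens}
    (hV : IsAffineOpen V) {W : X.Opens} (hW : IsAffineOpen W) (e : W ≤ f ⁻¹ᵁ V)
    {U : X.Opens} (hWU : W ≤ U) (h : FormallyUnramified (U.ι ≫ f)) :
    (f.appLE V W e).hom.FormallyUnramified := by
  have h0 : FormallyUnramified (W.ι ≫ f) := by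
    have h2 : W.ι ≫ f = X.homOfLE hWU ≫ (U.ι ≫ f) := by simp
    rw [h2]
    have h3 : FormallyUnramified (X.homOfLE hWU) := inferInstance
    exact MorphismProperty.comp_mem @FormallyUnramified _ _ h3 h
  have h1 : FormallyUnramified (f.resLE V W e) := by
    rw [← Scheme.Hom.resLE_comp_ι f e] at h0
    exact FormallyUnramified.of_comp (f.resLE V W e) V.ι
  have : IsAffine W := hW
  have : IsAffine V := hV
  have : (RingHom.toMorphismProperty RingHom.FormallyUnramified).RespectsIso :=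
    RingHom.toMorphismProperty_respectsIso_iff.mp
      (HasRingHomProperty.isLocal_ringHomProperty @FormallyUnramified).respectsIso
  rw [HasRingHomProperty.iff_of_isAffine (P := @FormallyUnramified)] at h1
  exact (MorphismProperty.arrow_mk_iso_iff
    (RingHom.toMorphismProperty RingHom.FormallyUnramified)
    (arrowResLEAppIso f V W e)).mp h1


/-- Membership in a basic open in terms of the prime ideal of a point. -/
theorem mem_basicOpen_iff_notMem_primeIdealOf {X : Scheme.{u}} {W : X.Opens}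
    (hW : IsAffineOpen W) (x : X) (hx : x ∈ W) (g : Γ(X, W)) :
    x ∈ X.basicOpen g ↔ g ∉ (hW.primeIdealOf ⟨x, hx⟩).asIdeal := by
  have h1 : hW.fromSpec (hW.primeIdealOf ⟨x, hx⟩) = x := hW.fromSpec_primeIdealOf ⟨x, hx⟩
  have h2 : hW.fromSpec ⁻¹ᵁ X.basicOpen g = PrimeSpectrum.basicOpen g :=
    hW.fromSpec_preimage_basicOpen g
  conv_lhs => rw [← h1]
  change hW.primeIdealOf ⟨x, hx⟩ ∈ hW.fromSpec ⁻¹ᵁ X.basicOpen g ↔ _
  rw [h2]
  rfl

/-- Étale-ness of a basic open chart from the algebra statement. -/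
theorem etale_basicOpen_of_algebra {X Y : Scheme.{u}} (f : X ⟶ Y) {V : Y.Opens}
    (hV : IsAffineOpen V) {W : X.Opens} (hW : IsAffineOpen W) (e : W ≤ f ⁻¹ᵁ V) (g : Γ(X, W))
    (h : letI := (f.appLE V W e).hom.toAlgebra
      Algebra.Etale Γ(Y, V) (Localization.Away g)) :
    Etale ((X.basicOpen g).ι ≫ f) := by
  have e' : X.basicOpen g ≤ f ⁻¹ᵁ V := (X.basicOpen_le g).trans e
  refine etale_ι_comp_of_appLE f hV (hW.basicOpen g) e' ?_
  have hcomp : f.appLE V (X.basicOpen g) e' =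
      f.appLE V W e ≫ X.presheaf.map (homOfLE (X.basicOpen_le g)).op := by
    rw [Scheme.Hom.appLE_map]
  rw [hcomp]
  let algAB : Algebra Γ(Y, V) Γ(X, W) := (f.appLE V W e).hom.toAlgebra
  let algABg : Algebra Γ(Y, V) Γ(X, X.basicOpen g) :=
    ((X.presheaf.map (homOfLE (X.basicOpen_le g)).op).hom.comp (f.appLE V W e).hom).toAlgebra
  have : IsScalarTower Γ(Y, V) Γ(X, W) Γ(X, X.basicOpen g) := .of_algebraMap_eq' rfl
  have : IsLocalization.Away g Γ(X, X.basicOpen g) := hW.isLocalization_basicOpen g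
  let eq1 : Localization.Away g ≃ₐ[Γ(X, W)] Γ(X, X.basicOpen g) :=
    IsLocalization.algEquiv (.powers g) _ _
  have : Algebra.Etale Γ(Y, V) (Localization.Away g) := h
  have h4 : Algebra.Etale Γ(Y, V) Γ(X, X.basicOpen g) := .of_equiv (eq1.restrictScalars Γ(Y, V))
  exact h4

/-- **EGA IV 18.10.1 (local form).** Let `Y` be integral, `f : X ⟶ Y` locally of finite type,
unramified near `x`, such that some generization of `x` lies over the generic point of `Y` and
such that the local rings of étale `Γ(Y, V)`-algebras over the prime of `f x` are domains for some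
affine open `V ∋ f x`. Then `f` is étale near `x`. -/
theorem exists_etale_nhd {X Y : Scheme.{u}} (f : X ⟶ Y) [IsIntegral Y] [LocallyOfFiniteType f]
    (x : X) (hsp : ∃ x' : X, x' ⤳ x ∧ f x' = genericPoint Y)
    (hunr : ∃ U : X.Opens, x ∈ U ∧ FormallyUnramified (U.ι ≫ f))
    (hEU : ∃ (V : Y.Opens) (hV : IsAffineOpen V) (hfx : f x ∈ V),
      EUAt Γ(Y, V) (hV.primeIdealOf ⟨f x, hfx⟩).asIdeal) :
    ∃ U : X.Opens, x ∈ U ∧ Etale (U.ι ≫ f) := by
  obtain ⟨V, hV, hfx, hEU⟩ := hEU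
  obtain ⟨U, hxU, hU⟩ := hunr
  obtain ⟨x', hx'x, hx'⟩ := hsp
  obtain ⟨W, hW, hxW, hWle⟩ := TopologicalSpace.Opens.isBasis_iff_nbhd.mp X.isBasis_affineOpens
    (show x ∈ f ⁻¹ᵁ V ⊓ U from ⟨hfx, hxU⟩)
  have e : W ≤ f ⁻¹ᵁ V := hWle.trans inf_le_left
  have hWU : W ≤ U := hWle.trans inf_le_right
  let algAB : Algebra Γ(Y, V) Γ(X, W) := (f.appLE V W e).hom.toAlgebra
  have hft : Algebra.FiniteType Γ(Y, V) Γ(X, W) :=
    HasRingHomProperty.appLE (P := @LocallyOfFiniteType) f inferInstance ⟨V, hV⟩ ⟨W, hW⟩ e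
  have hunr : Algebra.FormallyUnramified Γ(Y, V) Γ(X, W) :=
    formallyUnramified_appLE_of_ι_comp f hV hW e hWU hU
  have hne : Nonempty V := ⟨⟨f x, hfx⟩⟩
  have hdom : IsDomain Γ(Y, V) := inferInstance
  have hx'W : x' ∈ W := hx'x.mem_open W.isOpen hxW
  -- primes
  have hqA : (hW.primeIdealOf ⟨x, hxW⟩).asIdeal.under Γ(Y, V) =
      (hV.primeIdealOf ⟨f x, hfx⟩).asIdeal :=
    congrArg PrimeSpectrum.asIdeal (IsAffineOpen.comap_primeIdealOf_appLE V hV W hW e hxW)
  have hq''A : (hW.primeIdealOf ⟨x', hx'W⟩).asIdeal.under Γ(Y, V) = ⊥ := by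
    have h1 : (hW.primeIdealOf ⟨x', hx'W⟩).asIdeal.under Γ(Y, V) =
        (hV.primeIdealOf ⟨f x', e hx'W⟩).asIdeal :=
      congrArg PrimeSpectrum.asIdeal (IsAffineOpen.comap_primeIdealOf_appLE V hV W hW e hx'W)
    rw [h1]
    have h2 : hV.primeIdealOf ⟨f x', e hx'W⟩ = hV.primeIdealOf ⟨genericPoint Y,
        ((genericPoint_spec Y).mem_open_set_iff V.isOpen).mpr (by simpa using hne)⟩ := by
      congr 1
      exact Subtype.ext hx'
    rw [h2, hV.primeIdealOf_genericPoint, genericPoint_eq_bot_of_affine]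
    rfl
  have hle : (hW.primeIdealOf ⟨x', hx'W⟩).asIdeal ≤ (hW.primeIdealOf ⟨x, hxW⟩).asIdeal := by
    have h1 : (⟨x', hx'W⟩ : W) ⤳ ⟨x, hxW⟩ := (subtype_specializes_iff _ _).2 hx'x
    have h2 : hW.primeIdealOf ⟨x', hx'W⟩ ⤳ hW.primeIdealOf ⟨x, hxW⟩ :=
      h1.map hW.isoSpec.hom.continuous
    exact (PrimeSpectrum.le_iff_specializes _ _).2 h2
  have hunrAt : Algebra.IsUnramifiedAt Γ(Y, V) (hW.primeIdealOf ⟨x, hxW⟩).asIdeal := inferInstance
  obtain ⟨g, hgq, hg⟩ := exists_etale_away (A := Γ(Y, V)) (B := Γ(X, W))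
    (hW.primeIdealOf ⟨x, hxW⟩).asIdeal (hqA ▸ hEU)
    ⟨(hW.primeIdealOf ⟨x', hx'W⟩).asIdeal, inferInstance, hle, hq''A⟩
  exact ⟨X.basicOpen g, (mem_basicOpen_iff_notMem_primeIdealOf hW x hxW g).2 hgq,
    etale_basicOpen_of_algebra f hV hW e g hg⟩

end Groth.Agent.Lib.helper9.UnramGeom
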