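import Mathlib
import Groth.Agent.Lib.Helper9.UnramGeom
import Groth.Agent.Lib.Helper9.UnramEULoc

/-!
# Unramified + dominant over a normal base is étale (helper9)
-/

set_option autoImplicit false
set_option backward.isDefEq.respectTransparency false

namespace Groth.Agent.Lib.helper9.UnramGeom

open AlgebraicGeometry CategoryTheory Groth.Agent.Lib.helper9.UnramCore

universe u

/-- `EUAt` on an affine chart from `EULoc` of the stalk. -/
theorem exists_euAt_of_euLoc_stalk {Y : Scheme.{u}} (y : Y) (h : EULoc (Y.presheaf.stalk y)) :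
    ∃ (V : Y.Opens) (hV : IsAffineOpen V) (hy : y ∈ V),
      EUAt Γ(Y, V) (hV.primeIdealOf ⟨y, hy⟩).asIdeal := by
  obtain ⟨V, hV, hy, -⟩ := TopologicalSpace.Opens.isBasis_iff_nbhd.mp Y.isBasis_affineOpens
    (show y ∈ (⊤ : Y.Opens) from trivial)
  refine ⟨V, hV, hy, ?_⟩
  let : Algebra Γ(Y, V) (Y.presheaf.stalk y) :=
    TopCat.Presheaf.algebra_section_stalk Y.presheaf ⟨y, hy⟩
  have := hV.isLocalization_stalk ⟨y, hy⟩
  exact euAt_of_euLoc _ (Y.presheaf.stalk y) h

/-- Local form over a normal base. -/
theorem exists_etale_nhd_of_normal {X Y : Scheme.{u}} (f : X ⟶ Y) [IsIntegral Y]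
    [LocallyOfFiniteType f] (x : X)
    (hY : IsDomain (Y.presheaf.stalk (f x)) ∧ IsIntegrallyClosed (Y.presheaf.stalk (f x)))
    (hsp : ∃ x' : X, x' ⤳ x ∧ f x' = genericPoint Y)
    (hunr : ∃ U : X.Opens, x ∈ U ∧ FormallyUnramified (U.ι ≫ f)) :
    ∃ U : X.Opens, x ∈ U ∧ Etale (U.ι ≫ f) := by
  obtain ⟨h1, h2⟩ := hY
  exact exists_etale_nhd f x hsp hunr (exists_euAt_of_euLoc_stalk (f x) (euLoc_of_normal _))

/-- Étale-ness from étale neighbourhoods of all points. -/
theorem etale_of_forall_exists_nhd {X Y : Scheme.{u}} (f : X ⟶ Y)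
    (h : ∀ x : X, ∃ U : X.Opens, x ∈ U ∧ Etale (U.ι ≫ f)) : Etale f := by
  choose U hxU hU using h
  rw [IsZariskiLocalAtSource.iff_of_iSup_eq_top (P := @Etale) U]
  · exact hU
  · rw [eq_top_iff]
    intro x _
    exact TopologicalSpace.Opens.mem_iSup.2 ⟨x, hxU x⟩

/-- The relative normalization of a normal integral scheme in a "generic point" is étale as soon
as it is unramified. -/
theorem etale_fromNormalization_of_unramified {X Z : Scheme.{u}} [IsIntegral X]
    (hX : ∀ x : X, IsDomain (X.presheaf.stalk x) ∧ IsIntegrallyClosed (X.presheaf.stalk x))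
    (g : Z ⟶ X) [QuasiCompact g] [QuasiSeparated g] [Subsingleton Z] [Nonempty Z]
    (hg : ∀ z : Z, g z = genericPoint X)
    [FormallyUnramified g.fromNormalization] [LocallyOfFiniteType g.fromNormalization] :
    Etale g.fromNormalization := by
  refine etale_of_forall_exists_nhd _ fun y => ?_
  refine exists_etale_nhd_of_normal g.fromNormalization y (hX _) ?_ ?_
  · obtain ⟨z⟩ := ‹Nonempty Z›
    refine ⟨g.toNormalization z, ?_, ?_⟩
    · rw [specializes_iff_mem_closure]
      have hd : DenseRange g.toNormalization := (inferInstance : IsDominant g.toNormalization).1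
      have hr : Set.range g.toNormalization = {g.toNormalization z} := by
        ext w
        constructor
        · rintro ⟨z', rfl⟩
          rw [Subsingleton.elim z' z]
          rfl
        · rintro rfl
          exact ⟨z, rfl⟩
      have := hd.closure_eq
      rw [hr] at this
      rw [this]
      trivial
    · rw [← Scheme.Hom.comp_apply, Scheme.Hom.toNormalization_fromNormalization]
      exact hg z
  · refine ⟨⊤, trivial, ?_⟩
    exact MorphismProperty.comp_mem @FormallyUnramified _ _ inferInstance inferInstance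

end Groth.Agent.Lib.helper9.UnramGeom
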