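import Mathlib
import Groth.Agent.Lib.Helper9.UnramNormal
import Groth.Agent.Lib.Helper9.UnramCore2

/-!
# Unramified + injective stalk map over a unibranch local ring is étale (l.f.p. case) (helper9)
-/

set_option autoImplicit false
set_option backward.isDefEq.respectTransparency false

namespace Groth.Agent.Lib.helper9.UnramGeom

open AlgebraicGeometry CategoryTheory Groth.Agent.Lib.helper9.UnramCore

universe u

/-- Compatibility of germs with `appLE` and the stalk map. -/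
theorem germ_appLE_apply {X Y : Scheme.{u}} (f : X ⟶ Y) {V : Y.Opens} {W : X.Opens}
    (e : W ≤ f ⁻¹ᵁ V) (x : X) (hxW : x ∈ W) (a : Γ(Y, V)) :
    X.presheaf.germ W x hxW (f.appLE V W e a) =
      f.stalkMap x (Y.presheaf.germ V (f x) (e hxW) a) := by
  rw [Scheme.Hom.germ_stalkMap_apply, Scheme.Hom.appLE]
  simp only [CommRingCat.comp_apply]
  exact TopCat.Presheaf.germ_res_apply X.presheaf (homOfLE e) x hxW _

theorem exists_etale_nhd_of_stalkMap_injective {X Y : Scheme.{u}} (f : X ⟶ Y)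
    [LocallyOfFinitePresentation f] (x : X)
    (hdom : IsDomain (Y.presheaf.stalk (f x))) (hEU : EULoc (Y.presheaf.stalk (f x)))
    (hunr : ∃ U : X.Opens, x ∈ U ∧ FormallyUnramified (U.ι ≫ f))
    (hinj : Function.Injective (f.stalkMap x)) :
    ∃ U : X.Opens, x ∈ U ∧ Etale (U.ι ≫ f) := by
  obtain ⟨U, hxU, hU⟩ := hunr
  obtain ⟨V, hV, hfx, -⟩ := TopologicalSpace.Opens.isBasis_iff_nbhd.mp Y.isBasis_affineOpens
    (show f x ∈ (⊤ : Y.Opens) from trivial)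
  obtain ⟨W, hW, hxW, hWle⟩ := TopologicalSpace.Opens.isBasis_iff_nbhd.mp X.isBasis_affineOpens
    (show x ∈ f ⁻¹ᵁ V ⊓ U from ⟨hfx, hxU⟩)
  have e : W ≤ f ⁻¹ᵁ V := hWle.trans inf_le_left
  have hWU : W ≤ U := hWle.trans inf_le_right
  let algAB : Algebra Γ(Y, V) Γ(X, W) := (f.appLE V W e).hom.toAlgebra
  have hfp : Algebra.FinitePresentation Γ(Y, V) Γ(X, W) :=
    HasRingHomProperty.appLE (P := @LocallyOfFinitePresentation) f inferInstance
      ⟨V, hV⟩ ⟨W, hW⟩ e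
  have hunr : Algebra.FormallyUnramified Γ(Y, V) Γ(X, W) :=
    formallyUnramified_appLE_of_ι_comp f hV hW e hWU hU
  have hqA : (hW.primeIdealOf ⟨x, hxW⟩).asIdeal.under Γ(Y, V) =
      (hV.primeIdealOf ⟨f x, hfx⟩).asIdeal :=
    congrArg PrimeSpectrum.asIdeal (IsAffineOpen.comap_primeIdealOf_appLE V hV W hW e hxW)
  let algAS : Algebra Γ(Y, V) (Y.presheaf.stalk (f x)) :=
    TopCat.Presheaf.algebra_section_stalk Y.presheaf ⟨f x, hfx⟩
  have hlocS := hV.isLocalization_stalk ⟨f x, hfx⟩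
  have hEU' : EUAt Γ(Y, V) ((hW.primeIdealOf ⟨x, hxW⟩).asIdeal.under Γ(Y, V)) := by
    rw [hqA]
    exact euAt_of_euLoc _ (Y.presheaf.stalk (f x)) hEU
  have hbot : (⊥ : Ideal (Y.presheaf.stalk (f x))) ∈ minimalPrimes (Y.presheaf.stalk (f x)) := by
    rw [IsDomain.minimalPrimes_eq_singleton_bot]
    rfl
  obtain ⟨P', hP', hP'bot⟩ :=
    Ideal.exists_comap_eq_of_mem_minimalPrimes_of_injective (f := (f.stalkMap x).hom) hinj ⊥ hbot
  have hqgerm : (hW.primeIdealOf ⟨x, hxW⟩).asIdeal =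
      (IsLocalRing.maximalIdeal (X.presheaf.stalk x)).comap (X.presheaf.germ W x hxW).hom := by
    rw [hW.primeIdealOf_eq_map_closedPoint ⟨x, hxW⟩]
    rfl
  have hunrAt : Algebra.IsUnramifiedAt Γ(Y, V) (hW.primeIdealOf ⟨x, hxW⟩).asIdeal :=
    inferInstance
  have hgen : ∃ q'' : Ideal Γ(X, W), q''.IsPrime ∧ q'' ≤ (hW.primeIdealOf ⟨x, hxW⟩).asIdeal ∧
      ∀ a ∈ q''.under Γ(Y, V), ∃ s : Γ(Y, V),
        s ∉ (hW.primeIdealOf ⟨x, hxW⟩).asIdeal.under Γ(Y, V) ∧ s * a = 0 := by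
    refine ⟨P'.comap (X.presheaf.germ W x hxW).hom, Ideal.comap_isPrime _ _, ?_, ?_⟩
    · rw [hqgerm]
      exact Ideal.comap_mono (IsLocalRing.le_maximalIdeal hP'.ne_top)
    · intro a ha
      have h1 : X.presheaf.germ W x hxW (f.appLE V W e a) ∈ P' := ha
      rw [germ_appLE_apply] at h1
      have h2 : Y.presheaf.germ V (f x) hfx a ∈ P'.comap (f.stalkMap x).hom := h1
      rw [hP'bot, Ideal.mem_bot] at h2
      have h3 : algebraMap Γ(Y, V) (Y.presheaf.stalk (f x)) a = 0 := h2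
      obtain ⟨s, hs⟩ := (IsLocalization.map_eq_zero_iff
        (hV.primeIdealOf ⟨f x, hfx⟩).asIdeal.primeCompl _ a).1 h3
      refine ⟨s, ?_, hs⟩
      rw [hqA]
      exact s.2
  have hEt : Algebra.IsEtaleAt Γ(Y, V) (hW.primeIdealOf ⟨x, hxW⟩).asIdeal :=
    isEtaleAt_of_euAt _ hEU' hgen
  obtain ⟨g, hgq, hg⟩ := Algebra.exists_etale_of_isEtaleAt (R := Γ(Y, V))
    (hW.primeIdealOf ⟨x, hxW⟩).asIdeal
  exact ⟨X.basicOpen g, (mem_basicOpen_iff_notMem_primeIdealOf hW x hxW g).2 hgq,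
    etale_basicOpen_of_algebra f hV hW e g hg⟩

end Groth.Agent.Lib.helper9.UnramGeom
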