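import Mathlib
import Groth.Agent.Lib.Helper9.UnramGeom2
import Groth.Agent.Lib.Helper9.UnramGUPrelude

/-!
# Étale neighbourhood iff unramified neighbourhood + injective stalk map (helper9)
-/

set_option autoImplicit false
set_option backward.isDefEq.respectTransparency false

namespace Groth.Agent.Lib.helper9.UnramGeom

open AlgebraicGeometry CategoryTheory Groth.Agent.Lib.helper9.UnramCore

universe u

theorem stalkMap_injective_of_flat {X Y : Scheme.{u}} (g : X ⟶ Y) [Flat g] (x : X) :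
    Function.Injective (g.stalkMap x) := by
  algebraize [(g.stalkMap x).hom]
  have : Module.FaithfullyFlat (Y.presheaf.stalk (g x)) (X.presheaf.stalk x) :=
    @Module.FaithfullyFlat.of_flat_of_isLocalHom _ _ _ _ _ _ _
      (Flat.stalkMap g x) (g.toLRSHom.prop x)
  exact ‹RingHom.FaithfullyFlat _›.injective

theorem stalkMap_injective_of_etale_nhd {X Y : Scheme.{u}} (f : X ⟶ Y) (x : X)
    (h : ∃ U : X.Opens, x ∈ U ∧ Etale (U.ι ≫ f)) : Function.Injective (f.stalkMap x) := by
  obtain ⟨U, hxU, hU⟩ := h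
  have h1 : Function.Injective ((U.ι ≫ f).stalkMap ⟨x, hxU⟩) :=
    stalkMap_injective_of_flat (U.ι ≫ f) ⟨x, hxU⟩
  rw [Scheme.Hom.stalkMap_comp] at h1
  have h2 : Function.Injective ((f.stalkMap (U.ι ⟨x, hxU⟩)) ≫ U.ι.stalkMap ⟨x, hxU⟩) := h1
  have h3 : Function.Injective (f.stalkMap (U.ι ⟨x, hxU⟩)) := by
    intro a b hab
    apply h2
    simp only [CommRingCat.comp_apply, hab]
  exact h3

theorem etale_nhd_iff {X Y : Scheme.{u}} (f : X ⟶ Y) [LocallyOfFinitePresentation f] (x : X)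
    (hY : IsDomain (Y.presheaf.stalk (f x)))
    (hY' : CAlg2.IsGeomUnibranch (Y.presheaf.stalk (f x))) :
    (∃ U : X.Opens, x ∈ U ∧ Etale (U.ι ≫ f)) ↔
      (∃ U : X.Opens, x ∈ U ∧ FormallyUnramified (U.ι ≫ f)) ∧
        Function.Injective (f.stalkMap x) := by
  constructor
  · intro h
    refine ⟨?_, stalkMap_injective_of_etale_nhd f x h⟩
    obtain ⟨U, hxU, hU⟩ := h
    exact ⟨U, hxU, inferInstance⟩
  · rintro ⟨h1, h2⟩
    exact exists_etale_nhd_of_stalkMap_injective f x hY (euLoc_of_isGeomUnibranch _ hY') h1 h2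

end Groth.Agent.Lib.helper9.UnramGeom
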