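import Mathlib
import Groth.Agent.Lib.Helper9.UnramGeom3

/-!
# Global form: unramified, dominant over a unibranch integral base, connected source (helper9)
-/

set_option autoImplicit false
set_option backward.isDefEq.respectTransparency false

namespace Groth.Agent.Lib.helper9.UnramGeom

open AlgebraicGeometry CategoryTheory Groth.Agent.Lib.helper9.UnramCore

universe u

theorem locallyQuasiFinite_of_unramified {X Y : Scheme.{u}} (f : X ⟶ Y) [FormallyUnramified f]
    [LocallyOfFiniteType f] : LocallyQuasiFinite f := by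
  constructor
  intro U hU V hV e
  have h1 : (f.appLE U V e).hom.FiniteType :=
    HasRingHomProperty.appLE (P := @LocallyOfFiniteType) f inferInstance ⟨U, hU⟩ ⟨V, hV⟩ e
  have h2 : (f.appLE U V e).hom.FormallyUnramified :=
    HasRingHomProperty.appLE (P := @FormallyUnramified) f inferInstance ⟨U, hU⟩ ⟨V, hV⟩ e
  algebraize [(f.appLE U V e).hom]
  show Algebra.QuasiFinite _ _
  infer_instance

/-- Stalks of a scheme étale over a scheme whose stalk satisfies `EULoc` are domains. -/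
theorem isDomain_stalk_of_etale {X Y : Scheme.{u}} (f : X ⟶ Y) [Etale f] (x : X)
    (hEU : EULoc (Y.presheaf.stalk (f x))) : IsDomain (X.presheaf.stalk x) := by
  obtain ⟨V, hV, hfx, -⟩ := TopologicalSpace.Opens.isBasis_iff_nbhd.mp Y.isBasis_affineOpens
    (show f x ∈ (⊤ : Y.Opens) from trivial)
  obtain ⟨W, hW, hxW, e⟩ := TopologicalSpace.Opens.isBasis_iff_nbhd.mp X.isBasis_affineOpens
    (show x ∈ f ⁻¹ᵁ V from hfx)
  let algAB : Algebra Γ(Y, V) Γ(X, W) := (f.appLE V W e).hom.toAlgebra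
  have het : Algebra.Etale Γ(Y, V) Γ(X, W) :=
    HasRingHomProperty.appLE (P := @Etale) f inferInstance ⟨V, hV⟩ ⟨W, hW⟩ e
  have hqA : (hW.primeIdealOf ⟨x, hxW⟩).asIdeal.under Γ(Y, V) =
      (hV.primeIdealOf ⟨f x, hfx⟩).asIdeal :=
    congrArg PrimeSpectrum.asIdeal (IsAffineOpen.comap_primeIdealOf_appLE V hV W hW e hxW)
  let algAS : Algebra Γ(Y, V) (Y.presheaf.stalk (f x)) :=
    TopCat.Presheaf.algebra_section_stalk Y.presheaf ⟨f x, hfx⟩
  have hlocS := hV.isLocalization_stalk ⟨f x, hfx⟩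
  have hEU' : EUAt Γ(Y, V) (hV.primeIdealOf ⟨f x, hfx⟩).asIdeal :=
    euAt_of_euLoc _ (Y.presheaf.stalk (f x)) hEU
  have hdom : IsDomain (Localization.AtPrime (hW.primeIdealOf ⟨x, hxW⟩).asIdeal) :=
    hEU' Γ(X, W) _ hqA
  let algBS : Algebra Γ(X, W) (X.presheaf.stalk x) :=
    TopCat.Presheaf.algebra_section_stalk X.presheaf ⟨x, hxW⟩
  have hlocX := hW.isLocalization_stalk ⟨x, hxW⟩
  let eq1 : X.presheaf.stalk x ≃ₐ[Γ(X, W)]
      Localization.AtPrime (hW.primeIdealOf ⟨x, hxW⟩).asIdeal :=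
    IsLocalization.algEquiv (hW.primeIdealOf ⟨x, hxW⟩).asIdeal.primeCompl _ _
  exact eq1.injective.isDomain eq1.toRingEquiv.toRingHom


/-- Local finiteness of fibres of a locally quasi-finite morphism. -/
theorem exists_nhd_finite_fibre {X Y : Scheme.{u}} (f : X ⟶ Y) [LocallyQuasiFinite f] (x : X)
    (y : Y) : ∃ W : X.Opens, x ∈ W ∧ ((W : Set X) ∩ f ⁻¹' {y}).Finite := by
  obtain ⟨V, hV, hfx, -⟩ := TopologicalSpace.Opens.isBasis_iff_nbhd.mp Y.isBasis_affineOpens
    (show f x ∈ (⊤ : Y.Opens) from trivial)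
  obtain ⟨W, hW, hxW, e⟩ := TopologicalSpace.Opens.isBasis_iff_nbhd.mp X.isBasis_affineOpens
    (show x ∈ f ⁻¹ᵁ V from hfx)
  refine ⟨W, hxW, ?_⟩
  by_cases hyV : y ∈ V
  · have : IsAffine W := hW
    have : IsAffine V := hV
    have hfin := (f.resLE V W e).finite_preimage_singleton ⟨y, hyV⟩
    refine (hfin.image (Scheme.Opens.ι W)).subset ?_
    rintro w ⟨hwW, hwy⟩
    refine ⟨⟨w, hwW⟩, ?_, rfl⟩
    have h1 : (Scheme.Opens.ι V) ((f.resLE V W e) ⟨w, hwW⟩) = f ((Scheme.Opens.ι W) ⟨w, hwW⟩) := by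
      rw [← Scheme.Hom.comp_apply, ← Scheme.Hom.comp_apply, Scheme.Hom.resLE_comp_ι]
    apply Subtype.ext
    exact h1.trans hwy
  · convert Set.finite_empty
    ext w
    simp only [Set.mem_inter_iff, Set.mem_preimage, Set.mem_singleton_iff, Set.mem_empty_iff_false,
      iff_false, not_and]
    intro hwW hwy
    exact hyV (hwy ▸ e hwW)

theorem etale_and_irreducible {X Y : Scheme.{u}} (f : X ⟶ Y) [IsIntegral Y]
    (hEU : ∀ y : Y, EULoc (Y.presheaf.stalk y)) [ConnectedSpace X] [FormallyUnramified f]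
    [LocallyOfFiniteType f] (hdom : genericPoint Y ∈ Set.range f) :
    Etale f ∧ IrreducibleSpace X := by
  have hlqf : LocallyQuasiFinite f := locallyQuasiFinite_of_unramified f
  have hunrtop : FormallyUnramified ((⊤ : X.Opens).ι ≫ f) :=
    MorphismProperty.comp_mem @FormallyUnramified _ _ inferInstance inferInstance
  -- points with a generization over the generic point
  have hEopen : IsOpen {x : X | ∃ x' : X, x' ⤳ x ∧ f x' = genericPoint Y} := by
    rw [isOpen_iff_forall_mem_open]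
    rintro x ⟨x', hx'x, hx'⟩
    obtain ⟨U, hxU, hU⟩ := exists_etale_nhd f x ⟨x', hx'x, hx'⟩ ⟨⊤, trivial, hunrtop⟩
      (exists_euAt_of_euLoc_stalk (f x) (hEU _))
    refine ⟨U, ?_, U.isOpen, hxU⟩
    intro u hu
    have hgen : GeneralizingMap (U.ι ≫ f) := Flat.generalizingMap (U.ι ≫ f)
    obtain ⟨u', hu'u, hu'⟩ := hgen (a := ⟨u, hu⟩) (b := genericPoint Y)
      (genericPoint_specializes _)
    exact ⟨U.ι u', hu'u.map U.ι.continuous, hu'⟩
  have hEclosed : IsClosed {x : X | ∃ x' : X, x' ⤳ x ∧ f x' = genericPoint Y} := by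
    rw [← isOpen_compl_iff, isOpen_iff_forall_mem_open]
    intro x hx
    obtain ⟨W, hxW, hfin⟩ := exists_nhd_finite_fibre f x (genericPoint Y)
    have hTcl : IsClosed (⋃ z ∈ (W : Set X) ∩ f ⁻¹' {genericPoint Y}, closure {z}) :=
      hfin.isClosed_biUnion fun _ _ => isClosed_closure
    refine ⟨(W : Set X) ∩ (⋃ z ∈ (W : Set X) ∩ f ⁻¹' {genericPoint Y}, closure {z})ᶜ, ?_,
      W.isOpen.inter hTcl.isOpen_compl, ⟨hxW, ?_⟩⟩
    · rintro w ⟨hwW, hwT⟩ ⟨w', hw'w, hw'⟩
      apply hwT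
      have hw'W : w' ∈ W := hw'w.mem_open W.isOpen hwW
      exact Set.mem_biUnion (x := w') ⟨hw'W, hw'⟩ (specializes_iff_mem_closure.1 hw'w)
    · intro hxT
      obtain ⟨z, ⟨hzW, hz⟩, hxz⟩ := Set.mem_iUnion₂.1 hxT
      exact hx ⟨z, specializes_iff_mem_closure.2 hxz, hz⟩
  obtain ⟨x₀, hx₀⟩ := hdom
  have hEuniv : {x : X | ∃ x' : X, x' ⤳ x ∧ f x' = genericPoint Y} = Set.univ :=
    IsClopen.eq_univ ⟨hEclosed, hEopen⟩ ⟨x₀, x₀, specializes_rfl, hx₀⟩
  have hall : ∀ x : X, ∃ x' : X, x' ⤳ x ∧ f x' = genericPoint Y := by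
    intro x
    have : x ∈ {x : X | ∃ x' : X, x' ⤳ x ∧ f x' = genericPoint Y} := hEuniv ▸ trivial
    exact this
  have het : Etale f := etale_of_forall_exists_nhd f fun x =>
    exists_etale_nhd f x (hall x) ⟨⊤, trivial, hunrtop⟩
      (exists_euAt_of_euLoc_stalk (f x) (hEU _))
  refine ⟨het, ?_⟩
  -- irreducibility: `closure {x₀}` is clopen
  have hdisc : ∀ a b : X, f a = genericPoint Y → f b = genericPoint Y → a ⤳ b → a = b := by
    intro a b ha hb hab
    have hd := f.isDiscrete_preimage_singleton (genericPoint Y)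
    have : DiscreteTopology (f ⁻¹' {genericPoint Y}) := hd.to_subtype
    have h1 : (⟨a, ha⟩ : f ⁻¹' {genericPoint Y}) ⤳ ⟨b, hb⟩ := (subtype_specializes_iff _ _).2 hab
    exact congrArg Subtype.val h1.eq
  have hZopen : IsOpen (closure {x₀}) := by
    rw [isOpen_iff_forall_mem_open]
    intro x hx
    have hx₀x : x₀ ⤳ x := specializes_iff_mem_closure.2 hx
    obtain ⟨W, hxW, hfin⟩ := exists_nhd_finite_fibre f x (genericPoint Y)
    have hfin' : (((W : Set X) ∩ f ⁻¹' {genericPoint Y}) \ {x₀}).Finite := hfin.sdiff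
    have hTcl : IsClosed (⋃ z ∈ ((W : Set X) ∩ f ⁻¹' {genericPoint Y}) \ {x₀}, closure {z}) :=
      hfin'.isClosed_biUnion fun _ _ => isClosed_closure
    refine ⟨(W : Set X) ∩
      (⋃ z ∈ ((W : Set X) ∩ f ⁻¹' {genericPoint Y}) \ {x₀}, closure {z})ᶜ, ?_,
      W.isOpen.inter hTcl.isOpen_compl, ⟨hxW, ?_⟩⟩
    · rintro w ⟨hwW, hwT⟩
      obtain ⟨w', hw'w, hw'⟩ := hall w
      have hw'W : w' ∈ W := hw'w.mem_open W.isOpen hwW
      by_cases hw'x₀ : w' = x₀
      · exact specializes_iff_mem_closure.1 (hw'x₀ ▸ hw'w)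
      · refine absurd ?_ hwT
        exact Set.mem_biUnion (x := w')
          (show w' ∈ ((W : Set X) ∩ f ⁻¹' {genericPoint Y}) \ {x₀} from ⟨⟨hw'W, hw'⟩, hw'x₀⟩)
          (specializes_iff_mem_closure.1 hw'w)
    · intro hxT
      obtain ⟨z, ⟨⟨hzW, hz⟩, hzx₀⟩, hxz⟩ := Set.mem_iUnion₂.1 hxT
      have hzx : z ⤳ x := specializes_iff_mem_closure.2 hxz
      -- the stalk at `x` is a domain
      have hdomx : IsDomain (X.presheaf.stalk x) := isDomain_stalk_of_etale f x (hEU _)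
      -- generic point of the stalk
      let ξ : X := X.fromSpecStalk x (⊥ : PrimeSpectrum (X.presheaf.stalk x))
      have hξ : ∀ y : X, y ⤳ x → ξ ⤳ y := by
        intro y hy
        have hy' : y ∈ Set.range (X.fromSpecStalk x) := by
          rw [Scheme.range_fromSpecStalk]
          exact hy
        obtain ⟨P, rfl⟩ := hy'
        have h1 : (⊥ : PrimeSpectrum (X.presheaf.stalk x)) ⤳ P :=
          (PrimeSpectrum.le_iff_specializes _ _).1 bot_le
        exact h1.map (X.fromSpecStalk x).continuous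
      have hfξ : f ξ = genericPoint Y := by
        have h1 : f ξ ⤳ f x₀ := (hξ x₀ hx₀x).map f.continuous
        rw [hx₀] at h1
        exact (h1.antisymm (genericPoint_specializes _)).eq
      have e1 : ξ = x₀ := hdisc ξ x₀ hfξ hx₀ (hξ x₀ hx₀x)
      have e2 : ξ = z := hdisc ξ z hfξ hz (hξ z hzx)
      exact hzx₀ (e2.symm.trans e1)
  have hZ : closure {x₀} = Set.univ :=
    IsClopen.eq_univ ⟨isClosed_closure, hZopen⟩ ⟨x₀, subset_closure rfl⟩
  have hirr : IsIrreducible (Set.univ : Set X) := hZ ▸ isIrreducible_singleton.closure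
  exact (irreducibleSpace_def X).2 hirr

end Groth.Agent.Lib.helper9.UnramGeom
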