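import Mathlib
import Groth.Prelude.Def_CAlg2

/-!
# Recognising geometrically unibranch local domains (helper9)

A local domain `G` with an injective integral extension `G → Gb` by a normal local domain with
"denominators" in `G` and a purely inseparable residue extension is geometrically unibranch in the
sense of the prelude (`CAlg2.IsGeomUnibranch`).
-/

set_option autoImplicit false

namespace Groth.Agent.Lib.helper9.UnramCore

universe u

open Algebra

section Recog

variable (G Gb : Type u) [CommRing G] [IsDomain G] [CommRing Gb] [IsDomain Gb] [Algebra G Gb]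

/-- `Frac Gb` is a fraction field of `G` when every element of `Gb` has a denominator in `G`. -/
theorem isFractionRing_of_denominators (hinj : Function.Injective (algebraMap G Gb))
    (hden : ∀ z : Gb, ∃ g₀ : G, g₀ ≠ 0 ∧ ∃ g : G, algebraMap G Gb g₀ * z = algebraMap G Gb g) :
    IsFractionRing G (FractionRing Gb) := by
  have hinj' : Function.Injective (algebraMap G (FractionRing Gb)) := by
    rw [IsScalarTower.algebraMap_eq G Gb (FractionRing Gb)]
    exact (IsFractionRing.injective Gb (FractionRing Gb)).comp hinj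
  refine ⟨?_, ?_, ?_⟩
  · rintro ⟨g, hg⟩
    have hg0 : g ≠ 0 := nonZeroDivisors.ne_zero hg
    exact IsUnit.mk0 _ (fun h => hg0 (hinj' (h.trans (map_zero _).symm)))
  · intro x
    obtain ⟨z, w, hw, rfl⟩ := IsFractionRing.div_surjective (A := Gb) x
    obtain ⟨g₁, hg₁, a, ha⟩ := hden z
    obtain ⟨g₂, hg₂, b, hb⟩ := hden w
    have hw0 : w ≠ 0 := nonZeroDivisors.ne_zero hw
    have hb0 : b ≠ 0 := by
      intro hb0
      rw [hb0, map_zero] at hb
      rcases mul_eq_zero.1 hb with h | h
      · exact hg₂ (hinj (h.trans (map_zero _).symm))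
      · exact hw0 h
    refine ⟨⟨g₂ * a, ⟨g₁ * b, mem_nonZeroDivisors_of_ne_zero (mul_ne_zero hg₁ hb0)⟩⟩, ?_⟩
    have hw' : algebraMap Gb (FractionRing Gb) w ≠ 0 := fun h =>
      hw0 (IsFractionRing.injective Gb (FractionRing Gb) (h.trans (map_zero _).symm))
    simp only [IsScalarTower.algebraMap_apply G Gb (FractionRing Gb), map_mul, ← ha, ← hb]
    field_simp
  · intro a b hab
    exact ⟨1, by simpa using hinj' hab⟩


/-- For a domain `G`, the fraction ring of `G ⧸ nilradical G` is a fraction field of `G`. -/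
theorem isFractionRing_red [hp : (nilradical G).IsPrime] :
    IsFractionRing G (FractionRing (CAlg2.red G)) := by
  have hnil : nilradical G = ⊥ := nilradical_eq_zero G
  have hmk : Function.Injective (Ideal.Quotient.mk (nilradical G)) := by
    rw [RingHom.injective_iff_ker_eq_bot, Ideal.mk_ker, hnil]
  have halg : ∀ g : G, algebraMap G (FractionRing (CAlg2.red G)) g =
      algebraMap (CAlg2.red G) (FractionRing (CAlg2.red G)) (Ideal.Quotient.mk _ g) := fun g => rfl
  have hinj' : Function.Injective (algebraMap G (FractionRing (CAlg2.red G))) := by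
    intro a b hab
    rw [halg, halg] at hab
    exact hmk (IsFractionRing.injective (CAlg2.red G) (FractionRing (CAlg2.red G)) hab)
  refine ⟨?_, ?_, ?_⟩
  · rintro ⟨g, hg⟩
    have hg0 : g ≠ 0 := nonZeroDivisors.ne_zero hg
    exact IsUnit.mk0 _ (fun h => hg0 (hinj' (h.trans (map_zero _).symm)))
  · intro x
    obtain ⟨⟨a, s⟩, hx⟩ := IsLocalization.surj (nonZeroDivisors (CAlg2.red G)) x
    obtain ⟨a₀, rfl⟩ := Ideal.Quotient.mk_surjective a
    obtain ⟨s₀, hs₀⟩ := Ideal.Quotient.mk_surjective (s : CAlg2.red G)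
    have hs₀0 : s₀ ≠ 0 := by
      rintro rfl
      exact nonZeroDivisors.ne_zero s.2 (hs₀.symm.trans (map_zero _))
    refine ⟨⟨a₀, ⟨s₀, mem_nonZeroDivisors_of_ne_zero hs₀0⟩⟩, ?_⟩
    simp only [halg, hs₀]
    exact hx
  · intro a b hab
    exact ⟨1, by simpa using hinj' hab⟩


/-- **Recognition lemma** for the prelude's `CAlg2.IsGeomUnibranch`. -/
theorem isGeomUnibranch_of_normal_cover [IsLocalRing G] [IsIntegrallyClosed Gb] [IsLocalRing Gb]
    [Algebra.IsIntegral G Gb] (hinj : Function.Injective (algebraMap G Gb))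
    (hden : ∀ z : Gb, ∃ g₀ : G, g₀ ≠ 0 ∧ ∃ g : G, algebraMap G Gb g₀ * z = algebraMap G Gb g)
    (p : ℕ) (hexp : ExpChar (Gb ⧸ IsLocalRing.maximalIdeal Gb) p)
    (hres : ∀ z : Gb, ∃ (n : ℕ) (g : G),
      z ^ p ^ n - algebraMap G Gb g ∈ IsLocalRing.maximalIdeal Gb) :
    CAlg2.IsGeomUnibranch G := by
  have hnil : nilradical G = ⊥ := nilradical_eq_zero G
  have hprime : (nilradical G).IsPrime := hnil ▸ Ideal.isPrime_bot
  have hdomr : IsDomain (CAlg2.red G) := Ideal.Quotient.isDomain _
  have hfrL : IsFractionRing G (FractionRing (CAlg2.red G)) := isFractionRing_red G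
  have hfrLb : IsFractionRing G (FractionRing Gb) := isFractionRing_of_denominators G Gb hinj hden
  let eL : FractionRing (CAlg2.red G) ≃ₐ[G] FractionRing Gb :=
    IsLocalization.algEquiv (nonZeroDivisors G) _ _
  have hintGr : Algebra.IsIntegral G (CAlg2.red G) :=
    Algebra.isIntegral_of_surjective Ideal.Quotient.mk_surjective
  let i : CAlg2.normRed G →+* FractionRing Gb :=
    (eL : FractionRing (CAlg2.red G) →+* FractionRing Gb).comp
      (algebraMap (CAlg2.normRed G) (FractionRing (CAlg2.red G)))
  have hi : ∀ y : CAlg2.normRed G, i y = eL (y : FractionRing (CAlg2.red G)) := fun _ => rfl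
  have hiinj : Function.Injective i := by
    intro a b hab
    rw [hi, hi] at hab
    exact Subtype.ext (eL.injective hab)
  have hirange : ∀ y : CAlg2.normRed G, ∃ z : Gb, algebraMap Gb (FractionRing Gb) z = i y := by
    intro y
    have h1 : IsIntegral (CAlg2.red G) (y : FractionRing (CAlg2.red G)) := y.2
    have h2 : IsIntegral G (y : FractionRing (CAlg2.red G)) := isIntegral_trans _ h1
    have h3 : IsIntegral G (eL (y : FractionRing (CAlg2.red G))) := h2.map eL
    have h4 : IsIntegral Gb (eL (y : FractionRing (CAlg2.red G))) := h3.tower_top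
    exact IsIntegrallyClosed.algebraMap_eq_of_integral h4
  have hjrange : ∀ z : Gb, ∃ y : CAlg2.normRed G, i y = algebraMap Gb (FractionRing Gb) z := by
    intro z
    have h1 : IsIntegral G z := Algebra.IsIntegral.isIntegral z
    have h2 : IsIntegral G (algebraMap Gb (FractionRing Gb) z) :=
      h1.map (IsScalarTower.toAlgHom G Gb (FractionRing Gb))
    have h3 : IsIntegral G (eL.symm (algebraMap Gb (FractionRing Gb) z)) := h2.map eL.symm
    have h4 : IsIntegral (CAlg2.red G) (eL.symm (algebraMap Gb (FractionRing Gb) z)) :=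
      h3.tower_top
    refine ⟨⟨_, h4⟩, ?_⟩
    rw [hi]
    exact eL.apply_symm_apply _
  have hjinj : Function.Injective (algebraMap Gb (FractionRing Gb)) :=
    IsFractionRing.injective Gb (FractionRing Gb)
  -- the ring isomorphism `Gb ≃ normRed G`
  choose τ hτ using hjrange
  have hτadd : ∀ a b, τ (a + b) = τ a + τ b := by
    intro a b
    apply hiinj
    rw [hτ, RingHom.map_add i, hτ, hτ, RingHom.map_add]
  have hτmul : ∀ a b, τ (a * b) = τ a * τ b := by
    intro a b
    apply hiinj
    rw [hτ, RingHom.map_mul i, hτ, hτ, RingHom.map_mul]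
  have hτone : τ 1 = 1 := by
    apply hiinj
    rw [hτ, RingHom.map_one i, RingHom.map_one]
  have hτzero : τ 0 = 0 := by
    apply hiinj
    rw [hτ, RingHom.map_zero i, RingHom.map_zero]
  let τh : Gb →+* CAlg2.normRed G :=
    { toFun := τ, map_one' := hτone, map_mul' := hτmul, map_zero' := hτzero, map_add' := hτadd }
  have hτbij : Function.Bijective τh := by
    constructor
    · intro a b hab
      apply hjinj
      rw [← hτ a, ← hτ b]
      exact congrArg i hab
    · intro y
      obtain ⟨z, hz⟩ := hirange y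
      refine ⟨z, hiinj ?_⟩
      exact (hτ z).trans hz
  let e : Gb ≃+* CAlg2.normRed G := RingEquiv.ofBijective τh hτbij
  have hloc : IsLocalRing (CAlg2.normRed G) := e.isLocalRing
  -- compatibility with the maps from `G`
  have hcompat : ∀ g : G, e (algebraMap G Gb g) =
      algebraMap (CAlg2.red G) (CAlg2.normRed G) (Ideal.Quotient.mk (nilradical G) g) := by
    intro g
    apply hiinj
    show i (τ (algebraMap G Gb g)) = _
    rw [hτ, hi]
    have h1 : ((algebraMap (CAlg2.red G) (CAlg2.normRed G) (Ideal.Quotient.mk (nilradical G) g) :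
        CAlg2.normRed G) : FractionRing (CAlg2.red G)) =
        algebraMap G (FractionRing (CAlg2.red G)) g := rfl
    rw [h1, AlgEquiv.commutes, ← IsScalarTower.algebraMap_apply]
  refine ⟨⟨hdomr, hloc⟩, ?_⟩
  intro m' hm' x
  have hm'eq : m' = IsLocalRing.maximalIdeal (CAlg2.normRed G) := IsLocalRing.eq_maximalIdeal hm'
  -- exponential characteristic
  have hle : IsLocalRing.maximalIdeal Gb ≤ m'.comap (e : Gb →+* CAlg2.normRed G) := by
    intro z hz
    rw [Ideal.mem_comap, hm'eq]
    intro hu
    apply hz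
    have : IsUnit (e.symm (e z)) := hu.map e.symm
    simpa using this
  let ψ : Gb ⧸ IsLocalRing.maximalIdeal Gb →+* CAlg2.normRed G ⧸ m' :=
    Ideal.quotientMap m' (e : Gb →+* CAlg2.normRed G) hle
  let _ : Field (Gb ⧸ IsLocalRing.maximalIdeal Gb) :=
    Ideal.Quotient.field (IsLocalRing.maximalIdeal Gb)
  have : Nontrivial (CAlg2.normRed G ⧸ m') := Ideal.Quotient.nontrivial_iff.2 hm'.ne_top
  have hψinj : Function.Injective ψ := RingHom.injective ψ
  have hexp' : ExpChar (CAlg2.normRed G ⧸ m') p := expChar_of_injective_ringHom hψinj p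
  have hpeq : ringExpChar (CAlg2.normRed G ⧸ m') = p := ringExpChar.eq _ p
  rw [hpeq]
  obtain ⟨y, rfl⟩ := Ideal.Quotient.mk_surjective x
  obtain ⟨n, g, hng⟩ := hres (e.symm y)
  refine ⟨n, g, ?_⟩
  simp only [RingHom.comp_apply]
  rw [← hcompat, ← map_pow, Ideal.Quotient.eq]
  have h1 : e ((e.symm y) ^ p ^ n - algebraMap G Gb g) ∈ m' := hle hng
  rw [map_sub, map_pow, RingEquiv.apply_symm_apply] at h1
  have h2 := m'.neg_mem h1
  rwa [neg_sub] at h2

end Recog

end Groth.Agent.Lib.helper9.UnramCore
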