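import Mathlib
import Groth.Agent.Lib.Helper9.UnramGU
import Groth.Agent.Lib.Helper9.UnramGURecog

/-!
# Local rings of étale algebras over geometrically unibranch local domains are geometrically
unibranch (helper9)
-/

set_option autoImplicit false

namespace Groth.Agent.Lib.helper9.UnramCore

universe u

open Algebra TensorProduct

/-- Clearing denominators in `C ⊗ R̄`. -/
theorem exists_smul_eq_tmul_one {R C Rb : Type u} [CommRing R] [IsDomain R] [CommRing C]
    [CommRing Rb] [Algebra R C] [Algebra R Rb]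
    (hden : ∀ x : Rb, ∃ s : R, s ≠ 0 ∧ ∃ r : R, algebraMap R Rb s * x = algebraMap R Rb r)
    (w : C ⊗[R] Rb) : ∃ s : R, s ≠ 0 ∧ ∃ c : C, s • w = c ⊗ₜ[R] (1 : Rb) := by
  induction w using TensorProduct.induction_on with
  | zero => exact ⟨1, one_ne_zero, 0, by simp⟩
  | tmul c x =>
    obtain ⟨s, hs, r, hr⟩ := hden x
    refine ⟨s, hs, r • c, ?_⟩
    rw [TensorProduct.smul_tmul', TensorProduct.smul_tmul, TensorProduct.smul_tmul,
      Algebra.smul_def, hr, Algebra.smul_def, mul_one]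
  | add w₁ w₂ h₁ h₂ =>
    obtain ⟨s₁, hs₁, c₁, e₁⟩ := h₁
    obtain ⟨s₂, hs₂, c₂, e₂⟩ := h₂
    refine ⟨s₁ * s₂, mul_ne_zero hs₁ hs₂, s₂ • c₁ + s₁ • c₂, ?_⟩
    rw [smul_add, mul_comm s₁ s₂, mul_smul, e₁, mul_comm s₂ s₁, mul_smul, e₂,
      TensorProduct.add_tmul, TensorProduct.smul_tmul', TensorProduct.smul_tmul']


attribute [local instance] Algebra.TensorProduct.rightAlgebra in
/-- Abstract ascent: local rings of étale algebras over a local domain `R` with a normal local
integral cover `R̄` (purely inseparable residue field, denominators in `R`) are geometrically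
unibranch domains. -/
theorem isGeomUnibranch_of_unibranch (R Rb : Type u) [CommRing R] [IsLocalRing R] [IsDomain R]
    [CommRing Rb] [IsDomain Rb] [IsIntegrallyClosed Rb] [IsLocalRing Rb] [Algebra R Rb]
    [Algebra.IsIntegral R Rb] (hinj : Function.Injective (algebraMap R Rb)) (p : ℕ)
    (hexp : ExpChar (Rb ⧸ IsLocalRing.maximalIdeal Rb) p)
    (hres : ∀ x : Rb, ∃ (n : ℕ) (r : R),
      x ^ p ^ n - algebraMap R Rb r ∈ IsLocalRing.maximalIdeal Rb)
    (hden : ∀ x : Rb, ∃ s : R, s ≠ 0 ∧ ∃ r : R, algebraMap R Rb s * x = algebraMap R Rb r)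
    (C G : Type u) [CommRing C] [Algebra R C] [Algebra.Etale R C] [CommRing G] [Algebra C G]
    [Algebra R G] [IsScalarTower R C G] (M : Submonoid C) [IsLocalization M G] [IsLocalRing G]
    [IsLocalHom (algebraMap R G)] :
    IsDomain G ∧ CAlg2.IsGeomUnibranch G := by
  have hp : p = 1 ∨ (p.Prime ∧ (p : Rb) ∈ IsLocalRing.maximalIdeal Rb) := by
    cases hexp with
    | zero => exact Or.inl rfl
    | prime hprime =>
      refine Or.inr ⟨hprime, ?_⟩
      rw [← Ideal.Quotient.eq_zero_iff_mem, map_natCast]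
      exact CharP.cast_eq_zero _ p
  let e : Rb ⊗[R] C ≃ₐ[Rb] C ⊗[R] Rb :=
    { __ := Algebra.TensorProduct.comm R Rb C, commutes' := fun _ => rfl }
  have het : Algebra.Etale Rb (C ⊗[R] Rb) := .of_equiv e
  let Gb := Localization (Algebra.algebraMapSubmonoid (C ⊗[R] Rb) M)
  let algGGb : Algebra G Gb := localizationAlgebra M (C ⊗[R] Rb)
  have hflat : Module.Flat R C := inferInstance
  have hinjC : Function.Injective (algebraMap C (C ⊗[R] Rb)) :=
    Algebra.TensorProduct.includeLeft_injective (S := C) hinj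
  have hιinj : Function.Injective (algebraMap G Gb) :=
    localizationAlgebra_injective G Gb hinjC
  have hιint : (algebraMap G Gb).IsIntegral := by
    rw [localizationAlgebraMap_def]
    exact isIntegral_localization
  have hnt : Nontrivial Gb := hιinj.nontrivial
  have hcompat : ∀ c : C, algebraMap G Gb (algebraMap C G c) =
      algebraMap (C ⊗[R] Rb) Gb (c ⊗ₜ[R] (1 : Rb)) := by
    intro c
    rw [localizationAlgebraMap_def, IsLocalization.map_eq]
    rfl
  have hmax : ∀ N : Ideal Gb, N.IsMaximal → N.comap (algebraMap G Gb) =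
      IsLocalRing.maximalIdeal G := by
    intro N hN
    have : (N.comap (algebraMap G Gb)).IsMaximal :=
      Ideal.isMaximal_comap_of_isIntegral_of_isMaximal' _ hιint N
    exact IsLocalRing.eq_maximalIdeal this
  have hcN : ∀ (N : Ideal Gb), N.IsMaximal → ∀ c : C,
      c ⊗ₜ[R] (1 : Rb) ∈ N.comap (algebraMap (C ⊗[R] Rb) Gb) ↔
        algebraMap C G c ∈ IsLocalRing.maximalIdeal G := by
    intro N hN c
    rw [Ideal.mem_comap, ← hcompat, ← hmax N hN, Ideal.mem_comap]
  have hmN : ∀ (N : Ideal Gb), N.IsMaximal → ∀ μ ∈ IsLocalRing.maximalIdeal Rb,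
      (1 : C) ⊗ₜ[R] μ ∈ N.comap (algebraMap (C ⊗[R] Rb) Gb) := by
    intro N hN μ hμ
    let Q := N.comap (algebraMap (C ⊗[R] Rb) Gb)
    have hQ : Q.IsPrime := Ideal.comap_isPrime _ _
    let P := Q.comap (algebraMap Rb (C ⊗[R] Rb))
    have hP : P.IsPrime := Ideal.comap_isPrime _ _
    have hPR : P.comap (algebraMap R Rb) = IsLocalRing.maximalIdeal R := by
      ext r
      rw [Ideal.mem_comap, Ideal.mem_comap]
      have h1 : algebraMap Rb (C ⊗[R] Rb) (algebraMap R Rb r) =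
          (algebraMap R C r) ⊗ₜ[R] (1 : Rb) := by
        show (1 : C) ⊗ₜ[R] (algebraMap R Rb r) = _
        rw [Algebra.algebraMap_eq_smul_one, Algebra.algebraMap_eq_smul_one,
          TensorProduct.smul_tmul]
      rw [h1, hcN N hN, ← IsScalarTower.algebraMap_apply R C G,
        ← IsLocalRing.maximalIdeal_comap (algebraMap R G), Ideal.mem_comap]
    have hPmax : P.IsMaximal :=
      Ideal.isMaximal_of_isIntegral_of_isMaximal_comap (R := R) P (by rw [hPR]; infer_instance)
    have hPeq : P = IsLocalRing.maximalIdeal Rb := IsLocalRing.eq_maximalIdeal hPmax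
    have : μ ∈ P := hPeq ▸ hμ
    exact this
  have huniq : ∀ N₁ N₂ : Ideal Gb, N₁.IsMaximal → N₂.IsMaximal → N₁ = N₂ := by
    intro N₁ N₂ hN₁ hN₂
    have hQ₁ : (N₁.comap (algebraMap (C ⊗[R] Rb) Gb)).IsPrime := Ideal.comap_isPrime _ _
    have hQ₂ : (N₂.comap (algebraMap (C ⊗[R] Rb) Gb)).IsPrime := Ideal.comap_isPrime _ _
    have hQeq := prime_eq_of_comap_eq (IsLocalRing.maximalIdeal Rb) p hp hres
      (N₁.comap (algebraMap (C ⊗[R] Rb) Gb)) (N₂.comap (algebraMap (C ⊗[R] Rb) Gb))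
      (hmN N₁ hN₁) (hmN N₂ hN₂) (fun c => (hcN N₁ hN₁ c).trans (hcN N₂ hN₂ c).symm)
    calc N₁ = Ideal.map (algebraMap (C ⊗[R] Rb) Gb) (N₁.comap (algebraMap (C ⊗[R] Rb) Gb)) :=
          (IsLocalization.map_under (Algebra.algebraMapSubmonoid (C ⊗[R] Rb) M) Gb N₁).symm
      _ = Ideal.map (algebraMap (C ⊗[R] Rb) Gb) (N₂.comap (algebraMap (C ⊗[R] Rb) Gb)) := by
          rw [hQeq]
      _ = N₂ := IsLocalization.map_under (Algebra.algebraMapSubmonoid (C ⊗[R] Rb) M) Gb N₂
  have hloc : IsLocalRing Gb := by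
    obtain ⟨N, hN⟩ := Ideal.exists_maximal Gb
    exact IsLocalRing.of_unique_max_ideal ⟨N, hN, fun N' hN' => huniq N' N hN' hN⟩
  obtain ⟨hdom, hic⟩ :=
    Groth.Agent.Lib.Helper24.EtaleNormal.isDomain_and_isIntegrallyClosed_of_localization_etale
      Rb (C ⊗[R] Rb) Gb (Algebra.algebraMapSubmonoid (C ⊗[R] Rb) M)
  have hdomG : IsDomain G := hιinj.isDomain (algebraMap G Gb)
  refine ⟨hdomG, ?_⟩
  have hintAlg : Algebra.IsIntegral G Gb := ⟨hιint⟩
  -- `R → G` is injective
  have hflatG : Module.Flat R G := by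
    have : Module.Flat C G := IsLocalization.flat G M
    exact Module.Flat.trans R C G
  have hff : Module.FaithfullyFlat R G := Module.FaithfullyFlat.of_flat_of_isLocalHom
  have hRG : Function.Injective (algebraMap R G) := FaithfulSMul.algebraMap_injective R G
  have hmemJ : ∀ μ ∈ IsLocalRing.maximalIdeal Rb, (1 : C) ⊗ₜ[R] μ ∈
      (IsLocalRing.maximalIdeal Gb).comap (algebraMap (C ⊗[R] Rb) Gb) :=
    hmN _ (IsLocalRing.maximalIdeal.isMaximal Gb)
  -- every element of `Gb` is a fraction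
  have hfrac : ∀ z : Gb, ∃ (w : C ⊗[R] Rb) (t₀ : C), t₀ ∈ M ∧
      z * algebraMap G Gb (algebraMap C G t₀) = algebraMap (C ⊗[R] Rb) Gb w := by
    intro z
    obtain ⟨⟨w, ⟨t, t₀, ht₀, rfl⟩⟩, hz⟩ :=
      IsLocalization.surj (Algebra.algebraMapSubmonoid (C ⊗[R] Rb) M) z
    refine ⟨w, t₀, ht₀, ?_⟩
    rw [hcompat]
    exact hz
  have hunitG : ∀ t₀ ∈ M, IsUnit (algebraMap C G t₀) := fun t₀ ht₀ =>
    IsLocalization.map_units G (⟨t₀, ht₀⟩ : M)
  refine isGeomUnibranch_of_normal_cover G Gb hιinj ?_ p ?_ ?_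
  · -- denominators
    intro z
    obtain ⟨w, t₀, ht₀, hz⟩ := hfrac z
    obtain ⟨s, hs, c, hsc⟩ := exists_smul_eq_tmul_one (C := C) hden w
    refine ⟨algebraMap R G s, fun h => hs (hRG (h.trans (map_zero _).symm)), ?_⟩
    obtain ⟨u, hu⟩ := hunitG t₀ ht₀
    refine ⟨↑u⁻¹ * algebraMap C G c, ?_⟩
    have hu' : IsUnit (algebraMap G Gb (algebraMap C G t₀)) := (hunitG t₀ ht₀).map _
    apply hu'.mul_left_injective
    show algebraMap G Gb (algebraMap R G s) * z * algebraMap G Gb (algebraMap C G t₀) =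
      algebraMap G Gb (↑u⁻¹ * algebraMap C G c) * algebraMap G Gb (algebraMap C G t₀)
    rw [mul_assoc, hz, ← map_mul (algebraMap G Gb), ← hu, mul_assoc, mul_comm _ (u : G),
      ← mul_assoc, Units.inv_mul, one_mul, IsScalarTower.algebraMap_apply R C G, hcompat, hcompat,
      ← map_mul, ← hsc, Algebra.smul_def]
    rfl
  · -- exponential characteristic
    have hle : IsLocalRing.maximalIdeal Rb ≤
        (IsLocalRing.maximalIdeal Gb).comap (algebraMap Rb Gb) := by
      intro μ hμ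
      have := hmemJ μ hμ
      rw [Ideal.mem_comap] at this ⊢
      rw [IsScalarTower.algebraMap_apply Rb (C ⊗[R] Rb) Gb]
      exact this
    let ψ : Rb ⧸ IsLocalRing.maximalIdeal Rb →+* Gb ⧸ IsLocalRing.maximalIdeal Gb :=
      Ideal.quotientMap _ (algebraMap Rb Gb) hle
    let _ : Field (Rb ⧸ IsLocalRing.maximalIdeal Rb) :=
      Ideal.Quotient.field (IsLocalRing.maximalIdeal Rb)
    have : Nontrivial (Gb ⧸ IsLocalRing.maximalIdeal Gb) :=
      Ideal.Quotient.nontrivial_iff.2 (IsLocalRing.maximalIdeal.isMaximal Gb).ne_top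
    exact expChar_of_injective_ringHom (RingHom.injective ψ) p
  · -- residue condition
    intro z
    obtain ⟨w, t₀, ht₀, hz⟩ := hfrac z
    obtain ⟨n, c, hnc⟩ := exists_pow_sub_mem (C := C) (IsLocalRing.maximalIdeal Rb) p hp hres
      ((IsLocalRing.maximalIdeal Gb).comap (algebraMap (C ⊗[R] Rb) Gb)) hmemJ w
    obtain ⟨u, hu⟩ := hunitG t₀ ht₀
    refine ⟨n, ↑(u⁻¹ ^ p ^ n) * algebraMap C G c, ?_⟩
    have hu' : IsUnit (algebraMap G Gb (algebraMap C G t₀) ^ p ^ n) :=
      ((hunitG t₀ ht₀).map _).pow _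
    rw [← Ideal.mul_unit_mem_iff_mem _ hu', sub_mul, ← mul_pow, hz, ← map_pow (algebraMap G Gb),
      ← map_mul (algebraMap G Gb), ← hu]
    have h1 : ↑(u⁻¹ ^ p ^ n) * algebraMap C G c * (u : G) ^ p ^ n = algebraMap C G c := by
      rw [mul_comm, ← mul_assoc, ← Units.val_pow_eq_pow_val, ← Units.val_mul, inv_pow,
        mul_inv_cancel, Units.val_one, one_mul]
    rw [h1, hcompat, ← map_pow, ← map_sub]
    exact hnc

end Groth.Agent.Lib.helper9.UnramCore
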