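import Mathlib
import Groth.Agent.Lib.Helper9.UnramGUAscent2

/-!
# Transfer of properties of local rings of étale algebras from `A_p` to `(A, p)` (helper9)
-/

set_option autoImplicit false

namespace Groth.Agent.Lib.helper9.UnramCore

universe u

open Algebra TensorProduct

attribute [local instance] Algebra.TensorProduct.rightAlgebra in
/-- A property `Φ` of all local rings of étale `R`-algebras dominating `R = A_p` holds for all
localizations `G = C_{q'}` of étale `A`-algebras `C` at primes `q'` over `p`. -/
theorem transfer_local {A : Type u} [CommRing A] (p : Ideal A) [p.IsPrime] (R : Type u)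
    [CommRing R] [Algebra A R] [IsLocalization.AtPrime R p]
    (Φ : ∀ (G : Type u) [CommRing G], Prop)
    (h : ∀ (C G : Type u) [CommRing C] [Algebra R C] [Algebra.Etale R C] [CommRing G]
      [Algebra C G] [Algebra R G] [IsScalarTower R C G] (M : Submonoid C) [IsLocalization M G]
      [IsLocalRing G] [IsLocalHom (algebraMap R G)], Φ G)
    (C : Type u) [CommRing C] [Algebra A C] [Algebra.Etale A C] (q' : Ideal C) [q'.IsPrime]
    (hq' : q'.under A = p) (G : Type u) [CommRing G] [Algebra C G]
    [IsLocalization.AtPrime G q'] : Φ G := by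
  let algAG : Algebra A G := ((algebraMap C G).comp (algebraMap A C)).toAlgebra
  have st0 : IsScalarTower A C G := .of_algebraMap_eq' rfl
  have hlocG : IsLocalRing G := IsLocalization.AtPrime.isLocalRing G q'
  have hmem : ∀ y : A, y ∉ p → algebraMap A C y ∉ q' := by
    intro y hy hy'
    apply hy
    rw [← hq']
    exact hy'
  have hunits : ∀ y : p.primeCompl, IsUnit (algebraMap A G y) := by
    intro y
    rw [IsScalarTower.algebraMap_apply A C G]
    exact IsLocalization.map_units G (⟨algebraMap A C y, hmem y y.2⟩ : q'.primeCompl)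
  let ρ : R →+* G := IsLocalization.lift (M := p.primeCompl) hunits
  let algRG : Algebra R G := ρ.toAlgebra
  have st1 : IsScalarTower A R G := .of_algebraMap_eq' (IsLocalization.lift_comp hunits).symm
  let μ : R ⊗[A] C →ₐ[A] G :=
    Algebra.TensorProduct.productMap (IsScalarTower.toAlgHom A R G) (IsScalarTower.toAlgHom A C G)
  let algCRG : Algebra (R ⊗[A] C) G := μ.toRingHom.toAlgebra
  have st2 : IsScalarTower R (R ⊗[A] C) G := by
    refine .of_algebraMap_eq fun r => ?_
    show ρ r = μ (r ⊗ₜ 1)
    simp [μ, RingHom.algebraMap_toAlgebra]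
  have st3 : IsScalarTower C (R ⊗[A] C) G := by
    refine .of_algebraMap_eq fun c => ?_
    show algebraMap C G c = μ (1 ⊗ₜ c)
    simp [μ]
  have hloc1 : IsLocalization (Algebra.algebraMapSubmonoid C p.primeCompl) (R ⊗[A] C) :=
    IsLocalization.tensorRight R p.primeCompl
  have hle : Algebra.algebraMapSubmonoid C p.primeCompl ≤ q'.primeCompl := by
    rintro _ ⟨y, hy, rfl⟩
    exact hmem y hy
  have hloc2 : IsLocalization (q'.primeCompl.map (algebraMap C (R ⊗[A] C))) G :=
    IsLocalization.isLocalization_of_submonoid_le (R ⊗[A] C) G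
      (Algebra.algebraMapSubmonoid C p.primeCompl) q'.primeCompl hle
  have hlh : IsLocalHom (algebraMap R G) := by
    constructor
    intro r hr
    obtain ⟨a, s, rfl⟩ := IsLocalization.exists_mk'_eq p.primeCompl r
    rw [IsLocalization.AtPrime.isUnit_mk'_iff R p]
    by_contra hap
    have hap' : a ∈ p := by simpa using hap
    have h1 : algebraMap A C a ∈ q' := by
      have : a ∈ q'.under A := hq' ▸ hap'
      exact this
    have h2 : IsUnit (algebraMap A G a) := by
      have h3 : algebraMap R G (IsLocalization.mk' R a s) * algebraMap A G s =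
          algebraMap A G a := by
        rw [IsScalarTower.algebraMap_apply A R G s, IsScalarTower.algebraMap_apply A R G a,
          ← map_mul, IsLocalization.mk'_spec]
      rw [← h3]
      exact hr.mul (hunits s)
    rw [IsScalarTower.algebraMap_apply A C G,
      IsLocalization.AtPrime.isUnit_to_map_iff G q'] at h2
    exact h2 h1
  exact h (R ⊗[A] C) G (q'.primeCompl.map (algebraMap C (R ⊗[A] C)))

end Groth.Agent.Lib.helper9.UnramCore
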