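import Mathlib
import Groth.Agent.Lib.Helper9.UnramTransfer
import Groth.Agent.Lib.Helper9.UnramGlobal

/-!
# Stalks of schemes étale over geometrically unibranch schemes (helper9)
-/

set_option autoImplicit false
set_option backward.isDefEq.respectTransparency false

namespace Groth.Agent.Lib.helper9.UnramGeom

open AlgebraicGeometry CategoryTheory Groth.Agent.Lib.helper9.UnramCore

universe u

/-- Étale on an open gives étale affine charts inside. -/
theorem etale_appLE_of_ι_comp {X Y : Scheme.{u}} (f : X ⟶ Y) {V : Y.Opens}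
    (hV : IsAffineOpen V) {W : X.Opens} (hW : IsAffineOpen W) (e : W ≤ f ⁻¹ᵁ V)
    {U : X.Opens} (hWU : W ≤ U) (h : Etale (U.ι ≫ f)) :
    (f.appLE V W e).hom.Etale := by
  have h0 : Etale (W.ι ≫ f) := by
    have h2 : W.ι ≫ f = X.homOfLE hWU ≫ (U.ι ≫ f) := by simp
    rw [h2]
    infer_instance
  have h1 : Etale (f.resLE V W e) := by
    rw [← Scheme.Hom.resLE_comp_ι f e] at h0
    exact Etale.of_comp (f.resLE V W e) V.ι
  have : IsAffine W := hW
  have : IsAffine V := hV
  have : (RingHom.toMorphismProperty RingHom.Etale).RespectsIso :=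
    RingHom.toMorphismProperty_respectsIso_iff.mp
      (HasRingHomProperty.isLocal_ringHomProperty @Etale).respectsIso
  rw [HasRingHomProperty.iff_of_isAffine (P := @Etale)] at h1
  exact (MorphismProperty.arrow_mk_iso_iff
    (RingHom.toMorphismProperty RingHom.Etale)
    (arrowResLEAppIso f V W e)).mp h1

/-- The stalk at a point with an étale affine chart over a geometrically unibranch local domain
is a geometrically unibranch domain. -/
theorem isGeomUnibranch_stalk_of_chart {X Y : Scheme.{u}} (f : X ⟶ Y) (x : X) {V : Y.Opens}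
    (hV : IsAffineOpen V) {W : X.Opens} (hW : IsAffineOpen W) (e : W ≤ f ⁻¹ᵁ V) (hxW : x ∈ W)
    (het : (f.appLE V W e).hom.Etale)
    (hY : IsDomain (Y.presheaf.stalk (f x)))
    (hY' : CAlg2.IsGeomUnibranch (Y.presheaf.stalk (f x))) :
    IsDomain (X.presheaf.stalk x) ∧ CAlg2.IsGeomUnibranch (X.presheaf.stalk x) := by
  have hfx : f x ∈ V := e hxW
  let algAB : Algebra Γ(Y, V) Γ(X, W) := (f.appLE V W e).hom.toAlgebra
  have het' : Algebra.Etale Γ(Y, V) Γ(X, W) := het
  have hqA : (hW.primeIdealOf ⟨x, hxW⟩).asIdeal.under Γ(Y, V) =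
      (hV.primeIdealOf ⟨f x, hfx⟩).asIdeal :=
    congrArg PrimeSpectrum.asIdeal (IsAffineOpen.comap_primeIdealOf_appLE V hV W hW e hxW)
  let algAS : Algebra Γ(Y, V) (Y.presheaf.stalk (f x)) :=
    TopCat.Presheaf.algebra_section_stalk Y.presheaf ⟨f x, hfx⟩
  have hlocS := hV.isLocalization_stalk ⟨f x, hfx⟩
  let algBS : Algebra Γ(X, W) (X.presheaf.stalk x) :=
    TopCat.Presheaf.algebra_section_stalk X.presheaf ⟨x, hxW⟩
  have hlocX := hW.isLocalization_stalk ⟨x, hxW⟩
  obtain ⟨hl, h1, h2⟩ := transfer_local (hV.primeIdealOf ⟨f x, hfx⟩).asIdeal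
    (Y.presheaf.stalk (f x))
    (fun G _ => ∃ (hl : IsLocalRing G), IsDomain G ∧ @CAlg2.IsGeomUnibranch G _ hl)
    (fun C G _ _ _ _ _ _ _ M _ hloc _ =>
      ⟨hloc, isGeomUnibranch_of_etale_local (Y.presheaf.stalk (f x)) hY' C G M⟩)
    Γ(X, W) (hW.primeIdealOf ⟨x, hxW⟩).asIdeal hqA (X.presheaf.stalk x)
  exact ⟨h1, h2⟩


/-- Statement-shaped: étale near `x` over a geometrically unibranch domain. -/
theorem isGeomUnibranch_stalk_of_etale_nhd {X Y : Scheme.{u}} (f : X ⟶ Y) (x : X)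
    (hY : IsDomain (Y.presheaf.stalk (f x)))
    (hY' : CAlg2.IsGeomUnibranch (Y.presheaf.stalk (f x)))
    (hf : ∃ U : X.Opens, x ∈ U ∧ Etale (U.ι ≫ f)) :
    IsDomain (X.presheaf.stalk x) ∧ CAlg2.IsGeomUnibranch (X.presheaf.stalk x) := by
  obtain ⟨U, hxU, hU⟩ := hf
  obtain ⟨V, hV, hfx, -⟩ := TopologicalSpace.Opens.isBasis_iff_nbhd.mp Y.isBasis_affineOpens
    (show f x ∈ (⊤ : Y.Opens) from trivial)
  obtain ⟨W, hW, hxW, hWle⟩ := TopologicalSpace.Opens.isBasis_iff_nbhd.mp X.isBasis_affineOpens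
    (show x ∈ f ⁻¹ᵁ V ⊓ U from ⟨hfx, hxU⟩)
  have e : W ≤ f ⁻¹ᵁ V := hWle.trans inf_le_left
  have hWU : W ≤ U := hWle.trans inf_le_right
  exact isGeomUnibranch_stalk_of_chart f x hV hW e hxW
    (etale_appLE_of_ι_comp f hV hW e hWU hU) hY hY'

/-- Statement-shaped global form. -/
theorem etale_isIntegral_geomUnibranch {X Y : Scheme.{u}} (f : X ⟶ Y) [IsIntegral Y]
    (hY : ∀ y : Y, CAlg2.IsGeomUnibranch (Y.presheaf.stalk y)) [ConnectedSpace X]
    [LocallyOfFiniteType f] [FormallyUnramified f] (hη : ∃ x : X, f x = genericPoint Y) :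
    Etale f ∧ IsIntegral X ∧ ∀ x : X, CAlg2.IsGeomUnibranch (X.presheaf.stalk x) := by
  obtain ⟨het, hirr⟩ := etale_and_irreducible f
    (fun y => euLoc_of_isGeomUnibranch _ (hY y)) (by obtain ⟨x, hx⟩ := hη; exact ⟨x, hx⟩)
  have hstalk : ∀ x : X, IsDomain (X.presheaf.stalk x) ∧
      CAlg2.IsGeomUnibranch (X.presheaf.stalk x) := fun x =>
    isGeomUnibranch_stalk_of_etale_nhd f x inferInstance (hY _)
      ⟨⊤, trivial, inferInstance⟩
  refine ⟨het, ?_, fun x => (hstalk x).2⟩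
  have : ∀ x : X, _root_.IsReduced (X.presheaf.stalk x) := fun x =>
    have := (hstalk x).1
    inferInstance
  have hred : IsReduced X := isReduced_of_isReduced_stalk X
  exact isIntegral_of_irreducibleSpace_of_isReduced X

end Groth.Agent.Lib.helper9.UnramGeom
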