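import Mathlib
import Groth.Agent.Lib.Helper9.UnramGURed
import Groth.Agent.Lib.Helper9.UnramGUGeom

/-!
# Irreducible components of a scheme étale over an irreducible geometrically unibranch scheme
(EGA IV 18.10.7) (helper9)
-/

set_option autoImplicit false
set_option backward.isDefEq.respectTransparency false

namespace Groth.Agent.Lib.helper9.UnramGeom

open AlgebraicGeometry CategoryTheory Groth.Agent.Lib.helper9.UnramCore

universe u

/-- Stalks of a scheme étale over a scheme whose stalk satisfies `EULocRed` have prime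
nilradical. -/
theorem nilradical_isPrime_stalk_of_etale {X Y : Scheme.{u}} (f : X ⟶ Y) [Etale f] (x : X)
    (hEU : EULocRed (Y.presheaf.stalk (f x))) : (nilradical (X.presheaf.stalk x)).IsPrime := by
  obtain ⟨V, hV, hfx, -⟩ := TopologicalSpace.Opens.isBasis_iff_nbhd.mp Y.isBasis_affineOpens
    (show f x ∈ (⊤ : Y.Opens) from trivial)
  obtain ⟨W, hW, hxW, e⟩ := TopologicalSpace.Opens.isBasis_iff_nbhd.mp X.isBasis_affineOpens
    (show x ∈ f ⁻¹ᵁ V from hfx)
  let algAB : Algebra Γ(Y, V) Γ(X, W) := (f.appLE V W e).hom.toAlgebra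
  have het : Algebra.Etale Γ(Y, V) Γ(X, W) :=
    HasRingHomProperty.appLE (P := @Etale) f inferInstance ⟨V, hV⟩ ⟨W, hW⟩ e
  have hqA : (hW.primeIdealOf ⟨x, hxW⟩).asIdeal.under Γ(Y, V) =
      (hV.primeIdealOf ⟨f x, hfx⟩).asIdeal :=
    congrArg PrimeSpectrum.asIdeal (IsAffineOpen.comap_primeIdealOf_appLE V hV W hW e hxW)
  let algAS : Algebra Γ(Y, V) (Y.presheaf.stalk (f x)) :=
    TopCat.Presheaf.algebra_section_stalk Y.presheaf ⟨f x, hfx⟩
  have hlocS := hV.isLocalization_stalk ⟨f x, hfx⟩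
  let algBS : Algebra Γ(X, W) (X.presheaf.stalk x) :=
    TopCat.Presheaf.algebra_section_stalk X.presheaf ⟨x, hxW⟩
  have hlocX := hW.isLocalization_stalk ⟨x, hxW⟩
  exact transfer_local (hV.primeIdealOf ⟨f x, hfx⟩).asIdeal
    (Y.presheaf.stalk (f x))
    (fun G _ => (nilradical G).IsPrime)
    (fun C G _ _ _ _ _ _ _ M _ _ _ => hEU C G M)
    Γ(X, W) (hW.primeIdealOf ⟨x, hxW⟩).asIdeal hqA (X.presheaf.stalk x)

theorem irreducibleComponents_of_etale {X Y : Scheme.{u}} (f : X ⟶ Y) [Etale f]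
    [IrreducibleSpace Y] (hY : ∀ y : Y, CAlg2.IsGeomUnibranch (Y.presheaf.stalk y)) :
    (∀ x : X, ∃! Z, Z ∈ irreducibleComponents ↥X ∧ x ∈ Z) ∧
    (∀ Z ∈ irreducibleComponents ↥X, IsOpen Z ∧ ∃! x : X, x ∈ Z ∧ f x = genericPoint Y) := by
  have hnil : ∀ x : X, (nilradical (X.presheaf.stalk x)).IsPrime := fun x =>
    nilradical_isPrime_stalk_of_etale f x (euLocRed_of_isGeomUnibranch _ (hY _))
  -- the minimal generization of a point
  let ξ : X → X := fun x =>
    X.fromSpecStalk x (⟨nilradical (X.presheaf.stalk x), hnil x⟩ : PrimeSpectrum _)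
  have hξ : ∀ x y : X, y ⤳ x → ξ x ⤳ y := by
    intro x y hy
    have hy' : y ∈ Set.range (X.fromSpecStalk x) := by
      rw [Scheme.range_fromSpecStalk]
      exact hy
    obtain ⟨P, rfl⟩ := hy'
    have h1 : (⟨nilradical (X.presheaf.stalk x), hnil x⟩ : PrimeSpectrum _) ⤳ P :=
      (PrimeSpectrum.le_iff_specializes _ _).1 (nilradical_le_prime P.asIdeal)
    exact h1.map (X.fromSpecStalk x).continuous
  have hξx : ∀ x, ξ x ⤳ x := fun x => hξ x x specializes_rfl
  have hlqf : LocallyQuasiFinite f := locallyQuasiFinite_of_unramified f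
  have hdisc : ∀ a b : X, f a = genericPoint Y → f b = genericPoint Y → a ⤳ b → a = b := by
    intro a b ha hb hab
    have hd := f.isDiscrete_preimage_singleton (genericPoint Y)
    have : DiscreteTopology (f ⁻¹' {genericPoint Y}) := hd.to_subtype
    have h1 : (⟨a, ha⟩ : f ⁻¹' {genericPoint Y}) ⤳ ⟨b, hb⟩ := (subtype_specializes_iff _ _).2 hab
    exact congrArg Subtype.val h1.eq
  have hgen : GeneralizingMap f := Flat.generalizingMap f
  have hfξ : ∀ x, f (ξ x) = genericPoint Y := by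
    intro x
    obtain ⟨z, hz, hfz⟩ := hgen (a := ξ x) (b := genericPoint Y) (genericPoint_specializes _)
    have h1 : ξ x ⤳ z := hξ x z (hz.trans (hξx x))
    have h2 : z = ξ x := (hz.antisymm h1).eq
    rw [← h2]
    exact hfz
  -- the component of a point
  have hcomp : ∀ x, closure {ξ x} ∈ irreducibleComponents X := by
    intro x
    refine ⟨isIrreducible_singleton.closure, ?_⟩
    intro s hs hle
    have hη := hs.isGenericPoint_genericPoint_closure
    have h1 : ξ x ∈ closure s := subset_closure (hle (subset_closure rfl))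
    have h2 : hs.genericPoint ⤳ ξ x := hη.specializes h1
    have h3 : ξ x ⤳ hs.genericPoint := hξ x _ (h2.trans (hξx x))
    have h4 : closure {hs.genericPoint} ⊆ closure {ξ x} :=
      (specializes_iff_closure_subset.1 h3)
    exact (subset_closure.trans hη.def.symm.subset).trans h4
  have hcomp_uniq : ∀ x, ∀ Z ∈ irreducibleComponents X, x ∈ Z → Z = closure {ξ x} := by
    intro x Z hZ hxZ
    have hZcl : IsClosed Z := isClosed_of_mem_irreducibleComponents Z hZ
    have hη := hZ.1.isGenericPoint_genericPoint hZcl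
    have h2 : hZ.1.genericPoint ⤳ x := hη.specializes hxZ
    have h3 : ξ x ⤳ hZ.1.genericPoint := hξ x _ h2
    have h4 : Z ⊆ closure {ξ x} := by
      rw [← hη.def]
      exact specializes_iff_closure_subset.1 h3
    exact subset_antisymm h4 (hZ.2 isIrreducible_singleton.closure h4)
  refine ⟨fun x => ⟨closure {ξ x}, ⟨hcomp x, specializes_iff_mem_closure.1 (hξx x)⟩,
    fun Z hZ => hcomp_uniq x Z hZ.1 hZ.2⟩, ?_⟩
  intro Z hZ
  have hZcl : IsClosed Z := isClosed_of_mem_irreducibleComponents Z hZ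
  have hη := hZ.1.isGenericPoint_genericPoint hZcl
  obtain ⟨η, hηdef⟩ : ∃ η, η = hZ.1.genericPoint := ⟨_, rfl⟩
  rw [← hηdef] at hη
  have hηZ : η ∈ Z := hη.mem
  have hZeq : Z = closure {ξ η} := hcomp_uniq η Z hZ hηZ
  have hξη : ξ η = η := by
    have h1 : η ⤳ ξ η := by
      rw [specializes_iff_mem_closure, hη.def, hZeq]
      exact subset_closure rfl
    exact ((hξx η).antisymm h1).eq
  have hfη : f η = genericPoint Y := hξη ▸ hfξ η
  have hZmem : ∀ w : X, ξ w = η → w ∈ Z := by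
    intro w hw
    rw [← hη.def, ← specializes_iff_mem_closure, ← hw]
    exact hξx w
  refine ⟨?_, η, ⟨hηZ, hfη⟩, ?_⟩
  · rw [isOpen_iff_forall_mem_open]
    intro x hx
    have hηx : η ⤳ x := hη.specializes hx
    obtain ⟨W, hxW, hfin⟩ := exists_nhd_finite_fibre f x (genericPoint Y)
    have hfin' : (((W : Set X) ∩ f ⁻¹' {genericPoint Y}) \ {η}).Finite := hfin.sdiff
    have hTcl : IsClosed (⋃ z ∈ ((W : Set X) ∩ f ⁻¹' {genericPoint Y}) \ {η}, closure {z}) :=
      hfin'.isClosed_biUnion fun _ _ => isClosed_closure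
    refine ⟨(W : Set X) ∩
      (⋃ z ∈ ((W : Set X) ∩ f ⁻¹' {genericPoint Y}) \ {η}, closure {z})ᶜ, ?_,
      W.isOpen.inter hTcl.isOpen_compl, ⟨hxW, ?_⟩⟩
    · rintro w ⟨hwW, hwT⟩
      have hw'W : ξ w ∈ W := (hξx w).mem_open W.isOpen hwW
      by_cases hw' : ξ w = η
      · exact hZmem w hw'
      · refine absurd ?_ hwT
        exact Set.mem_biUnion (x := ξ w)
          (show ξ w ∈ ((W : Set X) ∩ f ⁻¹' {genericPoint Y}) \ {η} from ⟨⟨hw'W, hfξ w⟩, hw'⟩)
          (specializes_iff_mem_closure.1 (hξx w))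
    · intro hxT
      obtain ⟨z, ⟨⟨hzW, hz⟩, hzη⟩, hxz⟩ := Set.mem_iUnion₂.1 hxT
      have hzx : z ⤳ x := specializes_iff_mem_closure.2 hxz
      have e1 : ξ x = η := hdisc (ξ x) η (hfξ x) hfη (hξ x η hηx)
      have e2 : ξ x = z := hdisc (ξ x) z (hfξ x) hz (hξ x z hzx)
      exact hzη (e2.symm.trans e1)
  · rintro x ⟨hxZ, hfx⟩
    exact (hdisc η x hfη hfx (hη.specializes hxZ)).symm

end Groth.Agent.Lib.helper9.UnramGeom
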