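import Mathlib
import Groth.Agent.Lib.Helper9.UnramGURedGeom

/-!
# Points with prime nilradical stalk lie on a unique irreducible component (helper9)
-/

set_option autoImplicit false
set_option backward.isDefEq.respectTransparency false

namespace Groth.Agent.Lib.helper9.UnramGeom

open AlgebraicGeometry CategoryTheory Groth.Agent.Lib.helper9.UnramCore

universe u

/-- A point whose stalk has prime nilradical lies on exactly one irreducible component. -/
theorem existsUnique_irreducibleComponent_of_nilradical_isPrime (X : Scheme.{u}) (x : X)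
    (hnil : (nilradical (X.presheaf.stalk x)).IsPrime) :
    ∃! Z, Z ∈ irreducibleComponents ↥X ∧ x ∈ Z := by
  let ξ : X := X.fromSpecStalk x (⟨nilradical (X.presheaf.stalk x), hnil⟩ : PrimeSpectrum _)
  have hξ : ∀ y : X, y ⤳ x → ξ ⤳ y := by
    intro y hy
    have hy' : y ∈ Set.range (X.fromSpecStalk x) := by
      rw [Scheme.range_fromSpecStalk]
      exact hy
    obtain ⟨P, rfl⟩ := hy'
    have h1 : (⟨nilradical (X.presheaf.stalk x), hnil⟩ : PrimeSpectrum _) ⤳ P :=
      (PrimeSpectrum.le_iff_specializes _ _).1 (nilradical_le_prime P.asIdeal)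
    exact h1.map (X.fromSpecStalk x).continuous
  have hξx : ξ ⤳ x := hξ x specializes_rfl
  have hcomp : closure {ξ} ∈ irreducibleComponents X := by
    refine ⟨isIrreducible_singleton.closure, ?_⟩
    intro s hs hle
    have hη := hs.isGenericPoint_genericPoint_closure
    have h1 : ξ ∈ closure s := subset_closure (hle (subset_closure rfl))
    have h2 : hs.genericPoint ⤳ ξ := hη.specializes h1
    have h3 : ξ ⤳ hs.genericPoint := hξ _ (h2.trans hξx)
    have h4 : closure {hs.genericPoint} ⊆ closure {ξ} :=
      (specializes_iff_closure_subset.1 h3)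
    exact (subset_closure.trans hη.def.symm.subset).trans h4
  refine ⟨closure {ξ}, ⟨hcomp, specializes_iff_mem_closure.1 hξx⟩, ?_⟩
  rintro Z ⟨hZ, hxZ⟩
  have hZcl : IsClosed Z := isClosed_of_mem_irreducibleComponents Z hZ
  have hη := hZ.1.isGenericPoint_genericPoint hZcl
  have h2 : hZ.1.genericPoint ⤳ x := hη.specializes hxZ
  have h3 : ξ ⤳ hZ.1.genericPoint := hξ _ h2
  have h4 : Z ⊆ closure {ξ} := by
    rw [← hη.def]
    exact specializes_iff_closure_subset.1 h3
  exact subset_antisymm h4 (hZ.2 isIrreducible_singleton.closure h4)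

/-- Étale neighbourhoods of a geometrically unibranch point are locally irreducible at the points
over it. -/
theorem encard_components_eq_one_of_etale {U X : Scheme.{u}} (g : U ⟶ X) [Etale g] (u : U)
    (h : CAlg2.IsGeomUnibranch (X.presheaf.stalk (g u))) :
    {Z : Set ↑U | Z ∈ irreducibleComponents ↑U ∧ u ∈ Z}.encard = 1 := by
  have hnil : (nilradical (U.presheaf.stalk u)).IsPrime :=
    nilradical_isPrime_stalk_of_etale g u (euLocRed_of_isGeomUnibranch _ h)
  obtain ⟨Z, hZ, huniq⟩ := existsUnique_irreducibleComponent_of_nilradical_isPrime U u hnil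
  rw [Set.encard_eq_one]
  refine ⟨Z, ?_⟩
  ext Z'
  simp only [Set.mem_ofPred_eq, Set.mem_singleton_iff]
  constructor
  · intro hZ'
    exact huniq Z' hZ'
  · rintro rfl
    exact hZ

end Groth.Agent.Lib.helper9.UnramGeom
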