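import Mathlib
import Groth.Prelude.Def_CAlg2
import Groth.Prelude.Def_CAlgX
import Groth.Prelude.Def_Hensel
import Groth.Agent.Lib.Helper9.UnramGURed
import Groth.Agent.Lib.Helper24.StrictHensProps

/-!
# Geometrically unibranch ⟹ the strict henselization has prime nilradical (helper9)
-/

set_option autoImplicit false

namespace Groth.Agent.Lib.helper9.UnramCore

universe u

open Algebra TensorProduct IsLocalRing

section Forward

open Groth.Agent.Lib.Helper24.StrictHens Groth.Agent.Lib.Helper24.StrictHens.SIdx

variable {A : Type u} [CommRing A] [IsLocalRing A] {Ω : Type u} [Field Ω] [Algebra A Ω]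
  [Algebra (ResidueField A) Ω] [IsScalarTower A (ResidueField A) Ω]

theorem nilradical_isPrime_stage (h : EULocRed A) (i : SIdx A Ω) : (nilradical i.G).IsPrime :=
  h i.C i.G i.q.primeCompl

theorem nilradical_isPrime_SHens (h : EULocRed A) : (nilradical (SHens A Ω)).IsPrime := by
  rw [Ideal.isPrime_iff]
  constructor
  · intro htop
    have h1 : (1 : SHens A Ω) ∈ nilradical (SHens A Ω) := htop ▸ Submodule.mem_top
    exact not_isNilpotent_one (mem_nilradical.1 h1)
  · intro z w hzw
    obtain ⟨i, x, rfl⟩ := exists_ofS z
    obtain ⟨j, y, rfl⟩ := exists_ofS w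
    obtain ⟨m, him, hjm⟩ := exists_ge_ge i j
    obtain ⟨n, hn⟩ := mem_nilradical.1 hzw
    rw [← ofS_tr i m him, ← ofS_tr j m hjm, ← map_mul, ← map_pow] at hn
    obtain ⟨k, hmk, hk⟩ := ofS_eq_zero hn
    rw [map_pow, map_mul] at hk
    have hp := nilradical_isPrime_stage h k
    have h1 : tr m k hmk (tr i m him x) * tr m k hmk (tr j m hjm y) ∈ nilradical k.G :=
      mem_nilradical.2 ⟨n, hk⟩
    rcases hp.mem_or_mem h1 with h2 | h2
    · left
      rw [← ofS_tr i m him, ← ofS_tr m k hmk]
      exact mem_nilradical.2 ((mem_nilradical.1 h2).map (ofS k))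
    · right
      rw [← ofS_tr j m hjm, ← ofS_tr m k hmk]
      exact mem_nilradical.2 ((mem_nilradical.1 h2).map (ofS k))

end Forward

/-- Prime nilradical transfers along ring isomorphisms. -/
theorem nilradical_isPrime_of_injective {T T' : Type*} [CommRing T] [CommRing T'] (f : T →+* T')
    (hf : Function.Injective f) (h : (nilradical T').IsPrime) : (nilradical T).IsPrime := by
  have e : nilradical T = (nilradical T').comap f := by
    ext x
    rw [Ideal.mem_comap, mem_nilradical, mem_nilradical]
    constructor
    · intro hx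
      exact hx.map f
    · rintro ⟨n, hn⟩
      refine ⟨n, hf ?_⟩
      rw [map_pow, hn, map_zero]
  rw [e]
  exact Ideal.comap_isPrime f _

/-- A geometrically unibranch local ring has a strict henselization with prime nilradical. -/
theorem nilradical_isPrime_of_isGeomUnibranch (A S : Type u) [CommRing A] [IsLocalRing A]
    [CommRing S] [IsLocalRing S] [Algebra A S] [IsLocalHom (algebraMap A S)]
    [Hensel.IsStrictHenselization A S] (h : CAlg2.IsGeomUnibranch A) :
    (nilradical S).IsPrime := by
  obtain ⟨e⟩ := Groth.Agent.Lib.Helper24.StrictHens.exists_algEquiv_SH A S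
  have h1 : (nilradical (Groth.Agent.Lib.Helper24.StrictHens.SH A)).IsPrime :=
    nilradical_isPrime_SHens (euLocRed_of_isGeomUnibranch A h)
  exact nilradical_isPrime_of_injective e.symm.toRingHom e.symm.injective h1

end Groth.Agent.Lib.helper9.UnramCore
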