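import Mathlib
import Groth.Agent.Lib.Helper9.UnramSH

/-!
# Prime nilradical of localizations from uniqueness of minimal primes; stagewise criterion
for the strict henselization (helper9)
-/

set_option autoImplicit false

namespace Groth.Agent.Lib.helper9.UnramCore

universe u

open Algebra TensorProduct IsLocalRing

/-- If exactly one minimal prime of `E` lies below `q₀`, the localization at `q₀` has prime
nilradical. -/
theorem nilradical_isPrime_of_unique_minimalPrime_le {E L : Type*} [CommRing E] [CommRing L]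
    [Algebra E L] (q₀ : Ideal E) [q₀.IsPrime] [IsLocalization.AtPrime L q₀]
    (huniq : ∀ P₁ ∈ minimalPrimes E, ∀ P₂ ∈ minimalPrimes E, P₁ ≤ q₀ → P₂ ≤ q₀ → P₁ = P₂) :
    (nilradical L).IsPrime := by
  obtain ⟨P, hP, hPq⟩ := Ideal.exists_minimalPrimes_le (bot_le : (⊥ : Ideal E) ≤ q₀)
  have hPprime : P.IsPrime := hP.1.1
  have hdisj : Disjoint (q₀.primeCompl : Set E) (P : Set E) := by
    rw [Set.disjoint_left]
    intro a ha haP
    exact ha (hPq haP)
  have hPL : (P.map (algebraMap E L)).IsPrime :=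
    IsLocalization.isPrime_of_isPrime_disjoint q₀.primeCompl L P hPprime hdisj
  have heq : nilradical L = P.map (algebraMap E L) := by
    apply le_antisymm
    · exact nilradical_le_prime _
    · rw [Ideal.map_le_iff_le_comap]
      intro a ha
      rw [Ideal.mem_comap, nilradical_eq_sInf, Ideal.mem_sInf]
      intro Q' hQ'
      have hQ'p : Q'.IsPrime := hQ'
      have hQp : (Q'.comap (algebraMap E L)).IsPrime := Ideal.comap_isPrime _ _
      have hQle : Q'.comap (algebraMap E L) ≤ q₀ := by
        intro s hs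
        by_contra hsq
        have hu : IsUnit (algebraMap E L s) :=
          IsLocalization.map_units L (⟨s, hsq⟩ : q₀.primeCompl)
        exact hQ'p.ne_top (Ideal.eq_top_of_isUnit_mem _ hs hu)
      obtain ⟨P', hP', hP'Q⟩ := Ideal.exists_minimalPrimes_le
        (bot_le : (⊥ : Ideal E) ≤ Q'.comap (algebraMap E L))
      have hP'P : P' = P := huniq P' hP' P hP (hP'Q.trans hQle) hPq
      exact hP'Q (hP'P ▸ ha)
  rw [heq]
  exact hPL

attribute [local instance] Algebra.TensorProduct.rightAlgebra in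
/-- Local rings of a base change `A ⊗[R₀] E₀` (`A = (R₀)_{p'}`) have prime nilradical as soon as
the corresponding prime of `E₀` contains a unique minimal prime. -/
theorem nilradical_isPrime_of_baseChange_equiv {R₀ A E₀ C G : Type u} [CommRing R₀] [CommRing A]
    [CommRing E₀] [CommRing C] [CommRing G] [Algebra R₀ A] [Algebra R₀ E₀] [Algebra A C]
    (p' : Ideal R₀) [p'.IsPrime] [IsLocalization.AtPrime A p'] (e : A ⊗[R₀] E₀ ≃ₐ[A] C)
    (q : Ideal C) [q.IsPrime] [Algebra C G] [IsLocalization.AtPrime G q]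
    (huniq : ∀ P₁ ∈ minimalPrimes E₀, ∀ P₂ ∈ minimalPrimes E₀,
      P₁ ≤ q.comap ((e : A ⊗[R₀] E₀ →+* C).comp
        (algebraMap E₀ (A ⊗[R₀] E₀))) →
      P₂ ≤ q.comap ((e : A ⊗[R₀] E₀ →+* C).comp
        (algebraMap E₀ (A ⊗[R₀] E₀))) → P₁ = P₂) :
    (nilradical G).IsPrime := by
  let φ : E₀ →+* C := (e : A ⊗[R₀] E₀ →+* C).comp (algebraMap E₀ (A ⊗[R₀] E₀))
  let algE₀C : Algebra E₀ C := φ.toAlgebra
  let algE₀G : Algebra E₀ G := ((algebraMap C G).comp φ).toAlgebra
  have st : IsScalarTower E₀ C G := .of_algebraMap_eq' rfl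
  have hloc1 : IsLocalization (Algebra.algebraMapSubmonoid E₀ p'.primeCompl) (A ⊗[R₀] E₀) :=
    IsLocalization.tensorRight A p'.primeCompl
  let e' : (A ⊗[R₀] E₀) ≃ₐ[E₀] C :=
    { e.toRingEquiv with commutes' := fun x => rfl }
  have hloc2 : IsLocalization (Algebra.algebraMapSubmonoid E₀ p'.primeCompl) C :=
    IsLocalization.isLocalization_of_algEquiv _ e'
  have hloc3 : IsLocalization.AtPrime G (q.comap (algebraMap E₀ C)) :=
    IsLocalization.isLocalization_isLocalization_atPrime_isLocalization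
      (Algebra.algebraMapSubmonoid E₀ p'.primeCompl) G q
  have hq₀ : (q.comap (algebraMap E₀ C)).IsPrime := Ideal.comap_isPrime _ _
  exact nilradical_isPrime_of_unique_minimalPrime_le (q.comap (algebraMap E₀ C)) huniq

section Stage

open Groth.Agent.Lib.Helper24.StrictHens Groth.Agent.Lib.Helper24.StrictHens.SIdx

variable {A : Type u} [CommRing A] [IsLocalRing A] {Ω : Type u} [Field Ω] [Algebra A Ω]
  [Algebra (ResidueField A) Ω] [IsScalarTower A (ResidueField A) Ω]

theorem nilradical_isPrime_SHens_of_stage (h : ∀ i : SIdx A Ω, (nilradical i.G).IsPrime) :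
    (nilradical (SHens A Ω)).IsPrime := by
  rw [Ideal.isPrime_iff]
  constructor
  · intro htop
    have h1 : (1 : SHens A Ω) ∈ nilradical (SHens A Ω) := htop ▸ Submodule.mem_top
    exact not_isNilpotent_one (mem_nilradical.1 h1)
  · intro z w hzw
    obtain ⟨i, x, rfl⟩ := exists_ofS z
    obtain ⟨j, y, rfl⟩ := exists_ofS w
    obtain ⟨m, him, hjm⟩ := exists_ge_ge i j
    obtain ⟨n, hn⟩ := mem_nilradical.1 hzw
    rw [← ofS_tr i m him, ← ofS_tr j m hjm, ← map_mul, ← map_pow] at hn
    obtain ⟨k, hmk, hk⟩ := ofS_eq_zero hn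
    rw [map_pow, map_mul] at hk
    have hp := h k
    have h1 : tr m k hmk (tr i m him x) * tr m k hmk (tr j m hjm y) ∈ nilradical k.G :=
      mem_nilradical.2 ⟨n, hk⟩
    rcases hp.mem_or_mem h1 with h2 | h2
    · left
      rw [← ofS_tr i m him, ← ofS_tr m k hmk]
      exact mem_nilradical.2 ((mem_nilradical.1 h2).map (ofS k))
    · right
      rw [← ofS_tr j m hjm, ← ofS_tr m k hmk]
      exact mem_nilradical.2 ((mem_nilradical.1 h2).map (ofS k))

end Stage

end Groth.Agent.Lib.helper9.UnramCore
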