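import Mathlib

/-!
# Purely inseparable extensions via locality of `k' ⊗ Ω` (helper9)
-/

set_option autoImplicit false

namespace Groth.Agent.Lib.helper9.UnramCore

universe u

open Algebra TensorProduct Polynomial

/-- If `k'/k` is algebraic, `Ω` is separably closed and `k' ⊗[k] Ω` is a local ring, then every
element of `k'` separable over `k` lies in `k`. -/
theorem mem_range_of_isSeparable_of_isLocalRing_tensor (k k' Ω : Type u) [Field k] [Field k']
    [Field Ω] [Algebra k k'] [Algebra k Ω] [Algebra.IsAlgebraic k k'] [IsSepClosed Ω]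
    (hloc : IsLocalRing (k' ⊗[k] Ω)) (x : k') (hx : IsSeparable k x) :
    x ∈ (algebraMap k k').range := by
  classical
  have hint : IsIntegral k x := (Algebra.IsAlgebraic.isAlgebraic x).isIntegral
  rw [← minpoly.natDegree_eq_one_iff]
  by_contra hne
  have hpos : 0 < (minpoly k x).natDegree := minpoly.natDegree_pos hint
  have h2 : 2 ≤ (minpoly k x).natDegree := by omega
  have hsplit : ((minpoly k x).map (algebraMap k Ω)).Splits :=
    IsSepClosed.splits_codomain _ hx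
  have hcard : Fintype.card ((minpoly k x).rootSet Ω) = (minpoly k x).natDegree :=
    card_rootSet_eq_natDegree hx hsplit
  have hcard2 : 1 < Fintype.card ((minpoly k x).rootSet Ω) := by omega
  obtain ⟨⟨α, hα⟩, ⟨β, hβ⟩, hαβ⟩ := Fintype.exists_pair_of_one_lt_card hcard2
  have hαβ' : α ≠ β := fun h => hαβ (Subtype.ext h)
  -- the algebraic closure of `Ω`
  let Ωb := AlgebraicClosure Ω
  have hK' : ∀ s : k', IsIntegral k s ∧ ((minpoly k s).map (algebraMap k Ωb)).Splits := fun s =>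
    ⟨(Algebra.IsAlgebraic.isAlgebraic s).isIntegral, IsAlgClosed.splits _⟩
  have hnonunit : ∀ γ : Ω, γ ∈ (minpoly k x).rootSet Ω →
      ¬ IsUnit (x ⊗ₜ[k] (1 : Ω) - (1 : k') ⊗ₜ[k] γ) := by
    intro γ hγ hu
    have hγ0 : aeval γ (minpoly k x) = 0 := (mem_rootSet.1 hγ).2
    have hy : aeval (algebraMap Ω Ωb γ) (minpoly k x) = 0 := by
      rw [aeval_algebraMap_apply, hγ0, map_zero]
    obtain ⟨σ, hσ⟩ := IntermediateField.exists_algHom_of_splits_of_aeval hK' hy
    let φ : k' ⊗[k] Ω →ₐ[k] Ωb :=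
      Algebra.TensorProduct.productMap σ (IsScalarTower.toAlgHom k Ω Ωb)
    have h0 : φ (x ⊗ₜ[k] (1 : Ω) - (1 : k') ⊗ₜ[k] γ) = 0 := by
      simp [φ, hσ]
    have := hu.map φ
    rw [h0] at this
    exact not_isUnit_zero this
  have h1 := hnonunit α hα
  have h3 := hnonunit β hβ
  have hsub : ¬ IsUnit ((x ⊗ₜ[k] (1 : Ω) - (1 : k') ⊗ₜ[k] β) -
      (x ⊗ₜ[k] (1 : Ω) - (1 : k') ⊗ₜ[k] α)) := by
    intro hu
    have hm1 : (x ⊗ₜ[k] (1 : Ω) - (1 : k') ⊗ₜ[k] α) ∈ IsLocalRing.maximalIdeal (k' ⊗[k] Ω) :=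
      (IsLocalRing.mem_maximalIdeal _).2 h1
    have hm2 : (x ⊗ₜ[k] (1 : Ω) - (1 : k') ⊗ₜ[k] β) ∈ IsLocalRing.maximalIdeal (k' ⊗[k] Ω) :=
      (IsLocalRing.mem_maximalIdeal _).2 h3
    exact (IsLocalRing.mem_maximalIdeal _).1
      ((IsLocalRing.maximalIdeal (k' ⊗[k] Ω)).sub_mem hm2 hm1) hu
  apply hsub
  have e : (x ⊗ₜ[k] (1 : Ω) - (1 : k') ⊗ₜ[k] β) - (x ⊗ₜ[k] (1 : Ω) - (1 : k') ⊗ₜ[k] α) =
      (1 : k') ⊗ₜ[k] (α - β) := by
    rw [TensorProduct.tmul_sub]; ring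
  rw [e]
  have hu : IsUnit (α - β) := isUnit_iff_ne_zero.2 (sub_ne_zero.2 hαβ')
  exact hu.map (Algebra.TensorProduct.includeRight : Ω →ₐ[k] k' ⊗[k] Ω)

/-- If `k'/k` is algebraic, `Ω` separably closed and `k' ⊗[k] Ω` is local, then `k'/k` is purely
inseparable. -/
theorem isPurelyInseparable_of_isLocalRing_tensor (k k' Ω : Type u) [Field k] [Field k']
    [Field Ω] [Algebra k k'] [Algebra k Ω] [Algebra.IsAlgebraic k k'] [IsSepClosed Ω]
    (hloc : IsLocalRing (k' ⊗[k] Ω)) : IsPurelyInseparable k k' where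
  isIntegral := Algebra.IsAlgebraic.isIntegral
  inseparable' x hx := mem_range_of_isSeparable_of_isLocalRing_tensor k k' Ω hloc x hx

end Groth.Agent.Lib.helper9.UnramCore
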