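import Mathlib
import Groth.Prelude.Def_CAlg2
import Groth.Prelude.Def_Hensel
import Groth.Agent.Lib.Helper9.UnramSH
import Groth.Agent.Lib.Helper9.UnramSHField
import Groth.Agent.Lib.Helper24.Unibranch

/-!
# Prime nilradical of the strict henselization ⟹ geometrically unibranch (helper9)
-/

set_option autoImplicit false

namespace Groth.Agent.Lib.helper9.UnramCore

universe u

open Algebra TensorProduct IsLocalRing

theorem eq_zero_of_isIdempotentElem_of_isNilpotent {T : Type*} [CommRing T] {e : T}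
    (he : IsIdempotentElem e) (hn : IsNilpotent e) : e = 0 := by
  obtain ⟨n, hn⟩ := hn
  cases n with
  | zero =>
    rw [pow_zero] at hn
    rw [← mul_one e, hn, mul_zero]
  | succ n =>
    rw [he.pow_succ_eq] at hn
    exact hn

/-- An integral algebra with prime nilradical over a henselian local ring is local. -/
theorem isLocalRing_of_integral_of_nilradical_isPrime (S T : Type u) [CommRing S]
    [HenselianLocalRing S] [CommRing T] [Algebra S T] [Algebra.IsIntegral S T]
    (hT : (nilradical T).IsPrime) : IsLocalRing T := by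
  have hnt : Nontrivial T := by
    refine ⟨⟨0, 1, fun h => ?_⟩⟩
    apply hT.ne_top
    rw [Ideal.eq_top_iff_one, ← h]
    exact zero_mem _
  apply IsLocalRing.of_isUnit_or_isUnit_one_sub_self
  intro a
  have hfin : Module.Finite S (Algebra.adjoin S {a}) :=
    Module.Finite.iff_fg.2 (IsIntegral.fg_adjoin_singleton (Algebra.IsIntegral.isIntegral a))
  have hloc₁ : IsLocalRing (Algebra.adjoin S {a}) := by
    obtain ⟨M₁, hM₁⟩ := Ideal.exists_maximal (Algebra.adjoin S {a})
    refine IsLocalRing.of_unique_max_ideal ⟨M₁, hM₁, fun M₂ hM₂ => ?_⟩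
    by_contra hne
    obtain ⟨e, he, h1, h2⟩ :=
      Groth.Agent.Lib.helper24.HenselLocal.exists_idempotent_separating S M₂ M₁ hne
    have he' : IsIdempotentElem (e : T) := by
      have := congrArg Subtype.val he.eq
      exact this
    have h0 : (e : T) * (1 - (e : T)) = 0 := by rw [mul_sub, mul_one, he'.eq, sub_self]
    have hmem : (e : T) * (1 - (e : T)) ∈ nilradical T := h0 ▸ zero_mem _
    rcases hT.mem_or_mem hmem with h | h
    · have h3 : (e : T) = 0 := eq_zero_of_isIdempotentElem_of_isNilpotent he' (mem_nilradical.1 h)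
      have h4 : e = 0 := Subtype.ext h3
      rw [h4, sub_zero] at h1
      exact hM₂.ne_top ((Ideal.eq_top_iff_one _).2 h1)
    · have h3 : (1 - (e : T)) = 0 :=
        eq_zero_of_isIdempotentElem_of_isNilpotent he'.one_sub (mem_nilradical.1 h)
      have h4 : e = 1 := by
        apply Subtype.ext
        rw [sub_eq_zero] at h3
        exact h3.symm
      rw [h4] at h2
      exact hM₁.ne_top ((Ideal.eq_top_iff_one _).2 h2)
  rcases IsLocalRing.isUnit_or_isUnit_one_sub_self
    (⟨a, Algebra.subset_adjoin (Set.mem_singleton a)⟩ : Algebra.adjoin S {a}) with hu | hu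
  · left
    exact hu.map (Algebra.adjoin S {a}).val
  · right
    exact hu.map (Algebra.adjoin S {a}).val

/-- Clearing denominators in `S ⊗ K`. -/
theorem exists_smul_eq_tmul_one' {A S K : Type u} [CommRing A] [CommRing S] [Field K]
    [Algebra A S] [Algebra A K]
    (hden : ∀ x : K, ∃ a : A, algebraMap A K a ≠ 0 ∧
      ∃ a' : A, algebraMap A K a * x = algebraMap A K a')
    (w : S ⊗[A] K) : ∃ a : A, algebraMap A K a ≠ 0 ∧ ∃ s : S, a • w = s ⊗ₜ[A] (1 : K) := by
  induction w using TensorProduct.induction_on with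
  | zero => exact ⟨1, by simp, 0, by simp⟩
  | tmul s x =>
    obtain ⟨a, ha, a', hr⟩ := hden x
    refine ⟨a, ha, a' • s, ?_⟩
    rw [TensorProduct.smul_tmul', TensorProduct.smul_tmul, TensorProduct.smul_tmul,
      Algebra.smul_def, hr, Algebra.smul_def, mul_one]
  | add w₁ w₂ h₁ h₂ =>
    obtain ⟨a₁, ha₁, s₁, e₁⟩ := h₁
    obtain ⟨a₂, ha₂, s₂, e₂⟩ := h₂
    refine ⟨a₁ * a₂, by rw [map_mul]; exact mul_ne_zero ha₁ ha₂, a₂ • s₁ + a₁ • s₂, ?_⟩
    rw [smul_add, mul_comm a₁ a₂, mul_smul, e₁, mul_comm a₂ a₁, mul_smul, e₂,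
      TensorProduct.add_tmul, TensorProduct.smul_tmul', TensorProduct.smul_tmul']

/-- `S ⊗ K` has prime nilradical when `S` does, `S` is flat, and `A → K` has nil kernel. -/
theorem nilradical_isPrime_tensor_of_flat {A S K : Type u} [CommRing A] [CommRing S] [Field K]
    [Algebra A S] [Algebra A K] [Module.Flat A S] (hS : (nilradical S).IsPrime)
    (hker : ∀ a : A, algebraMap A K a = 0 → IsNilpotent a)
    (hden : ∀ x : K, ∃ a : A, algebraMap A K a ≠ 0 ∧
      ∃ a' : A, algebraMap A K a * x = algebraMap A K a') :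
    (nilradical (S ⊗[A] K)).IsPrime := by
  have key1 : ∀ s : S, s ⊗ₜ[A] (1 : K) = 0 → IsNilpotent s := fun s hs =>
    isNilpotent_of_tmul_one_eq_zero hker s hs
  have hunit : ∀ a : A, algebraMap A K a ≠ 0 → IsUnit (algebraMap A (S ⊗[A] K) a) := by
    intro a ha
    have h1 : IsUnit (algebraMap A K a) := isUnit_iff_ne_zero.2 ha
    have h2 := h1.map (Algebra.TensorProduct.includeRight : K →ₐ[A] S ⊗[A] K)
    rwa [AlgHom.commutes] at h2
  have hnil_of_smul : ∀ (a : A) (w : S ⊗[A] K), algebraMap A K a ≠ 0 → IsNilpotent (a • w) →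
      IsNilpotent w := by
    intro a w ha ⟨n, hn⟩
    refine ⟨n, ?_⟩
    rw [Algebra.smul_def, mul_pow] at hn
    exact (((hunit a ha).pow n).mul_right_eq_zero).1 hn
  rw [Ideal.isPrime_iff]
  constructor
  · intro htop
    have h1 : (1 : S ⊗[A] K) ∈ nilradical (S ⊗[A] K) := htop ▸ Submodule.mem_top
    obtain ⟨n, hn⟩ := mem_nilradical.1 h1
    rw [one_pow] at hn
    have h2 : IsNilpotent (1 : S) := key1 1 hn
    have hntS : Nontrivial S := by
      refine ⟨⟨0, 1, fun h => ?_⟩⟩
      apply hS.ne_top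
      rw [Ideal.eq_top_iff_one, ← h]
      exact zero_mem _
    exact not_isNilpotent_one h2
  · intro w₁ w₂ hw
    obtain ⟨a₁, ha₁, s₁, e₁⟩ := exists_smul_eq_tmul_one' (S := S) hden w₁
    obtain ⟨a₂, ha₂, s₂, e₂⟩ := exists_smul_eq_tmul_one' (S := S) hden w₂
    have h1 : (s₁ * s₂) ⊗ₜ[A] (1 : K) = (a₁ • w₁) * (a₂ • w₂) := by
      rw [e₁, e₂, Algebra.TensorProduct.tmul_mul_tmul, mul_one]
    have h2 : IsNilpotent ((s₁ * s₂) ⊗ₜ[A] (1 : K)) := by
      rw [h1, smul_mul_smul_comm]
      obtain ⟨n, hn⟩ := mem_nilradical.1 hw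
      refine ⟨n, ?_⟩
      rw [Algebra.smul_def, mul_pow, hn, mul_zero]
    obtain ⟨n, hn⟩ := h2
    rw [Algebra.TensorProduct.tmul_pow, one_pow] at hn
    have h3 : IsNilpotent ((s₁ * s₂) ^ n) := key1 _ hn
    have h4 : s₁ * s₂ ∈ nilradical S := by
      obtain ⟨m, hm⟩ := h3
      exact mem_nilradical.2 ⟨n * m, by rw [pow_mul]; exact hm⟩
    rcases hS.mem_or_mem h4 with h5 | h5
    · left
      apply mem_nilradical.2
      apply hnil_of_smul a₁ w₁ ha₁
      rw [e₁]
      exact (mem_nilradical.1 h5).map (Algebra.TensorProduct.includeLeft : S →ₐ[A] S ⊗[A] K)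
    · right
      apply mem_nilradical.2
      apply hnil_of_smul a₂ w₂ ha₂
      rw [e₂]
      exact (mem_nilradical.1 h5).map (Algebra.TensorProduct.includeLeft : S →ₐ[A] S ⊗[A] K)

end Groth.Agent.Lib.helper9.UnramCore
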