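import Mathlib
import Groth.Prelude.Def_CAlg2
import Groth.Prelude.Def_Hensel
import Groth.Agent.Lib.Helper9.UnramSHConv

/-!
# Prime nilradical of the strict henselization ⟹ geometrically unibranch, main step (helper9)
-/

set_option autoImplicit false

namespace Groth.Agent.Lib.helper9.UnramCore

universe u

open Algebra TensorProduct IsLocalRing

/-- If `S ⊗[A] N` is local, every residue field of `N` algebraic over the residue field of `A`
is purely inseparable over it (`S` having separably closed residue field). -/
theorem isPurelyInseparable_residue_of_isLocalRing_tensor (A S N : Type u) [CommRing A]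
    [IsLocalRing A] [CommRing S] [IsLocalRing S] [Algebra A S] [IsLocalHom (algebraMap A S)]
    [CommRing N] [Algebra A N] (hTloc : IsLocalRing (S ⊗[A] N)) (k' : Type u) [Field k']
    [Algebra (ResidueField A) k'] [Algebra.IsAlgebraic (ResidueField A) k']
    [IsSepClosed (ResidueField S)] (π : N →+* k') (hπ : Function.Surjective π)
    (hcomp : ∀ a : A, π (algebraMap A N a) = algebraMap (ResidueField A) k' (residue A a)) :
    IsPurelyInseparable (ResidueField A) k' := by
  let algAE : Algebra A (k' ⊗[ResidueField A] ResidueField S) :=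
    ((algebraMap (ResidueField A) (k' ⊗[ResidueField A] ResidueField S)).comp
      (residue A)).toAlgebra
  let f₁ : S →ₐ[A] k' ⊗[ResidueField A] ResidueField S :=
    { toRingHom := (Algebra.TensorProduct.includeRight :
        ResidueField S →ₐ[ResidueField A] k' ⊗[ResidueField A] ResidueField S).toRingHom.comp
          (residue S)
      commutes' := by
        intro a
        show (1 : k') ⊗ₜ[ResidueField A] (residue S (algebraMap A S a)) =
          algebraMap (ResidueField A) _ (residue A a)
        have h1 : residue S (algebraMap A S a) =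
            algebraMap (ResidueField A) (ResidueField S) (residue A a) := rfl
        rw [h1]
        exact (Algebra.TensorProduct.includeRight :
          ResidueField S →ₐ[ResidueField A] k' ⊗[ResidueField A] ResidueField S).commutes
            (residue A a) }
  let f₂ : N →ₐ[A] k' ⊗[ResidueField A] ResidueField S :=
    { toRingHom := (Algebra.TensorProduct.includeLeft :
        k' →ₐ[ResidueField A] k' ⊗[ResidueField A] ResidueField S).toRingHom.comp π
      commutes' := by
        intro a
        show (π (algebraMap A N a)) ⊗ₜ[ResidueField A] (1 : ResidueField S) =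
          algebraMap (ResidueField A) _ (residue A a)
        rw [hcomp]
        rfl }
  let ψ : S ⊗[A] N →ₐ[A] k' ⊗[ResidueField A] ResidueField S :=
    Algebra.TensorProduct.productMap f₁ f₂
  have hψ : ∀ (s : S) (n : N), ψ (s ⊗ₜ[A] n) = (π n) ⊗ₜ[ResidueField A] (residue S s) := by
    intro s n
    show f₁ s * f₂ n = _
    show ((1 : k') ⊗ₜ[ResidueField A] (residue S s)) *
      ((π n) ⊗ₜ[ResidueField A] (1 : ResidueField S)) = _
    rw [Algebra.TensorProduct.tmul_mul_tmul, one_mul, mul_one]
  have hψsurj : Function.Surjective ψ := by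
    intro y
    induction y using TensorProduct.induction_on with
    | zero => exact ⟨0, map_zero _⟩
    | tmul c ω =>
      obtain ⟨n, rfl⟩ := hπ c
      obtain ⟨s, rfl⟩ := residue_surjective ω
      exact ⟨s ⊗ₜ[A] n, hψ s n⟩
    | add y₁ y₂ h₁ h₂ =>
      obtain ⟨t₁, rfl⟩ := h₁
      obtain ⟨t₂, rfl⟩ := h₂
      exact ⟨t₁ + t₂, map_add _ _ _⟩
  have hEnt : Nontrivial (k' ⊗[ResidueField A] ResidueField S) := by
    have hinj : Function.Injective (algebraMap k' (k' ⊗[ResidueField A] ResidueField S)) :=
      Algebra.TensorProduct.includeLeft_injective (S := k')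
        (algebraMap (ResidueField A) (ResidueField S)).injective
    exact hinj.nontrivial
  have hEloc : IsLocalRing (k' ⊗[ResidueField A] ResidueField S) :=
    IsLocalRing.of_surjective' ψ.toRingHom hψsurj
  exact isPurelyInseparable_of_isLocalRing_tensor (ResidueField A) k' (ResidueField S) hEloc

theorem isGeomUnibranch_of_nilradical_isPrime (A S : Type u) [CommRing A] [IsLocalRing A]
    [CommRing S] [IsLocalRing S] [Algebra A S] [IsLocalHom (algebraMap A S)]
    [Hensel.IsStrictHenselization A S] (hS : (nilradical S).IsPrime) :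
    CAlg2.IsGeomUnibranch A := by
  have hff : Module.FaithfullyFlat A S :=
    Groth.Agent.Lib.Helper24.StrictHens.faithfullyFlat_of_isStrictHenselization A S
  have hinjAS : Function.Injective (algebraMap A S) := FaithfulSMul.algebraMap_injective A S
  have hSh : HenselianLocalRing S := Hensel.IsStrictHenselization.henselian (R := A)
  have hsc : IsSepClosure (ResidueField A) (ResidueField S) :=
    Hensel.IsStrictHenselization.isSepClosure
  have hsepcl : IsSepClosed (ResidueField S) := hsc.sep_closed
  -- Step 1: `A_red` is a domain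
  have hnilA : (nilradical A).IsPrime :=
    nilradical_isPrime_of_injective (algebraMap A S) hinjAS hS
  have hdomB : IsDomain (CAlg2.red A) := Ideal.Quotient.isDomain _
  -- kernel and denominators of `A → K`
  have halgK : ∀ a : A, algebraMap A (FractionRing (CAlg2.red A)) a =
      algebraMap (CAlg2.red A) (FractionRing (CAlg2.red A)) (Ideal.Quotient.mk _ a) :=
    fun a => rfl
  have hker : ∀ a : A, algebraMap A (FractionRing (CAlg2.red A)) a = 0 → IsNilpotent a := by
    intro a ha
    rw [halgK] at ha
    have h1 : Ideal.Quotient.mk (nilradical A) a = 0 :=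
      IsFractionRing.injective (CAlg2.red A) (FractionRing (CAlg2.red A))
        (ha.trans (map_zero _).symm)
    exact mem_nilradical.1 (Ideal.Quotient.eq_zero_iff_mem.1 h1)
  have hden : ∀ x : FractionRing (CAlg2.red A), ∃ a : A,
      algebraMap A (FractionRing (CAlg2.red A)) a ≠ 0 ∧
      ∃ a' : A, algebraMap A (FractionRing (CAlg2.red A)) a * x =
        algebraMap A (FractionRing (CAlg2.red A)) a' := by
    intro x
    obtain ⟨⟨b', b⟩, hx⟩ := IsLocalization.surj (nonZeroDivisors (CAlg2.red A)) x
    obtain ⟨a', rfl⟩ := Ideal.Quotient.mk_surjective b'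
    obtain ⟨a, ha⟩ := Ideal.Quotient.mk_surjective (b : CAlg2.red A)
    refine ⟨a, ?_, a', ?_⟩
    · rw [halgK, ha]
      intro h0
      exact nonZeroDivisors.ne_zero b.2
        (IsFractionRing.injective (CAlg2.red A) (FractionRing (CAlg2.red A))
          (h0.trans (map_zero _).symm))
    · rw [halgK, halgK, ha, mul_comm]
      exact hx
  have hK : (nilradical (S ⊗[A] FractionRing (CAlg2.red A))).IsPrime :=
    nilradical_isPrime_tensor_of_flat hS hker hden
  -- Step 2: `T = S ⊗ N` has prime nilradical and is local
  let j : CAlg2.normRed A →ₐ[A] FractionRing (CAlg2.red A) :=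
    IsScalarTower.toAlgHom A (CAlg2.normRed A) (FractionRing (CAlg2.red A))
  have hj : Function.Injective j := Subtype.val_injective
  let Φ : S ⊗[A] CAlg2.normRed A →ₐ[S] S ⊗[A] FractionRing (CAlg2.red A) :=
    Algebra.TensorProduct.map (AlgHom.id S S) j
  have hΦ : Function.Injective Φ := by
    have h1 : Function.Injective (LinearMap.lTensor S j.toLinearMap) :=
      Module.Flat.lTensor_preserves_injective_linearMap _ hj
    have h2 : ∀ w, Φ w = LinearMap.lTensor S j.toLinearMap w := by
      intro w
      induction w using TensorProduct.induction_on with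
      | zero => simp
      | tmul s b => simp [Φ]
      | add x y hx hy => rw [map_add, map_add, hx, hy]
    intro x y hxy
    apply h1
    rw [← h2, ← h2, hxy]
  have hT : (nilradical (S ⊗[A] CAlg2.normRed A)).IsPrime :=
    nilradical_isPrime_of_injective Φ.toRingHom hΦ hK
  have hint1 : Algebra.IsIntegral A (CAlg2.red A) :=
    Algebra.isIntegral_of_surjective Ideal.Quotient.mk_surjective
  have hint : Algebra.IsIntegral A (CAlg2.normRed A) :=
    Algebra.IsIntegral.trans (R := A) (A := CAlg2.red A) (B := CAlg2.normRed A)
  have hTloc : IsLocalRing (S ⊗[A] CAlg2.normRed A) :=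
    isLocalRing_of_integral_of_nilradical_isPrime S _ hT
  -- Step 3: `N` is local
  have hNloc : IsLocalRing (CAlg2.normRed A) := by
    apply IsLocalRing.of_isUnit_or_isUnit_one_sub_self
    intro a
    rcases IsLocalRing.isUnit_or_isUnit_one_sub_self ((1 : S) ⊗ₜ[A] a) with hu | hu
    · left
      exact Groth.Agent.Lib.Helper24.Unibranch.isUnit_of_isUnit_tmul A S a hu
    · right
      have h1 : (1 : S ⊗[A] CAlg2.normRed A) - (1 : S) ⊗ₜ[A] a = (1 : S) ⊗ₜ[A] (1 - a) := by
        rw [TensorProduct.tmul_sub]
        rfl
      rw [h1] at hu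
      exact Groth.Agent.Lib.Helper24.Unibranch.isUnit_of_isUnit_tmul A S (1 - a) hu
  refine ⟨⟨hdomB, hNloc⟩, ?_⟩
  -- Step 4: the residue field extension
  intro m' hm' x
  obtain ⟨g, hg⟩ : ∃ g : A →+* CAlg2.normRed A,
      g = (algebraMap (CAlg2.red A) (CAlg2.normRed A)).comp
          (Ideal.Quotient.mk (nilradical A)) := ⟨_, rfl⟩
  have hgalg : g = algebraMap A (CAlg2.normRed A) := hg
  have hgint : g.IsIntegral := by
    rw [hgalg]
    exact algebraMap_isIntegral_iff.mpr hint
  let _ : Field (CAlg2.normRed A ⧸ m') := Ideal.Quotient.field m'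
  obtain ⟨f, hf⟩ : ∃ f : A →+* CAlg2.normRed A ⧸ m', f = (Ideal.Quotient.mk m').comp g := ⟨_, rfl⟩
  have hfint : f.IsIntegral := by
    rw [hf]
    exact RingHom.IsIntegral.trans _ _ hgint
      (RingHom.isIntegral_of_surjective _ Ideal.Quotient.mk_surjective)
  have hcomap : m'.comap g = maximalIdeal A := by
    have := Ideal.isMaximal_comap_of_isIntegral_of_isMaximal' g hgint m'
    exact IsLocalRing.eq_maximalIdeal this
  have hfker : ∀ a ∈ maximalIdeal A, f a = 0 := by
    intro a ha
    rw [hf, RingHom.comp_apply, Ideal.Quotient.eq_zero_iff_mem]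
    rw [← hcomap] at ha
    exact ha
  let r : ResidueField A →+* CAlg2.normRed A ⧸ m' :=
    Ideal.Quotient.lift (maximalIdeal A) f hfker
  have hr : r.comp (residue A) = f := by
    ext a; rfl
  have hrint : r.IsIntegral := by
    have : (r.comp (residue A)).IsIntegral := hr ▸ hfint
    exact RingHom.IsIntegral.tower_top _ _ this
  let algk : Algebra (ResidueField A) (CAlg2.normRed A ⧸ m') := r.toAlgebra
  have : Algebra.IsIntegral (ResidueField A) (CAlg2.normRed A ⧸ m') :=
    algebraMap_isIntegral_iff.mp hrint
  have : Algebra.IsAlgebraic (ResidueField A) (CAlg2.normRed A ⧸ m') :=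
    Algebra.IsIntegral.isAlgebraic
  have hpi : IsPurelyInseparable (ResidueField A) (CAlg2.normRed A ⧸ m') :=
    isPurelyInseparable_residue_of_isLocalRing_tensor A S (CAlg2.normRed A) hTloc
      (CAlg2.normRed A ⧸ m') (Ideal.Quotient.mk m') Ideal.Quotient.mk_surjective (fun a => by
        show _ = r (residue A a)
        show _ = f a
        rw [hf, hg]
        rfl)
  have : ExpChar (ResidueField A) (ringExpChar (CAlg2.normRed A ⧸ m')) := by
    have e0 : ExpChar (ResidueField A) (ringExpChar (ResidueField A)) :=
      ringExpChar.expChar (ResidueField A)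
    have e1 : ExpChar (CAlg2.normRed A ⧸ m') (ringExpChar (ResidueField A)) :=
      expChar_of_injective_algebraMap
        (algebraMap (ResidueField A) (CAlg2.normRed A ⧸ m')).injective _
    have e2 : ExpChar (CAlg2.normRed A ⧸ m') (ringExpChar (CAlg2.normRed A ⧸ m')) :=
      ringExpChar.expChar _
    rw [ExpChar.eq e2 e1]
    exact e0
  obtain ⟨n, c, hc⟩ := (isPurelyInseparable_iff_pow_mem (ResidueField A)
    (ringExpChar (CAlg2.normRed A ⧸ m'))).mp hpi x
  obtain ⟨c₀, rfl⟩ := residue_surjective c
  refine ⟨n, c₀, ?_⟩
  rw [← hc]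
  show _ = r (residue A c₀)
  show _ = f _
  rw [hf, hg]

end Groth.Agent.Lib.helper9.UnramCore
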