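import Mathlib
import Groth.Agent.Lib.Helper9.UnramBrnch
import Groth.Agent.Lib.Helper9.UnramBrnchAlg
import Groth.Agent.Lib.Helper9.UnramSHConv2
import Groth.Agent.Lib.Helper24.EtaleDescent

/-!
# Geometrically unibranch stalks via étale neighbourhoods (helper9)
-/

set_option autoImplicit false
set_option backward.isDefEq.respectTransparency false

namespace Groth.Agent.Lib.helper9.UnramGeom

open AlgebraicGeometry CategoryTheory Groth.Agent.Lib.helper9.UnramCore TensorProduct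

universe u

/-- Finitely many elements of a stalk are germs of sections over a common affine open. -/
theorem exists_affineOpen_germ_range (X : Scheme.{u}) (x : X) (Z : Set (X.presheaf.stalk x))
    (hZ : Z.Finite) :
    ∃ (V : X.Opens) (_ : IsAffineOpen V) (hxV : x ∈ V),
      ∀ z ∈ Z, ∃ s : Γ(X, V), X.presheaf.germ V x hxV s = z := by
  induction Z, hZ using Set.Finite.induction_on with
  | empty =>
    obtain ⟨V, hV, hxV, -⟩ := TopologicalSpace.Opens.isBasis_iff_nbhd.mp X.isBasis_affineOpens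
      (show x ∈ (⊤ : X.Opens) from trivial)
    exact ⟨V, hV, hxV, fun z hz => absurd hz (Set.notMem_empty z)⟩
  | @insert z Z hz hZfin ih =>
    obtain ⟨V, hV, hxV, hVZ⟩ := ih
    obtain ⟨W, hWV, hxW, s, hs⟩ := X.presheaf.exists_le_germ_eq z hxV
    obtain ⟨V', hV', hxV', hV'W⟩ := TopologicalSpace.Opens.isBasis_iff_nbhd.mp
      X.isBasis_affineOpens hxW
    refine ⟨V', hV', hxV', ?_⟩
    intro z' hz'
    rcases Set.mem_insert_iff.1 hz' with rfl | hz'
    · refine ⟨X.presheaf.map (homOfLE hV'W).op s, ?_⟩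
      rw [TopCat.Presheaf.germ_res_apply]
      exact hs
    · obtain ⟨s', hs'⟩ := hVZ z' hz'
      refine ⟨X.presheaf.map (homOfLE (hV'W.trans hWV)).op s', ?_⟩
      rw [TopCat.Presheaf.germ_res_apply]
      exact hs'

open Groth.Agent.Lib.Helper24.StrictHens Groth.Agent.Lib.Helper24.StrictHens.SIdx in
attribute [local instance] Algebra.TensorProduct.rightAlgebra in
/-- If every point over `x` of every étale `X`-scheme lies on a single irreducible component,
the local ring at `x` is geometrically unibranch. -/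
theorem isGeomUnibranch_stalk_of_etale_nbhds (X : Scheme.{u}) (x : X)
    (h : ∀ (U : Scheme.{u}) (g : U ⟶ X) (u : U), Etale g → g u = x →
      {Z : Set ↑U | Z ∈ irreducibleComponents ↑U ∧ u ∈ Z}.encard = 1) :
    CAlg2.IsGeomUnibranch (X.presheaf.stalk x) := by
  apply isGeomUnibranch_of_nilradical_isPrime (X.presheaf.stalk x) (SH (X.presheaf.stalk x))
  apply nilradical_isPrime_SHens_of_stage
  intro i
  obtain ⟨Z, hZfin, hZ⟩ :=
    Groth.Agent.Lib.Helper24.EtaleDescent.exists_finite_descent (X.presheaf.stalk x) i.C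
  obtain ⟨V, hV, hxV, hVZ⟩ := exists_affineOpen_germ_range X x Z hZfin
  let algR₀A : Algebra Γ(X, V) (X.presheaf.stalk x) :=
    TopCat.Presheaf.algebra_section_stalk X.presheaf ⟨x, hxV⟩
  have hloc := hV.isLocalization_stalk ⟨x, hxV⟩
  obtain ⟨E₀, _, _, het, ⟨e⟩⟩ := hZ Γ(X, V) (fun z hz => by
    obtain ⟨s, hs⟩ := hVZ z hz
    exact ⟨s, hs⟩)
  let φ : E₀ →+* i.C := (e : (X.presheaf.stalk x) ⊗[Γ(X, V)] E₀ →+* i.C).comp
    (algebraMap E₀ ((X.presheaf.stalk x) ⊗[Γ(X, V)] E₀))
  have hφ : ∀ r : Γ(X, V), φ (algebraMap Γ(X, V) E₀ r) =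
      algebraMap (X.presheaf.stalk x) i.C (algebraMap Γ(X, V) (X.presheaf.stalk x) r) := by
    intro r
    show e ((1 : X.presheaf.stalk x) ⊗ₜ[Γ(X, V)] (algebraMap Γ(X, V) E₀ r)) = _
    rw [Algebra.algebraMap_eq_smul_one, ← TensorProduct.smul_tmul, ← Algebra.algebraMap_eq_smul_one]
    exact e.commutes _
  have hq₀ : (i.q.comap φ).IsPrime := Ideal.comap_isPrime _ _
  -- the étale neighbourhood
  let g : Spec (CommRingCat.of E₀) ⟶ X :=
    Spec.map (CommRingCat.ofHom (algebraMap Γ(X, V) E₀)) ≫ hV.fromSpec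
  have hg1 : Etale (Spec.map (CommRingCat.ofHom (algebraMap Γ(X, V) E₀))) := by
    rw [HasRingHomProperty.Spec_iff (P := @Etale)]
    exact RingHom.etale_algebraMap.2 het
  have hg : Etale g := inferInstance
  let u : Spec (CommRingCat.of E₀) := (⟨i.q.comap φ, hq₀⟩ : PrimeSpectrum E₀)
  have hcomap : (i.q.comap φ).comap (algebraMap Γ(X, V) E₀) =
      (hV.primeIdealOf ⟨x, hxV⟩).asIdeal := by
    ext r
    rw [Ideal.mem_comap, Ideal.mem_comap, hφ, mem_q, AlgHom.commutes, algebraMap_Ω_eq_zero_iff,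
      IsLocalization.AtPrime.to_map_mem_maximal_iff (X.presheaf.stalk x)
        (hV.primeIdealOf ⟨x, hxV⟩).asIdeal r]
  have hgu : g u = x := by
    show (Spec.map (CommRingCat.ofHom (algebraMap Γ(X, V) E₀)) ≫ hV.fromSpec) u = x
    rw [Scheme.Hom.comp_apply]
    have h1 : (Spec.map (CommRingCat.ofHom (algebraMap Γ(X, V) E₀))) u =
        hV.primeIdealOf ⟨x, hxV⟩ := by
      apply PrimeSpectrum.ext
      exact hcomap
    rw [h1]
    exact hV.fromSpec_primeIdealOf ⟨x, hxV⟩
  have h1 := h (Spec (CommRingCat.of E₀)) g u hg hgu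
  obtain ⟨Z₀, hZ₀⟩ := Set.encard_eq_one.1 h1
  have huniq : ∀ P₁ ∈ minimalPrimes E₀, ∀ P₂ ∈ minimalPrimes E₀,
      P₁ ≤ i.q.comap φ → P₂ ≤ i.q.comap φ → P₁ = P₂ := by
    intro P₁ hP₁ P₂ hP₂ hle₁ hle₂
    have hmem : ∀ P ∈ minimalPrimes E₀, P ≤ i.q.comap φ →
        PrimeSpectrum.zeroLocus (P : Set E₀) = Z₀ := by
      intro P hP hle
      have hc : PrimeSpectrum.zeroLocus (P : Set E₀) ∈
          irreducibleComponents (PrimeSpectrum E₀) := by
        rw [← PrimeSpectrum.zeroLocus_minimalPrimes]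
        exact ⟨P, hP, rfl⟩
      have hu : u ∈ PrimeSpectrum.zeroLocus (P : Set E₀) := by
        rw [PrimeSpectrum.mem_zeroLocus]
        exact hle
      have : PrimeSpectrum.zeroLocus (P : Set E₀) ∈
          {Z : Set ↑(Spec (CommRingCat.of E₀)) |
            Z ∈ irreducibleComponents ↑(Spec (CommRingCat.of E₀)) ∧ u ∈ Z} := ⟨hc, hu⟩
      rw [hZ₀] at this
      exact this
    have heq : PrimeSpectrum.zeroLocus (P₁ : Set E₀) = PrimeSpectrum.zeroLocus (P₂ : Set E₀) :=
      (hmem P₁ hP₁ hle₁).trans (hmem P₂ hP₂ hle₂).symm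
    have h2 := congrArg PrimeSpectrum.vanishingIdeal heq
    rw [PrimeSpectrum.vanishingIdeal_zeroLocus_eq_radical,
      PrimeSpectrum.vanishingIdeal_zeroLocus_eq_radical, hP₁.1.1.radical, hP₂.1.1.radical] at h2
    exact h2
  exact nilradical_isPrime_of_baseChange_equiv (hV.primeIdealOf ⟨x, hxV⟩).asIdeal e i.q huniq

end Groth.Agent.Lib.helper9.UnramGeom
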