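import Mathlib
import Groth.Prelude.Def_Hens2
import Groth.Agent.Lib.Helper9.UnramBrnchGeom
import Groth.Agent.Lib.Helper9.UnibrAlg
import Groth.Agent.Lib.Helper9.UnibrAlg2
import Groth.Agent.Lib.Helper24.UnibranchMin
import Groth.Agent.Lib.Helper13.EL2

/-!
# Unibranch stalks via elementary étale neighbourhoods (helper9)
-/

set_option autoImplicit false
set_option backward.isDefEq.respectTransparency false

namespace Groth.Agent.Lib.helper9.UnramGeom

open AlgebraicGeometry CategoryTheory Groth.Agent.Lib.helper9.UnramCore TensorProduct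

universe u

/-- Stalks of a scheme étale over a scheme whose stalk satisfies `EULocRedEl`, at points with
trivial residue field extension, have prime nilradical. -/
theorem nilradical_isPrime_stalk_of_etale_el {X Y : Scheme.{u}} (f : X ⟶ Y) [Etale f] (x : X)
    (hEU : EULocRedEl (Y.presheaf.stalk (f x)))
    (hsurj : Function.Surjective (f.residueFieldMap x)) :
    (nilradical (X.presheaf.stalk x)).IsPrime := by
  obtain ⟨V, hV, hfx, -⟩ := TopologicalSpace.Opens.isBasis_iff_nbhd.mp Y.isBasis_affineOpens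
    (show f x ∈ (⊤ : Y.Opens) from trivial)
  obtain ⟨W, hW, hxW, e⟩ := TopologicalSpace.Opens.isBasis_iff_nbhd.mp X.isBasis_affineOpens
    (show x ∈ f ⁻¹ᵁ V from hfx)
  let algAB : Algebra Γ(Y, V) Γ(X, W) := (f.appLE V W e).hom.toAlgebra
  have het : Algebra.Etale Γ(Y, V) Γ(X, W) :=
    HasRingHomProperty.appLE (P := @Etale) f inferInstance ⟨V, hV⟩ ⟨W, hW⟩ e
  have hqA : (hW.primeIdealOf ⟨x, hxW⟩).asIdeal.under Γ(Y, V) =
      (hV.primeIdealOf ⟨f x, hfx⟩).asIdeal :=
    congrArg PrimeSpectrum.asIdeal (IsAffineOpen.comap_primeIdealOf_appLE V hV W hW e hxW)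
  let algAS : Algebra Γ(Y, V) (Y.presheaf.stalk (f x)) :=
    TopCat.Presheaf.algebra_section_stalk Y.presheaf ⟨f x, hfx⟩
  have hlocS := hV.isLocalization_stalk ⟨f x, hfx⟩
  let algBS : Algebra Γ(X, W) (X.presheaf.stalk x) :=
    TopCat.Presheaf.algebra_section_stalk X.presheaf ⟨x, hxW⟩
  have hlocX := hW.isLocalization_stalk ⟨x, hxW⟩
  refine transfer_local_el (hV.primeIdealOf ⟨f x, hfx⟩).asIdeal (Y.presheaf.stalk (f x)) hEU
    Γ(X, W) (hW.primeIdealOf ⟨x, hxW⟩).asIdeal hqA (X.presheaf.stalk x) ?_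
  intro z
  obtain ⟨k, hk⟩ := hsurj (X.residue x z)
  obtain ⟨b, rfl⟩ : ∃ b : Y.presheaf.stalk (f x), Y.residue (f x) b = k :=
    IsLocalRing.residue_surjective k
  have h1 : X.residue x (f.stalkMap x b) = X.residue x z := by
    rw [← hk]
    exact (congrArg (fun φ => φ.hom b) (Scheme.residue_residueFieldMap f x)).symm
  have h2 : z - f.stalkMap x b ∈ IsLocalRing.maximalIdeal (X.presheaf.stalk x) := by
    rw [← IsLocalRing.residue_eq_zero_iff, map_sub, sub_eq_zero]
    exact h1.symm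
  obtain ⟨⟨a, s⟩, has⟩ := IsLocalization.surj (hV.primeIdealOf ⟨f x, hfx⟩).asIdeal.primeCompl b
  refine ⟨a, s, s.2, ?_⟩
  have hgerm : ∀ t : Γ(Y, V),
      algebraMap Γ(X, W) (X.presheaf.stalk x) (algebraMap Γ(Y, V) Γ(X, W) t) =
        f.stalkMap x (algebraMap Γ(Y, V) (Y.presheaf.stalk (f x)) t) := by
    intro t
    show X.presheaf.germ W x hxW (f.appLE V W e t) = f.stalkMap x (Y.presheaf.germ V (f x) hfx t)
    rw [Scheme.Hom.germ_stalkMap_apply, Scheme.Hom.appLE]
    exact TopCat.Presheaf.germ_res_apply _ _ _ _ _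
  rw [hgerm, hgerm, ← has, map_mul]
  have h3 : f.stalkMap x (algebraMap Γ(Y, V) (Y.presheaf.stalk (f x)) s) * z -
      f.stalkMap x b * f.stalkMap x (algebraMap Γ(Y, V) (Y.presheaf.stalk (f x)) s) =
      f.stalkMap x (algebraMap Γ(Y, V) (Y.presheaf.stalk (f x)) s) * (z - f.stalkMap x b) := by
    ring
  rw [h3]
  exact Ideal.mul_mem_left _ _ h2

/-- Elementary étale neighbourhoods of a unibranch point are locally irreducible at the point. -/
theorem encard_components_eq_one_of_etaleNbhd {U X : Scheme.{u}} (g : U ⟶ X) (u : U) (x : X)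
    (hg : Hens2.IsEtaleNbhd g u x) (h : CAlg2.IsUnibranch (X.presheaf.stalk x)) :
    {Z : Set ↑U | Z ∈ irreducibleComponents ↑U ∧ u ∈ Z}.encard = 1 := by
  obtain ⟨het, hgu, hbij⟩ := hg
  subst hgu
  have hnil : (nilradical (U.presheaf.stalk u)).IsPrime :=
    nilradical_isPrime_stalk_of_etale_el g u (euLocRedEl_of_isUnibranch _ h) hbij.2
  obtain ⟨Z, hZ, huniq⟩ := existsUnique_irreducibleComponent_of_nilradical_isPrime U u hnil
  rw [Set.encard_eq_one]
  refine ⟨Z, ?_⟩
  ext Z'
  simp only [Set.mem_ofPred_eq, Set.mem_singleton_iff]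
  constructor
  · intro hZ'
    exact huniq Z' hZ'
  · rintro rfl
    exact hZ

end Groth.Agent.Lib.helper9.UnramGeom
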