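import Mathlib
import Groth.Prelude.Def_Hens2
import Groth.Agent.Lib.Helper9.UnibrGeom

/-!
# Unibranch stalks via elementary étale neighbourhoods: the converse (helper9)
-/

set_option autoImplicit false
set_option backward.isDefEq.respectTransparency false

namespace Groth.Agent.Lib.helper9.UnramGeom

open AlgebraicGeometry CategoryTheory Groth.Agent.Lib.helper9.UnramCore TensorProduct

universe u

open Groth.Agent.Lib.helper24.Henselization Groth.Agent.Lib.helper24.Henselization.Idx in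
attribute [local instance] Algebra.TensorProduct.rightAlgebra in
/-- If the distinguished point of every elementary étale neighbourhood of `(X, x)` lies on a
single irreducible component, the local ring at `x` is unibranch. -/
theorem isUnibranch_stalk_of_etaleNbhds (X : Scheme.{u}) (x : X)
    (h : ∀ (U : Scheme.{u}) (g : U ⟶ X) (u : U), Hens2.IsEtaleNbhd g u x →
      {Z : Set ↑U | Z ∈ irreducibleComponents ↑U ∧ u ∈ Z}.encard = 1) :
    CAlg2.IsUnibranch (X.presheaf.stalk x) := by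
  rw [Groth.Agent.Lib.Helper24.Unibranch.isUnibranch_iff_hasUniqueMinimalPrime
    (X.presheaf.stalk x) (Hens (X.presheaf.stalk x))]
  refine Groth.Agent.Lib.Helper24.Unibranch.hasUniqueMinimalPrime_of_prime_le_nilradical
    (nilradical _) ?_ le_rfl
  apply nilradical_isPrime_Hens_of_stage
  intro i
  obtain ⟨Z, hZfin, hZ⟩ :=
    Groth.Agent.Lib.Helper24.EtaleDescent.exists_finite_descent (X.presheaf.stalk x) i.C
  obtain ⟨V, hV, hxV, hVZ⟩ := exists_affineOpen_germ_range X x Z hZfin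
  let algR₀A : Algebra Γ(X, V) (X.presheaf.stalk x) :=
    TopCat.Presheaf.algebra_section_stalk X.presheaf ⟨x, hxV⟩
  have hloc := hV.isLocalization_stalk ⟨x, hxV⟩
  obtain ⟨E₀, _, _, het, ⟨e⟩⟩ := hZ Γ(X, V) (fun z hz => by
    obtain ⟨s, hs⟩ := hVZ z hz
    exact ⟨s, hs⟩)
  let φ : E₀ →+* i.C := (e : (X.presheaf.stalk x) ⊗[Γ(X, V)] E₀ →+* i.C).comp
    (algebraMap E₀ ((X.presheaf.stalk x) ⊗[Γ(X, V)] E₀))
  have hφ : ∀ r : Γ(X, V), φ (algebraMap Γ(X, V) E₀ r) =
      algebraMap (X.presheaf.stalk x) i.C (algebraMap Γ(X, V) (X.presheaf.stalk x) r) := by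
    intro r
    show e ((1 : X.presheaf.stalk x) ⊗ₜ[Γ(X, V)] (algebraMap Γ(X, V) E₀ r)) = _
    rw [Algebra.algebraMap_eq_smul_one, ← TensorProduct.smul_tmul, ← Algebra.algebraMap_eq_smul_one]
    exact e.commutes _
  have hq₀ : (i.q.comap φ).IsPrime := Ideal.comap_isPrime _ _
  -- membership in `i.q` of images of elements of the stalk
  have hqA : ∀ a : X.presheaf.stalk x, algebraMap (X.presheaf.stalk x) i.C a ∈ i.q ↔
      a ∈ IsLocalRing.maximalIdeal (X.presheaf.stalk x) := by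
    intro a
    rw [mem_q, AlgHom.commutes, IsLocalRing.ResidueField.algebraMap_eq,
      IsLocalRing.residue_eq_zero_iff]
  -- the étale neighbourhood
  let ψ : Γ(X, V) ⟶ CommRingCat.of E₀ := CommRingCat.ofHom (algebraMap Γ(X, V) E₀)
  let g : Spec (CommRingCat.of E₀) ⟶ X := Spec.map ψ ≫ hV.fromSpec
  have hg1 : Etale (Spec.map ψ) := by
    rw [HasRingHomProperty.Spec_iff (P := @Etale)]
    exact RingHom.etale_algebraMap.2 het
  have hg : Etale g := inferInstance
  let u : Spec (CommRingCat.of E₀) := (⟨i.q.comap φ, hq₀⟩ : PrimeSpectrum E₀)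
  have hcomap : (i.q.comap φ).comap (algebraMap Γ(X, V) E₀) =
      (hV.primeIdealOf ⟨x, hxV⟩).asIdeal := by
    ext r
    rw [Ideal.mem_comap, Ideal.mem_comap, hφ, hqA,
      IsLocalization.AtPrime.to_map_mem_maximal_iff (X.presheaf.stalk x)
        (hV.primeIdealOf ⟨x, hxV⟩).asIdeal r]
  have hgu : g u = x := by
    show (Spec.map ψ ≫ hV.fromSpec) u = x
    rw [Scheme.Hom.comp_apply]
    have h1 : (Spec.map ψ) u = hV.primeIdealOf ⟨x, hxV⟩ := by
      apply PrimeSpectrum.ext
      exact hcomap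
    rw [h1]
    exact hV.fromSpec_primeIdealOf ⟨x, hxV⟩
  -- fractions
  have hfrac : ∀ e₀ : E₀, ∃ r t : Γ(X, V), t ∉ (Spec.map ψ u).asIdeal ∧
      ψ.hom t * e₀ - ψ.hom r ∈ i.q.comap φ := by
    intro e₀
    obtain ⟨a, ha⟩ := IsLocalRing.residue_surjective (i.χ (φ e₀))
    have h1 : φ e₀ - algebraMap (X.presheaf.stalk x) i.C a ∈ i.q := by
      rw [mem_q, map_sub, AlgHom.commutes, IsLocalRing.ResidueField.algebraMap_eq, ha, sub_self]
    obtain ⟨⟨r, t⟩, hrt⟩ := IsLocalization.surj (hV.primeIdealOf ⟨x, hxV⟩).asIdeal.primeCompl a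
    refine ⟨r, t, ?_, ?_⟩
    · have h2 : (Spec.map ψ u).asIdeal = (hV.primeIdealOf ⟨x, hxV⟩).asIdeal := hcomap
      rw [h2]
      exact t.2
    · rw [Ideal.mem_comap]
      have h3 : φ (ψ.hom t * e₀ - ψ.hom r) =
          algebraMap (X.presheaf.stalk x) i.C (algebraMap Γ(X, V) (X.presheaf.stalk x) t) *
            (φ e₀ - algebraMap (X.presheaf.stalk x) i.C a) := by
        rw [map_sub, map_mul]
        show φ (algebraMap Γ(X, V) E₀ t) * φ e₀ - φ (algebraMap Γ(X, V) E₀ r) = _
        rw [hφ, hφ, ← hrt, map_mul]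
        ring
      rw [h3]
      exact Ideal.mul_mem_left _ _ h1
  have hbij : Function.Bijective (g.residueFieldMap u) := by
    show Function.Bijective ((Spec.map ψ ≫ hV.fromSpec).residueFieldMap u)
    rw [Scheme.residueFieldMap_comp, Groth.Agent.Lib.helper13.EL.Spec_residueFieldMap_eq]
    have h1 : Function.Bijective (Ideal.ResidueField.map
        (Spec.map ψ u).asIdeal (i.q.comap φ) ψ.hom rfl) :=
      ⟨RingHom.injective _, residueField_map_surjective_of_fractions ψ.hom _ _ rfl hfrac⟩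
    have h2 : IsIso (CommRingCat.ofHom (Ideal.ResidueField.map
        (Spec.map ψ u).asIdeal (i.q.comap φ) ψ.hom rfl)) :=
      (ConcreteCategory.isIso_iff_bijective _).mpr h1
    exact ConcreteCategory.bijective_of_isIso _
  have h1 := h (Spec (CommRingCat.of E₀)) g u ⟨hg, hgu, hbij⟩
  obtain ⟨Z₀, hZ₀⟩ := Set.encard_eq_one.1 h1
  have huniq : ∀ P₁ ∈ minimalPrimes E₀, ∀ P₂ ∈ minimalPrimes E₀,
      P₁ ≤ i.q.comap φ → P₂ ≤ i.q.comap φ → P₁ = P₂ := by
    intro P₁ hP₁ P₂ hP₂ hle₁ hle₂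
    have hmem : ∀ P ∈ minimalPrimes E₀, P ≤ i.q.comap φ →
        PrimeSpectrum.zeroLocus (P : Set E₀) = Z₀ := by
      intro P hP hle
      have hc : PrimeSpectrum.zeroLocus (P : Set E₀) ∈
          irreducibleComponents (PrimeSpectrum E₀) := by
        rw [← PrimeSpectrum.zeroLocus_minimalPrimes]
        exact ⟨P, hP, rfl⟩
      have hu : u ∈ PrimeSpectrum.zeroLocus (P : Set E₀) := by
        rw [PrimeSpectrum.mem_zeroLocus]
        exact hle
      have : PrimeSpectrum.zeroLocus (P : Set E₀) ∈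
          {Z : Set ↑(Spec (CommRingCat.of E₀)) |
            Z ∈ irreducibleComponents ↑(Spec (CommRingCat.of E₀)) ∧ u ∈ Z} := ⟨hc, hu⟩
      rw [hZ₀] at this
      exact this
    have heq : PrimeSpectrum.zeroLocus (P₁ : Set E₀) = PrimeSpectrum.zeroLocus (P₂ : Set E₀) :=
      (hmem P₁ hP₁ hle₁).trans (hmem P₂ hP₂ hle₂).symm
    have h2 := congrArg PrimeSpectrum.vanishingIdeal heq
    rw [PrimeSpectrum.vanishingIdeal_zeroLocus_eq_radical,
      PrimeSpectrum.vanishingIdeal_zeroLocus_eq_radical, hP₁.1.1.radical, hP₂.1.1.radical] at h2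
    exact h2
  exact nilradical_isPrime_of_baseChange_equiv (hV.primeIdealOf ⟨x, hxV⟩).asIdeal e i.q huniq

end Groth.Agent.Lib.helper9.UnramGeom
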