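/-
Helper library (helper9): ring-level and section-level lemmas for the descent of closed immersions
along cofiltered limits of schemes: a pushout lemma for surjectivity, generators of finite type
ring maps, and the abstract "surjectivity on global sections descends to a stage" lemma.
-/
import Mathlib.AlgebraicGeometry.Morphisms.ClosedImmersion
import Mathlib.AlgebraicGeometry.Morphisms.FiniteType
import Mathlib.AlgebraicGeometry.AffineTransitionLimit

set_option autoImplicit false
set_option linter.style.haveILetI false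

namespace Groth.Agent.Lib.helper9

open AlgebraicGeometry CategoryTheory Limits

universe u

/-- In a pushout square of commutative rings, if the range of `inr` is contained in the range of
`inl`, then `inl` is surjective. -/
theorem surjective_of_isPushout_of_range_le {A₀ B₀ A B : CommRingCat.{u}} {a : A₀ ⟶ A}
    {b : A₀ ⟶ B₀} {α : A ⟶ B} {β : B₀ ⟶ B} (h : IsPushout a b α β)
    (hr : ∀ x, β.hom x ∈ Set.range α.hom) : Function.Surjective α.hom := by
  let R : Subring B := α.hom.range
  let ι : CommRingCat.of R ⟶ B := CommRingCat.ofHom R.subtype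
  let α' : A ⟶ CommRingCat.of R := CommRingCat.ofHom α.hom.rangeRestrict
  let β' : B₀ ⟶ CommRingCat.of R := CommRingCat.ofHom (β.hom.codRestrict R (fun x => hr x))
  have hα : α' ≫ ι = α := by ext; rfl
  have hβ : β' ≫ ι = β := by ext; rfl
  have hw : a ≫ α' = b ≫ β' := by
    ext x
    have := congr($(h.w).hom x)
    exact this
  let v : B ⟶ CommRingCat.of R := h.desc α' β' hw
  have hv : v ≫ ι = 𝟙 B := by
    apply h.hom_ext
    · rw [h.inl_desc_assoc, hα, Category.comp_id]
    · rw [h.inr_desc_assoc, hβ, Category.comp_id]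
  intro x
  have hx : ι.hom (v.hom x) = x := congr($(hv).hom x)
  obtain ⟨y, hy⟩ := (v.hom x).2
  exact ⟨y, hy.trans hx⟩

/-- Generators of a ring map of finite type, in subring form. -/
theorem exists_finset_forall_subring_eq_top {A₀ B₀ : Type*} [CommRing A₀] [CommRing B₀]
    (a : A₀ →+* B₀) (ha : a.FiniteType) :
    ∃ s : Finset B₀, ∀ T : Subring B₀, a.range ≤ T → (↑s ⊆ (T : Set B₀)) → T = ⊤ := by
  letI := a.toAlgebra
  have ha' : Algebra.FiniteType A₀ B₀ := ha
  obtain ⟨s, hs⟩ := ha'.out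
  refine ⟨s, fun T h1 h2 => ?_⟩
  have h3 : (Algebra.adjoin A₀ (s : Set B₀)).toSubring ≤ T := by
    rw [Algebra.adjoin_eq_ring_closure]
    refine Subring.closure_le.mpr (Set.union_subset ?_ h2)
    rintro _ ⟨y, rfl⟩
    exact h1 ⟨y, rfl⟩
  rw [hs] at h3
  exact eq_top_iff.mpr fun x _ => h3 (Algebra.mem_top (R := A₀) (A := B₀))

theorem appTop_appTop {X Y Z : Scheme.{u}} (p : X ⟶ Y) (q : Y ⟶ Z) (z : Γ(Z, ⊤)) :
    p.appTop (q.appTop z) = (p ≫ q).appTop z := by
  rw [Scheme.Hom.comp_appTop]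
  rfl

section abstract

variable {J : Type*} [Category J] [IsCofiltered J] {DX DY : J ⥤ Scheme.{u}} (F : DX ⟶ DY)
  (cX : Cone DX) (cY : Cone DY) (Fc : cX.pt ⟶ cY.pt)

omit [IsCofiltered J] in
/-- Being in the range of the stage map persists to smaller stages. -/
theorem mem_range_appTop_of_hom {j j' j₀ : J} (m : j ⟶ j₀) (w : j' ⟶ j)
    (x : Γ(DX.obj j₀, ⊤)) (hx : (DX.map m).appTop x ∈ Set.range (F.app j).appTop) :
    (DX.map (w ≫ m)).appTop x ∈ Set.range (F.app j').appTop := by
  obtain ⟨t, ht⟩ := hx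
  refine ⟨(DY.map w).appTop t, ?_⟩
  rw [appTop_appTop, ← F.naturality, ← appTop_appTop, ht, appTop_appTop, ← DX.map_comp]

/-- Abstract descent of "being in the range" for one section: if the limit map is surjective on
global sections, then the restriction of any section to some stage is in the range of the stage
map. -/
theorem exists_mem_range_appTop_stage
    (hF : ∀ j, cX.π.app j ≫ F.app j = Fc ≫ cY.π.app j)
    (H1 : ∀ s : Γ(cY.pt, ⊤), ∃ (j : J) (t : Γ(DY.obj j, ⊤)), (cY.π.app j).appTop t = s)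
    (H2 : ∀ (j : J) (s t : Γ(DX.obj j, ⊤)), (cX.π.app j).appTop s = (cX.π.app j).appTop t →
      ∃ (j' : J) (m : j' ⟶ j), (DX.map m).appTop s = (DX.map m).appTop t)
    (H4 : Function.Surjective Fc.appTop) (j₀ : J) (x : Γ(DX.obj j₀, ⊤)) :
    ∃ (j : J) (m : j ⟶ j₀), (DX.map m).appTop x ∈ Set.range (F.app j).appTop := by
  obtain ⟨s', hs'⟩ := H4 ((cX.π.app j₀).appTop x)
  obtain ⟨j₁, t, ht⟩ := H1 s'
  let j₂ := IsCofiltered.min j₀ j₁
  let p : j₂ ⟶ j₀ := IsCofiltered.minToLeft j₀ j₁
  let q : j₂ ⟶ j₁ := IsCofiltered.minToRight j₀ j₁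
  have key : (cX.π.app j₂).appTop ((DX.map p).appTop x) =
      (cX.π.app j₂).appTop ((F.app j₂).appTop ((DY.map q).appTop t)) := by
    rw [appTop_appTop, cX.w, appTop_appTop, hF, ← appTop_appTop, appTop_appTop _ (DY.map q), cY.w,
      ht, hs']
  obtain ⟨j₃, w, hw⟩ := H2 j₂ _ _ key
  refine ⟨j₃, w ≫ p, (DY.map w).appTop ((DY.map q).appTop t), ?_⟩
  rw [appTop_appTop (F.app j₃), ← F.naturality, ← appTop_appTop, ← hw, appTop_appTop,
    ← DX.map_comp]

/-- Abstract descent of "being in the range" for finitely many sections. -/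
theorem exists_forall_mem_range_appTop_stage
    (hF : ∀ j, cX.π.app j ≫ F.app j = Fc ≫ cY.π.app j)
    (H1 : ∀ s : Γ(cY.pt, ⊤), ∃ (j : J) (t : Γ(DY.obj j, ⊤)), (cY.π.app j).appTop t = s)
    (H2 : ∀ (j : J) (s t : Γ(DX.obj j, ⊤)), (cX.π.app j).appTop s = (cX.π.app j).appTop t →
      ∃ (j' : J) (m : j' ⟶ j), (DX.map m).appTop s = (DX.map m).appTop t)
    (H4 : Function.Surjective Fc.appTop) (j₀ : J) (s : Finset Γ(DX.obj j₀, ⊤)) :
    ∃ (j : J) (m : j ⟶ j₀), ∀ x ∈ s, (DX.map m).appTop x ∈ Set.range (F.app j).appTop := by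
  classical
  induction s using Finset.induction_on with
  | empty => exact ⟨j₀, 𝟙 j₀, fun x hx => absurd hx (Finset.notMem_empty x)⟩
  | insert x s _ ih =>
    obtain ⟨j, m, hm⟩ := ih
    obtain ⟨jx, mx, hmx⟩ := exists_mem_range_appTop_stage F cX cY Fc hF H1 H2 H4 j₀ x
    let k := IsCofiltered.min j jx
    let p : k ⟶ j := IsCofiltered.minToLeft j jx
    let q : k ⟶ jx := IsCofiltered.minToRight j jx
    let k' := IsCofiltered.eq (p ≫ m) (q ≫ mx)
    let e : k' ⟶ k := IsCofiltered.eqHom (p ≫ m) (q ≫ mx)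
    have he : e ≫ p ≫ m = e ≫ q ≫ mx := IsCofiltered.eq_condition _ _
    refine ⟨k', e ≫ p ≫ m, fun y hy => ?_⟩
    rcases Finset.mem_insert.mp hy with rfl | hy
    · rw [he, ← Category.assoc]
      exact mem_range_appTop_of_hom F mx (e ≫ q) y hmx
    · rw [← Category.assoc]
      exact mem_range_appTop_of_hom F m (e ≫ p) y (hm y hy)

end abstract

end Groth.Agent.Lib.helper9
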