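/-
Helper library (helper9): base change of a cofiltered limit of schemes with affine transition
maps, and the image of the projection from the limit.
-/
import Mathlib.AlgebraicGeometry.AffineTransitionLimit
import Mathlib.AlgebraicGeometry.PullbackCarrier
import Mathlib.AlgebraicGeometry.ResidueField

set_option autoImplicit false
set_option linter.style.haveILetI false
set_option backward.isDefEq.respectTransparency false

namespace Groth.Agent.Lib.helper9

open AlgebraicGeometry CategoryTheory Limits

universe u

section

variable {I : Type u} [SmallCategory I] (D : I ⥤ Scheme.{u}) (c : Cone D)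
  (k : I) {T : Scheme.{u}} (g : T ⟶ D.obj k)

/-- The diagram `j ↦ D_j ×_{D_k} T` over `Over k`. -/
@[simps]
noncomputable def bcDiagram : Over k ⥤ Scheme.{u} where
  obj j := pullback (D.map j.hom) g
  map {j j'} f := pullback.map (D.map j.hom) g (D.map j'.hom) g (D.map f.left) (𝟙 T) (𝟙 _)
    (by rw [Category.comp_id, ← D.map_comp, Over.w f]) (by simp)
  map_id j := by
    apply pullback.hom_ext <;> simp [pullback.map]
  map_comp f f' := by
    apply pullback.hom_ext <;> simp [pullback.map]

/-- The projection to the original diagram. -/
@[simps]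
noncomputable def bcDiagramι : bcDiagram D k g ⟶ Over.forget k ⋙ D where
  app j := pullback.fst (D.map j.hom) g
  naturality j j' f := by simp [pullback.map]

/-- The cone with vertex `c.pt ×_{D_k} T`. -/
@[simps]
noncomputable def bcCone : Cone (bcDiagram D k g) where
  pt := pullback (c.π.app k) g
  π :=
  { app j := pullback.map (c.π.app k) g (D.map j.hom) g (c.π.app j.left) (𝟙 T) (𝟙 _)
      (by rw [Category.comp_id, c.w]) (by simp)
    naturality j j' f := by
      apply pullback.hom_ext
      · simp [pullback.map]
      · simp [pullback.map] }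

attribute [local instance] CategoryTheory.isConnected_of_hasTerminal

/-- Base change of a limit cone along `T ⟶ D_k` is a limit cone. -/
noncomputable def isLimitBcCone [IsCofiltered I] (hc : IsLimit c) :
    IsLimit (bcCone D c k g) :=
  isLimitOfIsPullbackOfIsConnected (bcDiagramι D k g) _ _
    (by exact { hom := pullback.fst (c.π.app k) g, w := fun j => by simp [pullback.map] })
    (fun j => by
      have houter : IsPullback
          ((bcCone D c k g).π.app j ≫ pullback.snd (D.map j.hom) g)
          (pullback.fst (c.π.app k) g) g (c.π.app j.left ≫ D.map j.hom) := by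
        have e1 : (bcCone D c k g).π.app j ≫ pullback.snd (D.map j.hom) g =
            pullback.snd (c.π.app k) g := by simp [pullback.map]
        have e2 : c.π.app j.left ≫ D.map j.hom = c.π.app k := c.w j.hom
        rw [e1, e2]
        exact (IsPullback.of_hasPullback _ _).flip
      exact IsPullback.of_right houter (by simp [pullback.map])
        (IsPullback.of_hasPullback _ _).flip)
    ((Functor.Initial.isLimitWhiskerEquiv (Over.forget k) c).symm hc)

instance [hD : ∀ (i j : I) (f : i ⟶ j), IsAffineHom (D.map f)] {j j' : Over k} (f : j ⟶ j') :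
    IsAffineHom ((bcDiagram D k g).map f) := by
  haveI h1 : IsAffineHom (D.map j.hom) := hD _ _ j.hom
  haveI h2 : IsAffineHom (D.map j'.hom) := hD _ _ j'.hom
  haveI : IsAffineHom ((bcDiagram D k g).map f ≫ pullback.snd (D.map j'.hom) g) := by
    have : (bcDiagram D k g).map f ≫ pullback.snd (D.map j'.hom) g =
        pullback.snd (D.map j.hom) g := by simp [pullback.map]
    rw [this]
    exact MorphismProperty.pullback_snd (P := @IsAffineHom) _ _ h1
  haveI : IsAffineHom (pullback.snd (D.map j'.hom) g) :=
    MorphismProperty.pullback_snd (P := @IsAffineHom) _ _ h2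
  exact IsAffineHom.of_comp _ (pullback.snd (D.map j'.hom) g)

/-- If `T` is quasi-compact and all `D_j ×_{D_k} T` are nonempty, then so is `lim D ×_{D_k} T`. -/
theorem nonempty_pullback_π [IsCofiltered I] (hc : IsLimit c)
    [hD : ∀ (i j : I) (f : i ⟶ j), IsAffineHom (D.map f)] [CompactSpace T]
    (h : ∀ (j : I) (φ : j ⟶ k), Nonempty ↥(pullback (D.map φ) g)) :
    Nonempty ↥(pullback (c.π.app k) g) := by
  haveI : ∀ j : Over k, Nonempty ↥((bcDiagram D k g).obj j) := fun j => h j.left j.hom
  haveI : ∀ j : Over k, CompactSpace ↥((bcDiagram D k g).obj j) := fun j => by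
    haveI h1 : IsAffineHom (D.map j.hom) := hD _ _ j.hom
    show CompactSpace ↥(pullback (D.map j.hom) g)
    infer_instance
  exact Scheme.nonempty_of_isLimit (bcDiagram D k g) (bcCone D c k g) (isLimitBcCone D c k g hc)

/-- The image of the projection from the limit is the intersection of the images of the
transition maps. -/
theorem range_π_eq_iInter [IsCofiltered I] (hc : IsLimit c)
    [∀ (i j : I) (f : i ⟶ j), IsAffineHom (D.map f)] :
    Set.range ⇑(c.π.app k) = ⋂ (j : I) (φ : j ⟶ k), Set.range ⇑(D.map φ) := by
  apply subset_antisymm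
  · rintro _ ⟨s, rfl⟩
    simp only [Set.mem_iInter, Set.mem_range]
    intro j φ
    refine ⟨c.π.app j s, ?_⟩
    have h := Scheme.Hom.comp_apply (c.π.app j) (D.map φ) s
    rw [c.w] at h
    exact h.symm
  · intro x hx
    simp only [Set.mem_iInter, Set.mem_range] at hx
    have hne : ∀ (j : I) (φ : j ⟶ k),
        Nonempty ↥(pullback (D.map φ) ((D.obj k).fromSpecResidueField x)) := by
      intro j φ
      obtain ⟨y, hy⟩ := hx j φ
      obtain ⟨t⟩ : Nonempty ↥(Spec ((D.obj k).residueField x)) := inferInstance
      have ht : (D.obj k).fromSpecResidueField x t = x :=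
        Scheme.fromSpecResidueField_apply x t
      obtain ⟨z, -⟩ := Scheme.Pullback.exists_preimage_pullback (f := D.map φ)
        (g := (D.obj k).fromSpecResidueField x) y t (hy.trans ht.symm)
      exact ⟨z⟩
    obtain ⟨z⟩ := nonempty_pullback_π D c k ((D.obj k).fromSpecResidueField x) hc hne
    refine ⟨pullback.fst (c.π.app k) ((D.obj k).fromSpecResidueField x) z, ?_⟩
    rw [← Scheme.Hom.comp_apply, pullback.condition, Scheme.Hom.comp_apply]
    exact Scheme.fromSpecResidueField_apply x _

end

end Groth.Agent.Lib.helper9
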