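/-
Helper library (helper9): spectral spaces and the constructible topology.
-/
import Mathlib.Topology.Spectral.Basic
import Mathlib.Topology.Spectral.Hom
import Mathlib.Topology.Spectral.ConstructibleTopology
import Mathlib.Topology.Connected.TotallyDisconnected
import Mathlib.Topology.Connected.Separation

set_option autoImplicit false

namespace Groth.Agent.Lib.helper9

open Topology TopologicalSpace

universe u

variable {X : Type u} [tX : TopologicalSpace X]

/-- The identity `X → WithTopology X t` as a homeomorphism from `(X, t)`. -/
def withTopologyHomeomorph (t : TopologicalSpace X) :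
    @Homeomorph X (WithTopology X t) t _ :=
  @Homeomorph.mk X (WithTopology X t) t _ (WithTopology.equiv X t).symm
    (WithTopology.continuous_toTopology t) (WithTopology.continuous_ofTopology t)

/-- Compact opens are clopen for the constructible topology. -/
theorem isClopen_constructibleTopology {U : Set X} (ho : IsOpen U) (hc : IsCompact U) :
    @IsClopen X (constructibleTopology X) U := by
  refine ⟨?_, hc.isOpen_constructibleTopology_of_isOpen ho⟩
  rw [← @isOpen_compl_iff X U (constructibleTopology X)]
  exact IsCompact.isOpen_constructibleTopology_of_isClosed (by simpa using hc) ho.isClosed_compl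

/-- In a prespectral space the constructible topology is finer than the original one. -/
theorem constructibleTopology_le [PrespectralSpace X] : constructibleTopology X ≤ tX := by
  intro U hU
  obtain ⟨S, hS, rfl⟩ := (PrespectralSpace.isTopologicalBasis (X := X)).open_eq_sUnion hU
  exact @isOpen_sUnion X (constructibleTopology X) S fun s hs =>
    (hS hs).2.isOpen_constructibleTopology_of_isOpen (hS hs).1

theorem isOpen_constructibleTopology_of_isOpen' [PrespectralSpace X] {U : Set X} (hU : IsOpen U) :
    @IsOpen X (constructibleTopology X) U :=
  constructibleTopology_le U hU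

theorem isClosed_constructibleTopology_of_isClosed [PrespectralSpace X] {Z : Set X}
    (hZ : IsClosed Z) : @IsClosed X (constructibleTopology X) Z := by
  rw [← @isOpen_compl_iff X Z (constructibleTopology X)]
  exact isOpen_constructibleTopology_of_isOpen' hZ.isOpen_compl

/-- In a T0 prespectral space two distinct points are separated by a compact open. -/
theorem exists_isCompact_isOpen_xor_mem [T0Space X] [PrespectralSpace X] {x y : X} (h : x ≠ y) :
    ∃ U : Set X, IsOpen U ∧ IsCompact U ∧ Xor (x ∈ U) (y ∈ U) := by
  obtain ⟨V, hV, hxy⟩ := exists_isOpen_xor_mem h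
  rcases hxy with ⟨hx, hy⟩ | ⟨hy, hx⟩
  · obtain ⟨U, ⟨hUo, hUc⟩, hxU, hUV⟩ :=
      (PrespectralSpace.isTopologicalBasis (X := X)).exists_subset_of_mem_open hx hV
    exact ⟨U, hUo, hUc, Or.inl ⟨hxU, fun h => hy (hUV h)⟩⟩
  · obtain ⟨U, ⟨hUo, hUc⟩, hyU, hUV⟩ :=
      (PrespectralSpace.isTopologicalBasis (X := X)).exists_subset_of_mem_open hy hV
    exact ⟨U, hUo, hUc, Or.inr ⟨hyU, fun h => hx (hUV h)⟩⟩

/-- The constructible topology of a T0 prespectral space is totally separated. -/
theorem totallySeparatedSpace_constructibleTopology [T0Space X] [PrespectralSpace X] :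
    @TotallySeparatedSpace X (constructibleTopology X) := by
  refine @TotallySeparatedSpace.mk X (constructibleTopology X) (fun x _ y _ hxy => ?_)
  obtain ⟨U, hUo, hUc, hU⟩ := exists_isCompact_isOpen_xor_mem hxy
  have hclopen := isClopen_constructibleTopology hUo hUc
  rcases hU with ⟨hx, hy⟩ | ⟨hy, hx⟩
  · exact ⟨U, Uᶜ, hclopen.2, hclopen.1.isOpen_compl, hx, hy, by simp, disjoint_compl_right⟩
  · exact ⟨Uᶜ, U, hclopen.1.isOpen_compl, hclopen.2, hx, hy, by simp, disjoint_compl_left⟩

theorem t2Space_constructibleTopology [T0Space X] [PrespectralSpace X] :
    @T2Space X (constructibleTopology X) :=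
  @TotallySeparatedSpace.t2Space X (constructibleTopology X)
    totallySeparatedSpace_constructibleTopology

theorem totallyDisconnectedSpace_constructibleTopology [T0Space X] [PrespectralSpace X] :
    @TotallyDisconnectedSpace X (constructibleTopology X) :=
  @TotallySeparatedSpace.totallyDisconnectedSpace X (constructibleTopology X)
    totallySeparatedSpace_constructibleTopology

/-- Compactness of the constructible topology, stated on `X` itself. -/
theorem compactSpace_constructibleTopology [CompactSpace X] [QuasiSober X]
    [PrespectralSpace X] [QuasiSeparatedSpace X] : @CompactSpace X (constructibleTopology X) :=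
  @Homeomorph.compactSpace (WithConstructibleTopology X) X _ (constructibleTopology X)
    inferInstance (@Homeomorph.symm X (WithConstructibleTopology X) (constructibleTopology X) _
      (withTopologyHomeomorph (constructibleTopology X)))

end Groth.Agent.Lib.helper9
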