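/-
Helper library (helper9): subsets of spectral spaces closed in the constructible topology.
-/
import Groth.Agent.Lib.Helper9.Spectral

set_option autoImplicit false

namespace Groth.Agent.Lib.helper9

open Topology TopologicalSpace

universe u

variable {X : Type u} [tX : TopologicalSpace X]

/-- A compact set for the constructible topology is compact for the original topology. -/
theorem isCompact_of_isCompact_constructibleTopology [PrespectralSpace X] {E : Set X}
    (hE : @IsCompact X (constructibleTopology X) E) : IsCompact E := by
  have := @IsCompact.image X X (constructibleTopology X) tX E id hE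
    (continuous_id_of_le constructibleTopology_le)
  simpa using this

/-- A constructibly closed subset of a spectral space is compact. -/
theorem isCompact_of_isClosed_constructibleTopology [CompactSpace X] [QuasiSober X]
    [PrespectralSpace X] [QuasiSeparatedSpace X] {E : Set X}
    (hE : @IsClosed X (constructibleTopology X) E) : IsCompact E :=
  isCompact_of_isCompact_constructibleTopology
    (@IsClosed.isCompact X (constructibleTopology X) E compactSpace_constructibleTopology hE)

/-- If `ξ` is a point of a constructibly open set `O`, and `ξ ∈ closure Z`, then `O` meets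
`Z ∩ closure {ξ}`... more precisely: some point of `Z` which is a specialization of `ξ`
lies in `O`, provided `Z ⊆ closure {ξ}`. -/
theorem exists_mem_of_isOpen_constructibleTopology {O Z : Set X} {ξ : X}
    (hO : @IsOpen X (constructibleTopology X) O) (hξO : ξ ∈ O) (hξZ : ξ ∈ closure Z)
    (hZξ : Z ⊆ closure {ξ}) : ∃ z ∈ Z, z ∈ O := by
  have hbasis := @isTopologicalBasis_of_subbasis X (constructibleTopology X)
    (constructibleTopologySubbasis X) rfl
  obtain ⟨_, ⟨f, ⟨hf, hfsub⟩, rfl⟩, hξf, hfO⟩ :=
    @IsTopologicalBasis.exists_subset_of_mem_open X (constructibleTopology X) _ hbasis ξ O hξO hO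
  let W : Set X := ⋂₀ {s ∈ f | IsOpen s}
  have hW : IsOpen W := (hf.subset (Set.sep_subset _ _)).isOpen_sInter fun s hs => hs.2
  have hξW : ξ ∈ W := fun s hs => hξf s hs.1
  obtain ⟨z, hzW, hzZ⟩ := mem_closure_iff.mp hξZ W hW hξW
  refine ⟨z, hzZ, hfO ?_⟩
  intro s hs
  rcases hfsub hs with h | h
  · exact hzW s ⟨hs, h.1⟩
  · exact (h.1.closure_subset_iff.mpr (Set.singleton_subset_iff.mpr (hξf s hs))) (hZξ hzZ)

/-- The generic point of the closure of a subset of a constructibly closed set `E` lies in `E`. -/
theorem mem_of_isGenericPoint_closure {E Z : Set X} {ξ : X}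
    (hE : @IsClosed X (constructibleTopology X) E) (hZE : Z ⊆ E)
    (hξ : IsGenericPoint ξ (closure Z)) : ξ ∈ E := by
  by_contra hξE
  have hO : @IsOpen X (constructibleTopology X) Eᶜ := hE.isOpen_compl
  obtain ⟨z, hzZ, hzE⟩ := exists_mem_of_isOpen_constructibleTopology hO hξE
    (hξ.def ▸ subset_closure (Set.mem_singleton ξ)) (hξ.def ▸ subset_closure)
  exact hzE (hZE hzZ)

/-- A constructibly closed subset of a quasi-sober space is quasi-sober. -/
theorem quasiSober_of_isClosed_constructibleTopology [QuasiSober X] {E : Set X}
    (hE : @IsClosed X (constructibleTopology X) E) : QuasiSober E := by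
  refine ⟨fun {T} hT hTc => ?_⟩
  have hZ : IsIrreducible (closure (Subtype.val '' T)) :=
    (hT.image Subtype.val continuous_subtype_val.continuousOn).closure
  obtain ⟨ξ, hξ⟩ := QuasiSober.sober hZ isClosed_closure
  have hξE : ξ ∈ E := mem_of_isGenericPoint_closure hE
    (by rintro _ ⟨t, _, rfl⟩; exact t.2) hξ
  refine ⟨⟨ξ, hξE⟩, ?_⟩
  change closure {(⟨ξ, hξE⟩ : E)} = T
  rw [IsInducing.subtypeVal.closure_eq_preimage_closure_image, Set.image_singleton, hξ.def,
    ← IsInducing.subtypeVal.closure_eq_preimage_closure_image, hTc.closure_eq]

/-- The trace on a constructibly closed set of a compact open is compact (in the subspace). -/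
theorem isCompact_preimage_val_of_isClosed_constructibleTopology [CompactSpace X] [QuasiSober X]
    [PrespectralSpace X] [QuasiSeparatedSpace X] {E : Set X}
    (hE : @IsClosed X (constructibleTopology X) E) {U : Set X} (hUo : IsOpen U)
    (hUc : IsCompact U) : IsCompact ((Subtype.val : E → X) ⁻¹' U) := by
  rw [Subtype.isCompact_iff, Subtype.image_preimage_coe]
  exact isCompact_of_isClosed_constructibleTopology
    (@IsClosed.inter X E U (constructibleTopology X) hE (isClopen_constructibleTopology hUo hUc).1)

/-- A constructibly closed subset of a spectral space is spectral. -/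
theorem spectralSpace_of_isClosed_constructibleTopology [SpectralSpace X] {E : Set X}
    (hE : @IsClosed X (constructibleTopology X) E) : SpectralSpace E := by
  haveI : CompactSpace E := isCompact_iff_compactSpace.mp
    (isCompact_of_isClosed_constructibleTopology hE)
  haveI : QuasiSober E := quasiSober_of_isClosed_constructibleTopology hE
  -- the basis of traces of compact opens
  have hb : IsTopologicalBasis (Set.range
      (fun U : {U : Set X | IsOpen U ∧ IsCompact U} => (Subtype.val : E → X) ⁻¹' (U : Set X))) := by
    have := (PrespectralSpace.isTopologicalBasis (X := X)).isInducing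
      (IsInducing.subtypeVal (t := E))
    convert this using 1
    ext s
    simp only [Set.mem_range, Subtype.exists, Set.mem_image, exists_prop]
  haveI : PrespectralSpace E := PrespectralSpace.of_isTopologicalBasis' hb fun U =>
    isCompact_preimage_val_of_isClosed_constructibleTopology hE U.2.1 U.2.2
  haveI : QuasiSeparatedSpace E := QuasiSeparatedSpace.of_isTopologicalBasis hb fun U V => by
    rw [← Set.preimage_inter]
    exact isCompact_preimage_val_of_isClosed_constructibleTopology hE (U.2.1.inter V.2.1)
      (QuasiSeparatedSpace.inter_isCompact _ _ U.2.1 U.2.2 V.2.1 V.2.2)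
  exact { }

/-- Every point of the closure of a constructibly closed set `E` is a specialization of a point
of `E`. -/
theorem exists_specializes_of_mem_closure [CompactSpace X] [QuasiSober X]
    [PrespectralSpace X] [QuasiSeparatedSpace X] {E : Set X}
    (hE : @IsClosed X (constructibleTopology X) E) {x : X} (hx : x ∈ closure E) :
    ∃ e ∈ E, e ⤳ x := by
  have hEc : @IsCompact X (constructibleTopology X) E :=
    @IsClosed.isCompact X (constructibleTopology X) E compactSpace_constructibleTopology hE
  let ι := {U : Set X // IsOpen U ∧ IsCompact U ∧ x ∈ U}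
  have key := @IsCompact.inter_iInter_nonempty X (constructibleTopology X) E ι hEc
    (fun U => (U : Set X)) (fun U => (isClopen_constructibleTopology U.2.1 U.2.2.1).1) ?_
  · obtain ⟨e, heE, he⟩ := key
    refine ⟨e, heE, specializes_iff_forall_open.mpr fun s hs hxs => ?_⟩
    obtain ⟨U, ⟨hUo, hUc⟩, hxU, hUs⟩ :=
      (PrespectralSpace.isTopologicalBasis (X := X)).exists_subset_of_mem_open hxs hs
    exact hUs (Set.mem_iInter.mp he ⟨U, hUo, hUc, hxU⟩)
  · intro u
    have hopen : IsOpen (⋂ i ∈ u, (i : Set X)) :=
      isOpen_biInter_finset fun i _ => i.2.1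
    have hxmem : x ∈ ⋂ i ∈ u, (i : Set X) := by
      simp only [Set.mem_iInter]
      exact fun i _ => i.2.2.2
    obtain ⟨z, hz1, hz2⟩ := mem_closure_iff.mp hx _ hopen hxmem
    exact ⟨z, hz2, hz1⟩

/-- A constructibly closed set stable under specialization is closed. -/
theorem isClosed_of_isClosed_constructibleTopology_of_stableUnderSpecialization
    [CompactSpace X] [QuasiSober X] [PrespectralSpace X] [QuasiSeparatedSpace X] {E : Set X}
    (hE : @IsClosed X (constructibleTopology X) E) (hs : StableUnderSpecialization E) :
    IsClosed E := by
  rw [← closure_subset_iff_isClosed]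
  intro x hx
  obtain ⟨e, heE, hex⟩ := exists_specializes_of_mem_closure hE hx
  exact hs hex heE

/-- A constructibly open set stable under generalization is open. -/
theorem isOpen_of_isOpen_constructibleTopology_of_stableUnderGeneralization
    [CompactSpace X] [QuasiSober X] [PrespectralSpace X] [QuasiSeparatedSpace X] {E : Set X}
    (hE : @IsOpen X (constructibleTopology X) E) (hs : StableUnderGeneralization E) :
    IsOpen E := by
  rw [← isClosed_compl_iff]
  exact isClosed_of_isClosed_constructibleTopology_of_stableUnderSpecialization
    (@IsOpen.isClosed_compl X (constructibleTopology X) E hE) hs.compl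

end Groth.Agent.Lib.helper9
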