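/-
Helper library (helper9): directed intersections of constructibly closed sets in spectral spaces.
-/
import Groth.Agent.Lib.Helper9.SpectralSub

set_option autoImplicit false

namespace Groth.Agent.Lib.helper9

open Topology TopologicalSpace

universe u v

variable {X : Type u} [tX : TopologicalSpace X]

/-- Cantor intersection for a directed family of nonempty constructibly closed subsets of a
spectral space. -/
theorem nonempty_iInter_of_directed_isClosed_constructibleTopology [CompactSpace X] [QuasiSober X]
    [PrespectralSpace X] [QuasiSeparatedSpace X] {ι : Type v} [Nonempty ι] (t : ι → Set X)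
    (htd : Directed (· ⊇ ·) t) (htn : ∀ i, (t i).Nonempty)
    (htcl : ∀ i, @IsClosed X (constructibleTopology X) (t i)) : (⋂ i, t i).Nonempty :=
  @IsCompact.nonempty_iInter_of_directed_nonempty_isCompact_isClosed X (constructibleTopology X)
    ι _ t htd htn
    (fun i => @IsClosed.isCompact X (constructibleTopology X) (t i)
      compactSpace_constructibleTopology (htcl i)) htcl

/-- If a directed intersection of compact opens of a spectral space is contained in an open
set (more generally a constructibly open set), so is one of them. -/
theorem exists_subset_of_iInter_subset [CompactSpace X] [QuasiSober X]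
    [PrespectralSpace X] [QuasiSeparatedSpace X] {ι : Type v} [Nonempty ι] (U : ι → Set X)
    (hU : ∀ i, @IsClosed X (constructibleTopology X) (U i))
    (hdir : ∀ i j, ∃ k, U k ⊆ U i ∩ U j) {V : Set X}
    (hV : @IsOpen X (constructibleTopology X) V) (hUV : (⋂ i, U i) ⊆ V) : ∃ i, U i ⊆ V := by
  by_contra h
  push Not at h
  have hne : ∀ i, (U i ∩ Vᶜ).Nonempty := fun i => by
    obtain ⟨x, hxU, hxV⟩ := Set.not_subset.mp (h i)
    exact ⟨x, hxU, hxV⟩
  have hd : Directed (· ⊇ ·) fun i => U i ∩ Vᶜ := fun i j => by
    obtain ⟨k, hk⟩ := hdir i j
    exact ⟨k, Set.inter_subset_inter_left _ (hk.trans Set.inter_subset_left),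
      Set.inter_subset_inter_left _ (hk.trans Set.inter_subset_right)⟩
  obtain ⟨x, hx⟩ := nonempty_iInter_of_directed_isClosed_constructibleTopology _ hd hne
    (fun i => @IsClosed.inter X (U i) Vᶜ (constructibleTopology X) (hU i)
      (@IsOpen.isClosed_compl X (constructibleTopology X) V hV))
  rw [Set.mem_iInter] at hx
  exact (hx (Classical.arbitrary ι)).2 (hUV (Set.mem_iInter.mpr fun i => (hx i).1))

end Groth.Agent.Lib.helper9
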