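/-
Helper library (helper9): constructible sets in spectral spaces.
-/
import Groth.Agent.Lib.Helper9.SpectralDir
import Mathlib.Topology.Constructible

set_option autoImplicit false

namespace Groth.Agent.Lib.helper9

open Topology TopologicalSpace

universe u v

variable {X : Type u} [tX : TopologicalSpace X]

/-- In a quasi-separated space compact opens are retrocompact. -/
theorem isRetrocompact_of_isCompact_isOpen [QuasiSeparatedSpace X] {U : Set X} (hUo : IsOpen U)
    (hUc : IsCompact U) : IsRetrocompact U :=
  fun V hVc hVo => QuasiSeparatedSpace.inter_isCompact U V hUo hUc hVo hVc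

theorem isConstructible_of_isCompact_isOpen [QuasiSeparatedSpace X] {U : Set X} (hUo : IsOpen U)
    (hUc : IsCompact U) : IsConstructible U :=
  (isRetrocompact_of_isCompact_isOpen hUo hUc).isConstructible hUo

/-- In a compact space constructible sets are clopen for the constructible topology. -/
theorem isClopen_constructibleTopology_of_isConstructible [CompactSpace X] {s : Set X}
    (hs : IsConstructible s) : @IsClopen X (constructibleTopology X) s := by
  induction hs using IsConstructible.empty_union_induction with
  | open_retrocompact U hUo hUc =>
    have : IsCompact U := by simpa using hUc isCompact_univ isOpen_univ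
    exact isClopen_constructibleTopology hUo this
  | union s hs t ht hs' ht' => exact @IsClopen.union X (constructibleTopology X) s t hs' ht'
  | compl s hs hs' => exact @IsClopen.compl X (constructibleTopology X) s hs'

/-- Finite intersections of compact opens in a compact quasi-separated space are compact
open. -/
theorem isOpen_isCompact_biInter_finset [CompactSpace X] [QuasiSeparatedSpace X] {ι : Type v}
    (F : Finset ι) (U : ι → Set X) (hU : ∀ i ∈ F, IsOpen (U i) ∧ IsCompact (U i)) :
    IsOpen (⋂ i ∈ F, U i) ∧ IsCompact (⋂ i ∈ F, U i) := by
  classical
  induction F using Finset.induction_on with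
  | empty => simpa using isCompact_univ
  | insert a F _ ih =>
    have h1 := hU a (Finset.mem_insert_self a F)
    have h2 := ih fun i hi => hU i (Finset.mem_insert_of_mem hi)
    rw [Finset.set_biInter_insert]
    exact ⟨h1.1.inter h2.1, QuasiSeparatedSpace.inter_isCompact _ _ h1.1 h1.2 h2.1 h2.2⟩

/-- The set of generalizations of the points of a compact set `E` is the intersection of the
compact opens containing `E`. -/
theorem setOf_generalizations_eq_sInter [PrespectralSpace X] {E : Set X} (hE : IsCompact E) :
    {x | ∃ e ∈ E, x ⤳ e} = ⋂₀ {U : Set X | IsOpen U ∧ IsCompact U ∧ E ⊆ U} := by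
  ext x
  simp only [Set.mem_sInter, Set.mem_ofPred_eq]
  constructor
  · rintro ⟨e, heE, hxe⟩ U ⟨hUo, -, hEU⟩
    exact hxe.mem_open hUo (hEU heE)
  · intro h
    by_contra hx
    push Not at hx
    have hsub : E ⊆ (closure {x})ᶜ := fun e heE he =>
      hx e heE (specializes_iff_mem_closure.mpr he)
    obtain ⟨W, hWc, hWo, hEW, hWx⟩ :=
      PrespectralSpace.exists_isCompact_and_isOpen_between hE isClosed_closure.isOpen_compl hsub
    exact hWx (h W ⟨hWo, hWc, hEW⟩) (subset_closure rfl)

end Groth.Agent.Lib.helper9
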