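/-
Helper library (helper9): the constructible topology of a compact quasi-separated space:
clopen = constructible, closed = intersection of constructibles, open = union of constructibles.
-/
import Groth.Agent.Lib.Helper9.SpectralCons

set_option autoImplicit false
set_option linter.style.haveILetI false

namespace Groth.Agent.Lib.helper9

open Topology TopologicalSpace Set

universe u

variable {X : Type u} [tX : TopologicalSpace X]

/-- Members of the subbasis of the constructible topology are constructible (in a compact
quasi-separated space). -/
theorem isConstructible_of_mem_subbasis [CompactSpace X] [QuasiSeparatedSpace X] {s : Set X}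
    (hs : s ∈ constructibleTopologySubbasis X) : IsConstructible s := by
  rcases hs with hs | hs
  · exact isConstructible_of_isCompact_isOpen hs.1 hs.2
  · exact (isConstructible_of_isCompact_isOpen hs.1.isOpen_compl hs.2).of_compl

/-- A basis of the constructible topology consisting of constructible sets. -/
theorem exists_isConstructible_mem_subset_of_isOpen_constructibleTopology [CompactSpace X]
    [QuasiSeparatedSpace X] {O : Set X} (hO : @IsOpen X (constructibleTopology X) O) {x : X}
    (hx : x ∈ O) : ∃ B : Set X, IsConstructible B ∧ x ∈ B ∧ B ⊆ O := by
  have hbasis := @isTopologicalBasis_of_subbasis X (constructibleTopology X)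
    (constructibleTopologySubbasis X) rfl
  obtain ⟨B, ⟨f, ⟨hf, hfs⟩, rfl⟩, hxB, hBO⟩ :=
    @IsTopologicalBasis.exists_subset_of_mem_open X (constructibleTopology X) _ hbasis x O hx hO
  exact ⟨⋂₀ f, IsConstructible.sInter hf fun s hs => isConstructible_of_mem_subbasis (hfs hs),
    hxB, hBO⟩

/-- In a spectral space, sets that are clopen for the constructible topology are constructible. -/
theorem isConstructible_of_isClopen_constructibleTopology [CompactSpace X] [QuasiSober X]
    [PrespectralSpace X] [QuasiSeparatedSpace X] {s : Set X}
    (hs : @IsClopen X (constructibleTopology X) s) : IsConstructible s := by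
  have hc : @CompactSpace X (constructibleTopology X) := compactSpace_constructibleTopology
  have hsc : @IsCompact X (constructibleTopology X) s :=
    @IsClosed.isCompact X (constructibleTopology X) s hc hs.1
  have hex : ∀ x ∈ s, ∃ B : Set X, IsConstructible B ∧ x ∈ B ∧ B ⊆ s := fun x hx =>
    exists_isConstructible_mem_subset_of_isOpen_constructibleTopology hs.2 hx
  choose! B hB hxB hBs using hex
  obtain ⟨t, hts, hst⟩ := @IsCompact.elim_nhds_subcover X (constructibleTopology X) s hsc B
    (fun x hx => @IsOpen.mem_nhds X (constructibleTopology X) x (B x)
      (isClopen_constructibleTopology_of_isConstructible (hB x hx)).2 (hxB x hx))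
  have heq : s = ⋃ x ∈ t, B x := by
    apply subset_antisymm hst
    exact Set.iUnion₂_subset fun x hx => hBs x (hts x hx)
  rw [heq]
  exact IsConstructible.biUnion t.finite_toSet fun x hx => hB x (hts x hx)

/-- In a compact quasi-separated space, a set is closed for the constructible topology iff it is an
intersection of constructible sets. -/
theorem isClosed_constructibleTopology_iff_sInter [CompactSpace X] [QuasiSeparatedSpace X]
    {E : Set X} : @IsClosed X (constructibleTopology X) E ↔
      ∃ S : Set (Set X), (∀ T ∈ S, IsConstructible T) ∧ E = ⋂₀ S := by
  constructor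
  · intro hE
    refine ⟨{T | IsConstructible T ∧ E ⊆ T}, fun T hT => hT.1, ?_⟩
    apply subset_antisymm
    · exact Set.subset_sInter fun T hT => hT.2
    · intro y hy
      by_contra hyE
      obtain ⟨B, hB, hyB, hBE⟩ :=
        exists_isConstructible_mem_subset_of_isOpen_constructibleTopology
          (@IsClosed.isOpen_compl X (constructibleTopology X) E hE) hyE
      have : y ∈ Bᶜ := hy Bᶜ ⟨hB.compl, fun e he heB => hBE heB he⟩
      exact this hyB
  · rintro ⟨S, hS, rfl⟩
    exact @isClosed_sInter X (constructibleTopology X) S fun T hT =>
      (isClopen_constructibleTopology_of_isConstructible (hS T hT)).1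

/-- In a compact quasi-separated space, a set is open for the constructible topology iff it is a
union of constructible sets. -/
theorem isOpen_constructibleTopology_iff_sUnion [CompactSpace X] [QuasiSeparatedSpace X]
    {E : Set X} : @IsOpen X (constructibleTopology X) E ↔
      ∃ S : Set (Set X), (∀ T ∈ S, IsConstructible T) ∧ E = ⋃₀ S := by
  constructor
  · intro hE
    refine ⟨{T | IsConstructible T ∧ T ⊆ E}, fun T hT => hT.1, ?_⟩
    apply subset_antisymm
    · intro y hy
      obtain ⟨B, hB, hyB, hBE⟩ :=
        exists_isConstructible_mem_subset_of_isOpen_constructibleTopology hE hy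
      exact Set.mem_sUnion.mpr ⟨B, ⟨hB, hBE⟩, hyB⟩
    · exact Set.sUnion_subset fun T hT => hT.2
  · rintro ⟨S, hS, rfl⟩
    exact @isOpen_sUnion X (constructibleTopology X) S fun T hT =>
      (isClopen_constructibleTopology_of_isConstructible (hS T hT)).2

end Groth.Agent.Lib.helper9
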