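/-
Helper library (helper9): spectral maps and the constructible topology.
-/
import Groth.Agent.Lib.Helper9.SpectralSub

set_option autoImplicit false

namespace Groth.Agent.Lib.helper9

open Topology TopologicalSpace

universe u v

variable {X : Type u} {Y : Type v} [tX : TopologicalSpace X] [tY : TopologicalSpace Y]

/-- A spectral map is continuous for the constructible topologies. -/
theorem continuous_constructibleTopology_of_isSpectralMap {f : X → Y} (hf : IsSpectralMap f) :
    @Continuous X Y (constructibleTopology X) (constructibleTopology Y) f := by
  refine continuous_generateFrom_iff.mpr fun s hs => ?_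
  rcases hs with hs | hs
  · exact (hf.isCompact_preimage_of_isOpen hs.1 hs.2).isOpen_constructibleTopology_of_isOpen
      (hs.1.preimage hf.continuous)
  · refine IsCompact.isOpen_constructibleTopology_of_isClosed ?_ (hs.1.preimage hf.continuous)
    rw [← Set.preimage_compl]
    exact hf.isCompact_preimage_of_isOpen hs.1.isOpen_compl hs.2

/-- A continuous map of spectral spaces which is continuous for the constructible topologies is
spectral. -/
theorem isSpectralMap_of_continuous_constructibleTopology [CompactSpace X] [QuasiSober X]
    [PrespectralSpace X] [QuasiSeparatedSpace X] {f : X → Y} (hf : Continuous f)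
    (hfc : @Continuous X Y (constructibleTopology X) (constructibleTopology Y) f) :
    IsSpectralMap f := by
  refine ⟨hf, fun s hso hsc => ?_⟩
  exact isCompact_of_isClosed_constructibleTopology
    (@IsClosed.preimage X Y (constructibleTopology X) (constructibleTopology Y) f hfc s
      (isClopen_constructibleTopology hso hsc).1)

/-- The fibres of a spectral map between spectral spaces are compact. -/
theorem isCompact_fiber_of_isSpectralMap [CompactSpace X] [QuasiSober X]
    [PrespectralSpace X] [QuasiSeparatedSpace X] [T0Space Y] [PrespectralSpace Y]
    {f : X → Y} (hf : IsSpectralMap f) (y : Y) : IsCompact (f ⁻¹' {y}) := by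
  have h1 : @IsClosed Y (constructibleTopology Y) {y} :=
    @isClosed_singleton Y (constructibleTopology Y)
      (@T2Space.t1Space Y (constructibleTopology Y) t2Space_constructibleTopology) y
  exact isCompact_of_isClosed_constructibleTopology
    (@IsClosed.preimage X Y (constructibleTopology X) (constructibleTopology Y) f
      (continuous_constructibleTopology_of_isSpectralMap hf) _ h1)

/-- The image of a constructibly closed set under a spectral map between spectral spaces is
constructibly closed. -/
theorem isClosed_constructibleTopology_image_of_isSpectralMap [CompactSpace X] [QuasiSober X]
    [PrespectralSpace X] [QuasiSeparatedSpace X] [T0Space Y] [PrespectralSpace Y]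
    {f : X → Y} (hf : IsSpectralMap f) {E : Set X}
    (hE : @IsClosed X (constructibleTopology X) E) :
    @IsClosed Y (constructibleTopology Y) (f '' E) := by
  have hEc : @IsCompact X (constructibleTopology X) E :=
    @IsClosed.isCompact X (constructibleTopology X) E compactSpace_constructibleTopology hE
  have := @IsCompact.image X Y (constructibleTopology X) (constructibleTopology Y) E f hEc
    (continuous_constructibleTopology_of_isSpectralMap hf)
  exact @IsCompact.isClosed Y (constructibleTopology Y) t2Space_constructibleTopology _ this

/-- The range of a spectral map between spectral spaces is constructibly closed. -/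
theorem isClosed_constructibleTopology_range_of_isSpectralMap [CompactSpace X] [QuasiSober X]
    [PrespectralSpace X] [QuasiSeparatedSpace X] [T0Space Y] [PrespectralSpace Y]
    {f : X → Y} (hf : IsSpectralMap f) :
    @IsClosed Y (constructibleTopology Y) (Set.range f) := by
  rw [← Set.image_univ]
  exact isClosed_constructibleTopology_image_of_isSpectralMap hf
    (@isClosed_univ X (constructibleTopology X))

end Groth.Agent.Lib.helper9
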