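/-
Helper library (helper9): pro-constructible and ind-constructible subsets of locally spectral
spaces, in terms of the constructible topology of spectral open subspaces.
-/
import Groth.Agent.Lib.Helper9.ConsBasis
import Groth.Agent.Lib.Helper9.SpectralMap
import Groth.Prelude.Def_ProCons

set_option autoImplicit false
set_option linter.style.haveILetI false

namespace Groth.Agent.Lib.helper9

open Topology TopologicalSpace Set

universe u

variable {X : Type u} [tX : TopologicalSpace X]

/-- Open subsets that are quasi-compact and quasi-separated. -/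
def IsSpectralOpen (V : Set X) : Prop := IsOpen V ∧ IsCompact V ∧ IsQuasiSeparated V

/-- Spaces with a basis of quasi-compact quasi-separated opens. -/
class LocallySpectral (X : Type u) [TopologicalSpace X] : Prop where
  basis : ∀ (x : X) (U : Set X), IsOpen U → x ∈ U → ∃ V, IsSpectralOpen V ∧ x ∈ V ∧ V ⊆ U

instance prespectralSpace_of_locallySpectral [LocallySpectral X] : PrespectralSpace X :=
  PrespectralSpace.of_isTopologicalBasis (B := {V | IsSpectralOpen V})
    (isTopologicalBasis_of_isOpen_of_nhds (fun _ hV => hV.1) (fun x U hx hU => by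
      obtain ⟨V, hV, hxV, hVU⟩ := LocallySpectral.basis x U hU hx
      exact ⟨V, hV, hxV, hVU⟩))
    (fun _ hV => hV.2.1)

section

variable [QuasiSober X] [T0Space X] [LocallySpectral X]

theorem IsSpectralOpen.spectralSpace {V : Set X} (hV : IsSpectralOpen V) : SpectralSpace ↥V :=
  { toT0Space := inferInstance
    toCompactSpace := isCompact_iff_compactSpace.mp hV.2.1
    toQuasiSober := hV.1.isOpenEmbedding_subtypeVal.quasiSober
    toQuasiSeparatedSpace := (isQuasiSeparated_iff_quasiSeparatedSpace V hV.1).mp hV.2.2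
    toPrespectralSpace := hV.1.isOpenEmbedding_subtypeVal.prespectralSpace }

/-- The trace of `E` on `V` is closed for the constructible topology of `V`. -/
def ConsClosedOn (E V : Set X) : Prop :=
  @IsClosed ↥V (constructibleTopology ↥V) (Subtype.val ⁻¹' E)

/-- The trace of `E` on `V` is open for the constructible topology of `V`. -/
def ConsOpenOn (E V : Set X) : Prop :=
  @IsOpen ↥V (constructibleTopology ↥V) (Subtype.val ⁻¹' E)

omit [QuasiSober X] [T0Space X] [LocallySpectral X] in
theorem consOpenOn_iff_compl {E V : Set X} : ConsOpenOn E V ↔ ConsClosedOn Eᶜ V := by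
  unfold ConsOpenOn ConsClosedOn
  rw [Set.preimage_compl]
  exact (@isClosed_compl_iff ↥V (constructibleTopology ↥V) _).symm

omit [QuasiSober X] [T0Space X] [LocallySpectral X] in
theorem consClosedOn_iff_compl {E V : Set X} : ConsClosedOn E V ↔ ConsOpenOn Eᶜ V := by
  rw [consOpenOn_iff_compl, compl_compl]

omit [QuasiSober X] [T0Space X] [LocallySpectral X] in
/-- The inclusion of spectral opens is a spectral map. -/
theorem isSpectralMap_inclusion {W V : Set X} (hW : IsSpectralOpen W) (hV : IsSpectralOpen V)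
    (hWV : W ⊆ V) : IsSpectralMap (Set.inclusion hWV) := by
  refine ⟨continuous_inclusion hWV, fun K hKo hKc => ?_⟩
  rw [IsEmbedding.subtypeVal.isCompact_iff]
  have hK'o : IsOpen (Subtype.val '' K : Set X) := hV.1.isOpenEmbedding_subtypeVal.isOpenMap _ hKo
  have hK'c : IsCompact (Subtype.val '' K : Set X) := hKc.image continuous_subtype_val
  have hK'V : (Subtype.val '' K : Set X) ⊆ V := by
    rintro _ ⟨k, -, rfl⟩
    exact k.2
  have := hV.2.2 _ _ hK'V hK'o hK'c hWV hW.1 hW.2.1
  convert this using 1
  ext x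
  constructor
  · rintro ⟨w, hw, rfl⟩
    exact ⟨⟨Set.inclusion hWV w, hw, rfl⟩, w.2⟩
  · rintro ⟨⟨k, hk, rfl⟩, hxW⟩
    exact ⟨⟨k.1, hxW⟩, by simpa [Set.inclusion] using hk, rfl⟩

omit [QuasiSober X] [T0Space X] [LocallySpectral X] in
theorem ConsClosedOn.mono {E W V : Set X} (h : ConsClosedOn E V) (hW : IsSpectralOpen W)
    (hV : IsSpectralOpen V) (hWV : W ⊆ V) : ConsClosedOn E W := by
  have hcont := continuous_constructibleTopology_of_isSpectralMap (isSpectralMap_inclusion hW hV hWV)
  exact @IsClosed.preimage ↥W ↥V (constructibleTopology ↥W) (constructibleTopology ↥V) _ hcont _ h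

/-- Constructible closedness can be checked on a finite cover by spectral opens. -/
theorem consClosedOn_of_finite_cover {E V : Set X} (hV : IsSpectralOpen V) {ι : Type*}
    (t : Finset ι) (W : ι → Set X) (hW : ∀ i ∈ t, IsSpectralOpen (W i)) (hWV : ∀ i ∈ t, W i ⊆ V)
    (hcov : V ⊆ ⋃ i ∈ t, W i) (h : ∀ i ∈ t, ConsClosedOn E (W i)) : ConsClosedOn E V := by
  haveI := hV.spectralSpace
  have hT2 : @T2Space ↥V (constructibleTopology ↥V) := t2Space_constructibleTopology
  have hcomp : ∀ i (hi : i ∈ t), @IsCompact ↥V (constructibleTopology ↥V)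
      (Set.inclusion (hWV i hi) '' (Subtype.val ⁻¹' E)) := by
    intro i hi
    haveI := (hW i hi).spectralSpace
    have hc : @CompactSpace ↥(W i) (constructibleTopology ↥(W i)) :=
      compactSpace_constructibleTopology
    have h1 : @IsCompact ↥(W i) (constructibleTopology ↥(W i)) (Subtype.val ⁻¹' E) :=
      @IsClosed.isCompact ↥(W i) (constructibleTopology ↥(W i)) _ hc (h i hi)
    have hcont := continuous_constructibleTopology_of_isSpectralMap
      (isSpectralMap_inclusion (hW i hi) hV (hWV i hi))
    exact @IsCompact.image ↥(W i) ↥V (constructibleTopology ↥(W i)) (constructibleTopology ↥V)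
      _ _ h1 hcont
  have heq : (Subtype.val ⁻¹' E : Set ↥V) =
      ⋃ i : t, Set.inclusion (hWV i.1 i.2) '' (Subtype.val ⁻¹' E) := by
    ext v
    constructor
    · intro hv
      have := hcov v.2
      simp only [Set.mem_iUnion] at this
      obtain ⟨i, hi, hvi⟩ := this
      exact Set.mem_iUnion.mpr ⟨⟨i, hi⟩, ⟨⟨v.1, hvi⟩, hv, rfl⟩⟩
    · intro hv
      obtain ⟨i, ⟨w, hw, rfl⟩⟩ := Set.mem_iUnion.mp hv
      exact hw
  unfold ConsClosedOn
  rw [heq]
  refine @IsCompact.isClosed ↥V (constructibleTopology ↥V) hT2 _ ?_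
  exact @isCompact_iUnion ↥V (constructibleTopology ↥V) _ _ _ fun i => hcomp i.1 i.2

theorem isLocallyConstructible_compl {Y : Type*} [TopologicalSpace Y] {s : Set Y}
    (hs : IsLocallyConstructible s) : IsLocallyConstructible sᶜ := by
  intro x
  obtain ⟨U, hxU, hU, hUs⟩ := hs x
  exact ⟨U, hxU, hU, by simpa using hUs.compl⟩

theorem isIndConstructible_iff_compl {Y : Type*} [TopologicalSpace Y] {E : Set Y} :
    ProCons.IsIndConstructible E ↔ ProCons.IsProConstructible Eᶜ := by
  constructor
  · intro h x
    obtain ⟨U, hU, hxU, S, hS, hES⟩ := h x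
    refine ⟨U, hU, hxU, compl '' S, ?_, ?_⟩
    · rintro _ ⟨T, hT, rfl⟩
      exact isLocallyConstructible_compl (hS T hT)
    · rw [Set.preimage_compl, hES, Set.compl_sUnion]
  · intro h x
    obtain ⟨U, hU, hxU, S, hS, hES⟩ := h x
    refine ⟨U, hU, hxU, compl '' S, ?_, ?_⟩
    · rintro _ ⟨T, hT, rfl⟩
      exact isLocallyConstructible_compl (hS T hT)
    · rw [← compl_compl (Subtype.val ⁻¹' E : Set ↥U), ← Set.preimage_compl, hES,
        Set.compl_sInter, Set.sUnion_image]

theorem isProConstructible_iff_compl {Y : Type*} [TopologicalSpace Y] {E : Set Y} :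
    ProCons.IsProConstructible E ↔ ProCons.IsIndConstructible Eᶜ := by
  rw [isIndConstructible_iff_compl, compl_compl]

/-- A pro-constructible set is closed for the constructible topology of every spectral open. -/
theorem consClosedOn_of_isProConstructible {E : Set X} (hE : ProCons.IsProConstructible E)
    {V : Set X} (hV : IsSpectralOpen V) : ConsClosedOn E V := by
  have hloc : ∀ x ∈ V, ∃ W : Set X, IsSpectralOpen W ∧ x ∈ W ∧ W ⊆ V ∧ ConsClosedOn E W := by
    intro x hxV
    obtain ⟨U, hU, hxU, S, hS, hES⟩ := hE x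
    obtain ⟨W, hW, hxW, hWVU⟩ := LocallySpectral.basis x (V ∩ U) (hV.1.inter hU) ⟨hxV, hxU⟩
    refine ⟨W, hW, hxW, hWVU.trans Set.inter_subset_left, ?_⟩
    haveI := hW.spectralSpace
    have hWU : W ⊆ U := hWVU.trans Set.inter_subset_right
    have hemb : IsOpenEmbedding (Set.inclusion hWU) :=
      IsOpenEmbedding.inclusion hWU (hW.1.preimage continuous_subtype_val)
    have heq : (Subtype.val ⁻¹' E : Set ↥W) = ⋂₀ ((fun T => Set.inclusion hWU ⁻¹' T) '' S) := by
      have : (Subtype.val ⁻¹' E : Set ↥W) = Set.inclusion hWU ⁻¹' (Subtype.val ⁻¹' E) := rfl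
      rw [this, hES, Set.sInter_image]
      ext w
      simp
    unfold ConsClosedOn
    rw [heq]
    refine @isClosed_sInter ↥W (constructibleTopology ↥W) _ ?_
    rintro _ ⟨T, hT, rfl⟩
    have h1 : IsLocallyConstructible (Set.inclusion hWU ⁻¹' T) :=
      (hS T hT).preimage_of_isOpenEmbedding hemb
    exact (isClopen_constructibleTopology_of_isConstructible h1.isConstructible).1
  choose! W hW hxW hWV hWE using hloc
  obtain ⟨t, htV, hcov⟩ := hV.2.1.elim_nhds_subcover W
    (fun x hx => (hW x hx).1.mem_nhds (hxW x hx))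
  exact consClosedOn_of_finite_cover hV t W (fun i hi => hW i (htV i hi))
    (fun i hi => hWV i (htV i hi)) hcov (fun i hi => hWE i (htV i hi))

/-- A set which is constructibly closed on spectral open neighbourhoods of all points is
pro-constructible. -/
theorem isProConstructible_of_consClosedOn {E : Set X}
    (h : ∀ x : X, ∃ V : Set X, IsSpectralOpen V ∧ x ∈ V ∧ ConsClosedOn E V) :
    ProCons.IsProConstructible E := by
  intro x
  obtain ⟨V, hV, hxV, hEV⟩ := h x
  haveI := hV.spectralSpace
  obtain ⟨S, hS, hES⟩ := isClosed_constructibleTopology_iff_sInter.mp hEV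
  exact ⟨V, hV.1, hxV, S, fun T hT => (hS T hT).isLocallyConstructible, hES⟩

theorem consOpenOn_of_isIndConstructible {E : Set X} (hE : ProCons.IsIndConstructible E)
    {V : Set X} (hV : IsSpectralOpen V) : ConsOpenOn E V :=
  consOpenOn_iff_compl.mpr
    (consClosedOn_of_isProConstructible (isIndConstructible_iff_compl.mp hE) hV)

theorem isIndConstructible_of_consOpenOn {E : Set X}
    (h : ∀ x : X, ∃ V : Set X, IsSpectralOpen V ∧ x ∈ V ∧ ConsOpenOn E V) :
    ProCons.IsIndConstructible E :=
  isIndConstructible_iff_compl.mpr (isProConstructible_of_consClosedOn fun x => by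
    obtain ⟨V, hV, hxV, hEV⟩ := h x
    exact ⟨V, hV, hxV, consOpenOn_iff_compl.mp hEV⟩)

end

end Groth.Agent.Lib.helper9
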