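/-
Helper library (helper9): schemes are locally spectral; neighbourhoods from generalizations.
-/
import Groth.Agent.Lib.Helper9.ProConsLoc
import Groth.Agent.Lib.Helper9.SpectralDir
import Mathlib.AlgebraicGeometry.Morphisms.QuasiSeparated
import Mathlib.AlgebraicGeometry.Properties

set_option autoImplicit false
set_option linter.style.haveILetI false

namespace Groth.Agent.Lib.helper9

open Topology TopologicalSpace Set AlgebraicGeometry

universe u

instance locallySpectral_scheme (X : Scheme.{u}) : LocallySpectral X where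
  basis x U hU hx := by
    obtain ⟨_, ⟨V, hV, rfl⟩, hxV, hVU⟩ :=
      X.isBasis_affineOpens.exists_subset_of_mem_open hx hU
    have hV' : IsAffineOpen V := hV
    exact ⟨V, ⟨V.2, hV'.isCompact, hV'.isQuasiSeparated⟩, hxV, hVU⟩

/-- In a spectral space, a constructibly open set containing all generalizations of a point
contains a compact open neighbourhood of that point. -/
theorem exists_isCompact_isOpen_subset_of_generalizations {Y : Type u} [TopologicalSpace Y]
    [CompactSpace Y] [QuasiSober Y] [PrespectralSpace Y] [QuasiSeparatedSpace Y] {O : Set Y}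
    (hO : @IsOpen Y (constructibleTopology Y) O) {y₀ : Y} (h : ∀ y, y ⤳ y₀ → y ∈ O) :
    ∃ U : Set Y, IsOpen U ∧ IsCompact U ∧ y₀ ∈ U ∧ U ⊆ O := by
  haveI : Nonempty {U : Set Y // IsOpen U ∧ IsCompact U ∧ y₀ ∈ U} :=
    ⟨⟨Set.univ, isOpen_univ, isCompact_univ, Set.mem_univ _⟩⟩
  obtain ⟨i, hi⟩ := exists_subset_of_iInter_subset
    (fun i : {U : Set Y // IsOpen U ∧ IsCompact U ∧ y₀ ∈ U} => i.1)
    (fun i => (isClopen_constructibleTopology i.2.1 i.2.2.1).1)
    (fun i j => ⟨⟨i.1 ∩ j.1, i.2.1.inter j.2.1,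
      QuasiSeparatedSpace.inter_isCompact _ _ i.2.1 i.2.2.1 j.2.1 j.2.2.1,
      i.2.2.2, j.2.2.2⟩, subset_rfl⟩) hO (by
      intro y hy
      apply h
      rw [specializes_iff_forall_open]
      intro W hW hy₀W
      obtain ⟨K, ⟨hKo, hKc⟩, hy₀K, hKW⟩ :=
        (PrespectralSpace.isTopologicalBasis (X := Y)).exists_subset_of_mem_open hy₀W hW
      exact hKW (Set.mem_iInter.mp hy ⟨K, hKo, hKc, hy₀K⟩))
  exact ⟨i.1, i.2.1, i.2.2.1, i.2.2.2, hi⟩

end Groth.Agent.Lib.helper9
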