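/-
Helper library (helper9): more on pro- and ind-constructible sets in locally spectral spaces:
opens are ind-constructible, closed sets and points are pro-constructible, interiors and
closures in terms of generizations / specializations.
-/
import Groth.Agent.Lib.Helper9.ProConsScheme

set_option autoImplicit false
set_option linter.style.haveILetI false

namespace Groth.Agent.Lib.helper9

open Topology TopologicalSpace Set

universe u

variable {X : Type u} [TopologicalSpace X] [QuasiSober X] [T0Space X] [LocallySpectral X]

/-- Open sets are ind-constructible. -/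
theorem isIndConstructible_of_isOpen {U : Set X} (hU : IsOpen U) :
    ProCons.IsIndConstructible U := by
  refine isIndConstructible_of_consOpenOn fun x => ?_
  obtain ⟨V, hV, hxV, -⟩ := LocallySpectral.basis x Set.univ isOpen_univ (Set.mem_univ x)
  haveI := hV.spectralSpace
  exact ⟨V, hV, hxV, isOpen_constructibleTopology_of_isOpen' (hU.preimage continuous_subtype_val)⟩

/-- Closed sets are pro-constructible. -/
theorem isProConstructible_of_isClosed {Z : Set X} (hZ : IsClosed Z) :
    ProCons.IsProConstructible Z := by
  rw [isProConstructible_iff_compl]
  exact isIndConstructible_of_isOpen hZ.isOpen_compl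

/-- Subsingletons (in particular points) are pro-constructible. -/
theorem isProConstructible_of_subsingleton {s : Set X} (hs : s.Subsingleton) :
    ProCons.IsProConstructible s := by
  refine isProConstructible_of_consClosedOn fun x => ?_
  obtain ⟨V, hV, hxV, -⟩ := LocallySpectral.basis x Set.univ isOpen_univ (Set.mem_univ x)
  haveI := hV.spectralSpace
  refine ⟨V, hV, hxV, ?_⟩
  have hsub : (Subtype.val ⁻¹' s : Set ↥V).Subsingleton :=
    hs.preimage Subtype.val_injective
  exact @Set.Subsingleton.isClosed ↥V (constructibleTopology ↥V)
    (@T2Space.t1Space ↥V (constructibleTopology ↥V) t2Space_constructibleTopology) _ hsub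

theorem isProConstructible_singleton (y : X) : ProCons.IsProConstructible ({y} : Set X) :=
  isProConstructible_of_subsingleton Set.subsingleton_singleton

/-- A point is interior to an ind-constructible set iff all its generizations lie in the set. -/
theorem mem_interior_iff_of_isIndConstructible {E : Set X} (hE : ProCons.IsIndConstructible E)
    (x : X) : x ∈ interior E ↔ ∀ x' : X, x' ⤳ x → x' ∈ E := by
  constructor
  · intro hx x' hsp
    exact interior_subset (hsp.mem_open isOpen_interior hx)
  · intro h
    obtain ⟨V, hV, hxV, -⟩ := LocallySpectral.basis x Set.univ isOpen_univ (Set.mem_univ x)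
    haveI := hV.spectralSpace
    have hO := consOpenOn_of_isIndConstructible hE hV
    obtain ⟨U, hUo, -, hxU, hUE⟩ :=
      exists_isCompact_isOpen_subset_of_generalizations hO
        (y₀ := (⟨x, hxV⟩ : ↥V)) (fun y hy => h y.1 (hy.map continuous_subtype_val))
    have hU'o : IsOpen (Subtype.val '' U : Set X) :=
      hV.1.isOpenEmbedding_subtypeVal.isOpenMap _ hUo
    refine mem_interior.mpr ⟨Subtype.val '' U, ?_, hU'o, ⟨⟨x, hxV⟩, hxU, rfl⟩⟩
    rintro _ ⟨u, hu, rfl⟩
    exact hUE hu

/-- The closure of a pro-constructible set is the set of its specializations. -/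
theorem mem_closure_iff_of_isProConstructible {E : Set X} (hE : ProCons.IsProConstructible E)
    (x : X) : x ∈ closure E ↔ ∃ x' ∈ E, x' ⤳ x := by
  have h := mem_interior_iff_of_isIndConstructible (isProConstructible_iff_compl.mp hE) x
  rw [interior_compl] at h
  constructor
  · intro hx
    by_contra hcon
    push Not at hcon
    exact (h.mpr fun x' hsp hx'E => hcon x' hx'E hsp) hx
  · rintro ⟨x', hx'E, hsp⟩
    exact hsp.mem_closed isClosed_closure (subset_closure hx'E)

end Groth.Agent.Lib.helper9
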