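/-
Helper library (helper9): pro-constructible subsets and cofiltered limits of schemes with affine
transition maps: a pro-constructible subset of a quasi-compact stage with empty preimage in the
limit already has empty preimage at a finite stage.
-/
import Groth.Agent.Lib.Helper9.LimBaseChange
import Groth.Agent.Lib.Helper9.ProConsMore
import Groth.Agent.S3439
import Groth.Agent.S3398
import Groth.Agent.S15542

set_option autoImplicit false
set_option linter.style.haveILetI false

namespace Groth.Agent.Lib.helper9

open AlgebraicGeometry CategoryTheory Limits Topology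

universe u

/-- The intersection of two pro-constructible sets is pro-constructible. -/
theorem isProConstructible_inter {X : Type u} [TopologicalSpace X] [QuasiSober X] [T0Space X]
    [LocallySpectral X] {E E' : Set X} (hE : ProCons.IsProConstructible E)
    (hE' : ProCons.IsProConstructible E') : ProCons.IsProConstructible (E ∩ E') := by
  refine isProConstructible_of_consClosedOn fun x => ?_
  obtain ⟨V, hV, hxV, -⟩ := LocallySpectral.basis x Set.univ isOpen_univ (Set.mem_univ x)
  refine ⟨V, hV, hxV, ?_⟩
  have h1 := consClosedOn_of_isProConstructible hE hV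
  have h2 := consClosedOn_of_isProConstructible hE' hV
  unfold ConsClosedOn at h1 h2 ⊢
  rw [Set.preimage_inter]
  exact @IsClosed.inter ↥V _ _ (constructibleTopology ↥V) h1 h2

section

variable {I : Type u} [SmallCategory I] [IsCofiltered I] (D : I ⥤ Scheme.{u})

/-- Finitely many transition maps into `D_k` are dominated by a single one. -/
theorem exists_range_map_subset (k : I) (J : Finset (Σ j : I, (j ⟶ k))) :
    ∃ (l : I) (ψ : l ⟶ k), ∀ x ∈ J, Set.range ⇑(D.map ψ) ⊆ Set.range ⇑(D.map x.2) := by
  classical
  induction J using Finset.induction with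
  | empty => exact ⟨k, 𝟙 k, by simp⟩
  | insert x J' _ ih =>
    obtain ⟨l, ψ, hψ⟩ := ih
    obtain ⟨W, a, b, hab⟩ := IsCofiltered.cospan ψ x.2
    refine ⟨W, a ≫ ψ, ?_⟩
    intro y hy
    rw [Finset.mem_insert] at hy
    rcases hy with rfl | hy
    · rw [hab, D.map_comp]
      rintro _ ⟨w, rfl⟩
      exact ⟨D.map b w, (Scheme.Hom.comp_apply _ _ _).symm⟩
    · refine subset_trans ?_ (hψ y hy)
      rw [D.map_comp]
      rintro _ ⟨w, rfl⟩
      exact ⟨D.map a w, (Scheme.Hom.comp_apply _ _ _).symm⟩

variable (c : Cone D) (hc : IsLimit c) [hD : ∀ (i j : I) (f : i ⟶ j), IsAffineHom (D.map f)]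

include hc in
/-- A pro-constructible subset of a quasi-compact stage whose preimage in the limit is empty has
empty preimage at some finite stage. -/
theorem exists_preimage_map_eq_empty (k : I) [CompactSpace (D.obj k)] (Z : Set (D.obj k))
    (hZ : ProCons.IsProConstructible Z) (hempty : ⇑(c.π.app k) ⁻¹' Z = ∅) :
    ∃ (l : I) (ψ : l ⟶ k), ⇑(D.map ψ) ⁻¹' Z = ∅ := by
  classical
  -- the family: `Z` and the ranges of all transition maps
  let Fam : Option (Σ j : I, (j ⟶ k)) → Set (D.obj k) := fun o =>
    match o with
    | none => Z
    | some x => Set.range ⇑(D.map x.2)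
  have hFam : ∀ o, ProCons.IsProConstructible (Fam o) := by
    intro o
    match o with
    | none => exact hZ
    | some x =>
      have huniv : ProCons.IsProConstructible (Set.univ : Set (D.obj x.1)) :=
        isProConstructible_of_isClosed isClosed_univ
      have := Groth.Agent.S3398.result (D.map x.2) Set.univ huniv
      rwa [Set.image_univ] at this
  have hInter : ⋂ o, Fam o ⊆ (∅ : Set (D.obj k)) := by
    intro y hy
    rw [Set.mem_iInter] at hy
    have hyZ : y ∈ Z := hy none
    have hyr : y ∈ Set.range ⇑(c.π.app k) := by
      rw [range_π_eq_iInter D c k hc]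
      simp only [Set.mem_iInter]
      intro j φ
      exact hy (some ⟨j, φ⟩)
    obtain ⟨s, rfl⟩ := hyr
    have : s ∈ ⇑(c.π.app k) ⁻¹' Z := hyZ
    rw [hempty] at this
    exact this
  obtain ⟨J, hJ⟩ := Groth.Agent.S3439.result (D.obj k) ∅
    (isIndConstructible_of_isOpen isOpen_empty) Fam hFam hInter
  -- the `some` part of `J`
  obtain ⟨l, ψ, hψ⟩ := exists_range_map_subset D k (J.preimage some (Option.some_injective _).injOn)
  refine ⟨l, ψ, ?_⟩
  rw [Set.eq_empty_iff_forall_notMem]
  intro w hw
  have hmem : D.map ψ w ∈ ⋂ o ∈ J, Fam o := by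
    simp only [Set.mem_iInter]
    intro o ho
    match o with
    | none => exact hw
    | some x =>
      exact hψ x (by simpa using ho) ⟨w, rfl⟩
  exact hJ hmem

end

end Groth.Agent.Lib.helper9
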