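/-
Helper library (helper9): for a cofiltered limit `S = lim S_i` of schemes with affine transition
maps, a quasi-compact `T ⟶ S_{i₀}` and a pro-constructible `Z ⊆ T`: if no point of `S ×_{S_{i₀}} T`
lies over `Z`, then already no point of `S_i ×_{S_{i₀}} T` lies over `Z` for some `i ⟶ i₀`.
-/
import Groth.Agent.Lib.Helper9.LimProCons

set_option autoImplicit false
set_option linter.style.haveILetI false
set_option backward.isDefEq.respectTransparency false

namespace Groth.Agent.Lib.helper9

open AlgebraicGeometry CategoryTheory Limits Topology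

universe u

variable {I : Type u} [SmallCategory I] [IsCofiltered I] (D : I ⥤ Scheme.{u})
  (c : Cone D) (hc : IsLimit c) [hD : ∀ (i j : I) (f : i ⟶ j), IsAffineHom (D.map f)]

include hc in
theorem exists_forall_snd_notMem (i₀ : I) {T : Scheme.{u}} (g : T ⟶ D.obj i₀) [CompactSpace T]
    (Z : Set T) (hZ : ProCons.IsProConstructible Z)
    (h : ∀ w : ↥(pullback (c.π.app i₀) g), (pullback.snd (c.π.app i₀) g) w ∉ Z) :
    ∃ (i : I) (φ : i ⟶ i₀), ∀ w : ↥(pullback (D.map φ) g),
      (pullback.snd (D.map φ) g) w ∉ Z := by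
  let k' : Over i₀ := Over.mk (𝟙 i₀)
  haveI : CompactSpace ↥((bcDiagram D i₀ g).obj k') := by
    haveI h1 : IsAffineHom (D.map k'.hom) := hD _ _ k'.hom
    show CompactSpace ↥(pullback (D.map k'.hom) g)
    infer_instance
  let Z' : Set ↥((bcDiagram D i₀ g).obj k') := ⇑(pullback.snd (D.map k'.hom) g) ⁻¹' Z
  have hZ' : ProCons.IsProConstructible Z' :=
    Groth.Agent.S15542.result (pullback.snd (D.map k'.hom) g) Z hZ
  have hempty : ⇑((bcCone D c i₀ g).π.app k') ⁻¹' Z' = ∅ := by
    ext w
    simp only [Set.mem_preimage, Set.mem_empty_iff_false, iff_false]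
    intro hw
    apply h w
    have e : (bcCone D c i₀ g).π.app k' ≫ pullback.snd (D.map k'.hom) g =
        pullback.snd (c.π.app i₀) g := by simp [pullback.map]
    have e2 := Scheme.Hom.comp_apply ((bcCone D c i₀ g).π.app k')
      (pullback.snd (D.map k'.hom) g) w
    rw [e] at e2
    have hw' : (pullback.snd (D.map k'.hom) g) (((bcCone D c i₀ g).π.app k') w) ∈ Z := hw
    exact e2 ▸ hw'
  obtain ⟨l, ψ, hl⟩ := exists_preimage_map_eq_empty (bcDiagram D i₀ g) (bcCone D c i₀ g)
    (isLimitBcCone D c i₀ g hc) k' Z' hZ' hempty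
  refine ⟨l.left, l.hom, fun w hw => ?_⟩
  have hmem : w ∈ ⇑((bcDiagram D i₀ g).map ψ) ⁻¹' Z' := by
    have e : (bcDiagram D i₀ g).map ψ ≫ pullback.snd (D.map k'.hom) g =
        pullback.snd (D.map l.hom) g := by simp [pullback.map]
    have e2 := Scheme.Hom.comp_apply ((bcDiagram D i₀ g).map ψ)
      (pullback.snd (D.map k'.hom) g) w
    rw [e] at e2
    show (pullback.snd (D.map k'.hom) g) (((bcDiagram D i₀ g).map ψ) w) ∈ Z
    exact e2 ▸ hw
  rw [hl] at hmem
  exact hmem

end Groth.Agent.Lib.helper9
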