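/-
Helper library (helper9): for a cofiltered limit `S = lim S_i` of schemes with affine transition
maps, a qcqs `T ⟶ S_{i₀}` and a quasi-compact open `U ⊆ T`: if the preimage of `U` in
`S ×_{S_{i₀}} T` is affine, then the preimage of `U` in `S_i ×_{S_{i₀}} T` is affine for all
sufficiently small `i ⟶ i₀`.
-/
import Groth.Agent.Lib.Helper9.LimBaseChange
import Mathlib.AlgebraicGeometry.AffineTransitionLimit
import Mathlib.AlgebraicGeometry.Morphisms.QuasiSeparated

set_option autoImplicit false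
set_option linter.style.haveILetI false
set_option backward.isDefEq.respectTransparency false

namespace Groth.Agent.Lib.helper9

open AlgebraicGeometry CategoryTheory Limits Topology

universe u

variable {I : Type u} [SmallCategory I] [IsCofiltered I] (D : I ⥤ Scheme.{u})
  (c : Cone D) (hc : IsLimit c) [hD : ∀ (i j : I) (f : i ⟶ j), IsAffineHom (D.map f)]

instance compactSpace_bcDiagram_obj (i₀ : I) {T : Scheme.{u}} (h : T ⟶ D.obj i₀)
    [CompactSpace T] (j : Over i₀) : CompactSpace ↥((bcDiagram D i₀ h).obj j) := by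
  haveI h1 : IsAffineHom (D.map j.hom) := hD _ _ j.hom
  show CompactSpace ↥(pullback (D.map j.hom) h)
  infer_instance

instance quasiSeparatedSpace_bcDiagram_obj (i₀ : I) {T : Scheme.{u}} (h : T ⟶ D.obj i₀)
    [QuasiSeparatedSpace T] (j : Over i₀) :
    QuasiSeparatedSpace ↥((bcDiagram D i₀ h).obj j) := by
  haveI h1 : IsAffineHom (D.map j.hom) := hD _ _ j.hom
  show QuasiSeparatedSpace ↥(pullback (D.map j.hom) h)
  haveI : IsAffineHom (pullback.snd (D.map j.hom) h) :=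
    MorphismProperty.pullback_snd (P := @IsAffineHom) _ _ h1
  exact quasiSeparatedSpace_of_quasiSeparated (pullback.snd (D.map j.hom) h)

omit [IsCofiltered I] hD in
theorem bcDiagram_map_snd (i₀ : I) {T : Scheme.{u}} (h : T ⟶ D.obj i₀) {j j' : Over i₀}
    (m : j ⟶ j') :
    (bcDiagram D i₀ h).map m ≫ pullback.snd (D.map j'.hom) h = pullback.snd (D.map j.hom) h := by
  simp [pullback.map]

omit [IsCofiltered I] hD in
theorem bcCone_π_snd (i₀ : I) {T : Scheme.{u}} (h : T ⟶ D.obj i₀) (j : Over i₀) :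
    (bcCone D c i₀ h).π.app j ≫ pullback.snd (D.map j.hom) h = pullback.snd (c.π.app i₀) h := by
  simp [pullback.map]

include hc in
theorem exists_stage_isAffineOpen_preimage (i₀ : I) {T : Scheme.{u}} (h : T ⟶ D.obj i₀)
    [CompactSpace T] [QuasiSeparatedSpace T] (U : T.Opens) (hU : IsCompact (U : Set T))
    (hΩ : IsAffineOpen (pullback.snd (c.π.app i₀) h ⁻¹ᵁ U)) :
    ∃ l : Over i₀, ∀ (l' : Over i₀) (_ : l' ⟶ l),
      IsAffineOpen (pullback.snd (D.map l'.hom) h ⁻¹ᵁ U) := by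
  haveI : ∀ {j j' : Over i₀} (m : j ⟶ j'), IsAffineHom ((bcDiagram D i₀ h).map m) :=
    fun m => inferInstance
  obtain ⟨j, W, hW, hWΩ⟩ := exists_isAffineOpen_preimage_eq (bcDiagram D i₀ h) (bcCone D c i₀ h)
    (isLimitBcCone D c i₀ h hc) (pullback.snd (c.π.app i₀) h ⁻¹ᵁ U) hΩ
  -- the preimage of `U` at the stage `j`
  have hUj : IsCompact ((pullback.snd (D.map j.hom) h ⁻¹ᵁ U : ((bcDiagram D i₀ h).obj j).Opens) :
      Set ↥((bcDiagram D i₀ h).obj j)) := by
    haveI h1 : IsAffineHom (D.map j.hom) := hD _ _ j.hom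
    haveI : IsAffineHom (pullback.snd (D.map j.hom) h) :=
      MorphismProperty.pullback_snd (P := @IsAffineHom) _ _ h1
    exact QuasiCompact.isCompact_preimage (f := pullback.snd (D.map j.hom) h) _ U.2 hU
  have hEq : (bcCone D c i₀ h).π.app j ⁻¹ᵁ W =
      (bcCone D c i₀ h).π.app j ⁻¹ᵁ (pullback.snd (D.map j.hom) h ⁻¹ᵁ U) := by
    rw [hWΩ, ← Scheme.Hom.comp_preimage, bcCone_π_snd]
  obtain ⟨l, m, hl⟩ := exists_map_preimage_eq_map_preimage (bcDiagram D i₀ h) (bcCone D c i₀ h)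
    (isLimitBcCone D c i₀ h hc) hW.isCompact hUj hEq
  refine ⟨l, fun l' m' => ?_⟩
  have e1 : (bcDiagram D i₀ h).map (m' ≫ m) =
      (bcDiagram D i₀ h).map m' ≫ (bcDiagram D i₀ h).map m := Functor.map_comp _ _ _
  have e2 : (bcDiagram D i₀ h).map m ⁻¹ᵁ (pullback.snd (D.map j.hom) h ⁻¹ᵁ U) =
      pullback.snd (D.map l.hom) h ⁻¹ᵁ U := by
    rw [← Scheme.Hom.comp_preimage, bcDiagram_map_snd]
  have e3 : (bcDiagram D i₀ h).map m' ⁻¹ᵁ (pullback.snd (D.map l.hom) h ⁻¹ᵁ U) =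
      pullback.snd (D.map l'.hom) h ⁻¹ᵁ U := by
    rw [← Scheme.Hom.comp_preimage, bcDiagram_map_snd]
  have h1 : (pullback.snd (D.map l'.hom) h ⁻¹ᵁ U : ((bcDiagram D i₀ h).obj l').Opens) =
      (bcDiagram D i₀ h).map (m' ≫ m) ⁻¹ᵁ W := by
    rw [e1, Scheme.Hom.comp_preimage, hl, e2, e3]
  show IsAffineOpen (pullback.snd (D.map l'.hom) h ⁻¹ᵁ U :
    ((bcDiagram D i₀ h).obj l').Opens)
  rw [h1]
  exact hW.preimage ((bcDiagram D i₀ h).map (m' ≫ m))

end Groth.Agent.Lib.helper9
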