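/-
Helper library (helper9): for `f₀ : X₀ ⟶ Y₀`, `g₀ : Y₀ ⟶ S₀` and `φ : S' ⟶ S₀`, the induced map
`S' ×_{S₀} X₀ ⟶ S' ×_{S₀} Y₀` and the two pullback squares it sits in. Also: surjectivity of
points for a pullback square.
-/
import Mathlib.AlgebraicGeometry.PullbackCarrier
import Mathlib.CategoryTheory.Limits.Shapes.Pullback.Pasting

set_option autoImplicit false

namespace Groth.Agent.Lib.helper9

open AlgebraicGeometry CategoryTheory Limits

universe u

section cat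

variable {C : Type*} [Category C] [HasPullbacks C] {S' S₀ X₀ Y₀ : C}
  (φ : S' ⟶ S₀) (f₀ : X₀ ⟶ Y₀) (g₀ : Y₀ ⟶ S₀)

/-- The map `S' ×_{S₀} X₀ ⟶ S' ×_{S₀} Y₀` induced by `f₀`. -/
noncomputable def stageMap : pullback φ (f₀ ≫ g₀) ⟶ pullback φ g₀ :=
  pullback.lift (pullback.fst φ (f₀ ≫ g₀)) (pullback.snd φ (f₀ ≫ g₀) ≫ f₀)
    (by rw [pullback.condition, Category.assoc])

@[reassoc]
theorem stageMap_fst : stageMap φ f₀ g₀ ≫ pullback.fst φ g₀ = pullback.fst φ (f₀ ≫ g₀) :=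
  pullback.lift_fst _ _ _

@[reassoc]
theorem stageMap_snd :
    stageMap φ f₀ g₀ ≫ pullback.snd φ g₀ = pullback.snd φ (f₀ ≫ g₀) ≫ f₀ :=
  pullback.lift_snd _ _ _

theorem isPullback_stage_base :
    IsPullback (pullback.snd φ g₀) (pullback.fst φ g₀) g₀ φ :=
  (IsPullback.of_hasPullback _ _).flip

theorem isPullback_stageMap :
    IsPullback (pullback.snd φ (f₀ ≫ g₀)) (stageMap φ f₀ g₀) f₀ (pullback.snd φ g₀) := by
  refine IsPullback.of_bot ?_ (stageMap_snd φ f₀ g₀).symm (isPullback_stage_base φ g₀)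
  rw [stageMap_fst]
  exact (IsPullback.of_hasPullback _ _).flip

end cat

theorem exists_preimage_of_isPullback {P X Y S : Scheme.{u}} {fst : P ⟶ X} {snd : P ⟶ Y}
    {f : X ⟶ S} {g : Y ⟶ S} (H : IsPullback fst snd f g) (x : X) (y : Y)
    (h : f x = g y) : ∃ z : P, fst z = x ∧ snd z = y := by
  obtain ⟨z, hz1, hz2⟩ := Scheme.Pullback.exists_preimage_pullback (f := f) (g := g) x y h
  refine ⟨H.isoPullback.inv z, ?_, ?_⟩
  · have e := Scheme.Hom.comp_apply H.isoPullback.inv fst z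
    rw [H.isoPullback_inv_fst] at e
    exact e.symm.trans hz1
  · have e := Scheme.Hom.comp_apply H.isoPullback.inv snd z
    rw [H.isoPullback_inv_snd] at e
    exact e.symm.trans hz2

end Groth.Agent.Lib.helper9
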