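/-
Helper library (helper9): isomorphisms descend along cofiltered limits with affine transition
maps (qcqs base stage, schemes of finite presentation over it).
-/
import Groth.Agent.Lib.Helper9.LimAffineStage
import Groth.Agent.Lib.Helper9.StageSquares
import Mathlib.AlgebraicGeometry.Morphisms.FinitePresentation

set_option autoImplicit false
set_option linter.style.haveILetI false
set_option backward.isDefEq.respectTransparency false

namespace Groth.Agent.Lib.helper9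

open AlgebraicGeometry CategoryTheory Limits Topology

universe u

section

variable {I : Type u} [SmallCategory I] (D : I ⥤ Scheme.{u}) (c : Cone D)
  (i₀ : I) {X₀ Y₀ : Scheme.{u}} (f₀ : X₀ ⟶ Y₀) (g₀ : Y₀ ⟶ D.obj i₀)

/-- The stage map at the stage `j`. -/
noncomputable abbrev stageF (j : Over i₀) :
    (bcDiagram D i₀ (f₀ ≫ g₀)).obj j ⟶ (bcDiagram D i₀ g₀).obj j :=
  stageMap (D.map j.hom) f₀ g₀

/-- The stage map at the limit. -/
noncomputable abbrev stageFc :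
    (bcCone D c i₀ (f₀ ≫ g₀)).pt ⟶ (bcCone D c i₀ g₀).pt :=
  stageMap (c.π.app i₀) f₀ g₀

theorem stageF_naturality {j j' : Over i₀} (m : j ⟶ j') :
    (bcDiagram D i₀ (f₀ ≫ g₀)).map m ≫ stageF D i₀ f₀ g₀ j' =
      stageF D i₀ f₀ g₀ j ≫ (bcDiagram D i₀ g₀).map m := by
  apply pullback.hom_ext
  · simp [stageMap, pullback.map]
  · simp [stageMap, pullback.map]

theorem stageFc_naturality (j : Over i₀) :
    (bcCone D c i₀ (f₀ ≫ g₀)).π.app j ≫ stageF D i₀ f₀ g₀ j =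
      stageFc D c i₀ f₀ g₀ ≫ (bcCone D c i₀ g₀).π.app j := by
  apply pullback.hom_ext
  · simp [stageMap, pullback.map]
  · simp [stageMap, pullback.map]

/-- The structure maps of the base-changed diagram to the base stage. -/
noncomputable def bcT {T : Scheme.{u}} (h : T ⟶ D.obj i₀) :
    bcDiagram D i₀ h ⟶ (Functor.const (Over i₀)).obj (D.obj i₀) where
  app j := pullback.snd (D.map j.hom) h ≫ h
  naturality j j' m := by
    simp [pullback.map]

@[simp]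
theorem bcT_app {T : Scheme.{u}} (h : T ⟶ D.obj i₀) (j : Over i₀) :
    (bcT D i₀ h).app j = pullback.snd (D.map j.hom) h ≫ h := rfl

end

section

variable {I : Type u} [SmallCategory I] [IsCofiltered I] (D : I ⥤ Scheme.{u}) (c : Cone D)
  (hc : IsLimit c) [hD : ∀ (i j : I) (f : i ⟶ j), IsAffineHom (D.map f)]
  (i₀ : I) {X₀ Y₀ : Scheme.{u}} (f₀ : X₀ ⟶ Y₀) (g₀ : Y₀ ⟶ D.obj i₀)

include hc in
/-- If the base change of `f₀` to the limit is an isomorphism, then so is the base change to some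
stage. -/
theorem exists_isIso_stageMap [CompactSpace X₀] [QuasiSeparatedSpace X₀] [CompactSpace Y₀]
    [QuasiSeparatedSpace Y₀] [LocallyOfFinitePresentation (f₀ ≫ g₀)] [LocallyOfFiniteType g₀]
    [IsIso (stageMap (c.π.app i₀) f₀ g₀)] :
    ∃ l : Over i₀, IsIso (stageMap (D.map l.hom) f₀ g₀) := by
  -- notation
  let DX := bcDiagram D i₀ (f₀ ≫ g₀)
  let DY := bcDiagram D i₀ g₀
  let cX := bcCone D c i₀ (f₀ ≫ g₀)
  let cY := bcCone D c i₀ g₀
  have hcX : IsLimit cX := isLimitBcCone D c i₀ (f₀ ≫ g₀) hc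
  have hcY : IsLimit cY := isLimitBcCone D c i₀ g₀ hc
  let Fc : cX.pt ⟶ cY.pt := stageFc D c i₀ f₀ g₀
  haveI : IsIso Fc := ‹IsIso (stageMap (c.π.app i₀) f₀ g₀)›
  let F : ∀ j : Over i₀, DX.obj j ⟶ DY.obj j := stageF D i₀ f₀ g₀
  have hFsnd : ∀ j : Over i₀, F j ≫ pullback.snd (D.map j.hom) g₀ =
      pullback.snd (D.map j.hom) (f₀ ≫ g₀) ≫ f₀ := fun j => stageMap_snd _ _ _
  have hFfst : ∀ j : Over i₀, F j ≫ pullback.fst (D.map j.hom) g₀ =
      pullback.fst (D.map j.hom) (f₀ ≫ g₀) := fun j => stageMap_fst _ _ _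
  have hFcsnd : Fc ≫ pullback.snd (c.π.app i₀) g₀ =
      pullback.snd (c.π.app i₀) (f₀ ≫ g₀) ≫ f₀ := stageMap_snd _ _ _
  -- Step 1: descend `inv Fc ≫ snd : cY.pt ⟶ X₀`
  let a : cY.pt ⟶ X₀ := inv Fc ≫ pullback.snd (c.π.app i₀) (f₀ ≫ g₀)
  have haf : a ≫ f₀ = pullback.snd (c.π.app i₀) g₀ := by
    rw [Category.assoc, ← hFcsnd, IsIso.inv_hom_id_assoc]
  have ha : cY.π ≫ bcT D i₀ g₀ = (Functor.const _).map (a ≫ (f₀ ≫ g₀)) := by
    ext j : 2
    simp only [NatTrans.comp_app, bcT_app, Functor.const_map_app]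
    rw [← Category.assoc a, haf]
    exact (reassoc_of% (bcCone_π_snd D c i₀ g₀ j)) g₀
  obtain ⟨j, b, hb1, hb2⟩ := Scheme.exists_π_app_comp_eq_of_locallyOfFinitePresentation
    DY (bcT D i₀ g₀) (f₀ ≫ g₀) cY hcY a ha
  rw [bcT_app] at hb2
  -- the candidate inverse at later stages
  let bl : ∀ (l : Over i₀) (_ : l ⟶ j), DY.obj l ⟶ X₀ := fun l m => DY.map m ≫ b
  have hbl : ∀ (l : Over i₀) (m : l ⟶ j),
      pullback.fst (D.map l.hom) g₀ ≫ D.map l.hom = bl l m ≫ (f₀ ≫ g₀) := by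
    intro l m
    show _ = (DY.map m ≫ b) ≫ (f₀ ≫ g₀)
    rw [Category.assoc, hb2, reassoc_of% (bcDiagram_map_snd D i₀ g₀ m), pullback.condition]
  let E : ∀ (l : Over i₀) (m : l ⟶ j), DY.obj l ⟶ DX.obj l := fun l m =>
    pullback.lift (pullback.fst (D.map l.hom) g₀) (bl l m) (hbl l m)
  have hEfst : ∀ (l : Over i₀) (m : l ⟶ j), E l m ≫ pullback.fst (D.map l.hom) (f₀ ≫ g₀) =
      pullback.fst (D.map l.hom) g₀ := fun l m => pullback.lift_fst _ _ _
  have hEsnd : ∀ (l : Over i₀) (m : l ⟶ j), E l m ≫ pullback.snd (D.map l.hom) (f₀ ≫ g₀) =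
      bl l m := fun l m => pullback.lift_snd _ _ _
  -- Step 2: `E ≫ F = 𝟙` at a later stage
  have hA : ∃ (l : Over i₀) (m : l ⟶ j), bl l m ≫ f₀ = pullback.snd (D.map l.hom) g₀ := by
    have h1 : (bcT D i₀ g₀).app j = (b ≫ f₀) ≫ g₀ := by
      rw [bcT_app, Category.assoc, hb2]
    have h2 : (bcT D i₀ g₀).app j = pullback.snd (D.map j.hom) g₀ ≫ g₀ := rfl
    have h3 : cY.π.app j ≫ (b ≫ f₀) = cY.π.app j ≫ pullback.snd (D.map j.hom) g₀ := by
      rw [reassoc_of% hb1, haf]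
      exact (bcCone_π_snd D c i₀ g₀ j).symm
    obtain ⟨l, m, hl⟩ := Scheme.exists_hom_comp_eq_comp_of_locallyOfFiniteType
      DY (bcT D i₀ g₀) g₀ cY hcY (b ≫ f₀) (pullback.snd (D.map j.hom) g₀) h1 h2 h3
    refine ⟨l, m, ?_⟩
    show (DY.map m ≫ b) ≫ f₀ = _
    rw [Category.assoc, hl]
    exact bcDiagram_map_snd D i₀ g₀ m
  obtain ⟨l, m, hl⟩ := hA
  have hEF : ∀ (l' : Over i₀) (m' : l' ⟶ l), E l' (m' ≫ m) ≫ F l' = 𝟙 _ := by
    intro l' m'
    apply pullback.hom_ext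
    · rw [Category.assoc, hFfst, hEfst, Category.id_comp]
    · rw [Category.assoc, hFsnd, reassoc_of% (hEsnd l' (m' ≫ m)), Category.id_comp]
      show (DY.map (m' ≫ m) ≫ b) ≫ f₀ = _
      rw [Functor.map_comp, Category.assoc, Category.assoc]
      have : DY.map m ≫ b ≫ f₀ = pullback.snd (D.map l.hom) g₀ := by
        rw [← Category.assoc]; exact hl
      rw [this]
      exact bcDiagram_map_snd D i₀ g₀ m'
  -- Step 3: `F ≫ E = 𝟙` at a later stage
  have hB : ∃ (l' : Over i₀) (m' : l' ⟶ l),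
      F l' ≫ bl l' (m' ≫ m) = pullback.snd (D.map l'.hom) (f₀ ≫ g₀) := by
    have h1 : (bcT D i₀ (f₀ ≫ g₀)).app l = (F l ≫ bl l m) ≫ (f₀ ≫ g₀) := by
      rw [bcT_app, Category.assoc, ← hbl l m, reassoc_of% (hFfst l), pullback.condition]
    have h2 : (bcT D i₀ (f₀ ≫ g₀)).app l =
        pullback.snd (D.map l.hom) (f₀ ≫ g₀) ≫ (f₀ ≫ g₀) := rfl
    have h3 : cX.π.app l ≫ (F l ≫ bl l m) =
        cX.π.app l ≫ pullback.snd (D.map l.hom) (f₀ ≫ g₀) := by
      rw [reassoc_of% (stageFc_naturality D c i₀ f₀ g₀ l)]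
      show Fc ≫ cY.π.app l ≫ DY.map m ≫ b = _
      rw [reassoc_of% (cY.w m), hb1]
      show Fc ≫ inv Fc ≫ _ = _
      rw [IsIso.hom_inv_id_assoc]
      exact (bcCone_π_snd D c i₀ (f₀ ≫ g₀) l).symm
    obtain ⟨l', m', hl'⟩ := Scheme.exists_hom_comp_eq_comp_of_locallyOfFiniteType
      DX (bcT D i₀ (f₀ ≫ g₀)) (f₀ ≫ g₀) cX hcX (F l ≫ bl l m)
      (pullback.snd (D.map l.hom) (f₀ ≫ g₀)) h1 h2 h3
    refine ⟨l', m', ?_⟩
    have e1 : F l' ≫ bl l' (m' ≫ m) = DX.map m' ≫ F l ≫ bl l m := by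
      show F l' ≫ DY.map (m' ≫ m) ≫ b = DX.map m' ≫ F l ≫ DY.map m ≫ b
      rw [Functor.map_comp, Category.assoc,
        ← reassoc_of% (stageF_naturality D i₀ f₀ g₀ m')]
    rw [e1, hl']
    exact bcDiagram_map_snd D i₀ (f₀ ≫ g₀) m'
  obtain ⟨l', m', hl'⟩ := hB
  refine ⟨l', ⟨E l' (m' ≫ m), ?_, hEF l' m'⟩⟩
  apply pullback.hom_ext
  · rw [Category.assoc, hEfst, hFfst, Category.id_comp]
  · rw [Category.assoc, hEsnd, hl', Category.id_comp]

end

end Groth.Agent.Lib.helper9
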