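/-
Helper library (helper9): descent of open immersions along a cofiltered limit `S = lim S_i` of
schemes with affine transition maps. Contains the "rebase to a smaller stage" squares, the
persistence of isomorphisms of stage maps, and the core lemma: if the range of `f` is the preimage
of a quasi-compact open of `Y₀`, then some stage map is an open immersion.
-/
import Groth.Agent.Lib.Helper9.LimIsoDescend
import Groth.Agent.Lib.Helper9.LimAffineStage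
import Groth.Agent.Lib.Helper9.LimDescendEmpty
import Groth.Agent.Lib.Helper9.ProConsMore
import Groth.Agent.Lib.Helper7.LfpOfComp
import Mathlib.AlgebraicGeometry.Morphisms.IsIso
import Mathlib.AlgebraicGeometry.Morphisms.QuasiSeparated

set_option autoImplicit false

namespace Groth.Agent.Lib.helper9

open AlgebraicGeometry CategoryTheory Limits

universe u

section cat

variable {C : Type*} [Category C] [HasPullbacks C]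

/-- The stage map with an explicit structure map of the source. -/
noncomputable def stageMap' {S' S₀ X₀ Y₀ : C} (φ : S' ⟶ S₀) (f₀ : X₀ ⟶ Y₀) (g₀ : Y₀ ⟶ S₀)
    (h₀ : X₀ ⟶ S₀) (e : f₀ ≫ g₀ = h₀) : pullback φ h₀ ⟶ pullback φ g₀ :=
  pullback.lift (pullback.fst φ h₀) (pullback.snd φ h₀ ≫ f₀)
    (by rw [pullback.condition, Category.assoc, e])

@[reassoc]
theorem stageMap'_fst {S' S₀ X₀ Y₀ : C} (φ : S' ⟶ S₀) (f₀ : X₀ ⟶ Y₀) (g₀ : Y₀ ⟶ S₀)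
    (h₀ : X₀ ⟶ S₀) (e : f₀ ≫ g₀ = h₀) :
    stageMap' φ f₀ g₀ h₀ e ≫ pullback.fst φ g₀ = pullback.fst φ h₀ :=
  pullback.lift_fst _ _ _

@[reassoc]
theorem stageMap'_snd {S' S₀ X₀ Y₀ : C} (φ : S' ⟶ S₀) (f₀ : X₀ ⟶ Y₀) (g₀ : Y₀ ⟶ S₀)
    (h₀ : X₀ ⟶ S₀) (e : f₀ ≫ g₀ = h₀) :
    stageMap' φ f₀ g₀ h₀ e ≫ pullback.snd φ g₀ = pullback.snd φ h₀ ≫ f₀ :=
  pullback.lift_snd _ _ _

theorem isPullback_stageMap' {S' S₀ X₀ Y₀ : C} (φ : S' ⟶ S₀) (f₀ : X₀ ⟶ Y₀) (g₀ : Y₀ ⟶ S₀)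
    (h₀ : X₀ ⟶ S₀) (e : f₀ ≫ g₀ = h₀) :
    IsPullback (pullback.snd φ h₀) (stageMap' φ f₀ g₀ h₀ e) f₀ (pullback.snd φ g₀) := by
  subst e
  exact isPullback_stageMap φ f₀ g₀

/-- Rebasing the base square to an intermediate stage. -/
theorem isPullback_rebase_base {S S₁ S₀ Y Y₀ : C} {π₁ : S ⟶ S₁} {φ : S₁ ⟶ S₀} {π₀ : S ⟶ S₀}
    (hπ : π₁ ≫ φ = π₀) {g₀ : Y₀ ⟶ S₀} {g : Y ⟶ S} {qY : Y ⟶ Y₀} (hY : IsPullback qY g g₀ π₀)
    (qY' : Y ⟶ pullback φ g₀) (h1 : qY' ≫ pullback.fst φ g₀ = g ≫ π₁)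
    (h2 : qY' ≫ pullback.snd φ g₀ = qY) :
    IsPullback qY' g (pullback.fst φ g₀) π₁ := by
  refine IsPullback.of_right ?_ h1 (isPullback_stage_base φ g₀)
  rw [h2, hπ]
  exact hY

/-- Rebasing the top square to an intermediate stage. -/
theorem isPullback_rebase_top {S₁ S₀ X Y X₀ Y₀ : C} {φ : S₁ ⟶ S₀}
    {g₀ : Y₀ ⟶ S₀} {qY : Y ⟶ Y₀} {f₀ : X₀ ⟶ Y₀} {f : X ⟶ Y} {qX : X ⟶ X₀}
    (hX : IsPullback qX f f₀ qY)
    (qY' : Y ⟶ pullback φ g₀) (h2 : qY' ≫ pullback.snd φ g₀ = qY)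
    (qX' : X ⟶ pullback φ (f₀ ≫ g₀)) (k1 : qX' ≫ stageMap φ f₀ g₀ = f ≫ qY')
    (k2 : qX' ≫ pullback.snd φ (f₀ ≫ g₀) = qX) :
    IsPullback qX' f (stageMap φ f₀ g₀) qY' := by
  refine IsPullback.of_right ?_ k1 (isPullback_stageMap φ f₀ g₀)
  rw [k2, h2]
  exact hX

end cat

section

variable {I : Type u} [SmallCategory I] (D : I ⥤ Scheme.{u})
  (i₀ : I) {X₀ Y₀ : Scheme.{u}} (f₀ : X₀ ⟶ Y₀) (g₀ : Y₀ ⟶ D.obj i₀)

/-- The stage maps form a cartesian natural transformation. -/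
theorem isPullback_stageF_map {j j' : Over i₀} (m : j ⟶ j') :
    IsPullback ((bcDiagram D i₀ (f₀ ≫ g₀)).map m) (stageF D i₀ f₀ g₀ j) (stageF D i₀ f₀ g₀ j')
      ((bcDiagram D i₀ g₀).map m) := by
  refine IsPullback.of_right ?_ (stageF_naturality D i₀ f₀ g₀ m)
    (isPullback_stageMap (D.map j'.hom) f₀ g₀)
  rw [bcDiagram_map_snd, bcDiagram_map_snd]
  exact isPullback_stageMap (D.map j.hom) f₀ g₀

theorem isIso_stageMap_of_hom {j j' : Over i₀} (m : j ⟶ j')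
    [h : IsIso (stageMap (D.map j'.hom) f₀ g₀)] : IsIso (stageMap (D.map j.hom) f₀ g₀) := by
  have h' : IsIso (stageF D i₀ f₀ g₀ j') := h
  exact (isPullback_stageF_map D i₀ f₀ g₀ m).isIso_snd_of_isIso

end

section core

variable {I : Type u} [SmallCategory I] [IsCofiltered I] (D : I ⥤ Scheme.{u}) (c : Cone D)
  (hc : IsLimit c) [hD : ∀ (i j : I) (f : i ⟶ j), IsAffineHom (D.map f)]
  (i₀ : I) {X₀ Y₀ : Scheme.{u}} (f₀ : X₀ ⟶ Y₀) (g₀ : Y₀ ⟶ D.obj i₀)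

omit [IsCofiltered I] hD in
/-- The base change to the limit of the restriction of `f₀` over `U₀` is an isomorphism, when the
base change `f` of `f₀` is an open immersion with range the preimage of `U₀`. -/
theorem isIso_stageMap_morphismRestrict
    {X Y : Scheme.{u}} (f : X ⟶ Y) (g : Y ⟶ c.pt) (qY : Y ⟶ Y₀) (qX : X ⟶ X₀)
    (hY : IsPullback qY g g₀ (c.π.app i₀)) (hX : IsPullback qX f f₀ qY) [IsOpenImmersion f]
    (U₀ : Y₀.Opens) (hU : qY ⁻¹ᵁ U₀ = f.opensRange) :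
    IsIso (stageMap (c.π.app i₀) (f₀ ∣_ U₀) (U₀.ι ≫ g₀)) := by
  have hucond : (pullback.snd (c.π.app i₀) (U₀.ι ≫ g₀) ≫ U₀.ι) ≫ g₀ =
      pullback.fst (c.π.app i₀) (U₀.ι ≫ g₀) ≫ c.π.app i₀ := by
    rw [pullback.condition, Category.assoc]
  let u : pullback (c.π.app i₀) (U₀.ι ≫ g₀) ⟶ Y := hY.lift _ _ hucond
  have hu : u ≫ qY = pullback.snd (c.π.app i₀) (U₀.ι ≫ g₀) ≫ U₀.ι := hY.lift_fst _ _ _
  have sq1 : IsPullback (pullback.snd (c.π.app i₀) ((f₀ ∣_ U₀) ≫ U₀.ι ≫ g₀) ≫ (f₀ ⁻¹ᵁ U₀).ι)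
      (stageMap (c.π.app i₀) (f₀ ∣_ U₀) (U₀.ι ≫ g₀)) f₀
      (pullback.snd (c.π.app i₀) (U₀.ι ≫ g₀) ≫ U₀.ι) :=
    (isPullback_stageMap (c.π.app i₀) (f₀ ∣_ U₀) (U₀.ι ≫ g₀)).paste_horiz
      (isPullback_morphismRestrict f₀ U₀).flip
  rw [← hu] at sq1
  have hwcond : (pullback.snd (c.π.app i₀) ((f₀ ∣_ U₀) ≫ U₀.ι ≫ g₀) ≫ (f₀ ⁻¹ᵁ U₀).ι) ≫ f₀ =
      (stageMap (c.π.app i₀) (f₀ ∣_ U₀) (U₀.ι ≫ g₀) ≫ u) ≫ qY := by
    rw [Category.assoc _ u qY]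
    exact sq1.w
  let w : pullback (c.π.app i₀) ((f₀ ∣_ U₀) ≫ U₀.ι ≫ g₀) ⟶ X := hX.lift _ _ hwcond
  have hw1 : w ≫ qX = pullback.snd (c.π.app i₀) ((f₀ ∣_ U₀) ≫ U₀.ι ≫ g₀) ≫ (f₀ ⁻¹ᵁ U₀).ι :=
    hX.lift_fst _ _ _
  have hw2 : w ≫ f = stageMap (c.π.app i₀) (f₀ ∣_ U₀) (U₀.ι ≫ g₀) ≫ u := hX.lift_snd _ _ _
  rw [← hw1] at sq1
  have sq2 : IsPullback w (stageMap (c.π.app i₀) (f₀ ∣_ U₀) (U₀.ι ≫ g₀)) f u :=
    IsPullback.of_right sq1 hw2 hX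
  have hopen : IsOpenImmersion (stageMap (c.π.app i₀) (f₀ ∣_ U₀) (U₀.ι ≫ g₀)) :=
    MorphismProperty.of_isPullback (P := @IsOpenImmersion) sq2 inferInstance
  rw [isIso_iff_isOpenImmersion_and_surjective]
  refine ⟨hopen, ⟨fun z => ?_⟩⟩
  have hz : u z ∈ qY ⁻¹ᵁ U₀ := by
    have e := Scheme.Hom.comp_apply u qY z
    rw [hu] at e
    show qY (u z) ∈ U₀
    rw [← e, Scheme.Hom.comp_apply]
    exact ((pullback.snd (c.π.app i₀) (U₀.ι ≫ g₀)) z).2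
  rw [hU] at hz
  obtain ⟨x, hx⟩ := hz
  obtain ⟨q, -, hq⟩ := exists_preimage_of_isPullback sq2 x z hx
  exact ⟨q, hq⟩

include hc in
/-- Core lemma for the descent of open immersions: if the range of the open immersion `f` is the
preimage of a quasi-compact open `U₀ ⊆ Y₀`, then some stage map is an open immersion. -/
theorem exists_isOpenImmersion_stageMap_of_opens
    [CompactSpace (D.obj i₀)] [QuasiSeparatedSpace (D.obj i₀)]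
    [LocallyOfFinitePresentation g₀] [QuasiCompact g₀] [QuasiSeparated g₀]
    [LocallyOfFinitePresentation (f₀ ≫ g₀)] [QuasiCompact (f₀ ≫ g₀)] [QuasiSeparated (f₀ ≫ g₀)]
    {X Y : Scheme.{u}} (f : X ⟶ Y) (g : Y ⟶ c.pt) (qY : Y ⟶ Y₀) (qX : X ⟶ X₀)
    (hY : IsPullback qY g g₀ (c.π.app i₀)) (hX : IsPullback qX f f₀ qY) [IsOpenImmersion f]
    (U₀ : Y₀.Opens) (hU₀ : IsCompact (U₀ : Set Y₀)) (hU : qY ⁻¹ᵁ U₀ = f.opensRange) :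
    ∃ l : Over i₀, IsOpenImmersion (stageMap (D.map l.hom) f₀ g₀) := by
  have : LocallyOfFinitePresentation f₀ :=
    Groth.Agent.Lib.helper7.locallyOfFinitePresentation_of_comp f₀ g₀
  have : QuasiCompact f₀ := QuasiCompact.of_comp f₀ g₀
  have : CompactSpace X₀ := QuasiCompact.compactSpace_of_compactSpace (f₀ ≫ g₀)
  have : QuasiSeparatedSpace X₀ := quasiSeparatedSpace_of_quasiSeparated (f₀ ≫ g₀)
  have : CompactSpace Y₀ := QuasiCompact.compactSpace_of_compactSpace g₀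
  have : QuasiSeparatedSpace Y₀ := quasiSeparatedSpace_of_quasiSeparated g₀
  have hV₀ : IsCompact ((f₀ ⁻¹ᵁ U₀ : X₀.Opens) : Set X₀) :=
    QuasiCompact.isCompact_preimage (f := f₀) _ U₀.2 hU₀
  have e₀ : (f₀ ∣_ U₀) ≫ U₀.ι ≫ g₀ = (f₀ ⁻¹ᵁ U₀).ι ≫ f₀ ≫ g₀ := morphismRestrict_ι_assoc f₀ U₀ g₀
  have : CompactSpace ↥(f₀ ⁻¹ᵁ U₀).toScheme := isCompact_iff_compactSpace.mp hV₀
  have : CompactSpace ↥U₀.toScheme := isCompact_iff_compactSpace.mp hU₀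
  have : QuasiSeparatedSpace ↥(f₀ ⁻¹ᵁ U₀).toScheme :=
    quasiSeparatedSpace_of_quasiSeparated (f₀ ⁻¹ᵁ U₀).ι
  have : QuasiSeparatedSpace ↥U₀.toScheme := quasiSeparatedSpace_of_quasiSeparated U₀.ι
  have : LocallyOfFinitePresentation ((f₀ ∣_ U₀) ≫ U₀.ι ≫ g₀) := by
    rw [e₀]
    infer_instance
  have : LocallyOfFiniteType (U₀.ι ≫ g₀) := inferInstance
  have hiso : IsIso (stageMap (c.π.app i₀) (f₀ ∣_ U₀) (U₀.ι ≫ g₀)) :=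
    isIso_stageMap_morphismRestrict D c i₀ f₀ g₀ f g qY qX hY hX U₀ hU
  obtain ⟨l, hl⟩ := exists_isIso_stageMap D c hc i₀ (f₀ ∣_ U₀) (U₀.ι ≫ g₀)
  -- all points of the limit of the `X_j` land in `f₀ ⁻¹ U₀`
  have HX : IsPullback qX (f ≫ g) (f₀ ≫ g₀) (c.π.app i₀) := hX.paste_vert hY
  have hqX : ∀ x : X, qX x ∈ f₀ ⁻¹ᵁ U₀ := by
    intro x
    show f₀ (qX x) ∈ U₀
    have e := Scheme.Hom.comp_apply qX f₀ x
    rw [hX.w, Scheme.Hom.comp_apply] at e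
    rw [← e]
    show f x ∈ qY ⁻¹ᵁ U₀
    rw [hU]
    exact ⟨x, rfl⟩
  have h : ∀ w : ↥(pullback (c.π.app i₀) (f₀ ≫ g₀)),
      (pullback.snd (c.π.app i₀) (f₀ ≫ g₀)) w ∉ ((f₀ ⁻¹ᵁ U₀ : X₀.Opens) : Set X₀)ᶜ := by
    intro w hw
    apply hw
    have e := Scheme.Hom.comp_apply HX.flip.isoPullback.inv qX w
    rw [HX.flip.isoPullback_inv_snd] at e
    show (pullback.snd (c.π.app i₀) (f₀ ≫ g₀)) w ∈ f₀ ⁻¹ᵁ U₀
    rw [e]
    exact hqX _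
  obtain ⟨i, φ, hi⟩ := exists_forall_snd_notMem D c hc i₀ (f₀ ≫ g₀) _
    (isProConstructible_of_isClosed (f₀ ⁻¹ᵁ U₀).2.isClosed_compl) h
  -- a common stage
  let m : Over i₀ := IsCofiltered.min l (Over.mk φ)
  let a : m ⟶ l := IsCofiltered.minToLeft _ _
  let b : m ⟶ Over.mk φ := IsCofiltered.minToRight _ _
  refine ⟨m, ?_⟩
  have hm : IsIso (stageMap (D.map m.hom) (f₀ ∣_ U₀) (U₀.ι ≫ g₀)) :=
    isIso_stageMap_of_hom D i₀ (f₀ ∣_ U₀) (U₀.ι ≫ g₀) a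
  have hmV : ∀ x : ↥(pullback (D.map m.hom) (f₀ ≫ g₀)),
      (pullback.snd (D.map m.hom) (f₀ ≫ g₀)) x ∈ f₀ ⁻¹ᵁ U₀ := by
    intro x
    have e := Scheme.Hom.comp_apply ((bcDiagram D i₀ (f₀ ≫ g₀)).map b)
      (pullback.snd (D.map (Over.mk φ).hom) (f₀ ≫ g₀)) x
    rw [bcDiagram_map_snd] at e
    have := hi (((bcDiagram D i₀ (f₀ ≫ g₀)).map b) x)
    rw [Set.notMem_compl_iff] at this
    exact e ▸ this
  -- the open immersion `S_m ×_{S₀} V₀ ⟶ S_m ×_{S₀} X₀` is an isomorphism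
  have hA := isPullback_stageMap' (D.map m.hom) (f₀ ⁻¹ᵁ U₀).ι (f₀ ≫ g₀)
    ((f₀ ∣_ U₀) ≫ U₀.ι ≫ g₀) e₀.symm
  have hAopen : IsOpenImmersion (stageMap' (D.map m.hom) (f₀ ⁻¹ᵁ U₀).ι (f₀ ≫ g₀)
      ((f₀ ∣_ U₀) ≫ U₀.ι ≫ g₀) e₀.symm) :=
    MorphismProperty.of_isPullback (P := @IsOpenImmersion) hA inferInstance
  have hAiso : IsIso (stageMap' (D.map m.hom) (f₀ ⁻¹ᵁ U₀).ι (f₀ ≫ g₀)
      ((f₀ ∣_ U₀) ≫ U₀.ι ≫ g₀) e₀.symm) := by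
    rw [isIso_iff_isOpenImmersion_and_surjective]
    refine ⟨hAopen, ⟨fun x => ?_⟩⟩
    obtain ⟨z, -, hz⟩ := exists_preimage_of_isPullback hA ⟨_, hmV x⟩ x rfl
    exact ⟨z, hz⟩
  have hBopen : IsOpenImmersion (stageMap (D.map m.hom) U₀.ι g₀) :=
    MorphismProperty.of_isPullback (P := @IsOpenImmersion)
      (isPullback_stageMap (D.map m.hom) U₀.ι g₀) inferInstance
  have hcomm : stageMap' (D.map m.hom) (f₀ ⁻¹ᵁ U₀).ι (f₀ ≫ g₀)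
      ((f₀ ∣_ U₀) ≫ U₀.ι ≫ g₀) e₀.symm ≫ stageMap (D.map m.hom) f₀ g₀ =
      stageMap (D.map m.hom) (f₀ ∣_ U₀) (U₀.ι ≫ g₀) ≫ stageMap (D.map m.hom) U₀.ι g₀ := by
    apply pullback.hom_ext
    · rw [Category.assoc, Category.assoc, stageMap_fst, stageMap_fst, stageMap'_fst, stageMap_fst]
    · rw [Category.assoc, Category.assoc, stageMap_snd, stageMap_snd, stageMap'_snd_assoc,
        stageMap_snd_assoc, morphismRestrict_ι]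
  have hF : stageMap (D.map m.hom) f₀ g₀ =
      inv (stageMap' (D.map m.hom) (f₀ ⁻¹ᵁ U₀).ι (f₀ ≫ g₀) ((f₀ ∣_ U₀) ≫ U₀.ι ≫ g₀) e₀.symm) ≫
        stageMap (D.map m.hom) (f₀ ∣_ U₀) (U₀.ι ≫ g₀) ≫ stageMap (D.map m.hom) U₀.ι g₀ := by
    rw [← hcomm, IsIso.inv_hom_id_assoc]
  rw [hF]
  infer_instance

end core

end Groth.Agent.Lib.helper9
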