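/-
Helper library (helper9): descent of closed immersions along a cofiltered limit `S = lim S_i` of
schemes with affine transition maps (base-change form): if `f₀ : X₀ ⟶ Y₀` is locally of finite
type between qcqs schemes over a qcqs stage and its base change to the limit is a closed
immersion, then so is its base change to some stage.
-/
import Groth.Agent.Lib.Helper9.ClosedImmRing
import Groth.Agent.Lib.Helper9.OpenImmDescend
import Groth.Agent.S9186

set_option autoImplicit false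
set_option linter.style.haveILetI false

namespace Groth.Agent.Lib.helper9

open AlgebraicGeometry CategoryTheory Limits

universe u

section cat

variable {C : Type*} [Category C] [HasPullbacks C]

/-- Any base change `f` of `f₀` over the base change along `π` is isomorphic (as an arrow) to the
standard stage map. -/
theorem stageMap_eq_of_isPullback {S' S₀ X₀ Y₀ X Y : C} {π : S' ⟶ S₀} {f₀ : X₀ ⟶ Y₀}
    {g₀ : Y₀ ⟶ S₀} {f : X ⟶ Y} {g : Y ⟶ S'} {qY : Y ⟶ Y₀} {qX : X ⟶ X₀}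
    (hY : IsPullback qY g g₀ π) (hX : IsPullback qX f f₀ qY) :
    stageMap π f₀ g₀ =
      (hX.paste_vert hY).flip.isoPullback.inv ≫ f ≫ hY.flip.isoPullback.hom := by
  apply pullback.hom_ext
  · rw [stageMap_fst, Category.assoc, Category.assoc, hY.flip.isoPullback_hom_fst,
      (hX.paste_vert hY).flip.isoPullback_inv_fst]
  · rw [stageMap_snd, Category.assoc, Category.assoc, hY.flip.isoPullback_hom_snd, ← hX.w,
      (hX.paste_vert hY).flip.isoPullback_inv_snd_assoc]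

theorem stageMap_iff_of_isPullback (P : MorphismProperty C) [P.RespectsIso]
    {S' S₀ X₀ Y₀ X Y : C} {π : S' ⟶ S₀} {f₀ : X₀ ⟶ Y₀}
    {g₀ : Y₀ ⟶ S₀} {f : X ⟶ Y} {g : Y ⟶ S'} {qY : Y ⟶ Y₀} {qX : X ⟶ X₀}
    (hY : IsPullback qY g g₀ π) (hX : IsPullback qX f f₀ qY) :
    P (stageMap π f₀ g₀) ↔ P f := by
  rw [stageMap_eq_of_isPullback hY hX, P.cancel_left_of_respectsIso,
    P.cancel_right_of_respectsIso]

theorem stageMap_iff_of_eq (P : MorphismProperty C) {S' S₀ X₀ Y₀ : C} {π π' : S' ⟶ S₀}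
    (h : π = π') (f₀ : X₀ ⟶ Y₀) (g₀ : Y₀ ⟶ S₀) :
    P (stageMap π f₀ g₀) ↔ P (stageMap π' f₀ g₀) := by
  subst h
  rfl

/-- Rebasing: the stage map over `ψ` of the stage map over `φ` is the stage map over `ψ ≫ φ`. -/
theorem stageMap_stageMap_iff (P : MorphismProperty C) [P.RespectsIso] {S'' S' S₀ X₀ Y₀ : C}
    (ψ : S'' ⟶ S') (φ : S' ⟶ S₀) (f₀ : X₀ ⟶ Y₀) (g₀ : Y₀ ⟶ S₀) :
    P (stageMap ψ (stageMap φ f₀ g₀) (pullback.fst φ g₀)) ↔ P (stageMap (ψ ≫ φ) f₀ g₀) :=
  (stageMap_iff_of_isPullback P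
    ((isPullback_stage_base ψ (pullback.fst φ g₀)).paste_horiz (isPullback_stage_base φ g₀))
    ((isPullback_stageMap ψ (stageMap φ f₀ g₀) (pullback.fst φ g₀)).paste_horiz
      (isPullback_stageMap φ f₀ g₀))).symm

/-- Restricting the data along a cartesian square gives a cartesian square of stage maps. -/
theorem isPullback_stageMap_of_isPullback {S' S₀ X₀ Y₀ X₁ Y₁ : C} (φ : S' ⟶ S₀) {f₀ : X₀ ⟶ Y₀}
    (g₀ : Y₀ ⟶ S₀) {a : X₁ ⟶ X₀} {f₁ : X₁ ⟶ Y₁} {b : Y₁ ⟶ Y₀} (sq : IsPullback a f₁ f₀ b)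
    (e : a ≫ f₀ ≫ g₀ = f₁ ≫ b ≫ g₀) :
    IsPullback (stageMap' φ a (f₀ ≫ g₀) (f₁ ≫ b ≫ g₀) e) (stageMap φ f₁ (b ≫ g₀))
      (stageMap φ f₀ g₀) (stageMap φ b g₀) := by
  have hcomm : stageMap' φ a (f₀ ≫ g₀) (f₁ ≫ b ≫ g₀) e ≫ stageMap φ f₀ g₀ =
      stageMap φ f₁ (b ≫ g₀) ≫ stageMap φ b g₀ := by
    apply pullback.hom_ext
    · rw [Category.assoc, Category.assoc, stageMap_fst, stageMap_fst, stageMap'_fst, stageMap_fst]
    · rw [Category.assoc, Category.assoc, stageMap_snd, stageMap_snd, stageMap'_snd_assoc,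
        stageMap_snd_assoc, sq.w]
  refine IsPullback.of_right ?_ hcomm (isPullback_stageMap φ f₀ g₀)
  rw [stageMap'_snd, stageMap_snd]
  exact (isPullback_stageMap φ f₁ (b ≫ g₀)).paste_horiz sq

end cat

/-- A property that is Zariski-local at the target can be checked on a jointly surjective family
of open immersions into the target, through cartesian squares. -/
theorem of_isPullback_family {P : MorphismProperty Scheme.{u}} [IsZariskiLocalAtTarget P]
    {X Y : Scheme.{u}} (F : X ⟶ Y) {ι : Type*} {Xι Yι : ι → Scheme.{u}} (A : ∀ i, Xι i ⟶ X)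
    (B : ∀ i, Yι i ⟶ Y) (Fι : ∀ i, Xι i ⟶ Yι i) [∀ i, IsOpenImmersion (B i)]
    (hsq : ∀ i, IsPullback (A i) (Fι i) F (B i)) (hcov : ∀ y : Y, ∃ i, y ∈ Set.range (B i))
    (hP : ∀ i, P (Fι i)) : P F := by
  apply IsZariskiLocalAtTarget.of_forall_exists_morphismRestrict
  intro y
  obtain ⟨i, hi⟩ := hcov y
  refine ⟨(B i).opensRange, hi, ?_⟩
  rw [P.arrow_mk_iso_iff (morphismRestrictOpensRange F (B i))]
  have h : pullback.snd F (B i) = (hsq i).isoPullback.inv ≫ Fι i := by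
    rw [IsPullback.isoPullback_inv_snd]
  rw [h, P.cancel_left_of_respectsIso]
  exact hP i

section

variable {I : Type u} [SmallCategory I] (D : I ⥤ Scheme.{u}) (c : Cone D)
  (i₀ : I) {X₀ Y₀ : Scheme.{u}} (f₀ : X₀ ⟶ Y₀) (g₀ : Y₀ ⟶ D.obj i₀)

/-- The stage maps as a natural transformation. -/
noncomputable def stageNat : bcDiagram D i₀ (f₀ ≫ g₀) ⟶ bcDiagram D i₀ g₀ where
  app j := stageF D i₀ f₀ g₀ j
  naturality _ _ m := stageF_naturality D i₀ f₀ g₀ m

@[simp]
theorem stageNat_app (j : Over i₀) : (stageNat D i₀ f₀ g₀).app j = stageF D i₀ f₀ g₀ j := rfl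

/-- Properties stable under base change persist to smaller stages. -/
theorem stageMap_of_hom (P : MorphismProperty Scheme.{u}) [P.IsStableUnderBaseChange]
    {j j' : Over i₀} (m : j ⟶ j') (h : P (stageMap (D.map j'.hom) f₀ g₀)) :
    P (stageMap (D.map j.hom) f₀ g₀) :=
  MorphismProperty.of_isPullback (P := P) (isPullback_stageF_map D i₀ f₀ g₀ m) h

/-- Converting the stage-map form of a descent statement to the existential form. -/
theorem exists_stage_of_exists_stageMap (P : MorphismProperty Scheme.{u})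
    (h : ∃ l : Over i₀, P (stageMap (D.map l.hom) f₀ g₀)) :
    ∃ (i : I) (φ : i ⟶ i₀) (Xi Yi : Scheme.{u}) (fi : Xi ⟶ Yi) (gi : Yi ⟶ D.obj i)
      (pY : Yi ⟶ Y₀) (pX : Xi ⟶ X₀), IsPullback pY gi g₀ (D.map φ) ∧ IsPullback pX fi f₀ pY ∧
        P fi := by
  obtain ⟨l, hl⟩ := h
  exact ⟨l.left, l.hom, _, _, stageMap (D.map l.hom) f₀ g₀, _, _, _,
    isPullback_stage_base (D.map l.hom) g₀, isPullback_stageMap (D.map l.hom) f₀ g₀, hl⟩

end

section core

variable {I : Type u} [SmallCategory I] [IsCofiltered I] (D : I ⥤ Scheme.{u}) (c : Cone D)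
  (hc : IsLimit c) [hD : ∀ (i j : I) (f : i ⟶ j), IsAffineHom (D.map f)]
  (i₀ : I) {X₀ Y₀ : Scheme.{u}} (f₀ : X₀ ⟶ Y₀) (g₀ : Y₀ ⟶ D.obj i₀)

include hc in
/-- Affine-ness of the stage maps descends (stage-map form of `S9186`). -/
theorem exists_isAffineHom_stageMap [CompactSpace (D.obj i₀)] [QuasiSeparatedSpace (D.obj i₀)]
    [CompactSpace X₀] [QuasiSeparatedSpace X₀] [CompactSpace Y₀] [QuasiSeparatedSpace Y₀]
    [IsAffineHom (stageMap (c.π.app i₀) f₀ g₀)] :
    ∃ l : Over i₀, IsAffineHom (stageMap (D.map l.hom) f₀ g₀) := by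
  obtain ⟨i, φ, Xi, Yi, fi, gi, pY, pX, h1, h2, h3⟩ :=
    Groth.Agent.S9186.result D c hc i₀ f₀ g₀ (stageMap (c.π.app i₀) f₀ g₀)
      (pullback.fst (c.π.app i₀) g₀) (pullback.snd (c.π.app i₀) g₀)
      (pullback.snd (c.π.app i₀) (f₀ ≫ g₀)) (isPullback_stage_base (c.π.app i₀) g₀)
      (isPullback_stageMap (c.π.app i₀) f₀ g₀)
  exact ⟨Over.mk φ, (stageMap_iff_of_isPullback @IsAffineHom h1 h2).mpr h3⟩

include hc in
/-- Lemma A: the affine case of the descent of closed immersions. -/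
theorem exists_isClosedImmersion_stageMap_of_isAffine [IsAffine X₀] [IsAffine Y₀]
    [LocallyOfFiniteType f₀] [IsClosedImmersion (stageMap (c.π.app i₀) f₀ g₀)] :
    ∃ l : Over i₀, IsClosedImmersion (stageMap (D.map l.hom) f₀ g₀) := by
  classical
  let DX := bcDiagram D i₀ (f₀ ≫ g₀)
  let DY := bcDiagram D i₀ g₀
  let cX := bcCone D c i₀ (f₀ ≫ g₀)
  let cY := bcCone D c i₀ g₀
  have hcX : IsLimit cX := isLimitBcCone D c i₀ (f₀ ≫ g₀) hc
  have hcY : IsLimit cY := isLimitBcCone D c i₀ g₀ hc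
  have hπ : IsAffineHom (c.π.app i₀) := isAffineHom_π_app D c hc i₀
  have affX : ∀ j, IsAffine (DX.obj j) := fun j =>
    (inferInstance : IsAffine (pullback (D.map j.hom) (f₀ ≫ g₀)))
  have affY : ∀ j, IsAffine (DY.obj j) := fun j =>
    (inferInstance : IsAffine (pullback (D.map j.hom) g₀))
  have affcX : IsAffine (pullback (c.π.app i₀) (f₀ ≫ g₀)) := inferInstance
  have affcY : IsAffine (pullback (c.π.app i₀) g₀) := inferInstance
  have H4 : Function.Surjective (stageFc D c i₀ f₀ g₀).appTop :=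
    (IsClosedImmersion.isAffine_surjective_of_isAffine (stageMap (c.π.app i₀) f₀ g₀)).2
  have H1 : ∀ s : Γ(cY.pt, ⊤), ∃ (j : Over i₀) (t : Γ(DY.obj j, ⊤)),
      (cY.π.app j).appTop t = s := fun s =>
    exists_appTop_π_eq_of_isAffine_of_isLimit DY cY hcY s
  have H2 : ∀ (j : Over i₀) (s t : Γ(DX.obj j, ⊤)),
      (cX.π.app j).appTop s = (cX.π.app j).appTop t →
      ∃ (j' : Over i₀) (m : j' ⟶ j), (DX.map m).appTop s = (DX.map m).appTop t := by
    intro j s t hst
    obtain ⟨j', m, hm⟩ := exists_appTop_map_eq_zero_of_isAffine_of_isLimit DX cX hcX j (s - t)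
      (by rw [map_sub, hst, sub_self])
    exact ⟨j', m, by rwa [map_sub, sub_eq_zero] at hm⟩
  have hft : (f₀.appTop).hom.FiniteType :=
    (HasRingHomProperty.iff_of_isAffine (P := @LocallyOfFiniteType)).mp inferInstance
  obtain ⟨s, hs⟩ := exists_finset_forall_subring_eq_top _ hft
  let j₀ : Over i₀ := Over.mk (𝟙 i₀)
  let s' : Finset Γ(DX.obj j₀, ⊤) :=
    s.image (pullback.snd (D.map j₀.hom) (f₀ ≫ g₀)).appTop
  obtain ⟨l, m, hl⟩ := exists_forall_mem_range_appTop_stage (stageNat D i₀ f₀ g₀) cX cY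
    (stageFc D c i₀ f₀ g₀) (stageFc_naturality D c i₀ f₀ g₀) H1 H2 H4 j₀ s'
  refine ⟨l, ?_⟩
  have hgen : ∀ x ∈ s, (pullback.snd (D.map l.hom) (f₀ ≫ g₀)).appTop x ∈
      Set.range (stageMap (D.map l.hom) f₀ g₀).appTop := by
    intro x hx
    obtain ⟨t, ht⟩ := hl _ (Finset.mem_image_of_mem _ hx)
    have e : (DX.map m).appTop ((pullback.snd (D.map j₀.hom) (f₀ ≫ g₀)).appTop x) =
        (pullback.snd (D.map l.hom) (f₀ ≫ g₀)).appTop x :=
      (appTop_appTop _ _ x).trans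
        (congrArg (fun q => q.appTop x) (bcDiagram_map_snd D i₀ (f₀ ≫ g₀) m))
    exact ⟨t, ht.trans e⟩
  have : IsAffine (pullback (D.map l.hom) (f₀ ≫ g₀)) := inferInstance
  have : IsAffine (pullback (D.map l.hom) g₀) := inferInstance
  have hpo := isPushout_appTop_of_isPullback (isPullback_stageMap (D.map l.hom) f₀ g₀)
  apply IsClosedImmersion.of_surjective_of_isAffine
  refine surjective_of_isPushout_of_range_le hpo.flip ?_
  intro x
  let T : Subring Γ(X₀, ⊤) := (RingHom.range (stageMap (D.map l.hom) f₀ g₀).appTop.hom).comap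
    (pullback.snd (D.map l.hom) (f₀ ≫ g₀)).appTop.hom
  have hT : T = ⊤ := by
    refine hs T ?_ ?_
    · rintro _ ⟨y, rfl⟩
      refine ⟨(pullback.snd (D.map l.hom) g₀).appTop y, ?_⟩
      exact (appTop_appTop _ _ y).trans (((congrArg (fun q => q.appTop y)
        (stageMap_snd (D.map l.hom) f₀ g₀))).trans (appTop_appTop _ _ y).symm)
    · intro x hx
      exact hgen x hx
  have hx : x ∈ T := hT ▸ Subring.mem_top x
  exact hx

include hc in
/-- The descent of closed immersions when `f₀` is affine. -/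
theorem exists_isClosedImmersion_stageMap_of_isAffineHom [CompactSpace Y₀] [IsAffineHom f₀]
    [LocallyOfFiniteType f₀] [IsClosedImmersion (stageMap (c.π.app i₀) f₀ g₀)] :
    ∃ l : Over i₀, IsClosedImmersion (stageMap (D.map l.hom) f₀ g₀) := by
  classical
  obtain ⟨s, hs, hcov⟩ := (isCompact_and_isOpen_iff_finite_and_eq_biUnion_affineOpens
    (U := (Set.univ : Set Y₀))).mp ⟨isCompact_univ, isOpen_univ⟩
  have e₀ : ∀ V : Y₀.Opens, (f₀ ⁻¹ᵁ V).ι ≫ f₀ ≫ g₀ = (f₀ ∣_ V) ≫ V.ι ≫ g₀ := fun V =>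
    (morphismRestrict_ι_assoc f₀ V g₀).symm
  have hstage : ∀ V : s, ∃ l : Over i₀,
      IsClosedImmersion (stageMap (D.map l.hom) (f₀ ∣_ V.1.1) (V.1.1.ι ≫ g₀)) := by
    intro V
    have : IsAffine V.1.1.toScheme := V.1.2
    have : IsAffine (f₀ ⁻¹ᵁ V.1.1).toScheme := V.1.2.preimage f₀
    have : LocallyOfFiniteType (f₀ ∣_ V.1.1) :=
      IsZariskiLocalAtTarget.restrict (P := @LocallyOfFiniteType) inferInstance V.1.1
    have : IsClosedImmersion (stageMap (c.π.app i₀) (f₀ ∣_ V.1.1) (V.1.1.ι ≫ g₀)) :=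
      MorphismProperty.of_isPullback (P := @IsClosedImmersion)
        (isPullback_stageMap_of_isPullback (c.π.app i₀) g₀
          (isPullback_morphismRestrict f₀ V.1.1).flip (e₀ V.1.1)) inferInstance
    exact exists_isClosedImmersion_stageMap_of_isAffine D c hc i₀ (f₀ ∣_ V.1.1) (V.1.1.ι ≫ g₀)
  choose lV hlV using hstage
  have : Fintype s := hs.fintype
  obtain ⟨l, hl⟩ := IsCofiltered.inf_objs_exists (Finset.univ.image lV)
  have ml : ∀ V : s, l ⟶ lV V := fun V =>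
    (hl (Finset.mem_image_of_mem _ (Finset.mem_univ V))).some
  refine ⟨l, ?_⟩
  have hB : ∀ V : s, IsOpenImmersion (stageMap (D.map l.hom) V.1.1.ι g₀) := fun V =>
    MorphismProperty.of_isPullback (P := @IsOpenImmersion)
      (isPullback_stageMap (D.map l.hom) V.1.1.ι g₀) inferInstance
  refine of_isPullback_family (P := @IsClosedImmersion) (stageMap (D.map l.hom) f₀ g₀)
    (fun V : s => stageMap' (D.map l.hom) (f₀ ⁻¹ᵁ V.1.1).ι (f₀ ≫ g₀)
      ((f₀ ∣_ V.1.1) ≫ V.1.1.ι ≫ g₀) (e₀ V.1.1))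
    (fun V : s => stageMap (D.map l.hom) V.1.1.ι g₀)
    (fun V : s => stageMap (D.map l.hom) (f₀ ∣_ V.1.1) (V.1.1.ι ≫ g₀))
    (fun V => isPullback_stageMap_of_isPullback (D.map l.hom) g₀
      (isPullback_morphismRestrict f₀ V.1.1).flip (e₀ V.1.1)) ?_
    (fun V => stageMap_of_hom D i₀ (f₀ ∣_ V.1.1) (V.1.1.ι ≫ g₀) @IsClosedImmersion (ml V)
      (hlV V))
  intro y
  have hy : (pullback.snd (D.map l.hom) g₀) y ∈ ⋃ i ∈ s, (i : Set Y₀) :=
    hcov ▸ Set.mem_univ _
  obtain ⟨V, hVs, hyV⟩ := Set.mem_iUnion₂.mp hy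
  obtain ⟨z, -, hz⟩ := exists_preimage_of_isPullback
    (isPullback_stageMap (D.map l.hom) V.1.ι g₀) ⟨_, hyV⟩ y rfl
  exact ⟨⟨V, hVs⟩, z, hz⟩

include hc in
/-- The descent of closed immersions (stage-map form). -/
theorem exists_isClosedImmersion_stageMap [CompactSpace (D.obj i₀)]
    [QuasiSeparatedSpace (D.obj i₀)] [CompactSpace X₀] [QuasiSeparatedSpace X₀] [CompactSpace Y₀]
    [QuasiSeparatedSpace Y₀] [LocallyOfFiniteType f₀]
    [IsClosedImmersion (stageMap (c.π.app i₀) f₀ g₀)] :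
    ∃ l : Over i₀, IsClosedImmersion (stageMap (D.map l.hom) f₀ g₀) := by
  obtain ⟨l₀, hl₀⟩ := exists_isAffineHom_stageMap D c hc i₀ f₀ g₀
  have h1 : IsClosedImmersion (stageMap (c.π.app l₀.left) (stageMap (D.map l₀.hom) f₀ g₀)
      (pullback.fst (D.map l₀.hom) g₀)) := by
    rw [stageMap_stageMap_iff @IsClosedImmersion, stageMap_iff_of_eq @IsClosedImmersion (c.w l₀.hom)]
    infer_instance
  have : IsAffineHom (D.map l₀.hom) := inferInstance
  have : CompactSpace ↥(pullback (D.map l₀.hom) g₀) :=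
    QuasiCompact.compactSpace_of_compactSpace (pullback.snd (D.map l₀.hom) g₀)
  have : LocallyOfFiniteType (stageMap (D.map l₀.hom) f₀ g₀) :=
    MorphismProperty.of_isPullback (P := @LocallyOfFiniteType)
      (isPullback_stageMap (D.map l₀.hom) f₀ g₀) inferInstance
  obtain ⟨l, hl⟩ := exists_isClosedImmersion_stageMap_of_isAffineHom D c hc l₀.left
    (stageMap (D.map l₀.hom) f₀ g₀) (pullback.fst (D.map l₀.hom) g₀)
  refine ⟨Over.mk (l.hom ≫ l₀.hom), ?_⟩
  rw [stageMap_stageMap_iff @IsClosedImmersion] at hl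
  exact (stageMap_iff_of_eq @IsClosedImmersion (D.map_comp l.hom l₀.hom).symm f₀ g₀).mp hl

end core

end Groth.Agent.Lib.helper9
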