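/-
Helper library (helper9): generic reduction of descent statements (base-change form) along a
cofiltered limit `S = lim S_i` with affine transition maps to the affine case, for properties `P`
of morphisms that imply affineness, are Zariski-local at the target and stable under base change.
-/
import Groth.Agent.Lib.Helper9.ClosedImmDescend

set_option autoImplicit false
set_option linter.style.haveILetI false

namespace Groth.Agent.Lib.helper9

open AlgebraicGeometry CategoryTheory Limits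

universe u

section core

variable {I : Type u} [SmallCategory I] [IsCofiltered I] (D : I ⥤ Scheme.{u}) (c : Cone D)
  (hc : IsLimit c) [hD : ∀ (i j : I) (f : i ⟶ j), IsAffineHom (D.map f)]
  (P Q : MorphismProperty Scheme.{u})

/-- The affine case of a descent statement for `P` under the hypothesis `Q` on `f₀`. -/
def AffineDescent : Prop :=
  ∀ (i₀ : I) {X₀ Y₀ : Scheme.{u}} (f₀ : X₀ ⟶ Y₀) (g₀ : Y₀ ⟶ D.obj i₀) [IsAffine X₀] [IsAffine Y₀],
    Q f₀ → P (stageMap (c.π.app i₀) f₀ g₀) → ∃ l : Over i₀, P (stageMap (D.map l.hom) f₀ g₀)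

variable {D c P Q}

omit hD in
/-- From the affine case to the case when `f₀` is affine. -/
theorem AffineDescent.exists_stageMap_of_isAffineHom [IsZariskiLocalAtTarget P]
    [P.IsStableUnderBaseChange] [IsZariskiLocalAtTarget Q] (hA : AffineDescent D c P Q)
    (i₀ : I) {X₀ Y₀ : Scheme.{u}} (f₀ : X₀ ⟶ Y₀) (g₀ : Y₀ ⟶ D.obj i₀)
    [CompactSpace Y₀] [IsAffineHom f₀] (hQ : Q f₀) (hP : P (stageMap (c.π.app i₀) f₀ g₀)) :
    ∃ l : Over i₀, P (stageMap (D.map l.hom) f₀ g₀) := by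
  classical
  obtain ⟨s, hs, hcov⟩ := (isCompact_and_isOpen_iff_finite_and_eq_biUnion_affineOpens
    (U := (Set.univ : Set Y₀))).mp ⟨isCompact_univ, isOpen_univ⟩
  have e₀ : ∀ V : Y₀.Opens, (f₀ ⁻¹ᵁ V).ι ≫ f₀ ≫ g₀ = (f₀ ∣_ V) ≫ V.ι ≫ g₀ := fun V =>
    (morphismRestrict_ι_assoc f₀ V g₀).symm
  have hstage : ∀ V : s, ∃ l : Over i₀,
      P (stageMap (D.map l.hom) (f₀ ∣_ V.1.1) (V.1.1.ι ≫ g₀)) := by
    intro V
    have : IsAffine V.1.1.toScheme := V.1.2
    have : IsAffine (f₀ ⁻¹ᵁ V.1.1).toScheme := V.1.2.preimage f₀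
    have h1 : Q (f₀ ∣_ V.1.1) := IsZariskiLocalAtTarget.restrict (P := Q) hQ V.1.1
    have h2 : P (stageMap (c.π.app i₀) (f₀ ∣_ V.1.1) (V.1.1.ι ≫ g₀)) :=
      MorphismProperty.of_isPullback (P := P)
        (isPullback_stageMap_of_isPullback (c.π.app i₀) g₀
          (isPullback_morphismRestrict f₀ V.1.1).flip (e₀ V.1.1)) hP
    exact hA i₀ (f₀ ∣_ V.1.1) (V.1.1.ι ≫ g₀) h1 h2
  choose lV hlV using hstage
  have : Fintype s := hs.fintype
  obtain ⟨l, hl⟩ := IsCofiltered.inf_objs_exists (Finset.univ.image lV)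
  have ml : ∀ V : s, l ⟶ lV V := fun V =>
    (hl (Finset.mem_image_of_mem _ (Finset.mem_univ V))).some
  refine ⟨l, ?_⟩
  have hB : ∀ V : s, IsOpenImmersion (stageMap (D.map l.hom) V.1.1.ι g₀) := fun V =>
    MorphismProperty.of_isPullback (P := @IsOpenImmersion)
      (isPullback_stageMap (D.map l.hom) V.1.1.ι g₀) inferInstance
  refine of_isPullback_family (P := P) (stageMap (D.map l.hom) f₀ g₀)
    (fun V : s => stageMap' (D.map l.hom) (f₀ ⁻¹ᵁ V.1.1).ι (f₀ ≫ g₀)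
      ((f₀ ∣_ V.1.1) ≫ V.1.1.ι ≫ g₀) (e₀ V.1.1))
    (fun V : s => stageMap (D.map l.hom) V.1.1.ι g₀)
    (fun V : s => stageMap (D.map l.hom) (f₀ ∣_ V.1.1) (V.1.1.ι ≫ g₀))
    (fun V => isPullback_stageMap_of_isPullback (D.map l.hom) g₀
      (isPullback_morphismRestrict f₀ V.1.1).flip (e₀ V.1.1)) ?_
    (fun V => stageMap_of_hom D i₀ (f₀ ∣_ V.1.1) (V.1.1.ι ≫ g₀) P (ml V)
      (hlV V))
  intro y
  have hy : (pullback.snd (D.map l.hom) g₀) y ∈ ⋃ i ∈ s, (i : Set Y₀) :=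
    hcov ▸ Set.mem_univ _
  obtain ⟨V, hVs, hyV⟩ := Set.mem_iUnion₂.mp hy
  obtain ⟨z, -, hz⟩ := exists_preimage_of_isPullback
    (isPullback_stageMap (D.map l.hom) V.1.ι g₀) ⟨_, hyV⟩ y rfl
  exact ⟨⟨V, hVs⟩, z, hz⟩

include hc in
/-- From the affine case to the general (qcqs) case, for properties implying affineness. -/
theorem AffineDescent.exists_stageMap [IsZariskiLocalAtTarget P]
    [P.IsStableUnderBaseChange] [IsZariskiLocalAtTarget Q] [Q.IsStableUnderBaseChange]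
    (hA : AffineDescent D c P Q) (hPaff : P ≤ @IsAffineHom)
    (i₀ : I) {X₀ Y₀ : Scheme.{u}} (f₀ : X₀ ⟶ Y₀) (g₀ : Y₀ ⟶ D.obj i₀)
    [CompactSpace (D.obj i₀)] [QuasiSeparatedSpace (D.obj i₀)] [CompactSpace X₀]
    [QuasiSeparatedSpace X₀] [CompactSpace Y₀] [QuasiSeparatedSpace Y₀]
    (hQ : Q f₀) (hP : P (stageMap (c.π.app i₀) f₀ g₀)) :
    ∃ l : Over i₀, P (stageMap (D.map l.hom) f₀ g₀) := by
  have : IsAffineHom (stageMap (c.π.app i₀) f₀ g₀) := hPaff _ hP
  obtain ⟨l₀, hl₀⟩ := exists_isAffineHom_stageMap D c hc i₀ f₀ g₀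
  have h1 : P (stageMap (c.π.app l₀.left) (stageMap (D.map l₀.hom) f₀ g₀)
      (pullback.fst (D.map l₀.hom) g₀)) := by
    rw [stageMap_stageMap_iff P, stageMap_iff_of_eq P (c.w l₀.hom)]
    exact hP
  have : IsAffineHom (D.map l₀.hom) := inferInstance
  have : CompactSpace ↥(pullback (D.map l₀.hom) g₀) :=
    QuasiCompact.compactSpace_of_compactSpace (pullback.snd (D.map l₀.hom) g₀)
  have h2 : Q (stageMap (D.map l₀.hom) f₀ g₀) :=
    MorphismProperty.of_isPullback (P := Q) (isPullback_stageMap (D.map l₀.hom) f₀ g₀) hQ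
  obtain ⟨l, hl⟩ := hA.exists_stageMap_of_isAffineHom l₀.left
    (stageMap (D.map l₀.hom) f₀ g₀) (pullback.fst (D.map l₀.hom) g₀) h2 h1
  refine ⟨Over.mk (l.hom ≫ l₀.hom), ?_⟩
  rw [stageMap_stageMap_iff P] at hl
  exact (stageMap_iff_of_eq P (D.map_comp l.hom l₀.hom).symm f₀ g₀).mp hl

end core

end Groth.Agent.Lib.helper9
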