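/-
Helper library (helper9): ring-level and section-level lemmas for the descent of integrality and
finiteness along cofiltered limits of schemes.
-/
import Groth.Agent.Lib.Helper9.ClosedImmRing
import Mathlib.RingTheory.IntegralClosure.IsIntegralClosure.Basic
import Mathlib.Algebra.Polynomial.Lifts

set_option autoImplicit false
set_option linter.style.haveILetI false

namespace Groth.Agent.Lib.helper9

open AlgebraicGeometry CategoryTheory Limits Polynomial

universe u

/-- Integrality of an element is transported along a commutative square of ring maps. -/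
theorem isIntegralElem_of_commSq {A B A' B' : Type*} [CommRing A] [CommRing B] [CommRing A']
    [CommRing B'] (f : A →+* B) (f' : A' →+* B') (h : A →+* A') (g : B →+* B')
    (hsq : g.comp f = f'.comp h) {y : B} (hy : f.IsIntegralElem y) : f'.IsIntegralElem (g y) := by
  obtain ⟨p, hp, hpy⟩ := hy
  refine ⟨p.map h, hp.map h, ?_⟩
  rw [Polynomial.eval₂_map, ← hsq, ← Polynomial.hom_eval₂, hpy, map_zero]

/-- If `ρ` is integral and every `ρ b₀` is integral over `A` (via `ρ ∘ φ₀`), then `ρ ∘ φ₀` is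
integral. -/
theorem isIntegral_comp_of_forall_isIntegralElem {A B₀ B : Type*} [CommRing A] [CommRing B₀]
    [CommRing B] (φ₀ : A →+* B₀) (ρ : B₀ →+* B) (hρ : ρ.IsIntegral)
    (h : ∀ b₀ : B₀, (ρ.comp φ₀).IsIntegralElem (ρ b₀)) : (ρ.comp φ₀).IsIntegral := by
  let C : Subring B := ρ.range
  let α : A →+* C := (ρ.comp φ₀).codRestrict C (fun a => ⟨φ₀ a, rfl⟩)
  have hcomp : C.subtype.comp α = ρ.comp φ₀ := by
    ext a
    rfl
  have hα : α.IsIntegral := by
    rintro ⟨_, b₀, rfl⟩
    obtain ⟨p, hp, hpb⟩ := h b₀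
    refine ⟨p, hp, ?_⟩
    apply Subtype.ext
    have h1 := Polynomial.hom_eval₂ p α C.subtype (⟨ρ b₀, b₀, rfl⟩ : C)
    rw [hcomp] at h1
    exact h1.trans hpb
  have hι : C.subtype.IsIntegral := by
    intro b
    obtain ⟨p, hp, hpb⟩ := hρ b
    refine ⟨p.map ρ.rangeRestrict, hp.map _, ?_⟩
    rw [Polynomial.eval₂_map]
    exact hpb
  rw [← hcomp]
  exact hα.trans _ _ hι

/-- In a pushout square of commutative rings, a subring containing the ranges of both maps into
the pushout is everything. -/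
theorem subring_eq_top_of_isPushout {A₀ B₀ A B : CommRingCat.{u}} {a : A₀ ⟶ A}
    {b : A₀ ⟶ B₀} {α : A ⟶ B} {β : B₀ ⟶ B} (h : IsPushout a b α β) (R : Subring B)
    (hα : ∀ x, α.hom x ∈ R) (hβ : ∀ x, β.hom x ∈ R) : R = ⊤ := by
  let ι : CommRingCat.of R ⟶ B := CommRingCat.ofHom R.subtype
  let α' : A ⟶ CommRingCat.of R := CommRingCat.ofHom (α.hom.codRestrict R hα)
  let β' : B₀ ⟶ CommRingCat.of R := CommRingCat.ofHom (β.hom.codRestrict R hβ)
  have hα' : α' ≫ ι = α := by ext; rfl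
  have hβ' : β' ≫ ι = β := by ext; rfl
  have hw : a ≫ α' = b ≫ β' := by
    ext x
    have := congr($(h.w).hom x)
    exact this
  let v : B ⟶ CommRingCat.of R := h.desc α' β' hw
  have hv : v ≫ ι = 𝟙 B := by
    apply h.hom_ext
    · rw [h.inl_desc_assoc, hα', Category.comp_id]
    · rw [h.inr_desc_assoc, hβ', Category.comp_id]
  rw [eq_top_iff]
  intro x _
  have hx : ι.hom (v.hom x) = x := congr($(hv).hom x)
  rw [← hx]
  exact (v.hom x).2

/-- The subring of those `x : B₀` whose image under `ρ` is integral over `A` (via `f`). -/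
def integralPreimageSubring {A B₀ B : Type*} [CommRing A] [CommRing B₀] [CommRing B]
    (f : A →+* B) (ρ : B₀ →+* B) : Subring B₀ :=
  letI := f.toAlgebra
  (integralClosure A B).toSubring.comap ρ

theorem mem_integralPreimageSubring {A B₀ B : Type*} [CommRing A] [CommRing B₀] [CommRing B]
    (f : A →+* B) (ρ : B₀ →+* B) (x : B₀) :
    x ∈ integralPreimageSubring f ρ ↔ f.IsIntegralElem (ρ x) :=
  Iff.rfl

theorem appTop_hom_comp {X Y Z : Scheme.{u}} (p : X ⟶ Y) (q : Y ⟶ Z) :
    (p ≫ q).appTop.hom = p.appTop.hom.comp q.appTop.hom := by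
  rw [Scheme.Hom.comp_appTop]
  rfl

section abstract

variable {J : Type*} [Category J] [IsCofiltered J] {DX DY : J ⥤ Scheme.{u}} (F : DX ⟶ DY)
  (cX : Cone DX) (cY : Cone DY) (Fc : cX.pt ⟶ cY.pt)

/-- Finitely many global sections of the limit come from a common stage. -/
theorem exists_stage_forall_mem_range
    (H1 : ∀ s : Γ(cY.pt, ⊤), ∃ (j : J) (t : Γ(DY.obj j, ⊤)), (cY.π.app j).appTop t = s)
    (T : Finset Γ(cY.pt, ⊤)) :
    ∃ j : J, ∀ s ∈ T, s ∈ Set.range (cY.π.app j).appTop.hom := by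
  classical
  induction T using Finset.induction_on with
  | empty => exact ⟨(IsCofiltered.nonempty (C := J)).some, fun s hs => absurd hs (Finset.notMem_empty s)⟩
  | insert x T _ ih =>
    obtain ⟨j, hj⟩ := ih
    obtain ⟨jx, t, ht⟩ := H1 x
    let k := IsCofiltered.min j jx
    have hmono : ∀ {j' : J} (m : k ⟶ j') (s : Γ(cY.pt, ⊤)),
        s ∈ Set.range (cY.π.app j').appTop.hom → s ∈ Set.range (cY.π.app k).appTop.hom := by
      rintro j' m _ ⟨t', rfl⟩
      refine ⟨(DY.map m).appTop t', ?_⟩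
      exact (appTop_appTop _ _ t').trans (congrArg (fun q => q.appTop t') (cY.w m))
    refine ⟨k, fun s hs => ?_⟩
    rcases Finset.mem_insert.mp hs with rfl | hs
    · exact hmono (IsCofiltered.minToRight j jx) _ ⟨t, ht⟩
    · exact hmono (IsCofiltered.minToLeft j jx) _ (hj s hs)

/-- A monic polynomial over the global sections of the limit comes from a monic polynomial at some
stage. -/
theorem exists_monic_lift
    (H1 : ∀ s : Γ(cY.pt, ⊤), ∃ (j : J) (t : Γ(DY.obj j, ⊤)), (cY.π.app j).appTop t = s)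
    (p : Γ(cY.pt, ⊤)[X]) (hp : p.Monic) :
    ∃ (j : J) (q : Γ(DY.obj j, ⊤)[X]), q.Monic ∧ q.map (cY.π.app j).appTop.hom = p := by
  obtain ⟨j, hj⟩ := exists_stage_forall_mem_range cY H1 p.coeffs
  have hl : p ∈ Polynomial.lifts (cY.π.app j).appTop.hom :=
    (Polynomial.lifts_iff_coeffs_subset_range p).mpr fun s hs => hj s hs
  obtain ⟨q, hq, -, hqm⟩ := Polynomial.lifts_and_natDegree_eq_and_monic hl hp
  exact ⟨j, q, hqm, hq⟩

omit [IsCofiltered J] in
/-- Integrality over the stage persists to smaller stages. -/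
theorem isIntegralElem_appTop_of_hom {j j' : J} (w : j' ⟶ j) (y : Γ(DX.obj j, ⊤))
    (hy : (F.app j).appTop.hom.IsIntegralElem y) :
    (F.app j').appTop.hom.IsIntegralElem ((DX.map w).appTop y) := by
  refine isIntegralElem_of_commSq (F.app j).appTop.hom (F.app j').appTop.hom
    (DY.map w).appTop.hom (DX.map w).appTop.hom ?_ hy
  rw [← appTop_hom_comp, ← appTop_hom_comp, F.naturality]

/-- Abstract descent of integrality for one section. -/
theorem exists_isIntegralElem_appTop_stage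
    (hF : ∀ j, cX.π.app j ≫ F.app j = Fc ≫ cY.π.app j)
    (H1 : ∀ s : Γ(cY.pt, ⊤), ∃ (j : J) (t : Γ(DY.obj j, ⊤)), (cY.π.app j).appTop t = s)
    (H2 : ∀ (j : J) (s t : Γ(DX.obj j, ⊤)), (cX.π.app j).appTop s = (cX.π.app j).appTop t →
      ∃ (j' : J) (m : j' ⟶ j), (DX.map m).appTop s = (DX.map m).appTop t)
    (j₀ : J) (x : Γ(DX.obj j₀, ⊤))
    (hx : Fc.appTop.hom.IsIntegralElem ((cX.π.app j₀).appTop x)) :
    ∃ (j : J) (m : j ⟶ j₀), (F.app j).appTop.hom.IsIntegralElem ((DX.map m).appTop x) := by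
  obtain ⟨p, hp, hpx⟩ := hx
  obtain ⟨j₁, q, hq, hqp⟩ := exists_monic_lift cY H1 p hp
  let j₂ := IsCofiltered.min j₀ j₁
  let a : j₂ ⟶ j₀ := IsCofiltered.minToLeft j₀ j₁
  let b : j₂ ⟶ j₁ := IsCofiltered.minToRight j₀ j₁
  let q₂ : Γ(DY.obj j₂, ⊤)[X] := q.map (DY.map b).appTop.hom
  have hq₂ : q₂.Monic := hq.map _
  have hq₂p : q₂.map (cY.π.app j₂).appTop.hom = p := by
    rw [Polynomial.map_map, ← appTop_hom_comp, cY.w, hqp]
  let y : Γ(DX.obj j₂, ⊤) := q₂.eval₂ (F.app j₂).appTop.hom ((DX.map a).appTop x)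
  have hy : (cX.π.app j₂).appTop y = (cX.π.app j₂).appTop 0 := by
    rw [map_zero]
    have h1 := Polynomial.hom_eval₂ q₂ (F.app j₂).appTop.hom (cX.π.app j₂).appTop.hom
      ((DX.map a).appTop x)
    have h2 : (cX.π.app j₂).appTop.hom.comp (F.app j₂).appTop.hom =
        Fc.appTop.hom.comp (cY.π.app j₂).appTop.hom := by
      rw [← appTop_hom_comp, ← appTop_hom_comp, hF]
    have h3 : (cX.π.app j₂).appTop.hom ((DX.map a).appTop x) = (cX.π.app j₀).appTop x :=
      (appTop_appTop _ _ x).trans (congrArg (fun q => q.appTop x) (cX.w a))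
    rw [h2, h3, ← Polynomial.eval₂_map, hq₂p] at h1
    exact h1.trans hpx
  obtain ⟨j₃, w, hw⟩ := H2 j₂ y 0 hy
  refine ⟨j₃, w ≫ a, ?_⟩
  have hint : (F.app j₂).appTop.hom.IsIntegralElem ((DX.map a).appTop x) → True := fun _ => trivial
  refine ⟨q₂.map (DY.map w).appTop.hom, hq₂.map _, ?_⟩
  rw [Polynomial.eval₂_map]
  have h4 : (F.app j₃).appTop.hom.comp (DY.map w).appTop.hom =
      (DX.map w).appTop.hom.comp (F.app j₂).appTop.hom := by
    rw [← appTop_hom_comp, ← appTop_hom_comp, F.naturality]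
  have h5 : (DX.map (w ≫ a)).appTop x = (DX.map w).appTop.hom ((DX.map a).appTop x) := by
    rw [DX.map_comp]
    exact (appTop_appTop _ _ x).symm
  rw [h4, h5, ← Polynomial.hom_eval₂]
  rw [map_zero] at hw
  exact hw

/-- Abstract descent of integrality for finitely many sections. -/
theorem exists_forall_isIntegralElem_appTop_stage
    (hF : ∀ j, cX.π.app j ≫ F.app j = Fc ≫ cY.π.app j)
    (H1 : ∀ s : Γ(cY.pt, ⊤), ∃ (j : J) (t : Γ(DY.obj j, ⊤)), (cY.π.app j).appTop t = s)
    (H2 : ∀ (j : J) (s t : Γ(DX.obj j, ⊤)), (cX.π.app j).appTop s = (cX.π.app j).appTop t →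
      ∃ (j' : J) (m : j' ⟶ j), (DX.map m).appTop s = (DX.map m).appTop t)
    (j₀ : J) (s : Finset Γ(DX.obj j₀, ⊤))
    (hs : ∀ x ∈ s, Fc.appTop.hom.IsIntegralElem ((cX.π.app j₀).appTop x)) :
    ∃ (j : J) (m : j ⟶ j₀), ∀ x ∈ s,
      (F.app j).appTop.hom.IsIntegralElem ((DX.map m).appTop x) := by
  classical
  induction s using Finset.induction_on with
  | empty => exact ⟨j₀, 𝟙 j₀, fun x hx => absurd hx (Finset.notMem_empty x)⟩
  | insert x s _ ih =>
    obtain ⟨j, m, hm⟩ := ih (fun y hy => hs y (Finset.mem_insert_of_mem hy))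
    obtain ⟨jx, mx, hmx⟩ := exists_isIntegralElem_appTop_stage F cX cY Fc hF H1 H2 j₀ x
      (hs x (Finset.mem_insert_self x s))
    let k := IsCofiltered.min j jx
    let p : k ⟶ j := IsCofiltered.minToLeft j jx
    let q : k ⟶ jx := IsCofiltered.minToRight j jx
    let k' := IsCofiltered.eq (p ≫ m) (q ≫ mx)
    let e : k' ⟶ k := IsCofiltered.eqHom (p ≫ m) (q ≫ mx)
    have he : e ≫ p ≫ m = e ≫ q ≫ mx := IsCofiltered.eq_condition _ _
    have key : ∀ {j' : J} (m' : j' ⟶ j₀) (w : k' ⟶ j') (y : Γ(DX.obj j₀, ⊤)),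
        (F.app j').appTop.hom.IsIntegralElem ((DX.map m').appTop y) →
        (F.app k').appTop.hom.IsIntegralElem ((DX.map (w ≫ m')).appTop y) := by
      intro j' m' w y hy
      have h := isIntegralElem_appTop_of_hom F w _ hy
      have e' : (DX.map (w ≫ m')).appTop y = (DX.map w).appTop ((DX.map m').appTop y) := by
        rw [DX.map_comp]
        exact (appTop_appTop _ _ y).symm
      rw [e']
      exact h
    refine ⟨k', e ≫ p ≫ m, fun y hy => ?_⟩
    rcases Finset.mem_insert.mp hy with rfl | hy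
    · rw [he, ← Category.assoc]
      exact key mx (e ≫ q) y hmx
    · rw [← Category.assoc]
      exact key m (e ≫ p) y (hm y hy)

end abstract

end Groth.Agent.Lib.helper9
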