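/-
Helper library (helper9): descent of isomorphisms along a cofiltered limit `S = lim S_i` of schemes
with affine transition maps (base-change form), for `f₀ : X₀ ⟶ Y₀` locally of finite presentation
between arbitrary qcqs schemes over a qcqs stage.
-/
import Groth.Agent.Lib.Helper9.GenericDescend
import Groth.Agent.Lib.Helper9.IntegralRing
import Mathlib.AlgebraicGeometry.Morphisms.IsIso
import Mathlib.AlgebraicGeometry.Morphisms.FinitePresentation

set_option autoImplicit false
set_option linter.style.haveILetI false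

namespace Groth.Agent.Lib.helper9

open AlgebraicGeometry CategoryTheory Limits

universe u

/-- The kernel of a surjective ring map of finite presentation is finitely generated. -/
theorem ker_fg_of_finitePresentation_of_surjective {A B : Type*} [CommRing A] [CommRing B]
    (φ : A →+* B) (hφ : φ.FinitePresentation) (hs : Function.Surjective φ) :
    (RingHom.ker φ).FG := by
  letI := φ.toAlgebra
  have : Algebra.FinitePresentation A B := hφ
  exact Algebra.FinitePresentation.ker_fG_of_surjective (Algebra.ofId A B) hs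

/-- In a pushout square of commutative rings in which `b` is surjective and `a` kills the kernel
of `b`, the pushout of `b` is an isomorphism. -/
theorem isIso_of_isPushout_of_ker_le {A₀ B₀ A B : CommRingCat.{u}} {a : A₀ ⟶ A}
    {b : A₀ ⟶ B₀} {α : A ⟶ B} {β : B₀ ⟶ B} (h : IsPushout a b α β)
    (hb : Function.Surjective b.hom) (hk : RingHom.ker b.hom ≤ RingHom.ker a.hom) : IsIso α := by
  let r₀ : B₀ ⟶ A := CommRingCat.ofHom (b.hom.liftOfSurjective hb ⟨a.hom, hk⟩)
  have hr₀ : ∀ x, r₀.hom (b.hom x) = a.hom x := fun x =>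
    RingHom.liftOfSurjective_comp_apply b.hom hb ⟨a.hom, hk⟩ x
  have hw : a ≫ 𝟙 A = b ≫ r₀ := by
    ext x
    exact (hr₀ x).symm
  let r : B ⟶ A := h.desc (𝟙 A) r₀ hw
  have h1 : α ≫ r = 𝟙 A := h.inl_desc _ _ _
  have h2 : β ≫ r = r₀ := h.inr_desc _ _ _
  refine ⟨r, h1, ?_⟩
  apply h.hom_ext
  · rw [reassoc_of% h1, Category.comp_id]
  · rw [reassoc_of% h2, Category.comp_id]
    ext y
    obtain ⟨x, rfl⟩ := hb y
    show α.hom (r₀.hom (b.hom x)) = β.hom (b.hom x)
    rw [hr₀]
    exact congr($(h.w).hom x)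

/-- Finitely many global sections at a stage that vanish on the limit vanish at a common smaller
stage. -/
theorem exists_forall_appTop_map_eq_zero {J : Type*} [Category J] (DY : J ⥤ Scheme.{u})
    (cY : Cone DY)
    (H2 : ∀ (j : J) (s : Γ(DY.obj j, ⊤)), (cY.π.app j).appTop s = 0 →
      ∃ (j' : J) (m : j' ⟶ j), (DY.map m).appTop s = 0)
    (j : J) (s : Finset Γ(DY.obj j, ⊤)) (hs : ∀ x ∈ s, (cY.π.app j).appTop x = 0) :
    ∃ (j' : J) (m : j' ⟶ j), ∀ x ∈ s, (DY.map m).appTop x = 0 := by
  classical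
  induction s using Finset.induction_on with
  | empty => exact ⟨j, 𝟙 j, fun x hx => absurd hx (Finset.notMem_empty x)⟩
  | insert x s _ ih =>
    obtain ⟨j₁, m₁, h₁⟩ := ih (fun y hy => hs y (Finset.mem_insert_of_mem hy))
    have hx : (cY.π.app j₁).appTop ((DY.map m₁).appTop x) = 0 := by
      rw [appTop_appTop, cY.w m₁]
      exact hs x (Finset.mem_insert_self x s)
    obtain ⟨j₂, m₂, h₂⟩ := H2 j₁ _ hx
    refine ⟨j₂, m₂ ≫ m₁, fun y hy => ?_⟩
    have e : (DY.map (m₂ ≫ m₁)).appTop y = (DY.map m₂).appTop ((DY.map m₁).appTop y) := by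
      rw [DY.map_comp]
      exact (appTop_appTop _ _ y).symm
    rw [e]
    rcases Finset.mem_insert.mp hy with rfl | hy
    · exact h₂
    · rw [h₁ y hy, map_zero]

section core

variable {I : Type u} [SmallCategory I] [IsCofiltered I] (D : I ⥤ Scheme.{u}) (c : Cone D)
  (hc : IsLimit c) [hD : ∀ (i j : I) (f : i ⟶ j), IsAffineHom (D.map f)]

include hc in
/-- The affine case of the descent of isomorphisms. -/
theorem affineDescent_isIso :
    AffineDescent D c (MorphismProperty.isomorphisms Scheme.{u})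
      @LocallyOfFinitePresentation := by
  intro i₀ X₀ Y₀ f₀ g₀ _ _ hlfp hiso
  classical
  have hiso' : IsIso (stageMap (c.π.app i₀) f₀ g₀) := hiso
  have : LocallyOfFinitePresentation f₀ := hlfp
  have : LocallyOfFiniteType f₀ := inferInstance
  have : IsClosedImmersion (stageMap (c.π.app i₀) f₀ g₀) := inferInstance
  obtain ⟨l₁, hl₁⟩ := exists_isClosedImmersion_stageMap_of_isAffine D c hc i₀ f₀ g₀
  let DX := bcDiagram D i₀ (f₀ ≫ g₀)
  let DY := bcDiagram D i₀ g₀
  let cX := bcCone D c i₀ (f₀ ≫ g₀)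
  let cY := bcCone D c i₀ g₀
  have hcY : IsLimit cY := isLimitBcCone D c i₀ g₀ hc
  have hπ : IsAffineHom (c.π.app i₀) := isAffineHom_π_app D c hc i₀
  have affX : ∀ j, IsAffine (DX.obj j) := fun j =>
    (inferInstance : IsAffine (pullback (D.map j.hom) (f₀ ≫ g₀)))
  have affY : ∀ j, IsAffine (DY.obj j) := fun j =>
    (inferInstance : IsAffine (pullback (D.map j.hom) g₀))
  have affcX : IsAffine (pullback (c.π.app i₀) (f₀ ≫ g₀)) := inferInstance
  have affcY : IsAffine (pullback (c.π.app i₀) g₀) := inferInstance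
  have affX₁ : IsAffine (pullback (D.map l₁.hom) (f₀ ≫ g₀)) := inferInstance
  have affY₁ : IsAffine (pullback (D.map l₁.hom) g₀) := inferInstance
  -- the kernel at the stage `l₁` is finitely generated
  have hsurj : Function.Surjective (stageMap (D.map l₁.hom) f₀ g₀).appTop.hom :=
    (IsClosedImmersion.isAffine_surjective_of_isAffine (stageMap (D.map l₁.hom) f₀ g₀)).2
  have hlfp₁ : LocallyOfFinitePresentation (stageMap (D.map l₁.hom) f₀ g₀) :=
    MorphismProperty.of_isPullback (P := @LocallyOfFinitePresentation)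
      (isPullback_stageMap (D.map l₁.hom) f₀ g₀) inferInstance
  have hfp : (stageMap (D.map l₁.hom) f₀ g₀).appTop.hom.FinitePresentation :=
    (HasRingHomProperty.iff_of_isAffine (P := @LocallyOfFinitePresentation)).mp hlfp₁
  obtain ⟨s, hs⟩ := ker_fg_of_finitePresentation_of_surjective _ hfp hsurj
  -- the generators vanish on the limit
  have hinj : Function.Injective (stageFc D c i₀ f₀ g₀).appTop.hom := by
    have : IsIso (stageFc D c i₀ f₀ g₀) := hiso'
    have : IsIso (stageFc D c i₀ f₀ g₀).appTop :=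
      (inferInstance : IsIso ((stageFc D c i₀ f₀ g₀).app ⊤))
    exact ((ConcreteCategory.isIso_iff_bijective (stageFc D c i₀ f₀ g₀).appTop).mp this).1
  have hs0 : ∀ x ∈ s, (cY.π.app l₁).appTop x = 0 := by
    intro x hx
    apply hinj
    rw [map_zero]
    have hxk : (stageMap (D.map l₁.hom) f₀ g₀).appTop.hom x = 0 := by
      have : x ∈ RingHom.ker (stageMap (D.map l₁.hom) f₀ g₀).appTop.hom :=
        hs ▸ Ideal.subset_span hx
      exact this
    have e : (stageFc D c i₀ f₀ g₀).appTop.hom ((cY.π.app l₁).appTop x) =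
        (cX.π.app l₁).appTop (((stageNat D i₀ f₀ g₀).app l₁).appTop x) :=
      (appTop_appTop _ _ x).trans ((congrArg (fun q => q.appTop x)
        (stageFc_naturality D c i₀ f₀ g₀ l₁).symm).trans (appTop_appTop _ _ x).symm)
    rw [e]
    show (cX.π.app l₁).appTop ((stageMap (D.map l₁.hom) f₀ g₀).appTop.hom x) = 0
    rw [hxk]
    exact map_zero (cX.π.app l₁).appTop.hom
  obtain ⟨l₂, m, hm⟩ := exists_forall_appTop_map_eq_zero DY cY
    (fun j t ht => exists_appTop_map_eq_zero_of_isAffine_of_isLimit DY cY hcY j t ht) l₁ s hs0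
  refine ⟨l₂, ?_⟩
  have affX₂ : IsAffine (pullback (D.map l₂.hom) (f₀ ≫ g₀)) := inferInstance
  have affY₂ : IsAffine (pullback (D.map l₂.hom) g₀) := inferInstance
  have hpo := (isPushout_appTop_of_isPullback (isPullback_stageF_map D i₀ f₀ g₀ m)).flip
  have hk : RingHom.ker (stageF D i₀ f₀ g₀ l₁).appTop.hom ≤ RingHom.ker (DY.map m).appTop.hom := by
    show RingHom.ker (stageMap (D.map l₁.hom) f₀ g₀).appTop.hom ≤ _
    rw [← hs, Ideal.span_le]
    intro x hx
    exact hm x hx
  have hisoTop : IsIso (stageF D i₀ f₀ g₀ l₂).appTop :=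
    isIso_of_isPushout_of_ker_le hpo hsurj hk
  exact (HasAffineProperty.iff_of_isAffine (P := MorphismProperty.isomorphisms Scheme.{u})).mpr
    ⟨affX₂, hisoTop⟩

include hc in
/-- The descent of isomorphisms (stage-map form), for `f₀` locally of finite presentation. -/
theorem exists_isIso_stageMap_of_lfp (i₀ : I) {X₀ Y₀ : Scheme.{u}} (f₀ : X₀ ⟶ Y₀)
    (g₀ : Y₀ ⟶ D.obj i₀) [CompactSpace (D.obj i₀)]
    [QuasiSeparatedSpace (D.obj i₀)] [CompactSpace X₀] [QuasiSeparatedSpace X₀] [CompactSpace Y₀]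
    [QuasiSeparatedSpace Y₀] [LocallyOfFinitePresentation f₀]
    [IsIso (stageMap (c.π.app i₀) f₀ g₀)] :
    ∃ l : Over i₀, IsIso (stageMap (D.map l.hom) f₀ g₀) :=
  (affineDescent_isIso D c hc).exists_stageMap hc
    (fun _ _ f (h : IsIso f) => (inferInstance : IsAffineHom f)) i₀ f₀ g₀
    inferInstance ‹IsIso (stageMap (c.π.app i₀) f₀ g₀)›

end core

end Groth.Agent.Lib.helper9
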