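/-
Helper library (helper9): descent of open immersions along a cofiltered limit `S = lim S_i` of
schemes with affine transition maps (base-change form), for `f₀ : X₀ ⟶ Y₀` locally of finite
presentation between arbitrary qcqs schemes over a qcqs stage.
-/
import Groth.Agent.Lib.Helper9.IsoDescend
import Groth.Agent.Lib.Helper9.OpenImmDescend

set_option autoImplicit false
set_option linter.style.haveILetI false

namespace Groth.Agent.Lib.helper9

open AlgebraicGeometry CategoryTheory Limits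

universe u

section core

variable {I : Type u} [SmallCategory I] [IsCofiltered I] (D : I ⥤ Scheme.{u}) (c : Cone D)
  (hc : IsLimit c) [hD : ∀ (i j : I) (f : i ⟶ j), IsAffineHom (D.map f)]
  (i₀ : I) {X₀ Y₀ : Scheme.{u}} (f₀ : X₀ ⟶ Y₀) (g₀ : Y₀ ⟶ D.obj i₀)

include hc in
/-- Core lemma for the descent of open immersions, for `f₀` locally of finite presentation between
arbitrary qcqs schemes: if the range of the open immersion `f` is the preimage of a quasi-compact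
open `U₀ ⊆ Y₀`, then some stage map is an open immersion. -/
theorem exists_isOpenImmersion_stageMap_of_opens_of_lfp
    [CompactSpace (D.obj i₀)] [QuasiSeparatedSpace (D.obj i₀)]
    [CompactSpace X₀] [QuasiSeparatedSpace X₀] [CompactSpace Y₀] [QuasiSeparatedSpace Y₀]
    [LocallyOfFinitePresentation f₀]
    {X Y : Scheme.{u}} (f : X ⟶ Y) (g : Y ⟶ c.pt) (qY : Y ⟶ Y₀) (qX : X ⟶ X₀)
    (hY : IsPullback qY g g₀ (c.π.app i₀)) (hX : IsPullback qX f f₀ qY) [IsOpenImmersion f]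
    (U₀ : Y₀.Opens) (hU₀ : IsCompact (U₀ : Set Y₀)) (hU : qY ⁻¹ᵁ U₀ = f.opensRange) :
    ∃ l : Over i₀, IsOpenImmersion (stageMap (D.map l.hom) f₀ g₀) := by
  have : QuasiCompact f₀ := inferInstance
  have hV₀ : IsCompact ((f₀ ⁻¹ᵁ U₀ : X₀.Opens) : Set X₀) :=
    QuasiCompact.isCompact_preimage (f := f₀) _ U₀.2 hU₀
  have e₀ : (f₀ ∣_ U₀) ≫ U₀.ι ≫ g₀ = (f₀ ⁻¹ᵁ U₀).ι ≫ f₀ ≫ g₀ := morphismRestrict_ι_assoc f₀ U₀ g₀
  have : CompactSpace ↥(f₀ ⁻¹ᵁ U₀).toScheme := isCompact_iff_compactSpace.mp hV₀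
  have : CompactSpace ↥U₀.toScheme := isCompact_iff_compactSpace.mp hU₀
  have : QuasiSeparatedSpace ↥(f₀ ⁻¹ᵁ U₀).toScheme :=
    quasiSeparatedSpace_of_quasiSeparated (f₀ ⁻¹ᵁ U₀).ι
  have : QuasiSeparatedSpace ↥U₀.toScheme := quasiSeparatedSpace_of_quasiSeparated U₀.ι
  have : LocallyOfFinitePresentation (f₀ ∣_ U₀) :=
    IsZariskiLocalAtTarget.restrict (P := @LocallyOfFinitePresentation) inferInstance U₀
  have hiso : IsIso (stageMap (c.π.app i₀) (f₀ ∣_ U₀) (U₀.ι ≫ g₀)) :=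
    isIso_stageMap_morphismRestrict D c i₀ f₀ g₀ f g qY qX hY hX U₀ hU
  obtain ⟨l, hl⟩ := exists_isIso_stageMap_of_lfp D c hc i₀ (f₀ ∣_ U₀) (U₀.ι ≫ g₀)
  -- all points of the limit of the `X_j` land in `f₀ ⁻¹ U₀`
  have HX : IsPullback qX (f ≫ g) (f₀ ≫ g₀) (c.π.app i₀) := hX.paste_vert hY
  have hqX : ∀ x : X, qX x ∈ f₀ ⁻¹ᵁ U₀ := by
    intro x
    show f₀ (qX x) ∈ U₀
    have e := Scheme.Hom.comp_apply qX f₀ x
    rw [hX.w, Scheme.Hom.comp_apply] at e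
    rw [← e]
    show f x ∈ qY ⁻¹ᵁ U₀
    rw [hU]
    exact ⟨x, rfl⟩
  have h : ∀ w : ↥(pullback (c.π.app i₀) (f₀ ≫ g₀)),
      (pullback.snd (c.π.app i₀) (f₀ ≫ g₀)) w ∉ ((f₀ ⁻¹ᵁ U₀ : X₀.Opens) : Set X₀)ᶜ := by
    intro w hw
    apply hw
    have e := Scheme.Hom.comp_apply HX.flip.isoPullback.inv qX w
    rw [HX.flip.isoPullback_inv_snd] at e
    show (pullback.snd (c.π.app i₀) (f₀ ≫ g₀)) w ∈ f₀ ⁻¹ᵁ U₀
    rw [e]
    exact hqX _
  obtain ⟨i, φ, hi⟩ := exists_forall_snd_notMem D c hc i₀ (f₀ ≫ g₀) _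
    (isProConstructible_of_isClosed (f₀ ⁻¹ᵁ U₀).2.isClosed_compl) h
  -- a common stage
  let m : Over i₀ := IsCofiltered.min l (Over.mk φ)
  let a : m ⟶ l := IsCofiltered.minToLeft _ _
  let b : m ⟶ Over.mk φ := IsCofiltered.minToRight _ _
  refine ⟨m, ?_⟩
  have hm : IsIso (stageMap (D.map m.hom) (f₀ ∣_ U₀) (U₀.ι ≫ g₀)) :=
    isIso_stageMap_of_hom D i₀ (f₀ ∣_ U₀) (U₀.ι ≫ g₀) a
  have hmV : ∀ x : ↥(pullback (D.map m.hom) (f₀ ≫ g₀)),
      (pullback.snd (D.map m.hom) (f₀ ≫ g₀)) x ∈ f₀ ⁻¹ᵁ U₀ := by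
    intro x
    have e := Scheme.Hom.comp_apply ((bcDiagram D i₀ (f₀ ≫ g₀)).map b)
      (pullback.snd (D.map (Over.mk φ).hom) (f₀ ≫ g₀)) x
    rw [bcDiagram_map_snd] at e
    have := hi (((bcDiagram D i₀ (f₀ ≫ g₀)).map b) x)
    rw [Set.notMem_compl_iff] at this
    exact e ▸ this
  -- the open immersion `S_m ×_{S₀} V₀ ⟶ S_m ×_{S₀} X₀` is an isomorphism
  have hA := isPullback_stageMap' (D.map m.hom) (f₀ ⁻¹ᵁ U₀).ι (f₀ ≫ g₀)
    ((f₀ ∣_ U₀) ≫ U₀.ι ≫ g₀) e₀.symm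
  have hAopen : IsOpenImmersion (stageMap' (D.map m.hom) (f₀ ⁻¹ᵁ U₀).ι (f₀ ≫ g₀)
      ((f₀ ∣_ U₀) ≫ U₀.ι ≫ g₀) e₀.symm) :=
    MorphismProperty.of_isPullback (P := @IsOpenImmersion) hA inferInstance
  have hAiso : IsIso (stageMap' (D.map m.hom) (f₀ ⁻¹ᵁ U₀).ι (f₀ ≫ g₀)
      ((f₀ ∣_ U₀) ≫ U₀.ι ≫ g₀) e₀.symm) := by
    rw [isIso_iff_isOpenImmersion_and_surjective]
    refine ⟨hAopen, ⟨fun x => ?_⟩⟩
    obtain ⟨z, -, hz⟩ := exists_preimage_of_isPullback hA ⟨_, hmV x⟩ x rfl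
    exact ⟨z, hz⟩
  have hBopen : IsOpenImmersion (stageMap (D.map m.hom) U₀.ι g₀) :=
    MorphismProperty.of_isPullback (P := @IsOpenImmersion)
      (isPullback_stageMap (D.map m.hom) U₀.ι g₀) inferInstance
  have hcomm : stageMap' (D.map m.hom) (f₀ ⁻¹ᵁ U₀).ι (f₀ ≫ g₀)
      ((f₀ ∣_ U₀) ≫ U₀.ι ≫ g₀) e₀.symm ≫ stageMap (D.map m.hom) f₀ g₀ =
      stageMap (D.map m.hom) (f₀ ∣_ U₀) (U₀.ι ≫ g₀) ≫ stageMap (D.map m.hom) U₀.ι g₀ := by
    apply pullback.hom_ext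
    · rw [Category.assoc, Category.assoc, stageMap_fst, stageMap_fst, stageMap'_fst, stageMap_fst]
    · rw [Category.assoc, Category.assoc, stageMap_snd, stageMap_snd, stageMap'_snd_assoc,
        stageMap_snd_assoc, morphismRestrict_ι]
  have hF : stageMap (D.map m.hom) f₀ g₀ =
      inv (stageMap' (D.map m.hom) (f₀ ⁻¹ᵁ U₀).ι (f₀ ≫ g₀) ((f₀ ∣_ U₀) ≫ U₀.ι ≫ g₀) e₀.symm) ≫
        stageMap (D.map m.hom) (f₀ ∣_ U₀) (U₀.ι ≫ g₀) ≫ stageMap (D.map m.hom) U₀.ι g₀ := by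
    rw [← hcomm, IsIso.inv_hom_id_assoc]
  rw [hF]
  infer_instance

include hc in
/-- The descent of open immersions, for `f₀` locally of finite presentation between arbitrary qcqs
schemes over a qcqs stage. -/
theorem exists_isOpenImmersion_stageMap_of_isPullback_of_lfp
    [CompactSpace (D.obj i₀)] [QuasiSeparatedSpace (D.obj i₀)]
    [CompactSpace X₀] [QuasiSeparatedSpace X₀] [CompactSpace Y₀] [QuasiSeparatedSpace Y₀]
    [LocallyOfFinitePresentation f₀]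
    {X Y : Scheme.{u}} (f : X ⟶ Y) (g : Y ⟶ c.pt) (qY : Y ⟶ Y₀) (qX : X ⟶ X₀)
    (hY : IsPullback qY g g₀ (c.π.app i₀)) (hX : IsPullback qX f f₀ qY) [IsOpenImmersion f] :
    ∃ l : Over i₀, IsOpenImmersion (stageMap (D.map l.hom) f₀ g₀) := by
  classical
  have hπaff : IsAffineHom (c.π.app i₀) := isAffineHom_π_app D c hc i₀
  have HX : IsPullback qX (f ≫ g) (f₀ ≫ g₀) (c.π.app i₀) := hX.paste_vert hY
  have hqXaff : IsAffineHom qX :=
    MorphismProperty.of_isPullback (P := @IsAffineHom) HX.flip inferInstance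
  have : CompactSpace X := QuasiCompact.compactSpace_of_compactSpace qX
  -- the range of `f`, transported to the standard limit `S ×_{S₀} Y₀`
  let e := hY.flip.isoPullback
  have he1 : e.hom ≫ pullback.fst (c.π.app i₀) g₀ = g := hY.flip.isoPullback_hom_fst
  have he2 : e.hom ≫ pullback.snd (c.π.app i₀) g₀ = qY := hY.flip.isoPullback_hom_snd
  have hrc : IsCompact ((f.opensRange : Y.Opens) : Set Y) := isCompact_range f.continuous
  have hU'c : IsCompact ((e.inv ⁻¹ᵁ f.opensRange : (pullback (c.π.app i₀) g₀).Opens) :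
      Set ↥(pullback (c.π.app i₀) g₀)) :=
    QuasiCompact.isCompact_preimage (f := e.inv) _ f.opensRange.2 hrc
  have : ∀ {j j' : Over i₀} (m : j ⟶ j'),
      IsAffineHom ((bcDiagram D i₀ g₀).map m) := fun m => inferInstance
  obtain ⟨j, Uj, hUjc, hUj⟩ := exists_preimage_eq (bcDiagram D i₀ g₀)
    (bcCone D c i₀ g₀)
    (isLimitBcCone D c i₀ g₀ hc) (e.inv ⁻¹ᵁ f.opensRange) hU'c
  -- rebase to the stage `j`
  have hqY'cond : (g ≫ c.π.app j.left) ≫ D.map j.hom = qY ≫ g₀ := by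
    rw [Category.assoc, c.w, hY.w]
  let qY' : Y ⟶ pullback (D.map j.hom) g₀ := pullback.lift _ _ hqY'cond
  have hqY'1 : qY' ≫ pullback.fst (D.map j.hom) g₀ = g ≫ c.π.app j.left :=
    pullback.lift_fst _ _ _
  have hqY'2 : qY' ≫ pullback.snd (D.map j.hom) g₀ = qY := pullback.lift_snd _ _ _
  have hqX'cond : ((f ≫ g) ≫ c.π.app j.left) ≫ D.map j.hom = qX ≫ f₀ ≫ g₀ := by
    rw [Category.assoc, c.w, HX.w]
  let qX' : X ⟶ pullback (D.map j.hom) (f₀ ≫ g₀) := pullback.lift _ _ hqX'cond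
  have hqX'1 : qX' ≫ pullback.fst (D.map j.hom) (f₀ ≫ g₀) = (f ≫ g) ≫ c.π.app j.left :=
    pullback.lift_fst _ _ _
  have hqX'2 : qX' ≫ pullback.snd (D.map j.hom) (f₀ ≫ g₀) = qX :=
    pullback.lift_snd _ _ _
  have hk1 : qX' ≫ stageMap (D.map j.hom) f₀ g₀ = f ≫ qY' := by
    apply pullback.hom_ext
    · rw [Category.assoc, Category.assoc, stageMap_fst, hqX'1, hqY'1,
        Category.assoc]
    · rw [Category.assoc, Category.assoc, stageMap_snd,
        reassoc_of% hqX'2, hqY'2, hX.w]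
  have hY' : IsPullback qY' g (pullback.fst (D.map j.hom) g₀) (c.π.app j.left) :=
    isPullback_rebase_base (c.w j.hom) hY qY' hqY'1 hqY'2
  have hX' : IsPullback qX' f (stageMap (D.map j.hom) f₀ g₀) qY' :=
    isPullback_rebase_top hX qY' hqY'2 qX' hk1 hqX'2
  -- the preimage of `Uj` is the range of `f`
  let πj : pullback (c.π.app i₀) g₀ ⟶ pullback (D.map j.hom) g₀ :=
    (bcCone D c i₀ g₀).π.app j
  have hπj1 : πj ≫ pullback.fst (D.map j.hom) g₀ =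
      pullback.fst (c.π.app i₀) g₀ ≫ c.π.app j.left := pullback.lift_fst _ _ _
  have hπj2 : πj ≫ pullback.snd (D.map j.hom) g₀ = pullback.snd (c.π.app i₀) g₀ :=
    bcCone_π_snd D c i₀ g₀ j
  have hqY'e : qY' = e.hom ≫ πj := by
    apply pullback.hom_ext
    · rw [hqY'1, Category.assoc, hπj1, reassoc_of% he1]
    · rw [hqY'2, Category.assoc, hπj2, he2]
  have hUj' : qY' ⁻¹ᵁ Uj = f.opensRange := by
    have h1 : qY' ⁻¹ᵁ Uj = e.hom ⁻¹ᵁ (πj ⁻¹ᵁ Uj) := by rw [hqY'e]; rfl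
    have h2 : πj ⁻¹ᵁ Uj = e.inv ⁻¹ᵁ f.opensRange := hUj
    rw [h1, h2, ← Scheme.Hom.comp_preimage, e.hom_inv_id]
    rfl
  -- instances at the stage `j`
  have : IsAffineHom (D.map j.hom) := inferInstance
  have : CompactSpace ↥(D.obj j.left) := QuasiCompact.compactSpace_of_compactSpace (D.map j.hom)
  have : QuasiSeparatedSpace ↥(D.obj j.left) :=
    quasiSeparatedSpace_of_quasiSeparated (D.map j.hom)
  have : CompactSpace ↥(pullback (D.map j.hom) g₀) :=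
    QuasiCompact.compactSpace_of_compactSpace (pullback.snd (D.map j.hom) g₀)
  have : QuasiSeparatedSpace ↥(pullback (D.map j.hom) g₀) :=
    quasiSeparatedSpace_of_quasiSeparated (pullback.snd (D.map j.hom) g₀)
  have : CompactSpace ↥(pullback (D.map j.hom) (f₀ ≫ g₀)) :=
    QuasiCompact.compactSpace_of_compactSpace (pullback.snd (D.map j.hom) (f₀ ≫ g₀))
  have : QuasiSeparatedSpace ↥(pullback (D.map j.hom) (f₀ ≫ g₀)) :=
    quasiSeparatedSpace_of_quasiSeparated (pullback.snd (D.map j.hom) (f₀ ≫ g₀))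
  have : LocallyOfFinitePresentation (stageMap (D.map j.hom) f₀ g₀) :=
    MorphismProperty.of_isPullback (P := @LocallyOfFinitePresentation)
      (isPullback_stageMap (D.map j.hom) f₀ g₀) inferInstance
  obtain ⟨l, hl⟩ := exists_isOpenImmersion_stageMap_of_opens_of_lfp D c hc j.left
    (stageMap (D.map j.hom) f₀ g₀) (pullback.fst (D.map j.hom) g₀)
    f g qY' qX' hY' hX' Uj hUjc hUj'
  refine ⟨Over.mk (l.hom ≫ j.hom), ?_⟩
  rw [stageMap_stageMap_iff @IsOpenImmersion] at hl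
  exact (stageMap_iff_of_eq @IsOpenImmersion (D.map_comp l.hom j.hom).symm f₀ g₀).mp hl

include hc in
/-- The descent of open immersions (stage-map form), for `f₀` locally of finite presentation. -/
theorem exists_isOpenImmersion_stageMap_of_lfp
    [CompactSpace (D.obj i₀)] [QuasiSeparatedSpace (D.obj i₀)]
    [CompactSpace X₀] [QuasiSeparatedSpace X₀] [CompactSpace Y₀] [QuasiSeparatedSpace Y₀]
    [LocallyOfFinitePresentation f₀] [IsOpenImmersion (stageMap (c.π.app i₀) f₀ g₀)] :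
    ∃ l : Over i₀, IsOpenImmersion (stageMap (D.map l.hom) f₀ g₀) :=
  exists_isOpenImmersion_stageMap_of_isPullback_of_lfp D c hc i₀ f₀ g₀
    (stageMap (c.π.app i₀) f₀ g₀) (pullback.fst (c.π.app i₀) g₀) (pullback.snd (c.π.app i₀) g₀)
    (pullback.snd (c.π.app i₀) (f₀ ≫ g₀)) (isPullback_stage_base (c.π.app i₀) g₀)
    (isPullback_stageMap (c.π.app i₀) f₀ g₀)

end core

end Groth.Agent.Lib.helper9
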