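/-
Helper library (helper9): finitely presented models of a morphism `f : X ⟶ lim S_i` at a stage
`S_i` of a cofiltered system with affine transition maps: rebasing, morphisms of models, and the
descent of quasi-compact opens, of morphisms and of open immersions to models.
-/
import Groth.Agent.Lib.Helper9.OpenImmDescendGen
import Groth.Agent.Lib.Helper9.ClosedImmDescend

set_option autoImplicit false
set_option linter.style.haveILetI false
set_option backward.isDefEq.respectTransparency false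

namespace Groth.Agent.Lib.helper9

open AlgebraicGeometry CategoryTheory Limits

universe u

section cat

variable {C : Type*} [Category C] [HasPullbacks C]

theorem stageMap'_iff (P : MorphismProperty C) {S' S₀ X₀ Y₀ : C} (φ : S' ⟶ S₀) (f₀ : X₀ ⟶ Y₀)
    (g₀ : Y₀ ⟶ S₀) (h₀ : X₀ ⟶ S₀) (e : f₀ ≫ g₀ = h₀) :
    P (stageMap' φ f₀ g₀ h₀ e) ↔ P (stageMap φ f₀ g₀) := by
  subst e
  rfl

end cat

section

variable {I : Type u} [SmallCategory I] (D : I ⥤ Scheme.{u}) (c : Cone D)

/-- A model of finite presentation of `f : X ⟶ c.pt` at the stage `i`. -/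
structure FPModel {X : Scheme.{u}} (f : X ⟶ c.pt) (i : I) where
  /-- the model -/
  X₀ : Scheme.{u}
  /-- its structure map -/
  f₀ : X₀ ⟶ D.obj i
  /-- the projection -/
  g : X ⟶ X₀
  lfp : LocallyOfFinitePresentation f₀
  qc : QuasiCompact f₀
  qs : QuasiSeparated f₀
  pb : IsPullback g f f₀ (c.π.app i)

namespace FPModel

attribute [instance] FPModel.lfp FPModel.qc FPModel.qs

variable {D c} {X Y : Scheme.{u}} {f : X ⟶ c.pt} {i : I}

/-- Base change of a model to a smaller stage. -/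
noncomputable def rebase (M : FPModel D c f i) {j : I} (a : j ⟶ i) : FPModel D c f j where
  X₀ := pullback (D.map a) M.f₀
  f₀ := pullback.fst (D.map a) M.f₀
  g := pullback.lift (f ≫ c.π.app j) M.g (by rw [Category.assoc, c.w, M.pb.w])
  lfp := MorphismProperty.pullback_fst (P := @LocallyOfFinitePresentation) _ _ M.lfp
  qc := MorphismProperty.pullback_fst (P := @QuasiCompact) _ _ M.qc
  qs := MorphismProperty.pullback_fst (P := @QuasiSeparated) _ _ M.qs
  pb := isPullback_rebase_base (c.w a) M.pb _ (pullback.lift_fst _ _ _) (pullback.lift_snd _ _ _)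

/-- Changing the morphism along an equality. -/
def copy (M : FPModel D c f i) {f' : X ⟶ c.pt} (h : f = f') : FPModel D c f' i where
  X₀ := M.X₀
  f₀ := M.f₀
  g := M.g
  lfp := M.lfp
  qc := M.qc
  qs := M.qs
  pb := h ▸ M.pb

/-- Transport along an isomorphism of the source. -/
noncomputable def ofIsIso {e : Y ⟶ X} [IsIso e] (M : FPModel D c (e ≫ f) i) : FPModel D c f i where
  X₀ := M.X₀
  f₀ := M.f₀
  g := inv e ≫ M.g
  lfp := M.lfp
  qc := M.qc
  qs := M.qs
  pb := IsPullback.of_iso M.pb (asIso e) (Iso.refl _) (Iso.refl _) (Iso.refl _)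
    (by simp) (by simp) (by simp) (by simp)

theorem compactSpace_X₀ (M : FPModel D c f i) [CompactSpace (D.obj i)] : CompactSpace M.X₀ :=
  QuasiCompact.compactSpace_of_compactSpace M.f₀

theorem quasiSeparatedSpace_X₀ (M : FPModel D c f i) [QuasiSeparatedSpace (D.obj i)] :
    QuasiSeparatedSpace M.X₀ :=
  quasiSeparatedSpace_of_quasiSeparated M.f₀

/-- A morphism of models over `h : X ⟶ Y`. -/
structure Hom {fX : X ⟶ c.pt} {fY : Y ⟶ c.pt} (M : FPModel D c fX i) (N : FPModel D c fY i)
    (h : X ⟶ Y) where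
  /-- the morphism of the models -/
  h₀ : M.X₀ ⟶ N.X₀
  w : h₀ ≫ N.f₀ = M.f₀
  wg : M.g ≫ h₀ = h ≫ N.g
  wf : h ≫ fY = fX

namespace Hom

variable {fX : X ⟶ c.pt} {fY : Y ⟶ c.pt} {M : FPModel D c fX i} {N : FPModel D c fY i}
  {h : X ⟶ Y}

theorem isPullback (φ : M.Hom N h) : IsPullback M.g h φ.h₀ N.g := by
  refine IsPullback.of_bot ?_ φ.wg N.pb
  rw [φ.wf, φ.w]
  exact M.pb

/-- Base change of a morphism of models to a smaller stage. -/
noncomputable def rebase (φ : M.Hom N h) {j : I} (a : j ⟶ i) :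
    (M.rebase a).Hom (N.rebase a) h where
  h₀ := stageMap' (D.map a) φ.h₀ N.f₀ M.f₀ φ.w
  w := stageMap'_fst _ _ _ _ _
  wg := by
    apply pullback.hom_ext
    · rw [Category.assoc, stageMap'_fst, Category.assoc]
      show pullback.lift _ _ _ ≫ pullback.fst _ _ = h ≫ pullback.lift _ _ _ ≫ pullback.fst _ _
      rw [pullback.lift_fst, pullback.lift_fst, ← Category.assoc, φ.wf]
    · rw [Category.assoc, stageMap'_snd, Category.assoc]
      show pullback.lift _ _ _ ≫ pullback.snd _ _ ≫ φ.h₀ =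
        h ≫ pullback.lift _ _ _ ≫ pullback.snd _ _
      rw [pullback.lift_snd_assoc, pullback.lift_snd, φ.wg]
  wf := φ.wf

theorem isOpenImmersion_rebase (φ : M.Hom N h) [IsOpenImmersion φ.h₀] {j : I} (a : j ⟶ i) :
    IsOpenImmersion (φ.rebase a).h₀ :=
  MorphismProperty.of_isPullback (P := @IsOpenImmersion)
    (isPullback_stageMap' (D.map a) φ.h₀ N.f₀ M.f₀ φ.w) inferInstance

end Hom

theorem rebase_g_eq (M : FPModel D c f i) (l : Over i) :
    (M.rebase l.hom).g = M.pb.flip.isoPullback.hom ≫ (bcCone D c i M.f₀).π.app l := by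
  apply pullback.hom_ext
  · show pullback.lift _ _ _ ≫ pullback.fst _ _ = _
    rw [pullback.lift_fst]
    simp [bcCone, pullback.map]
  · show pullback.lift _ _ _ ≫ pullback.snd _ _ = _
    rw [pullback.lift_snd]
    simp [bcCone, pullback.map]

end FPModel

end

section descent

variable {I : Type u} [SmallCategory I] [IsCofiltered I] {D : I ⥤ Scheme.{u}} {c : Cone D}
  (hc : IsLimit c) [hD : ∀ (i j : I) (f : i ⟶ j), IsAffineHom (D.map f)]
  [∀ i, CompactSpace (D.obj i)] [∀ i, QuasiSeparatedSpace (D.obj i)]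
  {X Y : Scheme.{u}} {i : I}

namespace FPModel

omit [∀ i, CompactSpace (D.obj i)] in
include hc in
/-- A quasi-compact open subscheme of `X` has a model which is an open subscheme of a rebase of a
given model of `X`. -/
theorem exists_restrict {f : X ⟶ c.pt} (M : FPModel D c f i) {V : Scheme.{u}} (j : V ⟶ X)
    [IsOpenImmersion j] [CompactSpace V] :
    ∃ (k : I) (a : k ⟶ i) (N : FPModel D c (j ≫ f) k) (φ : N.Hom (M.rebase a) j),
      IsOpenImmersion φ.h₀ := by
  have hD' : ∀ {i j : I} (f : i ⟶ j), IsAffineHom (D.map f) := fun f => hD _ _ f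
  let e := M.pb.flip.isoPullback
  let cX : Cone (bcDiagram D i M.f₀) := (bcCone D c i M.f₀).extend e.hom
  have hcX : IsLimit cX :=
    IsLimit.extendIso (s := bcCone D c i M.f₀) e.hom (isLimitBcCone D c i M.f₀ hc)
  have hO : IsCompact (j.opensRange : Set X) := by
    rw [Scheme.Hom.coe_opensRange]
    exact isCompact_range j.continuous
  obtain ⟨l, A, hA, hAO⟩ := exists_preimage_eq (bcDiagram D i M.f₀) cX hcX j.opensRange hO
  have hg : cX.π.app l = (M.rebase l.hom).g := (rebase_g_eq M l).symm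
  rw [hg] at hAO
  let M' := M.rebase l.hom
  have hle : j.opensRange ≤ M'.g ⁻¹ᵁ A := hAO.ge
  let gV : V ⟶ A.toScheme := j.isoOpensRange.hom ≫ M'.g.resLE A j.opensRange hle
  have hgV : gV ≫ A.ι = j ≫ M'.g := by
    simp [gV]
  have : CompactSpace ↥A.toScheme := isCompact_iff_compactSpace.mp hA
  have sq : IsPullback gV j A.ι M'.g :=
    IsOpenImmersion.isPullback gV j A.ι M'.g hgV.symm (by rw [Scheme.Opens.opensRange_ι]; exact hAO)
  refine ⟨l.left, l.hom, ⟨A.toScheme, A.ι ≫ M'.f₀, gV, inferInstance, inferInstance,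
    inferInstance, sq.paste_vert M'.pb⟩, ⟨A.ι, rfl, hgV, rfl⟩, ?_⟩
  show IsOpenImmersion A.ι
  infer_instance

include hc in
/-- A morphism over the limit descends to a morphism of models at some stage. -/
theorem exists_hom {fX : X ⟶ c.pt} {fY : Y ⟶ c.pt} (M : FPModel D c fX i) (N : FPModel D c fY i)
    (h : X ⟶ Y) (hf : h ≫ fY = fX) :
    ∃ (k : I) (a : k ⟶ i), Nonempty ((M.rebase a).Hom (N.rebase a) h) := by
  have hD' : ∀ {i j : I} (f : i ⟶ j), IsAffineHom (D.map f) := fun f => hD _ _ f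
  let e := M.pb.flip.isoPullback
  have he1 : e.hom ≫ pullback.fst (c.π.app i) M.f₀ = fX := M.pb.flip.isoPullback_hom_fst
  have he2 : e.hom ≫ pullback.snd (c.π.app i) M.f₀ = M.g := M.pb.flip.isoPullback_hom_snd
  let DX := bcDiagram D i M.f₀
  let cX := bcCone D c i M.f₀
  have hcX : IsLimit cX := isLimitBcCone D c i M.f₀ hc
  have hDX : ∀ {j j' : Over i} (m : j ⟶ j'), IsAffineHom (DX.map m) := fun m =>
    (inferInstance : IsAffineHom ((bcDiagram D i M.f₀).map m))
  have : ∀ l : Over i, CompactSpace ↥(DX.obj l) := fun l =>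
    QuasiCompact.compactSpace_of_compactSpace (pullback.fst (D.map l.hom) M.f₀)
  have : ∀ l : Over i, QuasiSeparatedSpace ↥(DX.obj l) := fun l =>
    quasiSeparatedSpace_of_quasiSeparated (pullback.fst (D.map l.hom) M.f₀)
  let a : cX.pt ⟶ N.X₀ := e.inv ≫ h ≫ N.g
  have ha' : a ≫ N.f₀ = pullback.snd (c.π.app i) M.f₀ ≫ M.f₀ := by
    show (e.inv ≫ h ≫ N.g) ≫ N.f₀ = _
    have he1' : e.inv ≫ fX = pullback.fst (c.π.app i) M.f₀ := by
      rw [Iso.inv_comp_eq]
      exact he1.symm
    rw [Category.assoc, Category.assoc, N.pb.w, reassoc_of% hf, reassoc_of% he1',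
      pullback.condition]
  have ha : cX.π ≫ bcT D i M.f₀ = (Functor.const _).map (a ≫ N.f₀) := by
    ext l : 2
    simp only [NatTrans.comp_app, bcT_app, Functor.const_map_app]
    rw [ha']
    exact (reassoc_of% (bcCone_π_snd D c i M.f₀ l)) M.f₀
  obtain ⟨l, b, hb1, hb2⟩ := Scheme.exists_π_app_comp_eq_of_locallyOfFinitePresentation
    DX (bcT D i M.f₀) N.f₀ cX hcX a ha
  rw [bcT_app] at hb2
  have hcond : pullback.fst (D.map l.hom) M.f₀ ≫ D.map l.hom = b ≫ N.f₀ := by
    rw [hb2, pullback.condition]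
  refine ⟨l.left, l.hom, ⟨⟨pullback.lift (pullback.fst (D.map l.hom) M.f₀) b hcond,
    pullback.lift_fst _ _ _, ?_, hf⟩⟩⟩
  apply pullback.hom_ext
  · rw [Category.assoc, pullback.lift_fst, Category.assoc]
    show pullback.lift _ _ _ ≫ pullback.fst _ _ = h ≫ pullback.lift _ _ _ ≫ pullback.fst _ _
    rw [pullback.lift_fst, pullback.lift_fst, ← Category.assoc, hf]
  · rw [Category.assoc, pullback.lift_snd, Category.assoc]
    show _ = h ≫ pullback.lift _ _ _ ≫ pullback.snd _ _
    rw [pullback.lift_snd, rebase_g_eq M l, Category.assoc, hb1]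
    show e.hom ≫ e.inv ≫ h ≫ N.g = _
    rw [e.hom_inv_id_assoc]

include hc in
/-- A morphism of models over an open immersion becomes an open immersion at some stage. -/
theorem Hom.exists_isOpenImmersion {fX : X ⟶ c.pt} {fY : Y ⟶ c.pt} {M : FPModel D c fX i}
    {N : FPModel D c fY i} {h : X ⟶ Y} (φ : M.Hom N h) [IsOpenImmersion h] :
    ∃ (k : I) (a : k ⟶ i), IsOpenImmersion (φ.rebase a).h₀ := by
  have : CompactSpace M.X₀ := M.compactSpace_X₀
  have : QuasiSeparatedSpace M.X₀ := M.quasiSeparatedSpace_X₀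
  have : CompactSpace N.X₀ := N.compactSpace_X₀
  have : QuasiSeparatedSpace N.X₀ := N.quasiSeparatedSpace_X₀
  have : LocallyOfFinitePresentation (φ.h₀ ≫ N.f₀) := by
    rw [φ.w]
    infer_instance
  have : LocallyOfFinitePresentation φ.h₀ :=
    Groth.Agent.Lib.helper7.locallyOfFinitePresentation_of_comp φ.h₀ N.f₀
  obtain ⟨l, hl⟩ := exists_isOpenImmersion_stageMap_of_isPullback_of_lfp D c hc i φ.h₀ N.f₀
    h fY N.g M.g N.pb φ.isPullback
  exact ⟨l.left, l.hom, (stageMap'_iff @IsOpenImmersion _ _ _ _ φ.w).mpr hl⟩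

end FPModel

end descent

end Groth.Agent.Lib.helper9
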