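/-
Helper library (helper9): gluing two models of finite presentation along a model of the
intersection (pushout of open immersions), and the resulting model of the union.
-/
import Groth.Agent.Lib.Helper9.FPModel
import Mathlib.AlgebraicGeometry.Limits
import Mathlib.Topology.Spectral.Prespectral

set_option autoImplicit false
set_option linter.style.haveILetI false
set_option backward.isDefEq.respectTransparency false

namespace Groth.Agent.Lib.helper9

open AlgebraicGeometry CategoryTheory Limits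

universe u

section top

open TopologicalSpace Set

theorem quasiSeparatedSpace_of_union {α : Type*} [TopologicalSpace α] [PrespectralSpace α]
    {S T : Set α} (hS : IsOpen S) (hT : IsOpen T) (hST : S ∪ T = Set.univ)
    (hSq : IsQuasiSeparated S) (hTq : IsQuasiSeparated T) (hc : IsCompact (S ∩ T)) :
    QuasiSeparatedSpace α := by
  let ι := {s : Set α // IsOpen s ∧ IsCompact s ∧ (s ⊆ S ∨ s ⊆ T)}
  let b : ι → Set α := Subtype.val
  have hb : IsTopologicalBasis (Set.range b) := by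
    refine isTopologicalBasis_of_isOpen_of_nhds ?_ ?_
    · rintro _ ⟨s, rfl⟩
      exact s.2.1
    · intro a u hau hu
      have key : ∀ R : Set α, IsOpen R → a ∈ R → (R ⊆ S ∨ R ⊆ T) →
          ∃ v ∈ Set.range b, a ∈ v ∧ v ⊆ u := by
        intro R hR haR hRS
        obtain ⟨v, ⟨hv1, hv2⟩, hav, hvu⟩ :=
          (PrespectralSpace.isTopologicalBasis (X := α)).exists_subset_of_mem_open
            (show a ∈ u ∩ R from ⟨hau, haR⟩) (hu.inter hR)
        refine ⟨v, ⟨⟨v, hv1, hv2, ?_⟩, rfl⟩, hav, hvu.trans inter_subset_left⟩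
        rcases hRS with h | h
        · exact Or.inl ((hvu.trans inter_subset_right).trans h)
        · exact Or.inr ((hvu.trans inter_subset_right).trans h)
      have haST : a ∈ S ∪ T := hST ▸ Set.mem_univ a
      rcases haST with h | h
      · exact key S hS h (Or.inl subset_rfl)
      · exact key T hT h (Or.inr subset_rfl)
  refine QuasiSeparatedSpace.of_isTopologicalBasis hb ?_
  have hSTo : IsOpen (S ∩ T) := hS.inter hT
  have mixed : ∀ s t : Set α, IsOpen s → IsCompact s → s ⊆ S → IsOpen t → IsCompact t → t ⊆ T →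
      IsCompact (s ∩ t) := by
    intro s t hs1 hs2 hsS ht1 ht2 htT
    have h1 : IsCompact (s ∩ (S ∩ T)) := hSq s (S ∩ T) hsS hs1 hs2 inter_subset_left hSTo hc
    have h2 : IsCompact ((s ∩ (S ∩ T)) ∩ t) :=
      hTq _ t (fun x hx => hx.2.2) (hs1.inter hSTo) h1 htT ht1 ht2
    have e : s ∩ t = (s ∩ (S ∩ T)) ∩ t := by
      ext x
      constructor
      · rintro ⟨hxs, hxt⟩
        exact ⟨⟨hxs, hsS hxs, htT hxt⟩, hxt⟩
      · rintro ⟨⟨hxs, -⟩, hxt⟩
        exact ⟨hxs, hxt⟩
    rw [e]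
    exact h2
  rintro ⟨s, hs1, hs2, hs3⟩ ⟨t, ht1, ht2, ht3⟩
  show IsCompact (s ∩ t)
  rcases hs3 with hs3 | hs3 <;> rcases ht3 with ht3 | ht3
  · exact hSq s t hs3 hs1 hs2 ht3 ht1 ht2
  · exact mixed s t hs1 hs2 hs3 ht1 ht2 ht3
  · rw [inter_comm]
    exact mixed t s ht1 ht2 ht3 hs1 hs2 hs3
  · exact hTq s t hs3 hs1 hs2 ht3 ht1 ht2

end top

section pushout

variable {V W U : Scheme.{u}} (α : V ⟶ W) (β : V ⟶ U) [IsOpenImmersion α] [IsOpenImmersion β]

theorem pushout_inl_eq_inr_iff (w : W) (u : U) :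
    pushout.inl α β w = pushout.inr α β u ↔ ∃ v : V, α v = w ∧ β v = u := by
  refine (Scheme.IsLocallyDirected.ι_eq_ι_iff (F := span α β) (i := WalkingSpan.left)
    (j := WalkingSpan.right) (xi := w) (xj := u)).trans ?_
  constructor
  · rintro ⟨k, fi, fj, x, h1, h2⟩
    rcases k with _ | k
    · obtain rfl : fi = WalkingSpan.Hom.fst := Subsingleton.elim _ _
      obtain rfl : fj = WalkingSpan.Hom.snd := Subsingleton.elim _ _
      exact ⟨x, by simpa using h1, by simpa using h2⟩
    · rcases k with _ | _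
      · cases fj
      · cases fi
  · rintro ⟨v, rfl, rfl⟩
    exact ⟨WalkingSpan.zero, WalkingSpan.Hom.fst, WalkingSpan.Hom.snd, v, by simp, by simp⟩

theorem pushout_jointly_surjective (x : ↥(pushout α β)) :
    x ∈ Set.range (pushout.inl α β) ∨ x ∈ Set.range (pushout.inr α β) := by
  obtain ⟨k, xk, rfl⟩ := Scheme.IsLocallyDirected.ι_jointly_surjective (span α β) x
  rcases k with _ | k
  · left
    refine ⟨α xk, ?_⟩
    have e : α ≫ pushout.inl α β = colimit.ι (span α β) WalkingSpan.zero :=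
      colimit.w (span α β) WalkingSpan.Hom.fst
    rw [← e]
    rfl
  · rcases k with _ | _
    · exact Or.inl ⟨xk, rfl⟩
    · exact Or.inr ⟨xk, rfl⟩

end pushout

section pair

/-- The two-element family of schemes. -/
def pairObj (W U : Scheme.{u}) : WalkingPair → Scheme.{u}
  | .left => W
  | .right => U

/-- The two-element family of morphisms. -/
def pairMap {X W U : Scheme.{u}} (jW : W ⟶ X) (jU : U ⟶ X) : ∀ k, pairObj W U k ⟶ X
  | .left => jW
  | .right => jU

/-- The cover by two jointly surjective open immersions. -/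
noncomputable def pairCover {X W U : Scheme.{u}} (jW : W ⟶ X) (jU : U ⟶ X) [IsOpenImmersion jW]
    [IsOpenImmersion jU] (hcov : ∀ x : X, x ∈ Set.range jW ∨ x ∈ Set.range jU) :
    X.OpenCover :=
  Scheme.Cover.mkOfCovers WalkingPair (pairObj W U) (pairMap jW jU)
    (fun x => by
      rcases hcov x with ⟨w, hw⟩ | ⟨u, hu⟩
      · exact ⟨.left, w, hw⟩
      · exact ⟨.right, u, hu⟩)
    (fun k => by
      cases k
      · exact (inferInstance : IsOpenImmersion jW)
      · exact (inferInstance : IsOpenImmersion jU))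

theorem isPullback_of_glue_aux {X W U X₀ W₀ U₀ : Scheme.{u}} (g : X ⟶ X₀) (jW : W ⟶ X)
    (jU : U ⟶ X) [IsOpenImmersion jW] [IsOpenImmersion jU]
    (hcov : ∀ x : X, x ∈ Set.range jW ∨ x ∈ Set.range jU) (inl : W₀ ⟶ X₀) (inr : U₀ ⟶ X₀)
    [IsOpenImmersion inl] (gW : W ⟶ W₀) (gU : U ⟶ U₀) (hW : jW ≫ g = gW ≫ inl)
    (hU : jU ≫ g = gU ≫ inr)
    (H : ∀ (w : W₀) (u : U), inl w = inr (gU u) → jU u ∈ Set.range jW) :
    IsPullback gW jW inl g := by
  refine IsOpenImmersion.isPullback gW jW inl g hW ?_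
  ext x
  show g x ∈ Set.range inl ↔ x ∈ Set.range jW
  constructor
  · rintro ⟨w, hw⟩
    rcases hcov x with hx | ⟨u, rfl⟩
    · exact hx
    · apply H w u
      rw [hw, ← Scheme.Hom.comp_apply, hU]
      rfl
  · rintro ⟨w, rfl⟩
    refine ⟨gW w, ?_⟩
    rw [← Scheme.Hom.comp_apply, ← hW]
    rfl

end pair


section glue

variable {I : Type u} [SmallCategory I] {D : I ⥤ Scheme.{u}} {c : Cone D}
  {X W U V : Scheme.{u}} {f : X ⟶ c.pt} {jW : W ⟶ X} {jU : U ⟶ X} [IsOpenImmersion jW]
  [IsOpenImmersion jU] {p₁ : V ⟶ W} {p₂ : V ⟶ U} {fV : V ⟶ c.pt} {i : I}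

/-- Gluing two models along a model of the intersection. -/
theorem FPModel.glue [CompactSpace (D.obj i)] [QuasiSeparatedSpace (D.obj i)]
    (hcov : ∀ x : X, x ∈ Set.range jW ∨ x ∈ Set.range jU) (hV : IsPullback p₁ p₂ jW jU)
    (MW : FPModel D c (jW ≫ f) i) (MU : FPModel D c (jU ≫ f) i) (MV : FPModel D c fV i)
    (α : MV.Hom MW p₁) (β : MV.Hom MU p₂) [IsOpenImmersion α.h₀] [IsOpenImmersion β.h₀] :
    Nonempty (FPModel D c f i) := by
  let X₀ : Scheme.{u} := pushout α.h₀ β.h₀
  let inl : MW.X₀ ⟶ X₀ := pushout.inl _ _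
  let inr : MU.X₀ ⟶ X₀ := pushout.inr _ _
  have hcond : α.h₀ ≫ inl = β.h₀ ≫ inr := pushout.condition
  let f₀ : X₀ ⟶ D.obj i := pushout.desc MW.f₀ MU.f₀ (by rw [α.w, β.w])
  have hf₀l : inl ≫ f₀ = MW.f₀ := pushout.inl_desc _ _ _
  have hf₀r : inr ≫ f₀ = MU.f₀ := pushout.inr_desc _ _ _
  have P1 : ∀ (w : MW.X₀) (u : MU.X₀), inl w = inr u → ∃ v : MV.X₀, α.h₀ v = w ∧ β.h₀ v = u :=
    fun w u h => (pushout_inl_eq_inr_iff α.h₀ β.h₀ w u).mp h
  have hcov₀ : ∀ x : X₀, x ∈ Set.range inl ∨ x ∈ Set.range inr :=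
    pushout_jointly_surjective α.h₀ β.h₀
  -- the glued morphism
  have key : p₁ ≫ MW.g ≫ inl = p₂ ≫ MU.g ≫ inr := by
    rw [← reassoc_of% α.wg, ← reassoc_of% β.wg, hcond]
  have hmonoW : pullback.fst jW jW = pullback.snd jW jW :=
    (cancel_mono jW).mp pullback.condition
  have hmonoU : pullback.fst jU jU = pullback.snd jU jU :=
    (cancel_mono jU).mp pullback.condition
  let 𝒰X : X.OpenCover := pairCover jW jU hcov
  let gl : X ⟶ X₀ := 𝒰X.glueMorphisms (pairMap (MW.g ≫ inl) (MU.g ≫ inr)) (by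
    intro x y
    cases x <;> cases y
    · show pullback.fst jW jW ≫ MW.g ≫ inl = pullback.snd jW jW ≫ MW.g ≫ inl
      rw [hmonoW]
    · show pullback.fst jW jU ≫ MW.g ≫ inl = pullback.snd jW jU ≫ MU.g ≫ inr
      rw [← cancel_epi hV.isoPullback.hom, hV.isoPullback_hom_fst_assoc,
        hV.isoPullback_hom_snd_assoc]
      exact key
    · show pullback.fst jU jW ≫ MU.g ≫ inr = pullback.snd jU jW ≫ MW.g ≫ inl
      rw [← cancel_epi hV.flip.isoPullback.hom, hV.flip.isoPullback_hom_fst_assoc,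
        hV.flip.isoPullback_hom_snd_assoc]
      exact key.symm
    · show pullback.fst jU jU ≫ MU.g ≫ inr = pullback.snd jU jU ≫ MU.g ≫ inr
      rw [hmonoU])
  have hgW : jW ≫ gl = MW.g ≫ inl := 𝒰X.ι_glueMorphisms _ _ WalkingPair.left
  have hgU : jU ≫ gl = MU.g ≫ inr := 𝒰X.ι_glueMorphisms _ _ WalkingPair.right
  have hVw : ∀ v : V, jW (p₁ v) = jU (p₂ v) := by
    intro v
    rw [← Scheme.Hom.comp_apply, ← Scheme.Hom.comp_apply, hV.w]
  have sqW : IsPullback MW.g jW inl gl := by
    refine isPullback_of_glue_aux gl jW jU hcov inl inr MW.g MU.g hgW hgU ?_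
    intro w u h
    obtain ⟨v₀, -, hv2⟩ := P1 w (MU.g u) h
    obtain ⟨v, -, hv⟩ := exists_preimage_of_isPullback β.isPullback v₀ u hv2
    exact ⟨p₁ v, by rw [hVw, hv]⟩
  have sqU : IsPullback MU.g jU inr gl := by
    refine isPullback_of_glue_aux gl jU jW (fun x => (hcov x).symm) inr inl MU.g MW.g hgU hgW ?_
    intro u w h
    obtain ⟨v₀, hv1, -⟩ := P1 (MW.g w) u h.symm
    obtain ⟨v, -, hv⟩ := exists_preimage_of_isPullback α.isPullback v₀ w hv1
    exact ⟨p₂ v, by rw [← hVw, hv]⟩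
  -- properties of the glued model
  let 𝒰₀ : X₀.OpenCover := pairCover inl inr hcov₀
  have hlfp : LocallyOfFinitePresentation f₀ := by
    refine (IsZariskiLocalAtSource.iff_of_openCover (P := @LocallyOfFinitePresentation) 𝒰₀).mpr ?_
    intro k
    cases k
    · show LocallyOfFinitePresentation (inl ≫ f₀)
      rw [hf₀l]
      infer_instance
    · show LocallyOfFinitePresentation (inr ≫ f₀)
      rw [hf₀r]
      infer_instance
  have hWc : CompactSpace MW.X₀ := MW.compactSpace_X₀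
  have hUc : CompactSpace MU.X₀ := MU.compactSpace_X₀
  have hVc : CompactSpace MV.X₀ := MV.compactSpace_X₀
  have hWq : QuasiSeparatedSpace MW.X₀ := MW.quasiSeparatedSpace_X₀
  have hUq : QuasiSeparatedSpace MU.X₀ := MU.quasiSeparatedSpace_X₀
  have huniv : Set.range inl ∪ Set.range inr = Set.univ :=
    Set.eq_univ_of_forall fun x => hcov₀ x
  have hcomp : CompactSpace X₀ := by
    refine ⟨?_⟩
    rw [← huniv]
    exact (isCompact_range inl.continuous).union (isCompact_range inr.continuous)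
  have hinter : Set.range inl ∩ Set.range inr = Set.range (α.h₀ ≫ inl) := by
    ext x
    constructor
    · rintro ⟨⟨w, rfl⟩, ⟨u, hu⟩⟩
      obtain ⟨v, rfl, -⟩ := P1 w u hu.symm
      exact ⟨v, rfl⟩
    · rintro ⟨v, rfl⟩
      refine ⟨⟨α.h₀ v, rfl⟩, ⟨β.h₀ v, ?_⟩⟩
      rw [← Scheme.Hom.comp_apply, ← hcond]
  have hqsp : QuasiSeparatedSpace X₀ := by
    refine quasiSeparatedSpace_of_union (S := Set.range inl) (T := Set.range inr)
      inl.isOpenEmbedding.isOpen_range inr.isOpenEmbedding.isOpen_range huniv ?_ ?_ ?_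
    · have := (isQuasiSeparated_univ (α := MW.X₀)).image_of_isEmbedding
        inl.isOpenEmbedding.isEmbedding
      rwa [Set.image_univ] at this
    · have := (isQuasiSeparated_univ (α := MU.X₀)).image_of_isEmbedding
        inr.isOpenEmbedding.isEmbedding
      rwa [Set.image_univ] at this
    · rw [hinter]
      exact isCompact_range (α.h₀ ≫ inl).continuous
  have hqc : QuasiCompact f₀ := inferInstance
  have hqs : QuasiSeparated f₀ := (quasiSeparated_iff_quasiSeparatedSpace f₀).mpr hqsp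
  -- the pullback square
  have hpb : IsPullback gl f f₀ (c.π.app i) := by
    refine Scheme.isPullback_of_openCover gl f f₀ (c.π.app i) 𝒰₀ ?_
    intro k
    cases k
    · show IsPullback (pullback.snd gl inl) (pullback.fst gl inl ≫ f) (inl ≫ f₀) (c.π.app i)
      refine IsPullback.of_iso MW.pb sqW.flip.isoPullback (Iso.refl _) (Iso.refl _) (Iso.refl _)
        ?_ ?_ ?_ ?_
      · simp
      · simp
      · simp [hf₀l]
      · simp
    · show IsPullback (pullback.snd gl inr) (pullback.fst gl inr ≫ f) (inr ≫ f₀) (c.π.app i)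
      refine IsPullback.of_iso MU.pb sqU.flip.isoPullback (Iso.refl _) (Iso.refl _) (Iso.refl _)
        ?_ ?_ ?_ ?_
      · simp
      · simp
      · simp [hf₀r]
      · simp
  exact ⟨⟨X₀, f₀, gl, hlfp, hqc, hqs, hpb⟩⟩

end glue

end Groth.Agent.Lib.helper9
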