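/-
Helper library (helper9): finitely presented models of étale / smooth morphisms of affine schemes.

An étale (smooth) morphism `f : X ⟶ Y` of affine schemes is the base change of an étale (smooth)
morphism `e : E ⟶ T` of affine schemes with `T` of finite presentation over `Spec ℤ`
(i.e. over the terminal scheme).
-/
import Mathlib.RingTheory.Smooth.NoetherianDescent
import Mathlib.AlgebraicGeometry.Morphisms.Etale
import Mathlib.AlgebraicGeometry.Morphisms.Smooth
import Mathlib.AlgebraicGeometry.Morphisms.FinitePresentation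
import Mathlib.AlgebraicGeometry.Pullbacks
import Mathlib.AlgebraicGeometry.Limits

set_option autoImplicit false

namespace Groth.Agent.Lib.helper9.ModelAlg

open AlgebraicGeometry CategoryTheory Limits TensorProduct

universe u

/-- `P` has finitely presented models: every morphism of affine schemes with `P` is the base change
of a morphism with `P` between affine schemes of finite presentation over the terminal scheme. -/
def HasFPModel (P : MorphismProperty Scheme.{u}) : Prop :=
  ∀ {X Y : Scheme.{u}} (f : X ⟶ Y) [IsAffine X] [IsAffine Y], P f →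
    ∃ (T E : Scheme.{u}) (e : E ⟶ T) (t : Y ⟶ T) (ψ : X ⟶ E), IsAffine T ∧ IsAffine E ∧ P e ∧
      LocallyOfFinitePresentation e ∧ LocallyOfFinitePresentation (terminal.from T) ∧
      IsPullback ψ f e t

/-- The spectrum of a finitely generated `ℤ`-algebra is locally of finite presentation over the
terminal scheme. -/
theorem locallyOfFinitePresentation_terminal_from_Spec (R : Type u) [CommRing R]
    (h : Algebra.FiniteType ℤ R) :
    LocallyOfFinitePresentation (terminal.from (Spec (CommRingCat.of R))) := by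
  have hfp : Algebra.FinitePresentation ℤ R :=
    (Algebra.FinitePresentation.of_finiteType).mp h
  let φ : CommRingCat.of (ULift.{u} ℤ) ⟶ CommRingCat.of R :=
    CommRingCat.ofHom (Int.castRingHom R |>.comp ULift.ringEquiv.toRingHom)
  have hφ : φ.hom.FinitePresentation := by
    have h1 : (Int.castRingHom R).FinitePresentation := by
      have : algebraMap ℤ R = Int.castRingHom R := rfl
      rw [← this]
      exact (RingHom.finitePresentation_algebraMap).mpr hfp
    exact h1.comp (RingHom.FinitePresentation.of_bijective ULift.ringEquiv.bijective)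
  have h1 : LocallyOfFinitePresentation (Spec.map φ) :=
    (HasRingHomProperty.Spec_iff (P := @LocallyOfFinitePresentation)).mpr hφ
  have h2 : terminal.from (Spec (CommRingCat.of R)) =
      Spec.map φ ≫ terminal.from (Spec (CommRingCat.of (ULift.{u} ℤ))) :=
    terminal.hom_ext _ _
  have h3 : IsIso (terminal.from (Spec (CommRingCat.of (ULift.{u} ℤ)))) :=
    isIso_of_isTerminal specULiftZIsTerminal terminalIsTerminal _
  rw [h2]
  infer_instance

/-- Generic construction of models from an algebraic descent statement. -/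
theorem hasFPModel_of_alg (P : MorphismProperty Scheme.{u}) (Q : ∀ {R S : Type u} [CommRing R]
    [CommRing S], (R →+* S) → Prop) [HasRingHomProperty P Q]
    (halg : ∀ (B C : Type u) [CommRing B] [CommRing C] [Algebra B C], Q (algebraMap B C) →
      ∃ (B₀ : Subalgebra ℤ B) (C₀ : Type u) (_ : CommRing C₀) (_ : Algebra B₀ C₀),
        B₀.FG ∧ Q (algebraMap B₀ C₀) ∧ Algebra.FinitePresentation B₀ C₀ ∧
          Nonempty (C ≃ₐ[B] B ⊗[B₀] C₀)) :
    HasFPModel P := by
  intro X Y f _ _ hf
  have hQ : Q f.appTop.hom := (HasRingHomProperty.iff_of_isAffine (P := P)).mp hf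
  let _ : Algebra Γ(Y, ⊤) Γ(X, ⊤) := f.appTop.hom.toAlgebra
  have hQ' : Q (algebraMap Γ(Y, ⊤) Γ(X, ⊤)) := hQ
  obtain ⟨B₀, C₀, _, _, hfg, hQ₀, hfp, ⟨e⟩⟩ := halg Γ(Y, ⊤) Γ(X, ⊤) hQ'
  -- ring maps
  let ι : CommRingCat.of B₀ ⟶ Γ(Y, ⊤) := CommRingCat.ofHom (algebraMap B₀ Γ(Y, ⊤))
  let ε : CommRingCat.of B₀ ⟶ CommRingCat.of C₀ := CommRingCat.ofHom (algebraMap B₀ C₀)
  let κ : CommRingCat.of C₀ ⟶ Γ(X, ⊤) := CommRingCat.ofHom
    ((e.symm : (Γ(Y, ⊤) ⊗[B₀] C₀) →+* Γ(X, ⊤)).comp
      (Algebra.TensorProduct.includeRight : C₀ →ₐ[B₀] Γ(Y, ⊤) ⊗[B₀] C₀).toRingHom)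
  have hpo : IsPushout ι ε f.appTop κ := by
    refine (CommRingCat.isPushout_tensorProduct B₀ Γ(Y, ⊤) C₀).of_iso (Iso.refl _) (Iso.refl _)
      (Iso.refl _) (e.symm.toRingEquiv.toCommRingCatIso) ?_ ?_ ?_ ?_
    · simp [ι]
    · simp [ε]
    · ext x
      simp only [Iso.refl_hom, Category.id_comp, CommRingCat.hom_comp, CommRingCat.hom_ofHom,
        RingEquiv.toCommRingCatIso_hom, RingHom.coe_comp, Function.comp_apply]
      show e.symm (x ⊗ₜ[B₀] (1 : C₀)) = f.appTop.hom x
      have : (x ⊗ₜ[B₀] (1 : C₀) : Γ(Y, ⊤) ⊗[B₀] C₀) = algebraMap Γ(Y, ⊤) _ x := rfl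
      rw [this, e.symm.commutes]
      rfl
    · ext x
      rfl
  have hpb : IsPullback (Spec.map f.appTop) (Spec.map κ) (Spec.map ι) (Spec.map ε) :=
    isPullback_SpecMap_of_isPushout _ _ _ _ hpo
  refine ⟨Spec (CommRingCat.of B₀), Spec (CommRingCat.of C₀), Spec.map ε,
    Y.isoSpec.hom ≫ Spec.map ι, X.isoSpec.hom ≫ Spec.map κ, inferInstance, inferInstance,
    (HasRingHomProperty.Spec_iff (P := P)).mpr hQ₀,
    (HasRingHomProperty.Spec_iff (P := @LocallyOfFinitePresentation)).mpr
      ((RingHom.finitePresentation_algebraMap).mpr hfp),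
    locallyOfFinitePresentation_terminal_from_Spec _ ((Subalgebra.fg_iff_finiteType B₀).mp hfg), ?_⟩
  refine IsPullback.of_iso hpb.flip X.isoSpec.symm (Iso.refl _) Y.isoSpec.symm (Iso.refl _)
    ?_ ?_ ?_ ?_
  · simp
  · simp only [Iso.symm_hom]
    exact Scheme.isoSpec_inv_naturality f
  · simp
  · simp

theorem hasFPModel_etale : HasFPModel @Etale.{u} := by
  refine hasFPModel_of_alg @Etale RingHom.Etale ?_
  intro B C _ _ _ h
  have : Algebra.Etale B C := RingHom.etale_algebraMap.mp h
  obtain ⟨B₀, C₀, _, _, h1, h2, h3⟩ := Algebra.Etale.exists_subalgebra_fg ℤ B C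
  exact ⟨B₀, C₀, inferInstance, inferInstance, h1, RingHom.etale_algebraMap.mpr h2,
    inferInstance, h3⟩

theorem hasFPModel_smooth : HasFPModel @Smooth.{u} := by
  refine hasFPModel_of_alg @Smooth RingHom.Smooth ?_
  intro B C _ _ _ h
  have : Algebra.Smooth B C := RingHom.smooth_algebraMap.mp h
  obtain ⟨B₀, C₀, _, _, h1, h2, h3⟩ := Algebra.Smooth.exists_subalgebra_fg ℤ B C
  exact ⟨B₀, C₀, inferInstance, inferInstance, h1, RingHom.smooth_algebraMap.mpr h2,
    inferInstance, h3⟩

end Groth.Agent.Lib.helper9.ModelAlg
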