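/-
Helper library (helper9): removing the hypotheses on the base stage in descent statements
(base-change form) along a cofiltered limit `S = lim S_i` with affine transition maps.

* A descent statement valid over qcqs base stages is valid over arbitrary base stages (replace the
  system `S_j` by the system `S_j ×_{S_{i₀}} Y₀`, whose base stage is `Y₀`).
* For properties that are Zariski-local at the target, it then holds for `Y₀` quasi-compact and
  `f₀` quasi-compact and quasi-separated.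
-/
import Groth.Agent.Lib.Helper9.GenericDescend

set_option autoImplicit false
set_option linter.style.haveILetI false

namespace Groth.Agent.Lib.helper9

open AlgebraicGeometry CategoryTheory Limits

universe u

section cat

variable {C : Type*} [Category C]

/-- Post-composing the cospan of a pullback square with the inverse of an isomorphism. -/
theorem isPullback_comp_inv {P X Y Z Z' : C} {fst : P ⟶ X} {snd : P ⟶ Y} {f : X ⟶ Z} {g : Y ⟶ Z}
    (h : IsPullback fst snd f g) (e : Z' ⟶ Z) [IsIso e] (g' : Y ⟶ Z') (hg : g' ≫ e = g) :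
    IsPullback fst snd (f ≫ inv e) g' := by
  refine IsPullback.of_iso h (Iso.refl _) (Iso.refl _) (Iso.refl _) (asIso e).symm ?_ ?_ ?_ ?_
  · simp
  · simp
  · simp
  · simp [← hg]

end cat

section

variable (P Q : MorphismProperty Scheme.{u})

/-- Descent for `P` (under the hypothesis `Q` on `f₀`) over qcqs base stages, for qcqs `X₀`, `Y₀`,
for all systems. -/
def QcqsBaseDescent : Prop :=
  ∀ {I : Type u} [SmallCategory I] [IsCofiltered I] (D : I ⥤ Scheme.{u}) (c : Cone D)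
    (_ : IsLimit c) [∀ (i j : I) (f : i ⟶ j), IsAffineHom (D.map f)] (i₀ : I)
    [CompactSpace (D.obj i₀)] [QuasiSeparatedSpace (D.obj i₀)] {X₀ Y₀ : Scheme.{u}}
    (f₀ : X₀ ⟶ Y₀) (g₀ : Y₀ ⟶ D.obj i₀) [CompactSpace X₀] [QuasiSeparatedSpace X₀]
    [CompactSpace Y₀] [QuasiSeparatedSpace Y₀], Q f₀ → P (stageMap (c.π.app i₀) f₀ g₀) →
      ∃ l : Over i₀, P (stageMap (D.map l.hom) f₀ g₀)

variable {P Q}

variable {I : Type u} [SmallCategory I] [IsCofiltered I] (D : I ⥤ Scheme.{u}) (c : Cone D)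
  (hc : IsLimit c) [hD : ∀ (i j : I) (f : i ⟶ j), IsAffineHom (D.map f)]

include hc in
/-- No hypothesis on the base stage is needed. -/
theorem QcqsBaseDescent.exists_stageMap_of_qcqs [P.RespectsIso] [Q.RespectsIso]
    (hB : QcqsBaseDescent P Q) (i₀ : I) {X₀ Y₀ : Scheme.{u}} (f₀ : X₀ ⟶ Y₀) (g₀ : Y₀ ⟶ D.obj i₀)
    [CompactSpace X₀] [QuasiSeparatedSpace X₀] [CompactSpace Y₀] [QuasiSeparatedSpace Y₀]
    (hQ : Q f₀) (hP : P (stageMap (c.π.app i₀) f₀ g₀)) :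
    ∃ l : Over i₀, P (stageMap (D.map l.hom) f₀ g₀) := by
  let D' : Over i₀ ⥤ Scheme.{u} := bcDiagram D i₀ g₀
  let c' : Cone D' := bcCone D c i₀ g₀
  have hc' : IsLimit c' := isLimitBcCone D c i₀ g₀ hc
  have hD' : ∀ (j j' : Over i₀) (m : j ⟶ j'), IsAffineHom (D'.map m) := fun _ _ m =>
    (inferInstance : IsAffineHom ((bcDiagram D i₀ g₀).map m))
  let j₀ : Over i₀ := Over.mk (𝟙 i₀)
  have hid : IsIso (D.map j₀.hom) := by
    show IsIso (D.map (𝟙 i₀))
    rw [D.map_id]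
    infer_instance
  let e : D'.obj j₀ ⟶ Y₀ := pullback.snd (D.map j₀.hom) g₀
  have he : IsIso e := (inferInstance : IsIso (pullback.snd (D.map j₀.hom) g₀))
  have : CompactSpace ↥(D'.obj j₀) := QuasiCompact.compactSpace_of_compactSpace e
  have : QuasiSeparatedSpace ↥(D'.obj j₀) := quasiSeparatedSpace_of_quasiSeparated e
  have hQ' : Q (f₀ ≫ inv e) := (Q.cancel_right_of_respectsIso f₀ (inv e)).mpr hQ
  have hP' : P (stageMap (c'.π.app j₀) (f₀ ≫ inv e) (𝟙 (D'.obj j₀))) := by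
    refine (stageMap_iff_of_isPullback P (f := stageMap (c.π.app i₀) f₀ g₀)
      (g := 𝟙 c'.pt) (qY := c'.π.app j₀) (qX := pullback.snd (c.π.app i₀) (f₀ ≫ g₀))
      IsPullback.of_id_snd ?_).mpr hP
    exact isPullback_comp_inv (isPullback_stageMap (c.π.app i₀) f₀ g₀) e (c'.π.app j₀)
      (bcCone_π_snd D c i₀ g₀ j₀)
  obtain ⟨l', hl'⟩ := hB D' c' hc' j₀ (f₀ ≫ inv e) (𝟙 (D'.obj j₀)) hQ' hP'
  refine ⟨l'.left, ?_⟩
  refine (stageMap_iff_of_isPullback P (f := stageMap (D.map l'.left.hom) f₀ g₀)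
    (g := 𝟙 (D'.obj l'.left)) (qY := D'.map l'.hom)
    (qX := pullback.snd (D.map l'.left.hom) (f₀ ≫ g₀)) IsPullback.of_id_snd ?_).mp hl'
  exact isPullback_comp_inv (isPullback_stageMap (D.map l'.left.hom) f₀ g₀) e (D'.map l'.hom)
    (bcDiagram_map_snd D i₀ g₀ l'.hom)

include hc in
/-- For properties local at the target: `Y₀` quasi-compact and `f₀` quasi-compact and
quasi-separated suffice. -/
theorem QcqsBaseDescent.exists_stageMap [IsZariskiLocalAtTarget P]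
    [P.IsStableUnderBaseChange] [IsZariskiLocalAtTarget Q] (hB : QcqsBaseDescent P Q)
    (i₀ : I) {X₀ Y₀ : Scheme.{u}} (f₀ : X₀ ⟶ Y₀) (g₀ : Y₀ ⟶ D.obj i₀)
    [CompactSpace Y₀] [QuasiCompact f₀] [QuasiSeparated f₀] (hQ : Q f₀)
    (hP : P (stageMap (c.π.app i₀) f₀ g₀)) :
    ∃ l : Over i₀, P (stageMap (D.map l.hom) f₀ g₀) := by
  classical
  obtain ⟨s, hs, hcov⟩ := (isCompact_and_isOpen_iff_finite_and_eq_biUnion_affineOpens
    (U := (Set.univ : Set Y₀))).mp ⟨isCompact_univ, isOpen_univ⟩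
  have e₀ : ∀ V : Y₀.Opens, (f₀ ⁻¹ᵁ V).ι ≫ f₀ ≫ g₀ = (f₀ ∣_ V) ≫ V.ι ≫ g₀ := fun V =>
    (morphismRestrict_ι_assoc f₀ V g₀).symm
  have hstage : ∀ V : s, ∃ l : Over i₀,
      P (stageMap (D.map l.hom) (f₀ ∣_ V.1.1) (V.1.1.ι ≫ g₀)) := by
    intro V
    have : IsAffine V.1.1.toScheme := V.1.2
    have : QuasiCompact (f₀ ∣_ V.1.1) :=
      IsZariskiLocalAtTarget.restrict (P := @QuasiCompact) inferInstance V.1.1
    have : QuasiSeparated (f₀ ∣_ V.1.1) :=
      IsZariskiLocalAtTarget.restrict (P := @QuasiSeparated) inferInstance V.1.1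
    have : CompactSpace ↥(f₀ ⁻¹ᵁ V.1.1).toScheme :=
      QuasiCompact.compactSpace_of_compactSpace (f₀ ∣_ V.1.1)
    have : QuasiSeparatedSpace ↥(f₀ ⁻¹ᵁ V.1.1).toScheme :=
      quasiSeparatedSpace_of_quasiSeparated (f₀ ∣_ V.1.1)
    have h1 : Q (f₀ ∣_ V.1.1) := IsZariskiLocalAtTarget.restrict (P := Q) hQ V.1.1
    have h2 : P (stageMap (c.π.app i₀) (f₀ ∣_ V.1.1) (V.1.1.ι ≫ g₀)) :=
      MorphismProperty.of_isPullback (P := P)
        (isPullback_stageMap_of_isPullback (c.π.app i₀) g₀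
          (isPullback_morphismRestrict f₀ V.1.1).flip (e₀ V.1.1)) hP
    exact hB.exists_stageMap_of_qcqs D c hc i₀ (f₀ ∣_ V.1.1) (V.1.1.ι ≫ g₀) h1 h2
  choose lV hlV using hstage
  have : Fintype s := hs.fintype
  obtain ⟨l, hl⟩ := IsCofiltered.inf_objs_exists (Finset.univ.image lV)
  have ml : ∀ V : s, l ⟶ lV V := fun V =>
    (hl (Finset.mem_image_of_mem _ (Finset.mem_univ V))).some
  refine ⟨l, ?_⟩
  have hB' : ∀ V : s, IsOpenImmersion (stageMap (D.map l.hom) V.1.1.ι g₀) := fun V =>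
    MorphismProperty.of_isPullback (P := @IsOpenImmersion)
      (isPullback_stageMap (D.map l.hom) V.1.1.ι g₀) inferInstance
  refine of_isPullback_family (P := P) (stageMap (D.map l.hom) f₀ g₀)
    (fun V : s => stageMap' (D.map l.hom) (f₀ ⁻¹ᵁ V.1.1).ι (f₀ ≫ g₀)
      ((f₀ ∣_ V.1.1) ≫ V.1.1.ι ≫ g₀) (e₀ V.1.1))
    (fun V : s => stageMap (D.map l.hom) V.1.1.ι g₀)
    (fun V : s => stageMap (D.map l.hom) (f₀ ∣_ V.1.1) (V.1.1.ι ≫ g₀))
    (fun V => isPullback_stageMap_of_isPullback (D.map l.hom) g₀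
      (isPullback_morphismRestrict f₀ V.1.1).flip (e₀ V.1.1)) ?_
    (fun V => stageMap_of_hom D i₀ (f₀ ∣_ V.1.1) (V.1.1.ι ≫ g₀) P (ml V)
      (hlV V))
  intro y
  have hy : (pullback.snd (D.map l.hom) g₀) y ∈ ⋃ i ∈ s, (i : Set Y₀) :=
    hcov ▸ Set.mem_univ _
  obtain ⟨V, hVs, hyV⟩ := Set.mem_iUnion₂.mp hy
  obtain ⟨z, -, hz⟩ := exists_preimage_of_isPullback
    (isPullback_stageMap (D.map l.hom) V.1.ι g₀) ⟨_, hyV⟩ y rfl
  exact ⟨⟨V, hVs⟩, z, hz⟩

omit [IsCofiltered I] hD in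
/-- A property stable under base change that holds at some stage holds on the limit. -/
theorem of_exists_stage (P : MorphismProperty Scheme.{u}) [P.IsStableUnderBaseChange] (i₀ : I)
    {X₀ Y₀ : Scheme.{u}} (f₀ : X₀ ⟶ Y₀) (g₀ : Y₀ ⟶ D.obj i₀)
    {X Y : Scheme.{u}} (f : X ⟶ Y) (g : Y ⟶ c.pt) (qY : Y ⟶ Y₀) (qX : X ⟶ X₀)
    (hY : IsPullback qY g g₀ (c.π.app i₀)) (hX : IsPullback qX f f₀ qY)
    (h : ∃ (j : I) (φ : j ⟶ i₀) (Xj Yj : Scheme.{u}) (fj : Xj ⟶ Yj) (gj : Yj ⟶ D.obj j)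
      (pY : Yj ⟶ Y₀) (pX : Xj ⟶ X₀), IsPullback pY gj g₀ (D.map φ) ∧ IsPullback pX fj f₀ pY ∧
        P fj) : P f := by
  obtain ⟨j, φ, Xj, Yj, fj, gj, pY, pX, hYj, hXj, hfj⟩ := h
  have hvcond : qY ≫ g₀ = (g ≫ c.π.app j) ≫ D.map φ := by
    rw [hY.w, Category.assoc, c.w]
  let v : Y ⟶ Yj := hYj.lift qY (g ≫ c.π.app j) hvcond
  have hv : v ≫ pY = qY := hYj.lift_fst _ _ _
  have hucond : qX ≫ f₀ = (f ≫ v) ≫ pY := by
    rw [Category.assoc, hv, hX.w]
  let w : X ⟶ Xj := hXj.lift qX (f ≫ v) hucond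
  have hw1 : w ≫ pX = qX := hXj.lift_fst _ _ _
  have hw2 : w ≫ fj = f ≫ v := hXj.lift_snd _ _ _
  have sq : IsPullback w f fj v := by
    refine IsPullback.of_right ?_ hw2 hXj
    rw [hw1, hv]
    exact hX
  exact MorphismProperty.of_isPullback (P := P) sq hfj

end

end Groth.Agent.Lib.helper9
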