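/-
Helper library (helper9): descent along cofiltered limits (affine transition maps) of properties
of morphisms that have finitely presented models (étale, smooth): affine core.
-/
import Groth.Agent.Lib.Helper9.ModelAlg
import Groth.Agent.Lib.Helper9.LimIsoDescend
import Groth.Agent.Lib.Helper9.QcqsReduce

set_option autoImplicit false
set_option linter.style.haveILetI false
set_option backward.isDefEq.respectTransparency false

namespace Groth.Agent.Lib.helper9

open AlgebraicGeometry CategoryTheory Limits Topology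
open Groth.Agent.Lib.helper9.ModelAlg

universe u

section

variable {I : Type u} [SmallCategory I] (D : I ⥤ Scheme.{u})

/-- The natural transformation to the constant diagram at the terminal scheme. -/
noncomputable def toTerminalNat : D ⟶ (Functor.const I).obj (⊤_ Scheme.{u}) where
  app _ := terminal.from _
  naturality _ _ _ := terminal.hom_ext _ _

end

section core

variable {I : Type u} [SmallCategory I] [IsCofiltered I] (D : I ⥤ Scheme.{u}) (c : Cone D)
  (hc : IsLimit c) [hD : ∀ (i j : I) (f : i ⟶ j), IsAffineHom (D.map f)]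

include hc in
/-- Descent of a morphism to a scheme locally of finite presentation over the terminal scheme. -/
theorem exists_π_app_comp_eq_terminal [∀ i, CompactSpace (D.obj i)]
    [∀ i, QuasiSeparatedSpace (D.obj i)] {T : Scheme.{u}}
    [LocallyOfFinitePresentation (terminal.from T)] (t : c.pt ⟶ T) :
    ∃ (i : I) (g : D.obj i ⟶ T), c.π.app i ≫ g = t := by
  have hD' : ∀ {i j : I} (f : i ⟶ j), IsAffineHom (D.map f) := fun f => hD _ _ f
  obtain ⟨i, g, h1, -⟩ := Scheme.exists_π_app_comp_eq_of_locallyOfFinitePresentation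
    D (toTerminalNat D) (terminal.from T) c hc t (by ext; exact terminal.hom_ext _ _)
  exact ⟨i, g, h1⟩

include hc in
theorem exists_map_comp_eq_terminal [∀ i, CompactSpace (D.obj i)] {T : Scheme.{u}}
    [LocallyOfFiniteType (terminal.from T)] {i : I} (a b : D.obj i ⟶ T)
    (hab : c.π.app i ≫ a = c.π.app i ≫ b) :
    ∃ (k : I) (m : k ⟶ i), D.map m ≫ a = D.map m ≫ b := by
  have hD' : ∀ {i j : I} (f : i ⟶ j), IsAffineHom (D.map f) := fun f => hD _ _ f
  exact Scheme.exists_hom_comp_eq_comp_of_locallyOfFiniteType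
    D (toTerminalNat D) (terminal.from T) c hc a b (terminal.hom_ext _ _) (terminal.hom_ext _ _) hab

end core

section cat

variable {C : Type*} [Category C] [HasPullbacks C]

theorem isPullback_snd_fst_of_eq {S' S X E : C} (π : S' ⟶ S) (a : X ⟶ E) (e : E ⟶ S) (φ : X ⟶ S)
    (h : a ≫ e = φ) :
    IsPullback (pullback.snd π (a ≫ e)) (pullback.fst π (a ≫ e)) φ π := by
  subst h
  exact (IsPullback.of_hasPullback _ _).flip

end cat

section core2

variable {I : Type u} [SmallCategory I] [IsCofiltered I] (D : I ⥤ Scheme.{u}) (c : Cone D)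
  (hc : IsLimit c) [hD : ∀ (i j : I) (f : i ⟶ j), IsAffineHom (D.map f)]

include hc in
/-- Affine core, with the base scheme equal to the stage. -/
theorem exists_stage_of_hasFPModel (P : MorphismProperty Scheme.{u}) [P.RespectsIso]
    [P.IsStableUnderBaseChange] (hP : HasFPModel P) [hA : ∀ i, IsAffine (D.obj i)] (i₀ : I)
    {X₀ : Scheme.{u}} [IsAffine X₀] (f₀ : X₀ ⟶ D.obj i₀) [LocallyOfFinitePresentation f₀]
    (h : P (pullback.fst (c.π.app i₀) f₀)) :
    ∃ l : Over i₀, P (pullback.fst (D.map l.hom) f₀) := by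
  have hD' : ∀ {i j : I} (f : i ⟶ j), IsAffineHom (D.map f) := fun f => hD _ _ f
  have hπ : ∀ i, IsAffineHom (c.π.app i) := fun i => isAffineHom_π_app D c hc i
  have hcaff : IsAffine c.pt := isAffine_of_isAffineHom (c.π.app i₀)
  have hcaff' : ∀ i : I, IsAffine (((Functor.const I).obj c.pt).obj i) := fun _ => hcaff
  have hXaff : IsAffine (pullback (c.π.app i₀) f₀) := inferInstance
  obtain ⟨T, E, e, t, ψ, hT, hE, hPe, hlfpe, hlfpT, hpb⟩ := hP (pullback.fst (c.π.app i₀) f₀) h
  have hlfpE : LocallyOfFinitePresentation (terminal.from E) := by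
    have : terminal.from E = e ≫ terminal.from T := terminal.hom_ext _ _
    rw [this]; infer_instance
  -- the base-changed system
  let DX := bcDiagram D i₀ f₀
  let cX := bcCone D c i₀ f₀
  have hcX : IsLimit cX := isLimitBcCone D c i₀ f₀ hc
  have hDX : ∀ (j j' : Over i₀) (m : j ⟶ j'), IsAffineHom (DX.map m) := fun _ _ m =>
    (inferInstance : IsAffineHom ((bcDiagram D i₀ f₀).map m))
  have hDXaff : ∀ j : Over i₀, IsAffine (DX.obj j) := fun j =>
    (inferInstance : IsAffine (pullback (D.map j.hom) f₀))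
  have hcXfst : ∀ j : Over i₀, cX.π.app j ≫ pullback.fst (D.map j.hom) f₀ =
      pullback.fst (c.π.app i₀) f₀ ≫ c.π.app j.left := fun j => pullback.lift_fst _ _ _
  have hDXfst : ∀ {j j' : Over i₀} (m : j ⟶ j'), DX.map m ≫ pullback.fst (D.map j'.hom) f₀ =
      pullback.fst (D.map j.hom) f₀ ≫ D.map m.left := fun m => pullback.lift_fst _ _ _
  -- Stage A: descend `t`
  obtain ⟨l₁, t₁, ht₁⟩ := exists_π_app_comp_eq_terminal D c hc t
  -- Stage B: descend `ψ`
  obtain ⟨m₁, ψ₁, hψ₁⟩ := exists_π_app_comp_eq_terminal DX cX hcX ψ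
  -- Stage C: common index
  let m : Over i₀ := Over.mk (IsCofiltered.minToLeft m₁.left l₁ ≫ m₁.hom)
  let μ : m ⟶ m₁ := Over.homMk (IsCofiltered.minToLeft m₁.left l₁) rfl
  let tm : D.obj m.left ⟶ T := D.map (IsCofiltered.minToRight m₁.left l₁) ≫ t₁
  have htm : c.π.app m.left ≫ tm = t := by
    show c.π.app _ ≫ D.map (IsCofiltered.minToRight m₁.left l₁) ≫ t₁ = t
    rw [← Category.assoc, c.w, ht₁]
  let ψm : DX.obj m ⟶ E := DX.map μ ≫ ψ₁
  have hψm : cX.π.app m ≫ ψm = ψ := by
    show cX.π.app m ≫ DX.map μ ≫ ψ₁ = ψ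
    rw [← Category.assoc, cX.w, hψ₁]
  have hab : cX.π.app m ≫ (ψm ≫ e) =
      cX.π.app m ≫ (pullback.fst (D.map m.hom) f₀ ≫ tm) := by
    rw [← Category.assoc, hψm, hpb.w, ← Category.assoc (cX.π.app m), hcXfst, Category.assoc, htm]
  obtain ⟨n, ν, hν⟩ := exists_map_comp_eq_terminal DX cX hcX (ψm ≫ e)
    (pullback.fst (D.map m.hom) f₀ ≫ tm) hab
  let tn : D.obj n.left ⟶ T := D.map ν.left ≫ tm
  have htn : c.π.app n.left ≫ tn = t := by
    show c.π.app n.left ≫ D.map ν.left ≫ tm = t
    rw [← Category.assoc, c.w, htm]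
  let ψn : DX.obj n ⟶ E := DX.map ν ≫ ψm
  have hψn : cX.π.app n ≫ ψn = ψ := by
    show cX.π.app n ≫ DX.map ν ≫ ψm = ψ
    rw [← Category.assoc, cX.w, hψm]
  have hsq : ψn ≫ e = pullback.fst (D.map n.hom) f₀ ≫ tn := by
    show (DX.map ν ≫ ψm) ≫ e = pullback.fst (D.map n.hom) f₀ ≫ D.map ν.left ≫ tm
    rw [Category.assoc, hν, ← Category.assoc, hDXfst, Category.assoc]
  -- Stage D: the comparison map at the stage `n`
  let en : pullback tn e ⟶ D.obj n.left := pullback.fst tn e
  let an : DX.obj n ⟶ pullback tn e :=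
    pullback.lift (pullback.fst (D.map n.hom) f₀) ψn hsq.symm
  have han : an ≫ en = pullback.fst (D.map n.hom) f₀ := pullback.lift_fst _ _ _
  have han2 : an ≫ pullback.snd tn e = ψn := pullback.lift_snd _ _ _
  have hPen : P en := P.pullback_fst _ _ hPe
  have hlfpen : LocallyOfFinitePresentation en :=
    MorphismProperty.pullback_fst (P := @LocallyOfFinitePresentation) _ _ hlfpe
  have hlfpan : LocallyOfFinitePresentation (an ≫ en) := by
    rw [han]
    exact MorphismProperty.pullback_fst (P := @LocallyOfFinitePresentation) _ _ inferInstance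
  have hiso : IsIso (stageMap (c.π.app n.left) an en) := by
    let fW := pullback.fst (c.π.app n.left) (an ≫ en)
    let sW := pullback.snd (c.π.app n.left) (an ≫ en)
    have h1 : IsPullback sW fW (pullback.fst (D.map n.hom) f₀) (c.π.app n.left) :=
      isPullback_snd_fst_of_eq _ _ _ _ han
    have h2 : IsPullback (pullback.snd (D.map n.hom) f₀) (pullback.fst (D.map n.hom) f₀) f₀
        (D.map n.hom) := (IsPullback.of_hasPullback _ _).flip
    have h12 := h1.paste_horiz h2
    rw [c.w] at h12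
    let ρ : pullback (c.π.app n.left) (an ≫ en) ≅ pullback (c.π.app i₀) f₀ :=
      h12.flip.isoPullback
    have hρ1 : ρ.hom ≫ pullback.fst (c.π.app i₀) f₀ = fW := h12.flip.isoPullback_hom_fst
    have hρ2 : ρ.hom ≫ pullback.snd (c.π.app i₀) f₀ = sW ≫ pullback.snd (D.map n.hom) f₀ :=
      h12.flip.isoPullback_hom_snd
    have hρ3 : ρ.hom ≫ cX.π.app n = sW := by
      apply pullback.hom_ext
      · rw [Category.assoc, hcXfst, reassoc_of% hρ1]
        exact h1.w.symm
      · rw [Category.assoc, bcCone_π_snd, hρ2]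
    have hW : IsPullback fW (sW ≫ ψn) t e := by
      refine IsPullback.of_iso hpb.flip ρ.symm (Iso.refl _) (Iso.refl _) (Iso.refl _) ?_ ?_ ?_ ?_
      · simp only [Iso.refl_hom, Category.comp_id, Iso.symm_hom]
        rw [← hρ1, Iso.inv_hom_id_assoc]
      · simp only [Iso.refl_hom, Category.comp_id, Iso.symm_hom]
        rw [← hρ3, Category.assoc, hψn, Iso.inv_hom_id_assoc]
      · simp
      · simp
    have hs : IsPullback ((sW ≫ an) ≫ pullback.snd tn e) fW e (c.π.app n.left ≫ tn) := by
      rw [Category.assoc, han2, htn]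
      exact hW.flip
    have hfin : IsPullback (sW ≫ an) fW en (c.π.app n.left) :=
      IsPullback.of_right hs (by rw [Category.assoc]; exact pullback.condition.symm)
        (IsPullback.of_hasPullback tn e).flip
    have : stageMap (c.π.app n.left) an en = hfin.flip.isoPullback.hom := by
      apply pullback.hom_ext
      · rw [stageMap_fst, hfin.flip.isoPullback_hom_fst]
      · rw [stageMap_snd, hfin.flip.isoPullback_hom_snd]
    rw [this]
    infer_instance
  have : IsAffine (pullback tn e) := inferInstance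
  obtain ⟨n', hn'⟩ := exists_isIso_stageMap D c hc n.left an en
  -- conclusion
  have hP1 : P (pullback.fst (D.map n'.hom) (an ≫ en)) := by
    rw [← stageMap_fst (D.map n'.hom) an en]
    exact (P.cancel_left_of_respectsIso _ _).mpr (P.pullback_fst _ _ hPen)
  refine ⟨Over.mk (n'.hom ≫ n.hom), ?_⟩
  have h1 : IsPullback (pullback.snd (D.map n'.hom) (an ≫ en))
      (pullback.fst (D.map n'.hom) (an ≫ en)) (pullback.fst (D.map n.hom) f₀) (D.map n'.hom) :=
    isPullback_snd_fst_of_eq _ _ _ _ han
  have h2 : IsPullback (pullback.snd (D.map n.hom) f₀) (pullback.fst (D.map n.hom) f₀) f₀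
      (D.map n.hom) := (IsPullback.of_hasPullback _ _).flip
  have h12 := h1.paste_horiz h2
  rw [← D.map_comp] at h12
  have : pullback.fst (D.map (n'.hom ≫ n.hom)) f₀ =
      h12.flip.isoPullback.inv ≫ pullback.fst (D.map n'.hom) (an ≫ en) := by
    rw [h12.flip.isoPullback_inv_fst]
  show P (pullback.fst (D.map (n'.hom ≫ n.hom)) f₀)
  rw [this]
  exact (P.cancel_left_of_respectsIso _ _).mpr hP1

end core2

section cat2

variable {C : Type*} [Category C] [HasPullbacks C]

theorem stageMap_id_iff (P : MorphismProperty C) [P.RespectsIso] {S' S₀ X₀ : C} (π : S' ⟶ S₀)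
    (f' : X₀ ⟶ S₀) : P (stageMap π f' (𝟙 S₀)) ↔ P (pullback.fst π f') :=
  stageMap_iff_of_isPullback P (g := 𝟙 S') (qY := π) (qX := pullback.snd π f')
    IsPullback.of_id_snd (IsPullback.of_hasPullback π f').flip

end cat2

section affine

variable {I : Type u} [SmallCategory I] [IsCofiltered I] (D : I ⥤ Scheme.{u}) (c : Cone D)
  (hc : IsLimit c) [hD : ∀ (i j : I) (f : i ⟶ j), IsAffineHom (D.map f)]

include hc in
/-- Affine descent for properties with finitely presented models. -/
theorem affineDescent_of_hasFPModel (P : MorphismProperty Scheme.{u}) [P.RespectsIso]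
    [P.IsStableUnderBaseChange] (hP : HasFPModel P) :
    AffineDescent D c P @LocallyOfFinitePresentation := by
  intro i₀ X₀ Y₀ f₀ g₀ _ _ hlfp hPc
  have : LocallyOfFinitePresentation f₀ := hlfp
  let D' : Over i₀ ⥤ Scheme.{u} := bcDiagram D i₀ g₀
  let c' : Cone D' := bcCone D c i₀ g₀
  have hc' : IsLimit c' := isLimitBcCone D c i₀ g₀ hc
  have hD' : ∀ (j j' : Over i₀) (m : j ⟶ j'), IsAffineHom (D'.map m) := fun _ _ m =>
    (inferInstance : IsAffineHom ((bcDiagram D i₀ g₀).map m))
  have hA' : ∀ j : Over i₀, IsAffine (D'.obj j) := fun j => by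
    have : IsAffineHom (D.map j.hom) := hD _ _ _
    have : IsAffineHom (pullback.snd (D.map j.hom) g₀) :=
      MorphismProperty.pullback_snd (P := @IsAffineHom) _ _ inferInstance
    exact isAffine_of_isAffineHom (pullback.snd (D.map j.hom) g₀)
  let j₀ : Over i₀ := Over.mk (𝟙 i₀)
  have hid : IsIso (D.map j₀.hom) := by
    show IsIso (D.map (𝟙 i₀))
    rw [D.map_id]
    infer_instance
  let e : D'.obj j₀ ⟶ Y₀ := pullback.snd (D.map j₀.hom) g₀
  have he : IsIso e := (inferInstance : IsIso (pullback.snd (D.map j₀.hom) g₀))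
  have hlfp' : LocallyOfFinitePresentation (f₀ ≫ inv e) := inferInstance
  have hP' : P (stageMap (c'.π.app j₀) (f₀ ≫ inv e) (𝟙 (D'.obj j₀))) := by
    refine (stageMap_iff_of_isPullback P (f := stageMap (c.π.app i₀) f₀ g₀)
      (g := 𝟙 c'.pt) (qY := c'.π.app j₀) (qX := pullback.snd (c.π.app i₀) (f₀ ≫ g₀))
      IsPullback.of_id_snd ?_).mpr hPc
    exact isPullback_comp_inv (isPullback_stageMap (c.π.app i₀) f₀ g₀) e (c'.π.app j₀)
      (bcCone_π_snd D c i₀ g₀ j₀)
  obtain ⟨l', hl'⟩ := exists_stage_of_hasFPModel D' c' hc' P hP j₀ (f₀ ≫ inv e)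
    ((stageMap_id_iff P _ _).mp hP')
  have hl'' := (stageMap_id_iff P _ _).mpr hl'
  refine ⟨l'.left, ?_⟩
  refine (stageMap_iff_of_isPullback P (f := stageMap (D.map l'.left.hom) f₀ g₀)
    (g := 𝟙 (D'.obj l'.left)) (qY := D'.map l'.hom)
    (qX := pullback.snd (D.map l'.left.hom) (f₀ ≫ g₀)) IsPullback.of_id_snd ?_).mp hl''
  exact isPullback_comp_inv (isPullback_stageMap (D.map l'.left.hom) f₀ g₀) e (D'.map l'.hom)
    (bcDiagram_map_snd D i₀ g₀ l'.hom)

end affine

end Groth.Agent.Lib.helper9
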