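/-
Helper library (helper9): every morphism of finite presentation `X ⟶ lim S_i` (cofiltered limit
of qcqs schemes with affine transition maps) has a model of finite presentation at some stage
(EGA IV 8.8.2 (ii), Stacks 01ZM).
-/
import Groth.Agent.Lib.Helper9.FPGlue
import Groth.Agent.Lib.Helper9.ModelDescend

set_option autoImplicit false
set_option linter.style.haveILetI false
set_option backward.isDefEq.respectTransparency false

namespace Groth.Agent.Lib.helper9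

open AlgebraicGeometry CategoryTheory Limits TensorProduct
open Groth.Agent.Lib.helper9.ModelAlg

universe u

/-- Morphisms locally of finite presentation between affine schemes have models of finite
presentation over the integers. -/
theorem hasFPModel_lfp : HasFPModel @LocallyOfFinitePresentation.{u} := by
  refine hasFPModel_of_alg @LocallyOfFinitePresentation @RingHom.FinitePresentation ?_
  intro B C _ _ _ h
  have : Algebra.FinitePresentation B C := RingHom.finitePresentation_algebraMap.mp h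
  let P := Algebra.Presentation.ofFinitePresentation B C
  let B₀ := Algebra.adjoin ℤ P.coeffs
  have : P.HasCoeffs B₀ := ⟨by simp [B₀]⟩
  have hfp : Algebra.FinitePresentation B₀ (P.ModelOfHasCoeffs B₀) := inferInstance
  exact ⟨B₀, (P.ModelOfHasCoeffs B₀:), inferInstance, inferInstance,
    ⟨P.finite_coeffs.toFinset, by simp [B₀]⟩, RingHom.finitePresentation_algebraMap.mpr hfp, hfp,
    ⟨(P.tensorModelOfHasCoeffsEquiv B₀).symm⟩⟩

section

variable {I : Type u} [SmallCategory I] [IsCofiltered I] {D : I ⥤ Scheme.{u}} {c : Cone D}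
  (hc : IsLimit c) [hD : ∀ (i j : I) (f : i ⟶ j), IsAffineHom (D.map f)]
  [∀ i, CompactSpace (D.obj i)] [∀ i, QuasiSeparatedSpace (D.obj i)]

namespace FPModel

include hc in
/-- The union of two open subschemes with models, with quasi-compact intersection, has a model. -/
theorem exists_glue {X W U V : Scheme.{u}} (f : X ⟶ c.pt) (jW : W ⟶ X) (jU : U ⟶ X)
    [IsOpenImmersion jW] [IsOpenImmersion jU]
    (hcov : ∀ x : X, x ∈ Set.range jW ∨ x ∈ Set.range jU) (p₁ : V ⟶ W) (p₂ : V ⟶ U)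
    (hV : IsPullback p₁ p₂ jW jU) [CompactSpace V] {i₁ i₂ : I}
    (MW : FPModel D c (jW ≫ f) i₁) (MU : FPModel D c (jU ≫ f) i₂) :
    ∃ i, Nonempty (FPModel D c f i) := by
  have : IsOpenImmersion p₁ :=
    MorphismProperty.of_isPullback (P := @IsOpenImmersion) hV.flip inferInstance
  have : IsOpenImmersion p₂ :=
    MorphismProperty.of_isPullback (P := @IsOpenImmersion) hV inferInstance
  -- Step 1: restrict the model of `W` to `V`
  obtain ⟨k₁, a₁, MV₁, α₁, hα₁⟩ := MW.exists_restrict hc p₁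
  -- Step 2: common index
  let k₂ := IsCofiltered.min k₁ i₂
  let b₁ : k₂ ⟶ k₁ := IsCofiltered.minToLeft k₁ i₂
  let b₂ : k₂ ⟶ i₂ := IsCofiltered.minToRight k₁ i₂
  have hα₂ : IsOpenImmersion (α₁.rebase b₁).h₀ := α₁.isOpenImmersion_rebase b₁
  -- Step 3: descend `p₂`
  have hf : p₂ ≫ (jU ≫ f) = p₁ ≫ jW ≫ f := by
    rw [← Category.assoc, ← hV.w, Category.assoc]
  obtain ⟨k₃, a₃, ⟨β₃⟩⟩ := FPModel.exists_hom hc (MV₁.rebase b₁) (MU.rebase b₂) p₂ hf
  have hα₃ : IsOpenImmersion ((α₁.rebase b₁).rebase a₃).h₀ :=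
    (α₁.rebase b₁).isOpenImmersion_rebase a₃
  -- Step 4: make it an open immersion
  obtain ⟨k₄, a₄, hβ₄⟩ := β₃.exists_isOpenImmersion hc
  have hα₄ : IsOpenImmersion (((α₁.rebase b₁).rebase a₃).rebase a₄).h₀ :=
    ((α₁.rebase b₁).rebase a₃).isOpenImmersion_rebase a₄
  -- Step 5: glue
  exact ⟨k₄, FPModel.glue hcov hV _ _ _ (((α₁.rebase b₁).rebase a₃).rebase a₄) (β₃.rebase a₄)⟩

omit [∀ i, CompactSpace (D.obj i)] in
include hc in
/-- Affine base case. -/
theorem exists_of_isAffine {X : Scheme.{u}} (f : X ⟶ c.pt) [LocallyOfFinitePresentation f]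
    [IsAffine X] (i₀ : I) (V : (D.obj i₀).Opens) (hV : IsAffineOpen V)
    (hfV : ∀ x : X, (f ≫ c.π.app i₀) x ∈ V) :
    ∃ i, Nonempty (FPModel D c f i) := by
  have hD' : ∀ {i j : I} (f : i ⟶ j), IsAffineHom (D.map f) := fun f => hD _ _ f
  have hπaff : IsAffineHom (c.π.app i₀) := isAffineHom_π_app D c hc i₀
  let Y : c.pt.Opens := c.π.app i₀ ⁻¹ᵁ V
  have hY : IsAffineOpen Y := hV.preimage (c.π.app i₀)
  have hYaff : IsAffine Y.toScheme := hY
  have hrange : Set.range f ⊆ Set.range Y.ι := by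
    rintro _ ⟨x, rfl⟩
    rw [Scheme.Opens.range_ι]
    exact hfV x
  let f' : X ⟶ Y.toScheme := IsOpenImmersion.lift Y.ι f hrange
  have hf' : f' ≫ Y.ι = f := IsOpenImmersion.lift_fac _ _ _
  have : LocallyOfFinitePresentation (f' ≫ Y.ι) := by
    rw [hf']
    infer_instance
  have hlfp' : LocallyOfFinitePresentation f' :=
    Groth.Agent.Lib.helper7.locallyOfFinitePresentation_of_comp f' Y.ι
  obtain ⟨T, E, e, t, ψ, hT, hE, hPe, -, hlfpT, hpb⟩ := hasFPModel_lfp f' hlfp'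
  have hlfpe : LocallyOfFinitePresentation e := hPe
  -- the system of opens
  let DV := opensDiagram D i₀ V
  let cV := opensCone D c i₀ V
  have hcV : IsLimit cV := isLimitOpensCone D c hc i₀ V
  have hDVaff : ∀ j : Over i₀, IsAffine (DV.obj j) := fun j => hV.preimage (D.map j.hom)
  have hDV : ∀ (j j' : Over i₀) (m : j ⟶ j'), IsAffineHom (DV.map m) := fun _ _ m =>
    (inferInstance : IsAffineHom ((opensDiagram D i₀ V).map m))
  obtain ⟨j, tj, htj⟩ := exists_π_app_comp_eq_terminal DV cV hcV t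
  -- the model
  let Vj : (D.obj j.left).Opens := D.map j.hom ⁻¹ᵁ V
  have hVjaff : IsAffine Vj.toScheme := hDVaff j
  let πj : Y.toScheme ⟶ Vj.toScheme := cV.π.app j
  let tj' : Vj.toScheme ⟶ T := tj
  have htj' : πj ≫ tj' = t := htj
  let X₀ : Scheme.{u} := pullback tj' e
  let f₀ : X₀ ⟶ D.obj j.left := pullback.fst tj' e ≫ Vj.ι
  let g : X ⟶ X₀ := pullback.lift (f' ≫ πj) ψ (by rw [Category.assoc, htj', hpb.w])
  have top : IsPullback g f' (pullback.fst tj' e) πj := by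
    refine IsPullback.of_right ?_ (pullback.lift_fst _ _ _) (IsPullback.of_hasPullback tj' e).flip
    rw [pullback.lift_snd, htj']
    exact hpb
  have bot : IsPullback πj Y.ι Vj.ι (c.π.app j.left) :=
    IsOpenImmersion.isPullback _ _ _ _ (Scheme.Hom.resLE_comp_ι _ _).symm (by
      simp only [Scheme.Opens.opensRange_ι]
      show c.π.app j.left ⁻¹ᵁ D.map j.hom ⁻¹ᵁ V = c.π.app i₀ ⁻¹ᵁ V
      rw [← Scheme.Hom.comp_preimage, c.w])
  have pb : IsPullback g f f₀ (c.π.app j.left) := by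
    have := top.paste_vert bot
    rwa [hf'] at this
  have hX₀aff : IsAffine X₀ := inferInstance
  exact ⟨j.left, ⟨⟨X₀, f₀, g, inferInstance, inferInstance, inferInstance, pb⟩⟩⟩

include hc in
/-- The step of the induction. -/
theorem exists_sup {X : Scheme.{u}} (f : X ⟶ c.pt) (O₁ O₂ : X.Opens)
    (hO : IsCompact ((O₁ ⊓ O₂ : X.Opens) : Set X)) {i₁ i₂ : I}
    (M₁ : FPModel D c (O₁.ι ≫ f) i₁) (M₂ : FPModel D c (O₂.ι ≫ f) i₂) :
    ∃ i, Nonempty (FPModel D c ((O₁ ⊔ O₂).ι ≫ f) i) := by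
  let jW : O₁.toScheme ⟶ (O₁ ⊔ O₂).toScheme := X.homOfLE le_sup_left
  let jU : O₂.toScheme ⟶ (O₁ ⊔ O₂).toScheme := X.homOfLE le_sup_right
  let p₁ : (O₁ ⊓ O₂).toScheme ⟶ O₁.toScheme := X.homOfLE inf_le_left
  let p₂ : (O₁ ⊓ O₂).toScheme ⟶ O₂.toScheme := X.homOfLE inf_le_right
  have hV : IsPullback p₁ p₂ jW jU := isPullback_opens_inf_le le_sup_left le_sup_right
  have : CompactSpace ↥(O₁ ⊓ O₂).toScheme := isCompact_iff_compactSpace.mp hO
  have e₁ : jW ≫ (O₁ ⊔ O₂).ι ≫ f = O₁.ι ≫ f := by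
    rw [← Category.assoc, Scheme.homOfLE_ι]
  have e₂ : jU ≫ (O₁ ⊔ O₂).ι ≫ f = O₂.ι ≫ f := by
    rw [← Category.assoc, Scheme.homOfLE_ι]
  have hcov : ∀ x : ↥(O₁ ⊔ O₂).toScheme, x ∈ Set.range jW ∨ x ∈ Set.range jU := by
    rintro ⟨x, hx⟩
    rcases hx with h | h
    · exact Or.inl ⟨⟨x, h⟩, Scheme.homOfLE_apply' _ x h⟩
    · exact Or.inr ⟨⟨x, h⟩, Scheme.homOfLE_apply' _ x h⟩
  exact FPModel.exists_glue hc ((O₁ ⊔ O₂).ι ≫ f) jW jU hcov p₁ p₂ hV (M₁.copy e₁.symm)
    (M₂.copy e₂.symm)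

include hc in
/-- **Descent of morphisms of finite presentation** (EGA IV 8.8.2 (ii)). -/
theorem exists_model {X : Scheme.{u}} (f : X ⟶ c.pt) [LocallyOfFinitePresentation f]
    [QuasiCompact f] [QuasiSeparated f] : ∃ i, Nonempty (FPModel D c f i) := by
  have hD' : ∀ {i j : I} (f : i ⟶ j), IsAffineHom (D.map f) := fun f => hD _ _ f
  have : CompactSpace c.pt := Scheme.compactSpace_of_isLimit D c hc
  obtain ⟨i₀⟩ := IsCofiltered.nonempty (C := I)
  have : IsAffineHom (c.π.app i₀) := isAffineHom_π_app D c hc i₀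
  have : QuasiSeparatedSpace c.pt := quasiSeparatedSpace_of_quasiSeparated (c.π.app i₀)
  have : CompactSpace X := QuasiCompact.compactSpace_of_compactSpace f
  have hXqs : QuasiSeparatedSpace X := quasiSeparatedSpace_of_quasiSeparated f
  -- the small affine opens
  let B : Set X.Opens := {U | IsAffineOpen U ∧
    ∃ V : (D.obj i₀).Opens, IsAffineOpen V ∧ U ≤ (f ≫ c.π.app i₀) ⁻¹ᵁ V}
  have hB : TopologicalSpace.Opens.IsBasis B := by
    refine TopologicalSpace.Opens.isBasis_iff_nbhd.mpr fun {O x} hxO => ?_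
    obtain ⟨_, ⟨V, hV : IsAffineOpen V, rfl⟩, hxV, -⟩ :=
      (D.obj i₀).isBasis_affineOpens.exists_subset_of_mem_open
        (Set.mem_univ ((f ≫ c.π.app i₀) x)) isOpen_univ
    obtain ⟨_, ⟨U, hU : IsAffineOpen U, rfl⟩, hxU, hUO⟩ :=
      X.isBasis_affineOpens.exists_subset_of_mem_open
        (show x ∈ ((O ⊓ (f ≫ c.π.app i₀) ⁻¹ᵁ V : X.Opens) : Set X) from ⟨hxO, hxV⟩)
        (O ⊓ (f ≫ c.π.app i₀) ⁻¹ᵁ V).2
    exact ⟨U, ⟨hU, V, hV, fun y hy => (hUO hy).2⟩, hxU, fun y hy => (hUO hy).1⟩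
  obtain ⟨s, hsB, hsf, hs⟩ := hB.exists_finite_of_isCompact
    (U := (⊤ : X.Opens)) isCompact_univ
  have key : ∀ (s : Set X.Opens), s.Finite → s ⊆ B →
      (∃ i, Nonempty (FPModel D c ((sSup s).ι ≫ f) i)) ∧ IsCompact ((sSup s : X.Opens) : Set X) := by
    intro s hsf
    refine Set.Finite.induction_on (motive := fun s _ => s ⊆ B →
      (∃ i, Nonempty (FPModel D c ((sSup s).ι ≫ f) i)) ∧
        IsCompact ((sSup s : X.Opens) : Set X)) s hsf ?_ ?_
    · intro _
      rw [sSup_empty]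
      refine ⟨?_, by simp⟩
      have : IsAffine (⊥ : X.Opens).toScheme := isAffineOpen_bot X
      exact exists_of_isAffine hc ((⊥ : X.Opens).ι ≫ f) i₀ ⊥ (isAffineOpen_bot _)
        (fun x => (x.2 : (x.1 ∈ (⊥ : X.Opens))).elim)
    · intro a t _ _ ih hat
      have haB : a ∈ B := hat (Set.mem_insert a t)
      obtain ⟨⟨i₂, ⟨M₂⟩⟩, hc₂⟩ := ih ((Set.subset_insert a t).trans hat)
      obtain ⟨haaff, V, hV, haV⟩ := haB
      have : IsAffine a.toScheme := haaff
      obtain ⟨i₁, ⟨M₁⟩⟩ := exists_of_isAffine hc (a.ι ≫ f) i₀ V hV (fun x => haV x.2)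
      rw [sSup_insert]
      refine ⟨exists_sup hc f a (sSup t) ?_ M₁ M₂, ?_⟩
      · exact hXqs.inter_isCompact _ _ a.2 haaff.isCompact (sSup t).2 hc₂
      · exact haaff.isCompact.union hc₂
  obtain ⟨⟨i, ⟨M⟩⟩, -⟩ := key s hsf hsB
  rw [← hs] at M
  have : IsIso (⊤ : X.Opens).ι := (inferInstance : IsIso X.topIso.hom)
  exact ⟨i, ⟨M.ofIsIso⟩⟩

end FPModel

end

end Groth.Agent.Lib.helper9
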