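/-
Helper library (helper9): models of finite presentation over a system with one qcqs stage, and
descent of properties of the model.
-/
import Groth.Agent.Lib.Helper9.FPDescend

set_option autoImplicit false
set_option linter.style.haveILetI false
set_option backward.isDefEq.respectTransparency false

namespace Groth.Agent.Lib.helper9

open AlgebraicGeometry CategoryTheory Limits

universe u

section

variable {I : Type u} [SmallCategory I] [IsCofiltered I] {D : I ⥤ Scheme.{u}} {c : Cone D}
  (hc : IsLimit c) [hD : ∀ (i j : I) (f : i ⟶ j), IsAffineHom (D.map f)]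

namespace FPModel

attribute [local instance] CategoryTheory.isConnected_of_hasTerminal

include hc in
/-- Models of finite presentation exist as soon as one stage is qcqs. -/
theorem exists_model_over (i₀ : I) [CompactSpace (D.obj i₀)] [QuasiSeparatedSpace (D.obj i₀)]
    {X : Scheme.{u}} (f : X ⟶ c.pt) [LocallyOfFinitePresentation f] [QuasiCompact f]
    [QuasiSeparated f] : ∃ j : Over i₀, Nonempty (FPModel D c f j.left) := by
  let D' : Over i₀ ⥤ Scheme.{u} := Over.forget i₀ ⋙ D
  let c' : Cone D' := c.whisker (Over.forget i₀)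
  have hc' : IsLimit c' := (Functor.Initial.isLimitWhiskerEquiv (Over.forget i₀) c).symm hc
  have hD' : ∀ (j j' : Over i₀) (m : j ⟶ j'), IsAffineHom (D'.map m) := fun _ _ m =>
    hD _ _ m.left
  have : ∀ j : Over i₀, CompactSpace ↥(D'.obj j) := fun j =>
    have : IsAffineHom (D.map j.hom) := hD _ _ j.hom
    QuasiCompact.compactSpace_of_compactSpace (D.map j.hom)
  have : ∀ j : Over i₀, QuasiSeparatedSpace ↥(D'.obj j) := fun j =>
    have : IsAffineHom (D.map j.hom) := hD _ _ j.hom
    quasiSeparatedSpace_of_quasiSeparated (D.map j.hom)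
  have hf1 : LocallyOfFinitePresentation (show X ⟶ c'.pt from f) := ‹_›
  have hf2 : QuasiCompact (show X ⟶ c'.pt from f) := ‹_›
  have hf3 : QuasiSeparated (show X ⟶ c'.pt from f) := ‹_›
  obtain ⟨j, ⟨M⟩⟩ := exists_model (D := D') (c := c') hc' (show X ⟶ c'.pt from f)
  exact ⟨j, ⟨⟨M.X₀, M.f₀, M.g, M.lfp, M.qc, M.qs, M.pb⟩⟩⟩

variable {X : Scheme.{u}} {f : X ⟶ c.pt} {i : I}

omit [IsCofiltered I] hD in
theorem isPullback_id_π (i : I) : IsPullback (c.π.app i) (𝟙 c.pt) (𝟙 (D.obj i)) (c.π.app i) :=
  IsPullback.id_vert (c.π.app i)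

/-- A property of `f` which descends along the system passes to a rebase of the model. -/
theorem exists_rebase_of_descent (P : MorphismProperty Scheme.{u}) [P.RespectsIso]
    (M : FPModel D c f i)
    (hdesc : P (stageMap (c.π.app i) M.f₀ (𝟙 _)) →
      ∃ l : Over i, P (stageMap (D.map l.hom) M.f₀ (𝟙 _))) (hf : P f) :
    ∃ (j : I) (a : j ⟶ i), P (M.rebase a).f₀ := by
  have h1 : P (stageMap (c.π.app i) M.f₀ (𝟙 _)) :=
    (stageMap_iff_of_isPullback P (isPullback_id_π i) M.pb).mpr hf
  obtain ⟨l, hl⟩ := hdesc h1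
  refine ⟨l.left, l.hom, ?_⟩
  have hY : IsPullback (D.map l.hom) (𝟙 (D.obj l.left)) (𝟙 (D.obj i)) (D.map l.hom) :=
    IsPullback.id_vert (D.map l.hom)
  exact (stageMap_iff_of_isPullback P hY
    (IsPullback.of_hasPullback (D.map l.hom) M.f₀).flip).mp hl

end FPModel

end

end Groth.Agent.Lib.helper9
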