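/-
Helper library (helper9): from the affine case of a descent statement (along a cofiltered limit
with affine transition maps) to the case of a quasi-compact source, for properties local at the
source. Applied to étale and smooth morphisms.
-/
import Groth.Agent.Lib.Helper9.ModelDescend

set_option autoImplicit false
set_option linter.style.haveILetI false
set_option backward.isDefEq.respectTransparency false

namespace Groth.Agent.Lib.helper9

open AlgebraicGeometry CategoryTheory Limits Topology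
open Groth.Agent.Lib.helper9.ModelAlg

universe u

section cat

variable {C : Type*} [Category C] [HasPullbacks C]

theorem stageMap'_comp_stageMap {S' S₀ X₀ Y₀ U V : C} (φ : S' ⟶ S₀) (f₀ : X₀ ⟶ Y₀) (g₀ : Y₀ ⟶ S₀)
    (a : U ⟶ X₀) (b : V ⟶ Y₀) (h : U ⟶ V) (e : a ≫ f₀ ≫ g₀ = h ≫ b ≫ g₀)
    (e' : a ≫ f₀ = h ≫ b) :
    stageMap' φ a (f₀ ≫ g₀) (h ≫ b ≫ g₀) e ≫ stageMap φ f₀ g₀ =
      stageMap φ h (b ≫ g₀) ≫ stageMap φ b g₀ := by
  apply pullback.hom_ext
  · rw [Category.assoc, Category.assoc, stageMap_fst, stageMap_fst, stageMap'_fst, stageMap_fst]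
  · rw [Category.assoc, Category.assoc, stageMap_snd, stageMap_snd, stageMap'_snd_assoc,
      stageMap_snd_assoc, e']

omit [HasPullbacks C] in
theorem isPullback_id_of_mono {A B Y : C} (x : A ⟶ B) (j : B ⟶ Y) [Mono j] :
    IsPullback (𝟙 A) x (x ≫ j) j := by
  have h1 : IsPullback x (𝟙 A) (𝟙 B) x := IsPullback.of_id_snd
  have h2 : IsPullback (𝟙 B) (𝟙 B) j j := IsKernelPair.id_of_mono j
  have := (h1.paste_horiz h2).flip
  simpa using this

end cat

section loc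

variable {P : MorphismProperty Scheme.{u}}

theorem of_family_source [IsZariskiLocalAtSource P] {X Y : Scheme.{u}} (f : X ⟶ Y) {ι : Type*}
    {W : ι → Scheme.{u}} (u : ∀ k, W k ⟶ X) [∀ k, IsOpenImmersion (u k)]
    (hcov : ∀ x : X, ∃ k, x ∈ Set.range (u k)) (H : ∀ k, P (u k ≫ f)) : P f := by
  refine IsZariskiLocalAtSource.of_iSup_eq_top (fun k => (u k).opensRange) ?_ fun k => ?_
  · rw [eq_top_iff]
    intro x _
    obtain ⟨k, hk⟩ := hcov x
    exact TopologicalSpace.Opens.mem_iSup.2 ⟨k, hk⟩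
  · rw [← IsOpenImmersion.isoOfRangeEq_inv_fac (u k) (Scheme.Opens.ι _)
      (congr_arg TopologicalSpace.Opens.carrier (u k).opensRange.opensRange_ι.symm),
      Category.assoc, P.cancel_left_of_respectsIso]
    exact H k

/-- Forward direction: restricting the data to opens preserves `P` of the stage map. -/
theorem stageMap_restrict [IsZariskiLocalAtSource P] [P.IsStableUnderBaseChange]
    {S' S₀ X₀ Y₀ U V : Scheme.{u}} (φ : S' ⟶ S₀) (f₀ : X₀ ⟶ Y₀) (g₀ : Y₀ ⟶ S₀)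
    (a : U ⟶ X₀) (b : V ⟶ Y₀) [IsOpenImmersion a] [IsOpenImmersion b] (h : U ⟶ V)
    (e' : a ≫ f₀ = h ≫ b) (hP : P (stageMap φ f₀ g₀)) : P (stageMap φ h (b ≫ g₀)) := by
  have e : a ≫ f₀ ≫ g₀ = h ≫ b ≫ g₀ := by rw [← Category.assoc, e', Category.assoc]
  have hu : IsOpenImmersion (stageMap' φ a (f₀ ≫ g₀) (h ≫ b ≫ g₀) e) :=
    MorphismProperty.of_isPullback (P := @IsOpenImmersion)
      (isPullback_stageMap' φ a (f₀ ≫ g₀) (h ≫ b ≫ g₀) e) inferInstance
  have hj : IsOpenImmersion (stageMap φ b g₀) :=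
    MorphismProperty.of_isPullback (P := @IsOpenImmersion)
      (isPullback_stageMap φ b g₀) inferInstance
  have h1 : P (stageMap' φ a (f₀ ≫ g₀) (h ≫ b ≫ g₀) e ≫ stageMap φ f₀ g₀) :=
    IsZariskiLocalAtSource.comp hP _
  rw [stageMap'_comp_stageMap φ f₀ g₀ a b h e e'] at h1
  exact MorphismProperty.of_isPullback (P := P)
    (isPullback_id_of_mono (stageMap φ h (b ≫ g₀)) (stageMap φ b g₀)) h1

/-- Backward direction: `P` of the stage map can be checked on an open cover of the source. -/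
theorem stageMap_of_cover [IsZariskiLocalAtSource P]
    (hpost : ∀ {X Y Z : Scheme.{u}} (f : X ⟶ Y) (j : Y ⟶ Z) [IsOpenImmersion j], P f → P (f ≫ j))
    {S' S₀ X₀ Y₀ : Scheme.{u}} (φ : S' ⟶ S₀) (f₀ : X₀ ⟶ Y₀) (g₀ : Y₀ ⟶ S₀) {ι : Type*}
    {U V : ι → Scheme.{u}} (a : ∀ k, U k ⟶ X₀) (b : ∀ k, V k ⟶ Y₀) [∀ k, IsOpenImmersion (a k)]
    [∀ k, IsOpenImmersion (b k)] (h : ∀ k, U k ⟶ V k) (e' : ∀ k, a k ≫ f₀ = h k ≫ b k)
    (hcov : ∀ x : X₀, ∃ k, x ∈ Set.range (a k))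
    (hP : ∀ k, P (stageMap φ (h k) (b k ≫ g₀))) : P (stageMap φ f₀ g₀) := by
  have e : ∀ k, a k ≫ f₀ ≫ g₀ = h k ≫ b k ≫ g₀ := fun k => by
    rw [← Category.assoc, e' k, Category.assoc]
  have hu : ∀ k, IsOpenImmersion (stageMap' φ (a k) (f₀ ≫ g₀) (h k ≫ b k ≫ g₀) (e k)) := fun k =>
    MorphismProperty.of_isPullback (P := @IsOpenImmersion)
      (isPullback_stageMap' φ (a k) (f₀ ≫ g₀) (h k ≫ b k ≫ g₀) (e k)) inferInstance
  have hj : ∀ k, IsOpenImmersion (stageMap φ (b k) g₀) := fun k =>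
    MorphismProperty.of_isPullback (P := @IsOpenImmersion)
      (isPullback_stageMap φ (b k) g₀) inferInstance
  refine of_family_source (stageMap φ f₀ g₀)
    (fun k => stageMap' φ (a k) (f₀ ≫ g₀) (h k ≫ b k ≫ g₀) (e k)) ?_ fun k => ?_
  · intro w
    obtain ⟨k, u, hu⟩ := hcov ((pullback.snd φ (f₀ ≫ g₀)) w)
    obtain ⟨z, -, hz⟩ := exists_preimage_of_isPullback
      (isPullback_stageMap' φ (a k) (f₀ ≫ g₀) (h k ≫ b k ≫ g₀) (e k)) u w hu
    exact ⟨k, z, hz⟩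
  · rw [stageMap'_comp_stageMap φ f₀ g₀ (a k) (b k) (h k) (e k) (e' k)]
    exact hpost _ _ (hP k)

end loc

section general

variable {I : Type u} [SmallCategory I] [IsCofiltered I] (D : I ⥤ Scheme.{u}) (c : Cone D)
  (hc : IsLimit c) [hD : ∀ (i j : I) (f : i ⟶ j), IsAffineHom (D.map f)]

omit hD in
/-- From the affine case to a quasi-compact source. -/
theorem AffineDescent.exists_stageMap_of_local {P : MorphismProperty Scheme.{u}}
    [IsZariskiLocalAtSource P] [P.IsStableUnderBaseChange]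
    (hpost : ∀ {X Y Z : Scheme.{u}} (f : X ⟶ Y) (j : Y ⟶ Z) [IsOpenImmersion j], P f → P (f ≫ j))
    (hA : AffineDescent D c P @LocallyOfFinitePresentation) (i₀ : I) {X₀ Y₀ : Scheme.{u}}
    (f₀ : X₀ ⟶ Y₀) (g₀ : Y₀ ⟶ D.obj i₀) [CompactSpace X₀] [LocallyOfFinitePresentation f₀]
    (hP : P (stageMap (c.π.app i₀) f₀ g₀)) :
    ∃ l : Over i₀, P (stageMap (D.map l.hom) f₀ g₀) := by
  classical
  have hex : ∀ x : X₀, ∃ (V : Y₀.Opens) (U : X₀.Opens), IsAffineOpen V ∧ IsAffineOpen U ∧ x ∈ U ∧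
      U ≤ f₀ ⁻¹ᵁ V := by
    intro x
    obtain ⟨V, hV, hxV, -⟩ := TopologicalSpace.Opens.isBasis_iff_nbhd.mp Y₀.isBasis_affineOpens
      (TopologicalSpace.Opens.mem_top (f₀ x))
    have hx : x ∈ f₀ ⁻¹ᵁ V := hxV
    obtain ⟨U, hU, hxU, hUV⟩ := TopologicalSpace.Opens.isBasis_iff_nbhd.mp
      X₀.isBasis_affineOpens hx
    exact ⟨V, U, hV, hU, hxU, hUV⟩
  choose V U hV hU hxU hUV using hex
  obtain ⟨s, hs⟩ := isCompact_univ.elim_finite_subcover (fun x => (U x : Set X₀))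
    (fun x => (U x).isOpen) (fun x _ => Set.mem_iUnion.2 ⟨x, hxU x⟩)
  let h : ∀ k : s, (U k.1).toScheme ⟶ (V k.1).toScheme := fun k =>
    f₀.resLE (V k.1) (U k.1) (hUV k.1)
  have e' : ∀ k : s, (U k.1).ι ≫ f₀ = h k ≫ (V k.1).ι := fun k =>
    (Scheme.Hom.resLE_comp_ι f₀ (hUV k.1)).symm
  have hcov : ∀ x : X₀, ∃ k : s, x ∈ Set.range (U k.1).ι := by
    intro x
    have := hs (Set.mem_univ x)
    simp only [Set.mem_iUnion] at this
    obtain ⟨y, hy, hxy⟩ := this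
    refine ⟨⟨y, hy⟩, ?_⟩
    rw [Scheme.Opens.range_ι]
    exact hxy
  have hstage : ∀ k : s, ∃ l : Over i₀,
      P (stageMap (D.map l.hom) (h k) ((V k.1).ι ≫ g₀)) := by
    intro k
    have : IsAffine (U k.1).toScheme := hU k.1
    have : IsAffine (V k.1).toScheme := hV k.1
    have h1 : LocallyOfFinitePresentation (h k) :=
      IsZariskiLocalAtSource.resLE (P := @LocallyOfFinitePresentation) _ inferInstance
    exact hA i₀ (h k) ((V k.1).ι ≫ g₀) h1
      (stageMap_restrict (c.π.app i₀) f₀ g₀ (U k.1).ι (V k.1).ι (h k) (e' k) hP)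
  choose lk hlk using hstage
  obtain ⟨l, hl⟩ := IsCofiltered.inf_objs_exists (Finset.univ.image lk)
  have ml : ∀ k : s, l ⟶ lk k := fun k =>
    (hl (Finset.mem_image_of_mem _ (Finset.mem_univ k))).some
  refine ⟨l, ?_⟩
  exact stageMap_of_cover hpost (D.map l.hom) f₀ g₀ (fun k : s => (U k.1).ι)
    (fun k : s => (V k.1).ι) h e' hcov
    (fun k => stageMap_of_hom D i₀ (h k) ((V k.1).ι ≫ g₀) P (ml k) (hlk k))

include hc in
/-- Étale morphisms descend along cofiltered limits with affine transition maps. -/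
theorem exists_etale_stageMap (i₀ : I) {X₀ Y₀ : Scheme.{u}} (f₀ : X₀ ⟶ Y₀) (g₀ : Y₀ ⟶ D.obj i₀)
    [CompactSpace X₀] [LocallyOfFinitePresentation f₀]
    (h : Etale (stageMap (c.π.app i₀) f₀ g₀)) :
    ∃ l : Over i₀, Etale (stageMap (D.map l.hom) f₀ g₀) :=
  (affineDescent_of_hasFPModel D c hc @Etale hasFPModel_etale).exists_stageMap_of_local D c
    (fun f j _ hf => by have : Etale f := hf; exact (inferInstance : Etale (f ≫ j))) i₀ f₀ g₀ h

include hc in
/-- Smooth morphisms descend along cofiltered limits with affine transition maps. -/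
theorem exists_smooth_stageMap (i₀ : I) {X₀ Y₀ : Scheme.{u}} (f₀ : X₀ ⟶ Y₀) (g₀ : Y₀ ⟶ D.obj i₀)
    [CompactSpace X₀] [LocallyOfFinitePresentation f₀]
    (h : Smooth (stageMap (c.π.app i₀) f₀ g₀)) :
    ∃ l : Over i₀, Smooth (stageMap (D.map l.hom) f₀ g₀) :=
  (affineDescent_of_hasFPModel D c hc @Smooth hasFPModel_smooth).exists_stageMap_of_local D c
    (fun f j _ hf => MorphismProperty.RespectsRight.postcomp (P := @Smooth)
      (Q := @IsOpenImmersion) j inferInstance f hf) i₀ f₀ g₀ h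

include hc in
/-- Stage form of étale descent (both directions). -/
theorem etale_iff_exists_stage (i₀ : I) {X₀ Y₀ : Scheme.{u}} (f₀ : X₀ ⟶ Y₀) (g₀ : Y₀ ⟶ D.obj i₀)
    [CompactSpace X₀] [LocallyOfFinitePresentation f₀]
    {X Y : Scheme.{u}} (f : X ⟶ Y) (g : Y ⟶ c.pt) (qY : Y ⟶ Y₀) (qX : X ⟶ X₀)
    (hY : IsPullback qY g g₀ (c.π.app i₀)) (hX : IsPullback qX f f₀ qY) :
    Etale f ↔
      ∃ (j : I) (φ : j ⟶ i₀) (Xj Yj : Scheme.{u}) (fj : Xj ⟶ Yj) (gj : Yj ⟶ D.obj j)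
        (pY : Yj ⟶ Y₀) (pX : Xj ⟶ X₀), IsPullback pY gj g₀ (D.map φ) ∧ IsPullback pX fj f₀ pY ∧
          Etale fj := by
  constructor
  · intro h
    have h' : Etale (stageMap (c.π.app i₀) f₀ g₀) :=
      (stageMap_iff_of_isPullback @Etale hY hX).mpr h
    obtain ⟨l, hl⟩ := exists_etale_stageMap D c hc i₀ f₀ g₀ h'
    exact ⟨l.left, l.hom, _, _, stageMap (D.map l.hom) f₀ g₀,
      pullback.fst (D.map l.hom) g₀, pullback.snd (D.map l.hom) g₀,
      pullback.snd (D.map l.hom) (f₀ ≫ g₀),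
      isPullback_stage_base (D.map l.hom) g₀,
      isPullback_stageMap (D.map l.hom) f₀ g₀, hl⟩
  · intro h
    exact of_exists_stage D c @Etale i₀ f₀ g₀ f g qY qX hY hX h

include hc in
/-- Stage form of smooth descent (both directions). -/
theorem smooth_iff_exists_stage (i₀ : I) {X₀ Y₀ : Scheme.{u}} (f₀ : X₀ ⟶ Y₀) (g₀ : Y₀ ⟶ D.obj i₀)
    [CompactSpace X₀] [LocallyOfFinitePresentation f₀]
    {X Y : Scheme.{u}} (f : X ⟶ Y) (g : Y ⟶ c.pt) (qY : Y ⟶ Y₀) (qX : X ⟶ X₀)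
    (hY : IsPullback qY g g₀ (c.π.app i₀)) (hX : IsPullback qX f f₀ qY) :
    Smooth f ↔
      ∃ (j : I) (φ : j ⟶ i₀) (Xj Yj : Scheme.{u}) (fj : Xj ⟶ Yj) (gj : Yj ⟶ D.obj j)
        (pY : Yj ⟶ Y₀) (pX : Xj ⟶ X₀), IsPullback pY gj g₀ (D.map φ) ∧ IsPullback pX fj f₀ pY ∧
          Smooth fj := by
  constructor
  · intro h
    have h' : Smooth (stageMap (c.π.app i₀) f₀ g₀) :=
      (stageMap_iff_of_isPullback @Smooth hY hX).mpr h
    obtain ⟨l, hl⟩ := exists_smooth_stageMap D c hc i₀ f₀ g₀ h'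
    exact ⟨l.left, l.hom, _, _, stageMap (D.map l.hom) f₀ g₀,
      pullback.fst (D.map l.hom) g₀, pullback.snd (D.map l.hom) g₀,
      pullback.snd (D.map l.hom) (f₀ ≫ g₀),
      isPullback_stage_base (D.map l.hom) g₀,
      isPullback_stageMap (D.map l.hom) f₀ g₀, hl⟩
  · intro h
    exact of_exists_stage D c @Smooth i₀ f₀ g₀ f g qY qX hY hX h

end general

end Groth.Agent.Lib.helper9
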