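/-
Helper library (helper9): étale coverings of a cofiltered limit (affine transition maps, one qcqs
stage) descend to finite étale coverings of some stage.
-/
import Groth.Agent.Lib.Helper9.FPDescend2
import Groth.Agent.Lib.Helper9.ModelDescendGen
import Mathlib.AlgebraicGeometry.Morphisms.UniversallyOpen

set_option autoImplicit false
set_option linter.style.haveILetI false
set_option backward.isDefEq.respectTransparency false

namespace Groth.Agent.Lib.helper9

open AlgebraicGeometry CategoryTheory Limits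

universe u

/-- The range of the structure map of a model pulls back to the range of the morphism. -/
theorem FPModel.preimage_range {I : Type u} [SmallCategory I] {D : I ⥤ Scheme.{u}} {c : Cone D}
    {X : Scheme.{u}} {f : X ⟶ c.pt} {i : I} (M : FPModel D c f i) :
    (c.π.app i) ⁻¹' Set.range M.f₀ = Set.range f := by
  ext x
  constructor
  · rintro ⟨y, hy⟩
    obtain ⟨z, -, hz⟩ := exists_preimage_of_isPullback M.pb y x hy
    exact ⟨z, hz⟩
  · rintro ⟨z, rfl⟩
    refine ⟨M.g z, ?_⟩
    rw [← Scheme.Hom.comp_apply, M.pb.w]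
    rfl

/-- The range of the structure map of a rebase is the preimage of the range. -/
theorem FPModel.range_rebase {I : Type u} [SmallCategory I] {D : I ⥤ Scheme.{u}} {c : Cone D}
    {X : Scheme.{u}} {f : X ⟶ c.pt} {i j : I} (M : FPModel D c f i) (a : j ⟶ i) :
    Set.range (M.rebase a).f₀ = (D.map a) ⁻¹' Set.range M.f₀ := by
  ext x
  constructor
  · rintro ⟨y, rfl⟩
    refine ⟨pullback.snd (D.map a) M.f₀ y, ?_⟩
    show M.f₀ (pullback.snd (D.map a) M.f₀ y) = D.map a (pullback.fst (D.map a) M.f₀ y)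
    rw [← Scheme.Hom.comp_apply, ← Scheme.Hom.comp_apply, pullback.condition]
  · rintro ⟨y, hy⟩
    obtain ⟨z, hz, -⟩ := exists_preimage_of_isPullback
      (IsPullback.of_hasPullback (D.map a) M.f₀) x y hy.symm
    exact ⟨z, hz⟩

theorem exists_descend_etale_cover {I : Type u} [SmallCategory I] [IsCofiltered I]
    (D : I ⥤ Scheme.{u}) (c : Cone D) (hc : IsLimit c)
    [hD : ∀ (i j : I) (t : i ⟶ j), IsAffineHom (D.map t)] (i₀ : I) [CompactSpace (D.obj i₀)]
    [QuasiSeparatedSpace (D.obj i₀)] {ι : Type u} (U : ι → Scheme.{u}) (u : ∀ a, U a ⟶ c.pt)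
    [∀ a, Etale (u a)] [∀ a, QuasiCompact (u a)] [∀ a, QuasiSeparated (u a)]
    (hcov : ∀ x : c.pt, ∃ (a : ι) (y : U a), (u a).base y = x) :
    ∃ (i : I) (n : ℕ) (V : Fin n → Scheme.{u}) (v : ∀ j, V j ⟶ D.obj i) (a : Fin n → ι)
      (e : ∀ j, U (a j) ⟶ V j),
      (∀ j, Etale (v j) ∧ QuasiCompact (v j) ∧ QuasiSeparated (v j)) ∧
      (∀ x : D.obj i, ∃ (j : Fin n) (y : V j), (v j).base y = x) ∧
      ∀ j, IsPullback (e j) (u (a j)) (v j) (c.π.app i) := by
  classical
  have hD' : ∀ {i j : I} (f : i ⟶ j), IsAffineHom (D.map f) := fun f => hD _ _ f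
  have hπ : ∀ i, IsAffineHom (c.π.app i) := fun i => isAffineHom_π_app D c hc i
  have hcpt : CompactSpace c.pt := QuasiCompact.compactSpace_of_compactSpace (c.π.app i₀)
  have hqc : ∀ (k : I) (_ : k ⟶ i₀), CompactSpace ↥(D.obj k) := fun k φ =>
    QuasiCompact.compactSpace_of_compactSpace (D.map φ)
  have hqs : ∀ (k : I) (_ : k ⟶ i₀), QuasiSeparatedSpace ↥(D.obj k) := fun k φ =>
    quasiSeparatedSpace_of_quasiSeparated (D.map φ)
  -- finite subcover
  obtain ⟨t, ht⟩ := isCompact_univ.elim_finite_subcover (fun a => Set.range (u a))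
    (fun a => (u a).isOpenMap.isOpen_range) (by
      intro x _
      obtain ⟨a, y, rfl⟩ := hcov x
      exact Set.mem_iUnion.2 ⟨a, ⟨y, rfl⟩⟩)
  let a : Fin t.card → ι := fun j => (t.equivFin.symm j).1
  have ha : ∀ x : c.pt, ∃ j, x ∈ Set.range (u (a j)) := by
    intro x
    have := ht (Set.mem_univ x)
    simp only [Set.mem_iUnion] at this
    obtain ⟨b, hb, hx⟩ := this
    refine ⟨t.equivFin ⟨b, hb⟩, ?_⟩
    have hab : a (t.equivFin ⟨b, hb⟩) = b := by simp [a]
    rw [hab]
    exact hx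
  -- étale models of the members of the subcover
  have hmodel : ∀ j : Fin t.card, ∃ (k : I) (_ : k ⟶ i₀) (M : FPModel D c (u (a j)) k),
      Etale M.f₀ := by
    intro j
    obtain ⟨l, ⟨M⟩⟩ := FPModel.exists_model_over hc i₀ (u (a j))
    have := hqc l.left l.hom
    have : CompactSpace M.X₀ := M.compactSpace_X₀
    obtain ⟨k, b, hk⟩ := M.exists_rebase_of_descent @Etale
      (fun h => exists_etale_stageMap D c hc l.left M.f₀ (𝟙 _) h) inferInstance
    exact ⟨k, b ≫ l.hom, M.rebase b, hk⟩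
  choose k φ M hM using hmodel
  obtain ⟨k', hk'⟩ := IsCofiltered.inf_objs_exists (insert i₀ (Finset.univ.image k))
  have fk : ∀ j, k' ⟶ k j := fun j => (hk' (by simp)).some
  have fk₀ : k' ⟶ i₀ := (hk' (by simp)).some
  have hk'c : CompactSpace ↥(D.obj k') := hqc k' fk₀
  have hk's : QuasiSeparatedSpace ↥(D.obj k') := hqs k' fk₀
  -- the models at the common index
  let N : ∀ j, FPModel D c (u (a j)) k' := fun j => (M j).rebase (fk j)
  have hN : ∀ j, Etale (N j).f₀ := fun j =>
    MorphismProperty.pullback_fst (P := @Etale) _ _ (hM j)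
  let O : Fin t.card → (D.obj k').Opens := fun j =>
    ⟨Set.range (N j).f₀, (N j).f₀.isOpenMap.isOpen_range⟩
  have hOc : ∀ j, IsCompact (O j : Set (D.obj k')) := fun j => by
    have : CompactSpace (N j).X₀ := (N j).compactSpace_X₀
    exact isCompact_range (N j).f₀.continuous
  have hsupc : IsCompact ((⨆ j, O j : (D.obj k').Opens) : Set (D.obj k')) := by
    rw [TopologicalSpace.Opens.coe_iSup]
    exact isCompact_iUnion hOc
  have hsup : c.π.app k' ⁻¹ᵁ (⨆ j, O j) = c.π.app k' ⁻¹ᵁ ⊤ := by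
    rw [Scheme.Hom.preimage_iSup, Scheme.Hom.preimage_top, eq_top_iff]
    intro x _
    obtain ⟨j, hj⟩ := ha x
    refine TopologicalSpace.Opens.mem_iSup.2 ⟨j, ?_⟩
    show x ∈ (c.π.app k') ⁻¹' Set.range (N j).f₀
    rw [(N j).preimage_range]
    exact hj
  obtain ⟨l, fl, hl⟩ := exists_map_preimage_eq_map_preimage D c hc hsupc
    (V := ⊤) (by simpa using isCompact_univ) hsup
  refine ⟨l, t.card, fun j => ((N j).rebase fl).X₀, fun j => ((N j).rebase fl).f₀, a,
    fun j => ((N j).rebase fl).g, ?_, ?_, fun j => ((N j).rebase fl).pb⟩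
  · intro j
    exact ⟨MorphismProperty.pullback_fst (P := @Etale) _ _ (hN j), ((N j).rebase fl).qc,
      ((N j).rebase fl).qs⟩
  · intro x
    have hx : x ∈ D.map fl ⁻¹ᵁ (⨆ j, O j) := by
      rw [hl, Scheme.Hom.preimage_top]
      trivial
    rw [Scheme.Hom.preimage_iSup] at hx
    obtain ⟨j, hj⟩ := TopologicalSpace.Opens.mem_iSup.1 hx
    have hj' : x ∈ Set.range ((N j).rebase fl).f₀ := by
      rw [(N j).range_rebase fl]
      exact hj
    obtain ⟨y, hy⟩ := hj'
    exact ⟨j, y, hy⟩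

end Groth.Agent.Lib.helper9
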