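import Mathlib
import Groth.Agent.Lib.Helper11.IdealGG
import Groth.Agent.Lib.Helper11.TwistH1
import Groth.Agent.Lib.Helper18.HHZero

/-!
# Modules with punctual support and twists by invertible modules (helper9)

* `res`, basic restriction lemmas for sections of `O_X`-modules.
* `bijective_toPi`: if the sections of `M` vanish on all opens inside `W` and `(O i)` is a family of opens
  covering `X` together with `W`, with pairwise intersections inside `W`, then
  `Γ(M, ⊤) → ∏ i, Γ(M, O i)` is bijective.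
* `glueEquiv`: under the same hypotheses for `M` and `M'`, local linear equivalences
  `Γ(M, O i) ≃ Γ(M', O i)` glue to `Γ(M, ⊤) ≃ₗ[Γ(X, ⊤)] Γ(M', ⊤)`.
* `cokernelTensorRestrictIso`: `coker (η ⊗ N)|_U ≅ coker η|_U` for a trivialisation of `N` on `U`.
* `isoLocus_le_tensorMap`: `isoLocus η ≤ isoLocus (η ⊗ N)` for `N` invertible.
* `nonempty_sections_cokernel_tensor_equiv`: if `η` is an isomorphism outside a finite set of closed points
  and `N` is invertible, then `Γ(X, coker (η ⊗ N)) ≃ₗ Γ(X, coker η)`.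
-/

set_option autoImplicit false
set_option linter.style.haveILetI false
universe u
open CategoryTheory CategoryTheory.Limits AlgebraicGeometry Opposite TopologicalSpace
open Scheme.Modules

namespace Groth.Agent.Lib.helper9.CurvePunctual

open Groth.Agent.Lib.helper11.IsoLocus Groth.Agent.Lib.helper11.InvMod

variable {X : Scheme.{u}}

section Res

/-- Restriction of sections of a module. -/
noncomputable def res (G : X.Modules) {V V' : X.Opens} (h : V ≤ V') (x : Γ(G, V')) : Γ(G, V) :=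
  G.presheaf.map (homOfLE h).op x

theorem res_res (G : X.Modules) {V₁ V₂ V₃ : X.Opens} (h₁ : V₂ ≤ V₁) (h₂ : V₃ ≤ V₂)
    (x : Γ(G, V₁)) : res G h₂ (res G h₁ x) = res G (h₂.trans h₁) x := by
  unfold res
  rw [← ConcreteCategory.comp_apply, ← Functor.map_comp]
  rfl

theorem res_add (G : X.Modules) {V V' : X.Opens} (h : V ≤ V') (x y : Γ(G, V')) :
    res G h (x + y) = res G h x + res G h y :=
  map_add (G.presheaf.map (homOfLE h).op).hom x y

theorem res_zero (G : X.Modules) {V V' : X.Opens} (h : V ≤ V') :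
    res G h (0 : Γ(G, V')) = 0 :=
  map_zero (G.presheaf.map (homOfLE h).op).hom

/-- Restriction of functions. -/
noncomputable def rs {V V' : X.Opens} (h : V ≤ V') (r : Γ(X, V')) : Γ(X, V) :=
  X.presheaf.map (homOfLE h).op r

theorem res_smul (G : X.Modules) {V V' : X.Opens} (h : V ≤ V') (r : Γ(X, V')) (x : Γ(G, V')) :
    res G h (r • x) = rs h r • res G h x :=
  Scheme.Modules.map_smul G (homOfLE h) r x

theorem eq_of_cover (G : X.Modules) {ι : Type*} (W : ι → X.Opens) (V : X.Opens)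
    (hle : ∀ i, W i ≤ V) (hcov : V ≤ ⨆ i, W i) (x y : Γ(G, V))
    (hxy : ∀ i, res G (hle i) x = res G (hle i) y) : x = y :=
  TopCat.Sheaf.eq_of_locally_eq' ⟨G.presheaf, G.isSheaf⟩ W V (fun i => homOfLE (hle i)) hcov x y
    hxy

theorem exists_glue (H : X.Modules) {ι : Type*} (W : ι → X.Opens)
    (hcover : (⊤ : X.Opens) ≤ ⨆ i, W i) (sf : ∀ i, Γ(H, W i))
    (hsf : ∀ i j, res H (inf_le_left : W i ⊓ W j ≤ W i) (sf i) =
      res H (inf_le_right : W i ⊓ W j ≤ W j) (sf j)) :
    ∃ T : Γ(H, ⊤), ∀ i, res H (le_top : W i ≤ ⊤) T = sf i := by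
  obtain ⟨Tg, hTg, -⟩ := TopCat.Sheaf.existsUnique_gluing' ⟨H.presheaf, H.isSheaf⟩
    W ⊤ (fun i => homOfLE le_top) hcover sf (fun i j => hsf i j)
  exact ⟨Tg, hTg⟩

end Res

section Glue

variable (M : X.Modules) (W : X.Opens)
  (hM : ∀ O : X.Opens, O ≤ W → Subsingleton Γ(M, O))
  {ι : Type*} (O : ι → X.Opens) (hcov : (⊤ : X.Opens) ≤ W ⊔ ⨆ i, O i)
  (hpair : ∀ i j, i ≠ j → O i ⊓ O j ≤ W)

/-- the cover `{W} ∪ {O i}` -/
def coverOpt : Option ι → X.Opens
  | none => W
  | some i => O i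

include hcov in
theorem coverOpt_cover : (⊤ : X.Opens) ≤ ⨆ a, coverOpt W O a := by
  intro x hx
  have h1 := hcov hx
  rw [Opens.mem_sup] at h1
  rcases h1 with h1 | h1
  · exact Opens.mem_iSup.mpr ⟨none, h1⟩
  · obtain ⟨i, hi⟩ := Opens.mem_iSup.mp h1
    exact Opens.mem_iSup.mpr ⟨some i, hi⟩

include hM hcov hpair in
/-- `Γ(M, ⊤) → ∏ Γ(M, O i)` is bijective -/
theorem bijective_toPi :
    Function.Bijective (fun (t : Γ(M, ⊤)) (i : ι) => res M (le_top : O i ≤ ⊤) t) := by
  classical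
  constructor
  · intro t t' h
    refine eq_of_cover M (coverOpt W O) ⊤ (fun _ => le_top) (coverOpt_cover W O hcov) t t' ?_
    rintro (_ | i)
    · exact @Subsingleton.elim _ (hM W le_rfl) _ _
    · exact congrFun h i
  · intro s
    let sf : ∀ a : Option ι, Γ(M, coverOpt W O a) := fun a =>
      match a with
      | none => 0
      | some i => s i
    have hsf : ∀ a b, res M (inf_le_left : coverOpt W O a ⊓ coverOpt W O b ≤ coverOpt W O a) (sf a) =
        res M (inf_le_right : coverOpt W O a ⊓ coverOpt W O b ≤ coverOpt W O b) (sf b) := by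
      intro a b
      by_cases hab : a = b
      · subst hab
        rfl
      · have hle : coverOpt W O a ⊓ coverOpt W O b ≤ W := by
          rcases a with _ | i <;> rcases b with _ | j
          · exact absurd rfl hab
          · exact inf_le_left
          · exact inf_le_right
          · exact hpair i j (fun h => hab (by rw [h]))
        exact @Subsingleton.elim _ (hM _ hle) _ _
    obtain ⟨T, hT⟩ := exists_glue M (coverOpt W O) (coverOpt_cover W O hcov) sf hsf
    exact ⟨T, funext fun i => hT (some i)⟩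

end Glue

section GlueEquiv

variable (M M' : X.Modules) (W : X.Opens)
  (hM : ∀ O : X.Opens, O ≤ W → Subsingleton Γ(M, O))
  (hM' : ∀ O : X.Opens, O ≤ W → Subsingleton Γ(M', O))
  {ι : Type*} (O : ι → X.Opens) (hcov : (⊤ : X.Opens) ≤ W ⊔ ⨆ i, O i)
  (hpair : ∀ i j, i ≠ j → O i ⊓ O j ≤ W)
  (f : ∀ i, Γ(M, O i) ≃ₗ[Γ(X, O i)] Γ(M', O i))

include hM hM' hcov hpair f in
/-- local linear equivalences glue to a global linear equivalence -/
theorem nonempty_glueEquiv : Nonempty (Γ(M, ⊤) ≃ₗ[Γ(X, ⊤)] Γ(M', ⊤)) := by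
  let D := Equiv.ofBijective _ (bijective_toPi M W hM O hcov hpair)
  let D' := Equiv.ofBijective _ (bijective_toPi M' W hM' O hcov hpair)
  let P : (∀ i, Γ(M, O i)) ≃ (∀ i, Γ(M', O i)) := Equiv.piCongrRight fun i => (f i).toEquiv
  let θ : Γ(M, ⊤) ≃ Γ(M', ⊤) := (D.trans P).trans D'.symm
  have hθ : ∀ (t : Γ(M, ⊤)) (i : ι), res M' (le_top : O i ≤ ⊤) (θ t) = f i (res M le_top t) := by
    intro t i
    have h1 : D' (θ t) = P (D t) := D'.apply_symm_apply _
    exact congrFun h1 i
  have hinj : ∀ a b : Γ(M', ⊤), (∀ i, res M' (le_top : O i ≤ ⊤) a = res M' le_top b) → a = b :=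
    fun a b h => (bijective_toPi M' W hM' O hcov hpair).1 (funext h)
  refine ⟨{ θ with
    map_add' := ?_
    map_smul' := ?_ }⟩
  · intro t t'
    apply hinj
    intro i
    change res M' _ (θ (t + t')) = res M' _ (θ t + θ t')
    rw [hθ, res_add, res_add, hθ, hθ, map_add]
  · intro r t
    apply hinj
    intro i
    change res M' _ (θ (r • t)) = res M' _ (r • θ t)
    rw [hθ, res_smul, res_smul, hθ]
    exact (f i).map_smul _ _

end GlueEquiv

section Tensor

open Groth.Agent.Lib.Lead.ModTensor Groth.Agent.Lib.helper12.TensorInv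
open Groth.Agent.Lib.helper11.IdealGG Groth.Agent.Lib.helper11.TwistH1

variable {A B : X.Modules} (η : A ⟶ B) (N : X.Modules)

/-- for a trivialisation of `N` on `U`, `(η ⊗ N)|_U` is an isomorphism iff `η|_U` is -/
theorem isIso_restrict_tensorMap_iff (U : X.Opens)
    (e : N.restrict U.ι ≅ Coh.structureModule (↑U : Scheme.{u})) :
    IsIso ((restrictFunctor U.ι).map (tensorMap η (𝟙 N))) ↔
      IsIso ((restrictFunctor U.ι).map η) := by
  have hn := tensorTrivIso_naturality η N U e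
  constructor
  · intro h
    have h1 : (restrictFunctor U.ι).map η = (tensorTrivIso A N U e).inv ≫
        (restrictFunctor U.ι).map (tensorMap η (𝟙 N)) ≫ (tensorTrivIso B N U e).hom := by
      rw [hn, Iso.inv_hom_id_assoc]
    rw [h1]
    infer_instance
  · intro h
    have h1 : (restrictFunctor U.ι).map (tensorMap η (𝟙 N)) = (tensorTrivIso A N U e).hom ≫
        (restrictFunctor U.ι).map η ≫ (tensorTrivIso B N U e).inv := by
      rw [← Category.assoc, ← hn, Category.assoc, Iso.hom_inv_id, Category.comp_id]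
    rw [h1]
    infer_instance

/-- `η ⊗ N` is an isomorphism wherever `η` is, for `N` invertible -/
theorem isoLocus_le_tensorMap (hN : PicF.IsInvertible N) :
    isoLocus η ≤ isoLocus (tensorMap η (𝟙 N)) := by
  intro x hx
  obtain ⟨U, hxU, hU⟩ := hN x
  obtain ⟨e⟩ : IsTrivOn N (U ⊓ isoLocus η) := IsTrivOn.of_le inf_le_left hU
  rw [mem_isoLocus_iff]
  refine ⟨U ⊓ isoLocus η, ⟨hxU, hx⟩, ?_⟩
  rw [isIso_restrict_tensorMap_iff η N _ e, ← le_isoLocus_iff]
  exact inf_le_right

/-- `coker (η ⊗ N)|_U ≅ coker η|_U` for a trivialisation of `N` on `U` -/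
noncomputable def cokernelTensorRestrictIso (U : X.Opens)
    (e : N.restrict U.ι ≅ Coh.structureModule (↑U : Scheme.{u})) :
    (cokernel (tensorMap η (𝟙 N))).restrict U.ι ≅ (cokernel η).restrict U.ι := by
  haveI : PreservesColimitsOfSize.{0, 0} (restrictFunctor U.ι) :=
    (restrictAdjunction U.ι).leftAdjoint_preservesColimits
  exact PreservesCokernel.iso (restrictFunctor U.ι) _ ≪≫
    cokernel.mapIso _ _ (tensorTrivIso A N U e) (tensorTrivIso B N U e)
      (tensorTrivIso_naturality η N U e) ≪≫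
    (PreservesCokernel.iso (restrictFunctor U.ι) η).symm

end Tensor

section SectionsEquiv

/-- an isomorphism `M|_U ≅ M'|_U` induces a linear equivalence on sections over `U` -/
noncomputable def sectionsEquivOfRestrictIso (M M' : X.Modules) (U : X.Opens)
    (e : M.restrict U.ι ≅ M'.restrict U.ι) :
    Γ(M, U.ι ''ᵁ ⊤) ≃ₗ[Γ(X, U.ι ''ᵁ ⊤)] Γ(M', U.ι ''ᵁ ⊤) where
  toFun m := e.hom.app ⊤ m
  invFun m := e.inv.app ⊤ m
  left_inv m := by
    change (e.hom.app ⊤ ≫ e.inv.app ⊤) m = m
    rw [← Scheme.Modules.Hom.comp_app, e.hom_inv_id]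
    rfl
  right_inv m := by
    change (e.inv.app ⊤ ≫ e.hom.app ⊤) m = m
    rw [← Scheme.Modules.Hom.comp_app, e.inv_hom_id]
    rfl
  map_add' m m' := map_add (e.hom.app ⊤).hom m m'
  map_smul' r m := by
    have hr : (U.ι.appIso ⊤).inv ((U.ι.appIso ⊤).hom r) = r := by
      rw [← CommRingCat.comp_apply, Iso.hom_inv_id]
      rfl
    have h1 : (r • m : Γ(M, U.ι ''ᵁ ⊤)) =
        (((U.ι.appIso ⊤).hom r : Γ((↑U : Scheme.{u}), ⊤)) • (show Γ(M.restrict U.ι, ⊤) from m)) := by
      change r • m = ((U.ι.appIso ⊤).inv ((U.ι.appIso ⊤).hom r)) • m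
      rw [hr]
    have h2 : ∀ m' : Γ(M', U.ι ''ᵁ ⊤), (r • m' : Γ(M', U.ι ''ᵁ ⊤)) =
        (((U.ι.appIso ⊤).hom r : Γ((↑U : Scheme.{u}), ⊤)) •
          (show Γ(M'.restrict U.ι, ⊤) from m')) := by
      intro m'
      change r • m' = ((U.ι.appIso ⊤).inv ((U.ι.appIso ⊤).hom r)) • m'
      rw [hr]
    simp only [RingHom.id_apply]
    rw [h1, h2]
    exact Scheme.Modules.Hom.app_smul e.hom _ _

end SectionsEquiv

section Main

open Groth.Agent.Lib.Lead.ModTensor Groth.Agent.Lib.helper11.TwistH1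

/-- **Twisting a punctual cokernel**: if `η` is an isomorphism outside a finite set of closed points and `N` is
invertible, then `coker (η ⊗ N)` and `coker η` have isomorphic global sections. -/
theorem nonempty_sections_cokernel_tensor_equiv {A B : X.Modules} (η : A ⟶ B) {N : X.Modules}
    (hN : PicF.IsInvertible N) (W : X.Opens) (hW : W ≤ isoLocus η)
    (hfin : ((W : Set X)ᶜ).Finite) (hcl : ∀ x, x ∉ W → IsClosed ({x} : Set X)) :
    Nonempty (Γ(cokernel (tensorMap η (𝟙 N)), ⊤) ≃ₗ[Γ(X, ⊤)] Γ(cokernel η, ⊤)) := by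
  classical
  have hchoice : ∀ z : {z : X // z ∉ W}, ∃ U : X.Opens, z.1 ∈ U ∧ IsTrivOn N U := fun z => hN z.1
  choose U hzU hUtriv using hchoice
  -- the complement of the other bad points
  have hTopen : ∀ z : {z : X // z ∉ W}, IsOpen (((W : Set X)ᶜ \ {z.1})ᶜ) := by
    intro z
    rw [isOpen_compl_iff]
    have h1 : ((W : Set X)ᶜ \ {z.1}).Finite := hfin.subset Set.sdiff_subset
    have h2 := h1.isClosed_biUnion (f := fun x => ({x} : Set X)) (fun x hx => hcl x hx.1)
    rwa [Set.biUnion_of_singleton] at h2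
  let T : {z : X // z ∉ W} → X.Opens := fun z => ⟨_, hTopen z⟩
  let V : {z : X // z ∉ W} → X.Opens := fun z => U z ⊓ T z
  have hzV : ∀ z, z.1 ∈ V z := fun z => ⟨hzU z, fun h => h.2 rfl⟩
  have hVtriv : ∀ z, IsTrivOn N (V z) := fun z => IsTrivOn.of_le inf_le_left (hUtriv z)
  have hVW : ∀ z (x : X), x ∈ V z → x ∈ W ∨ x = z.1 := by
    intro z x hx
    by_contra hcon
    push Not at hcon
    exact hx.2 ⟨hcon.1, hcon.2⟩
  let e : ∀ z, N.restrict (V z).ι ≅ Coh.structureModule (↑(V z) : Scheme.{u}) :=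
    fun z => (hVtriv z).some
  let O : {z : X // z ∉ W} → X.Opens := fun z => (V z).ι ''ᵁ ⊤
  have hO : ∀ z, O z = V z := fun z => Scheme.Opens.ι_image_top (V z)
  have hcov : (⊤ : X.Opens) ≤ W ⊔ ⨆ z, O z := by
    intro x _
    rw [Opens.mem_sup]
    by_cases hx : x ∈ W
    · exact Or.inl hx
    · refine Or.inr (Opens.mem_iSup.mpr ⟨⟨x, hx⟩, ?_⟩)
      rw [hO]
      exact hzV ⟨x, hx⟩
  have hpair : ∀ z z', z ≠ z' → O z ⊓ O z' ≤ W := by
    intro z z' hzz' x hx
    rw [hO, hO] at hx
    rcases hVW z x hx.1 with h | h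
    · exact h
    · rcases hVW z' x hx.2 with h' | h'
      · exact h'
      · exact absurd (Subtype.ext (h.symm.trans h')) hzz'
  have hM : ∀ P : X.Opens, P ≤ W → Subsingleton Γ(cokernel η, P) := fun P hP =>
    ⟨fun a b => (eq_zero_of_le_isoLocus η (hP.trans hW) a).trans
      (eq_zero_of_le_isoLocus η (hP.trans hW) b).symm⟩
  have hM' : ∀ P : X.Opens, P ≤ W → Subsingleton Γ(cokernel (tensorMap η (𝟙 N)), P) := fun P hP =>
    ⟨fun a b => (eq_zero_of_le_isoLocus _ ((hP.trans hW).trans (isoLocus_le_tensorMap η N hN)) a).trans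
      (eq_zero_of_le_isoLocus _ ((hP.trans hW).trans (isoLocus_le_tensorMap η N hN)) b).symm⟩
  exact nonempty_glueEquiv _ _ W hM' hM O hcov hpair
    (fun z => sectionsEquivOfRestrictIso _ _ (V z) (cokernelTensorRestrictIso η N (V z) (e z)))

end Main

end Groth.Agent.Lib.helper9.CurvePunctual
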