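import Mathlib
import Groth.Agent.Lib.Lead.CurveSec
import Groth.Agent.Lib.Helper8.FormalBasic

/-!
# Vanishing of `H¹` on integral proper curves without duality (helper9)

Let `X` be proper over a field `k`.
* `secHom F x : O_X ⟶ F` for `x ∈ H⁰(X, F)`; it is additive, compatible with the action of global
  functions, and `secHom F x = 0 ↔ x = 0`.
* `pairing k F : H⁰(F) →ₗ[k] (H¹(O) →ₗ[k] H¹(F))`, `x ↦ H¹(secHom F x)`.
* `finrank_H0_le_genus`: if every nonzero `s : O ⟶ F` induces a surjection on `H¹` and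
  `H¹(F) ≠ 0`, then `h⁰(F) ≤ h¹(O)` (choose `λ ≠ 0` on `H¹(F)`; `x ↦ λ ∘ H¹(secHom F x)` is an
  injection `H⁰(F) → H¹(O)^∨`).
-/

set_option autoImplicit false
set_option linter.style.haveILetI false
universe u
open CategoryTheory CategoryTheory.Limits AlgebraicGeometry Opposite TopologicalSpace Module

namespace Groth.Agent.Lib.helper9.CurveVanish

open Groth.Agent.Lib.Helper18 Groth.Agent.Lib.Helper20.SplitH1 Formal Groth.Agent.Lib.helper8.FF

section general

variable {X : Scheme.{u}}

/-- the morphism `O ⟶ F` attached to a class in `H⁰(F)` -/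
noncomputable def secHom (F : X.Modules) (x : Coh.HH X F 0) : Coh.structureModule X ⟶ F :=
  homOfGlobal F (HH.equiv₀ F x)

lemma secHom_top (F : X.Modules) (x : Coh.HH X F 0) :
    ((secHom F x).val.app (op ⊤)).hom (1 : X.ringCatSheaf.obj.obj (op ⊤)) = HH.equiv₀ F x :=
  homOfGlobal_top _ _

lemma secHom_add (F : X.Modules) (x y : Coh.HH X F 0) :
    secHom F (x + y) = secHom F x + secHom F y := by
  apply hom_ext_top
  rw [secHom_top, map_add]
  change _ = ((secHom F x).val.app (op ⊤)).hom (1 : X.ringCatSheaf.obj.obj (op ⊤)) +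
    ((secHom F y).val.app (op ⊤)).hom (1 : X.ringCatSheaf.obj.obj (op ⊤))
  rw [secHom_top, secHom_top]

lemma secHom_smul (F : X.Modules) (r : Coh.Γtop X) (x : Coh.HH X F 0) :
    secHom F (r • x) = secHom F x ≫ smulModΓ F r := by
  apply hom_ext_top
  rw [secHom_top, map_smul]
  change _ = ((smulModΓ F r).val.app (op ⊤)).hom
    (((secHom F x).val.app (op ⊤)).hom (1 : X.ringCatSheaf.obj.obj (op ⊤)))
  rw [secHom_top]
  change _ = Coh.resTop X (op ⊤) r • (HH.equiv₀ F x)
  rw [HH.resTop_top]

lemma secHom_eq_zero_iff (F : X.Modules) (x : Coh.HH X F 0) : secHom F x = 0 ↔ x = 0 := by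
  constructor
  · intro h
    apply (HH.equiv₀ F).injective
    rw [map_zero, ← secHom_top, h]
    rfl
  · rintro rfl
    apply hom_ext_top
    rw [secHom_top, map_zero]
    rfl

end general

section overField

variable (k : Type u) [Field k] {X : Scheme.{u}} [X.Over (Spec (CommRingCat.of k))]

/-- `x ↦ H¹(secHom F x)`, as a `k`-bilinear pairing `H⁰(F) × H¹(O) → H¹(F)` -/
noncomputable def pairing (F : X.Modules) :
    Coh.HH X F 0 →ₗ[k] (Coh.HH X (Coh.structureModule X) 1 →ₗ[k] Coh.HH X F 1) where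
  toFun x := HH.mapOver k (secHom F x) 1
  map_add' x y := by
    ext ξ
    change HH.map (secHom F (x + y)) 1 ξ = HH.map (secHom F x) 1 ξ + HH.map (secHom F y) 1 ξ
    rw [secHom_add, HH.map_add]
    rfl
  map_smul' a x := by
    ext ξ
    change HH.map (secHom F (a • x)) 1 ξ = a • HH.map (secHom F x) 1 ξ
    have h1 : (a • x : Coh.HH X F 0) = (Coh.toGlobal (X ↘ Spec (CommRingCat.of k)) a) • x := rfl
    rw [h1, secHom_smul, HH.map_comp_apply]
    rfl

lemma pairing_apply (F : X.Modules) (x : Coh.HH X F 0) (ξ : Coh.HH X (Coh.structureModule X) 1) :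
    pairing k F x ξ = HH.map (secHom F x) 1 ξ := rfl

variable (X) [IsProper (X ↘ Spec (CommRingCat.of k))]

/-- **Key lemma**: if every nonzero section `s : O ⟶ F` induces a surjection `H¹(O) → H¹(F)` and
`H¹(F) ≠ 0`, then `h⁰(F) ≤ h¹(O)`. -/
theorem finrank_H0_le_genus (F : X.Modules)
    (hsurj : ∀ s : Coh.structureModule X ⟶ F, s ≠ 0 → Function.Surjective (HH.map s 1))
    (h1 : Nontrivial (Coh.HH X F 1)) :
    finrank k (Coh.HH X F 0) ≤ Curv2.genus k X := by
  have hOc : Coh.IsCoh (Coh.structureModule X) :=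
    Groth.Agent.Lib.Lead.CurveInv.isCoh_of_isInvertible X
      (Groth.Agent.Lib.helper11.InvMod.isInvertible_structureModule X)
  haveI : Module.Finite k (Coh.HH X (Coh.structureModule X) 1) :=
    Groth.Agent.Lib.Lead.ProperEuler.finite_HH k X _ hOc 1
  haveI : Module.Free k (Coh.HH X F 1) := Module.Free.of_divisionRing k _
  haveI : Module.Projective k (Coh.HH X F 1) := Module.Projective.of_free
  obtain ⟨v, hv⟩ := exists_ne (0 : Coh.HH X F 1)
  obtain ⟨lam, hlam⟩ : ∃ lam : Module.Dual k (Coh.HH X F 1), lam v ≠ 0 := by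
    by_contra hcon
    push Not at hcon
    exact hv ((Module.forall_dual_apply_eq_zero_iff k v).mp hcon)
  -- the injection `H⁰(F) → H¹(O)^∨`
  let Ψ : Coh.HH X F 0 →ₗ[k] Module.Dual k (Coh.HH X (Coh.structureModule X) 1) :=
    (LinearMap.llcomp k _ _ _ lam) ∘ₗ pairing k F
  have hΨ : Function.Injective Ψ := by
    rw [injective_iff_map_eq_zero]
    intro x hx
    by_contra hx0
    have hs : secHom F x ≠ 0 := fun h => hx0 ((secHom_eq_zero_iff F x).mp h)
    obtain ⟨ξ, hξ⟩ := hsurj _ hs v
    have h2 : Ψ x ξ = lam v := by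
      change lam (HH.map (secHom F x) 1 ξ) = lam v
      rw [hξ]
    rw [hx] at h2
    exact hlam h2.symm
  have h3 := LinearMap.finrank_le_finrank_of_injective hΨ
  rw [Subspace.dual_finrank_eq] at h3
  exact h3

end overField

section algClosed

variable (k : Type u) [Field k] [IsAlgClosed k] (X : Scheme.{u}) [X.Over (Spec (CommRingCat.of k))]
  [IsProper (X ↘ Spec (CommRingCat.of k))] [IsIntegral X]

/-- on an integral proper scheme over an algebraically closed field, `H⁰(X, O_X) = k` -/
theorem finrank_H0_structureModule_eq_one :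
    finrank k (Coh.HH X (Coh.structureModule X) 0) = 1 := by
  let φ : k →+* Γ(X, ⊤) := Coh.toGlobal (X ↘ Spec (CommRingCat.of k))
  letI alg : Algebra k Γ(X, ⊤) := φ.toAlgebra
  have hOc : Coh.IsCoh (Coh.structureModule X) :=
    Groth.Agent.Lib.Lead.CurveInv.isCoh_of_isInvertible X
      (Groth.Agent.Lib.helper11.InvMod.isInvertible_structureModule X)
  haveI : Module.Finite k (Coh.HH X (Coh.structureModule X) 0) :=
    Groth.Agent.Lib.Lead.ProperEuler.finite_HH k X _ hOc 0
  let e' : Coh.HH X (Coh.structureModule X) 0 ≃ₗ[k] Γ(X, ⊤) :=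
    { (HH.equiv₀ (Coh.structureModule X)).toAddEquiv with
      map_smul' := fun a x => (HH.equiv₀ (Coh.structureModule X)).map_smul (φ a) x }
  haveI : Module.Finite k Γ(X, ⊤) := Module.Finite.equiv e'
  haveI : Nonempty (⊤ : X.Opens) := ⟨⟨Classical.arbitrary X, trivial⟩⟩
  haveI : IsDomain Γ(X, ⊤) := inferInstance
  haveI : Algebra.IsIntegral k Γ(X, ⊤) := Algebra.IsIntegral.of_finite k _
  have hbij : Function.Bijective (algebraMap k Γ(X, ⊤)) :=
    IsAlgClosed.algebraMap_bijective_of_isIntegral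
  let e'' : k ≃ₗ[k] Γ(X, ⊤) := LinearEquiv.ofBijective (Algebra.linearMap k Γ(X, ⊤)) hbij
  rw [e'.finrank_eq, ← e''.finrank_eq, finrank_self]

end algClosed

section vanishing

variable (k : Type u) [Field k] (X : Scheme.{u}) [X.Over (Spec (CommRingCat.of k))]
  [IsProper (X ↘ Spec (CommRingCat.of k))] [IsIntegral X]

include k in
open Groth.Agent.Lib.Lead.CurveInv Groth.Agent.Lib.helper11.InvMod in
/-- every nonzero section of an invertible module on an integral proper curve induces a surjection on `H¹` -/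
theorem surjective_H1_of_section (hdim : topologicalKrullDim X ≤ 1) {L : X.Modules}
    (hL : PicF.IsInvertible L) (s : Coh.structureModule X ⟶ L) (hs : s ≠ 0) :
    Function.Surjective (HH.map s 1) := by
  have hS := shortExact_cokernel X (isInvertible_structureModule X) hL s hs
  exact HH.surjective_map_f hS 1
    (subsingleton_HH_cokernel k X hdim (isInvertible_structureModule X) hL s hs 0)

/-- **Vanishing without duality**: on an integral proper curve with `h⁰(O) = 1`, an invertible module with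
`H¹(L) ≠ 0` has `deg L ≤ 2g − 2`. -/
theorem deg_le_of_H1_nontrivial (hdim : topologicalKrullDim X ≤ 1)
    (h0 : finrank k (Coh.HH X (Coh.structureModule X) 0) = 1)
    {L : X.Modules} (hL : PicF.IsInvertible L) (h1 : Nontrivial (Coh.HH X L 1)) :
    Curv2.deg k X L 1 ≤ 2 * (Curv2.genus k X : ℤ) - 2 := by
  have hLc := Groth.Agent.Lib.Lead.CurveInv.isCoh_of_isInvertible X hL
  have hle := finrank_H0_le_genus k X L
    (fun s hs => surjective_H1_of_section k X hdim hL s hs) h1
  have hrr := Groth.Agent.Lib.Lead.CurveEuler.riemann_roch' k X hdim h0 L hLc.1 1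
  haveI : Module.Finite k (Coh.HH X L 1) := Groth.Agent.Lib.Lead.ProperEuler.finite_HH k X _ hLc 1
  have hpos : 0 < finrank k (Coh.HH X L 1) := Module.finrank_pos
  have hle' : (finrank k (Coh.HH X L 0) : ℤ) ≤ (Curv2.genus k X : ℤ) := by exact_mod_cast hle
  have hpos' : (1 : ℤ) ≤ (finrank k (Coh.HH X L 1) : ℤ) := by exact_mod_cast hpos
  push_cast at hrr
  linarith

/-- `deg L ≥ 2g − 1` forces `H¹(L) = 0` -/
theorem subsingleton_H1_of_deg_ge (hdim : topologicalKrullDim X ≤ 1)
    (h0 : finrank k (Coh.HH X (Coh.structureModule X) 0) = 1)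
    {L : X.Modules} (hL : PicF.IsInvertible L)
    (hdeg : 2 * (Curv2.genus k X : ℤ) - 1 ≤ Curv2.deg k X L 1) : Subsingleton (Coh.HH X L 1) := by
  by_contra h
  rw [not_subsingleton_iff_nontrivial] at h
  have := deg_le_of_H1_nontrivial k X hdim h0 hL h
  linarith

end vanishing

end Groth.Agent.Lib.helper9.CurveVanish
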