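import Mathlib
import Groth.Agent.Lib.Helper9.CurveVanish
import Groth.Agent.Lib.Helper9.CurvePunctual
import Groth.Agent.Lib.Helper7.IdealMod
import Groth.Agent.Lib.Helper8.DevCore
import Groth.Agent.Lib.Helper20.DimZeroClosed
import Groth.Agent.Lib.Helper3.TopDim
import Groth.Agent.Lib.Helper11.SerreGG

/-!
# Twists of punctual modules and of ideal sheaves on proper curves (helper9)

* `finrank_H0_cokernel_tensor`: `h⁰(coker (η ⊗ N)) = h⁰(coker η)` when `η` is an isomorphism outside a finite set of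
  closed points and `N` is invertible.
* `finite_compl_of_forall_isClosed_singleton`: in a Noetherian scheme, a closed set of closed points is finite.
* `deg_le_of_H1_idealTwist_nontrivial` (= S1531): on an integral proper curve with `h⁰(O) = 1`,
  `H¹(I_Z ⊗ L) ≠ 0 ⇒ deg L ≤ 2g − 2 + deg Z`, and the Euler characteristic formula
  `euler_idealTwist : χ(I_Z ⊗ L) = deg L + χ(O) − deg Z`.
-/

set_option autoImplicit false
set_option linter.style.haveILetI false
universe u
open CategoryTheory CategoryTheory.Limits AlgebraicGeometry Opposite TopologicalSpace Module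
open Scheme.Modules

namespace Groth.Agent.Lib.helper9.CurveTwist

open Groth.Agent.Lib.Helper18 Groth.Agent.Lib.helper11.IsoLocus Groth.Agent.Lib.helper11.InvMod
open Groth.Agent.Lib.Lead.ModTensor Groth.Agent.Lib.helper9.CurvePunctual
open Groth.Agent.Lib.helper9.CurveVanish

section general

variable (k : Type u) [Field k] {X : Scheme.{u}} [X.Over (Spec (CommRingCat.of k))]

/-- a `Γ(X, ⊤)`-linear equivalence of global sections gives a `k`-linear equivalence of `H⁰` -/
theorem finrank_H0_eq_of_sections_equiv (M M' : X.Modules)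
    (θ : Γ(M, ⊤) ≃ₗ[Γ(X, ⊤)] Γ(M', ⊤)) :
    finrank k (Coh.HH X M 0) = finrank k (Coh.HH X M' 0) := by
  let E : Coh.HH X M 0 ≃ₗ[k] Coh.HH X M' 0 :=
    { toFun := fun x => (HH.equiv₀ M').symm (θ (HH.equiv₀ M x))
      invFun := fun y => (HH.equiv₀ M).symm (θ.symm (HH.equiv₀ M' y))
      left_inv := fun x => by
        simp only [LinearEquiv.apply_symm_apply, LinearEquiv.symm_apply_apply]
      right_inv := fun y => by
        simp only [LinearEquiv.apply_symm_apply, LinearEquiv.symm_apply_apply]
      map_add' := fun x y => by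
        have h1 : HH.equiv₀ M (x + y) = HH.equiv₀ M x + HH.equiv₀ M y := map_add _ _ _
        have h2 : θ (HH.equiv₀ M x + HH.equiv₀ M y) = θ (HH.equiv₀ M x) + θ (HH.equiv₀ M y) :=
          θ.map_add _ _
        exact (congrArg (HH.equiv₀ M').symm ((congrArg θ h1).trans h2)).trans
          (map_add (HH.equiv₀ M').symm _ _)
      map_smul' := fun a x => by
        let r : Coh.Γtop X := Coh.toGlobal (X ↘ Spec (CommRingCat.of k)) a
        have s1 : HH.equiv₀ M (r • x) = r • HH.equiv₀ M x := (HH.equiv₀ M).map_smul r x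
        have s2 : θ ((show Γ(X, ⊤) from r) • (show Γ(M, ⊤) from HH.equiv₀ M x)) =
            (show Γ(X, ⊤) from r) • θ (HH.equiv₀ M x) := θ.map_smul _ _
        have s3 : (HH.equiv₀ M').symm (r • (show M'.val.obj (op ⊤) from θ (HH.equiv₀ M x))) =
            r • (HH.equiv₀ M').symm (θ (HH.equiv₀ M x)) := (HH.equiv₀ M').symm.map_smul r _
        exact (congrArg (HH.equiv₀ M').symm ((congrArg θ s1).trans s2)).trans s3 }
  exact E.finrank_eq

/-- `h⁰(coker (η ⊗ N)) = h⁰(coker η)` for `η` an isomorphism outside finitely many closed points -/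
theorem finrank_H0_cokernel_tensor {A B : X.Modules} (η : A ⟶ B) {N : X.Modules}
    (hN : PicF.IsInvertible N) (W : X.Opens) (hW : W ≤ isoLocus η)
    (hfin : ((W : Set X)ᶜ).Finite) (hcl : ∀ x, x ∉ W → IsClosed ({x} : Set X)) :
    finrank k (Coh.HH X (cokernel (tensorMap η (𝟙 N))) 0) = finrank k (Coh.HH X (cokernel η) 0) := by
  obtain ⟨θ⟩ := nonempty_sections_cokernel_tensor_equiv η hN W hW hfin hcl
  exact finrank_H0_eq_of_sections_equiv k _ _ θ

end general

section noeth

variable {X : Scheme.{u}}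

/-- in a Noetherian scheme, a closed set all of whose points are closed is finite -/
theorem finite_of_forall_isClosed_singleton [IsNoetherian X] (Z : Set X) (hZ : IsClosed Z)
    (hcl : ∀ x ∈ Z, IsClosed ({x} : Set X)) : Z.Finite := by
  obtain ⟨S, hSfin, hSirr, hS⟩ :=
    NoetherianSpace.exists_finite_set_closeds_irreducible (⟨Z, hZ⟩ : Closeds X)
  have hZeq : Z = ⋃ t ∈ S, (t : Set X) := by
    have h1 := congrArg (fun c : Closeds X => (c : Set X)) hS
    have h2 : closure (⋃ t ∈ S, (t : Set X)) = ⋃ t ∈ S, (t : Set X) :=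
      (hSfin.isClosed_biUnion fun t _ => t.isClosed).closure_eq
    rw [← h2]
    simpa [Closeds.coe_sSup] using h1
  rw [hZeq]
  refine hSfin.biUnion fun t ht => ?_
  obtain ⟨x, hx⟩ := QuasiSober.sober (hSirr t ht) t.isClosed
  have hxt : x ∈ (t : Set X) := hx.mem
  have hxZ : x ∈ Z := by
    rw [hZeq]
    exact Set.mem_biUnion ht hxt
  have h1 : (t : Set X) = {x} := by
    rw [← hx.def, (hcl x hxZ).closure_eq]
  rw [h1]
  exact Set.finite_singleton x

end noeth

section iso

variable (k : Type u) [Field k] {X : Scheme.{u}} [X.Over (Spec (CommRingCat.of k))]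

theorem finrank_HH_eq_of_iso {F G : X.Modules} (e : F ≅ G) (i : ℕ) :
    finrank k (Coh.HH X F i) = finrank k (Coh.HH X G i) :=
  LinearEquiv.finrank_eq
    { HH.mapOver k e.hom i with
      invFun := HH.mapOver k e.inv i
      left_inv := fun x => by
        change HH.map e.inv i (HH.map e.hom i x) = x
        rw [← HH.map_comp_apply, e.hom_inv_id, HH.map_id]
        rfl
      right_inv := fun x => by
        change HH.map e.hom i (HH.map e.inv i x) = x
        rw [← HH.map_comp_apply, e.inv_hom_id, HH.map_id]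
        rfl }

end iso

section ideal

variable (k : Type u) [Field k] (X : Scheme.{u}) [X.Over (Spec (CommRingCat.of k))]
  [IsProper (X ↘ Spec (CommRingCat.of k))] [IsIntegral X]

open Groth.Agent.Lib.helper7 Groth.Agent.Lib.helper11.TwistH1

/-- if `g` is a monomorphism and `f ≫ g` is an isomorphism then `f` is an isomorphism -/
theorem isIso_of_isIso_comp_mono {C : Type*} [Category C] {A B D : C} (f : A ⟶ B) (g : B ⟶ D)
    [Mono g] [IsIso (f ≫ g)] : IsIso f := by
  haveI : IsSplitEpi g := IsSplitEpi.mk' ⟨inv (f ≫ g) ≫ f, by rw [Category.assoc, IsIso.inv_hom_id]⟩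
  haveI : IsIso g := isIso_of_mono_of_isSplitEpi g
  exact IsIso.of_isIso_comp_right f g

include k in
/-- a nonzero morphism `s : O ⟶ F` into a submodule `F ↪ L'` of an invertible module induces a surjection
on `H¹` (its cokernel is punctual) -/
theorem surjective_H1_of_section_of_mono (hdim : topologicalKrullDim X ≤ 1) {F L' : X.Modules}
    (hL' : PicF.IsInvertible L') (j : F ⟶ L') [Mono j]
    (s : Coh.structureModule X ⟶ F) (hs : s ≠ 0) : Function.Surjective (HH.map s 1) := by
  haveI := Groth.Agent.Lib.Lead.CurveEuler.isNoetherian k X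
  have hO := isInvertible_structureModule X
  have hψ : s ≫ j ≠ 0 := fun h => hs ((cancel_mono j).mp (h.trans zero_comp.symm))
  let U := isoLocus (s ≫ j)
  have hUne : ((U : X.Opens) : Set X).Nonempty :=
    Groth.Agent.Lib.Lead.CurveInv.isoLocus_nonempty X hO hL' (s ≫ j) hψ
  -- `s` is an isomorphism on `U`
  have hUs : U ≤ isoLocus s := by
    rw [le_isoLocus_iff]
    haveI : Mono ((restrictFunctor U.ι).map j) := mono_restrict j U
    haveI : IsIso ((restrictFunctor U.ι).map s ≫ (restrictFunctor U.ι).map j) := by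
      rw [← Functor.map_comp]
      exact isIso_restrict_isoLocus (s ≫ j)
    exact isIso_of_isIso_comp_mono ((restrictFunctor U.ι).map s) ((restrictFunctor U.ι).map j)
  haveI : Mono (s ≫ j) := Groth.Agent.Lib.Lead.CurveInv.mono_of_ne_zero hO hL' (s ≫ j) hψ
  haveI : Mono s := mono_of_mono s j
  have hS : (ShortComplex.mk s (cokernel.π s) (cokernel.condition s)).ShortExact :=
    { exact := ShortComplex.exact_cokernel s
      mono_f := inferInstance
      epi_g := inferInstanceAs (Epi (cokernel.π s)) }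
  have h3 : Subsingleton (Coh.HH X (cokernel s) 1) :=
    Groth.Agent.Lib.Lead.DimOneVanish.subsingleton_HH_of_sections_vanish (cokernel s) U
      (fun x hx => Groth.Agent.Lib.Lead.CurveInv.isClosed_singleton_of_not_mem hdim U hUne x hx)
      (fun P hP => ⟨fun a b => (eq_zero_of_le_isoLocus s (hP.trans hUs) a).trans
        (eq_zero_of_le_isoLocus s (hP.trans hUs) b).symm⟩) 0
  exact HH.surjective_map_f hS 1 h3

/-- **The twisted ideal sheaf** `I_Z ⊗ L` of a zero-dimensional closed subscheme of an integral proper curve: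
it is coherent, `χ(I_Z ⊗ L) = χ(L) − h⁰(O_Z)`, and every nonzero section induces a surjection
`H¹(O) → H¹(I_Z ⊗ L)`. -/
theorem idealTwist_main (hdim : topologicalKrullDim X ≤ 1)
    (L : X.Modules) (hL : PicF.IsInvertible L) (Z : X.IdealSheafData)
    (hZ : topologicalKrullDim (Z.support : Set X) ≤ 0) :
    Coh.IsCoh (CohB1.tensorMod (ClSub.idealMod Z) L) ∧
    Curv2.euler k X (CohB1.tensorMod (ClSub.idealMod Z) L) =
      Curv2.euler k X L - (finrank k (Coh.HH X (ClSub.quotMod Z) 0) : ℤ) ∧
    (∀ s : Coh.structureModule X ⟶ CohB1.tensorMod (ClSub.idealMod Z) L, s ≠ 0 →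
      Function.Surjective (HH.map s 1)) := by
  haveI := Groth.Agent.Lib.Lead.CurveEuler.isNoetherian k X
  let ι : ClSub.idealMod Z ⟶ Coh.structureModule X := ClSub.idealModι Z
  let φ : CohB1.tensorMod (ClSub.idealMod Z) L ⟶ CohB1.tensorMod (Coh.structureModule X) L :=
    tensorMap ι (𝟙 L)
  haveI : Mono ι := IdealMod.mono_idealModι Z
  haveI hφmono : Mono φ := mono_tensorMap_left ι hL
  let lam : CohB1.tensorMod (Coh.structureModule X) L ≅ L := leftUnitor L
  -- the complement of the support
  let W : X.Opens := ⟨((Z.support : Closeds X) : Set X)ᶜ, Z.support.isClosed.isOpen_compl⟩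
  have hWι : W ≤ isoLocus ι :=
    le_isoLocus_kernel_ι (ClSub.toSubscheme Z) W (fun V hV =>
      subsingleton_quotMod_of_disjoint Z V (Set.disjoint_left.mpr fun x hxV hxZ => hV hxV hxZ))
  have hcl : ∀ x, x ∉ W → IsClosed ({x} : Set X) := fun x hx =>
    Groth.Agent.Lib.Helper20.DimZeroClosed.isClosed_singleton_of_dim_le_zero
      (Z.support : Set X) Z.support.isClosed hZ x (by
        by_contra h
        exact hx h)
  have hfin : ((W : Set X)ᶜ).Finite :=
    finite_of_forall_isClosed_singleton _ W.isOpen.isClosed_compl (fun x hx => hcl x hx)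
  -- coherence
  have hOc : Coh.IsCoh (Coh.structureModule X) :=
    Groth.Agent.Lib.Lead.CurveInv.isCoh_of_isInvertible X (isInvertible_structureModule X)
  have hQc : Coh.IsCoh (ClSub.quotMod Z) :=
    Groth.Agent.Lib.helper8.Dev.isCoh_push_structureModule Z.subschemeι
  have hIc : Coh.IsCoh (ClSub.idealMod Z) := CohKer.isCoh_kernel hOc hQc (ClSub.toSubscheme Z)
  have hLc := Groth.Agent.Lib.Lead.CurveInv.isCoh_of_isInvertible X hL
  haveI : (ClSub.idealMod Z).IsQuasicoherent := hIc.1
  haveI : L.IsQuasicoherent := hLc.1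
  have hFc : Coh.IsCoh (CohB1.tensorMod (ClSub.idealMod Z) L) :=
    ⟨Groth.Agent.Lib.helper2.TensorQCoh.isQuasicoherent_tensorMod _ _,
      Groth.Agent.Lib.helper2.TensorQCoh.isFiniteType_tensorMod _ _ hIc.2 hLc.2⟩
  have hL'c : Coh.IsCoh (CohB1.tensorMod (Coh.structureModule X) L) :=
    CohKer.isCoh_of_iso lam.symm hLc
  have hCc : Coh.IsCoh (cokernel φ) := CohKer.isCoh_cokernel hFc hL'c φ
  refine ⟨hFc, ?_, ?_⟩
  · -- Euler characteristic
    have hS : (ShortComplex.mk φ (cokernel.π φ) (cokernel.condition φ)).ShortExact :=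
      { exact := ShortComplex.exact_cokernel φ
        mono_f := hφmono
        epi_g := inferInstanceAs (Epi (cokernel.π φ)) }
    have h1 := Groth.Agent.Lib.Lead.ProperEuler.euler_additive k hS hFc hCc
    simp only at h1
    have h2 : Curv2.euler k X (CohB1.tensorMod (Coh.structureModule X) L) = Curv2.euler k X L :=
      Groth.Agent.Lib.Lead.CurveEuler.euler_eq_of_iso k X lam
    have hWφ : W ≤ isoLocus φ := hWι.trans (isoLocus_le_tensorMap ι L hL)
    have h3 : Curv2.euler k X (cokernel φ) = (finrank k (Coh.HH X (cokernel φ) 0) : ℤ) := by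
      rw [HH.euler_eq_sum k (cokernel φ) 0 (fun i hi => by
        obtain ⟨m, rfl⟩ : ∃ m, i = m + 1 := ⟨i - 1, by omega⟩
        exact Groth.Agent.Lib.Lead.DimOneVanish.subsingleton_HH_of_sections_vanish (cokernel φ) W hcl
          (fun P hP => ⟨fun a b => (eq_zero_of_le_isoLocus φ (hP.trans hWφ) a).trans
            (eq_zero_of_le_isoLocus φ (hP.trans hWφ) b).symm⟩) m)]
      simp
    have h4 : finrank k (Coh.HH X (cokernel φ) 0) = finrank k (Coh.HH X (cokernel ι) 0) :=
      finrank_H0_cokernel_tensor k ι hL W hWι hfin hcl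
    have h5 : finrank k (Coh.HH X (cokernel ι) 0) = finrank k (Coh.HH X (ClSub.quotMod Z) 0) :=
      finrank_HH_eq_of_iso k (IdealMod.cokernelIdealModιIso Z) 0
    rw [h2, h3, h4, h5] at h1
    linarith
  · intro s hs
    haveI : Mono (φ ≫ lam.hom) := mono_comp φ lam.hom
    exact surjective_H1_of_section_of_mono k X hdim hL (φ ≫ lam.hom) s hs

/-- **S1531**: `H¹(I_Z ⊗ L) ≠ 0 ⇒ deg L ≤ 2g − 2 + deg Z`. -/
theorem deg_le_of_H1_idealTwist_nontrivial (hdim : topologicalKrullDim X ≤ 1)
    (h0 : finrank k (Coh.HH X (Coh.structureModule X) 0) = 1)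
    (L : X.Modules) (hL : PicF.IsInvertible L) (Z : X.IdealSheafData)
    (hZ : topologicalKrullDim (Z.support : Set X) ≤ 0)
    (h1 : Nontrivial (Coh.HH X (CohB1.tensorMod (ClSub.idealMod Z) L) 1)) :
    Curv2.deg k X L 1 ≤ 2 * (Curv2.genus k X : ℤ) - 2 +
      finrank k (Coh.HH X (ClSub.quotMod Z) 0) := by
  obtain ⟨hFc, heul, hsurj⟩ := idealTwist_main k X hdim L hL Z hZ
  have hle := finrank_H0_le_genus k X _ hsurj h1
  have hLc := Groth.Agent.Lib.Lead.CurveInv.isCoh_of_isInvertible X hL
  have e1 := Groth.Agent.Lib.Lead.CurveEuler.euler_eq k X hdim _ hFc.1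
  have hO : Coh.IsQCoh (Coh.structureModule X) := inferInstance
  have e3 := Groth.Agent.Lib.Lead.CurveEuler.euler_eq k X hdim (Coh.structureModule X) hO
  haveI : Module.Finite k (Coh.HH X (CohB1.tensorMod (ClSub.idealMod Z) L) 1) :=
    Groth.Agent.Lib.Lead.ProperEuler.finite_HH k X _ hFc 1
  have hpos : 0 < finrank k (Coh.HH X (CohB1.tensorMod (ClSub.idealMod Z) L) 1) := Module.finrank_pos
  have hle' : (finrank k (Coh.HH X (CohB1.tensorMod (ClSub.idealMod Z) L) 0) : ℤ) ≤
      (Curv2.genus k X : ℤ) := by exact_mod_cast hle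
  have hpos' : (1 : ℤ) ≤ (finrank k (Coh.HH X (CohB1.tensorMod (ClSub.idealMod Z) L) 1) : ℤ) := by
    exact_mod_cast hpos
  have hg : (Curv2.genus k X : ℤ) = (finrank k (Coh.HH X (Coh.structureModule X) 1) : ℤ) := rfl
  unfold Curv2.deg
  rw [e3, h0]
  rw [e1] at heul
  push_cast
  linarith

end ideal

end Groth.Agent.Lib.helper9.CurveTwist
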