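import Mathlib
import Groth.Agent.Lib.Helper9.CurveTwist
import Groth.Agent.Lib.Helper12.PullTensor
import Groth.Agent.Lib.Helper7.QCohPushQC
import Groth.Agent.Lib.Helper20.AcyclicEmb

/-!
# Additivity of the degree on integral proper curves (helper9)

Let `X` be an integral proper curve over a field `k` (no assumption on `H⁰(O)`).
* `mono_of_isoLocus_nonempty`: a morphism out of an invertible module on an integral scheme which is an isomorphism on a
  nonempty open is a monomorphism.
* `euler_sub_of_mono`: `χ(G) − χ(F) = h⁰(coker j)` for a mono `j : F ⟶ G` of coherent modules, iso on a nonempty open.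
* `euler_tensor_sub`: `χ(G ⊗ B) − χ(F ⊗ B) = χ(G) − χ(F)` for such `j` and `B` invertible.
* `exists_common_submodule`: for `A` invertible there is a coherent `F` with monos `F ⟶ A`, `F ⟶ O`, isomorphisms on a common
  nonempty open (zigzag through `j_*(A|_U)`).
* `euler_tensorMod`, `deg_tensorMod`: `χ(A ⊗ B) = χ(A) + χ(B) − χ(O)`, `deg (A ⊗ B) = deg A + deg B` for invertible `A`, `B`.
* `deg_tensorPow`: `deg L^{⊗ n} = n · deg L`.
-/

set_option autoImplicit false
set_option linter.style.haveILetI false
universe u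
open CategoryTheory CategoryTheory.Limits AlgebraicGeometry Opposite TopologicalSpace Module
open Scheme.Modules

namespace Groth.Agent.Lib.helper9.CurveDegAdd

open Groth.Agent.Lib.Helper18 Groth.Agent.Lib.helper11.IsoLocus Groth.Agent.Lib.helper11.InvMod
open Groth.Agent.Lib.Lead.ModTensor Groth.Agent.Lib.helper9.CurvePunctual
open Groth.Agent.Lib.helper9.CurveVanish Groth.Agent.Lib.helper9.CurveTwist
open Groth.Agent.Lib.Lead.CurveInv Groth.Agent.Lib.Lead.CurveEuler
open Groth.Agent.Lib.helper11.TwistH1 Groth.Agent.Lib.helper7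

section general

variable {X : Scheme.{u}}

/-- a morphism out of an invertible module on an integral scheme which is an isomorphism on a nonempty open is a
monomorphism -/
theorem mono_of_isoLocus_nonempty [IsIntegral X] {N G : X.Modules} (hN : PicF.IsInvertible N)
    (φ : N ⟶ G) (hWne : ((isoLocus φ : X.Opens) : Set X).Nonempty) : Mono φ := by
  apply Groth.Agent.Lib.Helper20.AcyclicEmb.mono_of_injective_app
  intro O
  rw [injective_iff_map_eq_zero]
  intro t ht
  apply res_eq_zero_of_isInvertible hN hWne t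
  haveI : IsIso (φ.app (O ⊓ isoLocus φ)) := isIso_app_of_le_isoLocus φ inf_le_right
  have hinj : Function.Injective (φ.app (O ⊓ isoLocus φ)) := by
    have : Mono (φ.app (O ⊓ isoLocus φ)) := inferInstance
    exact (AddCommGrpCat.mono_iff_injective _).mp this
  apply hinj
  rw [map_zero]
  have nat := congrFun (congrArg (fun g => (AddCommGrpCat.Hom.hom g : _ → _))
    (φ.mapPresheaf.naturality (homOfLE (inf_le_left : O ⊓ isoLocus φ ≤ O)).op)) t
  have nat' : (φ.app (O ⊓ isoLocus φ)).hom
      (N.presheaf.map (homOfLE (inf_le_left : O ⊓ isoLocus φ ≤ O)).op t) =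
      G.presheaf.map (homOfLE (inf_le_left : O ⊓ isoLocus φ ≤ O)).op ((φ.app O).hom t) := nat
  exact nat'.trans (by rw [ht, map_zero])

end general

section curve

variable (k : Type u) [Field k] (X : Scheme.{u}) [X.Over (Spec (CommRingCat.of k))]
  [IsProper (X ↘ Spec (CommRingCat.of k))] [IsIntegral X]

/-- `χ(G) − χ(F) = h⁰(coker j)` for a monomorphism of coherent modules which is an isomorphism on a nonempty open -/
theorem euler_sub_of_mono (hdim : topologicalKrullDim X ≤ 1) {F G : X.Modules}
    (hF : Coh.IsCoh F) (hG : Coh.IsCoh G) (j : F ⟶ G) [Mono j] (W : X.Opens)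
    (hW : W ≤ isoLocus j) (hWne : (W : Set X).Nonempty) :
    Curv2.euler k X G - Curv2.euler k X F = (finrank k (Coh.HH X (cokernel j) 0) : ℤ) := by
  haveI := Groth.Agent.Lib.Lead.CurveEuler.isNoetherian k X
  have hcl : ∀ x, x ∉ W → IsClosed ({x} : Set X) := fun x hx =>
    isClosed_singleton_of_not_mem hdim W hWne x hx
  have hCc : Coh.IsCoh (cokernel j) := CohKer.isCoh_cokernel hF hG j
  have hS : (ShortComplex.mk j (cokernel.π j) (cokernel.condition j)).ShortExact :=
    { exact := ShortComplex.exact_cokernel j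
      mono_f := inferInstanceAs (Mono j)
      epi_g := inferInstanceAs (Epi (cokernel.π j)) }
  have h1 := Groth.Agent.Lib.Lead.ProperEuler.euler_additive k hS hF hCc
  simp only at h1
  have h3 : Curv2.euler k X (cokernel j) = (finrank k (Coh.HH X (cokernel j) 0) : ℤ) := by
    rw [HH.euler_eq_sum k (cokernel j) 0 (fun i hi => by
      obtain ⟨m, rfl⟩ : ∃ m, i = m + 1 := ⟨i - 1, by omega⟩
      exact Groth.Agent.Lib.Lead.DimOneVanish.subsingleton_HH_of_sections_vanish (cokernel j) W hcl
        (fun P hP => ⟨fun a b => (eq_zero_of_le_isoLocus j (hP.trans hW) a).trans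
          (eq_zero_of_le_isoLocus j (hP.trans hW) b).symm⟩) m)]
    simp
  rw [h1, h3]
  ring

/-- tensoring with an invertible module does not change `χ(G) − χ(F)` -/
theorem euler_tensor_sub (hdim : topologicalKrullDim X ≤ 1) {F G : X.Modules}
    (hF : Coh.IsCoh F) (hG : Coh.IsCoh G) (j : F ⟶ G) [Mono j] (W : X.Opens)
    (hW : W ≤ isoLocus j) (hWne : (W : Set X).Nonempty) {B : X.Modules} (hB : PicF.IsInvertible B) :
    Curv2.euler k X (CohB1.tensorMod G B) - Curv2.euler k X (CohB1.tensorMod F B) =
      Curv2.euler k X G - Curv2.euler k X F := by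
  haveI := Groth.Agent.Lib.Lead.CurveEuler.isNoetherian k X
  have hcl : ∀ x, x ∉ W → IsClosed ({x} : Set X) := fun x hx =>
    isClosed_singleton_of_not_mem hdim W hWne x hx
  have hfin : ((W : Set X)ᶜ).Finite :=
    finite_of_forall_isClosed_singleton _ W.isOpen.isClosed_compl (fun x hx => hcl x hx)
  have hBc := isCoh_of_isInvertible X hB
  haveI : F.IsQuasicoherent := hF.1
  haveI : G.IsQuasicoherent := hG.1
  haveI : B.IsQuasicoherent := hBc.1
  have hFB : Coh.IsCoh (CohB1.tensorMod F B) :=
    ⟨Groth.Agent.Lib.helper2.TensorQCoh.isQuasicoherent_tensorMod _ _,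
      Groth.Agent.Lib.helper2.TensorQCoh.isFiniteType_tensorMod _ _ hF.2 hBc.2⟩
  have hGB : Coh.IsCoh (CohB1.tensorMod G B) :=
    ⟨Groth.Agent.Lib.helper2.TensorQCoh.isQuasicoherent_tensorMod _ _,
      Groth.Agent.Lib.helper2.TensorQCoh.isFiniteType_tensorMod _ _ hG.2 hBc.2⟩
  haveI : Mono (tensorMap j (𝟙 B)) := mono_tensorMap_left j hB
  have hW' : W ≤ isoLocus (tensorMap j (𝟙 B)) := hW.trans (isoLocus_le_tensorMap j B hB)
  have e1 := euler_sub_of_mono k X hdim hF hG j W hW hWne
  have e2 := euler_sub_of_mono k X hdim hFB hGB (tensorMap j (𝟙 B)) W hW' hWne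
  have e3 := finrank_H0_cokernel_tensor k j hB W hW hfin hcl
  rw [e1, e2, e3]

include k in
open Groth.Agent.Lib.helper12.PullTensor in
/-- for `A` invertible there is a coherent `F` with monomorphisms to `A` and to `O`, both isomorphisms on a nonempty open -/
theorem exists_common_submodule {A : X.Modules} (hA : PicF.IsInvertible A) :
    ∃ (F : X.Modules) (p : F ⟶ A) (q : F ⟶ Coh.structureModule X) (W : X.Opens),
      Coh.IsCoh F ∧ Mono p ∧ Mono q ∧ W ≤ isoLocus p ∧ W ≤ isoLocus q ∧ (W : Set X).Nonempty := by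
  haveI := Groth.Agent.Lib.Lead.CurveEuler.isNoetherian k X
  have hO := isInvertible_structureModule X
  have hAc := isCoh_of_isInvertible X hA
  haveI : Nonempty X := inferInstance
  let x₀ : X := Classical.arbitrary X
  obtain ⟨U, hxU, ⟨e⟩⟩ := hA x₀
  have hUne : (U : Set X).Nonempty := ⟨x₀, hxU⟩
  let Nt : X.Modules := (Scheme.Modules.pushforward U.ι).obj ((restrictFunctor U.ι).obj A)
  let a : A ⟶ Nt := (restrictAdjunction U.ι).unit.app A
  let c : (restrictFunctor U.ι).obj (Coh.structureModule X) ⟶ (restrictFunctor U.ι).obj A :=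
    (restrictUnitIso U.ι).hom ≫ e.inv
  let b : Coh.structureModule X ⟶ Nt :=
    (restrictAdjunction U.ι).unit.app (Coh.structureModule X) ≫
      (Scheme.Modules.pushforward U.ι).map c
  have ha : U ≤ isoLocus a := le_isoLocus_restrictAdjunction_unit A U
  have hb : U ≤ isoLocus b := by
    rw [le_isoLocus_iff]
    have h1 : IsIso ((restrictFunctor U.ι).map
        ((restrictAdjunction U.ι).unit.app (Coh.structureModule X))) :=
      (le_isoLocus_iff _ _).mp (le_isoLocus_restrictAdjunction_unit (Coh.structureModule X) U)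
    change IsIso ((restrictFunctor U.ι).map (_ ≫ _))
    rw [Functor.map_comp]
    infer_instance
  haveI hma : Mono a := mono_of_isoLocus_nonempty hA a ⟨x₀, ha hxU⟩
  haveI hmb : Mono b := mono_of_isoLocus_nonempty hO b ⟨x₀, hb hxU⟩
  let q₀ : A ⟶ cokernel b := a ≫ cokernel.π b
  let p : kernel q₀ ⟶ A := kernel.ι q₀
  have hp0 : (p ≫ a) ≫ cokernel.π b = 0 := by
    rw [Category.assoc]
    exact kernel.condition q₀
  let q : kernel q₀ ⟶ Coh.structureModule X := Abelian.monoLift b (p ≫ a) hp0
  have hq : q ≫ b = p ≫ a := Abelian.monoLift_comp b (p ≫ a) hp0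
  haveI : Mono (p ≫ a) := mono_comp p a
  have hmq : Mono q := mono_of_mono_fac hq
  have hUp : U ≤ isoLocus p :=
    le_isoLocus_kernel_ι q₀ U (fun V hV =>
      ⟨fun x y => (eq_zero_of_le_isoLocus b (hV.trans hb) x).trans
        (eq_zero_of_le_isoLocus b (hV.trans hb) y).symm⟩)
  have hUq : U ≤ isoLocus q := by
    rw [le_isoLocus_iff]
    haveI h1 : IsIso ((restrictFunctor U.ι).map b) := (le_isoLocus_iff _ _).mp hb
    haveI h2 : IsIso ((restrictFunctor U.ι).map p) := (le_isoLocus_iff _ _).mp hUp
    haveI h3 : IsIso ((restrictFunctor U.ι).map a) := (le_isoLocus_iff _ _).mp ha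
    have h4 : (restrictFunctor U.ι).map q ≫ (restrictFunctor U.ι).map b =
        (restrictFunctor U.ι).map p ≫ (restrictFunctor U.ι).map a := by
      rw [← Functor.map_comp, ← Functor.map_comp, hq]
    have h5 : (restrictFunctor U.ι).map q =
        ((restrictFunctor U.ι).map p ≫ (restrictFunctor U.ι).map a) ≫
          inv ((restrictFunctor U.ι).map b) := by
      rw [← h4, Category.assoc, IsIso.hom_inv_id, Category.comp_id]
    rw [h5]
    infer_instance
  -- coherence
  haveI : A.IsQuasicoherent := hAc.1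
  haveI : ((restrictFunctor U.ι).obj A).IsQuasicoherent :=
    (SheafOfModules.isQuasicoherent (↑U : Scheme.{u}).ringCatSheaf).prop_of_iso e.symm
      (inferInstance : (Coh.structureModule (↑U : Scheme.{u})).IsQuasicoherent)
  haveI : Nt.IsQuasicoherent :=
    Groth.Agent.Lib.helper7.QCohPushQC.isQuasicoherent_pushforward U.ι _
  haveI : (cokernel b).IsQuasicoherent := CohKer.isQuasicoherent_cokernel b
  have hFq : (kernel q₀).IsQuasicoherent := CohKer.isQuasicoherent_kernel q₀
  have hFc : Coh.IsCoh (kernel q₀) := Groth.Agent.S0046.result X A (kernel q₀) p hAc hFq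
  exact ⟨kernel q₀, p, q, U, hFc, inferInstance, hmq, hUp, hUq, hUne⟩

/-- **`χ(A ⊗ B) = χ(A) + χ(B) − χ(O)`** for invertible modules on an integral proper curve -/
theorem euler_tensorMod (hdim : topologicalKrullDim X ≤ 1) {A B : X.Modules}
    (hA : PicF.IsInvertible A) (hB : PicF.IsInvertible B) :
    Curv2.euler k X (CohB1.tensorMod A B) =
      Curv2.euler k X A + Curv2.euler k X B - Curv2.euler k X (Coh.structureModule X) := by
  obtain ⟨F, p, q, W, hFc, hmp, hmq, hWp, hWq, hWne⟩ := exists_common_submodule k X hA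
  have hAc := isCoh_of_isInvertible X hA
  have hOc := isCoh_of_isInvertible X (isInvertible_structureModule X)
  have e1 := euler_tensor_sub k X hdim hFc hAc p W hWp hWne hB
  have e2 := euler_tensor_sub k X hdim hFc hOc q W hWq hWne hB
  have e3 : Curv2.euler k X (CohB1.tensorMod (Coh.structureModule X) B) = Curv2.euler k X B :=
    euler_eq_of_iso k X (leftUnitor B)
  rw [e3] at e2
  linarith

/-- **Additivity of the degree** of invertible modules on an integral proper curve -/
theorem deg_tensorMod (hdim : topologicalKrullDim X ≤ 1) {A B : X.Modules}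
    (hA : PicF.IsInvertible A) (hB : PicF.IsInvertible B) :
    Curv2.deg k X (CohB1.tensorMod A B) 1 = Curv2.deg k X A 1 + Curv2.deg k X B 1 := by
  unfold Curv2.deg
  rw [euler_tensorMod k X hdim hA hB]
  ring

/-- `deg L^{⊗ n} = n · deg L` -/
theorem deg_tensorPow (hdim : topologicalKrullDim X ≤ 1) {L : X.Modules}
    (hL : PicF.IsInvertible L) (n : ℕ) :
    Curv2.deg k X (CohB1.tensorPow L n) 1 = n * Curv2.deg k X L 1 := by
  induction n with
  | zero =>
    change Curv2.deg k X (Coh.structureModule X) 1 = _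
    rw [deg_structureModule]
    simp
  | succ n ih =>
    change Curv2.deg k X (CohB1.tensorMod (CohB1.tensorPow L n) L) 1 = _
    rw [deg_tensorMod k X hdim (Groth.Agent.Lib.helper12.TensorInv.isInvertible_tensorPow hL n) hL, ih]
    push_cast
    ring

end curve

end Groth.Agent.Lib.helper9.CurveDegAdd
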