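import Mathlib
import Groth.Agent.Lib.Helper9.CurveDegAdd
import Groth.Agent.Lib.Helper20.SplitH1
import Groth.Agent.S0046

/-!
# Ampleness on integral proper curves: `L` ample `↔ deg L > 0` (helper9)

* `subsingleton_sections_tensor_of_isZero`: sections of `I ⊗ N` vanish when `I = 0` and `N` is invertible.
* `isoLocus_nonempty_of_mono_ne_zero`: a nonzero submodule `I ↪ O` on an integral scheme is isomorphic to `O` on a
  nonempty open (`D(f)` for `f` the image of a section).
* `isAmple_of_deg_pos`: positive degree implies ample (via helper11 `isAmple_of_H1` and the `H¹`-vanishing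
  without duality of `CurveVanish`/`CurveTwist`).
* `not_isAffine`: an integral proper curve of dimension one is not affine.
* `deg_pos_of_isAmple`.
-/

set_option autoImplicit false
set_option linter.style.haveILetI false
universe u
open CategoryTheory CategoryTheory.Limits AlgebraicGeometry Opposite TopologicalSpace Module
open Scheme.Modules

namespace Groth.Agent.Lib.helper9.CurveAmple

open Groth.Agent.Lib.Helper18 Groth.Agent.Lib.helper11.IsoLocus Groth.Agent.Lib.helper11.InvMod
open Groth.Agent.Lib.Lead.ModTensor Groth.Agent.Lib.helper9.CurvePunctual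
open Groth.Agent.Lib.helper9.CurveVanish Groth.Agent.Lib.helper9.CurveTwist
open Groth.Agent.Lib.Lead.CurveInv Groth.Agent.Lib.Lead.CurveEuler
open Groth.Agent.Lib.helper11.TwistH1 Groth.Agent.Lib.helper7
open Groth.Agent.Lib.helper9.CurveDegAdd Groth.Agent.Lib.helper12.TensorInv

section general

variable {X : Scheme.{u}}

/-- morphisms of modules commute with restriction of sections -/
theorem app_res {M N : X.Modules} (φ : M ⟶ N) {V V' : X.Opens} (h : V ≤ V') (x : Γ(M, V')) :
    (φ.app V).hom (res M h x) = res N h ((φ.app V').hom x) :=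
  congrFun (congrArg (fun g => (AddCommGrpCat.Hom.hom g : _ → _))
    (φ.mapPresheaf.naturality (homOfLE h).op)) x

/-- sections of `I ⊗ N` vanish when `I` is zero and `N` is invertible -/
theorem subsingleton_sections_tensor_of_isZero {I N : X.Modules} (hI : IsZero I)
    (hN : PicF.IsInvertible N) (O : X.Opens) : Subsingleton Γ(CohB1.tensorMod I N, O) := by
  have hloc : ∀ (U : X.Opens), IsTrivOn N U → ∀ P : X.Opens, P ≤ U →
      Subsingleton Γ(CohB1.tensorMod I N, P) := by
    rintro U ⟨e⟩ P hP
    have hz : IsZero ((CohB1.tensorMod I N).restrict U.ι) := by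
      refine IsZero.of_iso ?_ (tensorTrivIso I N U e)
      exact (restrictFunctor U.ι).map_isZero hI
    have h1 : Subsingleton Γ((CohB1.tensorMod I N).restrict U.ι, U.ι ⁻¹ᵁ P) :=
      Groth.Agent.Lib.Lead.DimOneVanish.subsingleton_sections_of_isZero hz _
    have hle : U.ι ''ᵁ (U.ι ⁻¹ᵁ P) ≤ P := U.ι.image_preimage_le P
    have hge : P ≤ U.ι ''ᵁ (U.ι ⁻¹ᵁ P) := fun x hx => ⟨⟨x, hP hx⟩, hx, rfl⟩
    haveI : Subsingleton ↑((CohB1.tensorMod I N).presheaf.obj (op (U.ι ''ᵁ U.ι ⁻¹ᵁ P))) := h1
    exact (Groth.Agent.Lib.Lead.DimOneVanish.res_injective_of_le_of_ge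
      (CohB1.tensorMod I N) hle hge).subsingleton
  choose U hxU hU using hN
  refine ⟨fun a b => ?_⟩
  refine eq_of_cover _ (fun x : O => O ⊓ U x.1) O (fun _ => inf_le_left) (fun x hx => ?_) a b
    (fun x => ?_)
  · exact Opens.mem_iSup.mpr ⟨⟨x, hx⟩, hx, hxU x⟩
  · haveI := hloc (U x.1) (hU x.1) (O ⊓ U x.1) inf_le_right
    exact Subsingleton.elim _ _

/-- a nonzero submodule of `O` on an integral scheme is isomorphic to `O` on a nonempty open -/
theorem isoLocus_nonempty_of_mono_ne_zero [IsIntegral X] {I : X.Modules}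
    (i : I ⟶ Coh.structureModule X) [Mono i] (hi : i ≠ 0) :
    ((isoLocus i : X.Opens) : Set X).Nonempty := by
  obtain ⟨V₀, t, ht⟩ : ∃ (V₀ : X.Opens) (t : Γ(I, V₀)), (i.app V₀).hom t ≠ 0 := by
    by_contra hcon
    push Not at hcon
    apply hi
    apply Scheme.Modules.hom_ext
    intro U
    ext t
    exact hcon U t
  let f : Γ(X, V₀) := (i.app V₀).hom t
  have hWne : ((X.basicOpen f : X.Opens) : Set X).Nonempty := by
    by_contra hemp
    rw [Set.not_nonempty_iff_eq_empty] at hemp
    have h1 : X.basicOpen f = ⊥ := SetLike.coe_injective hemp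
    rw [basicOpen_eq_bot_iff] at h1
    exact ht h1
  refine hWne.mono ?_
  show X.basicOpen f ≤ isoLocus i
  rw [le_isoLocus_iff, isIso_restrict_iff_app]
  intro V hV
  rw [ConcreteCategory.isIso_iff_bijective]
  refine ⟨Groth.Agent.Lib.helper16.Satur.injective_app_of_mono i V, fun g => ?_⟩
  have hVV₀ : V ≤ V₀ := hV.trans (X.basicOpen_le f)
  have hu : IsUnit (rs hVV₀ f) := by
    have h1 : IsUnit ((X.presheaf.map (homOfLE (X.basicOpen_le f)).op).hom f) :=
      X.toRingedSpace.isUnit_res_basicOpen f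
    have h2 := h1.map (X.presheaf.map (homOfLE hV).op).hom
    have h3 : (X.presheaf.map (homOfLE hV).op).hom
        ((X.presheaf.map (homOfLE (X.basicOpen_le f)).op).hom f) = rs hVV₀ f := by
      unfold rs
      rw [← CommRingCat.comp_apply, ← Functor.map_comp]
      rfl
    rw [← h3]
    exact h2
  obtain ⟨u, hu'⟩ := hu
  refine ⟨((show Γ(X, V) from g) * ((u⁻¹ : Γ(X, V)ˣ) : Γ(X, V))) • res I hVV₀ t, ?_⟩
  have h4 : (i.app V).hom (res I hVV₀ t) = rs hVV₀ f := app_res i hVV₀ t
  have h5 := Scheme.Modules.Hom.app_smul i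
    ((show Γ(X, V) from g) * ((u⁻¹ : Γ(X, V)ˣ) : Γ(X, V))) (res I hVV₀ t)
  refine h5.trans ?_
  rw [h4, ← hu']
  show ((show Γ(X, V) from g) * ((u⁻¹ : Γ(X, V)ˣ) : Γ(X, V))) * (u : Γ(X, V)) = g
  rw [mul_assoc, Units.inv_mul, mul_one]

end general

section curve

variable (k : Type u) [Field k] (X : Scheme.{u}) [X.Over (Spec (CommRingCat.of k))]
  [IsProper (X ↘ Spec (CommRingCat.of k))] [IsIntegral X]

/-- **positive degree implies ample** on an integral proper curve -/
theorem isAmple_of_deg_pos (hdim : topologicalKrullDim X ≤ 1) {L : X.Modules}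
    (hL : PicF.IsInvertible L) (hdeg : 0 < Curv2.deg k X L 1) : CohB1.IsAmple L := by
  haveI := Groth.Agent.Lib.Lead.CurveEuler.isNoetherian k X
  haveI : CompactSpace X := inferInstance
  apply isAmple_of_H1 hL
  intro I i hi hIq
  by_cases hi0 : i = 0
  · refine ⟨0, ?_⟩
    have hz : IsZero I := IsZero.of_mono_eq_zero i hi0
    exact Groth.Agent.Lib.Lead.DimOneVanish.subsingleton_HH_of_sections_vanish _ ⊤
      (fun x hx => absurd trivial hx)
      (fun O _ => subsingleton_sections_tensor_of_isZero hz (isInvertible_tensorPow hL 1) O) 0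
  · haveI := hi
    have hOc : Coh.IsCoh (Coh.structureModule X) :=
      isCoh_of_isInvertible X (isInvertible_structureModule X)
    have hIc : Coh.IsCoh I := Groth.Agent.S0046.result X (Coh.structureModule X) I i hOc hIq
    have hWne := isoLocus_nonempty_of_mono_ne_zero i hi0
    let n : ℕ := ((Curv2.genus k X : ℤ) + (finrank k (Coh.HH X (cokernel i) 0) : ℤ) -
      Curv2.euler k X (Coh.structureModule X)).toNat
    have hn : (Curv2.genus k X : ℤ) + (finrank k (Coh.HH X (cokernel i) 0) : ℤ) -
      Curv2.euler k X (Coh.structureModule X) ≤ (n : ℤ) := Int.self_le_toNat _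
    refine ⟨n, ?_⟩
    have hN : PicF.IsInvertible (CohB1.tensorPow L (n + 1)) := isInvertible_tensorPow hL (n + 1)
    by_contra hsub
    rw [not_subsingleton_iff_nontrivial] at hsub
    haveI hφ : Mono (tensorMap i (𝟙 (CohB1.tensorPow L (n + 1)))) := mono_tensorMap_left i hN
    haveI : Mono (tensorMap i (𝟙 (CohB1.tensorPow L (n + 1))) ≫
        (leftUnitor (CohB1.tensorPow L (n + 1))).hom) := mono_comp _ _
    have hle := finrank_H0_le_genus k X (CohB1.tensorMod I (CohB1.tensorPow L (n + 1)))
      (fun s hs => surjective_H1_of_section_of_mono k X hdim hN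
        (tensorMap i (𝟙 (CohB1.tensorPow L (n + 1))) ≫
          (leftUnitor (CohB1.tensorPow L (n + 1))).hom) s hs) hsub
    have e1 := euler_tensor_sub k X hdim hIc hOc i (isoLocus i) le_rfl hWne hN
    have e2 := euler_sub_of_mono k X hdim hIc hOc i (isoLocus i) le_rfl hWne
    have e3 : Curv2.euler k X (CohB1.tensorMod (Coh.structureModule X) (CohB1.tensorPow L (n + 1))) =
        Curv2.euler k X (CohB1.tensorPow L (n + 1)) :=
      euler_eq_of_iso k X (leftUnitor (CohB1.tensorPow L (n + 1)))
    have e4 := deg_tensorPow k X hdim hL (n + 1)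
    have e4' : Curv2.deg k X (CohB1.tensorPow L (n + 1)) 1 =
        Curv2.euler k X (CohB1.tensorPow L (n + 1)) -
          ((1 : ℕ) : ℤ) * Curv2.euler k X (Coh.structureModule X) := rfl
    have hNc := isCoh_of_isInvertible X hN
    haveI : I.IsQuasicoherent := hIc.1
    haveI : (CohB1.tensorPow L (n + 1)).IsQuasicoherent := hNc.1
    have hFc : Coh.IsCoh (CohB1.tensorMod I (CohB1.tensorPow L (n + 1))) :=
      ⟨Groth.Agent.Lib.helper2.TensorQCoh.isQuasicoherent_tensorMod _ _,
        Groth.Agent.Lib.helper2.TensorQCoh.isFiniteType_tensorMod _ _ hIc.2 hNc.2⟩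
    have e5 := euler_eq k X hdim _ hFc.1
    haveI : Module.Finite k (Coh.HH X (CohB1.tensorMod I (CohB1.tensorPow L (n + 1))) 1) :=
      Groth.Agent.Lib.Lead.ProperEuler.finite_HH k X _ hFc 1
    have hpos : 0 < finrank k (Coh.HH X (CohB1.tensorMod I (CohB1.tensorPow L (n + 1))) 1) :=
      Module.finrank_pos
    have hle' : (finrank k (Coh.HH X (CohB1.tensorMod I (CohB1.tensorPow L (n + 1))) 0) : ℤ) ≤
        (Curv2.genus k X : ℤ) := by exact_mod_cast hle
    have hpos' : (1 : ℤ) ≤
        (finrank k (Coh.HH X (CohB1.tensorMod I (CohB1.tensorPow L (n + 1))) 1) : ℤ) := by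
      exact_mod_cast hpos
    have hmul : ((n : ℤ) + 1) ≤ ((n + 1 : ℕ) : ℤ) * Curv2.deg k X L 1 := by
      have h1 : (1 : ℤ) ≤ Curv2.deg k X L 1 := hdeg
      have h2 : (0 : ℤ) ≤ ((n + 1 : ℕ) : ℤ) := Int.natCast_nonneg _
      push_cast at h2 ⊢
      nlinarith
    push_cast at e4 e4' hmul
    linarith

include k in
/-- a proper affine scheme over a field has dimension `≤ 0` -/
theorem topologicalKrullDim_le_zero_of_isAffine [IsAffine X] : topologicalKrullDim X ≤ 0 := by
  let φ : k →+* Γ(X, ⊤) := Coh.toGlobal (X ↘ Spec (CommRingCat.of k))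
  letI alg : Algebra k Γ(X, ⊤) := φ.toAlgebra
  have hOc : Coh.IsCoh (Coh.structureModule X) :=
    isCoh_of_isInvertible X (isInvertible_structureModule X)
  haveI : Module.Finite k (Coh.HH X (Coh.structureModule X) 0) :=
    Groth.Agent.Lib.Lead.ProperEuler.finite_HH k X _ hOc 0
  let e' : Coh.HH X (Coh.structureModule X) 0 ≃ₗ[k] Γ(X, ⊤) :=
    { (HH.equiv₀ (Coh.structureModule X)).toAddEquiv with
      map_smul' := fun a x => (HH.equiv₀ (Coh.structureModule X)).map_smul (φ a) x }
  haveI : Module.Finite k Γ(X, ⊤) := Module.Finite.equiv e'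
  haveI : IsArtinianRing Γ(X, ⊤) := IsArtinianRing.of_finite k Γ(X, ⊤)
  haveI : IsLocallyArtinian (Spec Γ(X, ⊤)) := Scheme.isLocallyArtinianScheme_Spec.mpr inferInstance
  haveI : IsLocallyArtinian X := .of_isImmersion X.isoSpec.hom
  exact topologicalKrullDim_zero_of_discreteTopology X

/-- **ample implies positive degree** on an integral proper curve -/
theorem deg_pos_of_isAmple (hdim : topologicalKrullDim X = 1) {L : X.Modules}
    (hA : CohB1.IsAmple L) : 0 < Curv2.deg k X L 1 := by
  obtain ⟨hL, -, h⟩ := hA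
  haveI : Nonempty X := inferInstance
  obtain ⟨n, s, hxs, haff⟩ := h (Classical.arbitrary X)
  have hO := isInvertible_structureModule X
  have hN : PicF.IsInvertible (CohB1.tensorPow L (n + 1)) := isInvertible_tensorPow hL (n + 1)
  -- `s ≠ 0`
  have hs : s ≠ 0 := by
    rintro rfl
    let U : X.Opens := isoLocus (0 : Coh.structureModule X ⟶ CohB1.tensorPow L (n + 1))
    have hxU : Classical.arbitrary X ∈ U := hxs
    haveI : IsIso ((0 : Coh.structureModule X ⟶ CohB1.tensorPow L (n + 1)).app U) :=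
      isIso_app_of_le_isoLocus _ le_rfl
    have hinj : Function.Injective
        ((0 : Coh.structureModule X ⟶ CohB1.tensorPow L (n + 1)).app U) := by
      have : Mono ((0 : Coh.structureModule X ⟶ CohB1.tensorPow L (n + 1)).app U) := inferInstance
      exact (AddCommGrpCat.mono_iff_injective _).mp this
    haveI : Nonempty U := ⟨⟨_, hxU⟩⟩
    haveI : Nontrivial Γ(X, U) := Scheme.component_nontrivial X U
    have h01 : (1 : Γ(X, U)) = 0 := hinj rfl
    exact one_ne_zero h01
  -- `s` is not an isomorphism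
  have hiso : ¬ IsIso s := by
    intro hs'
    have htop : CohB1.genLocus _ s = ⊤ := (isoLocus_eq_top_iff s).mpr hs'
    rw [htop] at haff
    haveI : IsAffine (↑(⊤ : X.Opens) : Scheme.{u}) := haff
    haveI : IsAffine X := IsAffine.of_isIso (Scheme.topIso X).inv
    have := topologicalKrullDim_le_zero_of_isAffine k X
    rw [hdim] at this
    exact absurd this (by decide)
  have h1 := deg_le k X hdim.le hO hN s hs
  have h2 : Curv2.deg k X (Coh.structureModule X) 1 ≠
      Curv2.deg k X (CohB1.tensorPow L (n + 1)) 1 := fun h =>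
    hiso (isIso_of_deg_eq k X hdim.le hO hN s hs h)
  have h3 : Curv2.deg k X (Coh.structureModule X) 1 = 0 := deg_structureModule k X
  have h4 := deg_tensorPow k X hdim.le hL (n + 1)
  have h5 : 0 < Curv2.deg k X (CohB1.tensorPow L (n + 1)) 1 := by
    rw [h3] at h1 h2
    exact lt_of_le_of_ne h1 h2
  rw [h4] at h5
  by_contra hcon
  push Not at hcon
  have h6 : ((n + 1 : ℕ) : ℤ) * Curv2.deg k X L 1 ≤ 0 :=
    mul_nonpos_of_nonneg_of_nonpos (Int.natCast_nonneg _) hcon
  exact absurd h5 (not_lt.mpr h6)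

end curve

end Groth.Agent.Lib.helper9.CurveAmple
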