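import Mathlib
import Groth.Agent.Lib.Helper9.CurveAmple
import Groth.Agent.Lib.Helper18.DegCalc
import Groth.Agent.Lib.Helper13.Hopf
import Groth.Agent.Lib.Helper16.FLF3
import Groth.Agent.Lib.Helper16.CohFinite

/-!
# The Hopf inequality `h⁰(E₁) + h⁰(E₂) ≤ h⁰(E₁ ⊗ E₂) + 1` for vector bundles on integral proper schemes (helper9)

* `eq_zero_of_forall_proj`: a section of a free module is determined by its coordinates.
* `res_eq_zero_of_isFinLocFree`: on an integral scheme, a section of a finite locally free module vanishing on a nonempty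
  open vanishes.
* `mono_of_ne_zero_of_isFinLocFree`: a nonzero `s : O ⟶ E` into a finite locally free module on an integral scheme is a
  monomorphism.
* `mono_tensorMap_of_isFinLocFree`, `braid_naturality`.
* `tmul_ne_zero`: the product of nonzero sections of finite locally free modules on an integral scheme is nonzero.
* `hopf_finrank`: the Hopf inequality over an algebraically closed field.
-/

set_option autoImplicit false
set_option linter.style.haveILetI false
universe u
open CategoryTheory CategoryTheory.Limits AlgebraicGeometry Opposite TopologicalSpace Module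
open Scheme.Modules

namespace Groth.Agent.Lib.helper9.CurveHopf

open Groth.Agent.Lib.Helper18 Groth.Agent.Lib.helper11.IsoLocus Groth.Agent.Lib.helper11.InvMod
open Groth.Agent.Lib.Lead.ModTensor Groth.Agent.Lib.helper9.CurvePunctual
open Groth.Agent.Lib.Helper20.SplitH1

variable {X : Scheme.{u}}

/-- evaluation of morphisms on sections, as an additive map in the morphism -/
noncomputable def appAddHom (M N : X.Modules) (V : X.Opens) : (M ⟶ N) →+ (Γ(M, V) →+ Γ(N, V)) where
  toFun φ := (φ.app V).hom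
  map_zero' := rfl
  map_add' _ _ := rfl

/-- the `i`-th coordinate of the free module -/
noncomputable def proj (Y : Scheme.{u}) (n : ℕ) (i : Fin n) :
    FlatMod.freeMod Y n ⟶ Coh.structureModule Y :=
  Sigma.desc (fun j => if j = i then 𝟙 _ else 0)

theorem sum_proj_comp_ι (Y : Scheme.{u}) (n : ℕ) :
    ∑ i, proj Y n i ≫ Sigma.ι (fun _ : Fin n => Coh.structureModule Y) i =
      𝟙 (FlatMod.freeMod Y n) := by
  classical
  let ι : Fin n → (Coh.structureModule Y ⟶ FlatMod.freeMod Y n) :=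
    fun i => Sigma.ι (fun _ : Fin n => Coh.structureModule Y) i
  have hιπ : ∀ i j, ι j ≫ proj Y n i = if j = i then 𝟙 _ else 0 := fun i j => by
    change Sigma.ι (fun _ : Fin n => Coh.structureModule Y) j ≫
      Sigma.desc (fun j => if j = i then 𝟙 _ else 0) = _
    rw [colimit.ι_desc]
    rfl
  apply Sigma.hom_ext
  intro j
  change ι j ≫ _ = ι j ≫ _
  rw [Preadditive.comp_sum, Category.comp_id]
  rw [Finset.sum_eq_single j]
  · rw [← Category.assoc, hιπ, if_pos rfl, Category.id_comp]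
  · intro i _ hij
    rw [← Category.assoc, hιπ, if_neg (Ne.symm hij), zero_comp]
  · intro h
    exact absurd (Finset.mem_univ j) h

/-- a section of a free module all of whose coordinates vanish is zero -/
theorem eq_zero_of_forall_proj (Y : Scheme.{u}) (n : ℕ) (V : Y.Opens) (t : Γ(FlatMod.freeMod Y n, V))
    (h : ∀ i, ((proj Y n i).app V).hom t = 0) : t = 0 := by
  have h1 := congrArg (fun φ => appAddHom _ _ V φ t) (sum_proj_comp_ι Y n)
  simp only [map_sum, AddMonoidHom.finsetSum_apply] at h1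
  have h2 : appAddHom (FlatMod.freeMod Y n) (FlatMod.freeMod Y n) V (𝟙 _) t = t := rfl
  rw [h2] at h1
  rw [← h1]
  refine Finset.sum_eq_zero (fun i _ => ?_)
  change ((Sigma.ι (fun _ : Fin n => Coh.structureModule Y) i).app V).hom
    (((proj Y n i).app V).hom t) = 0
  rw [h i, map_zero]

/-- on an integral scheme, a section of a finite locally free module which vanishes on a nonempty open vanishes -/
theorem res_eq_zero_of_isFinLocFree [IsIntegral X] {N : X.Modules} (hN : FlatMod.IsFinLocFree N)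
    {O W : X.Opens} (hW : (W : Set X).Nonempty) (t : Γ(N, O))
    (ht : N.presheaf.map (homOfLE (inf_le_left : O ⊓ W ≤ O)).op t = 0) : t = 0 := by
  refine TopCat.Presheaf.section_ext ⟨N.presheaf, N.isSheaf⟩ O _ _ (fun x hx => ?_)
  obtain ⟨U, n, hxU, ⟨e⟩⟩ := hN x
  let V' : U.toScheme.Opens := U.ι ⁻¹ᵁ O
  let V'' : U.toScheme.Opens := U.ι ⁻¹ᵁ (O ⊓ W)
  have hle : U.ι ''ᵁ V' ≤ O := U.ι.image_preimage_le O
  have hle'' : V'' ≤ V' := fun y hy => hy.1
  have hle2 : U.ι ''ᵁ V'' ≤ O ⊓ W := U.ι.image_preimage_le (O ⊓ W)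
  let tV : Γ(N, U.ι ''ᵁ V') := N.presheaf.map (homOfLE hle).op t
  haveI : Nonempty U := ⟨⟨x, hxU⟩⟩
  have hUint : IsIntegral U.toScheme := isIntegral_of_isOpenImmersion U.ι
  have hne : Nonempty V'' := by
    have h1 : ((O ⊓ U ⊓ W : X.Opens) : Set X).Nonempty :=
      nonempty_preirreducible_inter (O ⊓ U).isOpen W.isOpen ⟨x, hx, hxU⟩ hW
    obtain ⟨y, ⟨hyO, hyU⟩, hyW⟩ := h1
    exact ⟨⟨⟨y, hyU⟩, hyO, hyW⟩⟩
  have h0 : (N.restrict U.ι).presheaf.map (homOfLE hle'').op tV = 0 := by
    change N.presheaf.map (U.ι.opensFunctor.map (homOfLE hle'')).op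
      (N.presheaf.map (homOfLE hle).op t) = 0
    have h1 : N.presheaf.map (U.ι.opensFunctor.map (homOfLE hle'')).op
        (N.presheaf.map (homOfLE hle).op t) =
        N.presheaf.map (homOfLE hle2).op
          (N.presheaf.map (homOfLE (inf_le_left : O ⊓ W ≤ O)).op t) := by
      rw [← ConcreteCategory.comp_apply, ← ConcreteCategory.comp_apply, ← Functor.map_comp,
        ← Functor.map_comp]
      rfl
    rw [h1, ht, map_zero]
  -- each coordinate of `tV` vanishes
  have hcoord : ∀ i, (((e.hom ≫ proj (↑U) n i)).app V').hom tV = 0 := by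
    intro i
    let p : N.restrict U.ι ⟶ Coh.structureModule (↑U : Scheme.{u}) := e.hom ≫ proj (↑U) n i
    let f : Γ(Coh.structureModule (↑U : Scheme.{u}), V') := (p.app V').hom tV
    have hres : (Coh.structureModule (↑U : Scheme.{u})).presheaf.map (homOfLE hle'').op f = 0 := by
      have nat := congrFun (congrArg (fun g => (AddCommGrpCat.Hom.hom g : _ → _))
        (p.mapPresheaf.naturality (homOfLE hle'').op)) tV
      have nat' : (Coh.structureModule (↑U : Scheme.{u})).presheaf.map (homOfLE hle'').op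
          ((p.app V').hom tV) =
          (p.app V'').hom ((N.restrict U.ι).presheaf.map (homOfLE hle'').op tV) := nat.symm
      change (Coh.structureModule (↑U : Scheme.{u})).presheaf.map (homOfLE hle'').op
        ((p.app V').hom tV) = 0
      rw [nat', h0, map_zero]
    have hinj := map_injective_of_isIntegral U.toScheme (homOfLE hle'')
    have h3 : (ConcreteCategory.hom ((↑U : Scheme.{u}).presheaf.map (homOfLE hle'').op))
        (show Γ((↑U : Scheme.{u}), V') from f) =
        (ConcreteCategory.hom ((↑U : Scheme.{u}).presheaf.map (homOfLE hle'').op)) 0 := by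
      rw [map_zero]; exact hres
    exact hinj h3
  have hz : (e.hom.app V').hom tV = 0 :=
    eq_zero_of_forall_proj (↑U) n V' _ (fun i => hcoord i)
  have htV : tV = 0 := by
    have h1 : (e.inv.app V').hom ((e.hom.app V').hom tV) = tV := by
      have h4 : e.hom.app V' ≫ e.inv.app V' = 𝟙 _ := by
        rw [← Scheme.Modules.Hom.comp_app, e.hom_inv_id]; rfl
      have h5 := congrArg (fun g : Γ(N.restrict U.ι, V') ⟶ Γ(N.restrict U.ι, V') => g.hom tV) h4
      exact h5
    rw [← h1, hz]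
    exact map_zero _
  have hx' : x ∈ U.ι ''ᵁ V' := ⟨⟨x, hxU⟩, hx, rfl⟩
  have h2 := TopCat.Presheaf.germ_res_apply N.presheaf (homOfLE hle) x hx' t
  rw [← h2]
  change N.presheaf.germ _ x hx' tV = _
  rw [htV, map_zero, map_zero]

/-- a nonzero `s : O ⟶ E` into a finite locally free module on an integral scheme is a monomorphism -/
theorem mono_of_ne_zero_of_isFinLocFree [IsIntegral X] {E : X.Modules} (hE : FlatMod.IsFinLocFree E)
    (s : Coh.structureModule X ⟶ E) (hs : s ≠ 0) : Mono s := by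
  apply Preadditive.mono_of_kernel_zero
  by_contra hk
  have hne := Groth.Agent.Lib.helper9.CurveAmple.isoLocus_nonempty_of_mono_ne_zero (kernel.ι s) hk
  let W : X.Opens := isoLocus (kernel.ι s)
  haveI : IsIso ((kernel.ι s).app W) := isIso_app_of_le_isoLocus _ le_rfl
  obtain ⟨r, hr⟩ := ((ConcreteCategory.isIso_iff_bijective ((kernel.ι s).app W)).mp inferInstance).2
    (1 : Γ(X, W))
  have h1 : (s.app W).hom (1 : Γ(X, W)) = 0 := by
    rw [← hr]
    have h2 : (kernel.ι s ≫ s).app W = 0 := by rw [kernel.condition]; rfl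
    exact congrArg (fun φ => φ r) h2
  apply hs
  apply hom_ext_top
  change (s.app ⊤).hom (1 : Γ(X, ⊤)) = 0
  apply res_eq_zero_of_isFinLocFree hE hne
  have h3 : E.presheaf.map (homOfLE (inf_le_left : (⊤ : X.Opens) ⊓ W ≤ ⊤)).op
      ((s.app ⊤).hom (1 : Γ(X, ⊤))) =
      (s.app (⊤ ⊓ W)).hom ((Coh.structureModule X).presheaf.map
        (homOfLE (inf_le_left : (⊤ : X.Opens) ⊓ W ≤ ⊤)).op (1 : Γ(X, ⊤))) :=
    (Groth.Agent.Lib.helper9.CurveAmple.app_res s (inf_le_left : (⊤ : X.Opens) ⊓ W ≤ ⊤)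
      (show Γ(Coh.structureModule X, ⊤) from (1 : Γ(X, ⊤)))).symm
  rw [h3]
  have h4 : (Coh.structureModule X).presheaf.map
      (homOfLE (inf_le_left : (⊤ : X.Opens) ⊓ W ≤ ⊤)).op (1 : Γ(X, ⊤)) =
      (Coh.structureModule X).presheaf.map (homOfLE (inf_le_right : (⊤ : X.Opens) ⊓ W ≤ W)).op
        (1 : Γ(X, W)) := by
    have e1 : (X.presheaf.map (homOfLE (inf_le_left : (⊤ : X.Opens) ⊓ W ≤ ⊤)).op).hom 1 = 1 :=
      map_one _
    have e2 : (X.presheaf.map (homOfLE (inf_le_right : (⊤ : X.Opens) ⊓ W ≤ W)).op).hom 1 = 1 :=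
      map_one _
    exact e1.trans e2.symm
  rw [h4]
  have h5 := Groth.Agent.Lib.helper9.CurveAmple.app_res s (inf_le_right : (⊤ : X.Opens) ⊓ W ≤ W)
    (show Γ(Coh.structureModule X, W) from (1 : Γ(X, W)))
  refine h5.trans ?_
  rw [h1]
  exact map_zero _

open Groth.Agent.Lib.helper12.TensorRestrict Groth.Agent.Lib.helper12.PullTensor in
/-- `− ⊗ E` preserves monomorphisms for `E` finite locally free -/
theorem mono_tensorMap_of_isFinLocFree {K I E : X.Modules} (g : K ⟶ I) [Mono g]
    (hE : FlatMod.IsFinLocFree E) : Mono (tensorMap g (𝟙 E)) := by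
  refine Groth.Agent.Lib.helper11.TwistH1.mono_of_forall_restrict _ fun x => ?_
  obtain ⟨U, n, hxU, ⟨e⟩⟩ := hE x
  refine ⟨U, hxU, ?_⟩
  have hn := restrictTensorIso_inv_naturality U.ι g (𝟙 E)
  rw [(restrictFunctor U.ι).map_id] at hn
  have h1 : (restrictFunctor U.ι).map (tensorMap g (𝟙 E)) =
      (restrictTensorIso U.ι K E).hom ≫ tensorMap ((restrictFunctor U.ι).map g) (𝟙 _) ≫
        (restrictTensorIso U.ι I E).inv := by
    rw [hn, Iso.hom_inv_id_assoc]
  have h2 : tensorMap ((restrictFunctor U.ι).map g) (𝟙 ((restrictFunctor U.ι).obj E)) =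
      tensorMap (𝟙 _) e.hom ≫ tensorMap ((restrictFunctor U.ι).map g) (𝟙 (FlatMod.freeMod (↑U) n)) ≫
        tensorMap (𝟙 _) e.inv := by
    rw [← tensorMap_comp, ← tensorMap_comp, Category.id_comp, Category.comp_id, Category.id_comp,
      Iso.hom_inv_id]
  rw [h1, h2]
  haveI := Groth.Agent.Lib.helper11.TwistH1.mono_restrict g U
  haveI := Groth.Agent.Lib.Helper18.DegCalc.mono_tensorMap_free ((restrictFunctor U.ι).map g) n
  haveI : IsIso (tensorMap (𝟙 ((restrictFunctor U.ι).obj K)) e.hom) :=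
    (tensorIso (Iso.refl _) e).isIso_hom
  haveI : IsIso (tensorMap (𝟙 ((restrictFunctor U.ι).obj I)) e.inv) :=
    (tensorIso (Iso.refl _) e.symm).isIso_hom
  infer_instance

/-- naturality of the braiding -/
theorem braid_naturality {M M' N N' : X.Modules} (f : M ⟶ M') (g : N ⟶ N') :
    tensorMap f g ≫ (braid M' N').hom = (braid M N).hom ≫ tensorMap g f := by
  exact ((L X).map_comp _ _).symm.trans ((congrArg (L X).map
    (BraidedCategory.braiding_naturality ((V X).map f) ((V X).map g))).trans ((L X).map_comp _ _))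

/-- `E ⊗ −` preserves monomorphisms for `E` finite locally free -/
theorem mono_tensorMap_right_of_isFinLocFree {K I E : X.Modules} (g : K ⟶ I) [Mono g]
    (hE : FlatMod.IsFinLocFree E) : Mono (tensorMap (𝟙 E) g) := by
  haveI := mono_tensorMap_of_isFinLocFree g hE
  have h := braid_naturality (𝟙 E) g
  have h2 : tensorMap (𝟙 E) g = (braid E K).hom ≫ tensorMap g (𝟙 E) ≫ (braid E I).inv := by
    rw [← Category.assoc, ← h, Category.assoc, Iso.hom_inv_id, Category.comp_id]
  rw [h2]
  infer_instance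

section bilinear

open TensorProduct

variable (M N : X.Modules) (U : X.Opens)

theorem tmul_add_left (m m' : M.val.obj (op U)) (n : N.val.obj (op U)) :
    SecTwist.tmul M N U (m + m') n = SecTwist.tmul M N U m n + SecTwist.tmul M N U m' n := by
  unfold SecTwist.tmul
  rw [TensorProduct.add_tmul]
  exact map_add _ _ _

theorem tmul_add_right (m : M.val.obj (op U)) (n n' : N.val.obj (op U)) :
    SecTwist.tmul M N U m (n + n') = SecTwist.tmul M N U m n + SecTwist.tmul M N U m n' := by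
  unfold SecTwist.tmul
  rw [TensorProduct.tmul_add]
  exact map_add _ _ _

theorem tmul_smul_left (r : X.ringCatSheaf.obj.obj (op U)) (m : M.val.obj (op U)) (n : N.val.obj (op U)) :
    SecTwist.tmul M N U (r • m) n = r • SecTwist.tmul M N U m n := by
  unfold SecTwist.tmul
  let r' : ↑((X.sheaf.obj ⋙ forget₂ CommRingCat RingCat).obj (op U)) := r
  have h2 := LinearMap.map_smul ((SecTwist.toTensor M N).app (op U)).hom r' (m ⊗ₜ n)
  refine Eq.trans ?_ h2
  apply congrArg
  exact (TensorProduct.smul_tmul' r' (show ↑((CohB1.toPMod M).obj (op U)) from m)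
    (show ↑((CohB1.toPMod N).obj (op U)) from n)).symm

theorem tmul_smul_right (r : X.ringCatSheaf.obj.obj (op U)) (m : M.val.obj (op U)) (n : N.val.obj (op U)) :
    SecTwist.tmul M N U m (r • n) = r • SecTwist.tmul M N U m n := by
  unfold SecTwist.tmul
  let r' : ↑((X.sheaf.obj ⋙ forget₂ CommRingCat RingCat).obj (op U)) := r
  have h2 := LinearMap.map_smul ((SecTwist.toTensor M N).app (op U)).hom r' (m ⊗ₜ n)
  refine Eq.trans ?_ h2
  apply congrArg
  exact (TensorProduct.tmul_smul r' (show ↑((CohB1.toPMod M).obj (op U)) from m)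
    (show ↑((CohB1.toPMod N).obj (op U)) from n))

end bilinear

open Groth.Agent.Lib.helper12.PullTensor in
/-- the product of nonzero global sections of finite locally free modules on an integral scheme is nonzero -/
theorem tmul_ne_zero [IsIntegral X] {E₁ E₂ : X.Modules} (h₁ : FlatMod.IsFinLocFree E₁)
    (h₂ : FlatMod.IsFinLocFree E₂) (a : E₁.val.obj (op ⊤)) (b : E₂.val.obj (op ⊤))
    (ha : a ≠ 0) (hb : b ≠ 0) : SecTwist.tmul E₁ E₂ ⊤ a b ≠ 0 := by
  let s : Coh.structureModule X ⟶ E₁ := homOfGlobal E₁ a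
  let t : Coh.structureModule X ⟶ E₂ := homOfGlobal E₂ b
  have hs1 : (s.val.app (op ⊤)).hom (1 : X.ringCatSheaf.obj.obj (op ⊤)) = a := homOfGlobal_top E₁ a
  have ht1 : (t.val.app (op ⊤)).hom (1 : X.ringCatSheaf.obj.obj (op ⊤)) = b := homOfGlobal_top E₂ b
  have hs : s ≠ 0 := by
    intro h
    apply ha
    rw [← hs1, h]
    rfl
  have ht : t ≠ 0 := by
    intro h
    apply hb
    rw [← ht1, h]
    rfl
  haveI := mono_of_ne_zero_of_isFinLocFree h₁ s hs
  haveI := mono_of_ne_zero_of_isFinLocFree h₂ t ht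
  haveI := Groth.Agent.Lib.Helper18.DegCalc.mono_tensorMap_unit s
  haveI := mono_tensorMap_right_of_isFinLocFree t h₁
  let m : Coh.structureModule X ⟶ CohB1.tensorMod E₁ E₂ :=
    (SecTwist.unitorR (Coh.structureModule X)).inv ≫
      tensorMap s (𝟙 (Coh.structureModule X)) ≫ tensorMap (𝟙 E₁) t
  haveI : Mono m := mono_comp _ _
  have hm1 : (m.val.app (op ⊤)).hom (1 : X.ringCatSheaf.obj.obj (op ⊤)) =
      SecTwist.tmul E₁ E₂ ⊤ a b := by
    change ((tensorMap (𝟙 E₁) t).val.app (op ⊤)).hom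
      (((tensorMap s (𝟙 (Coh.structureModule X))).val.app (op ⊤)).hom
        (((SecTwist.unitorR (Coh.structureModule X)).inv.val.app (op ⊤)).hom
          ((1 : X.ringCatSheaf.obj.obj (op ⊤)) : (Coh.structureModule X).val.obj (op ⊤)))) = _
    rw [unitorR_inv_apply, tensorMap_tmul, tensorMap_tmul, hs1]
    exact congrArg (SecTwist.tmul E₁ E₂ ⊤ a) ht1
  intro hzero
  have hm0 : m = 0 := by
    apply hom_ext_top
    rw [hm1, hzero]
    rfl
  have hz : IsZero (Coh.structureModule X) := IsZero.of_mono_eq_zero m hm0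
  have h3 : Subsingleton Γ(Coh.structureModule X, ⊤) :=
    Groth.Agent.Lib.Lead.DimOneVanish.subsingleton_sections_of_isZero hz ⊤
  haveI : Nonempty (⊤ : X.Opens) := ⟨⟨Classical.arbitrary X, trivial⟩⟩
  haveI : Nontrivial Γ(X, ⊤) := Scheme.component_nontrivial X ⊤
  have h4 : (1 : Γ(X, ⊤)) = 0 := h3.elim (show Γ(Coh.structureModule X, ⊤) from (1 : Γ(X, ⊤)))
    (show Γ(Coh.structureModule X, ⊤) from (0 : Γ(X, ⊤)))
  exact one_ne_zero h4

section hopf

variable (k : Type u) [Field k] [IsAlgClosed k] (X : Scheme.{u}) [X.Over (Spec (CommRingCat.of k))]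
  [IsProper (X ↘ Spec (CommRingCat.of k))] [IsIntegral X]

/-- **Hopf inequality**: `h⁰(E₁) + h⁰(E₂) ≤ h⁰(E₁ ⊗ E₂) + 1` for finite locally free modules with sections on an
integral proper scheme over an algebraically closed field. -/
theorem hopf_finrank {E₁ E₂ : X.Modules} (h₁ : FlatMod.IsFinLocFree E₁) (h₂ : FlatMod.IsFinLocFree E₂)
    [Nontrivial (Coh.HH X E₁ 0)] [Nontrivial (Coh.HH X E₂ 0)] :
    finrank k (Coh.HH X E₁ 0) + finrank k (Coh.HH X E₂ 0) ≤
      finrank k (Coh.HH X (CohB1.tensorMod E₁ E₂) 0) + 1 := by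
  have hc₁ : Coh.IsCoh E₁ := Groth.Agent.Lib.helper16.CohFinite.isCoh_of_isFinitePresentation E₁
    (Groth.Agent.Lib.helper16.FLF.isFinitePresentation_of_isFinLocFree E₁ h₁)
  have hc₂ : Coh.IsCoh E₂ := Groth.Agent.Lib.helper16.CohFinite.isCoh_of_isFinitePresentation E₂
    (Groth.Agent.Lib.helper16.FLF.isFinitePresentation_of_isFinLocFree E₂ h₂)
  haveI : E₁.IsQuasicoherent := hc₁.1
  haveI : E₂.IsQuasicoherent := hc₂.1
  have hc₁₂ : Coh.IsCoh (CohB1.tensorMod E₁ E₂) :=
    ⟨Groth.Agent.Lib.helper2.TensorQCoh.isQuasicoherent_tensorMod _ _,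
      Groth.Agent.Lib.helper2.TensorQCoh.isFiniteType_tensorMod _ _ hc₁.2 hc₂.2⟩
  haveI : Module.Finite k (Coh.HH X E₁ 0) := Groth.Agent.Lib.Lead.ProperEuler.finite_HH k X _ hc₁ 0
  haveI : Module.Finite k (Coh.HH X E₂ 0) := Groth.Agent.Lib.Lead.ProperEuler.finite_HH k X _ hc₂ 0
  haveI : Module.Finite k (Coh.HH X (CohB1.tensorMod E₁ E₂) 0) :=
    Groth.Agent.Lib.Lead.ProperEuler.finite_HH k X _ hc₁₂ 0
  letI := HH.sectionsModuleOver k E₁
  letI := HH.sectionsModuleOver k E₂
  letI := HH.sectionsModuleOver k (CohB1.tensorMod E₁ E₂)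
  let e₁ := HH.equiv₀Over k E₁
  let e₂ := HH.equiv₀Over k E₂
  let e₁₂ := HH.equiv₀Over k (CohB1.tensorMod E₁ E₂)
  let φ : E₁.val.obj (op ⊤) →ₗ[k] E₂.val.obj (op ⊤) →ₗ[k] (CohB1.tensorMod E₁ E₂).val.obj (op ⊤) :=
    LinearMap.mk₂ k (fun a b => SecTwist.tmul E₁ E₂ ⊤ a b)
      (fun a a' b => tmul_add_left E₁ E₂ ⊤ a a' b)
      (fun c a b => tmul_smul_left E₁ E₂ ⊤ (Coh.toGlobal (X ↘ Spec (CommRingCat.of k)) c) a b)
      (fun a b b' => tmul_add_right E₁ E₂ ⊤ a b b')
      (fun c a b => tmul_smul_right E₁ E₂ ⊤ (Coh.toGlobal (X ↘ Spec (CommRingCat.of k)) c) a b)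
  haveI : Module.Finite k (E₁.val.obj (op ⊤)) := Module.Finite.equiv e₁
  haveI : Module.Finite k (E₂.val.obj (op ⊤)) := Module.Finite.equiv e₂
  haveI : Module.Finite k ((CohB1.tensorMod E₁ E₂).val.obj (op ⊤)) := Module.Finite.equiv e₁₂
  haveI : Nontrivial (E₁.val.obj (op ⊤)) := e₁.symm.toEquiv.nontrivial
  haveI : Nontrivial (E₂.val.obj (op ⊤)) := e₂.symm.toEquiv.nontrivial
  have key := Groth.Agent.Lib.helper13.Hopf.hopf φ
    (fun a b ha hb => tmul_ne_zero h₁ h₂ a b ha hb)
  rw [e₁.finrank_eq, e₂.finrank_eq, e₁₂.finrank_eq]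
  exact key

end hopf

end Groth.Agent.Lib.helper9.CurveHopf
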