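/-
Helper library (helper9): a localization `M⁻¹A` as the filtered colimit of the localizations
`A_g` (`g ∈ M`), and `Spec (M⁻¹A)` as the cofiltered limit of the basic opens `Spec A_g`.
-/
import Mathlib

set_option autoImplicit false
set_option linter.style.haveILetI false
set_option backward.isDefEq.respectTransparency false

open CategoryTheory CategoryTheory.Limits AlgebraicGeometry

namespace Groth.Agent.Lib.helper9.LocLim

universe u

variable {A : Type u} [CommRing A] (M : Submonoid A)

/-- The index type: elements of `M`, preordered by divisibility. -/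
structure Idx (M : Submonoid A) where
  /-- the element -/
  val : A
  mem : val ∈ M

namespace Idx

variable {M}

instance : Preorder (Idx M) where
  le g h := g.val ∣ h.val
  le_refl g := dvd_refl _
  le_trans _ _ _ h₁ h₂ := dvd_trans h₁ h₂

theorem le_def {g h : Idx M} : g ≤ h ↔ g.val ∣ h.val := Iff.rfl

/-- the product of two indices -/
def mul (g h : Idx M) : Idx M := ⟨g.val * h.val, M.mul_mem g.mem h.mem⟩

/-- the unit index -/
def one : Idx M := ⟨1, M.one_mem⟩

theorem le_mul_left (g h : Idx M) : g ≤ g.mul h := Dvd.intro _ rfl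

theorem le_mul_right (g h : Idx M) : h ≤ g.mul h := Dvd.intro_left _ rfl

instance : Nonempty (Idx M) := ⟨one⟩

instance : IsDirected (Idx M) (· ≤ ·) := ⟨fun g h => ⟨g.mul h, le_mul_left g h, le_mul_right g h⟩⟩

instance : IsFiltered (Idx M) := isFiltered_of_directed_le_nonempty _

end Idx

/-- `g` is a unit in `A_h` when `g ∣ h`. -/
theorem isUnit_algebraMap_of_dvd {g h : A} (hgh : g ∣ h) (S : Type*) [CommRing S] [Algebra A S]
    [IsLocalization.Away h S] : IsUnit (algebraMap A S g) :=
  isUnit_of_dvd_unit (map_dvd (algebraMap A S) hgh) (IsLocalization.Away.algebraMap_isUnit h)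

/-- The transition map `A_g ⟶ A_h` for `g ∣ h`. -/
noncomputable def trans {g h : A} (hgh : g ∣ h) : Localization.Away g →+* Localization.Away h :=
  IsLocalization.Away.lift g (isUnit_algebraMap_of_dvd hgh (Localization.Away h))

theorem trans_comp_algebraMap {g h : A} (hgh : g ∣ h) :
    (trans hgh).comp (algebraMap A (Localization.Away g)) = algebraMap A (Localization.Away h) :=
  IsLocalization.Away.lift_comp _ _

theorem trans_algebraMap {g h : A} (hgh : g ∣ h) (a : A) :
    trans hgh (algebraMap A (Localization.Away g) a) = algebraMap A (Localization.Away h) a :=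
  IsLocalization.Away.lift_eq _ _ _

/-- Ring homomorphisms out of `A_g` agreeing on `A` are equal. -/
theorem away_hom_ext {g : A} {P : Type*} [Semiring P] {j k : Localization.Away g →+* P}
    (h : j.comp (algebraMap A (Localization.Away g)) = k.comp (algebraMap A (Localization.Away g))) :
    j = k :=
  IsLocalization.ringHom_ext (Submonoid.powers g) h

/-- The filtered diagram `g ↦ A_g`. -/
noncomputable def ringDiagram : Idx M ⥤ CommRingCat.{u} where
  obj g := CommRingCat.of (Localization.Away g.val)
  map {g h} f := CommRingCat.ofHom (trans (leOfHom f))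
  map_id g := by
    ext : 1
    apply away_hom_ext
    rw [CommRingCat.hom_ofHom, trans_comp_algebraMap]
    rfl
  map_comp {g h k} f f' := by
    ext : 1
    apply away_hom_ext
    rw [CommRingCat.hom_ofHom, trans_comp_algebraMap, CommRingCat.hom_comp,
      CommRingCat.hom_ofHom, CommRingCat.hom_ofHom, RingHom.comp_assoc, trans_comp_algebraMap,
      trans_comp_algebraMap]

variable (K : Type u) [CommRing K] [Algebra A K] [IsLocalization M K]

/-- The canonical map `A_g ⟶ M⁻¹A` for `g ∈ M`. -/
noncomputable def toLoc (g : Idx M) : Localization.Away g.val →+* K :=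
  IsLocalization.Away.lift g.val (IsLocalization.map_units K (⟨g.val, g.mem⟩ : M))

theorem toLoc_comp_algebraMap (g : Idx M) :
    (toLoc M K g).comp (algebraMap A (Localization.Away g.val)) = algebraMap A K :=
  IsLocalization.Away.lift_comp _ _

theorem toLoc_algebraMap (g : Idx M) (a : A) :
    toLoc M K g (algebraMap A (Localization.Away g.val) a) = algebraMap A K a :=
  IsLocalization.Away.lift_eq _ _ _

theorem toLoc_comp_trans {g h : Idx M} (hgh : g ≤ h) :
    (toLoc M K h).comp (trans hgh) = toLoc M K g := by
  apply away_hom_ext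
  rw [RingHom.comp_assoc, trans_comp_algebraMap, toLoc_comp_algebraMap, toLoc_comp_algebraMap]

/-- The cocone with vertex `M⁻¹A`. -/
noncomputable def ringCocone : Cocone (ringDiagram M) where
  pt := CommRingCat.of K
  ι :=
  { app g := CommRingCat.ofHom (toLoc M K g)
    naturality g h f := by
      ext : 1
      simp only [Functor.const_obj_obj, Functor.const_obj_map]
      rw [CommRingCat.hom_comp, CommRingCat.hom_ofHom]
      exact toLoc_comp_trans M K (leOfHom f) }

/-- The restriction to `A` of a cocone leg does not depend on the index. -/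
theorem cocone_comp_algebraMap (s : Cocone (ringDiagram M)) (g : Idx M) :
    (s.ι.app g).hom.comp (algebraMap A (Localization.Away g.val)) =
      (s.ι.app Idx.one).hom.comp (algebraMap A (Localization.Away (Idx.one (M := M)).val)) := by
  have h1 : Idx.one ≤ g := one_dvd _
  have h2 := s.w (homOfLE h1)
  have h3 : ((ringDiagram M).map (homOfLE h1)).hom = trans (leOfHom (homOfLE h1)) := rfl
  rw [← h2, CommRingCat.hom_comp, h3, RingHom.comp_assoc, trans_comp_algebraMap]

/-- The map out of `M⁻¹A` induced by a cocone. -/
noncomputable def descHom (s : Cocone (ringDiagram M)) : K →+* s.pt :=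
  IsLocalization.lift (M := M) (S := K)
    (g := (s.ι.app Idx.one).hom.comp (algebraMap A (Localization.Away (Idx.one (M := M)).val)))
    (by
      intro y
      let gy : Idx M := ⟨y.1, y.2⟩
      rw [← cocone_comp_algebraMap M s gy]
      exact (IsLocalization.Away.algebraMap_isUnit (S := Localization.Away gy.val) gy.val).map
        (s.ι.app gy).hom)

theorem descHom_comp_algebraMap (s : Cocone (ringDiagram M)) :
    (descHom M K s).comp (algebraMap A K) =
      (s.ι.app Idx.one).hom.comp (algebraMap A (Localization.Away (Idx.one (M := M)).val)) :=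
  IsLocalization.lift_comp _

theorem descHom_comp_toLoc (s : Cocone (ringDiagram M)) (g : Idx M) :
    (descHom M K s).comp (toLoc M K g) = (s.ι.app g).hom := by
  apply away_hom_ext
  rw [RingHom.comp_assoc, toLoc_comp_algebraMap, descHom_comp_algebraMap, ← cocone_comp_algebraMap]

theorem eq_descHom (s : Cocone (ringDiagram M)) (m : K →+* s.pt)
    (hm : ∀ g : Idx M, m.comp (toLoc M K g) = (s.ι.app g).hom) : m = descHom M K s := by
  apply IsLocalization.ringHom_ext M
  rw [descHom_comp_algebraMap, ← hm Idx.one, RingHom.comp_assoc, toLoc_comp_algebraMap]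

/-- `M⁻¹A` is the colimit of the `A_g`. -/
noncomputable def isColimitRingCocone : IsColimit (ringCocone M K) where
  desc s := CommRingCat.ofHom (descHom M K s)
  fac s g := by
    ext : 1
    exact descHom_comp_toLoc M K s g
  uniq s m hm := by
    ext : 1
    refine eq_descHom M K s m.hom fun g => ?_
    rw [← hm g]
    rfl

/-- The cofiltered diagram of the `Spec A_g`. -/
noncomputable def specDiagram : (Idx M)ᵒᵖ ⥤ Scheme.{u} := (ringDiagram M).op ⋙ Scheme.Spec

/-- The cone over `specDiagram` with vertex `Spec M⁻¹A`. -/
noncomputable def specCone : Cone (specDiagram M) := Scheme.Spec.mapCone (ringCocone M K).op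

/-- `Spec M⁻¹A` is the limit of the `Spec A_g`. -/
noncomputable def isLimitSpecCone : IsLimit (specCone M K) :=
  isLimitOfPreserves Scheme.Spec (isColimitRingCocone M K).op

instance {i j : (Idx M)ᵒᵖ} (f : i ⟶ j) : IsAffineHom ((specDiagram M).map f) := by
  dsimp [specDiagram]
  infer_instance

instance (i : (Idx M)ᵒᵖ) : IsAffine ((specDiagram M).obj i) :=
  inferInstanceAs (IsAffine (Spec (CommRingCat.of (Localization.Away i.unop.val))))

instance (i : (Idx M)ᵒᵖ) : CompactSpace ↥((specDiagram M).obj i) :=
  inferInstanceAs (CompactSpace ↥(Spec (CommRingCat.of (Localization.Away i.unop.val))))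

instance (i : (Idx M)ᵒᵖ) : QuasiSeparatedSpace ↥((specDiagram M).obj i) :=
  inferInstanceAs (QuasiSeparatedSpace ↥(Spec (CommRingCat.of (Localization.Away i.unop.val))))

theorem specCone_pt : (specCone M K).pt = Spec (CommRingCat.of K) := rfl

theorem specCone_π (g : (Idx M)ᵒᵖ) :
    (specCone M K).π.app g = Spec.map (CommRingCat.ofHom (toLoc M K g.unop)) := rfl

theorem specDiagram_obj (g : (Idx M)ᵒᵖ) :
    (specDiagram M).obj g = Spec (CommRingCat.of (Localization.Away g.unop.val)) := rfl

theorem specDiagram_map {g h : (Idx M)ᵒᵖ} (f : g ⟶ h) :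
    (specDiagram M).map f = Spec.map (CommRingCat.ofHom (trans (leOfHom f.unop))) := rfl

/-- The structure map `Spec A_g ⟶ Spec A`. -/
noncomputable def toBase (g : (Idx M)ᵒᵖ) : (specDiagram M).obj g ⟶ Spec (CommRingCat.of A) :=
  Spec.map (CommRingCat.ofHom (algebraMap A (Localization.Away g.unop.val)))

instance (g : (Idx M)ᵒᵖ) : IsOpenImmersion (toBase M g) := by
  dsimp [toBase]
  infer_instance

theorem specDiagram_map_toBase {g h : (Idx M)ᵒᵖ} (f : g ⟶ h) :
    (specDiagram M).map f ≫ toBase M h = toBase M g := by
  rw [specDiagram_map, toBase, toBase, ← Spec.map_comp, ← CommRingCat.ofHom_comp,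
    trans_comp_algebraMap]

theorem specCone_π_toBase (g : (Idx M)ᵒᵖ) :
    (specCone M K).π.app g ≫ toBase M g = Spec.map (CommRingCat.ofHom (algebraMap A K)) := by
  rw [specCone_π, toBase, ← Spec.map_comp, ← CommRingCat.ofHom_comp, toLoc_comp_algebraMap]

theorem range_toBase (g : (Idx M)ᵒᵖ) :
    Set.range (toBase M g) = (PrimeSpectrum.basicOpen g.unop.val : Set (PrimeSpectrum A)) :=
  PrimeSpectrum.localization_away_comap_range (Localization.Away g.unop.val) g.unop.val

end Groth.Agent.Lib.helper9.LocLim
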