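/-
Helper library (helper9): diagonals and base change. If `f` is a base change of `f₀` along
`Y ⟶ Y₀`, and `Y` is a base change of `Y₀ ⟶ S₀` along `π : S' ⟶ S₀`, then `f` is a monomorphism
iff the base change along `π` of the diagonal of `f₀` (as a map of `S₀`-objects) is an isomorphism.
-/
import Groth.Agent.Lib.Helper9.StageSquares
import Mathlib.CategoryTheory.Limits.Shapes.Diagonal

set_option autoImplicit false

namespace Groth.Agent.Lib.helper9

open CategoryTheory Limits

section cat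

variable {C : Type*} [Category C] [HasPullbacks C]

theorem isPullback_map_fst' {X' Y' X Y : C} {f' : X' ⟶ Y'} {p : X' ⟶ X} {j : Y' ⟶ Y} {f : X ⟶ Y}
    (H : IsPullback f' p j f) :
    IsPullback (pullback.map f' f' f f p p j H.w H.w) (pullback.fst f' f') (pullback.fst f f) p := by
  have h1 : pullback.map f' f' f f p p j H.w H.w ≫ pullback.snd f f = pullback.snd f' f' ≫ p :=
    pullback.lift_snd _ _ _
  have h0 : pullback.map f' f' f f p p j H.w H.w ≫ pullback.fst f f = pullback.fst f' f' ≫ p :=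
    pullback.lift_fst _ _ _
  have h2 : IsPullback (pullback.snd f' f' ≫ p) (pullback.fst f' f') f (f' ≫ j) :=
    (IsPullback.of_hasPullback f' f').flip.paste_horiz H.flip
  rw [H.w, ← h1] at h2
  exact IsPullback.of_right h2 h0 (IsPullback.of_hasPullback f f).flip

theorem isPullback_diagonal' {X' Y' X Y : C} {f' : X' ⟶ Y'} {p : X' ⟶ X} {j : Y' ⟶ Y} {f : X ⟶ Y}
    (H : IsPullback f' p j f) :
    IsPullback (pullback.diagonal f') p (pullback.map f' f' f f p p j H.w H.w)
      (pullback.diagonal f) := by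
  have h1 : IsPullback (pullback.diagonal f' ≫ pullback.fst f' f') p p
      (pullback.diagonal f ≫ pullback.fst f f) := by
    rw [pullback.diagonal_fst, pullback.diagonal_fst]
    exact IsPullback.of_horiz_isIso ⟨by simp⟩
  refine IsPullback.of_right h1 ?_ (isPullback_map_fst' H).flip
  have h0 : pullback.map f' f' f f p p j H.w H.w ≫ pullback.fst f f = pullback.fst f' f' ≫ p :=
    pullback.lift_fst _ _ _
  have h1' : pullback.map f' f' f f p p j H.w H.w ≫ pullback.snd f f = pullback.snd f' f' ≫ p :=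
    pullback.lift_snd _ _ _
  apply pullback.hom_ext
  · rw [Category.assoc, h0, pullback.diagonal_fst_assoc, Category.assoc, pullback.diagonal_fst,
      Category.comp_id]
  · rw [Category.assoc, h1', pullback.diagonal_snd_assoc, Category.assoc, pullback.diagonal_snd,
      Category.comp_id]

variable {S' S₀ X₀ Y₀ X Y : C} {π : S' ⟶ S₀} {f₀ : X₀ ⟶ Y₀} {g₀ : Y₀ ⟶ S₀}
  {f : X ⟶ Y} {g : Y ⟶ S'} {qY : Y ⟶ Y₀} {qX : X ⟶ X₀}

/-- The structure map of `X₀ ×_{Y₀} X₀` to the base. -/
noncomputable abbrev diagBase (f₀ : X₀ ⟶ Y₀) (g₀ : Y₀ ⟶ S₀) : pullback f₀ f₀ ⟶ S₀ :=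
  pullback.fst f₀ f₀ ≫ f₀ ≫ g₀

theorem diagonal_diagBase (f₀ : X₀ ⟶ Y₀) (g₀ : Y₀ ⟶ S₀) :
    pullback.diagonal f₀ ≫ diagBase f₀ g₀ = f₀ ≫ g₀ := by
  simp [diagBase]

theorem snd_diagBase (f₀ : X₀ ⟶ Y₀) (g₀ : Y₀ ⟶ S₀) :
    pullback.snd f₀ f₀ ≫ f₀ ≫ g₀ = diagBase f₀ g₀ := by
  rw [diagBase, ← Category.assoc, ← pullback.condition, Category.assoc]

/-- If the base change of the diagonal of `f₀` along `π` is an isomorphism, then any base change
`f` of `f₀` (over the base change along `π`) is a monomorphism. -/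
theorem mono_of_isIso_stageMap_diagonal (hY : IsPullback qY g g₀ π) (hX : IsPullback qX f f₀ qY)
    [IsIso (stageMap π (pullback.diagonal f₀) (diagBase f₀ g₀))] : Mono f := by
  rw [← pullback.isIso_diagonal_iff]
  have hw := hX.flip.w
  -- the map `X ×_Y X ⟶ X₀ ×_{Y₀} X₀`
  let μ : pullback f f ⟶ pullback f₀ f₀ := pullback.map f f f₀ f₀ qX qX qY hw hw
  have hμfst : μ ≫ pullback.fst f₀ f₀ = pullback.fst f f ≫ qX := pullback.lift_fst _ _ _
  have hθcond : (pullback.fst f f ≫ f ≫ g) ≫ π = μ ≫ diagBase f₀ g₀ := by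
    show _ = μ ≫ pullback.fst f₀ f₀ ≫ f₀ ≫ g₀
    rw [reassoc_of% hμfst, reassoc_of% hX.w, hY.w]
    simp only [Category.assoc]
  let θ : pullback f f ⟶ pullback π (diagBase f₀ g₀) :=
    pullback.lift (pullback.fst f f ≫ f ≫ g) μ hθcond
  have hρcond : (f ≫ g) ≫ π = qX ≫ pullback.diagonal f₀ ≫ diagBase f₀ g₀ := by
    rw [diagonal_diagBase, Category.assoc, ← hY.w, ← reassoc_of% hX.w]
  let ρ : X ⟶ pullback π (pullback.diagonal f₀ ≫ diagBase f₀ g₀) :=
    pullback.lift (f ≫ g) qX hρcond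
  have hbig : IsPullback (pullback.diagonal f) (ρ ≫ pullback.snd _ _) (θ ≫ pullback.snd _ _)
      (pullback.diagonal f₀) := by
    have e1 : ρ ≫ pullback.snd π (pullback.diagonal f₀ ≫ diagBase f₀ g₀) = qX :=
      pullback.lift_snd _ _ _
    have e2 : θ ≫ pullback.snd π (diagBase f₀ g₀) = μ := pullback.lift_snd _ _ _
    rw [e1, e2]
    exact isPullback_diagonal' hX.flip
  have hcomm : pullback.diagonal f ≫ θ =
      ρ ≫ stageMap π (pullback.diagonal f₀) (diagBase f₀ g₀) := by
    apply pullback.hom_ext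
    · rw [Category.assoc, Category.assoc, stageMap_fst, pullback.lift_fst, pullback.lift_fst,
        pullback.diagonal_fst_assoc]
    · rw [Category.assoc, Category.assoc, stageMap_snd, pullback.lift_snd,
        pullback.lift_snd_assoc]
      exact (isPullback_diagonal' hX.flip).w
  have hsq : IsPullback (pullback.diagonal f) ρ θ
      (stageMap π (pullback.diagonal f₀) (diagBase f₀ g₀)) :=
    IsPullback.of_bot hbig hcomm
      (isPullback_stageMap π (pullback.diagonal f₀) (diagBase f₀ g₀)).flip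
  exact hsq.isIso_fst_of_isIso

/-- If a base change `f` of `f₀` over the base change along `π` is a monomorphism, then the base
change of the diagonal of `f₀` along `π` is an isomorphism. -/
theorem isIso_stageMap_diagonal_of_mono (hY : IsPullback qY g g₀ π) (hX : IsPullback qX f f₀ qY)
    [Mono f] : IsIso (stageMap π (pullback.diagonal f₀) (diagBase f₀ g₀)) := by
  have HX : IsPullback qX (f ≫ g) (f₀ ≫ g₀) π := hX.paste_vert hY
  have hw := hX.flip.w
  let μ : pullback f f ⟶ pullback f₀ f₀ := pullback.map f f f₀ f₀ qX qX qY hw hw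
  have hμfst : μ ≫ pullback.fst f₀ f₀ = pullback.fst f f ≫ qX := pullback.lift_fst _ _ _
  have hμsnd : μ ≫ pullback.snd f₀ f₀ = pullback.snd f f ≫ qX := pullback.lift_snd _ _ _
  -- the two maps `S' ×_{S₀} (X₀ ×_{Y₀} X₀) ⟶ X`
  have hc1 : (pullback.snd π (diagBase f₀ g₀) ≫ pullback.fst f₀ f₀) ≫ (f₀ ≫ g₀) =
      pullback.fst π (diagBase f₀ g₀) ≫ π := by
    rw [pullback.condition, Category.assoc]
  have hc2 : (pullback.snd π (diagBase f₀ g₀) ≫ pullback.snd f₀ f₀) ≫ (f₀ ≫ g₀) =
      pullback.fst π (diagBase f₀ g₀) ≫ π := by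
    rw [pullback.condition, Category.assoc, snd_diagBase]
  let a₁ : pullback π (diagBase f₀ g₀) ⟶ X := HX.lift _ _ hc1
  let a₂ : pullback π (diagBase f₀ g₀) ⟶ X := HX.lift _ _ hc2
  have ha₁ : a₁ ≫ qX = pullback.snd π (diagBase f₀ g₀) ≫ pullback.fst f₀ f₀ := HX.lift_fst _ _ _
  have ha₂ : a₂ ≫ qX = pullback.snd π (diagBase f₀ g₀) ≫ pullback.snd f₀ f₀ := HX.lift_fst _ _ _
  have ha₁' : a₁ ≫ f ≫ g = pullback.fst π (diagBase f₀ g₀) := HX.lift_snd _ _ _
  have ha₂' : a₂ ≫ f ≫ g = pullback.fst π (diagBase f₀ g₀) := HX.lift_snd _ _ _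
  have ha : a₁ ≫ f = a₂ ≫ f := by
    apply hY.hom_ext
    · rw [Category.assoc, Category.assoc, ← hX.w, reassoc_of% ha₁, reassoc_of% ha₂,
        pullback.condition]
    · rw [Category.assoc, Category.assoc, ha₁', ha₂']
  let θ' : pullback π (diagBase f₀ g₀) ⟶ pullback f f := pullback.lift a₁ a₂ ha
  have hθ' : θ' ≫ μ = pullback.snd π (diagBase f₀ g₀) := by
    apply pullback.hom_ext
    · rw [Category.assoc, hμfst, pullback.lift_fst_assoc, ha₁]
    · rw [Category.assoc, hμsnd, pullback.lift_snd_assoc, ha₂]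
  have hρ'cond : pullback.snd π (pullback.diagonal f₀ ≫ diagBase f₀ g₀) ≫ (f₀ ≫ g₀) =
      pullback.fst π (pullback.diagonal f₀ ≫ diagBase f₀ g₀) ≫ π := by
    rw [pullback.condition]
    exact congrArg (_ ≫ ·) (diagonal_diagBase f₀ g₀).symm
  let ρ' : pullback π (pullback.diagonal f₀ ≫ diagBase f₀ g₀) ⟶ X := HX.lift _ _ hρ'cond
  have hρ' : ρ' ≫ qX = pullback.snd π (pullback.diagonal f₀ ≫ diagBase f₀ g₀) :=
    HX.lift_fst _ _ _
  have hρ'' : ρ' ≫ f ≫ g = pullback.fst π (pullback.diagonal f₀ ≫ diagBase f₀ g₀) :=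
    HX.lift_snd _ _ _
  have hbig : IsPullback (stageMap π (pullback.diagonal f₀) (diagBase f₀ g₀)) (ρ' ≫ qX)
      (θ' ≫ μ) (pullback.diagonal f₀) := by
    rw [hρ', hθ']
    exact (isPullback_stageMap π (pullback.diagonal f₀) (diagBase f₀ g₀)).flip
  have hcomm : stageMap π (pullback.diagonal f₀) (diagBase f₀ g₀) ≫ θ' =
      ρ' ≫ pullback.diagonal f := by
    apply pullback.hom_ext
    · rw [Category.assoc, Category.assoc, pullback.lift_fst, pullback.diagonal_fst,
        Category.comp_id]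
      apply HX.hom_ext
      · rw [Category.assoc, ha₁, hρ', stageMap_snd_assoc, pullback.diagonal_fst, Category.comp_id]
      · rw [Category.assoc, ha₁', hρ'', stageMap_fst]
    · rw [Category.assoc, Category.assoc, pullback.lift_snd, pullback.diagonal_snd,
        Category.comp_id]
      apply HX.hom_ext
      · rw [Category.assoc, ha₂, hρ', stageMap_snd_assoc, pullback.diagonal_snd, Category.comp_id]
      · rw [Category.assoc, ha₂', hρ'', stageMap_fst]
  have hsq : IsPullback (stageMap π (pullback.diagonal f₀) (diagBase f₀ g₀)) ρ' θ'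
      (pullback.diagonal f) :=
    IsPullback.of_bot hbig hcomm (isPullback_diagonal' hX.flip)
  have : IsIso (pullback.diagonal f) := (pullback.isIso_diagonal_iff f).mpr inferInstance
  exact hsq.isIso_fst_of_isIso

end cat

end Groth.Agent.Lib.helper9
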