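/-
Helper library (helper9): the diagonal of a base change `f` of `f₀` and the base change of the
diagonal of `f₀` are base changes of each other (generalising `DiagBaseChange` to arbitrary
properties stable under base change).
-/
import Groth.Agent.Lib.Helper9.DiagBaseChange
import Mathlib.CategoryTheory.MorphismProperty.Limits

set_option autoImplicit false

namespace Groth.Agent.Lib.helper9

open CategoryTheory Limits

section cat

variable {C : Type*} [Category C] [HasPullbacks C]

variable {S' S₀ X₀ Y₀ X Y : C} {π : S' ⟶ S₀} {f₀ : X₀ ⟶ Y₀} {g₀ : Y₀ ⟶ S₀}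
  {f : X ⟶ Y} {g : Y ⟶ S'} {qY : Y ⟶ Y₀} {qX : X ⟶ X₀}

/-- The diagonal of `f` is a base change of the base change along `π` of the diagonal of `f₀`. -/
theorem exists_isPullback_diagonal_stageMap (hY : IsPullback qY g g₀ π)
    (hX : IsPullback qX f f₀ qY) :
    ∃ (ρ : X ⟶ pullback π (pullback.diagonal f₀ ≫ diagBase f₀ g₀))
      (θ : pullback f f ⟶ pullback π (diagBase f₀ g₀)),
      IsPullback (pullback.diagonal f) ρ θ
        (stageMap π (pullback.diagonal f₀) (diagBase f₀ g₀)) := by
  have hw := hX.flip.w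
  let μ : pullback f f ⟶ pullback f₀ f₀ := pullback.map f f f₀ f₀ qX qX qY hw hw
  have hμfst : μ ≫ pullback.fst f₀ f₀ = pullback.fst f f ≫ qX := pullback.lift_fst _ _ _
  have hθcond : (pullback.fst f f ≫ f ≫ g) ≫ π = μ ≫ diagBase f₀ g₀ := by
    show _ = μ ≫ pullback.fst f₀ f₀ ≫ f₀ ≫ g₀
    rw [reassoc_of% hμfst, reassoc_of% hX.w, hY.w]
    simp only [Category.assoc]
  let θ : pullback f f ⟶ pullback π (diagBase f₀ g₀) :=
    pullback.lift (pullback.fst f f ≫ f ≫ g) μ hθcond
  have hρcond : (f ≫ g) ≫ π = qX ≫ pullback.diagonal f₀ ≫ diagBase f₀ g₀ := by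
    rw [diagonal_diagBase, Category.assoc, ← hY.w, ← reassoc_of% hX.w]
  let ρ : X ⟶ pullback π (pullback.diagonal f₀ ≫ diagBase f₀ g₀) :=
    pullback.lift (f ≫ g) qX hρcond
  have hbig : IsPullback (pullback.diagonal f) (ρ ≫ pullback.snd _ _) (θ ≫ pullback.snd _ _)
      (pullback.diagonal f₀) := by
    have e1 : ρ ≫ pullback.snd π (pullback.diagonal f₀ ≫ diagBase f₀ g₀) = qX :=
      pullback.lift_snd _ _ _
    have e2 : θ ≫ pullback.snd π (diagBase f₀ g₀) = μ := pullback.lift_snd _ _ _
    rw [e1, e2]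
    exact isPullback_diagonal' hX.flip
  have hcomm : pullback.diagonal f ≫ θ =
      ρ ≫ stageMap π (pullback.diagonal f₀) (diagBase f₀ g₀) := by
    apply pullback.hom_ext
    · rw [Category.assoc, Category.assoc, stageMap_fst, pullback.lift_fst, pullback.lift_fst,
        pullback.diagonal_fst_assoc]
    · rw [Category.assoc, Category.assoc, stageMap_snd, pullback.lift_snd,
        pullback.lift_snd_assoc]
      exact (isPullback_diagonal' hX.flip).w
  exact ⟨ρ, θ, IsPullback.of_bot hbig hcomm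
    (isPullback_stageMap π (pullback.diagonal f₀) (diagBase f₀ g₀)).flip⟩

/-- The base change along `π` of the diagonal of `f₀` is a base change of the diagonal of `f`. -/
theorem exists_isPullback_stageMap_diagonal (hY : IsPullback qY g g₀ π)
    (hX : IsPullback qX f f₀ qY) :
    ∃ (ρ' : pullback π (pullback.diagonal f₀ ≫ diagBase f₀ g₀) ⟶ X)
      (θ' : pullback π (diagBase f₀ g₀) ⟶ pullback f f),
      IsPullback (stageMap π (pullback.diagonal f₀) (diagBase f₀ g₀)) ρ' θ'
        (pullback.diagonal f) := by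
  have HX : IsPullback qX (f ≫ g) (f₀ ≫ g₀) π := hX.paste_vert hY
  have hw := hX.flip.w
  let μ : pullback f f ⟶ pullback f₀ f₀ := pullback.map f f f₀ f₀ qX qX qY hw hw
  have hμfst : μ ≫ pullback.fst f₀ f₀ = pullback.fst f f ≫ qX := pullback.lift_fst _ _ _
  have hμsnd : μ ≫ pullback.snd f₀ f₀ = pullback.snd f f ≫ qX := pullback.lift_snd _ _ _
  have hc1 : (pullback.snd π (diagBase f₀ g₀) ≫ pullback.fst f₀ f₀) ≫ (f₀ ≫ g₀) =
      pullback.fst π (diagBase f₀ g₀) ≫ π := by
    rw [pullback.condition, Category.assoc]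
  have hc2 : (pullback.snd π (diagBase f₀ g₀) ≫ pullback.snd f₀ f₀) ≫ (f₀ ≫ g₀) =
      pullback.fst π (diagBase f₀ g₀) ≫ π := by
    rw [pullback.condition, Category.assoc, snd_diagBase]
  let a₁ : pullback π (diagBase f₀ g₀) ⟶ X := HX.lift _ _ hc1
  let a₂ : pullback π (diagBase f₀ g₀) ⟶ X := HX.lift _ _ hc2
  have ha₁ : a₁ ≫ qX = pullback.snd π (diagBase f₀ g₀) ≫ pullback.fst f₀ f₀ := HX.lift_fst _ _ _
  have ha₂ : a₂ ≫ qX = pullback.snd π (diagBase f₀ g₀) ≫ pullback.snd f₀ f₀ := HX.lift_fst _ _ _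
  have ha₁' : a₁ ≫ f ≫ g = pullback.fst π (diagBase f₀ g₀) := HX.lift_snd _ _ _
  have ha₂' : a₂ ≫ f ≫ g = pullback.fst π (diagBase f₀ g₀) := HX.lift_snd _ _ _
  have ha : a₁ ≫ f = a₂ ≫ f := by
    apply hY.hom_ext
    · rw [Category.assoc, Category.assoc, ← hX.w, reassoc_of% ha₁, reassoc_of% ha₂,
        pullback.condition]
    · rw [Category.assoc, Category.assoc, ha₁', ha₂']
  let θ' : pullback π (diagBase f₀ g₀) ⟶ pullback f f := pullback.lift a₁ a₂ ha
  have hθ' : θ' ≫ μ = pullback.snd π (diagBase f₀ g₀) := by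
    apply pullback.hom_ext
    · rw [Category.assoc, hμfst, pullback.lift_fst_assoc, ha₁]
    · rw [Category.assoc, hμsnd, pullback.lift_snd_assoc, ha₂]
  have hρ'cond : pullback.snd π (pullback.diagonal f₀ ≫ diagBase f₀ g₀) ≫ (f₀ ≫ g₀) =
      pullback.fst π (pullback.diagonal f₀ ≫ diagBase f₀ g₀) ≫ π := by
    rw [pullback.condition]
    exact congrArg (_ ≫ ·) (diagonal_diagBase f₀ g₀).symm
  let ρ' : pullback π (pullback.diagonal f₀ ≫ diagBase f₀ g₀) ⟶ X := HX.lift _ _ hρ'cond
  have hρ' : ρ' ≫ qX = pullback.snd π (pullback.diagonal f₀ ≫ diagBase f₀ g₀) :=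
    HX.lift_fst _ _ _
  have hρ'' : ρ' ≫ f ≫ g = pullback.fst π (pullback.diagonal f₀ ≫ diagBase f₀ g₀) :=
    HX.lift_snd _ _ _
  have hbig : IsPullback (stageMap π (pullback.diagonal f₀) (diagBase f₀ g₀)) (ρ' ≫ qX)
      (θ' ≫ μ) (pullback.diagonal f₀) := by
    rw [hρ', hθ']
    exact (isPullback_stageMap π (pullback.diagonal f₀) (diagBase f₀ g₀)).flip
  have hcomm : stageMap π (pullback.diagonal f₀) (diagBase f₀ g₀) ≫ θ' =
      ρ' ≫ pullback.diagonal f := by
    apply pullback.hom_ext
    · rw [Category.assoc, Category.assoc, pullback.lift_fst, pullback.diagonal_fst,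
        Category.comp_id]
      apply HX.hom_ext
      · rw [Category.assoc, ha₁, hρ', stageMap_snd_assoc, pullback.diagonal_fst, Category.comp_id]
      · rw [Category.assoc, ha₁', hρ'', stageMap_fst]
    · rw [Category.assoc, Category.assoc, pullback.lift_snd, pullback.diagonal_snd,
        Category.comp_id]
      apply HX.hom_ext
      · rw [Category.assoc, ha₂, hρ', stageMap_snd_assoc, pullback.diagonal_snd, Category.comp_id]
      · rw [Category.assoc, ha₂', hρ'', stageMap_fst]
  exact ⟨ρ', θ', IsPullback.of_bot hbig hcomm (isPullback_diagonal' hX.flip)⟩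

/-- For a property stable under base change, it holds for the diagonal of a base change `f` of
`f₀` iff it holds for the base change of the diagonal of `f₀`. -/
theorem diagonal_iff_stageMap_diagonal (P : MorphismProperty C) [P.IsStableUnderBaseChange]
    (hY : IsPullback qY g g₀ π) (hX : IsPullback qX f f₀ qY) :
    P (pullback.diagonal f) ↔ P (stageMap π (pullback.diagonal f₀) (diagBase f₀ g₀)) := by
  constructor
  · intro h
    obtain ⟨ρ', θ', sq⟩ := exists_isPullback_stageMap_diagonal hY hX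
    exact MorphismProperty.of_isPullback (P := P) sq.flip h
  · intro h
    obtain ⟨ρ, θ, sq⟩ := exists_isPullback_diagonal_stageMap hY hX
    exact MorphismProperty.of_isPullback (P := P) sq.flip h

end cat

end Groth.Agent.Lib.helper9
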