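/-
Helper library (helper9): absolute Noetherian approximation, part 26.
Restricting a directed index set to the elements above a given one.
-/
import Mathlib

set_option autoImplicit false
set_option linter.style.haveILetI false

namespace Groth.Agent.Lib.helper9.AbsApprox

open CategoryTheory Limits Opposite

universe u

/-- the elements above `i₀` -/
abbrev Ge {I : Type u} [Preorder I] (i₀ : I) : Type u := {i : I // i₀ ≤ i}

instance {I : Type u} [Preorder I] [IsDirected I (· ≤ ·)] (i₀ : I) :
    IsDirected (Ge i₀) (· ≤ ·) := ⟨fun a b => by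
  obtain ⟨c, hac, hbc⟩ := exists_ge_ge a.1 b.1
  exact ⟨⟨c, a.2.trans hac⟩, hac, hbc⟩⟩

instance {I : Type u} [Preorder I] (i₀ : I) : Nonempty (Ge i₀) := ⟨⟨i₀, le_rfl⟩⟩

/-- the inclusion of the elements above `i₀` -/
def geIncl {I : Type u} [Preorder I] (i₀ : I) : Ge i₀ ⥤ I :=
  Monotone.functor (f := fun j : Ge i₀ => j.1) (fun _ _ h => h)

instance {I : Type u} [Preorder I] [IsDirected I (· ≤ ·)] (i₀ : I) : (geIncl i₀).Final := by
  apply Functor.final_of_exists_of_isFiltered
  · intro j
    obtain ⟨c, hac, hbc⟩ := exists_ge_ge j i₀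
    exact ⟨⟨c, hbc⟩, ⟨homOfLE hac⟩⟩
  · intro i j s s'
    exact ⟨j, 𝟙 j, Subsingleton.elim _ _⟩

/-- Restricting a limit cone over a directed inverse system to the indices above `i₀`. -/
noncomputable def isLimitWhiskerGe {I : Type u} [Preorder I] [IsDirected I (· ≤ ·)] (i₀ : I)
    {C : Type*} [Category C] {D : Iᵒᵖ ⥤ C} (c : Cone D) (hc : IsLimit c) :
    IsLimit (c.whisker (geIncl i₀).op) :=
  (Functor.Initial.isLimitWhiskerEquiv (geIncl i₀).op c).symm hc

end Groth.Agent.Lib.helper9.AbsApprox
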