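/-
Helper library (helper9): absolute Noetherian approximation, part 1.
Ring-level lemmas on fibre products of rings and localizations, and the open immersion
`D(f₁) ∪ … ∪ D(fₙ) ⟶ Spec A` attached to a ring map `A ⟶ R'` inducing isomorphisms
`A_{hᵢ} ≅ R'_{fᵢ}`.
-/
import Mathlib

set_option autoImplicit false
set_option linter.style.haveILetI false

namespace Groth.Agent.Lib.helper9.AbsApprox

open AlgebraicGeometry CategoryTheory Limits

universe u

section Ring

variable {B R R' P : Type*} [CommRing B] [CommRing R] [CommRing R'] [CommRing P]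
  (s : B →+* R) (t : R' →+* R) (p : P →+* B) (q : P →+* R')

/-- **Localization of a fibre product of rings.** Let `P = B ×_R R'` and `h ∈ P` with images
`g ∈ B`, `f ∈ R'`. If `B_g ⟶ R_{s g}` is bijective then so is `P_h ⟶ R'_f`. -/
theorem awayMap_bijective_of_fibreProduct (hcomm : ∀ x, s (p x) = t (q x))
    (hex : ∀ b r, s b = t r → ∃ x, p x = b ∧ q x = r)
    (hinj : ∀ x, p x = 0 → q x = 0 → x = 0) (h : P)
    (hiso : Function.Bijective (Localization.awayMap s (p h))) :
    Function.Bijective (Localization.awayMap q h) := by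
  constructor
  · rw [Localization.awayMap_injective_iff]
    intro a ha
    have h1 : s (p a) = 0 := by rw [hcomm, ha, map_zero]
    obtain ⟨n, hn⟩ := Localization.awayMap_injective_iff.mp hiso.1 (p a) h1
    refine ⟨n, hinj _ ?_ ?_⟩
    · rw [map_mul, map_pow, hn]
    · rw [map_mul, ha, mul_zero]
  · rw [Localization.awayMap_surjective_iff]
    intro r
    obtain ⟨b, m, hb⟩ := Localization.awayMap_surjective_iff.mp hiso.2 (t r)
    have h2 : s b = t (q h ^ m * r) := by
      rw [hb, map_mul, map_pow, hcomm]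
    obtain ⟨x, -, hx⟩ := hex b _ h2
    exact ⟨x, m, hx⟩

end Ring

section Pr

variable {B R R' : Type u} [CommRing B] [CommRing R] [CommRing R'] (s : B →+* R) (t : R' →+* R)

/-- The fibre product ring `B ×_R R'`. -/
abbrev Pr : Subring (B × R') :=
  RingHom.eqLocus (s.comp (RingHom.fst B R')) (t.comp (RingHom.snd B R'))

/-- The first projection. -/
def prFst : Pr s t →+* B := (RingHom.fst B R').comp (Pr s t).subtype

/-- The second projection. -/
def prSnd : Pr s t →+* R' := (RingHom.snd B R').comp (Pr s t).subtype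

/-- An element of the fibre product. -/
def prMk (b : B) (r : R') (h : s b = t r) : Pr s t := ⟨(b, r), h⟩

@[simp] theorem prFst_prMk (b : B) (r : R') (h : s b = t r) : prFst s t (prMk s t b r h) = b := rfl

@[simp] theorem prSnd_prMk (b : B) (r : R') (h : s b = t r) : prSnd s t (prMk s t b r h) = r := rfl

theorem pr_comm (x : Pr s t) : s (prFst s t x) = t (prSnd s t x) := x.2

theorem pr_ext {x y : Pr s t} (h1 : prFst s t x = prFst s t y) (h2 : prSnd s t x = prSnd s t y) :
    x = y := Subtype.ext (Prod.ext h1 h2)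

theorem awayMap_prSnd_bijective (h : Pr s t)
    (hiso : Function.Bijective (Localization.awayMap s (prFst s t h))) :
    Function.Bijective (Localization.awayMap (prSnd s t) h) :=
  awayMap_bijective_of_fibreProduct s t (prFst s t) (prSnd s t) (pr_comm s t)
    (fun b r hbr => ⟨prMk s t b r hbr, rfl, rfl⟩)
    (fun x h1 h2 => pr_ext s t (by rw [h1, map_zero]) (by rw [h2, map_zero])) h hiso

end Pr

section Good

variable {P R' : Type*} [CommRing P] [CommRing R'] (φ : P →+* R') (h : P)

/-- If `P_h ⟶ R'_{φ h}` is surjective and `R'_{φ h}` is a finitely generated ring, there is a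
finite subset `F` of `P` such that `A_h ⟶ R'_{φ h}` is surjective for every subring `A` of `P`
containing `h` and `F` (elementwise form). -/
theorem exists_finset_forall_subring (hsurj : ∀ r, ∃ b m, φ b = φ h ^ m * r)
    (hfg : ∃ s : Finset (Localization.Away (φ h)),
      Subring.closure (s : Set (Localization.Away (φ h))) = ⊤) :
    ∃ F : Finset P, ∀ (A : Subring P), h ∈ A → (F : Set P) ⊆ A →
      ∀ r, ∃ b ∈ A, ∃ m, φ b = φ h ^ m * r := by
  classical
  obtain ⟨s, hs⟩ := hfg
  let T := Localization.Away (φ h)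
  let ι : R' →+* T := algebraMap R' T
  let u : T := ι (φ h)
  have hu : u = ι (φ h) := rfl
  have hex : ∀ x : T, ∃ (a : P) (e : ℕ), x * u ^ e = ι (φ a) := by
    intro x
    obtain ⟨a, m, ham⟩ := hsurj ((IsLocalization.Away.sec (φ h) x).1)
    have hsec := IsLocalization.Away.sec_spec (φ h) x
    refine ⟨a, (IsLocalization.Away.sec (φ h) x).2 + m, ?_⟩
    rw [ham, map_mul, map_pow, ← hsec, pow_add, map_pow]
    ring
  choose a e hae using hex
  refine ⟨s.image a, fun A hA hF => ?_⟩
  -- the subring of elements of `T` with a numerator in `A`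
  let S : Subring T :=
  { carrier := {y | ∃ b ∈ A, ∃ m : ℕ, y * u ^ m = ι (φ b)}
    mul_mem' := by
      rintro y y' ⟨b, hb, m, hbm⟩ ⟨b', hb', m', hbm'⟩
      refine ⟨b * b', A.mul_mem hb hb', m + m', ?_⟩
      rw [map_mul, map_mul, ← hbm, ← hbm', pow_add]
      ring
    one_mem' := ⟨1, A.one_mem, 0, by simp⟩
    add_mem' := by
      rintro y y' ⟨b, hb, m, hbm⟩ ⟨b', hb', m', hbm'⟩
      refine ⟨b * h ^ m' + b' * h ^ m, A.add_mem (A.mul_mem hb (A.pow_mem hA _))
        (A.mul_mem hb' (A.pow_mem hA _)), m + m', ?_⟩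
      rw [map_add, map_add, map_mul, map_mul, map_mul, map_mul, map_pow, map_pow, map_pow,
        map_pow, ← hbm, ← hbm', pow_add, ← hu]
      ring
    zero_mem' := ⟨0, A.zero_mem, 0, by simp⟩
    neg_mem' := by
      rintro y ⟨b, hb, m, hbm⟩
      refine ⟨-b, A.neg_mem hb, m, ?_⟩
      rw [map_neg, map_neg, ← hbm]
      ring }
  have hS : S = ⊤ := by
    rw [eq_top_iff, ← hs, Subring.closure_le]
    intro x hx
    exact ⟨a x, hF (Finset.mem_coe.mpr (Finset.mem_image_of_mem a (Finset.mem_coe.mp hx))),
      e x, hae x⟩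
  intro r
  have hr : ι r ∈ S := by rw [hS]; trivial
  obtain ⟨b, hb, m, hbm⟩ := hr
  have h0 : ι (r * φ h ^ m) = ι (φ b) := by
    rw [map_mul, map_pow, hbm]
  obtain ⟨⟨_, n, rfl⟩, hn⟩ := (IsLocalization.eq_iff_exists (Submonoid.powers (φ h)) T).mp h0
  refine ⟨h ^ n * b, A.mul_mem (A.pow_mem hA _) hb, n + m, ?_⟩
  simp only at hn
  rw [map_mul, map_pow, ← hn, pow_add]
  ring

/-- Surjectivity form of `exists_finset_forall_subring`. -/
theorem exists_finset_awayMap_surjective (hsurj : Function.Surjective (Localization.awayMap φ h))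
    (hfg : ∃ s : Finset (Localization.Away (φ h)),
      Subring.closure (s : Set (Localization.Away (φ h))) = ⊤) :
    ∃ F : Finset P, ∀ (A : Subring P) (hA : h ∈ A), (F : Set P) ⊆ A →
      Function.Surjective (Localization.awayMap (φ.comp A.subtype) ⟨h, hA⟩) := by
  obtain ⟨F, hF⟩ := exists_finset_forall_subring φ h
    (Localization.awayMap_surjective_iff.mp hsurj) hfg
  refine ⟨F, fun A hA hFA => ?_⟩
  rw [Localization.awayMap_surjective_iff]
  intro r
  obtain ⟨b, hb, m, hbm⟩ := hF A hA hFA r
  exact ⟨⟨b, hb⟩, m, hbm⟩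

/-- Injectivity passes to subrings. -/
theorem awayMap_injective_of_subring (hinj : Function.Injective (Localization.awayMap φ h))
    (A : Subring P) (hA : h ∈ A) :
    Function.Injective (Localization.awayMap (φ.comp A.subtype) ⟨h, hA⟩) := by
  rw [Localization.awayMap_injective_iff] at hinj ⊢
  intro a ha
  obtain ⟨n, hn⟩ := hinj a.1 ha
  exact ⟨n, Subtype.ext (by simpa using hn)⟩

end Good

end Groth.Agent.Lib.helper9.AbsApprox
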