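import Mathlib

/-!
# ZMT, finite form (helper9), part 1: ring-level lemmas

* `awayMap_surjective_of_adjoin`: for ring maps `ρ : R → B'`, `φ : B' → Rb` and `n : B'`, if
  `Rb[1/φ n]` is generated as an `R`-algebra by fractions `φ b / (φ n) ^ e`, then
  `B'[1/n] → Rb[1/φ n]` is surjective.
* `awayMap_bijective_of_adjoin`: if moreover `φ` is injective, it is bijective.
* `isOpenImmersion_SpecMap_away_comp`: then `Spec Rb[1/φ n] ⟶ Spec Rb ⟶ Spec B'` is an open immersion.
-/

set_option autoImplicit false
set_option linter.style.haveILetI false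
universe u

open CategoryTheory AlgebraicGeometry

namespace Groth.Agent.Lib.helper9.ZMTFin

section Ring

variable {R B' Rb : Type*} [CommRing R] [CommRing B'] [CommRing Rb]
  (ρ : R →+* B') (φ : B' →+* Rb) (n : B')

theorem awayMap_algebraMap (b : B') :
    Localization.awayMap φ n (algebraMap B' (Localization.Away n) b) =
      algebraMap Rb (Localization.Away (φ n)) (φ b) := by
  simp [Localization.awayMap, IsLocalization.Away.map, IsLocalization.map_eq]

theorem awayMap_surjective_of_adjoin (θ : R →+* Rb) (hθ : ∀ r, θ r = φ (ρ r))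
    (s : Set (Localization.Away (φ n)))
    (hs : letI := ((algebraMap Rb (Localization.Away (φ n))).comp θ).toAlgebra
      Algebra.adjoin R s = ⊤)
    (hmem : ∀ x ∈ s, ∃ (b : B') (e : ℕ),
      x * algebraMap Rb (Localization.Away (φ n)) (φ n) ^ e =
        algebraMap Rb (Localization.Away (φ n)) (φ b)) :
    Function.Surjective (Localization.awayMap φ n) := by
  letI := ((algebraMap Rb (Localization.Away (φ n))).comp θ).toAlgebra
  intro y
  have hy : y ∈ Algebra.adjoin R s := by rw [hs]; trivial
  have hunit : IsUnit (algebraMap B' (Localization.Away n) n) :=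
    IsLocalization.Away.algebraMap_isUnit n
  induction hy using Algebra.adjoin_induction with
  | mem x hx =>
    obtain ⟨b, e, hbe⟩ := hmem x hx
    obtain ⟨v, hv⟩ := (hunit.pow e)
    refine ⟨algebraMap B' (Localization.Away n) b * ↑v⁻¹, ?_⟩
    rw [map_mul, awayMap_algebraMap, ← hbe]
    have h1 : Localization.awayMap φ n (↑v) =
        algebraMap Rb (Localization.Away (φ n)) (φ n) ^ e := by
      rw [hv, map_pow, awayMap_algebraMap]
    have h2 : Localization.awayMap φ n (↑v) * Localization.awayMap φ n (↑v⁻¹) = 1 := by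
      rw [← map_mul, Units.mul_inv, map_one]
    rw [← h1, mul_assoc, h2, mul_one]
  | algebraMap r =>
    refine ⟨algebraMap B' (Localization.Away n) (ρ r), ?_⟩
    rw [awayMap_algebraMap, ← hθ]
    rfl
  | add x y _ _ hx hy =>
    obtain ⟨a, rfl⟩ := hx
    obtain ⟨b, rfl⟩ := hy
    exact ⟨a + b, map_add _ _ _⟩
  | mul x y _ _ hx hy =>
    obtain ⟨a, rfl⟩ := hx
    obtain ⟨b, rfl⟩ := hy
    exact ⟨a * b, map_mul _ _ _⟩

theorem awayMap_bijective_of_adjoin (hφ : Function.Injective φ)
    (θ : R →+* Rb) (hθ : ∀ r, θ r = φ (ρ r))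
    (s : Set (Localization.Away (φ n)))
    (hs : letI := ((algebraMap Rb (Localization.Away (φ n))).comp θ).toAlgebra
      Algebra.adjoin R s = ⊤)
    (hmem : ∀ x ∈ s, ∃ (b : B') (e : ℕ),
      x * algebraMap Rb (Localization.Away (φ n)) (φ n) ^ e =
        algebraMap Rb (Localization.Away (φ n)) (φ b)) :
    Function.Bijective (Localization.awayMap φ n) :=
  ⟨IsLocalization.map_injective_of_injective _ _ _ hφ,
    awayMap_surjective_of_adjoin ρ φ n θ hθ s hs hmem⟩

end Ring

section Sch

variable {B' Rb : CommRingCat.{u}} (φ : B' ⟶ Rb) (n : B')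

theorem SpecMap_away_comp :
    Spec.map (CommRingCat.ofHom (algebraMap Rb (Localization.Away (φ.hom n)))) ≫ Spec.map φ =
      Spec.map (CommRingCat.ofHom (Localization.awayMap φ.hom n)) ≫
        Spec.map (CommRingCat.ofHom (algebraMap B' (Localization.Away n))) := by
  rw [← Spec.map_comp, ← Spec.map_comp]
  congr 1
  ext b
  simp only [CommRingCat.hom_comp, CommRingCat.hom_ofHom, RingHom.comp_apply]
  exact (awayMap_algebraMap φ.hom n b).symm

theorem isOpenImmersion_SpecMap_away_comp
    (h : Function.Bijective (Localization.awayMap φ.hom n)) :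
    IsOpenImmersion
      (Spec.map (CommRingCat.ofHom (algebraMap Rb (Localization.Away (φ.hom n)))) ≫ Spec.map φ) := by
  rw [SpecMap_away_comp]
  haveI : IsIso (CommRingCat.ofHom (Localization.awayMap φ.hom n)) :=
    (ConcreteCategory.isIso_iff_bijective _).mpr h
  haveI : IsOpenImmersion
      (Spec.map (CommRingCat.ofHom (algebraMap B' (Localization.Away n)))) :=
    IsOpenImmersion.of_isLocalization n
  infer_instance

end Sch

end Groth.Agent.Lib.helper9.ZMTFin
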