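/-
Helper library (helper9): absolute Noetherian approximation, part 2.
The open immersion `D(f₁) ∪ … ∪ D(fₙ) ⟶ Spec A` attached to a ring map `q : A ⟶ R'` inducing
isomorphisms `A_{hᵢ} ≅ R'_{q hᵢ}`; cartesian squares of rings.
-/
import Groth.Agent.Lib.Helper9.AbsApprox1
import Groth.Agent.Lib.Helper9.ZMTFin1

set_option autoImplicit false
set_option linter.style.haveILetI false
set_option backward.isDefEq.respectTransparency false

namespace Groth.Agent.Lib.helper9.AbsApprox

open AlgebraicGeometry CategoryTheory Limits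

universe u

/-- Let `q : A ⟶ R'` be a ring map and `hᵢ ∈ A` elements such that `A_{hᵢ} ⟶ R'_{q hᵢ}` is
bijective. Then `⋃ D(q hᵢ) ⟶ Spec R' ⟶ Spec A` is an open immersion. -/
theorem isOpenImmersion_iSup_basicOpen_ι_comp {A R' : CommRingCat.{u}} (q : A ⟶ R') {ι : Type*}
    (h : ι → A) (f : ι → R') (hf : ∀ i, q.hom (h i) = f i)
    (hbij : ∀ i, Function.Bijective (Localization.awayMap q.hom (h i))) :
    IsOpenImmersion
      (Scheme.Opens.ι (X := Spec R') (⨆ i, PrimeSpectrum.basicOpen (f i)) ≫ Spec.map q) := by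
  obtain rfl : f = fun i => q.hom (h i) := funext fun i => (hf i).symm
  set O : (Spec R').Opens := ⨆ i, PrimeSpectrum.basicOpen (q.hom (h i)) with hO
  let Dq : ι → (Spec R').Opens := fun i => PrimeSpectrum.basicOpen (q.hom (h i))
  let Dh : ι → (Spec A).Opens := fun i => PrimeSpectrum.basicOpen (h i)
  -- the affine charts
  let a : ∀ i, Spec (CommRingCat.of (Localization.Away (q.hom (h i)))) ⟶ Spec R' := fun i =>
    Spec.map (CommRingCat.ofHom (algebraMap R' (Localization.Away (q.hom (h i)))))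
  haveI : ∀ i, IsOpenImmersion (a i) := fun i => IsOpenImmersion.of_isLocalization (q.hom (h i))
  have hra : ∀ i, Set.range ⇑(a i) = (Dq i : Set ↥(Spec R')) := fun i =>
    congrArg (fun U : (Spec R').Opens => (U : Set ↥(Spec R')))
      (Scheme.Hom.opensRange_localizationAway (q.hom (h i)))
  have hai : ∀ i, IsOpenImmersion (a i ≫ Spec.map q) := fun i =>
    Groth.Agent.Lib.helper9.ZMTFin.isOpenImmersion_SpecMap_away_comp q (h i) (hbij i)
  have hmem : ∀ (i : ι) (z : ↥(Spec R')), (Spec.map q) z ∈ (Dh i : Set ↥(Spec A)) ↔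
      z ∈ (Dq i : Set ↥(Spec R')) := by
    intro i z
    rfl
  have hrO : ∀ i, Set.range ⇑(a i) ⊆ Set.range ⇑O.ι := by
    intro i
    rw [hra, Scheme.Opens.range_ι]
    exact fun z hz => TopologicalSpace.Opens.mem_iSup.mpr ⟨i, hz⟩
  refine IsOpenImmersion.of_forall_source_exists _ ?_ ?_
  · intro x y hxy
    rw [Scheme.Hom.comp_apply, Scheme.Hom.comp_apply] at hxy
    obtain ⟨i, hi⟩ := TopologicalSpace.Opens.mem_iSup.mp x.2
    have hx1 : O.ι x ∈ (Dq i : Set ↥(Spec R')) := hi
    have hy1 : O.ι y ∈ (Dq i : Set ↥(Spec R')) := by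
      rw [← hmem, ← hxy, hmem]
      exact hx1
    rw [← hra] at hx1 hy1
    obtain ⟨x', hx'⟩ := hx1
    obtain ⟨y', hy'⟩ := hy1
    have : (a i ≫ Spec.map q) x' = (a i ≫ Spec.map q) y' := by
      rw [Scheme.Hom.comp_apply, Scheme.Hom.comp_apply, hx', hy', hxy]
    have hxy' : x' = y' := (a i ≫ Spec.map q).isOpenEmbedding.injective this
    apply O.ι.isOpenEmbedding.injective
    rw [← hx', ← hy', hxy']
  · intro x
    obtain ⟨i, hi⟩ := TopologicalSpace.Opens.mem_iSup.mp x.2
    let l := IsOpenImmersion.lift O.ι (a i) (hrO i)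
    have hl : l ≫ O.ι = a i := IsOpenImmersion.lift_fac _ _ _
    haveI : IsOpenImmersion (l ≫ O.ι) := by rw [hl]; infer_instance
    haveI : IsOpenImmersion l := IsOpenImmersion.of_comp l O.ι
    refine ⟨_, l, inferInstance, ?_, ?_⟩
    · have hx1 : O.ι x ∈ Set.range ⇑(a i) := by
        rw [hra]
        exact hi
      obtain ⟨x', hx'⟩ := hx1
      refine ⟨x', O.ι.isOpenEmbedding.injective ?_⟩
      rw [← hx', ← hl, Scheme.Hom.comp_apply]
    · rw [← Category.assoc, hl]
      exact hai i

/-- The cartesian square of rings lemma (= S7431). -/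
theorem isOpenImmersion_of_isPullback_ring {B B' R R' : Type u} [CommRing B] [CommRing B']
    [CommRing R] [CommRing R'] (s : B →+* R) (t : R' →+* R) (p : B' →+* B) (q : B' →+* R')
    (hsq : IsPullback (CommRingCat.ofHom p) (CommRingCat.ofHom q) (CommRingCat.ofHom s)
      (CommRingCat.ofHom t))
    {ι : Type*} (f : ι → R') (g : ι → B) (hfg : ∀ i, t (f i) = s (g i))
    (hiso : ∀ i, Function.Bijective (Localization.awayMap s (g i))) :
    IsOpenImmersion (Scheme.Opens.ι (X := Spec (CommRingCat.of R'))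
      (⨆ i, PrimeSpectrum.basicOpen (f i)) ≫ Spec.map (CommRingCat.ofHom q)) := by
  let e : CommRingCat.of B' ≅ (CommRingCat.pullbackCone (CommRingCat.ofHom s)
      (CommRingCat.ofHom t)).pt :=
    hsq.isLimit.conePointUniqueUpToIso (CommRingCat.pullbackConeIsLimit _ _)
  have he1 : e.hom ≫ (CommRingCat.pullbackCone (CommRingCat.ofHom s) (CommRingCat.ofHom t)).fst =
      CommRingCat.ofHom p :=
    hsq.isLimit.conePointUniqueUpToIso_hom_comp (CommRingCat.pullbackConeIsLimit _ _)
      WalkingCospan.left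
  have he2 : e.hom ≫ (CommRingCat.pullbackCone (CommRingCat.ofHom s) (CommRingCat.ofHom t)).snd =
      CommRingCat.ofHom q :=
    hsq.isLimit.conePointUniqueUpToIso_hom_comp (CommRingCat.pullbackConeIsLimit _ _)
      WalkingCospan.right
  have hp : ∀ x : B', p x = ((e.hom x).1).1 := fun x => by
    have := congr($(he1).hom x)
    exact this.symm
  have hq : ∀ x : B', q x = ((e.hom x).1).2 := fun x => by
    have := congr($(he2).hom x)
    exact this.symm
  have hcomm : ∀ x, s (p x) = t (q x) := fun x => by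
    rw [hp, hq]
    exact (e.hom x).2
  have hex : ∀ b r, s b = t r → ∃ x, p x = b ∧ q x = r := by
    intro b r hbr
    let z : (CommRingCat.pullbackCone (CommRingCat.ofHom s) (CommRingCat.ofHom t)).pt :=
      ⟨(b, r), hbr⟩
    refine ⟨e.inv z, ?_, ?_⟩
    · rw [hp]
      have : e.hom (e.inv z) = z := by
        rw [← CommRingCat.comp_apply, e.inv_hom_id]
        rfl
      rw [this]
    · rw [hq]
      have : e.hom (e.inv z) = z := by
        rw [← CommRingCat.comp_apply, e.inv_hom_id]
        rfl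
      rw [this]
  have hinj : ∀ x, p x = 0 → q x = 0 → x = 0 := by
    intro x h1 h2
    have h0 : e.hom x = 0 := by
      apply Subtype.ext
      apply Prod.ext
      · rw [← hp, h1]; rfl
      · rw [← hq, h2]; rfl
    have : e.inv (e.hom x) = x := by
      rw [← CommRingCat.comp_apply, e.hom_inv_id]
      rfl
    rw [← this, h0, map_zero]
  choose hh hh1 hh2 using fun i => hex (g i) (f i) (hfg i).symm
  refine isOpenImmersion_iSup_basicOpen_ι_comp (CommRingCat.ofHom q) hh f hh2 fun i => ?_
  refine awayMap_bijective_of_fibreProduct s t p q hcomm hex hinj (hh i) ?_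
  rw [hh1]
  exact hiso i

end Groth.Agent.Lib.helper9.AbsApprox
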