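/-
Helper library (helper9): absolute Noetherian approximation, part 3.
Open immersions `U ⟶ Spec A` from a quasi-compact quasi-separated open `U` of a scheme.
-/
import Groth.Agent.Lib.Helper9.AbsApprox2

set_option autoImplicit false
set_option linter.style.haveILetI false
set_option backward.isDefEq.respectTransparency false

namespace Groth.Agent.Lib.helper9.AbsApprox

open AlgebraicGeometry CategoryTheory Limits

universe u

/-- For `f ∈ Γ(Y, O)` with `O` qcqs, the restriction `Γ(Y, O) ⟶ Γ(Y, D(f))` is, up to an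
isomorphism, the localization away from `f`. -/
theorem exists_iso_away_of_qcqs {Y : Scheme.{u}} {O : Y.Opens} (hOc : IsCompact (O : Set Y))
    (hOqs : IsQuasiSeparated (O : Set Y)) (f : Γ(Y, O)) :
    ∃ θ : CommRingCat.of (Localization.Away f) ≅ Γ(Y, Y.basicOpen f),
      CommRingCat.ofHom (algebraMap Γ(Y, O) (Localization.Away f)) ≫ θ.hom =
        Y.presheaf.map (homOfLE (Y.basicOpen_le f)).op := by
  letI : Algebra Γ(Y, O) Γ(Y, Y.basicOpen f) :=
    (Y.presheaf.map (homOfLE (Y.basicOpen_le f)).op).hom.toAlgebra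
  haveI : IsLocalization.Away f Γ(Y, Y.basicOpen f) :=
    isLocalization_basicOpen_of_qcqs hOc hOqs f
  let e : Localization.Away f ≃ₐ[Γ(Y, O)] Γ(Y, Y.basicOpen f) :=
    IsLocalization.algEquiv (Submonoid.powers f) (Localization.Away f) Γ(Y, Y.basicOpen f)
  refine ⟨e.toRingEquiv.toCommRingCatIso, ?_⟩
  ext x
  exact e.commutes x

/-- Let `O` be a qcqs open of `Y`, `φ : A ⟶ Γ(Y, O)` a ring map and `hᵢ ∈ A` such that the
`D(φ hᵢ)` are affine and cover `O` and `A_{hᵢ} ⟶ Γ(Y, O)_{φ hᵢ}` is bijective. Then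
`O ⟶ Spec Γ(Y, O) ⟶ Spec A` is an open immersion. -/
theorem isOpenImmersion_toSpecΓ_comp {Y : Scheme.{u}} {O : Y.Opens} (hOc : IsCompact (O : Set Y))
    (hOqs : IsQuasiSeparated (O : Set Y)) {A : CommRingCat.{u}} (φ : A ⟶ Γ(Y, O)) {ι : Type*}
    (h : ι → A) (hcov : O ≤ ⨆ i, Y.basicOpen (φ.hom (h i)))
    (haff : ∀ i, IsAffineOpen (Y.basicOpen (φ.hom (h i))))
    (hbij : ∀ i, Function.Bijective (Localization.awayMap φ.hom (h i))) :
    IsOpenImmersion (O.toSpecΓ ≫ Spec.map φ) := by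
  let Yi : ι → Y.Opens := fun i => Y.basicOpen (φ.hom (h i))
  have hle : ∀ i, Yi i ≤ O := fun i => Y.basicOpen_le _
  let Dh : ι → (Spec A).Opens := fun i => PrimeSpectrum.basicOpen (h i)
  -- the composite on the chart `Yi i`
  have hchart : ∀ i, IsOpenImmersion (Y.homOfLE (hle i) ≫ O.toSpecΓ ≫ Spec.map φ) := by
    intro i
    obtain ⟨θ, hθ⟩ := exists_iso_away_of_qcqs hOc hOqs (φ.hom (h i))
    rw [← Scheme.Opens.toSpecΓ_SpecMap_presheaf_map_assoc, ← hθ, Spec.map_comp, Category.assoc]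
    haveI : IsIso (Yi i).toSpecΓ := (haff i).isoSpec.isIso_hom
    haveI := Groth.Agent.Lib.helper9.ZMTFin.isOpenImmersion_SpecMap_away_comp φ (h i) (hbij i)
    infer_instance
  -- preimages of the basic opens
  have hpre : ∀ (i : ι) (z : ↥(O : Scheme.{u})),
      (O.toSpecΓ ≫ Spec.map φ) z ∈ (Dh i : Set ↥(Spec A)) ↔ O.ι z ∈ Yi i := by
    intro i z
    have h1 : (O.toSpecΓ ≫ Spec.map φ) ⁻¹ᵁ (Dh i) = O.ι ⁻¹ᵁ (Yi i) := by
      rw [Scheme.Hom.comp_preimage]
      have : Spec.map φ ⁻¹ᵁ (Dh i) = PrimeSpectrum.basicOpen (φ.hom (h i)) := rfl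
      rw [this, Scheme.Opens.toSpecΓ_preimage_basicOpen]
    exact congr(z ∈ $h1).to_iff
  refine IsOpenImmersion.of_forall_source_exists _ ?_ ?_
  · intro x y hxy
    obtain ⟨i, hi⟩ := TopologicalSpace.Opens.mem_iSup.mp (hcov x.2)
    have hx1 : O.ι x ∈ Yi i := hi
    have hy1 : O.ι y ∈ Yi i := by
      rw [← hpre, ← hxy, hpre]
      exact hx1
    have hr : ∀ z : ↥(O : Scheme.{u}), O.ι z ∈ Yi i → z ∈ Set.range ⇑(Y.homOfLE (hle i)) := by
      intro z hz
      refine ⟨⟨O.ι z, hz⟩, ?_⟩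
      apply O.ι.isOpenEmbedding.injective
      rw [← Scheme.Hom.comp_apply, Scheme.homOfLE_ι]
      rfl
    obtain ⟨x', rfl⟩ := hr x hx1
    obtain ⟨y', rfl⟩ := hr y hy1
    have : (Y.homOfLE (hle i) ≫ O.toSpecΓ ≫ Spec.map φ) x' =
        (Y.homOfLE (hle i) ≫ O.toSpecΓ ≫ Spec.map φ) y' := by
      rw [Scheme.Hom.comp_apply, Scheme.Hom.comp_apply (Y.homOfLE (hle i))]
      exact hxy
    have hinj := (hchart i)
    rw [hinj.base_open.injective this]
  · intro x
    obtain ⟨i, hi⟩ := TopologicalSpace.Opens.mem_iSup.mp (hcov x.2)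
    refine ⟨_, Y.homOfLE (hle i), inferInstance, ?_, hchart i⟩
    refine ⟨⟨O.ι x, hi⟩, ?_⟩
    apply O.ι.isOpenEmbedding.injective
    rw [← Scheme.Hom.comp_apply, Scheme.homOfLE_ι]
    rfl

/-- The basic open `D(h)` as an open of the scheme `Spec A`. -/
abbrev specBasicOpen {A : CommRingCat.{u}} (h : A) : (Spec A).Opens := PrimeSpectrum.basicOpen h

/-- Preimages of basic opens under `O ⟶ Spec Γ(Y, O) ⟶ Spec A`. -/
theorem toSpecΓ_comp_preimage_basicOpen {Y : Scheme.{u}} (O : Y.Opens) {A : CommRingCat.{u}}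
    (φ : A ⟶ Γ(Y, O)) (h : A) :
    (O.toSpecΓ ≫ Spec.map φ) ⁻¹ᵁ (PrimeSpectrum.basicOpen h) =
      O.ι ⁻¹ᵁ (Y.basicOpen (φ.hom h)) := by
  rw [Scheme.Hom.comp_preimage]
  have : Spec.map φ ⁻¹ᵁ (PrimeSpectrum.basicOpen h) = PrimeSpectrum.basicOpen (φ.hom h) := rfl
  rw [this, Scheme.Opens.toSpecΓ_preimage_basicOpen]

/-- In the situation of `isOpenImmersion_toSpecΓ_comp`, the image of `O` in `Spec A` is the union
of the basic opens `D(hᵢ)`. -/
theorem range_toSpecΓ_comp {Y : Scheme.{u}} {O : Y.Opens} (hOc : IsCompact (O : Set Y))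
    (hOqs : IsQuasiSeparated (O : Set Y)) {A : CommRingCat.{u}} (φ : A ⟶ Γ(Y, O)) {ι : Type*}
    (h : ι → A) (hcov : O ≤ ⨆ i, Y.basicOpen (φ.hom (h i)))
    (haff : ∀ i, IsAffineOpen (Y.basicOpen (φ.hom (h i))))
    (hbij : ∀ i, Function.Bijective (Localization.awayMap φ.hom (h i))) :
    Set.range ⇑(O.toSpecΓ ≫ Spec.map φ) =
      ⋃ i, (specBasicOpen (h i) : Set ↥(Spec A)) := by
  let Yi : ι → Y.Opens := fun i => Y.basicOpen (φ.hom (h i))
  have hle : ∀ i, Yi i ≤ O := fun i => Y.basicOpen_le _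
  apply subset_antisymm
  · rintro _ ⟨z, rfl⟩
    obtain ⟨i, hi⟩ := TopologicalSpace.Opens.mem_iSup.mp (hcov z.2)
    refine Set.mem_iUnion.mpr ⟨i, ?_⟩
    have h1 := toSpecΓ_comp_preimage_basicOpen O φ (h i)
    have h2 : z ∈ O.ι ⁻¹ᵁ (Y.basicOpen (φ.hom (h i))) := hi
    rw [← h1] at h2
    exact h2
  · intro y hy
    obtain ⟨i, hi⟩ := Set.mem_iUnion.mp hy
    obtain ⟨θ, hθ⟩ := exists_iso_away_of_qcqs hOc hOqs (φ.hom (h i))
    have hfac : Y.homOfLE (hle i) ≫ O.toSpecΓ ≫ Spec.map φ =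
        (Yi i).toSpecΓ ≫ Spec.map θ.hom ≫
          Spec.map (CommRingCat.ofHom (Localization.awayMap φ.hom (h i))) ≫
            Spec.map (CommRingCat.ofHom (algebraMap A (Localization.Away (h i)))) := by
      rw [← Scheme.Opens.toSpecΓ_SpecMap_presheaf_map_assoc, ← hθ, Spec.map_comp, Category.assoc,
        Groth.Agent.Lib.helper9.ZMTFin.SpecMap_away_comp]
    haveI : IsIso (Yi i).toSpecΓ := (haff i).isoSpec.isIso_hom
    haveI : IsIso (CommRingCat.ofHom (Localization.awayMap φ.hom (h i))) :=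
      (ConcreteCategory.isIso_iff_bijective _).mpr (hbij i)
    have hr : y ∈ Set.range ⇑(Spec.map (CommRingCat.ofHom
        (algebraMap A (Localization.Away (h i))))) := by
      have := congrArg (fun U : (Spec A).Opens => (U : Set ↥(Spec A)))
        (Scheme.Hom.opensRange_localizationAway (h i))
      simp only [Scheme.Hom.coe_opensRange] at this
      rw [this]
      exact hi
    obtain ⟨y₁, rfl⟩ := hr
    let e : ((Yi i : Y.Opens) : Scheme.{u}) ⟶ Spec (CommRingCat.of (Localization.Away (h i))) :=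
      (Yi i).toSpecΓ ≫ Spec.map θ.hom ≫
        Spec.map (CommRingCat.ofHom (Localization.awayMap φ.hom (h i)))
    haveI : IsIso e := by
      dsimp only [e]
      infer_instance
    obtain ⟨y₂, rfl⟩ : ∃ y₂, e y₂ = y₁ := ⟨(inv e) y₁, by
      rw [← Scheme.Hom.comp_apply, IsIso.inv_hom_id]; rfl⟩
    refine ⟨(Y.homOfLE (hle i)) y₂, ?_⟩
    rw [← Scheme.Hom.comp_apply, ← Scheme.Hom.comp_apply, hfac]
    simp only [e, Category.assoc]
    rfl

end Groth.Agent.Lib.helper9.AbsApprox
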