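/-
Helper library (helper9): absolute Noetherian approximation, part 4.
Gluing two schemes along a common open subscheme: pushouts of pairs of open immersions.
-/
import Mathlib

set_option autoImplicit false
set_option linter.style.haveILetI false
set_option backward.isDefEq.respectTransparency false

namespace Groth.Agent.Lib.helper9.AbsApprox

open AlgebraicGeometry CategoryTheory Limits

universe u

section Glue

variable {W U V : Scheme.{u}} (a : W ⟶ U) (b : W ⟶ V) [IsOpenImmersion a] [IsOpenImmersion b]

instance span_map_isOpenImmersion {i j : WalkingSpan} (f : i ⟶ j) :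
    IsOpenImmersion ((span a b).map f) := by
  change WidePushoutShape.Hom i j at f
  cases f with
  | id =>
    have : (span a b).map (WidePushoutShape.Hom.id i) = 𝟙 _ := (span a b).map_id i
    rw [this]
    infer_instance
  | init j =>
    cases j with
    | left => exact inferInstanceAs (IsOpenImmersion a)
    | right => exact inferInstanceAs (IsOpenImmersion b)

instance hasPushout_of_isOpenImmersion : HasPushout a b :=
  inferInstanceAs (HasColimit (span a b))

instance inl_isOpenImmersion : IsOpenImmersion (pushout.inl a b) :=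
  inferInstanceAs (IsOpenImmersion (colimit.ι (span a b) WalkingSpan.left))

instance inr_isOpenImmersion : IsOpenImmersion (pushout.inr a b) :=
  inferInstanceAs (IsOpenImmersion (colimit.ι (span a b) WalkingSpan.right))

theorem exists_inl_or_inr (x : ↥(pushout a b)) :
    (∃ u, pushout.inl a b u = x) ∨ (∃ v, pushout.inr a b v = x) := by
  obtain ⟨i, xi, hxi⟩ := Scheme.IsLocallyDirected.ι_jointly_surjective (span a b) x
  rcases i with _ | _ | _
  · left
    refine ⟨a xi, ?_⟩
    have key : a ≫ pushout.inl a b = colimit.ι (span a b) none :=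
      colimit.w (span a b) (WidePushoutShape.Hom.init WalkingPair.left)
    rw [← hxi, ← Scheme.Hom.comp_apply, key]
    rfl
  · exact Or.inl ⟨xi, hxi⟩
  · exact Or.inr ⟨xi, hxi⟩

theorem inl_eq_inr_iff (u : U) (v : V) :
    pushout.inl a b u = pushout.inr a b v ↔ ∃ w, a w = u ∧ b w = v := by
  constructor
  · intro h
    obtain ⟨k, fi, fj, x, hx1, hx2⟩ :=
      (Scheme.IsLocallyDirected.ι_eq_ι_iff (span a b) (i := WalkingSpan.left)
        (j := WalkingSpan.right)).mp h
    change WidePushoutShape.Hom k (some WalkingPair.left) at fi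
    change WidePushoutShape.Hom k (some WalkingPair.right) at fj
    cases fi with
    | id => cases fj
    | init j =>
      cases fj with
      | init j' => exact ⟨x, hx1, hx2⟩
  · rintro ⟨w, rfl, rfl⟩
    rw [← Scheme.Hom.comp_apply, ← Scheme.Hom.comp_apply, pushout.condition]

theorem isPullback_inl_inr : IsPullback a b (pushout.inl a b) (pushout.inr a b) := by
  refine IsOpenImmersion.isPullback a b (pushout.inl a b) (pushout.inr a b)
    pushout.condition.symm ?_
  ext v
  show pushout.inr a b v ∈ Set.range ⇑(pushout.inl a b) ↔ v ∈ Set.range ⇑b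
  constructor
  · rintro ⟨u, hu⟩
    obtain ⟨w, -, hw⟩ := (inl_eq_inr_iff a b u v).mp hu
    exact ⟨w, hw⟩
  · rintro ⟨w, rfl⟩
    exact ⟨a w, by rw [← Scheme.Hom.comp_apply, ← Scheme.Hom.comp_apply, pushout.condition]⟩

theorem iSup_opensRange_inl_inr :
    (pushout.inl a b).opensRange ⊔ (pushout.inr a b).opensRange = ⊤ := by
  rw [eq_top_iff]
  intro x _
  rcases exists_inl_or_inr a b x with ⟨u, rfl⟩ | ⟨v, rfl⟩
  · exact Or.inl ⟨u, rfl⟩
  · exact Or.inr ⟨v, rfl⟩

end Glue

end Groth.Agent.Lib.helper9.AbsApprox
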