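/-
Helper library (helper9): absolute Noetherian approximation, part 5.
Morphisms between gluings of two schemes along a common open: cartesian squares, affineness;
a scheme covered by two opens is the gluing of the two opens along their intersection.
-/
import Groth.Agent.Lib.Helper9.AbsApprox4

set_option autoImplicit false
set_option linter.style.haveILetI false
set_option backward.isDefEq.respectTransparency false

namespace Groth.Agent.Lib.helper9.AbsApprox

open AlgebraicGeometry CategoryTheory Limits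

universe u

/-- A property local at the target can be checked on two jointly surjective open immersions. -/
theorem of_two_isPullback {P : MorphismProperty Scheme.{u}} [IsZariskiLocalAtTarget P]
    {X Y U₁ U₂ X₁ X₂ : Scheme.{u}} (g : X ⟶ Y) (i₁ : U₁ ⟶ Y) (i₂ : U₂ ⟶ Y) [IsOpenImmersion i₁]
    [IsOpenImmersion i₂] (hcov : ∀ y : Y, (∃ x, i₁ x = y) ∨ (∃ x, i₂ x = y))
    {j₁ : X₁ ⟶ X} {u₁ : X₁ ⟶ U₁} {j₂ : X₂ ⟶ X} {u₂ : X₂ ⟶ U₂}
    (h₁ : IsPullback j₁ u₁ g i₁) (h₂ : IsPullback j₂ u₂ g i₂) (hu₁ : P u₁) (hu₂ : P u₂) : P g := by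
  let 𝒰 : Y.OpenCover := Scheme.Cover.mkOfCovers (P := @IsOpenImmersion) WalkingPair
    (fun j => WalkingPair.casesOn j U₁ U₂)
    (fun j => match j with
      | .left => i₁
      | .right => i₂)
    (fun y => by
      rcases hcov y with ⟨x, hx⟩ | ⟨x, hx⟩
      · exact ⟨.left, x, hx⟩
      · exact ⟨.right, x, hx⟩)
    (fun j => match j with
      | .left => inferInstanceAs (IsOpenImmersion i₁)
      | .right => inferInstanceAs (IsOpenImmersion i₂))
  refine IsZariskiLocalAtTarget.of_openCover (P := P) 𝒰 fun j => ?_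
  match j with
  | .left =>
    show P (pullback.snd g i₁)
    rw [← P.cancel_left_of_respectsIso h₁.isoPullback.hom, h₁.isoPullback_hom_snd]
    exact hu₁
  | .right =>
    show P (pullback.snd g i₂)
    rw [← P.cancel_left_of_respectsIso h₂.isoPullback.hom, h₂.isoPullback_hom_snd]
    exact hu₂

section Map

variable {W U V : Scheme.{u}} (a : W ⟶ U) (b : W ⟶ V) [IsOpenImmersion a] [IsOpenImmersion b]
  {W' U' V' : Scheme.{u}} (a' : W' ⟶ U') (b' : W' ⟶ V') [IsOpenImmersion a']
  [IsOpenImmersion b'] (u : U' ⟶ U) (v : V' ⟶ V) (w : W' ⟶ W) (e₁ : a' ≫ u = w ≫ a)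
  (e₂ : b' ≫ v = w ≫ b)

/-- The square over the first chart is cartesian. -/
theorem isPullback_inl_map (h₂ : IsPullback b' w v b) :
    IsPullback (pushout.inl a' b') u (pushout.map a' b' a b u v w e₁ e₂) (pushout.inl a b) := by
  refine (IsOpenImmersion.isPullback u (pushout.inl a' b') (pushout.inl a b)
    (pushout.map a' b' a b u v w e₁ e₂) (by simp) ?_).flip
  ext x
  show (pushout.map a' b' a b u v w e₁ e₂) x ∈ Set.range ⇑(pushout.inl a b) ↔
    x ∈ Set.range ⇑(pushout.inl a' b')
  constructor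
  · rintro ⟨y, hy⟩
    rcases exists_inl_or_inr a' b' x with ⟨x', rfl⟩ | ⟨x', rfl⟩
    · exact ⟨x', rfl⟩
    · rw [← Scheme.Hom.comp_apply, pushout.inr_desc, Scheme.Hom.comp_apply] at hy
      obtain ⟨z, -, hz⟩ := (inl_eq_inr_iff a b y (v x')).mp hy
      obtain ⟨z', hz1, -⟩ := Scheme.exists_preimage_of_isPullback h₂ x' z hz.symm
      refine ⟨a' z', ?_⟩
      rw [← hz1, ← Scheme.Hom.comp_apply, ← Scheme.Hom.comp_apply, pushout.condition]
  · rintro ⟨x', rfl⟩
    refine ⟨u x', ?_⟩
    rw [← Scheme.Hom.comp_apply, ← Scheme.Hom.comp_apply, pushout.inl_desc]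

/-- The square over the second chart is cartesian. -/
theorem isPullback_inr_map (h₁ : IsPullback a' w u a) :
    IsPullback (pushout.inr a' b') v (pushout.map a' b' a b u v w e₁ e₂) (pushout.inr a b) := by
  refine (IsOpenImmersion.isPullback v (pushout.inr a' b') (pushout.inr a b)
    (pushout.map a' b' a b u v w e₁ e₂) (by simp) ?_).flip
  ext x
  show (pushout.map a' b' a b u v w e₁ e₂) x ∈ Set.range ⇑(pushout.inr a b) ↔
    x ∈ Set.range ⇑(pushout.inr a' b')
  constructor
  · rintro ⟨y, hy⟩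
    rcases exists_inl_or_inr a' b' x with ⟨x', rfl⟩ | ⟨x', rfl⟩
    · rw [← Scheme.Hom.comp_apply (pushout.inl a' b'), pushout.inl_desc,
        Scheme.Hom.comp_apply] at hy
      obtain ⟨z, hz, -⟩ := (inl_eq_inr_iff a b (u x') y).mp hy.symm
      obtain ⟨z', hz1, -⟩ := Scheme.exists_preimage_of_isPullback h₁ x' z hz.symm
      refine ⟨b' z', ?_⟩
      rw [← hz1, ← Scheme.Hom.comp_apply, ← Scheme.Hom.comp_apply, pushout.condition]
    · exact ⟨x', rfl⟩
  · rintro ⟨x', rfl⟩
    refine ⟨v x', ?_⟩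
    rw [← Scheme.Hom.comp_apply, ← Scheme.Hom.comp_apply, pushout.inr_desc]

/-- A morphism of gluings which is cartesian over the common open and affine on both charts is
affine. -/
theorem isAffineHom_pushoutMap (h₁ : IsPullback a' w u a) (h₂ : IsPullback b' w v b)
    [IsAffineHom u] [IsAffineHom v] : IsAffineHom (pushout.map a' b' a b u v w e₁ e₂) :=
  of_two_isPullback (P := @IsAffineHom) _ (pushout.inl a b) (pushout.inr a b)
    (exists_inl_or_inr a b) (isPullback_inl_map a b a' b' u v w e₁ e₂ h₂)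
    (isPullback_inr_map a b a' b' u v w e₁ e₂ h₁) inferInstance inferInstance

end Map

section Cover

variable {W U V X : Scheme.{u}} (a : W ⟶ U) (b : W ⟶ V) (jU : U ⟶ X) (jV : V ⟶ X)
  [IsOpenImmersion a] [IsOpenImmersion b] [IsOpenImmersion jU] [IsOpenImmersion jV]

/-- A scheme covered by two opens is the gluing of the two opens along their intersection. -/
theorem isIso_pushoutDesc (hpb : IsPullback a b jU jV)
    (hcov : ∀ x : X, (∃ u, jU u = x) ∨ (∃ v, jV v = x)) :
    IsIso (pushout.desc jU jV hpb.w) := by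
  rw [isIso_iff_isOpenImmersion_and_surjective]
  have hinj : Function.Injective ⇑(pushout.desc jU jV hpb.w) := by
    intro x y hxy
    rcases exists_inl_or_inr a b x with ⟨x', rfl⟩ | ⟨x', rfl⟩ <;>
    rcases exists_inl_or_inr a b y with ⟨y', rfl⟩ | ⟨y', rfl⟩
    · rw [← Scheme.Hom.comp_apply, ← Scheme.Hom.comp_apply, pushout.inl_desc] at hxy
      rw [jU.isOpenEmbedding.injective hxy]
    · rw [← Scheme.Hom.comp_apply, ← Scheme.Hom.comp_apply, pushout.inl_desc,
        pushout.inr_desc] at hxy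
      obtain ⟨z, hz1, hz2⟩ := Scheme.exists_preimage_of_isPullback hpb x' y' hxy
      exact (inl_eq_inr_iff a b x' y').mpr ⟨z, hz1, hz2⟩
    · rw [← Scheme.Hom.comp_apply, ← Scheme.Hom.comp_apply, pushout.inl_desc,
        pushout.inr_desc] at hxy
      obtain ⟨z, hz1, hz2⟩ := Scheme.exists_preimage_of_isPullback hpb y' x' hxy.symm
      exact ((inl_eq_inr_iff a b y' x').mpr ⟨z, hz1, hz2⟩).symm
    · rw [← Scheme.Hom.comp_apply, ← Scheme.Hom.comp_apply, pushout.inr_desc] at hxy
      rw [jV.isOpenEmbedding.injective hxy]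
  refine ⟨IsOpenImmersion.of_forall_source_exists _ hinj ?_, ⟨fun x => ?_⟩⟩
  · intro x
    rcases exists_inl_or_inr a b x with ⟨x', rfl⟩ | ⟨x', rfl⟩
    · refine ⟨U, pushout.inl a b, inferInstance, ⟨x', rfl⟩, ?_⟩
      rw [pushout.inl_desc]
      infer_instance
    · refine ⟨V, pushout.inr a b, inferInstance, ⟨x', rfl⟩, ?_⟩
      rw [pushout.inr_desc]
      infer_instance
  · rcases hcov x with ⟨u, rfl⟩ | ⟨v, rfl⟩
    · exact ⟨pushout.inl a b u, by rw [← Scheme.Hom.comp_apply, pushout.inl_desc]⟩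
    · exact ⟨pushout.inr a b v, by rw [← Scheme.Hom.comp_apply, pushout.inr_desc]⟩

end Cover

end Groth.Agent.Lib.helper9.AbsApprox
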