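/-
Helper library (helper9): absolute Noetherian approximation, part 7.
Quasi-compact schemes locally of finite type over `ℤ`.
-/
import Groth.Agent.Lib.Helper9.AbsApprox5

set_option autoImplicit false
set_option linter.style.haveILetI false
set_option backward.isDefEq.respectTransparency false

namespace Groth.Agent.Lib.helper9.AbsApprox

open AlgebraicGeometry CategoryTheory Limits

universe u

/-- Quasi-compact and locally of finite type over `ℤ`. -/
def IsFTZ (Y : Scheme.{u}) : Prop :=
  CompactSpace Y ∧ LocallyOfFiniteType (specULiftZIsTerminal.from Y)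

theorem IsFTZ.of_iso {Y Y' : Scheme.{u}} (e : Y ≅ Y') (h : IsFTZ Y) : IsFTZ Y' := by
  obtain ⟨h1, h2⟩ := h
  refine ⟨?_, ?_⟩
  · exact (TopCat.homeoOfIso (Scheme.forgetToTop.mapIso e)).compactSpace
  · have : specULiftZIsTerminal.from Y' = e.inv ≫ specULiftZIsTerminal.from Y :=
      specULiftZIsTerminal.hom_ext _ _
    rw [this]
    infer_instance

instance : IsNoetherianRing (ULift.{u} ℤ) :=
  isNoetherianRing_of_ringEquiv ℤ ULift.ringEquiv.symm

theorem IsFTZ.isNoetherian {Y : Scheme.{u}} (h : IsFTZ Y) : IsNoetherian Y := by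
  obtain ⟨h1, h2⟩ := h
  haveI : IsLocallyNoetherian Y := LocallyOfFiniteType.isLocallyNoetherian
    (specULiftZIsTerminal.from Y)
  exact { }

/-- The spectrum of a finitely generated ring. -/
theorem isFTZ_spec (R : Type u) [CommRing R] (h : Algebra.FiniteType ℤ R) :
    IsFTZ (Spec (CommRingCat.of R)) := by
  refine ⟨inferInstance, ?_⟩
  let φ : CommRingCat.of (ULift.{u} ℤ) ⟶ CommRingCat.of R :=
    CommRingCat.ofHom (Int.castRingHom R |>.comp ULift.ringEquiv.toRingHom)
  have hφ : φ.hom.FiniteType := by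
    have h1 : (Int.castRingHom R).FiniteType := by
      have : algebraMap ℤ R = Int.castRingHom R := rfl
      rw [← this]
      exact (RingHom.finiteType_algebraMap).mpr h
    exact h1.comp (RingHom.FiniteType.of_surjective _ ULift.ringEquiv.surjective)
  have h1 : LocallyOfFiniteType (Spec.map φ) :=
    (HasRingHomProperty.Spec_iff (P := @LocallyOfFiniteType)).mpr hφ
  have h2 : specULiftZIsTerminal.from (Spec (CommRingCat.of R)) = Spec.map φ :=
    specULiftZIsTerminal.hom_ext _ _
  rw [h2]
  exact h1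

/-- A scheme covered by two open subschemes of finite type over `ℤ` is of finite type over
`ℤ`. -/
theorem isFTZ_of_cover {U V X : Scheme.{u}} (jU : U ⟶ X) (jV : V ⟶ X) [IsOpenImmersion jU]
    [IsOpenImmersion jV] (hcov : ∀ x : X, (∃ u, jU u = x) ∨ (∃ v, jV v = x)) (hU : IsFTZ U)
    (hV : IsFTZ V) : IsFTZ X := by
  obtain ⟨hU1, hU2⟩ := hU
  obtain ⟨hV1, hV2⟩ := hV
  refine ⟨?_, ?_⟩
  · rw [← isCompact_univ_iff]
    have : (Set.univ : Set X) = Set.range ⇑jU ∪ Set.range ⇑jV := by
      ext x
      simp only [Set.mem_univ, Set.mem_union, Set.mem_range, true_iff]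
      exact hcov x
    rw [this]
    exact (isCompact_range jU.continuous).union (isCompact_range jV.continuous)
  · let 𝒰 : X.OpenCover := Scheme.Cover.mkOfCovers (P := @IsOpenImmersion) WalkingPair
      (fun j => WalkingPair.casesOn j U V)
      (fun j => match j with
        | .left => jU
        | .right => jV)
      (fun y => by
        rcases hcov y with ⟨x, hx⟩ | ⟨x, hx⟩
        · exact ⟨.left, x, hx⟩
        · exact ⟨.right, x, hx⟩)
      (fun j => match j with
        | .left => inferInstanceAs (IsOpenImmersion jU)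
        | .right => inferInstanceAs (IsOpenImmersion jV))
    refine IsZariskiLocalAtSource.of_openCover (P := @LocallyOfFiniteType) 𝒰 fun j => ?_
    match j with
    | .left =>
      have : 𝒰.f WalkingPair.left ≫ specULiftZIsTerminal.from X = specULiftZIsTerminal.from U :=
        specULiftZIsTerminal.hom_ext _ _
      rw [this]
      exact hU2
    | .right =>
      have : 𝒰.f WalkingPair.right ≫ specULiftZIsTerminal.from X = specULiftZIsTerminal.from V :=
        specULiftZIsTerminal.hom_ext _ _
      rw [this]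
      exact hV2

/-- The ring of sections over an affine open of a scheme of finite type over `ℤ` is a finitely
generated ring. -/
theorem IsFTZ.exists_finset_closure_eq_top {Y : Scheme.{u}} (h : IsFTZ Y) {O : Y.Opens}
    (hO : IsAffineOpen O) : ∃ s : Finset Γ(Y, O), Subring.closure (s : Set Γ(Y, O)) = ⊤ := by
  obtain ⟨-, h2⟩ := h
  have hT : IsAffineOpen (⊤ : (Spec (CommRingCat.of (ULift.{u} ℤ))).Opens) := isAffineOpen_top _
  have hft := HasRingHomProperty.appLE (P := @LocallyOfFiniteType) _ h2 ⟨⊤, hT⟩ ⟨O, hO⟩ le_top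
  set ψ := (Scheme.Hom.appLE (specULiftZIsTerminal.from Y) ⊤ O le_top).hom with hψ
  have hint : ∀ r : Γ(Spec (CommRingCat.of (ULift.{u} ℤ)), ⊤), ∃ n : ℤ, ψ r = (n : Γ(Y, O)) := by
    intro r
    obtain ⟨m, rfl⟩ : ∃ m : ULift.{u} ℤ, (Scheme.ΓSpecIso (CommRingCat.of (ULift.{u} ℤ))).inv m = r :=
      ⟨(Scheme.ΓSpecIso (CommRingCat.of (ULift.{u} ℤ))).hom r, by
        rw [← CommRingCat.comp_apply, Iso.hom_inv_id]; rfl⟩
    refine ⟨m.down, ?_⟩
    have : m = ((m.down : ℤ) : ULift.{u} ℤ) := by
      apply ULift.ext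
      simp
    rw [this, map_intCast, map_intCast]
    simp
  letI : Algebra Γ(Spec (CommRingCat.of (ULift.{u} ℤ)), ⊤) Γ(Y, O) := ψ.toAlgebra
  obtain ⟨s, hs⟩ := (hft : Algebra.FiniteType _ _).out
  refine ⟨s, ?_⟩
  rw [eq_top_iff]
  intro x hxtop
  clear hxtop
  have hx : x ∈ Algebra.adjoin Γ(Spec (CommRingCat.of (ULift.{u} ℤ)), ⊤) (s : Set Γ(Y, O)) := by
    rw [hs]; trivial
  induction hx using Algebra.adjoin_induction with
  | mem x hx => exact Subring.subset_closure hx
  | algebraMap r =>
    obtain ⟨n, hn⟩ := hint r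
    have : algebraMap Γ(Spec (CommRingCat.of (ULift.{u} ℤ)), ⊤) Γ(Y, O) r = ψ r := rfl
    rw [this, hn]
    exact intCast_mem _ n
  | add x y _ _ hx hy => exact Subring.add_mem _ hx hy
  | mul x y _ _ hx hy => exact Subring.mul_mem _ hx hy

end Groth.Agent.Lib.helper9.AbsApprox
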