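/-
Helper library (helper9): absolute Noetherian approximation, part 8.
The data of the induction step (a scheme `X = U ∪ V` with `V` affine and an approximation of `U`)
and the index set of the approximation of `X`: rings.
-/
import Groth.Agent.Lib.Helper9.AbsApprox3
import Groth.Agent.Lib.Helper9.AbsApprox7

set_option autoImplicit false
set_option linter.style.haveILetI false
set_option backward.isDefEq.respectTransparency false

namespace Groth.Agent.Lib.helper9.AbsApprox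

open AlgebraicGeometry CategoryTheory Limits Opposite

universe u

theorem appLE_congr_hom {X Y : Scheme.{u}} {f f' : X ⟶ Y} (h : f = f') (U : Y.Opens)
    (V : X.Opens) (e : V ≤ f ⁻¹ᵁ U) :
    f.appLE U V e = f'.appLE U V (h ▸ e) := by
  subst h
  rfl

/-- The data of the induction step. -/
structure StepData where
  /-- the index set -/
  I : Type u
  [pre : Preorder I]
  [dir : IsDirected I (· ≤ ·)]
  [ne : Nonempty I]
  /-- the system approximating `U` -/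
  D : Iᵒᵖ ⥤ Scheme.{u}
  /-- the cone with vertex `U` -/
  c : Cone D
  hc : IsLimit c
  aff : ∀ {i j : Iᵒᵖ} (f : i ⟶ j), IsAffineHom (D.map f)
  ftz : ∀ i : I, IsFTZ (D.obj (op i))
  /-- the opens `W i` approximating `U ∩ V` -/
  W : ∀ i : I, (D.obj (op i)).Opens
  hW : ∀ {i i' : I} (h : i ≤ i'), D.map (homOfLE h).op ⁻¹ᵁ W i = W i'
  /-- the open `U ∩ V` of `U` -/
  Winf : c.pt.Opens
  hWinf : ∀ i : I, c.π.app (op i) ⁻¹ᵁ W i = Winf
  /-- the index set of the standard cover of `U ∩ V` -/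
  κ : Type
  [fin : Finite κ]
  /-- the sections defining the standard cover -/
  f : ∀ i : I, κ → Γ(D.obj (op i), W i)
  hf : ∀ {i i' : I} (h : i ≤ i') (k : κ),
    ((D.map (homOfLE h).op).appLE (W i) (W i') (hW h).ge).hom (f i k) = f i' k
  hcov : ∀ i : I, W i ≤ ⨆ k, (D.obj (op i)).basicOpen (f i k)
  haff : ∀ (i : I) (k : κ), IsAffineOpen ((D.obj (op i)).basicOpen (f i k))
  /-- the ring of `V` -/
  B : CommRingCat.{u}
  /-- the restriction `Γ(V) ⟶ Γ(U ∩ V)` -/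
  ρ : B ⟶ Γ(c.pt, Winf)
  /-- the elements of `Γ(V)` defining the standard cover -/
  bk : κ → B
  hbk : ∀ (i : I) (k : κ),
    ρ.hom (bk k) = ((c.π.app (op i)).appLE (W i) Winf (hWinf i).ge).hom (f i k)
  hiso : ∀ k, Function.Bijective (Localization.awayMap ρ.hom (bk k))
  hb : IsOpenImmersion (Winf.toSpecΓ ≫ Spec.map ρ)

namespace StepData

variable (S : StepData.{u})

instance : Preorder S.I := S.pre
instance : IsDirected S.I (· ≤ ·) := S.dir
instance : Nonempty S.I := S.ne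
instance : Finite S.κ := S.fin
instance {i j : S.Iᵒᵖ} (f : i ⟶ j) : IsAffineHom (S.D.map f) := S.aff f

/-- the schemes of the system -/
abbrev X (i : S.I) : Scheme.{u} := S.D.obj (op i)

/-- the transition maps -/
def tr {i i' : S.I} (h : i ≤ i') : S.X i' ⟶ S.X i := S.D.map (homOfLE h).op

/-- the projections -/
abbrev pr (i : S.I) : S.c.pt ⟶ S.X i := S.c.π.app (op i)

instance {i i' : S.I} (h : i ≤ i') : IsAffineHom (S.tr h) := S.aff _

theorem tr_refl (i : S.I) : S.tr (le_refl i) = 𝟙 _ := by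
  have : (homOfLE (le_refl i)).op = 𝟙 (op i) := rfl
  rw [tr, this, S.D.map_id]

theorem tr_trans {i i' i'' : S.I} (h : i ≤ i') (h' : i' ≤ i'') :
    S.tr h' ≫ S.tr h = S.tr (h.trans h') := by
  rw [tr, tr, tr, ← S.D.map_comp]
  rfl

theorem pr_tr {i i' : S.I} (h : i ≤ i') : S.pr i' ≫ S.tr h = S.pr i :=
  S.c.w (homOfLE h).op

theorem hW' {i i' : S.I} (h : i ≤ i') : S.tr h ⁻¹ᵁ S.W i = S.W i' := S.hW h

/-- the rings of functions on the `W i` -/
abbrev R (i : S.I) : CommRingCat.{u} := Γ(S.X i, S.W i)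

/-- the ring of functions on `U ∩ V` -/
abbrev Rinf : CommRingCat.{u} := Γ(S.c.pt, S.Winf)

/-- pullback of functions to the limit -/
def t (i : S.I) : S.R i ⟶ S.Rinf := (S.pr i).appLE (S.W i) S.Winf (S.hWinf i).ge

/-- pullback of functions along the transition maps -/
def r {i i' : S.I} (h : i ≤ i') : S.R i ⟶ S.R i' :=
  (S.tr h).appLE (S.W i) (S.W i') (S.hW' h).ge

theorem r_t {i i' : S.I} (h : i ≤ i') : S.r h ≫ S.t i' = S.t i := by
  rw [r, t, t, Scheme.Hom.appLE_comp_appLE]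
  exact appLE_congr_hom (S.pr_tr h) _ _ _

theorem r_r {i i' i'' : S.I} (h : i ≤ i') (h' : i' ≤ i'') :
    S.r h ≫ S.r h' = S.r (h.trans h') := by
  rw [r, r, r, Scheme.Hom.appLE_comp_appLE]
  exact appLE_congr_hom (S.tr_trans h h') _ _ _

theorem r_refl (i : S.I) : S.r (le_refl i) = 𝟙 _ := by
  rw [r, appLE_congr_hom (S.tr_refl i)]
  simp only [Scheme.Hom.appLE, Scheme.Hom.id_app, Category.id_comp]
  exact (S.X i).presheaf.map_id _

theorem r_f {i i' : S.I} (h : i ≤ i') (k : S.κ) : (S.r h).hom (S.f i k) = S.f i' k := S.hf h k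

theorem t_f (i : S.I) (k : S.κ) : (S.t i).hom (S.f i k) = S.ρ.hom (S.bk k) := (S.hbk i k).symm

/-- the fibre product rings `Γ(V) ×_{Γ(U ∩ V)} Γ(W i)` -/
abbrev P (i : S.I) : Subring (S.B × S.R i) := Pr S.ρ.hom (S.t i).hom

/-- the elements of `P i` defining the standard cover -/
def hk (i : S.I) (k : S.κ) : S.P i := prMk S.ρ.hom (S.t i).hom (S.bk k) (S.f i k) (S.t_f i k).symm

/-- the transition maps between the fibre product rings -/
def τ {i i' : S.I} (h : i ≤ i') : S.P i →+* S.P i' :=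
  RingHom.codRestrict (((RingHom.fst S.B (S.R i)).comp (S.P i).subtype).prod
    ((S.r h).hom.comp ((RingHom.snd S.B (S.R i)).comp (S.P i).subtype))) (S.P i') (by
    intro x
    show S.ρ.hom x.1.1 = (S.t i').hom ((S.r h).hom x.1.2)
    rw [← CommRingCat.comp_apply, S.r_t h]
    exact x.2)

theorem prFst_τ {i i' : S.I} (h : i ≤ i') (x : S.P i) :
    prFst S.ρ.hom (S.t i').hom (S.τ h x) = prFst S.ρ.hom (S.t i).hom x := rfl

theorem prSnd_τ {i i' : S.I} (h : i ≤ i') (x : S.P i) :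
    prSnd S.ρ.hom (S.t i').hom (S.τ h x) = (S.r h).hom (prSnd S.ρ.hom (S.t i).hom x) := rfl

theorem τ_refl (i : S.I) (x : S.P i) : S.τ (le_refl i) x = x := by
  apply pr_ext
  · rfl
  · rw [prSnd_τ, S.r_refl]
    rfl

theorem τ_trans {i i' i'' : S.I} (h : i ≤ i') (h' : i' ≤ i'') (x : S.P i) :
    S.τ h' (S.τ h x) = S.τ (h.trans h') x := by
  apply pr_ext
  · rfl
  · rw [prSnd_τ, prSnd_τ, prSnd_τ, ← CommRingCat.comp_apply, S.r_r h h']

theorem τ_hk {i i' : S.I} (h : i ≤ i') (k : S.κ) : S.τ h (S.hk i k) = S.hk i' k := by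
  apply pr_ext
  · rfl
  · rw [prSnd_τ]
    exact S.r_f h k

/-- `P i` localized at `hk i k` is `R i` localized at `f i k`. -/
theorem awayMap_prSnd_hk_bijective (i : S.I) (k : S.κ) :
    Function.Bijective (Localization.awayMap (prSnd S.ρ.hom (S.t i).hom) (S.hk i k)) :=
  awayMap_prSnd_bijective S.ρ.hom (S.t i).hom (S.hk i k) (S.hiso k)

theorem isCompact_W (i : S.I) : IsCompact (S.W i : Set (S.X i)) := by
  haveI := (S.ftz i).isNoetherian
  exact TopologicalSpace.NoetherianSpace.isCompact _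

theorem isQuasiSeparated_W (i : S.I) : IsQuasiSeparated (S.W i : Set (S.X i)) := by
  haveI := (S.ftz i).isNoetherian
  exact .of_quasiSeparatedSpace _

/-- The localizations `Γ(W i)_{f i k}` are finitely generated rings. -/
theorem exists_finset_closure_away (i : S.I) (k : S.κ) :
    ∃ s : Finset (Localization.Away (S.f i k)),
      Subring.closure (s : Set (Localization.Away (S.f i k))) = ⊤ := by
  classical
  obtain ⟨θ, -⟩ := exists_iso_away_of_qcqs (S.isCompact_W i) (S.isQuasiSeparated_W i) (S.f i k)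
  obtain ⟨s, hs⟩ := (S.ftz i).exists_finset_closure_eq_top (S.haff i k)
  refine ⟨s.image θ.inv.hom, ?_⟩
  rw [Finset.coe_image, ← RingHom.map_closure, hs, eq_top_iff]
  intro y _
  refine ⟨θ.hom.hom y, Subring.mem_top _, ?_⟩
  rw [← CommRingCat.comp_apply, θ.hom_inv_id]
  rfl

/-- The index set of the approximation of `X`: a stage `i` and a finitely generated subring `A`
of `P i` containing the `hk i k` and such that `A_{hk i k} ⟶ Γ(W i)_{f i k}` is surjective. -/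
structure Idx where
  /-- the stage -/
  i : S.I
  /-- the subring -/
  A : Subalgebra ℤ (S.P i)
  fg : A.FG
  hmem : ∀ k, S.hk i k ∈ A
  surj : ∀ (k : S.κ) (x : S.R i), ∃ b ∈ A, ∃ m : ℕ,
    prSnd S.ρ.hom (S.t i).hom b = S.f i k ^ m * x

instance : LE S.Idx := ⟨fun j j' => ∃ h : j.i ≤ j'.i, ∀ x ∈ j.A, S.τ h x ∈ j'.A⟩

theorem Idx.le_def (j j' : S.Idx) : j ≤ j' ↔ ∃ h : j.i ≤ j'.i, ∀ x ∈ j.A, S.τ h x ∈ j'.A :=
  Iff.rfl

instance : Preorder S.Idx where
  le_refl j := ⟨le_refl _, fun x hx => by rw [S.τ_refl]; exact hx⟩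
  le_trans j j' j'' h h' := ⟨h.fst.trans h'.fst, fun x hx => by
    rw [← S.τ_trans h.fst h'.fst]
    exact h'.snd _ (h.snd _ hx)⟩

/-- Every finitely generated subring of `P i` is contained in one belonging to the index set. -/
theorem exists_idx (i : S.I) (A₀ : Subalgebra ℤ (S.P i)) (h₀ : A₀.FG) :
    ∃ A : Subalgebra ℤ (S.P i), A₀ ≤ A ∧ A.FG ∧ (∀ k, S.hk i k ∈ A) ∧
      ∀ (k : S.κ) (x : S.R i), ∃ b ∈ A, ∃ m : ℕ,
        prSnd S.ρ.hom (S.t i).hom b = S.f i k ^ m * x := by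
  classical
  have hF : ∀ k : S.κ, ∃ F : Finset (S.P i), ∀ (A : Subring (S.P i)), S.hk i k ∈ A →
      (F : Set (S.P i)) ⊆ A → ∀ x, ∃ b ∈ A, ∃ m,
        prSnd S.ρ.hom (S.t i).hom b = prSnd S.ρ.hom (S.t i).hom (S.hk i k) ^ m * x := fun k =>
    exists_finset_forall_subring (prSnd S.ρ.hom (S.t i).hom) (S.hk i k)
      (Localization.awayMap_surjective_iff.mp (S.awayMap_prSnd_hk_bijective i k).2)
      (S.exists_finset_closure_away i k)
  choose F hF using hF
  let T : Set (S.P i) := (⋃ k, (F k : Set (S.P i))) ∪ Set.range (S.hk i)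
  have hT : T.Finite := (Set.finite_iUnion fun k => (F k).finite_toSet).union (Set.finite_range _)
  let A₁ : Subalgebra ℤ (S.P i) := Algebra.adjoin ℤ T
  have hA₁ : A₁.FG := Subalgebra.fg_def.mpr ⟨T, hT, rfl⟩
  refine ⟨A₀ ⊔ A₁, le_sup_left, h₀.sup hA₁, fun k => ?_, fun k x => ?_⟩
  · exact (le_sup_right : A₁ ≤ A₀ ⊔ A₁) (Algebra.subset_adjoin (Or.inr ⟨k, rfl⟩))
  · have h1 : S.hk i k ∈ (A₀ ⊔ A₁).toSubring :=
      (le_sup_right : A₁ ≤ A₀ ⊔ A₁) (Algebra.subset_adjoin (Or.inr ⟨k, rfl⟩))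
    have h2 : (F k : Set (S.P i)) ⊆ (A₀ ⊔ A₁).toSubring := fun y hy =>
      (le_sup_right : A₁ ≤ A₀ ⊔ A₁) (Algebra.subset_adjoin (Or.inl (Set.mem_iUnion.mpr ⟨k, hy⟩)))
    obtain ⟨b, hb, m, hbm⟩ := hF k (A₀ ⊔ A₁).toSubring h1 h2 x
    exact ⟨b, hb, m, hbm⟩

instance : Nonempty S.Idx := by
  obtain ⟨i⟩ := S.ne
  obtain ⟨A, -, h1, h2, h3⟩ := S.exists_idx i ⊥ Subalgebra.fg_bot
  exact ⟨⟨i, A, h1, h2, h3⟩⟩

instance : IsDirected S.Idx (· ≤ ·) := by
  refine ⟨fun j j' => ?_⟩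
  obtain ⟨i, hi, hi'⟩ := exists_ge_ge j.i j'.i
  obtain ⟨A, hA, h1, h2, h3⟩ := S.exists_idx i
    (j.A.map (S.τ hi).toIntAlgHom ⊔ j'.A.map (S.τ hi').toIntAlgHom)
    ((j.fg.map _).sup (j'.fg.map _))
  refine ⟨⟨i, A, h1, h2, h3⟩, ⟨hi, fun x hx => ?_⟩, ⟨hi', fun x hx => ?_⟩⟩
  · exact hA ((le_sup_left : _ ≤ j.A.map (S.τ hi).toIntAlgHom ⊔ j'.A.map (S.τ hi').toIntAlgHom)
      ⟨x, hx, rfl⟩)
  · exact hA ((le_sup_right : _ ≤ j.A.map (S.τ hi).toIntAlgHom ⊔ j'.A.map (S.τ hi').toIntAlgHom)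
      ⟨x, hx, rfl⟩)

/-- For every stage `i` and every index `j` there is an index above `j` with stage above `i`. -/
theorem exists_idx_ge (j : S.Idx) (i : S.I) : ∃ j' : S.Idx, j ≤ j' ∧ i ≤ j'.i := by
  obtain ⟨i', hi, hi'⟩ := exists_ge_ge j.i i
  obtain ⟨A, hA, h1, h2, h3⟩ := S.exists_idx i' (j.A.map (S.τ hi).toIntAlgHom) (j.fg.map _)
  exact ⟨⟨i', A, h1, h2, h3⟩, ⟨hi, fun x hx => hA ⟨x, hx, rfl⟩⟩, hi'⟩

/-- Every element of `P j.i` lies in the subring of some larger index. -/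
theorem exists_idx_mem (j : S.Idx) (x : S.P j.i) :
    ∃ (j' : S.Idx) (h : j ≤ j'), S.τ h.fst x ∈ j'.A := by
  classical
  obtain ⟨A, hA, h1, h2, h3⟩ := S.exists_idx j.i (j.A ⊔ Algebra.adjoin ℤ {x})
    (j.fg.sup (Subalgebra.fg_def.mpr ⟨{x}, Set.finite_singleton x, rfl⟩))
  refine ⟨⟨j.i, A, h1, h2, h3⟩, ⟨le_refl _, fun y hy => ?_⟩, ?_⟩
  · rw [S.τ_refl]
    exact hA ((le_sup_left : j.A ≤ j.A ⊔ Algebra.adjoin ℤ {x}) hy)
  · rw [S.τ_refl]
    exact hA ((le_sup_right : _ ≤ j.A ⊔ Algebra.adjoin ℤ {x})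
      (Algebra.subset_adjoin (Set.mem_singleton x)))

end StepData

end Groth.Agent.Lib.helper9.AbsApprox
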