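/-
Helper library (helper9): absolute Noetherian approximation, part 9.
The schemes `U_i ∪_{W_i} Spec A` of the approximating system and the transition maps.
-/
import Groth.Agent.Lib.Helper9.AbsApprox8

set_option autoImplicit false
set_option linter.style.haveILetI false
set_option backward.isDefEq.respectTransparency false

namespace Groth.Agent.Lib.helper9.AbsApprox

open AlgebraicGeometry CategoryTheory Limits Opposite

universe u

noncomputable section

namespace StepData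

variable (S : StepData.{u})

/-- the ring map `A ⟶ Γ(W i)` -/
def φ (j : S.Idx) : CommRingCat.of j.A ⟶ S.R j.i :=
  CommRingCat.ofHom ((prSnd S.ρ.hom (S.t j.i).hom).comp j.A.val.toRingHom)

/-- the ring map `A ⟶ Γ(V)` -/
def ψ (j : S.Idx) : CommRingCat.of j.A ⟶ S.B :=
  CommRingCat.ofHom ((prFst S.ρ.hom (S.t j.i).hom).comp j.A.val.toRingHom)

/-- the elements of `A` defining the standard cover -/
def hA (j : S.Idx) (k : S.κ) : j.A := ⟨S.hk j.i k, j.hmem k⟩

theorem φ_hA (j : S.Idx) (k : S.κ) : (S.φ j).hom (S.hA j k) = S.f j.i k := rfl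

theorem ψ_hA (j : S.Idx) (k : S.κ) : (S.ψ j).hom (S.hA j k) = S.bk k := rfl

theorem φ_t (j : S.Idx) : S.φ j ≫ S.t j.i = S.ψ j ≫ S.ρ := by
  ext x
  exact (pr_comm S.ρ.hom (S.t j.i).hom x.1).symm

theorem awayMap_φ_bijective (j : S.Idx) (k : S.κ) :
    Function.Bijective (Localization.awayMap (S.φ j).hom (S.hA j k)) := by
  constructor
  · have hinj := (S.awayMap_prSnd_hk_bijective j.i k).1
    rw [Localization.awayMap_injective_iff] at hinj ⊢
    intro a ha
    obtain ⟨n, hn⟩ := hinj a.1 ha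
    refine ⟨n, Subtype.ext ?_⟩
    rw [Subalgebra.coe_mul, Subalgebra.coe_pow, Subalgebra.coe_zero]
    exact hn
  · rw [Localization.awayMap_surjective_iff]
    intro x
    obtain ⟨b, hb, m, hbm⟩ := j.surj k x
    exact ⟨⟨b, hb⟩, m, hbm⟩

/-- the chart `W i ⟶ Spec A` -/
def g (j : S.Idx) : (S.W j.i : Scheme.{u}) ⟶ Spec (CommRingCat.of j.A) :=
  (S.W j.i).toSpecΓ ≫ Spec.map (S.φ j)

theorem hcov' (j : S.Idx) : S.W j.i ≤ ⨆ k, (S.X j.i).basicOpen ((S.φ j).hom (S.hA j k)) :=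
  S.hcov j.i

instance (j : S.Idx) : IsOpenImmersion (S.g j) :=
  isOpenImmersion_toSpecΓ_comp (S.isCompact_W j.i) (S.isQuasiSeparated_W j.i) (S.φ j) (S.hA j)
    (S.hcov' j) (fun k => S.haff j.i k) (S.awayMap_φ_bijective j)

theorem range_g (j : S.Idx) :
    Set.range ⇑(S.g j) = ⋃ k, ((specBasicOpen (A := CommRingCat.of j.A) (S.hA j k) :
      (Spec (CommRingCat.of j.A)).Opens) : Set ↥(Spec (CommRingCat.of j.A))) :=
  range_toSpecΓ_comp (S.isCompact_W j.i) (S.isQuasiSeparated_W j.i) (S.φ j) (S.hA j)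
    (S.hcov' j) (fun k => S.haff j.i k) (S.awayMap_φ_bijective j)

/-- the schemes of the approximating system -/
abbrev Sj (j : S.Idx) : Scheme.{u} := pushout (S.W j.i).ι (S.g j)

/-- the ring maps between the subrings -/
def τA {j j' : S.Idx} (h : j ≤ j') : CommRingCat.of j.A ⟶ CommRingCat.of j'.A :=
  CommRingCat.ofHom (RingHom.codRestrict ((S.τ h.fst).comp j.A.val.toRingHom) j'.A.toSubring
    (fun x => h.snd x.1 x.2))

theorem τA_val {j j' : S.Idx} (h : j ≤ j') (x : j.A) :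
    (((S.τA h).hom x : j'.A) : S.P j'.i) = S.τ h.fst x.1 := rfl

theorem τA_refl (j : S.Idx) : S.τA (le_refl j) = 𝟙 _ := by
  refine CommRingCat.hom_ext (RingHom.ext fun x => Subtype.ext ?_)
  rw [τA_val, S.τ_refl]
  rfl

theorem τA_trans {j j' j'' : S.Idx} (h : j ≤ j') (h' : j' ≤ j'') :
    S.τA h ≫ S.τA h' = S.τA (h.trans h') := by
  refine CommRingCat.hom_ext (RingHom.ext fun x => Subtype.ext ?_)
  rw [τA_val]
  show S.τ h'.fst (S.τ h.fst x.1) = S.τ _ x.1
  rw [S.τ_trans]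

theorem τA_hA {j j' : S.Idx} (h : j ≤ j') (k : S.κ) : (S.τA h).hom (S.hA j k) = S.hA j' k :=
  Subtype.ext (S.τ_hk h.fst k)

theorem τA_φ {j j' : S.Idx} (h : j ≤ j') : S.τA h ≫ S.φ j' = S.φ j ≫ S.r h.fst := by
  ext x
  rfl

theorem τA_ψ {j j' : S.Idx} (h : j ≤ j') : S.τA h ≫ S.ψ j' = S.ψ j := by
  ext x
  rfl

/-- the restriction `W i' ⟶ W i` of the transition map -/
def w {i i' : S.I} (h : i ≤ i') : (S.W i' : Scheme.{u}) ⟶ (S.W i : Scheme.{u}) :=
  (S.tr h).resLE (S.W i) (S.W i') (S.hW' h).ge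

theorem w_ι {i i' : S.I} (h : i ≤ i') : S.w h ≫ (S.W i).ι = (S.W i').ι ≫ S.tr h :=
  Scheme.Hom.resLE_comp_ι _ _

theorem g_comp {j j' : S.Idx} (h : j ≤ j') :
    S.g j' ≫ Spec.map (S.τA h) = S.w h.fst ≫ S.g j := by
  rw [g, g, Category.assoc, ← Spec.map_comp, S.τA_φ h, Spec.map_comp, w, r,
    ← Scheme.Opens.toSpecΓ_SpecMap_appLE_assoc]

theorem isPullback_w {i i' : S.I} (h : i ≤ i') :
    IsPullback (S.W i').ι (S.w h) (S.tr h) (S.W i).ι := by
  refine (IsOpenImmersion.isPullback (S.w h) (S.W i').ι (S.W i).ι (S.tr h) (S.w_ι h).symm ?_).flip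
  rw [Scheme.Opens.opensRange_ι, Scheme.Opens.opensRange_ι]
  exact S.hW' h

theorem isPullback_g {j j' : S.Idx} (h : j ≤ j') :
    IsPullback (S.g j') (S.w h.fst) (Spec.map (S.τA h)) (S.g j) := by
  refine (IsOpenImmersion.isPullback (S.w h.fst) (S.g j') (S.g j) (Spec.map (S.τA h))
    (S.g_comp h) ?_).flip
  ext x
  show (Spec.map (S.τA h)) x ∈ Set.range ⇑(S.g j) ↔ x ∈ Set.range ⇑(S.g j')
  rw [S.range_g, S.range_g]
  simp only [Set.mem_iUnion]
  refine exists_congr fun k => ?_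
  rw [← S.τA_hA h k]
  rfl

/-- the transition maps of the approximating system -/
def mapS {j j' : S.Idx} (h : j ≤ j') : S.Sj j' ⟶ S.Sj j :=
  pushout.map (S.W j'.i).ι (S.g j') (S.W j.i).ι (S.g j) (S.tr h.fst) (Spec.map (S.τA h))
    (S.w h.fst) (S.w_ι h.fst).symm (S.g_comp h)

instance {j j' : S.Idx} (h : j ≤ j') : IsAffineHom (S.mapS h) :=
  isAffineHom_pushoutMap (S.W j.i).ι (S.g j) (S.W j'.i).ι (S.g j') (S.tr h.fst)
    (Spec.map (S.τA h)) (S.w h.fst) (S.w_ι h.fst).symm (S.g_comp h) (S.isPullback_w h.fst)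
    (S.isPullback_g h)

theorem mapS_refl (j : S.Idx) : S.mapS (le_refl j) = 𝟙 _ := by
  apply pushout.hom_ext
  · rw [mapS, pushout.inl_desc, Category.comp_id, S.tr_refl, Category.id_comp]
  · rw [mapS, pushout.inr_desc, Category.comp_id, S.τA_refl, Spec.map_id, Category.id_comp]

theorem mapS_trans {j j' j'' : S.Idx} (h : j ≤ j') (h' : j' ≤ j'') :
    S.mapS h' ≫ S.mapS h = S.mapS (h.trans h') := by
  apply pushout.hom_ext
  · rw [mapS, mapS, mapS, pushout.inl_desc_assoc, Category.assoc, pushout.inl_desc,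
      pushout.inl_desc, ← Category.assoc, S.tr_trans]
  · rw [mapS, mapS, mapS, pushout.inr_desc_assoc, Category.assoc, pushout.inr_desc,
      pushout.inr_desc, ← Category.assoc, ← Spec.map_comp, S.τA_trans]

/-- the approximating system -/
def D' : S.Idxᵒᵖ ⥤ Scheme.{u} where
  obj j := S.Sj j.unop
  map f := S.mapS (leOfHom f.unop)
  map_id j := S.mapS_refl j.unop
  map_comp f f' := (S.mapS_trans (leOfHom f'.unop) (leOfHom f.unop)).symm

instance {j j' : S.Idxᵒᵖ} (f : j ⟶ j') : IsAffineHom (S.D'.map f) :=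
  inferInstanceAs (IsAffineHom (S.mapS (leOfHom f.unop)))

theorem isFTZ_Sj (j : S.Idx) : IsFTZ (S.Sj j) :=
  isFTZ_of_cover (pushout.inl _ _) (pushout.inr _ _) (exists_inl_or_inr _ _) (S.ftz j.i)
    (isFTZ_spec _ ((Subalgebra.fg_iff_finiteType j.A).mp j.fg))

end StepData

end

end Groth.Agent.Lib.helper9.AbsApprox
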