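/-
Helper library (helper9): absolute Noetherian approximation, part 10.
The cone over the approximating system with vertex `X = U ∪ V`.
-/
import Groth.Agent.Lib.Helper9.AbsApprox9

set_option autoImplicit false
set_option linter.style.haveILetI false
set_option backward.isDefEq.respectTransparency false

namespace Groth.Agent.Lib.helper9.AbsApprox

open AlgebraicGeometry CategoryTheory Limits Opposite

universe u

theorem basicOpen_appLE {X Y : Scheme.{u}} (f : X ⟶ Y) (U : Y.Opens) (V : X.Opens)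
    (e : V ≤ f ⁻¹ᵁ U) (s : Γ(Y, U)) :
    X.basicOpen ((f.appLE U V e).hom s) = V ⊓ f ⁻¹ᵁ (Y.basicOpen s) := by
  rw [Scheme.Hom.appLE, CommRingCat.comp_apply, Scheme.basicOpen_res, Scheme.preimage_basicOpen]

noncomputable section

namespace StepData

variable (S : StepData.{u})

instance (i : S.I) : IsAffineHom (S.pr i) := isAffineHom_π_app S.D S.c S.hc (op i)

theorem basicOpen_f {i i' : S.I} (h : i ≤ i') (k : S.κ) :
    (S.X i').basicOpen (S.f i' k) = S.tr h ⁻¹ᵁ (S.X i).basicOpen (S.f i k) := by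
  rw [← S.r_f h k, r, basicOpen_appLE, inf_eq_right, ← S.hW' h]
  exact Scheme.Hom.preimage_mono _ ((S.X i).basicOpen_le _)

theorem basicOpen_ρ_bk (i : S.I) (k : S.κ) :
    S.c.pt.basicOpen (S.ρ.hom (S.bk k)) = S.pr i ⁻¹ᵁ (S.X i).basicOpen (S.f i k) := by
  rw [← S.t_f i k, t, basicOpen_appLE, inf_eq_right, ← S.hWinf i]
  exact Scheme.Hom.preimage_mono _ ((S.X i).basicOpen_le _)

theorem isAffineOpen_basicOpen_ρ_bk (k : S.κ) :
    IsAffineOpen (S.c.pt.basicOpen (S.ρ.hom (S.bk k))) := by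
  obtain ⟨i⟩ := S.ne
  rw [S.basicOpen_ρ_bk i k]
  exact (S.haff i k).preimage (S.pr i)

theorem Winf_le : S.Winf ≤ ⨆ k, S.c.pt.basicOpen (S.ρ.hom (S.bk k)) := by
  obtain ⟨i⟩ := S.ne
  simp_rw [S.basicOpen_ρ_bk i]
  rw [← Scheme.Hom.preimage_iSup, ← S.hWinf i]
  exact Scheme.Hom.preimage_mono _ (S.hcov i)

theorem Winf_eq : S.Winf = ⨆ k, S.c.pt.basicOpen (S.ρ.hom (S.bk k)) :=
  le_antisymm S.Winf_le (iSup_le fun _ => S.c.pt.basicOpen_le _)

theorem isCompact_Winf : IsCompact (S.Winf : Set S.c.pt) := by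
  rw [S.Winf_eq, TopologicalSpace.Opens.coe_iSup]
  exact isCompact_iUnion fun k => (S.isAffineOpen_basicOpen_ρ_bk k).isCompact

instance : QuasiSeparatedSpace S.c.pt := by
  obtain ⟨i⟩ := S.ne
  haveI := (S.ftz i).isNoetherian
  exact quasiSeparatedSpace_of_quasiSeparated (S.pr i)

theorem isQuasiSeparated_Winf : IsQuasiSeparated (S.Winf : Set S.c.pt) :=
  .of_quasiSeparatedSpace _

/-- the chart `U ∩ V ⟶ V = Spec B` -/
def b : (S.Winf : Scheme.{u}) ⟶ Spec S.B := S.Winf.toSpecΓ ≫ Spec.map S.ρ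

instance : IsOpenImmersion S.b := S.hb

theorem range_b :
    Set.range ⇑S.b = ⋃ k, ((specBasicOpen (S.bk k) : (Spec S.B).Opens) : Set ↥(Spec S.B)) :=
  range_toSpecΓ_comp S.isCompact_Winf S.isQuasiSeparated_Winf S.ρ S.bk S.Winf_le
    S.isAffineOpen_basicOpen_ρ_bk S.hiso

/-- the scheme `X = U ∪ V` -/
abbrev Xg : Scheme.{u} := pushout S.Winf.ι S.b

/-- the restriction `U ∩ V ⟶ W i` of the projection -/
def winf (i : S.I) : (S.Winf : Scheme.{u}) ⟶ (S.W i : Scheme.{u}) :=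
  (S.pr i).resLE (S.W i) S.Winf (S.hWinf i).ge

theorem winf_ι (i : S.I) : S.winf i ≫ (S.W i).ι = S.Winf.ι ≫ S.pr i :=
  Scheme.Hom.resLE_comp_ι _ _

theorem winf_w {i i' : S.I} (h : i ≤ i') : S.winf i' ≫ S.w h = S.winf i := by
  rw [← cancel_mono (S.W i).ι, Category.assoc, S.w_ι, reassoc_of% S.winf_ι, S.winf_ι, S.pr_tr]

theorem b_comp (j : S.Idx) : S.b ≫ Spec.map (S.ψ j) = S.winf j.i ≫ S.g j := by
  rw [b, g, Category.assoc, ← Spec.map_comp, ← S.φ_t j, Spec.map_comp, winf, t,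
    ← Scheme.Opens.toSpecΓ_SpecMap_appLE_assoc]

theorem isPullback_winf (i : S.I) : IsPullback S.Winf.ι (S.winf i) (S.pr i) (S.W i).ι := by
  refine (IsOpenImmersion.isPullback (S.winf i) S.Winf.ι (S.W i).ι (S.pr i)
    (S.winf_ι i).symm ?_).flip
  rw [Scheme.Opens.opensRange_ι, Scheme.Opens.opensRange_ι]
  exact S.hWinf i

theorem isPullback_b (j : S.Idx) :
    IsPullback S.b (S.winf j.i) (Spec.map (S.ψ j)) (S.g j) := by
  refine (IsOpenImmersion.isPullback (S.winf j.i) S.b (S.g j) (Spec.map (S.ψ j))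
    (S.b_comp j) ?_).flip
  ext x
  show (Spec.map (S.ψ j)) x ∈ Set.range ⇑(S.g j) ↔ x ∈ Set.range ⇑S.b
  rw [S.range_g, S.range_b]
  simp only [Set.mem_iUnion]
  refine exists_congr fun k => ?_
  rw [← S.ψ_hA j k]
  rfl

/-- the legs of the cone -/
def leg (j : S.Idx) : S.Xg ⟶ S.Sj j :=
  pushout.map S.Winf.ι S.b (S.W j.i).ι (S.g j) (S.pr j.i) (Spec.map (S.ψ j)) (S.winf j.i)
    (S.winf_ι j.i).symm (S.b_comp j)

theorem leg_mapS {j j' : S.Idx} (h : j ≤ j') : S.leg j' ≫ S.mapS h = S.leg j := by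
  apply pushout.hom_ext
  · rw [leg, leg, mapS, pushout.inl_desc_assoc, Category.assoc, pushout.inl_desc,
      pushout.inl_desc, ← Category.assoc, S.pr_tr]
  · rw [leg, leg, mapS, pushout.inr_desc_assoc, Category.assoc, pushout.inr_desc,
      pushout.inr_desc, ← Category.assoc, ← Spec.map_comp, S.τA_ψ]

/-- the cone over the approximating system -/
def c' : Cone S.D' where
  pt := S.Xg
  π :=
  { app := fun j => S.leg j.unop
    naturality := fun j j' f => by
      simp only [Functor.const_obj_obj, Functor.const_obj_map, Category.id_comp]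
      exact (S.leg_mapS (leOfHom f.unop)).symm }

end StepData

end

end Groth.Agent.Lib.helper9.AbsApprox
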