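/-
Helper library (helper9): absolute Noetherian approximation, part 11.
Descent of sections on compact opens along a cofiltered limit with affine transition maps.
-/
import Mathlib

set_option autoImplicit false
set_option linter.style.haveILetI false
set_option backward.isDefEq.respectTransparency false

namespace Groth.Agent.Lib.helper9.AbsApprox

open AlgebraicGeometry CategoryTheory Limits Opposite

universe u

variable {I : Type u} [Category.{u} I] (D : I ⥤ Scheme.{u}) (c : Cone D) (hc : IsLimit c)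

include hc in
/-- Sections of the limit over the preimage of a compact open come from a finite stage. -/
theorem exists_appLE_π_eq_of_isLimit [IsCofiltered I]
    [∀ {i j} (f : i ⟶ j), IsAffineHom (D.map f)]
    [∀ i, QuasiSeparatedSpace (D.obj i)] {i : I} (U : (D.obj i).Opens)
    (hU : IsCompact (U : Set (D.obj i))) (s : Γ(c.pt, c.π.app i ⁻¹ᵁ U)) :
    ∃ (j : I) (f : j ⟶ i) (t : Γ(D.obj j, D.map f ⁻¹ᵁ U)),
      ((c.π.app j).appLE (D.map f ⁻¹ᵁ U) (c.π.app i ⁻¹ᵁ U)
        (by rw [← Scheme.Hom.comp_preimage, c.w])).hom t = s := by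
  have (j : Over i) : CompactSpace ((opensDiagram D i U).obj j) :=
    isCompact_iff_compactSpace.mp (QuasiCompact.isCompact_preimage _ U.2 hU)
  have (j : Over i) : QuasiSeparatedSpace ((opensDiagram D i U).obj j) :=
    (isQuasiSeparated_iff_quasiSeparatedSpace _ (D.map _ ⁻¹ᵁ _).2).mp (.of_quasiSeparatedSpace _)
  obtain ⟨j, t, ht⟩ := exists_appTop_π_eq_of_isLimit (opensDiagram D i U) (opensCone D c i U)
    (isLimitOpensCone D c hc i U) ((c.π.app i ⁻¹ᵁ U).topIso.inv.hom s)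
  refine ⟨j.left, j.hom, (D.map j.hom ⁻¹ᵁ U).topIso.hom.hom t, ?_⟩
  have h1 : ((opensCone D c i U).π.app j).appTop =
      (D.map j.hom ⁻¹ᵁ U).topIso.hom ≫ (c.π.app j.left).appLE (D.map j.hom ⁻¹ᵁ U)
        (c.π.app i ⁻¹ᵁ U) (by rw [← Scheme.Hom.comp_preimage, c.w]) ≫
        (c.π.app i ⁻¹ᵁ U).topIso.inv :=
    Scheme.Hom.resLE_app_top _ _
  rw [h1] at ht
  apply (ConcreteCategory.bijective_of_isIso (c.π.app i ⁻¹ᵁ U).topIso.inv).1
  exact ht.symm

include hc in
/-- Variant of `exists_appLE_π_eq_of_isLimit` with opens only propositionally equal to the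
preimages. -/
theorem exists_appLE_π_eq_of_isLimit' [IsCofiltered I]
    [∀ {i j} (f : i ⟶ j), IsAffineHom (D.map f)]
    [∀ i, QuasiSeparatedSpace (D.obj i)] {i : I} (U : (D.obj i).Opens)
    (hU : IsCompact (U : Set (D.obj i))) (V : c.pt.Opens) (hV : V = c.π.app i ⁻¹ᵁ U)
    (s : Γ(c.pt, V)) :
    ∃ (j : I) (f : j ⟶ i), ∀ (W : (D.obj j).Opens) (hW : W = D.map f ⁻¹ᵁ U),
      ∃ t : Γ(D.obj j, W), ((c.π.app j).appLE W V
        (by rw [hV, hW, ← Scheme.Hom.comp_preimage, c.w])).hom t = s := by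
  subst hV
  obtain ⟨j, f, t, ht⟩ := exists_appLE_π_eq_of_isLimit D c hc U hU s
  refine ⟨j, f, fun W hW => ?_⟩
  subst hW
  exact ⟨t, ht⟩

theorem app_eq_of_appLE_eq {X Y : Scheme.{u}} (f : X ⟶ Y) (U : Y.Opens) (V : X.Opens)
    (hV : V = f ⁻¹ᵁ U) (s t : Γ(Y, U))
    (h : (f.appLE U V hV.le).hom s = (f.appLE U V hV.le).hom t) :
    (f.app U).hom s = (f.app U).hom t := by
  subst hV
  rw [Scheme.Hom.app_eq_appLE]
  exact h

theorem appLE_eq_of_app_eq {X Y : Scheme.{u}} (f : X ⟶ Y) (U : Y.Opens) (V : X.Opens)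
    (e : V ≤ f ⁻¹ᵁ U) (s t : Γ(Y, U)) (h : (f.app U).hom s = (f.app U).hom t) :
    (f.appLE U V e).hom s = (f.appLE U V e).hom t := by
  rw [Scheme.Hom.appLE, CommRingCat.comp_apply, CommRingCat.comp_apply, h]

include hc in
/-- Sections on a compact open of a stage which agree on the limit agree at a finite stage. -/
theorem exists_appLE_map_eq_of_isLimit [IsCofiltered I]
    [∀ {i j} (f : i ⟶ j), IsAffineHom (D.map f)] {i : I} (U : (D.obj i).Opens)
    (hU : IsCompact (U : Set (D.obj i))) (V : c.pt.Opens) (hV : V = c.π.app i ⁻¹ᵁ U)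
    (s t : Γ(D.obj i, U))
    (h : ((c.π.app i).appLE U V hV.le).hom s = ((c.π.app i).appLE U V hV.le).hom t) :
    ∃ (j : I) (f : j ⟶ i), ∀ (W : (D.obj j).Opens) (hW : W ≤ D.map f ⁻¹ᵁ U),
      ((D.map f).appLE U W hW).hom s = ((D.map f).appLE U W hW).hom t := by
  obtain ⟨j, f, hf⟩ := exists_app_map_eq_map_of_isLimit D c hc hU s t
    (app_eq_of_appLE_eq _ U V hV s t h)
  exact ⟨j, f, fun W hW => appLE_eq_of_app_eq _ U W hW s t hf⟩

end Groth.Agent.Lib.helper9.AbsApprox
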