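/-
Helper library (helper9): absolute Noetherian approximation, part 12.
The ring `Γ(U ∩ V)` is the filtered colimit of the rings `Γ(W i)`.
-/
import Groth.Agent.Lib.Helper9.AbsApprox10
import Groth.Agent.Lib.Helper9.AbsApprox11

set_option autoImplicit false
set_option linter.style.haveILetI false
set_option backward.isDefEq.respectTransparency false

namespace Groth.Agent.Lib.helper9.AbsApprox

open AlgebraicGeometry CategoryTheory Limits Opposite

universe u

noncomputable section

namespace StepData

variable (S : StepData.{u})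

instance (i : S.Iᵒᵖ) : QuasiSeparatedSpace (S.D.obj i) := by
  haveI := (S.ftz i.unop).isNoetherian
  infer_instance

/-- Every function on `U ∩ V` comes from a finite stage. -/
theorem exists_t_eq (x : S.Rinf) : ∃ (i : S.I) (y : S.R i), (S.t i).hom y = x := by
  obtain ⟨i₀⟩ := S.ne
  obtain ⟨j, f, H⟩ := exists_appLE_π_eq_of_isLimit' S.D S.c S.hc (S.W i₀) (S.isCompact_W i₀)
    S.Winf (S.hWinf i₀).symm x
  obtain ⟨t, ht⟩ := H (S.W j.unop) (by
    rw [← S.hW (leOfHom f.unop)]
    rfl)
  exact ⟨j.unop, t, ht⟩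

/-- Functions on `W i` which agree on `U ∩ V` agree at a finite stage. -/
theorem exists_r_eq {i : S.I} (y y' : S.R i) (h : (S.t i).hom y = (S.t i).hom y') :
    ∃ (i' : S.I) (h : i ≤ i'), (S.r h).hom y = (S.r h).hom y' := by
  obtain ⟨j, f, H⟩ := exists_appLE_map_eq_of_isLimit S.D S.c S.hc (S.W i) (S.isCompact_W i)
    S.Winf (S.hWinf i).symm y y' h
  exact ⟨j.unop, leOfHom f.unop, H (S.W j.unop) (S.hW' (leOfHom f.unop)).ge⟩

end StepData

end

end Groth.Agent.Lib.helper9.AbsApprox
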