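/-
Helper library (helper9): absolute Noetherian approximation, part 6.
A cone over a cofiltered diagram of schemes is a limit cone if it is so over an open cover of
one of the schemes of the diagram.
-/
import Mathlib

set_option autoImplicit false
set_option linter.style.haveILetI false
set_option backward.isDefEq.respectTransparency false

namespace Groth.Agent.Lib.helper9.AbsApprox

open AlgebraicGeometry CategoryTheory Limits

universe u

section

variable {I : Type u} [SmallCategory I] [IsCofiltered I] (D : I ⥤ Scheme.{u}) (c : Cone D) (k : I)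
  (𝒰 : (D.obj k).OpenCover)
  (E : 𝒰.I₀ → (Over k ⥤ Scheme.{u})) (α : ∀ a, E a ⟶ Over.forget k ⋙ D)
  (p : ∀ a (j : Over k), (E a).obj j ⟶ 𝒰.X a)
  (hp : ∀ a j, IsPullback ((α a).app j) (p a j) (D.map j.hom) (𝒰.f a))
  (cE : ∀ a, Cone (E a)) (hcE : ∀ a, IsLimit (cE a))
  (β : ∀ a, (cE a).pt ⟶ c.pt) (q : ∀ a, (cE a).pt ⟶ 𝒰.X a)
  (hq : ∀ a, IsPullback (β a) (q a) (c.π.app k) (𝒰.f a))
  (hβ : ∀ a j, β a ≫ c.π.app j.left = (cE a).π.app j ≫ (α a).app j)

include hp hcE hq hβ in
/-- **Limits can be recognized over an open cover of one stage.** -/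
theorem nonempty_isLimit_of_openCover : Nonempty (IsLimit c) := by
  haveI : ∀ a, Mono (𝒰.f a) := fun a => inferInstance
  have hpn : ∀ a {j j' : Over k} (f : j ⟶ j'), (E a).map f ≫ p a j' = p a j := by
    intro a j j' f
    rw [← cancel_mono (𝒰.f a), Category.assoc, ← (hp a j').w, ← (hp a j).w]
    have := (α a).naturality f
    simp only [Functor.comp_obj, Over.forget_obj, Functor.comp_map, Over.forget_map] at this
    rw [reassoc_of% this, ← D.map_comp, Over.w f]
  have hqp : ∀ a j, (cE a).π.app j ≫ p a j = q a := by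
    intro a j
    rw [← cancel_mono (𝒰.f a), Category.assoc, ← (hp a j).w, ← (hq a).w, ← reassoc_of% hβ a j,
      c.w]
  refine ⟨?_⟩
  -- the data attached to a test cone
  have key : ∀ s : Cone D, ∃ m : s.pt ⟶ c.pt, (∀ i, m ≫ c.π.app i = s.π.app i) ∧
      ∀ m' : s.pt ⟶ c.pt, (∀ i, m' ≫ c.π.app i = s.π.app i) → m' = m := by
    intro s
    let 𝒱 : s.pt.OpenCover := 𝒰.pullback₁ (s.π.app k)
    have h𝒱f : ∀ a, 𝒱.f a = pullback.fst (s.π.app k) (𝒰.f a) := fun a => rfl
    -- the cone over `E a` with vertex `T_a`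
    have hlcond : ∀ a (j : Over k), (pullback.fst (s.π.app k) (𝒰.f a) ≫ s.π.app j.left) ≫
        D.map j.hom = pullback.snd (s.π.app k) (𝒰.f a) ≫ 𝒰.f a := by
      intro a j
      rw [Category.assoc, s.w, pullback.condition]
    let l : ∀ a (j : Over k), pullback (s.π.app k) (𝒰.f a) ⟶ (E a).obj j := fun a j =>
      (hp a j).lift (pullback.fst (s.π.app k) (𝒰.f a) ≫ s.π.app j.left)
        (pullback.snd (s.π.app k) (𝒰.f a)) (hlcond a j)
    have hl1 : ∀ a j, l a j ≫ (α a).app j = pullback.fst (s.π.app k) (𝒰.f a) ≫ s.π.app j.left :=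
      fun a j => (hp a j).lift_fst _ _ _
    have hl2 : ∀ a j, l a j ≫ p a j = pullback.snd (s.π.app k) (𝒰.f a) :=
      fun a j => (hp a j).lift_snd _ _ _
    let sE : ∀ a, Cone (E a) := fun a =>
      { pt := pullback (s.π.app k) (𝒰.f a)
        π :=
        { app := fun j => l a j
          naturality := fun j j' f => by
            apply (hp a j').hom_ext
            · have := (α a).naturality f
              simp only [Functor.comp_obj, Over.forget_obj, Functor.comp_map,
                Over.forget_map] at this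
              simp only [Functor.const_obj_obj, Functor.const_obj_map, Category.id_comp,
                Category.assoc]
              rw [this, reassoc_of% hl1 a j, hl1 a j', s.w]
            · simp only [Functor.const_obj_obj, Functor.const_obj_map, Category.id_comp,
                Category.assoc]
              rw [hpn a f, hl2, hl2] } }
    let mE : ∀ a, pullback (s.π.app k) (𝒰.f a) ⟶ (cE a).pt := fun a => (hcE a).lift (sE a)
    have hmE : ∀ a j, mE a ≫ (cE a).π.app j = l a j := fun a j => (hcE a).fac (sE a) j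
    let n : ∀ a, 𝒱.X a ⟶ c.pt := fun a => mE a ≫ β a
    have hn : ∀ a (j : Over k), n a ≫ c.π.app j.left =
        pullback.fst (s.π.app k) (𝒰.f a) ≫ s.π.app j.left := by
      intro a j
      show (mE a ≫ β a) ≫ c.π.app j.left = _
      rw [Category.assoc, hβ, reassoc_of% hmE a j, hl1]
    have hn' : ∀ a (j : Over k), mE a ≫ β a ≫ c.π.app j.left =
        pullback.fst (s.π.app k) (𝒰.f a) ≫ s.π.app j.left := by
      intro a j
      rw [hβ, reassoc_of% hmE a j, hl1]
    have hnq : ∀ a, mE a ≫ q a = pullback.snd (s.π.app k) (𝒰.f a) := by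
      intro a
      rw [← hqp a (Over.mk (𝟙 k)), reassoc_of% hmE a, hl2]
    -- compatibility on overlaps
    have hcompat : ∀ a b, pullback.fst (𝒱.f a) (𝒱.f b) ≫ n a = pullback.snd (𝒱.f a) (𝒱.f b) ≫ n b := by
      intro a b
      have hQ : pullback.fst (𝒱.f a) (𝒱.f b) ≫ pullback.fst (s.π.app k) (𝒰.f a) =
          pullback.snd (𝒱.f a) (𝒱.f b) ≫ pullback.fst (s.π.app k) (𝒰.f b) := pullback.condition
      have hc2 : (pullback.snd (𝒱.f a) (𝒱.f b) ≫ n b) ≫ c.π.app k =
          (pullback.fst (𝒱.f a) (𝒱.f b) ≫ pullback.snd (s.π.app k) (𝒰.f a)) ≫ 𝒰.f a := by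
        have := hn b (Over.mk (𝟙 k))
        simp only [Over.mk_left] at this
        rw [Category.assoc, this, ← reassoc_of% hQ, Category.assoc, pullback.condition]
      let φ₂ : pullback (𝒱.f a) (𝒱.f b) ⟶ (cE a).pt :=
        (hq a).lift (pullback.snd (𝒱.f a) (𝒱.f b) ≫ n b)
          (pullback.fst (𝒱.f a) (𝒱.f b) ≫ pullback.snd (s.π.app k) (𝒰.f a)) hc2
      have hφ₂1 : φ₂ ≫ β a = pullback.snd (𝒱.f a) (𝒱.f b) ≫ n b := (hq a).lift_fst _ _ _
      have hφ₂2 : φ₂ ≫ q a = pullback.fst (𝒱.f a) (𝒱.f b) ≫ pullback.snd (s.π.app k) (𝒰.f a) :=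
        (hq a).lift_snd _ _ _
      have hφ : pullback.fst (𝒱.f a) (𝒱.f b) ≫ mE a = φ₂ := by
        apply (hcE a).hom_ext
        intro j
        apply (hp a j).hom_ext
        · simp only [Category.assoc]
          rw [← hβ a j, reassoc_of% hφ₂1, hn b j, hn' a j, reassoc_of% hQ]
        · simp only [Category.assoc]
          rw [hqp, hφ₂2, hnq]
      show pullback.fst (𝒱.f a) (𝒱.f b) ≫ mE a ≫ β a = _
      rw [reassoc_of% hφ, hφ₂1]
    let m : s.pt ⟶ c.pt := 𝒱.glueMorphisms n hcompat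
    have hm : ∀ a, 𝒱.f a ≫ m = n a := fun a => 𝒱.ι_glueMorphisms n hcompat a
    have hfac : ∀ i, m ≫ c.π.app i = s.π.app i := by
      intro i
      refine 𝒱.hom_ext _ _ fun a => ?_
      rw [reassoc_of% hm a]
      let i' := IsCofiltered.min i k
      let f₁ : i' ⟶ i := IsCofiltered.minToLeft i k
      let f₂ : i' ⟶ k := IsCofiltered.minToRight i k
      have := hn a (Over.mk f₂)
      simp only [Over.mk_left] at this
      rw [← c.w f₁, ← s.w f₁, reassoc_of% this]
      rfl
    refine ⟨m, hfac, fun m' hm' => ?_⟩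
    refine 𝒱.hom_ext _ _ fun a => ?_
    rw [hm a]
    have hc3 : (𝒱.f a ≫ m') ≫ c.π.app k = pullback.snd (s.π.app k) (𝒰.f a) ≫ 𝒰.f a := by
      rw [Category.assoc, hm' k]
      exact pullback.condition
    let ψ : 𝒱.X a ⟶ (cE a).pt := (hq a).lift (𝒱.f a ≫ m') (pullback.snd (s.π.app k) (𝒰.f a)) hc3
    have hψ1 : ψ ≫ β a = 𝒱.f a ≫ m' := (hq a).lift_fst _ _ _
    have hψ2 : ψ ≫ q a = pullback.snd (s.π.app k) (𝒰.f a) := (hq a).lift_snd _ _ _
    have hψ : ψ = mE a := by
      apply (hcE a).hom_ext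
      intro j
      apply (hp a j).hom_ext
      · simp only [Category.assoc]
        rw [← hβ a j, reassoc_of% hψ1, hm' j.left, hn' a j]
        rfl
      · simp only [Category.assoc]
        rw [hqp, hψ2, hnq]
    rw [← hψ1, hψ]
  exact
    { lift := fun s => (key s).choose
      fac := fun s i => (key s).choose_spec.1 i
      uniq := fun s m' hm' => (key s).choose_spec.2 m' hm' }

end

section

variable {I : Type u} [SmallCategory I] (D : I ⥤ Scheme.{u}) (c : Cone D) (k : I)
  (hk : IsTerminal k)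
  (𝒰 : (D.obj k).OpenCover)
  (E : 𝒰.I₀ → (I ⥤ Scheme.{u})) (α : ∀ a, E a ⟶ D)
  (p : ∀ a (j : I), (E a).obj j ⟶ 𝒰.X a)
  (hp : ∀ a j, IsPullback ((α a).app j) (p a j) (D.map (hk.from j)) (𝒰.f a))
  (cE : ∀ a, Cone (E a)) (hcE : ∀ a, IsLimit (cE a))
  (β : ∀ a, (cE a).pt ⟶ c.pt) (q : ∀ a, (cE a).pt ⟶ 𝒰.X a)
  (hq : ∀ a, IsPullback (β a) (q a) (c.π.app k) (𝒰.f a))
  (hβ : ∀ a j, β a ≫ c.π.app j = (cE a).π.app j ≫ (α a).app j)

include hp hcE hq hβ in
/-- **Limits can be recognized over an open cover of the terminal stage.** -/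
theorem nonempty_isLimit_of_openCover_of_isTerminal : Nonempty (IsLimit c) := by
  haveI : ∀ a, Mono (𝒰.f a) := fun a => inferInstance
  have hpn : ∀ a {j j' : I} (f : j ⟶ j'), (E a).map f ≫ p a j' = p a j := by
    intro a j j' f
    rw [← cancel_mono (𝒰.f a), Category.assoc, ← (hp a j').w, ← (hp a j).w]
    have := (α a).naturality f
    rw [reassoc_of% this, ← D.map_comp, hk.hom_ext (f ≫ hk.from j') (hk.from j)]
  have hqp : ∀ a j, (cE a).π.app j ≫ p a j = q a := by
    intro a j
    rw [← cancel_mono (𝒰.f a), Category.assoc, ← (hp a j).w, ← (hq a).w, ← reassoc_of% hβ a j,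
      c.w]
  refine ⟨?_⟩
  -- the data attached to a test cone
  have key : ∀ s : Cone D, ∃ m : s.pt ⟶ c.pt, (∀ i, m ≫ c.π.app i = s.π.app i) ∧
      ∀ m' : s.pt ⟶ c.pt, (∀ i, m' ≫ c.π.app i = s.π.app i) → m' = m := by
    intro s
    let 𝒱 : s.pt.OpenCover := 𝒰.pullback₁ (s.π.app k)
    have h𝒱f : ∀ a, 𝒱.f a = pullback.fst (s.π.app k) (𝒰.f a) := fun a => rfl
    -- the cone over `E a` with vertex `T_a`
    have hlcond : ∀ a (j : I), (pullback.fst (s.π.app k) (𝒰.f a) ≫ s.π.app j) ≫
        D.map (hk.from j) = pullback.snd (s.π.app k) (𝒰.f a) ≫ 𝒰.f a := by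
      intro a j
      rw [Category.assoc, s.w, pullback.condition]
    let l : ∀ a (j : I), pullback (s.π.app k) (𝒰.f a) ⟶ (E a).obj j := fun a j =>
      (hp a j).lift (pullback.fst (s.π.app k) (𝒰.f a) ≫ s.π.app j)
        (pullback.snd (s.π.app k) (𝒰.f a)) (hlcond a j)
    have hl1 : ∀ a j, l a j ≫ (α a).app j = pullback.fst (s.π.app k) (𝒰.f a) ≫ s.π.app j :=
      fun a j => (hp a j).lift_fst _ _ _
    have hl2 : ∀ a j, l a j ≫ p a j = pullback.snd (s.π.app k) (𝒰.f a) :=
      fun a j => (hp a j).lift_snd _ _ _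
    let sE : ∀ a, Cone (E a) := fun a =>
      { pt := pullback (s.π.app k) (𝒰.f a)
        π :=
        { app := fun j => l a j
          naturality := fun j j' f => by
            apply (hp a j').hom_ext
            · have := (α a).naturality f
              simp only [Functor.const_obj_obj, Functor.const_obj_map, Category.id_comp,
                Category.assoc]
              rw [this, reassoc_of% hl1 a j, hl1 a j', s.w]
            · simp only [Functor.const_obj_obj, Functor.const_obj_map, Category.id_comp,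
                Category.assoc]
              rw [hpn a f, hl2, hl2] } }
    let mE : ∀ a, pullback (s.π.app k) (𝒰.f a) ⟶ (cE a).pt := fun a => (hcE a).lift (sE a)
    have hmE : ∀ a j, mE a ≫ (cE a).π.app j = l a j := fun a j => (hcE a).fac (sE a) j
    let n : ∀ a, 𝒱.X a ⟶ c.pt := fun a => mE a ≫ β a
    have hn : ∀ a (j : I), n a ≫ c.π.app j =
        pullback.fst (s.π.app k) (𝒰.f a) ≫ s.π.app j := by
      intro a j
      show (mE a ≫ β a) ≫ c.π.app j = _
      rw [Category.assoc, hβ, reassoc_of% hmE a j, hl1]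
    have hn' : ∀ a (j : I), mE a ≫ β a ≫ c.π.app j =
        pullback.fst (s.π.app k) (𝒰.f a) ≫ s.π.app j := by
      intro a j
      rw [hβ, reassoc_of% hmE a j, hl1]
    have hnq : ∀ a, mE a ≫ q a = pullback.snd (s.π.app k) (𝒰.f a) := by
      intro a
      rw [← hqp a k, reassoc_of% hmE a, hl2]
    -- compatibility on overlaps
    have hcompat : ∀ a b, pullback.fst (𝒱.f a) (𝒱.f b) ≫ n a = pullback.snd (𝒱.f a) (𝒱.f b) ≫ n b := by
      intro a b
      have hQ : pullback.fst (𝒱.f a) (𝒱.f b) ≫ pullback.fst (s.π.app k) (𝒰.f a) =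
          pullback.snd (𝒱.f a) (𝒱.f b) ≫ pullback.fst (s.π.app k) (𝒰.f b) := pullback.condition
      have hc2 : (pullback.snd (𝒱.f a) (𝒱.f b) ≫ n b) ≫ c.π.app k =
          (pullback.fst (𝒱.f a) (𝒱.f b) ≫ pullback.snd (s.π.app k) (𝒰.f a)) ≫ 𝒰.f a := by
        have := hn b k
        rw [Category.assoc, this, ← reassoc_of% hQ, Category.assoc, pullback.condition]
      let φ₂ : pullback (𝒱.f a) (𝒱.f b) ⟶ (cE a).pt :=
        (hq a).lift (pullback.snd (𝒱.f a) (𝒱.f b) ≫ n b)
          (pullback.fst (𝒱.f a) (𝒱.f b) ≫ pullback.snd (s.π.app k) (𝒰.f a)) hc2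
      have hφ₂1 : φ₂ ≫ β a = pullback.snd (𝒱.f a) (𝒱.f b) ≫ n b := (hq a).lift_fst _ _ _
      have hφ₂2 : φ₂ ≫ q a = pullback.fst (𝒱.f a) (𝒱.f b) ≫ pullback.snd (s.π.app k) (𝒰.f a) :=
        (hq a).lift_snd _ _ _
      have hφ : pullback.fst (𝒱.f a) (𝒱.f b) ≫ mE a = φ₂ := by
        apply (hcE a).hom_ext
        intro j
        apply (hp a j).hom_ext
        · simp only [Category.assoc]
          rw [← hβ a j, reassoc_of% hφ₂1, hn b j, hn' a j, reassoc_of% hQ]
        · simp only [Category.assoc]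
          rw [hqp, hφ₂2, hnq]
      show pullback.fst (𝒱.f a) (𝒱.f b) ≫ mE a ≫ β a = _
      rw [reassoc_of% hφ, hφ₂1]
    let m : s.pt ⟶ c.pt := 𝒱.glueMorphisms n hcompat
    have hm : ∀ a, 𝒱.f a ≫ m = n a := fun a => 𝒱.ι_glueMorphisms n hcompat a
    have hfac : ∀ i, m ≫ c.π.app i = s.π.app i := by
      intro i
      refine 𝒱.hom_ext _ _ fun a => ?_
      rw [reassoc_of% hm a, hn a i]
      rfl
    refine ⟨m, hfac, fun m' hm' => ?_⟩
    refine 𝒱.hom_ext _ _ fun a => ?_
    rw [hm a]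
    have hc3 : (𝒱.f a ≫ m') ≫ c.π.app k = pullback.snd (s.π.app k) (𝒰.f a) ≫ 𝒰.f a := by
      rw [Category.assoc, hm' k]
      exact pullback.condition
    let ψ : 𝒱.X a ⟶ (cE a).pt := (hq a).lift (𝒱.f a ≫ m') (pullback.snd (s.π.app k) (𝒰.f a)) hc3
    have hψ1 : ψ ≫ β a = 𝒱.f a ≫ m' := (hq a).lift_fst _ _ _
    have hψ2 : ψ ≫ q a = pullback.snd (s.π.app k) (𝒰.f a) := (hq a).lift_snd _ _ _
    have hψ : ψ = mE a := by
      apply (hcE a).hom_ext
      intro j
      apply (hp a j).hom_ext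
      · simp only [Category.assoc]
        rw [← hβ a j, reassoc_of% hψ1, hm' j, hn' a j]
        rfl
      · simp only [Category.assoc]
        rw [hqp, hψ2, hnq]
    rw [← hψ1, hψ]
  exact
    { lift := fun s => (key s).choose
      fac := fun s i => (key s).choose_spec.1 i
      uniq := fun s m' hm' => (key s).choose_spec.2 m' hm' }

end


end Groth.Agent.Lib.helper9.AbsApprox
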