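/-
Helper library (helper9): absolute Noetherian approximation, part 13.
Recognizing limits over a cover of the terminal stage by two opens.
-/
import Groth.Agent.Lib.Helper9.AbsApprox6

set_option autoImplicit false
set_option linter.style.haveILetI false
set_option backward.isDefEq.respectTransparency false

namespace Groth.Agent.Lib.helper9.AbsApprox

open AlgebraicGeometry CategoryTheory Limits Opposite

universe u

/-- **Limits can be recognized over a cover of the terminal stage by two opens.** -/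
theorem nonempty_isLimit_of_two_opens {I : Type u} [SmallCategory I] (D : I ⥤ Scheme.{u})
    (c : Cone D) (k : I) (hk : IsTerminal k)
    {U₁ U₂ : Scheme.{u}} (i₁ : U₁ ⟶ D.obj k) (i₂ : U₂ ⟶ D.obj k)
    [IsOpenImmersion i₁] [IsOpenImmersion i₂]
    (hcov : ∀ x : D.obj k, (∃ y, i₁ y = x) ∨ (∃ y, i₂ y = x))
    (E₁ E₂ : I ⥤ Scheme.{u}) (α₁ : E₁ ⟶ D) (α₂ : E₂ ⟶ D)
    (p₁ : ∀ j, E₁.obj j ⟶ U₁) (p₂ : ∀ j, E₂.obj j ⟶ U₂)
    (hp₁ : ∀ j, IsPullback (α₁.app j) (p₁ j) (D.map (hk.from j)) i₁)
    (hp₂ : ∀ j, IsPullback (α₂.app j) (p₂ j) (D.map (hk.from j)) i₂)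
    (cE₁ : Cone E₁) (cE₂ : Cone E₂) (hcE₁ : IsLimit cE₁) (hcE₂ : IsLimit cE₂)
    (β₁ : cE₁.pt ⟶ c.pt) (β₂ : cE₂.pt ⟶ c.pt) (q₁ : cE₁.pt ⟶ U₁) (q₂ : cE₂.pt ⟶ U₂)
    (hq₁ : IsPullback β₁ q₁ (c.π.app k) i₁) (hq₂ : IsPullback β₂ q₂ (c.π.app k) i₂)
    (hβ₁ : ∀ j, β₁ ≫ c.π.app j = cE₁.π.app j ≫ α₁.app j)
    (hβ₂ : ∀ j, β₂ ≫ c.π.app j = cE₂.π.app j ≫ α₂.app j) : Nonempty (IsLimit c) := by
  let 𝒰 : (D.obj k).OpenCover := Scheme.Cover.mkOfCovers Bool
    (fun b => match b with | true => U₁ | false => U₂)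
    (fun b => match b with | true => i₁ | false => i₂)
    (fun x => by
      rcases hcov x with ⟨y, hy⟩ | ⟨y, hy⟩
      · exact ⟨true, y, hy⟩
      · exact ⟨false, y, hy⟩)
    (fun b => by
      cases b
      · exact inferInstanceAs (IsOpenImmersion i₂)
      · exact inferInstanceAs (IsOpenImmersion i₁))
  exact nonempty_isLimit_of_openCover_of_isTerminal D c k hk 𝒰
    (fun b => match b with | true => E₁ | false => E₂)
    (fun b => match b with | true => α₁ | false => α₂)
    (fun b => match b with | true => p₁ | false => p₂)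
    (fun b => match b with | true => hp₁ | false => hp₂)
    (fun b => match b with | true => cE₁ | false => cE₂)
    (fun b => match b with | true => hcE₁ | false => hcE₂)
    (fun b => match b with | true => β₁ | false => β₂)
    (fun b => match b with | true => q₁ | false => q₂)
    (fun b => match b with | true => hq₁ | false => hq₂)
    (fun b => match b with | true => hβ₁ | false => hβ₂)

end Groth.Agent.Lib.helper9.AbsApprox
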