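/-
Helper library (helper9): absolute Noetherian approximation, part 14.
The cone over the approximating system is a limit cone.
-/
import Groth.Agent.Lib.Helper9.AbsApprox12
import Groth.Agent.Lib.Helper9.AbsApprox13

set_option autoImplicit false
set_option linter.style.haveILetI false
set_option backward.isDefEq.respectTransparency false

namespace Groth.Agent.Lib.helper9.AbsApprox

open AlgebraicGeometry CategoryTheory Limits Opposite

universe u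

noncomputable section

namespace StepData

variable (S : StepData.{u}) (j₀ : S.Idx)

/-- the indices above `j₀` -/
abbrev K : Type u := {j : S.Idx // j₀ ≤ j}

instance : IsDirected (S.K j₀) (· ≤ ·) := ⟨fun a b => by
  obtain ⟨c, hac, hbc⟩ := exists_ge_ge a.1 b.1
  exact ⟨⟨c, a.2.trans hac⟩, hac, hbc⟩⟩

instance : Nonempty (S.K j₀) := ⟨⟨j₀, le_rfl⟩⟩

/-- the inclusion of the indices above `j₀` -/
def incl : S.K j₀ ⥤ S.Idx := Monotone.functor (f := fun j : S.K j₀ => j.1) (fun _ _ h => h)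

/-- the stage of an index above `j₀` -/
def FI : S.K j₀ ⥤ S.I :=
  Monotone.functor (f := fun j : S.K j₀ => j.1.i) (fun a b h => (show a.1 ≤ b.1 from h).fst)

instance : (S.incl j₀).Final := by
  apply Functor.final_of_exists_of_isFiltered
  · intro j
    obtain ⟨c, hac, hbc⟩ := exists_ge_ge j j₀
    exact ⟨⟨c, hbc⟩, ⟨homOfLE hac⟩⟩
  · intro i j s s'
    exact ⟨j, 𝟙 j, Subsingleton.elim _ _⟩

instance : (S.FI j₀).Final := by
  apply Functor.final_of_exists_of_isFiltered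
  · intro i
    obtain ⟨j', h1, h2⟩ := S.exists_idx_ge j₀ i
    exact ⟨⟨j', h1⟩, ⟨homOfLE h2⟩⟩
  · intro i j s s'
    exact ⟨j, 𝟙 j, Subsingleton.elim _ _⟩

/-- the approximating system restricted to the indices above `j₀` -/
def DK : (S.K j₀)ᵒᵖ ⥤ Scheme.{u} := (S.incl j₀).op ⋙ S.D'

/-- the restricted cone -/
def cK : Cone (S.DK j₀) := S.c'.whisker (S.incl j₀).op

/-- the terminal object -/
def k₀ : (S.K j₀)ᵒᵖ := op ⟨j₀, le_rfl⟩

/-- the terminal object is terminal -/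
def hk₀ : IsTerminal (S.k₀ j₀) :=
  IsTerminal.ofUniqueHom (fun j => (homOfLE (show (⟨j₀, le_rfl⟩ : S.K j₀) ≤ j.unop from j.unop.2)).op)
    (fun _ _ => Subsingleton.elim _ _)

theorem DK_map {j j' : (S.K j₀)ᵒᵖ} (f : j ⟶ j') :
    (S.DK j₀).map f = S.mapS (show j'.unop.1 ≤ j.unop.1 from leOfHom f.unop) := rfl

theorem cK_π (j : (S.K j₀)ᵒᵖ) : (S.cK j₀).π.app j = S.leg j.unop.1 := rfl

/-! ### The first chart -/

/-- the first chart of the system -/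
def E₁ : (S.K j₀)ᵒᵖ ⥤ Scheme.{u} := (S.FI j₀).op ⋙ S.D

theorem E₁_map {j j' : (S.K j₀)ᵒᵖ} (f : j ⟶ j') :
    (S.E₁ j₀).map f = S.tr (show j'.unop.1 ≤ j.unop.1 from leOfHom f.unop).fst := rfl

/-- the inclusion of the first chart -/
def α₁ : S.E₁ j₀ ⟶ S.DK j₀ where
  app j := pushout.inl (S.W j.unop.1.i).ι (S.g j.unop.1)
  naturality j j' f := by
    rw [E₁_map, DK_map, mapS, pushout.inl_desc]

/-- the cone over the first chart -/
def cE₁ : Cone (S.E₁ j₀) := S.c.whisker (S.FI j₀).op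

/-- the cone over the first chart is a limit cone -/
def hcE₁ : IsLimit (S.cE₁ j₀) := (Functor.Initial.isLimitWhiskerEquiv (S.FI j₀).op S.c).symm S.hc

theorem hp₁ (j : (S.K j₀)ᵒᵖ) :
    IsPullback ((S.α₁ j₀).app j) (S.tr (show j₀ ≤ j.unop.1 from j.unop.2).fst)
      ((S.DK j₀).map ((S.hk₀ j₀).from j)) (pushout.inl (S.W j₀.i).ι (S.g j₀)) :=
  isPullback_inl_map (S.W j₀.i).ι (S.g j₀) (S.W j.unop.1.i).ι (S.g j.unop.1) _ _ _
    (S.w_ι (show j₀ ≤ j.unop.1 from j.unop.2).fst).symm (S.g_comp j.unop.2)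
    (S.isPullback_g j.unop.2)

theorem hq₁ : IsPullback (pushout.inl S.Winf.ι S.b) (S.pr j₀.i) ((S.cK j₀).π.app (S.k₀ j₀))
    (pushout.inl (S.W j₀.i).ι (S.g j₀)) :=
  isPullback_inl_map (S.W j₀.i).ι (S.g j₀) S.Winf.ι S.b _ _ _ (S.winf_ι j₀.i).symm (S.b_comp j₀)
    (S.isPullback_b j₀)

theorem hβ₁ (j : (S.K j₀)ᵒᵖ) :
    pushout.inl S.Winf.ι S.b ≫ (S.cK j₀).π.app j = (S.cE₁ j₀).π.app j ≫ (S.α₁ j₀).app j := by
  rw [cK_π, leg, pushout.inl_desc]
  rfl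

/-! ### The second chart -/

/-- the diagram of the subrings -/
def FA : S.K j₀ ⥤ CommRingCat.{u} where
  obj j := CommRingCat.of j.1.A
  map {j j'} f := S.τA (show j.1 ≤ j'.1 from leOfHom f)
  map_id j := S.τA_refl j.1
  map_comp _ _ := (S.τA_trans _ _).symm

/-- the cocone over the diagram of the subrings with vertex `Γ(V)` -/
def cocA : Cocone (S.FA j₀) where
  pt := S.B
  ι :=
  { app := fun j => S.ψ j.1
    naturality := fun j j' f => by
      simp only [Functor.const_obj_obj, Functor.const_obj_map, Category.comp_id]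
      exact S.τA_ψ (show j.1 ≤ j'.1 from leOfHom f) }

theorem τ_τ_eq {i i' i'' : S.I} (h : i ≤ i') (h' : i' ≤ i'') (h'' : i ≤ i'') (x : S.P i) :
    S.τ h' (S.τ h x) = S.τ h'' x := S.τ_trans h h' x

/-- the ring `Γ(V)` is the colimit of the subrings -/
def isColimitCocA : IsColimit (S.cocA j₀) := by
  haveI : ReflectsColimit (S.FA j₀) (forget CommRingCat) :=
    reflectsColimit_of_reflectsIsomorphisms _ _
  refine isColimitOfReflects (forget CommRingCat) ?_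
  refine Types.FilteredColimit.isColimitOf' _ _ ?_ ?_
  · intro x
    let b : S.B := x
    obtain ⟨i, y, hy⟩ := S.exists_t_eq (S.ρ.hom b)
    obtain ⟨j', h1, h2⟩ := S.exists_idx_ge j₀ i
    let z : S.P i := prMk S.ρ.hom (S.t i).hom b y hy.symm
    obtain ⟨j'', h3, h4⟩ := S.exists_idx_mem j' (S.τ h2 z)
    exact ⟨⟨j'', h1.trans h3⟩, ⟨_, h4⟩, rfl⟩
  · intro j a a' h
    let a₁ : j.1.A := a
    let a₂ : j.1.A := a'
    have h' : prFst S.ρ.hom (S.t j.1.i).hom a₁.1 = prFst S.ρ.hom (S.t j.1.i).hom a₂.1 := h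
    have h2 : (S.t j.1.i).hom (prSnd S.ρ.hom (S.t j.1.i).hom a₁.1) =
        (S.t j.1.i).hom (prSnd S.ρ.hom (S.t j.1.i).hom a₂.1) := by
      rw [← pr_comm, ← pr_comm, h']
    obtain ⟨i', hi', hr⟩ := S.exists_r_eq _ _ h2
    obtain ⟨j', h3, h4⟩ := S.exists_idx_ge j.1 i'
    refine ⟨⟨j', j.2.trans h3⟩, homOfLE h3, ?_⟩
    show (S.τA h3).hom a₁ = (S.τA h3).hom a₂
    apply Subtype.ext
    rw [τA_val, τA_val, ← S.τ_τ_eq hi' h4 h3.fst, ← S.τ_τ_eq hi' h4 h3.fst]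
    congr 1
    apply pr_ext
    · exact h'
    · rw [prSnd_τ, prSnd_τ]
      exact hr

/-- the second chart of the system -/
def E₂ : (S.K j₀)ᵒᵖ ⥤ Scheme.{u} := (S.FA j₀).op ⋙ Scheme.Spec

theorem E₂_map {j j' : (S.K j₀)ᵒᵖ} (f : j ⟶ j') :
    (S.E₂ j₀).map f = Spec.map (S.τA (show j'.unop.1 ≤ j.unop.1 from leOfHom f.unop)) := rfl

/-- the inclusion of the second chart -/
def α₂ : S.E₂ j₀ ⟶ S.DK j₀ where
  app j := pushout.inr (S.W j.unop.1.i).ι (S.g j.unop.1)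
  naturality j j' f := by
    rw [E₂_map, DK_map, mapS, pushout.inr_desc]

/-- the cone over the second chart -/
def cE₂ : Cone (S.E₂ j₀) := Scheme.Spec.mapCone (S.cocA j₀).op

/-- the cone over the second chart is a limit cone -/
def hcE₂ : IsLimit (S.cE₂ j₀) := isLimitOfPreserves Scheme.Spec (S.isColimitCocA j₀).op

theorem hp₂ (j : (S.K j₀)ᵒᵖ) :
    IsPullback ((S.α₂ j₀).app j) (Spec.map (S.τA (show j₀ ≤ j.unop.1 from j.unop.2)))
      ((S.DK j₀).map ((S.hk₀ j₀).from j)) (pushout.inr (S.W j₀.i).ι (S.g j₀)) :=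
  isPullback_inr_map (S.W j₀.i).ι (S.g j₀) (S.W j.unop.1.i).ι (S.g j.unop.1) _ _ _
    (S.w_ι (show j₀ ≤ j.unop.1 from j.unop.2).fst).symm (S.g_comp j.unop.2)
    (S.isPullback_w _)

theorem hq₂ : IsPullback (pushout.inr S.Winf.ι S.b) (Spec.map (S.ψ j₀))
    ((S.cK j₀).π.app (S.k₀ j₀)) (pushout.inr (S.W j₀.i).ι (S.g j₀)) :=
  isPullback_inr_map (S.W j₀.i).ι (S.g j₀) S.Winf.ι S.b _ _ _ (S.winf_ι j₀.i).symm (S.b_comp j₀)
    (S.isPullback_winf j₀.i)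

theorem hβ₂ (j : (S.K j₀)ᵒᵖ) :
    pushout.inr S.Winf.ι S.b ≫ (S.cK j₀).π.app j = (S.cE₂ j₀).π.app j ≫ (S.α₂ j₀).app j := by
  rw [cK_π, leg, pushout.inr_desc]
  rfl

/-! ### The limit -/

theorem nonempty_isLimit_cK : Nonempty (IsLimit (S.cK j₀)) :=
  nonempty_isLimit_of_two_opens (S.DK j₀) (S.cK j₀) (S.k₀ j₀) (S.hk₀ j₀)
    (pushout.inl (S.W j₀.i).ι (S.g j₀)) (pushout.inr (S.W j₀.i).ι (S.g j₀))
    (exists_inl_or_inr _ _) (S.E₁ j₀) (S.E₂ j₀) (S.α₁ j₀) (S.α₂ j₀) _ _ (S.hp₁ j₀) (S.hp₂ j₀)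
    (S.cE₁ j₀) (S.cE₂ j₀) (S.hcE₁ j₀) (S.hcE₂ j₀) _ _ _ _ (S.hq₁ j₀) (S.hq₂ j₀) (S.hβ₁ j₀) (S.hβ₂ j₀)

theorem nonempty_isLimit_c' : Nonempty (IsLimit S.c') := by
  obtain ⟨j₀⟩ := (inferInstance : Nonempty S.Idx)
  obtain ⟨h⟩ := S.nonempty_isLimit_cK j₀
  exact ⟨Functor.Initial.isLimitWhiskerEquiv (S.incl j₀).op S.c' h⟩

end StepData

end

end Groth.Agent.Lib.helper9.AbsApprox
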