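/-
Helper library (helper9): absolute Noetherian approximation, part 15.
Approximations of a scheme by schemes of finite type over `ℤ`: the structure and
the descent of opens and sections to a finite stage.
-/
import Groth.Agent.Lib.Helper9.AbsApprox7
import Groth.Agent.Lib.Helper9.AbsApprox11

set_option autoImplicit false
set_option linter.style.haveILetI false
set_option backward.isDefEq.respectTransparency false

namespace Groth.Agent.Lib.helper9.AbsApprox

open AlgebraicGeometry CategoryTheory Limits Opposite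

universe u

/-- A directed inverse system of quasi-compact schemes locally of finite type over `ℤ` with
affine transition maps, and a limit cone over it. -/
structure Sys where
  /-- the index set -/
  I : Type u
  [pre : Preorder I]
  [dir : IsDirected I (· ≤ ·)]
  [ne : Nonempty I]
  /-- the system -/
  D : Iᵒᵖ ⥤ Scheme.{u}
  /-- the cone -/
  c : Cone D
  hc : IsLimit c
  aff : ∀ {i j : Iᵒᵖ} (f : i ⟶ j), IsAffineHom (D.map f)
  ftz : ∀ i : I, IsFTZ (D.obj (op i))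

namespace Sys

variable (T : Sys.{u})

instance : Preorder T.I := T.pre
instance : IsDirected T.I (· ≤ ·) := T.dir
instance : Nonempty T.I := T.ne
instance {i j : T.Iᵒᵖ} (f : i ⟶ j) : IsAffineHom (T.D.map f) := T.aff f

/-- the schemes of the system -/
abbrev X (i : T.I) : Scheme.{u} := T.D.obj (op i)

/-- the transition maps -/
def tr {i i' : T.I} (h : i ≤ i') : T.X i' ⟶ T.X i := T.D.map (homOfLE h).op

/-- the projections -/
abbrev pr (i : T.I) : T.c.pt ⟶ T.X i := T.c.π.app (op i)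

instance {i i' : T.I} (h : i ≤ i') : IsAffineHom (T.tr h) := T.aff _

theorem tr_refl (i : T.I) : T.tr (le_refl i) = 𝟙 _ := by
  have : (homOfLE (le_refl i)).op = 𝟙 (op i) := rfl
  rw [tr, this, T.D.map_id]

theorem tr_trans {i i' i'' : T.I} (h : i ≤ i') (h' : i' ≤ i'') :
    T.tr h' ≫ T.tr h = T.tr (h.trans h') := by
  rw [tr, tr, tr, ← T.D.map_comp]
  rfl

theorem pr_tr {i i' : T.I} (h : i ≤ i') : T.pr i' ≫ T.tr h = T.pr i :=
  T.c.w (homOfLE h).op

theorem map_eq_tr {j : T.Iᵒᵖ} {i : T.I} (f : j ⟶ op i) :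
    T.D.map f = T.tr (leOfHom f.unop) := rfl

instance (i : T.I) : IsNoetherian (T.X i) := (T.ftz i).isNoetherian

instance (i : T.Iᵒᵖ) : CompactSpace (T.D.obj i) := (T.ftz i.unop).1

instance (i : T.Iᵒᵖ) : QuasiSeparatedSpace (T.D.obj i) := by
  haveI := (T.ftz i.unop).isNoetherian
  infer_instance

instance (i : T.I) : IsAffineHom (T.pr i) := isAffineHom_π_app T.D T.c T.hc (op i)

instance : CompactSpace T.c.pt := Scheme.compactSpace_of_isLimit T.D T.c T.hc

instance : QuasiSeparatedSpace T.c.pt := by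
  obtain ⟨i⟩ := T.ne
  exact quasiSeparatedSpace_of_quasiSeparated (T.pr i)

theorem isCompact_opens {i : T.I} (W : (T.X i).Opens) : IsCompact (W : Set (T.X i)) :=
  TopologicalSpace.NoetherianSpace.isCompact _

theorem tr_preimage_tr {i i' i'' : T.I} (h : i ≤ i') (h' : i' ≤ i'') (W : (T.X i).Opens) :
    T.tr h' ⁻¹ᵁ T.tr h ⁻¹ᵁ W = T.tr (h.trans h') ⁻¹ᵁ W := by
  rw [← Scheme.Hom.comp_preimage, T.tr_trans]

theorem pr_preimage_tr {i i' : T.I} (h : i ≤ i') (W : (T.X i).Opens) :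
    T.pr i' ⁻¹ᵁ T.tr h ⁻¹ᵁ W = T.pr i ⁻¹ᵁ W := by
  rw [← Scheme.Hom.comp_preimage, T.pr_tr]

/-- Compact opens of the limit come from a finite stage. -/
theorem exists_opens (A : T.c.pt.Opens) (hA : IsCompact (A : Set T.c.pt)) :
    ∃ (i : T.I) (W : (T.X i).Opens), T.pr i ⁻¹ᵁ W = A := by
  obtain ⟨i, W, -, hW⟩ := exists_preimage_eq T.D T.c T.hc A hA
  exact ⟨i.unop, W, hW⟩

/-- Opens with the same preimage in the limit have the same preimage at a finite stage. -/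
theorem exists_tr_preimage_eq {i₁ i₂ : T.I} (A₁ : (T.X i₁).Opens) (A₂ : (T.X i₂).Opens)
    (h : T.pr i₁ ⁻¹ᵁ A₁ = T.pr i₂ ⁻¹ᵁ A₂) :
    ∃ (i₃ : T.I) (h1 : i₁ ≤ i₃) (h2 : i₂ ≤ i₃), T.tr h1 ⁻¹ᵁ A₁ = T.tr h2 ⁻¹ᵁ A₂ := by
  obtain ⟨i, h1, h2⟩ := exists_ge_ge i₁ i₂
  obtain ⟨j, f, hf⟩ := exists_map_preimage_eq_map_preimage T.D T.c T.hc
    (T.isCompact_opens (T.tr h1 ⁻¹ᵁ A₁)) (T.isCompact_opens (T.tr h2 ⁻¹ᵁ A₂))
    (by rw [T.pr_preimage_tr, T.pr_preimage_tr, h])
  refine ⟨j.unop, h1.trans (leOfHom f.unop), h2.trans (leOfHom f.unop), ?_⟩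
  rw [← T.tr_preimage_tr h1 (leOfHom f.unop), ← T.tr_preimage_tr h2 (leOfHom f.unop)]
  exact hf

/-- Sections of the limit over the preimage of an open come from a finite stage. -/
theorem exists_section {i : T.I} (W : (T.X i).Opens) (A : T.c.pt.Opens) (hA : T.pr i ⁻¹ᵁ W = A)
    (s : Γ(T.c.pt, A)) :
    ∃ (i' : T.I) (h : i ≤ i') (t : Γ(T.X i', T.tr h ⁻¹ᵁ W)),
      ((T.pr i').appLE (T.tr h ⁻¹ᵁ W) A (by rw [T.pr_preimage_tr, hA])).hom t = s := by
  obtain ⟨j, f, H⟩ := exists_appLE_π_eq_of_isLimit' T.D T.c T.hc W (T.isCompact_opens W) A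
    hA.symm s
  obtain ⟨t, ht⟩ := H (T.tr (leOfHom f.unop) ⁻¹ᵁ W) rfl
  exact ⟨j.unop, leOfHom f.unop, t, ht⟩

/-- Affine opens of the limit come from affine opens of a finite stage. -/
theorem exists_isAffineOpen (A : T.c.pt.Opens) (hA : IsAffineOpen A) :
    ∃ (i : T.I) (W : (T.X i).Opens), IsAffineOpen W ∧ T.pr i ⁻¹ᵁ W = A := by
  obtain ⟨i, W, h1, h2⟩ := exists_isAffineOpen_preimage_eq T.D T.c T.hc A hA
  exact ⟨i.unop, W, h1, h2⟩

end Sys

/-- A scheme has an approximation if it is the limit of such a system. -/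
def HasApprox (X : Scheme.{u}) : Prop := ∃ T : Sys.{u}, Nonempty (T.c.pt ≅ X)

theorem HasApprox.of_iso {X Y : Scheme.{u}} (e : X ≅ Y) (h : HasApprox X) : HasApprox Y := by
  obtain ⟨T, ⟨e'⟩⟩ := h
  exact ⟨T, ⟨e' ≪≫ e⟩⟩

end Groth.Agent.Lib.helper9.AbsApprox
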