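/-
Helper library (helper9): absolute Noetherian approximation, part 16.
From data at one stage of an approximation of `U` to the data of the induction step.
-/
import Groth.Agent.Lib.Helper9.AbsApprox14
import Groth.Agent.Lib.Helper9.AbsApprox15

set_option autoImplicit false
set_option linter.style.haveILetI false
set_option backward.isDefEq.respectTransparency false

namespace Groth.Agent.Lib.helper9.AbsApprox

open AlgebraicGeometry CategoryTheory Limits Opposite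

universe u

noncomputable section

/-- The data of the induction step, given at one stage of the approximation of `U`. -/
structure PreStep where
  /-- the approximation of `U` -/
  T : Sys.{u}
  /-- the stage -/
  i₀ : T.I
  /-- the open approximating `U ∩ V` -/
  W₀ : (T.X i₀).Opens
  /-- the open `U ∩ V` of `U` -/
  Winf : T.c.pt.Opens
  hWinf₀ : T.pr i₀ ⁻¹ᵁ W₀ = Winf
  /-- the index set of the standard cover of `U ∩ V` -/
  κ : Type
  [fin : Finite κ]
  /-- the sections defining the standard cover -/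
  f₀ : κ → Γ(T.X i₀, W₀)
  /-- the ring of `V` -/
  B : CommRingCat.{u}
  /-- the restriction `Γ(V) ⟶ Γ(U ∩ V)` -/
  ρ : B ⟶ Γ(T.c.pt, Winf)
  /-- the elements of `Γ(V)` defining the standard cover -/
  bk : κ → B
  hbk₀ : ∀ k, ρ.hom (bk k) = ((T.pr i₀).appLE W₀ Winf hWinf₀.ge).hom (f₀ k)

namespace PreStep

variable (P : PreStep.{u})

/-- the stages above `i₀` -/
abbrev J : Type u := {i : P.T.I // P.i₀ ≤ i}

instance : IsDirected P.J (· ≤ ·) := ⟨fun a b => by
  obtain ⟨c, hac, hbc⟩ := exists_ge_ge a.1 b.1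
  exact ⟨⟨c, a.2.trans hac⟩, hac, hbc⟩⟩

instance : Nonempty P.J := ⟨⟨P.i₀, le_rfl⟩⟩

/-- the inclusion of the stages above `i₀` -/
def incl : P.J ⥤ P.T.I := Monotone.functor (f := fun j : P.J => j.1) (fun _ _ h => h)

instance : P.incl.Final := by
  apply Functor.final_of_exists_of_isFiltered
  · intro j
    obtain ⟨c, hac, hbc⟩ := exists_ge_ge j P.i₀
    exact ⟨⟨c, hbc⟩, ⟨homOfLE hac⟩⟩
  · intro i j s s'
    exact ⟨j, 𝟙 j, Subsingleton.elim _ _⟩

/-- the opens approximating `U ∩ V` -/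
def W (i : P.J) : (P.T.X i.1).Opens := P.T.tr i.2 ⁻¹ᵁ P.W₀

/-- the sections defining the standard cover -/
def f (i : P.J) (k : P.κ) : Γ(P.T.X i.1, P.W i) :=
  ((P.T.tr i.2).appLE P.W₀ (P.W i) le_rfl).hom (P.f₀ k)

theorem hW {i i' : P.J} (h : i ≤ i') : P.T.tr (show i.1 ≤ i'.1 from h) ⁻¹ᵁ P.W i = P.W i' :=
  P.T.tr_preimage_tr i.2 h P.W₀

theorem hWinf (i : P.J) : P.T.pr i.1 ⁻¹ᵁ P.W i = P.Winf := by
  rw [W, P.T.pr_preimage_tr, P.hWinf₀]

theorem hf {i i' : P.J} (h : i ≤ i') (k : P.κ) :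
    ((P.T.tr (show i.1 ≤ i'.1 from h)).appLE (P.W i) (P.W i') (P.hW h).ge).hom (P.f i k) =
      P.f i' k := by
  rw [f, f, ← CommRingCat.comp_apply, Scheme.Hom.appLE_comp_appLE]
  exact congrArg (fun φ => (CommRingCat.Hom.hom φ) (P.f₀ k))
    (appLE_congr_hom (P.T.tr_trans i.2 h) _ _ _)

theorem basicOpen_f (i : P.J) (k : P.κ) :
    (P.T.X i.1).basicOpen (P.f i k) = P.T.tr i.2 ⁻¹ᵁ (P.T.X P.i₀).basicOpen (P.f₀ k) := by
  rw [f, basicOpen_appLE, inf_eq_right]
  exact Scheme.Hom.preimage_mono _ ((P.T.X P.i₀).basicOpen_le _)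

theorem hcov (hcov₀ : P.W₀ ≤ ⨆ k, (P.T.X P.i₀).basicOpen (P.f₀ k)) (i : P.J) :
    P.W i ≤ ⨆ k, (P.T.X i.1).basicOpen (P.f i k) := by
  simp_rw [P.basicOpen_f i]
  rw [← Scheme.Hom.preimage_iSup]
  exact Scheme.Hom.preimage_mono _ hcov₀

theorem haff (haff₀ : ∀ k, IsAffineOpen ((P.T.X P.i₀).basicOpen (P.f₀ k))) (i : P.J) (k : P.κ) :
    IsAffineOpen ((P.T.X i.1).basicOpen (P.f i k)) := by
  rw [P.basicOpen_f i k]
  exact (haff₀ k).preimage (P.T.tr i.2)

theorem hbk (i : P.J) (k : P.κ) :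
    P.ρ.hom (P.bk k) = ((P.T.pr i.1).appLE (P.W i) P.Winf (P.hWinf i).ge).hom (P.f i k) := by
  rw [P.hbk₀ k, f, ← CommRingCat.comp_apply, Scheme.Hom.appLE_comp_appLE]
  exact congrArg (fun φ => (CommRingCat.Hom.hom φ) (P.f₀ k))
    (appLE_congr_hom (P.T.pr_tr i.2).symm _ _ _)

/-- the data of the induction step -/
def toStepData (hcov₀ : P.W₀ ≤ ⨆ k, (P.T.X P.i₀).basicOpen (P.f₀ k))
    (haff₀ : ∀ k, IsAffineOpen ((P.T.X P.i₀).basicOpen (P.f₀ k)))
    (hiso : ∀ k, Function.Bijective (Localization.awayMap P.ρ.hom (P.bk k)))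
    (hb : IsOpenImmersion (P.Winf.toSpecΓ ≫ Spec.map P.ρ)) : StepData.{u} where
  I := P.J
  D := P.incl.op ⋙ P.T.D
  c := P.T.c.whisker P.incl.op
  hc := (Functor.Initial.isLimitWhiskerEquiv P.incl.op P.T.c).symm P.T.hc
  aff f := inferInstanceAs (IsAffineHom (P.T.D.map (P.incl.op.map f)))
  ftz i := P.T.ftz i.1
  W := P.W
  hW h := P.hW h
  Winf := P.Winf
  hWinf := P.hWinf
  κ := P.κ
  fin := P.fin
  f := P.f
  hf h k := P.hf h k
  hcov := P.hcov hcov₀
  haff := P.haff haff₀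
  B := P.B
  ρ := P.ρ
  bk := P.bk
  hbk := P.hbk
  hiso := hiso
  hb := hb

/-- the data at a later stage -/
def shift (i : P.J) : PreStep.{u} where
  T := P.T
  i₀ := i.1
  W₀ := P.W i
  Winf := P.Winf
  hWinf₀ := P.hWinf i
  κ := P.κ
  fin := P.fin
  f₀ := P.f i
  B := P.B
  ρ := P.ρ
  bk := P.bk
  hbk₀ := P.hbk i

end PreStep

end

end Groth.Agent.Lib.helper9.AbsApprox
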