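/-
Helper library (helper9): absolute Noetherian approximation, part 17.
The gluing of an approximated scheme `U` with an affine scheme `Spec B` along a quasi-compact
open has an approximation.
-/
import Groth.Agent.Lib.Helper9.AbsApprox16

set_option autoImplicit false
set_option linter.style.haveILetI false
set_option backward.isDefEq.respectTransparency false

namespace Groth.Agent.Lib.helper9.AbsApprox

open AlgebraicGeometry CategoryTheory Limits Opposite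

universe u

noncomputable section

/-- The approximation of `X = U ∪ V` given by the data of the induction step. -/
def StepData.toSys (S : StepData.{u}) : Sys.{u} where
  I := S.Idx
  D := S.D'
  c := S.c'
  hc := S.nonempty_isLimit_c'.some
  aff _ := inferInstance
  ftz j := S.isFTZ_Sj j

theorem StepData.hasApprox_Xg (S : StepData.{u}) : HasApprox S.Xg := ⟨S.toSys, ⟨Iso.refl _⟩⟩

namespace PreStep

variable (P : PreStep.{u})

theorem hasApprox (hcov₀ : P.W₀ ≤ ⨆ k, (P.T.X P.i₀).basicOpen (P.f₀ k))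
    (haff₀ : ∀ k, IsAffineOpen ((P.T.X P.i₀).basicOpen (P.f₀ k)))
    (hiso : ∀ k, Function.Bijective (Localization.awayMap P.ρ.hom (P.bk k)))
    (hb : IsOpenImmersion (P.Winf.toSpecΓ ≫ Spec.map P.ρ)) :
    HasApprox (pushout P.Winf.ι (P.Winf.toSpecΓ ≫ Spec.map P.ρ)) :=
  (P.toStepData hcov₀ haff₀ hiso hb).hasApprox_Xg

theorem basicOpen_ρ_bk (k : P.κ) :
    P.T.c.pt.basicOpen (P.ρ.hom (P.bk k)) = P.T.pr P.i₀ ⁻¹ᵁ (P.T.X P.i₀).basicOpen (P.f₀ k) := by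
  rw [P.hbk₀ k, basicOpen_appLE, inf_eq_right, ← P.hWinf₀]
  exact Scheme.Hom.preimage_mono _ ((P.T.X P.i₀).basicOpen_le _)

/-- At a late enough stage, the basic opens are affine and cover. -/
theorem exists_shift (F1 : P.Winf ≤ ⨆ k, P.T.c.pt.basicOpen (P.ρ.hom (P.bk k)))
    (F2 : ∀ k, IsAffineOpen (P.T.c.pt.basicOpen (P.ρ.hom (P.bk k)))) :
    ∃ i : P.J, (P.W i ≤ ⨆ k, (P.T.X i.1).basicOpen (P.f i k)) ∧
      ∀ k, IsAffineOpen ((P.T.X i.1).basicOpen (P.f i k)) := by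
  haveI := P.fin
  -- the cover
  have h1 : P.T.pr P.i₀ ⁻¹ᵁ P.W₀ = P.T.pr P.i₀ ⁻¹ᵁ (⨆ k, (P.T.X P.i₀).basicOpen (P.f₀ k)) := by
    apply le_antisymm
    · rw [P.hWinf₀, Scheme.Hom.preimage_iSup]
      simp_rw [← P.basicOpen_ρ_bk]
      exact F1
    · exact Scheme.Hom.preimage_mono _ (iSup_le fun k => (P.T.X P.i₀).basicOpen_le _)
  obtain ⟨i₃, h31, h32, h33⟩ := P.T.exists_tr_preimage_eq _ _ h1
  -- the affineness
  have h2 : ∀ k, ∃ (i : P.T.I) (h : P.i₀ ≤ i),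
      IsAffineOpen (P.T.tr h ⁻¹ᵁ (P.T.X P.i₀).basicOpen (P.f₀ k)) := by
    intro k
    obtain ⟨i', V', hV', hV'2⟩ := P.T.exists_isAffineOpen _ (F2 k)
    obtain ⟨i, ha, hb, hab⟩ := P.T.exists_tr_preimage_eq V' ((P.T.X P.i₀).basicOpen (P.f₀ k))
      (by rw [hV'2, P.basicOpen_ρ_bk])
    refine ⟨i, hb, ?_⟩
    rw [← hab]
    exact hV'.preimage _
  choose ik hik haffk using h2
  obtain ⟨i₄, hi₄⟩ := Finite.exists_le ik
  obtain ⟨i, hi3, hi4⟩ := exists_ge_ge i₃ i₄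
  refine ⟨⟨i, h31.trans hi3⟩, ?_, fun k => ?_⟩
  · rw [iSup_congr (fun k => P.basicOpen_f ⟨i, h31.trans hi3⟩ k)]
    rw [← Scheme.Hom.preimage_iSup, W]
    show P.T.tr (h31.trans hi3) ⁻¹ᵁ P.W₀ ≤ P.T.tr (h31.trans hi3) ⁻¹ᵁ _
    rw [← P.T.tr_preimage_tr h31 hi3, ← P.T.tr_preimage_tr h32 hi3, h33]
  · rw [P.basicOpen_f]
    show IsAffineOpen (P.T.tr (h31.trans hi3) ⁻¹ᵁ (P.T.X P.i₀).basicOpen (P.f₀ k))
    have : P.T.tr (h31.trans hi3) ⁻¹ᵁ (P.T.X P.i₀).basicOpen (P.f₀ k) =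
        P.T.tr ((hi₄ k).trans hi4) ⁻¹ᵁ P.T.tr (hik k) ⁻¹ᵁ (P.T.X P.i₀).basicOpen (P.f₀ k) := by
      rw [P.T.tr_preimage_tr]
    rw [this]
    exact (haffk k).preimage _

end PreStep

/-- **The gluing of an approximated scheme with an affine scheme has an approximation.** -/
theorem hasApprox_pushout (T : Sys.{u}) (Winf : T.c.pt.Opens)
    (hWinf : IsCompact (Winf : Set T.c.pt))
    (B : CommRingCat.{u}) (ρ : B ⟶ Γ(T.c.pt, Winf)) (κ : Type) [Finite κ] (bk : κ → B)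
    (F1 : Winf ≤ ⨆ k, T.c.pt.basicOpen (ρ.hom (bk k)))
    (F2 : ∀ k, IsAffineOpen (T.c.pt.basicOpen (ρ.hom (bk k))))
    (hiso : ∀ k, Function.Bijective (Localization.awayMap ρ.hom (bk k)))
    (hb : IsOpenImmersion (Winf.toSpecΓ ≫ Spec.map ρ)) :
    HasApprox (pushout Winf.ι (Winf.toSpecΓ ≫ Spec.map ρ)) := by
  obtain ⟨i₁, W₁, hW₁⟩ := T.exists_opens Winf hWinf
  have h1 : ∀ k, ∃ (i' : T.I) (h : i₁ ≤ i') (t : Γ(T.X i', T.tr h ⁻¹ᵁ W₁)),
      ((T.pr i').appLE (T.tr h ⁻¹ᵁ W₁) Winf (by rw [T.pr_preimage_tr, hW₁])).hom t =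
        ρ.hom (bk k) := fun k => T.exists_section W₁ Winf hW₁ _
  choose ik hik tk htk using h1
  obtain ⟨i₂', hi₂'⟩ := Finite.exists_le ik
  obtain ⟨i₂, h12, h22⟩ := exists_ge_ge i₁ i₂'
  let P : PreStep.{u} :=
    { T := T
      i₀ := i₂
      W₀ := T.tr h12 ⁻¹ᵁ W₁
      Winf := Winf
      hWinf₀ := by rw [T.pr_preimage_tr, hW₁]
      κ := κ
      f₀ := fun k => ((T.tr ((hi₂' k).trans h22)).appLE (T.tr (hik k) ⁻¹ᵁ W₁) (T.tr h12 ⁻¹ᵁ W₁)
        (by rw [T.tr_preimage_tr])).hom (tk k)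
      B := B
      ρ := ρ
      bk := bk
      hbk₀ := fun k => by
        rw [← htk k, ← CommRingCat.comp_apply, Scheme.Hom.appLE_comp_appLE]
        exact congrArg (fun φ => (CommRingCat.Hom.hom φ) (tk k))
          (appLE_congr_hom (T.pr_tr _).symm _ _ _) }
  obtain ⟨i, hi1, hi2⟩ := P.exists_shift F1 F2
  exact (P.shift i).hasApprox hi1 hi2 hiso hb

end

end Groth.Agent.Lib.helper9.AbsApprox
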