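/-
Helper library (helper9): absolute Noetherian approximation, part 18.
The induction step: a quasi-separated scheme covered by an approximated quasi-compact open and
an affine open has an approximation.
-/
import Groth.Agent.Lib.Helper9.AbsApprox17

set_option autoImplicit false
set_option linter.style.haveILetI false
set_option backward.isDefEq.respectTransparency false

namespace Groth.Agent.Lib.helper9.AbsApprox

open AlgebraicGeometry CategoryTheory Limits Opposite

universe u

/-- A quasi-compact open contained in an affine open is a finite union of basic opens. -/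
theorem exists_finite_basicOpen_cover {Y : Scheme.{u}} {V : Y.Opens} (hV : IsAffineOpen V)
    (W : Y.Opens) (hWV : W ≤ V) (hW : IsCompact (W : Set Y)) :
    ∃ (n : ℕ) (b : Fin n → Γ(Y, V)), W = ⨆ k, Y.basicOpen (b k) := by
  classical
  have h1 : ∀ x : W, ∃ f : Γ(Y, V), Y.basicOpen f ≤ W ∧ (x : Y) ∈ Y.basicOpen f :=
    fun x => hV.exists_basicOpen_le x (hWV x.2)
  choose f hf1 hf2 using h1
  obtain ⟨t, ht⟩ := hW.elim_finite_subcover (fun x : W => (Y.basicOpen (f x) : Set Y))
    (fun x => (Y.basicOpen (f x)).isOpen) (fun y hy => Set.mem_iUnion.mpr ⟨⟨y, hy⟩, hf2 _⟩)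
  refine ⟨t.card, fun k => f (t.equivFin.symm k).1, le_antisymm ?_ (iSup_le fun k => hf1 _)⟩
  intro y hy
  obtain ⟨x, hx⟩ := Set.mem_iUnion.mp (ht hy)
  obtain ⟨hxt, hx⟩ := Set.mem_iUnion.mp hx
  refine TopologicalSpace.Opens.mem_iSup.mpr ⟨t.equivFin ⟨x, hxt⟩, ?_⟩
  show y ∈ Y.basicOpen (f (t.equivFin.symm (t.equivFin ⟨x, hxt⟩)).1)
  rw [Equiv.symm_apply_apply]
  exact hx

theorem bijective_appLE_of_eq {X Y : Scheme.{u}} (f : X ⟶ Y) (U : Y.Opens) (V : X.Opens)
    (hV : V = f ⁻¹ᵁ U) [IsIso (f.app U)] : Function.Bijective (f.appLE U V hV.le).hom := by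
  subst hV
  rw [← Scheme.Hom.app_eq_appLE]
  exact ConcreteCategory.bijective_of_isIso _

/-- The localization of a pullback of functions between qcqs opens is bijective if the
pullback of functions on the basic opens is bijective. -/
theorem awayMap_appLE_bijective {X Y : Scheme.{u}} (g : X ⟶ Y) (V : Y.Opens) (W : X.Opens)
    (e : W ≤ g ⁻¹ᵁ V) (hVc : IsCompact (V : Set Y)) (hVqs : IsQuasiSeparated (V : Set Y))
    (hWc : IsCompact (W : Set X)) (hWqs : IsQuasiSeparated (W : Set X)) (b : Γ(Y, V))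
    (hbij : Function.Bijective (g.appLE (Y.basicOpen b) (X.basicOpen ((g.appLE V W e).hom b))
      (by rw [basicOpen_appLE]; exact inf_le_right)).hom) :
    Function.Bijective (Localization.awayMap (g.appLE V W e).hom b) := by
  obtain ⟨θY, hθY⟩ := exists_iso_away_of_qcqs hVc hVqs b
  obtain ⟨θX, hθX⟩ := exists_iso_away_of_qcqs hWc hWqs ((g.appLE V W e).hom b)
  have key : θX.hom.hom.comp (Localization.awayMap (g.appLE V W e).hom b) =
      (g.appLE (Y.basicOpen b) (X.basicOpen ((g.appLE V W e).hom b))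
        (by rw [basicOpen_appLE]; exact inf_le_right)).hom.comp θY.hom.hom := by
    refine IsLocalization.ringHom_ext (Submonoid.powers b) (RingHom.ext fun x => ?_)
    simp only [RingHom.comp_apply]
    have h1 : Localization.awayMap (g.appLE V W e).hom b (algebraMap _ _ x) =
        algebraMap _ _ ((g.appLE V W e).hom x) := IsLocalization.map_eq _ _
    have h2 : θX.hom.hom (algebraMap _ _ ((g.appLE V W e).hom x)) =
        (X.presheaf.map (homOfLE (X.basicOpen_le _)).op).hom ((g.appLE V W e).hom x) :=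
      congr($hθX ((g.appLE V W e).hom x))
    have h3 : θY.hom.hom (algebraMap _ _ x) = (Y.presheaf.map (homOfLE (Y.basicOpen_le b)).op).hom x :=
      congr($hθY x)
    rw [h1, h2, h3, ← CommRingCat.comp_apply, ← CommRingCat.comp_apply,
      Scheme.Hom.appLE_map, Scheme.Hom.map_appLE]
  have h4 : Function.Bijective (θX.hom.hom ∘ Localization.awayMap (g.appLE V W e).hom b) := by
    have : (θX.hom.hom ∘ Localization.awayMap (g.appLE V W e).hom b : _ → _) =
        (g.appLE (Y.basicOpen b) (X.basicOpen ((g.appLE V W e).hom b))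
          (by rw [basicOpen_appLE]; exact inf_le_right)).hom ∘ θY.hom.hom :=
      congrArg DFunLike.coe key
    rw [this]
    exact hbij.comp (ConcreteCategory.bijective_of_isIso θY.hom)
  exact (Function.Bijective.of_comp_iff' (ConcreteCategory.bijective_of_isIso θX.hom) _).mp h4

/-- **The induction step.** -/
theorem hasApprox_of_cover (Y : Scheme.{u}) [QuasiSeparatedSpace Y] (T : Sys.{u})
    (jU : T.c.pt ⟶ Y) [IsOpenImmersion jU] (V : Y.Opens) (hV : IsAffineOpen V)
    (hcov : jU.opensRange ⊔ V = ⊤) : HasApprox Y := by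
  let Winf : T.c.pt.Opens := jU ⁻¹ᵁ V
  have hWinf : IsCompact (Winf : Set T.c.pt) :=
    QuasiCompact.isCompact_preimage (f := jU) _ V.isOpen hV.isCompact
  let ρ : Γ(Y, V) ⟶ Γ(T.c.pt, Winf) := jU.appLE V Winf le_rfl
  have hUV : IsCompact ((jU.opensRange ⊓ V : Y.Opens) : Set Y) :=
    QuasiSeparatedSpace.inter_isCompact _ _ jU.opensRange.isOpen (isCompact_range jU.continuous)
      V.isOpen hV.isCompact
  obtain ⟨n, bk, hbk⟩ := exists_finite_basicOpen_cover hV (jU.opensRange ⊓ V) inf_le_right hUV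
  have hle : ∀ k, Y.basicOpen (bk k) ≤ jU.opensRange := fun k =>
    ((le_iSup (fun k => Y.basicOpen (bk k)) k).trans hbk.ge).trans inf_le_left
  have hbo : ∀ k, T.c.pt.basicOpen (ρ.hom (bk k)) = jU ⁻¹ᵁ Y.basicOpen (bk k) := by
    intro k
    rw [basicOpen_appLE, inf_eq_right]
    exact Scheme.Hom.preimage_mono _ (Y.basicOpen_le _)
  have F1 : Winf ≤ ⨆ k, T.c.pt.basicOpen (ρ.hom (bk k)) := by
    rw [iSup_congr hbo, ← Scheme.Hom.preimage_iSup, ← hbk]
    intro x hx
    exact ⟨⟨x, rfl⟩, hx⟩
  have F2 : ∀ k, IsAffineOpen (T.c.pt.basicOpen (ρ.hom (bk k))) := fun k => by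
    rw [hbo]
    exact (hV.basicOpen (bk k)).preimage_of_isOpenImmersion jU (hle k)
  have hiso : ∀ k, Function.Bijective (Localization.awayMap ρ.hom (bk k)) := fun k => by
    refine awayMap_appLE_bijective jU V Winf le_rfl hV.isCompact (.of_quasiSeparatedSpace _)
      hWinf (.of_quasiSeparatedSpace _) (bk k) ?_
    haveI := Scheme.Hom.isIso_app jU (Y.basicOpen (bk k)) (hle k)
    exact bijective_appLE_of_eq jU _ _ (hbo k)
  have hb : IsOpenImmersion (Winf.toSpecΓ ≫ Spec.map ρ) := by
    rw [Scheme.Opens.toSpecΓ_SpecMap_appLE]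
    haveI : IsIso V.toSpecΓ := hV.isoSpec.isIso_hom
    haveI : IsOpenImmersion (jU ∣_ V) :=
      MorphismProperty.of_isPullback (P := @IsOpenImmersion) (isPullback_morphismRestrict jU V).flip
        inferInstance
    haveI : IsOpenImmersion (jU.resLE V Winf le_rfl) := by
      delta Scheme.Hom.resLE
      infer_instance
    infer_instance
  have h := hasApprox_pushout T Winf hWinf _ ρ (Fin n) bk F1 F2 hiso hb
  have hpb : IsPullback Winf.ι (Winf.toSpecΓ ≫ Spec.map ρ) jU hV.fromSpec := by
    refine (IsOpenImmersion.isPullback (Winf.toSpecΓ ≫ Spec.map ρ) Winf.ι hV.fromSpec jU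
      ?_ ?_).flip
    · rw [Scheme.Opens.toSpecΓ_SpecMap_appLE, Category.assoc, hV.toSpecΓ_fromSpec,
        Scheme.Hom.resLE_comp_ι]
    · rw [hV.opensRange_fromSpec, Scheme.Opens.opensRange_ι]
  haveI := isIso_pushoutDesc Winf.ι (Winf.toSpecΓ ≫ Spec.map ρ) jU hV.fromSpec hpb (fun x => by
    have hx : x ∈ jU.opensRange ⊔ V := by rw [hcov]; trivial
    rcases hx with hx | hx
    · exact Or.inl hx
    · right
      have : x ∈ Set.range ⇑hV.fromSpec := by rw [hV.range_fromSpec]; exact hx
      exact this)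
  exact h.of_iso (asIso (pushout.desc jU hV.fromSpec hpb.w))

end Groth.Agent.Lib.helper9.AbsApprox
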