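/-
Helper library (helper9): absolute Noetherian approximation, part 19.
Every quasi-compact quasi-separated scheme has an approximation.
-/
import Groth.Agent.Lib.Helper9.AbsApprox18
import Groth.Agent.Lib.Helper9.FGLimitZ

set_option autoImplicit false
set_option linter.style.haveILetI false
set_option backward.isDefEq.respectTransparency false

namespace Groth.Agent.Lib.helper9.AbsApprox

open AlgebraicGeometry CategoryTheory Limits Opposite

universe u

noncomputable section

/-- The approximation of an affine scheme by the spectra of its finitely generated subrings. -/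
def specSys (R : Type u) [CommRing R] : Sys.{u} where
  I := Finset R
  D := FGLimitZ.specDiagram R
  c := FGLimitZ.specCone R
  hc := FGLimitZ.isLimitSpecCone R
  aff _ := inferInstance
  ftz s := isFTZ_spec _ ((Subalgebra.fg_iff_finiteType _).mp
    (Subalgebra.fg_adjoin_finset s))

theorem hasApprox_spec (R : Type u) [CommRing R] : HasApprox (Spec (CommRingCat.of R)) :=
  ⟨specSys R, ⟨Iso.refl _⟩⟩

theorem hasApprox_of_isAffine (X : Scheme.{u}) [IsAffine X] : HasApprox X :=
  (hasApprox_spec Γ(X, ⊤)).of_iso X.isoSpec.symm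

/-- **Absolute Noetherian approximation.** -/
theorem hasApprox_of_qcqs (X : Scheme.{u}) [CompactSpace X] [QuasiSeparatedSpace X] :
    HasApprox X := by
  suffices h : HasApprox ((⊤ : X.Opens) : Scheme.{u}) from h.of_iso X.topIso
  refine compact_open_induction_on (P := fun U : X.Opens => HasApprox (U : Scheme.{u}))
    (⊤ : X.Opens) isCompact_univ ?_ ?_
  · haveI : IsAffine ((⊥ : X.Opens) : Scheme.{u}) := isAffineOpen_bot X
    exact hasApprox_of_isAffine _
  · intro S hS U hSa
    obtain ⟨T, ⟨e⟩⟩ := hSa
    haveI : QuasiSeparatedSpace ((S ⊔ U.1 : X.Opens) : Scheme.{u}) :=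
      (isQuasiSeparated_iff_quasiSeparatedSpace _ (S ⊔ U.1).2).mp (.of_quasiSeparatedSpace _)
    refine hasApprox_of_cover ((S ⊔ U.1 : X.Opens) : Scheme.{u}) T
      (e.hom ≫ X.homOfLE (le_sup_left : S ≤ S ⊔ U.1)) ((S ⊔ U.1).ι ⁻¹ᵁ U.1) ?_ ?_
    · refine U.2.preimage_of_isOpenImmersion _ ?_
      rw [Scheme.Opens.opensRange_ι]
      exact le_sup_right
    · rw [Scheme.Hom.opensRange_comp_of_isIso, Scheme.opensRange_homOfLE, ← Scheme.Hom.preimage_sup,
        Scheme.Opens.ι_preimage_self]

end

end Groth.Agent.Lib.helper9.AbsApprox
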