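/-
Helper library (helper9): absolute Noetherian approximation, part 20.
Approximation of morphisms: factorization through finite stages and the index set of
approximations of a morphism.
-/
import Groth.Agent.Lib.Helper9.AbsApprox19

set_option autoImplicit false
set_option linter.style.haveILetI false
set_option backward.isDefEq.respectTransparency false

namespace Groth.Agent.Lib.helper9.AbsApprox

open AlgebraicGeometry CategoryTheory Limits Opposite

universe u

theorem locallyOfFinitePresentation_of_isLocallyNoetherian {X Y : Scheme.{u}} (F : Y ⟶ X)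
    [IsLocallyNoetherian X] [LocallyOfFiniteType F] : LocallyOfFinitePresentation F := by
  rw [HasRingHomProperty.iff_appLE (P := @LocallyOfFinitePresentation)]
  intro U V e
  have := IsLocallyNoetherian.component_noetherian U
  exact RingHom.FinitePresentation.of_finiteType.mp (F.finiteType_appLE U.2 V.2 e)

instance : IsLocallyNoetherian (Spec (CommRingCat.of (ULift.{u} ℤ))) := by
  haveI : IsNoetherianRing (CommRingCat.of (ULift.{u} ℤ)) :=
    inferInstanceAs (IsNoetherianRing (ULift.{u} ℤ))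
  infer_instance

theorem IsFTZ.locallyOfFinitePresentation {Y : Scheme.{u}} (hY : IsFTZ Y) :
    LocallyOfFinitePresentation (specULiftZIsTerminal.from Y) := by
  haveI := hY.2
  exact locallyOfFinitePresentation_of_isLocallyNoetherian _

namespace Sys

variable (T : Sys.{u})

/-- the structure morphisms of the system to `Spec ℤ` -/
noncomputable def toZ : T.D ⟶ (Functor.const _).obj (Spec (CommRingCat.of (ULift.{u} ℤ))) where
  app _ := specULiftZIsTerminal.from _
  naturality _ _ _ := specULiftZIsTerminal.hom_ext _ _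

/-- Morphisms from the limit to a scheme of finite type over `ℤ` factor through a stage. -/
theorem exists_factor {Y : Scheme.{u}} (hY : IsFTZ Y) (a : T.c.pt ⟶ Y) :
    ∃ (i : T.I) (g : T.X i ⟶ Y), T.pr i ≫ g = a := by
  haveI := hY.locallyOfFinitePresentation
  obtain ⟨i, g, hg, -⟩ := Scheme.exists_π_app_comp_eq_of_locallyOfFinitePresentation T.D T.toZ
    (specULiftZIsTerminal.from Y) T.c T.hc a (by
      ext _
      exact specULiftZIsTerminal.hom_ext _ _)
  exact ⟨i.unop, g, hg⟩

/-- Morphisms from a stage to a scheme of finite type over `ℤ` which agree on the limit agree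
at a later stage. -/
theorem exists_tr_comp_eq {Y : Scheme.{u}} (hY : IsFTZ Y) {i : T.I} (g g' : T.X i ⟶ Y)
    (h : T.pr i ≫ g = T.pr i ≫ g') : ∃ (i' : T.I) (h : i ≤ i'), T.tr h ≫ g = T.tr h ≫ g' := by
  haveI := hY.2
  obtain ⟨k, hk, e⟩ := Scheme.exists_hom_comp_eq_comp_of_locallyOfFiniteType T.D T.toZ
    (specULiftZIsTerminal.from Y) T.c T.hc (i := op i) g g'
    (specULiftZIsTerminal.hom_ext _ _) (specULiftZIsTerminal.hom_ext _ _) h
  exact ⟨k.unop, leOfHom hk.unop, e⟩

end Sys

/-- The index set of the approximations of a morphism `f : lim X_a ⟶ lim S_b`: the morphisms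
`X_a ⟶ S_b` compatible with `f`. -/
structure MorIdx (TX TS : Sys.{u}) (f : TX.c.pt ⟶ TS.c.pt) where
  /-- the stage of the source -/
  a : TX.I
  /-- the stage of the target -/
  b : TS.I
  /-- the morphism -/
  g : TX.X a ⟶ TS.X b
  comm : TX.pr a ≫ g = f ≫ TS.pr b

namespace MorIdx

variable {TX TS : Sys.{u}} {f : TX.c.pt ⟶ TS.c.pt}

instance : Preorder (MorIdx TX TS f) where
  le i j := ∃ (ha : i.a ≤ j.a) (hb : i.b ≤ j.b), TX.tr ha ≫ i.g = j.g ≫ TS.tr hb
  le_refl i := ⟨le_refl _, le_refl _, by rw [TX.tr_refl, TS.tr_refl, Category.id_comp,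
    Category.comp_id]⟩
  le_trans i j k h h' := by
    obtain ⟨ha, hb, e⟩ := h
    obtain ⟨ha', hb', e'⟩ := h'
    refine ⟨ha.trans ha', hb.trans hb', ?_⟩
    rw [← TX.tr_trans ha ha', Category.assoc, e, reassoc_of% e', TS.tr_trans]

theorem le_def (i j : MorIdx TX TS f) :
    i ≤ j ↔ ∃ (ha : i.a ≤ j.a) (hb : i.b ≤ j.b), TX.tr ha ≫ i.g = j.g ≫ TS.tr hb := Iff.rfl

/-- moving the source stage up -/
def up (i : MorIdx TX TS f) {a' : TX.I} (h : i.a ≤ a') : MorIdx TX TS f where
  a := a'
  b := i.b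
  g := TX.tr h ≫ i.g
  comm := by rw [reassoc_of% TX.pr_tr h, i.comm]

theorem le_up (i : MorIdx TX TS f) {a' : TX.I} (h : i.a ≤ a') : i ≤ i.up h :=
  ⟨h, le_refl _, by rw [TS.tr_refl]; exact (Category.comp_id _).symm⟩

/-- moving the target stage down -/
def down (i : MorIdx TX TS f) {b' : TS.I} (h : b' ≤ i.b) : MorIdx TX TS f where
  a := i.a
  b := b'
  g := i.g ≫ TS.tr h
  comm := by rw [reassoc_of% i.comm, TS.pr_tr]

theorem down_le (i : MorIdx TX TS f) {b' : TS.I} (h : b' ≤ i.b) : i.down h ≤ i :=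
  ⟨le_refl _, h, by rw [TX.tr_refl]; exact Category.id_comp _⟩

variable (TX TS f)

/-- Every stage of the target is the target of an approximation. -/
theorem exists_of_b (b : TS.I) : ∃ i : MorIdx TX TS f, i.b = b := by
  obtain ⟨a, g, hg⟩ := TX.exists_factor (TS.ftz b) (f ≫ TS.pr b)
  exact ⟨⟨a, b, g, hg⟩, rfl⟩

instance : Nonempty (MorIdx TX TS f) := by
  obtain ⟨b⟩ := TS.ne
  obtain ⟨i, -⟩ := exists_of_b TX TS f b
  exact ⟨i⟩

variable {TX TS f}

/-- Two approximations with comparable targets become comparable after moving the source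
stage up. -/
theorem exists_up_le (i j : MorIdx TX TS f) (hb : i.b ≤ j.b) :
    ∃ (a' : TX.I) (h : j.a ≤ a'), i ≤ j.up h := by
  obtain ⟨a₁, h1, h2⟩ := exists_ge_ge i.a j.a
  obtain ⟨a', h3, e⟩ := TX.exists_tr_comp_eq (TS.ftz i.b) (TX.tr h1 ≫ i.g)
    (TX.tr h2 ≫ j.g ≫ TS.tr hb) (by
      rw [reassoc_of% TX.pr_tr h1, reassoc_of% TX.pr_tr h2, i.comm, reassoc_of% j.comm,
        TS.pr_tr])
  refine ⟨a', h2.trans h3, h1.trans h3, hb, ?_⟩
  show _ = (TX.tr (h2.trans h3) ≫ j.g) ≫ TS.tr hb
  rw [← TX.tr_trans h1 h3, ← TX.tr_trans h2 h3, Category.assoc, Category.assoc, Category.assoc]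
  simpa only [Category.assoc] using e

instance : IsDirected (MorIdx TX TS f) (· ≤ ·) := ⟨fun i j => by
  obtain ⟨b, hb1, hb2⟩ := exists_ge_ge i.b j.b
  obtain ⟨k, rfl⟩ := exists_of_b TX TS f b
  obtain ⟨a₁, h1, e1⟩ := exists_up_le i k hb1
  obtain ⟨a₂, h2, e2⟩ := exists_up_le j (k.up h1) hb2
  exact ⟨(k.up h1).up h2, e1.trans ((k.up h1).le_up h2), e2⟩⟩

variable (TX TS f)

/-- the source stage -/
def pA : MorIdx TX TS f ⥤ TX.I :=
  Monotone.functor (f := fun i : MorIdx TX TS f => i.a) (fun _ _ h => h.fst)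

/-- the target stage -/
def pB : MorIdx TX TS f ⥤ TS.I :=
  Monotone.functor (f := fun i : MorIdx TX TS f => i.b) (fun _ _ h => h.snd.fst)

instance : (pA TX TS f).Final := by
  apply Functor.final_of_exists_of_isFiltered
  · intro a
    obtain ⟨i₀⟩ := (inferInstance : Nonempty (MorIdx TX TS f))
    obtain ⟨a', h1, h2⟩ := exists_ge_ge a i₀.a
    exact ⟨i₀.up h2, ⟨homOfLE h1⟩⟩
  · intro i j s s'
    exact ⟨j, 𝟙 j, Subsingleton.elim _ _⟩

instance : (pB TX TS f).Final := by
  apply Functor.final_of_exists_of_isFiltered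
  · intro b
    obtain ⟨i, rfl⟩ := exists_of_b TX TS f b
    exact ⟨i, ⟨homOfLE (le_refl _)⟩⟩
  · intro i j s s'
    exact ⟨j, 𝟙 j, Subsingleton.elim _ _⟩

/-- the system of the sources -/
def DX : (MorIdx TX TS f)ᵒᵖ ⥤ Scheme.{u} := (pA TX TS f).op ⋙ TX.D

/-- the system of the targets -/
def DS : (MorIdx TX TS f)ᵒᵖ ⥤ Scheme.{u} := (pB TX TS f).op ⋙ TS.D

theorem DX_map {i j : (MorIdx TX TS f)ᵒᵖ} (h : i ⟶ j) :
    (DX TX TS f).map h = TX.tr (leOfHom h.unop).fst := rfl

theorem DS_map {i j : (MorIdx TX TS f)ᵒᵖ} (h : i ⟶ j) :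
    (DS TX TS f).map h = TS.tr (leOfHom h.unop).snd.fst := rfl

/-- the system of the morphisms -/
def φ : DX TX TS f ⟶ DS TX TS f where
  app i := i.unop.g
  naturality i j h := by
    rw [DX_map, DS_map]
    exact (leOfHom h.unop).snd.snd

/-- the cone over the system of the sources -/
def cX : Cone (DX TX TS f) := TX.c.whisker (pA TX TS f).op

/-- the cone over the system of the targets -/
def cS : Cone (DS TX TS f) := TS.c.whisker (pB TX TS f).op

/-- the cone over the system of the sources is a limit cone -/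
noncomputable def hcX : IsLimit (cX TX TS f) :=
  (Functor.Initial.isLimitWhiskerEquiv (pA TX TS f).op TX.c).symm TX.hc

/-- the cone over the system of the targets is a limit cone -/
noncomputable def hcS : IsLimit (cS TX TS f) :=
  (Functor.Initial.isLimitWhiskerEquiv (pB TX TS f).op TS.c).symm TS.hc

theorem cX_π_φ (i : (MorIdx TX TS f)ᵒᵖ) :
    (cX TX TS f).π.app i ≫ (φ TX TS f).app i = f ≫ (cS TX TS f).π.app i := i.unop.comm

end MorIdx

end Groth.Agent.Lib.helper9.AbsApprox
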