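/-
Helper library (helper9): absolute Noetherian approximation, part 21.
Relative approximation: for `f : lim X_a ⟶ lim S_b = S`, the schemes `X_a ×_{S_b} S` form an
inverse system of schemes of finite presentation over `S` with limit `lim X_a`.
-/
import Groth.Agent.Lib.Helper9.AbsApprox20

set_option autoImplicit false
set_option linter.style.haveILetI false
set_option backward.isDefEq.respectTransparency false

namespace Groth.Agent.Lib.helper9.AbsApprox

open AlgebraicGeometry CategoryTheory Limits Opposite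

universe u

noncomputable section

namespace MorIdx

variable {TX TS : Sys.{u}} {f : TX.c.pt ⟶ TS.c.pt}

/-- the schemes `X_a ×_{S_b} S` -/
abbrev Z (i : MorIdx TX TS f) : Scheme.{u} := pullback i.g (TS.pr i.b)

/-- the transition maps -/
def Zmap {i j : MorIdx TX TS f} (h : i ≤ j) : Z j ⟶ Z i :=
  pullback.map j.g (TS.pr j.b) i.g (TS.pr i.b) (TX.tr h.fst) (𝟙 _) (TS.tr h.snd.fst)
    h.snd.snd.symm (by rw [TS.pr_tr, Category.id_comp])

@[reassoc]
theorem Zmap_fst {i j : MorIdx TX TS f} (h : i ≤ j) :
    Zmap h ≫ pullback.fst i.g (TS.pr i.b) = pullback.fst j.g (TS.pr j.b) ≫ TX.tr h.fst := by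
  rw [Zmap, pullback.lift_fst]

@[reassoc]
theorem Zmap_snd {i j : MorIdx TX TS f} (h : i ≤ j) :
    Zmap h ≫ pullback.snd i.g (TS.pr i.b) = pullback.snd j.g (TS.pr j.b) := by
  rw [Zmap, pullback.lift_snd, Category.comp_id]

theorem Zmap_refl (i : MorIdx TX TS f) : Zmap (le_refl i) = 𝟙 _ := by
  apply pullback.hom_ext
  · rw [Zmap_fst, TX.tr_refl, Category.comp_id, Category.id_comp]
  · rw [Zmap_snd, Category.id_comp]

theorem Zmap_trans {i j k : MorIdx TX TS f} (h : i ≤ j) (h' : j ≤ k) :
    Zmap h' ≫ Zmap h = Zmap (h.trans h') := by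
  apply pullback.hom_ext
  · rw [Category.assoc, Zmap_fst, Zmap_fst_assoc, Zmap_fst, TX.tr_trans]
  · rw [Category.assoc, Zmap_snd, Zmap_snd, Zmap_snd]

variable (TX TS f)

/-- the system of the schemes `X_a ×_{S_b} S` -/
def DZ : (MorIdx TX TS f)ᵒᵖ ⥤ Scheme.{u} where
  obj i := Z i.unop
  map h := Zmap (leOfHom h.unop)
  map_id i := Zmap_refl i.unop
  map_comp h h' := (Zmap_trans (leOfHom h'.unop) (leOfHom h.unop)).symm

/-- the cone over the system with vertex `lim X_a` -/
def cZ : Cone (DZ TX TS f) where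
  pt := TX.c.pt
  π :=
  { app := fun i => pullback.lift (TX.pr i.unop.a) f i.unop.comm
    naturality := fun i j h => by
      simp only [Functor.const_obj_obj, Functor.const_obj_map, Category.id_comp]
      show pullback.lift (TX.pr j.unop.a) f j.unop.comm =
        pullback.lift (TX.pr i.unop.a) f i.unop.comm ≫ Zmap (leOfHom h.unop)
      apply pullback.hom_ext
      · rw [pullback.lift_fst, Category.assoc, Zmap_fst, pullback.lift_fst_assoc, TX.pr_tr]
      · rw [pullback.lift_snd, Category.assoc, Zmap_snd, pullback.lift_snd] }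

theorem cZ_π (i : (MorIdx TX TS f)ᵒᵖ) :
    (cZ TX TS f).π.app i = pullback.lift (TX.pr i.unop.a) f i.unop.comm := rfl

theorem DZ_map {i j : (MorIdx TX TS f)ᵒᵖ} (h : i ⟶ j) :
    (DZ TX TS f).map h = Zmap (leOfHom h.unop) := rfl

/-- the cone over the system of the sources induced by a cone over the `X_a ×_{S_b} S` -/
def coneX (s : Cone (DZ TX TS f)) : Cone (DX TX TS f) where
  pt := s.pt
  π :=
  { app := fun i => s.π.app i ≫ pullback.fst i.unop.g (TS.pr i.unop.b)
    naturality := fun i j h => by
      simp only [Functor.const_obj_obj, Functor.const_obj_map, Category.id_comp]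
      rw [DX_map, ← s.w h, Category.assoc, Category.assoc, DZ_map, Zmap_fst] }

theorem π_snd_eq (s : Cone (DZ TX TS f)) (i j : (MorIdx TX TS f)ᵒᵖ) :
    s.π.app i ≫ pullback.snd i.unop.g (TS.pr i.unop.b) =
      s.π.app j ≫ pullback.snd j.unop.g (TS.pr j.unop.b) := by
  obtain ⟨k, hik, hjk⟩ := exists_ge_ge i.unop j.unop
  rw [← s.w (homOfLE hik).op, ← s.w (homOfLE hjk).op, Category.assoc, Category.assoc, DZ_map,
    DZ_map, Zmap_snd, Zmap_snd]

theorem lift_comp_f (s : Cone (DZ TX TS f)) (i : (MorIdx TX TS f)ᵒᵖ) :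
    (hcX TX TS f).lift (coneX TX TS f s) ≫ f =
      s.π.app i ≫ pullback.snd i.unop.g (TS.pr i.unop.b) := by
  refine (hcS TX TS f).hom_ext fun j => ?_
  have h1 : (hcX TX TS f).lift (coneX TX TS f s) ≫ TX.pr j.unop.a =
      s.π.app j ≫ pullback.fst j.unop.g (TS.pr j.unop.b) := (hcX TX TS f).fac (coneX TX TS f s) j
  show ((hcX TX TS f).lift (coneX TX TS f s) ≫ f) ≫ TS.pr j.unop.b =
    (s.π.app i ≫ pullback.snd i.unop.g (TS.pr i.unop.b)) ≫ TS.pr j.unop.b
  rw [Category.assoc, ← j.unop.comm, reassoc_of% h1, π_snd_eq TX TS f s i j]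
  exact (Category.assoc _ _ _).symm.trans ((congrArg (s.π.app j ≫ ·) pullback.condition).trans
    (Category.assoc _ _ _).symm |>.trans (Category.assoc _ _ _) |>.trans (Category.assoc _ _ _).symm)

/-- the cone over the `X_a ×_{S_b} S` with vertex `lim X_a` is a limit cone -/
def isLimitCZ : IsLimit (cZ TX TS f) where
  lift s := (hcX TX TS f).lift (coneX TX TS f s)
  fac s i := by
    rw [cZ_π]
    apply pullback.hom_ext
    · rw [Category.assoc, pullback.lift_fst]
      exact (hcX TX TS f).fac (coneX TX TS f s) i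
    · rw [Category.assoc, pullback.lift_snd]
      exact lift_comp_f TX TS f s i
  uniq s m hm := by
    refine (hcX TX TS f).hom_ext fun i => ?_
    rw [(hcX TX TS f).fac (coneX TX TS f s) i]
    show m ≫ TX.pr i.unop.a = s.π.app i ≫ pullback.fst i.unop.g (TS.pr i.unop.b)
    rw [← hm i, cZ_π, Category.assoc, pullback.lift_fst]

variable {TX TS f}

instance {i j : MorIdx TX TS f} (h : i ≤ j) : IsAffineHom (Zmap h) := by
  haveI : IsAffineHom (Zmap h ≫ pullback.fst i.g (TS.pr i.b)) := by
    rw [Zmap_fst]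
    haveI : IsAffineHom (pullback.fst j.g (TS.pr j.b)) :=
      MorphismProperty.pullback_fst _ _ inferInstance
    infer_instance
  haveI : IsAffineHom (pullback.fst i.g (TS.pr i.b)) :=
    MorphismProperty.pullback_fst _ _ inferInstance
  exact MorphismProperty.of_postcomp (W := @IsAffineHom) (W' := @IsSeparated) (Zmap h)
    (pullback.fst i.g (TS.pr i.b)) inferInstance inferInstance

instance {i j : (MorIdx TX TS f)ᵒᵖ} (h : i ⟶ j) : IsAffineHom ((DZ TX TS f).map h) :=
  inferInstanceAs (IsAffineHom (Zmap (leOfHom h.unop)))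

theorem locallyOfFinitePresentation_g (i : MorIdx TX TS f) : LocallyOfFinitePresentation i.g := by
  haveI := (TX.ftz i.a).2
  haveI : LocallyOfFiniteType (i.g ≫ specULiftZIsTerminal.from (TS.X i.b)) := by
    rw [specULiftZIsTerminal.hom_ext (i.g ≫ specULiftZIsTerminal.from (TS.X i.b))
      (specULiftZIsTerminal.from (TX.X i.a))]
    infer_instance
  haveI : LocallyOfFiniteType i.g :=
    locallyOfFiniteType_of_comp i.g (specULiftZIsTerminal.from (TS.X i.b))
  exact locallyOfFinitePresentation_of_isLocallyNoetherian _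

instance (i : MorIdx TX TS f) : LocallyOfFinitePresentation (pullback.snd i.g (TS.pr i.b)) := by
  haveI := locallyOfFinitePresentation_g i
  infer_instance

instance (i : MorIdx TX TS f) : QuasiCompact (pullback.snd i.g (TS.pr i.b)) := by
  haveI : QuasiCompact i.g := inferInstance
  infer_instance

instance (i : MorIdx TX TS f) : QuasiSeparated (pullback.snd i.g (TS.pr i.b)) := by
  haveI : QuasiSeparated i.g := inferInstance
  infer_instance

end MorIdx

end

end Groth.Agent.Lib.helper9.AbsApprox
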