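/-
Helper library (helper9): absolute Noetherian approximation, part 22.
Relative approximation (Stacks 09MV): a quasi-compact quasi-separated scheme over a
quasi-separated scheme `S` is the limit of a directed inverse system of schemes of finite
presentation over `S` with affine transition maps.
-/
import Groth.Agent.Lib.Helper9.AbsApprox21

set_option autoImplicit false
set_option linter.style.haveILetI false
set_option backward.isDefEq.respectTransparency false

namespace Groth.Agent.Lib.helper9.AbsApprox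

open AlgebraicGeometry CategoryTheory Limits Opposite

universe u

/-- The image of a quasi-compact scheme is contained in a quasi-compact open. -/
theorem exists_isCompact_opens_range_le {X S : Scheme.{u}} (f : X ⟶ S) [CompactSpace X] :
    ∃ S' : S.Opens, IsCompact (S' : Set S) ∧ Set.range ⇑f ⊆ (S' : Set S) := by
  classical
  obtain ⟨t, ht⟩ := (isCompact_range f.continuous).elim_finite_subcover
    (fun U : S.affineOpens => ((U : S.Opens) : Set S)) (fun U => U.1.isOpen) (by
      intro x _
      obtain ⟨_, ⟨U, hU, rfl⟩, hxU, -⟩ :=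
        S.isBasis_affineOpens.exists_subset_of_mem_open (Set.mem_univ x) isOpen_univ
      exact Set.mem_iUnion.mpr ⟨⟨U, hU⟩, hxU⟩)
  refine ⟨⨆ U ∈ t, (U : S.Opens), ?_, ?_⟩
  · simp only [TopologicalSpace.Opens.coe_iSup]
    exact t.isCompact_biUnion fun U _ => U.2.isCompact
  · simpa only [TopologicalSpace.Opens.coe_iSup] using ht

/-- **Relative approximation**, in the category of schemes: the system, its structure
morphisms to `S`, the limit cone and its identification with `X`. -/
theorem exists_relative_approx {X S : Scheme.{u}} (f : X ⟶ S) [CompactSpace X]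
    [QuasiSeparatedSpace X] [QuasiSeparatedSpace S] :
    ∃ (I : Type u) (_ : Preorder I) (_ : IsDirected I (fun a b => a ≤ b)) (_ : Nonempty I)
      (D : Iᵒᵖ ⥤ Scheme.{u}) (t : D ⟶ (Functor.const Iᵒᵖ).obj S) (c : Cone D) (_ : IsLimit c)
      (e : c.pt ≅ X),
      (∀ i, c.π.app i ≫ t.app i = e.hom ≫ f) ∧
      (∀ i, LocallyOfFinitePresentation (t.app i) ∧ QuasiCompact (t.app i) ∧
        QuasiSeparated (t.app i)) ∧
      (∀ (i j : Iᵒᵖ) (a : i ⟶ j), IsAffineHom (D.map a)) := by
  obtain ⟨S', hS', hf⟩ := exists_isCompact_opens_range_le f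
  haveI : CompactSpace (S' : Scheme.{u}) := isCompact_iff_compactSpace.mp hS'
  haveI : QuasiSeparatedSpace (S' : Scheme.{u}) :=
    (isQuasiSeparated_iff_quasiSeparatedSpace _ S'.2).mp (.of_quasiSeparatedSpace _)
  obtain ⟨TX, ⟨eX⟩⟩ := hasApprox_of_qcqs X
  obtain ⟨TS, ⟨eS⟩⟩ := hasApprox_of_qcqs (S' : Scheme.{u})
  have hf' : Set.range ⇑f ⊆ Set.range ⇑S'.ι := by
    rw [Scheme.Opens.range_ι]
    exact hf
  let f₁ : X ⟶ (S' : Scheme.{u}) := IsOpenImmersion.lift S'.ι f hf'
  have hf₁ : f₁ ≫ S'.ι = f := IsOpenImmersion.lift_fac _ _ _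
  let f₂ : TX.c.pt ⟶ TS.c.pt := eX.hom ≫ f₁ ≫ eS.inv
  refine ⟨MorIdx TX TS f₂, inferInstance, inferInstance, inferInstance, MorIdx.DZ TX TS f₂,
    { app := fun i => pullback.snd i.unop.g (TS.pr i.unop.b) ≫ eS.hom ≫ S'.ι
      naturality := fun i j h => by
        simp only [Functor.const_obj_obj, Functor.const_obj_map, Category.comp_id]
        rw [MorIdx.DZ_map, MorIdx.Zmap_snd_assoc] },
    MorIdx.cZ TX TS f₂, MorIdx.isLimitCZ TX TS f₂, eX, ?_, ?_, ?_⟩
  · intro i
    show pullback.lift (TX.pr i.unop.a) f₂ i.unop.comm ≫ pullback.snd i.unop.g (TS.pr i.unop.b) ≫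
      eS.hom ≫ S'.ι = eX.hom ≫ f
    rw [pullback.lift_snd_assoc, ← hf₁]
    simp only [f₂, Category.assoc, Iso.inv_hom_id_assoc]
  · intro i
    refine ⟨?_, ?_, ?_⟩
    · show LocallyOfFinitePresentation (pullback.snd i.unop.g (TS.pr i.unop.b) ≫ eS.hom ≫ S'.ι)
      infer_instance
    · show QuasiCompact (pullback.snd i.unop.g (TS.pr i.unop.b) ≫ eS.hom ≫ S'.ι)
      infer_instance
    · show QuasiSeparated (pullback.snd i.unop.g (TS.pr i.unop.b) ≫ eS.hom ≫ S'.ι)
      infer_instance
  · intro i j a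
    infer_instance

end Groth.Agent.Lib.helper9.AbsApprox
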