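/-
Helper library (helper9): absolute Noetherian approximation, part 24.
Relative approximation with quasi-compact quasi-separated stages.
-/
import Groth.Agent.Lib.Helper9.AbsApprox22

set_option autoImplicit false
set_option linter.style.haveILetI false
set_option backward.isDefEq.respectTransparency false

namespace Groth.Agent.Lib.helper9.AbsApprox

open AlgebraicGeometry CategoryTheory Limits Opposite

universe u

instance {TX TS : Sys.{u}} {f : TX.c.pt ⟶ TS.c.pt} (i : MorIdx TX TS f) :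
    CompactSpace (MorIdx.Z i) :=
  QuasiCompact.compactSpace_of_compactSpace (pullback.snd i.g (TS.pr i.b))

instance {TX TS : Sys.{u}} {f : TX.c.pt ⟶ TS.c.pt} (i : MorIdx TX TS f) :
    QuasiSeparatedSpace (MorIdx.Z i) :=
  quasiSeparatedSpace_of_quasiSeparated (pullback.snd i.g (TS.pr i.b))

/-- **Relative approximation**, in the category of schemes, with quasi-compact quasi-separated
stages. -/
theorem exists_relative_approx' {X S : Scheme.{u}} (f : X ⟶ S) [CompactSpace X]
    [QuasiSeparatedSpace X] [QuasiSeparatedSpace S] :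
    ∃ (I : Type u) (_ : Preorder I) (_ : IsDirected I (fun a b => a ≤ b)) (_ : Nonempty I)
      (D : Iᵒᵖ ⥤ Scheme.{u}) (t : D ⟶ (Functor.const Iᵒᵖ).obj S) (c : Cone D) (_ : IsLimit c)
      (e : c.pt ≅ X),
      (∀ i, c.π.app i ≫ t.app i = e.hom ≫ f) ∧
      (∀ i, LocallyOfFinitePresentation (t.app i) ∧ QuasiCompact (t.app i) ∧
        QuasiSeparated (t.app i)) ∧
      (∀ (i j : Iᵒᵖ) (a : i ⟶ j), IsAffineHom (D.map a)) ∧
      (∀ i, CompactSpace (D.obj i) ∧ QuasiSeparatedSpace (D.obj i)) := by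
  obtain ⟨S', hS', hf⟩ := exists_isCompact_opens_range_le f
  haveI : CompactSpace (S' : Scheme.{u}) := isCompact_iff_compactSpace.mp hS'
  haveI : QuasiSeparatedSpace (S' : Scheme.{u}) :=
    (isQuasiSeparated_iff_quasiSeparatedSpace _ S'.2).mp (.of_quasiSeparatedSpace _)
  obtain ⟨TX, ⟨eX⟩⟩ := hasApprox_of_qcqs X
  obtain ⟨TS, ⟨eS⟩⟩ := hasApprox_of_qcqs (S' : Scheme.{u})
  have hf' : Set.range ⇑f ⊆ Set.range ⇑S'.ι := by
    rw [Scheme.Opens.range_ι]
    exact hf
  let f₁ : X ⟶ (S' : Scheme.{u}) := IsOpenImmersion.lift S'.ι f hf'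
  have hf₁ : f₁ ≫ S'.ι = f := IsOpenImmersion.lift_fac _ _ _
  let f₂ : TX.c.pt ⟶ TS.c.pt := eX.hom ≫ f₁ ≫ eS.inv
  refine ⟨MorIdx TX TS f₂, inferInstance, inferInstance, inferInstance, MorIdx.DZ TX TS f₂,
    { app := fun i => pullback.snd i.unop.g (TS.pr i.unop.b) ≫ eS.hom ≫ S'.ι
      naturality := fun i j h => by
        simp only [Functor.const_obj_obj, Functor.const_obj_map, Category.comp_id]
        rw [MorIdx.DZ_map, MorIdx.Zmap_snd_assoc] },
    MorIdx.cZ TX TS f₂, MorIdx.isLimitCZ TX TS f₂, eX, ?_, ?_, ?_, ?_⟩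
  · intro i
    show pullback.lift (TX.pr i.unop.a) f₂ i.unop.comm ≫ pullback.snd i.unop.g (TS.pr i.unop.b) ≫
      eS.hom ≫ S'.ι = eX.hom ≫ f
    rw [pullback.lift_snd_assoc, ← hf₁]
    simp only [f₂, Category.assoc, Iso.inv_hom_id_assoc]
  · intro i
    refine ⟨?_, ?_, ?_⟩
    · show LocallyOfFinitePresentation (pullback.snd i.unop.g (TS.pr i.unop.b) ≫ eS.hom ≫ S'.ι)
      infer_instance
    · show QuasiCompact (pullback.snd i.unop.g (TS.pr i.unop.b) ≫ eS.hom ≫ S'.ι)
      infer_instance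
    · show QuasiSeparated (pullback.snd i.unop.g (TS.pr i.unop.b) ≫ eS.hom ≫ S'.ι)
      infer_instance
  · intro i j a
    infer_instance
  · intro i
    exact ⟨inferInstanceAs (CompactSpace (MorIdx.Z i.unop)),
      inferInstanceAs (QuasiSeparatedSpace (MorIdx.Z i.unop))⟩

end Groth.Agent.Lib.helper9.AbsApprox
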