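/-
Helper library (helper9): absolute Noetherian approximation, part 27.
The closed subscheme defined by a directed supremum of ideal sheaves is the limit of the closed
subschemes defined by the members of the family.
-/
import Mathlib

set_option autoImplicit false
set_option linter.style.haveILetI false
set_option backward.isDefEq.respectTransparency false

namespace Groth.Agent.Lib.helper9.AbsApprox

open AlgebraicGeometry CategoryTheory Limits Opposite

universe u

noncomputable section

variable {Z : Scheme.{u}} {I : Type u} [Preorder I] (J : I → Z.IdealSheafData) (hJ : Monotone J)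

/-- the inverse system of the closed subschemes `V(J i)` -/
def subschemeSystem : Iᵒᵖ ⥤ Scheme.{u} where
  obj i := (J i.unop).subscheme
  map a := Scheme.IdealSheafData.inclusion (hJ (leOfHom a.unop))
  map_id _ := Scheme.IdealSheafData.inclusion_id _
  map_comp _ _ := (Scheme.IdealSheafData.inclusion_comp _ _).symm

/-- the closed immersions `V(J i) ⟶ Z` -/
def subschemeSystemι : subschemeSystem J hJ ⟶ (Functor.const Iᵒᵖ).obj Z where
  app i := (J i.unop).subschemeι
  naturality i j a := by
    simp only [Functor.const_obj_obj, Functor.const_obj_map, Category.comp_id]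
    exact Scheme.IdealSheafData.inclusion_subschemeι _

/-- the cone with vertex `V(⨆ J i)` -/
def subschemeCone : Cone (subschemeSystem J hJ) where
  pt := (⨆ i, J i).subscheme
  π :=
  { app := fun i => Scheme.IdealSheafData.inclusion (le_iSup J i.unop)
    naturality := fun i j a => by
      simp only [Functor.const_obj_obj, Functor.const_obj_map, Category.id_comp]
      exact (Scheme.IdealSheafData.inclusion_comp _ _).symm }

theorem subschemeCone_π_ι (i : Iᵒᵖ) :
    (subschemeCone J hJ).π.app i ≫ (subschemeSystemι J hJ).app i = (⨆ i, J i).subschemeι :=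
  Scheme.IdealSheafData.inclusion_subschemeι _

variable [IsDirected I (· ≤ ·)] [Nonempty I]

omit [Nonempty I] in
theorem cone_π_ι_eq (s : Cone (subschemeSystem J hJ)) (i j : Iᵒᵖ) :
    s.π.app i ≫ (J i.unop).subschemeι = s.π.app j ≫ (J j.unop).subschemeι := by
  obtain ⟨k, hik, hjk⟩ := exists_ge_ge i.unop j.unop
  have h1 := s.w (homOfLE hik).op
  have h2 := s.w (homOfLE hjk).op
  rw [← h1, ← h2, Category.assoc, Category.assoc]
  have e1 : (subschemeSystem J hJ).map (homOfLE hik).op ≫ (J i.unop).subschemeι =
      (J k).subschemeι := Scheme.IdealSheafData.inclusion_subschemeι _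
  have e2 : (subschemeSystem J hJ).map (homOfLE hjk).op ≫ (J j.unop).subschemeι =
      (J k).subschemeι := Scheme.IdealSheafData.inclusion_subschemeι _
  rw [e1, e2]

omit [Nonempty I] in
theorem iSup_le_ker (s : Cone (subschemeSystem J hJ)) (i₀ : Iᵒᵖ) :
    (⨆ i, J i).subschemeι.ker ≤ (s.π.app i₀ ≫ (J i₀.unop).subschemeι).ker := by
  rw [Scheme.IdealSheafData.ker_subschemeι]
  refine iSup_le fun i => ?_
  rw [cone_π_ι_eq J hJ s i₀ (op i)]
  conv_lhs => rw [← (J i).ker_subschemeι]
  exact Scheme.Hom.le_ker_comp _ _

/-- the cone with vertex `V(⨆ J i)` is a limit cone -/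
def isLimitSubschemeCone : IsLimit (subschemeCone J hJ) where
  lift s :=
    IsClosedImmersion.lift (⨆ i, J i).subschemeι
      (s.π.app (op (Classical.arbitrary I)) ≫ (J (Classical.arbitrary I)).subschemeι)
      (iSup_le_ker J hJ s _)
  fac s i := by
    rw [← cancel_mono (J i.unop).subschemeι, Category.assoc]
    erw [subschemeCone_π_ι J hJ i]
    rw [IsClosedImmersion.lift_fac]
    exact cone_π_ι_eq J hJ s _ _
  uniq s m hm := by
    rw [← cancel_mono (⨆ i, J i).subschemeι, IsClosedImmersion.lift_fac,
      ← subschemeCone_π_ι J hJ (op (Classical.arbitrary I)), ← Category.assoc, hm]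
    rfl

end

end Groth.Agent.Lib.helper9.AbsApprox
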