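/-
Helper library (helper9): absolute Noetherian approximation, part 28.
A closed subscheme of a quasi-compact quasi-separated scheme is a directed limit of closed
subschemes of finite presentation (Stacks 01PG / 09ZR in scheme form).
-/
import Groth.Agent.Lib.Helper9.AbsApprox24
import Groth.Agent.Lib.Helper9.AbsApprox27

set_option autoImplicit false
set_option linter.style.haveILetI false
set_option backward.isDefEq.respectTransparency false

namespace Groth.Agent.Lib.helper9.AbsApprox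

open AlgebraicGeometry CategoryTheory Limits Opposite

universe u

/-- The pullback of a section of an ideal sheaf lies in the pullback ideal sheaf. -/
theorem appLE_mem_comap_ideal {Z Y : Scheme.{u}} (f : Z ⟶ Y) (K : Y.IdealSheafData)
    (V : Y.affineOpens) (U : Z.affineOpens) (e : U.1 ≤ f ⁻¹ᵁ V.1) (y : Γ(Y, V.1))
    (hy : y ∈ K.ideal V) : (f.appLE V.1 U.1 e).hom y ∈ (K.comap f).ideal U := by
  rw [Scheme.IdealSheafData.comap, Scheme.Hom.ker_apply, RingHom.mem_ker]
  have h0 : (K.subschemeι.app V.1).hom y = 0 := by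
    rw [← RingHom.mem_ker, Scheme.IdealSheafData.ker_subschemeι_app]
    exact hy
  have h1 : f.appLE V.1 U.1 e ≫ (pullback.fst f K.subschemeι).app U.1 =
      K.subschemeι.app V.1 ≫ (pullback.snd f K.subschemeι).appLE (K.subschemeι ⁻¹ᵁ V.1)
        (pullback.fst f K.subschemeι ⁻¹ᵁ U.1) (by
          rw [← Scheme.Hom.comp_preimage, ← pullback.condition, Scheme.Hom.comp_preimage]
          exact Scheme.Hom.preimage_mono _ e) := by
    rw [Scheme.Hom.app_eq_appLE, Scheme.Hom.app_eq_appLE, Scheme.Hom.appLE_comp_appLE,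
      Scheme.Hom.appLE_comp_appLE]
    exact appLE_congr_hom pullback.condition _ _ _
  have h2 := congrArg (fun φ => (CommRingCat.Hom.hom φ) y) h1
  simp only [CommRingCat.comp_apply] at h2
  rw [h2, h0, map_zero]

noncomputable section

namespace Sys

variable (T : Sys.{u}) {X : Scheme.{u}} (ι : X ⟶ T.c.pt)

/-- the ideal sheaf of the scheme-theoretic image of `X` in the stage `b` -/
def Kb (b : T.I) : (T.X b).IdealSheafData := (ι ≫ T.pr b).ker

/-- the pullback to the limit of the ideal sheaf of the image of `X` in the stage `b` -/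
def Jb (b : T.I) : T.c.pt.IdealSheafData := (T.Kb ι b).comap (T.pr b)

theorem Kb_map {b b' : T.I} (h : b ≤ b') : (T.Kb ι b').map (T.tr h) = T.Kb ι b := by
  rw [Kb, Kb, Scheme.IdealSheafData.map_ker, Category.assoc, T.pr_tr]

theorem Jb_mono : Monotone (T.Jb ι) := fun b b' h => by
  rw [Jb, Jb, ← T.Kb_map ι h]
  have : T.pr b = T.pr b' ≫ T.tr h := (T.pr_tr h).symm
  rw [this, Scheme.IdealSheafData.comap_comp]
  exact Scheme.IdealSheafData.comap_mono _ (Scheme.IdealSheafData.comap_map_le _ _)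

theorem Jb_le (b : T.I) : T.Jb ι b ≤ ι.ker := by
  rw [Jb, Kb, ← Scheme.IdealSheafData.map_ker]
  exact Scheme.IdealSheafData.comap_map_le _ _

variable [IsClosedImmersion ι]

theorem ker_le_iSup_Jb : ι.ker ≤ ⨆ b, T.Jb ι b := by
  obtain ⟨b₀⟩ := T.ne
  refine Scheme.IdealSheafData.le_of_iSup_eq_top
    (fun V : (T.X b₀).affineOpens => (⟨T.pr b₀ ⁻¹ᵁ V.1, V.2.preimage _⟩ : T.c.pt.affineOpens))
    ?_ ?_
  · rw [eq_top_iff]
    intro x _
    obtain ⟨_, ⟨V, hV, rfl⟩, hxV, -⟩ :=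
      (T.X b₀).isBasis_affineOpens.exists_subset_of_mem_open (Set.mem_univ ((T.pr b₀) x))
        isOpen_univ
    exact TopologicalSpace.Opens.mem_iSup.mpr ⟨⟨V, hV⟩, hxV⟩
  · intro V x hx
    rw [Scheme.Hom.ker_apply, RingHom.mem_ker] at hx
    obtain ⟨b, h, y, hy⟩ := T.exists_section V.1 (T.pr b₀ ⁻¹ᵁ V.1) rfl x
    let Vb : (T.X b).affineOpens := ⟨T.tr h ⁻¹ᵁ V.1, V.2.preimage _⟩
    have hyK : y ∈ (T.Kb ι b).ideal Vb := by
      rw [Kb, Scheme.Hom.ker_apply, RingHom.mem_ker]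
      have e1 : ι ⁻¹ᵁ (T.pr b₀ ⁻¹ᵁ V.1) = (ι ≫ T.pr b) ⁻¹ᵁ Vb.1 := by
        rw [Scheme.Hom.comp_preimage, T.pr_preimage_tr]
      have h0 := app_eq_of_appLE_eq (ι ≫ T.pr b) Vb.1 (ι ⁻¹ᵁ (T.pr b₀ ⁻¹ᵁ V.1)) e1 y 0 (by
        rw [map_zero, ← hx, ← hy, ← CommRingCat.comp_apply, Scheme.Hom.app_eq_appLE,
          Scheme.Hom.appLE_comp_appLE])
      rw [h0, map_zero]
    have hmem := appLE_mem_comap_ideal (T.pr b) (T.Kb ι b) Vb
      ⟨T.pr b₀ ⁻¹ᵁ V.1, V.2.preimage _⟩ (by
        show T.pr b₀ ⁻¹ᵁ V.1 ≤ T.pr b ⁻¹ᵁ (T.tr h ⁻¹ᵁ V.1)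
        rw [T.pr_preimage_tr]) y hyK
    rw [hy] at hmem
    exact Scheme.IdealSheafData.ideal_mono (le_iSup (T.Jb ι) b) _ hmem

theorem iSup_Jb : ⨆ b, T.Jb ι b = ι.ker :=
  le_antisymm (iSup_le (T.Jb_le ι)) (T.ker_le_iSup_Jb ι)

instance (b : T.I) : LocallyOfFinitePresentation (T.Jb ι b).subschemeι := by
  haveI : LocallyOfFinitePresentation (T.Kb ι b).subschemeι :=
    locallyOfFinitePresentation_of_isLocallyNoetherian _
  rw [Jb, ← Scheme.IdealSheafData.comapIso_hom_fst]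
  infer_instance

end Sys

/-- **A closed subscheme of a quasi-compact quasi-separated scheme is a directed limit of closed
subschemes of finite presentation.** -/
theorem exists_closed_approx {X Z : Scheme.{u}} (ι : X ⟶ Z) [IsClosedImmersion ι]
    [CompactSpace Z] [QuasiSeparatedSpace Z] :
    ∃ (I : Type u) (_ : Preorder I) (_ : IsDirected I (fun a b => a ≤ b)) (_ : Nonempty I)
      (D : Iᵒᵖ ⥤ Scheme.{u}) (t : D ⟶ (Functor.const Iᵒᵖ).obj Z) (c : Cone D) (_ : IsLimit c)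
      (e : c.pt ≅ X),
      (∀ i, c.π.app i ≫ t.app i = e.hom ≫ ι) ∧
      (∀ i, IsClosedImmersion (t.app i) ∧ LocallyOfFinitePresentation (t.app i)) ∧
      (∀ (i j : Iᵒᵖ) (a : i ⟶ j), IsClosedImmersion (D.map a)) ∧
      (∀ i, IsClosedImmersion (c.π.app i)) := by
  obtain ⟨T, ⟨eZ⟩⟩ := hasApprox_of_qcqs Z
  obtain ⟨ι', hι'⟩ : ∃ ι' : X ⟶ T.c.pt, ι' = ι ≫ eZ.inv := ⟨_, rfl⟩
  haveI : IsClosedImmersion ι' := by rw [hι']; infer_instance
  have h1 : ι = ι' ≫ eZ.hom := by rw [hι', Category.assoc, Iso.inv_hom_id, Category.comp_id]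
  clear hι'
  have hJ := T.Jb_mono ι'
  have hsup : ⨆ b, T.Jb ι' b = ι'.ker := T.iSup_Jb ι'
  let e₁ : (⨆ b, T.Jb ι' b).subscheme ≅ ι'.ker.subscheme :=
    ⟨Scheme.IdealSheafData.inclusion hsup.ge, Scheme.IdealSheafData.inclusion hsup.le,
      by rw [Scheme.IdealSheafData.inclusion_comp, Scheme.IdealSheafData.inclusion_id],
      by rw [Scheme.IdealSheafData.inclusion_comp, Scheme.IdealSheafData.inclusion_id]⟩
  let e : (⨆ b, T.Jb ι' b).subscheme ≅ X := e₁ ≪≫ (asIso ι'.toImage).symm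
  have he : e.hom ≫ ι = (⨆ b, T.Jb ι' b).subschemeι ≫ eZ.hom := by
    have h2 : inv ι'.toImage ≫ ι' = ι'.ker.subschemeι := by
      rw [IsIso.inv_comp_eq, Scheme.Hom.toImage_imageι]
    show (Scheme.IdealSheafData.inclusion hsup.ge ≫ inv ι'.toImage) ≫ ι = _
    rw [h1, Category.assoc, reassoc_of% h2,
      Scheme.IdealSheafData.inclusion_subschemeι_assoc]
  have htn : ∀ {i j : T.Iᵒᵖ} (a : i ⟶ j),
      (subschemeSystem (T.Jb ι') hJ).map a ≫ (T.Jb ι' j.unop).subschemeι =
        (T.Jb ι' i.unop).subschemeι := fun a => Scheme.IdealSheafData.inclusion_subschemeι _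
  refine ⟨T.I, inferInstance, inferInstance, inferInstance, subschemeSystem (T.Jb ι') hJ,
    { app := fun i => (T.Jb ι' i.unop).subschemeι ≫ eZ.hom
      naturality := fun i j a => by
        simp only [Functor.const_obj_obj, Functor.const_obj_map, Category.comp_id]
        rw [reassoc_of% htn a] },
    subschemeCone (T.Jb ι') hJ, isLimitSubschemeCone (T.Jb ι') hJ, e, ?_, ?_, ?_, ?_⟩
  · intro i
    rw [he]
    show Scheme.IdealSheafData.inclusion _ ≫ (T.Jb ι' i.unop).subschemeι ≫ eZ.hom = _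
    rw [Scheme.IdealSheafData.inclusion_subschemeι_assoc]
  · intro i
    exact ⟨inferInstance, inferInstance⟩
  · intro i j a
    haveI : IsClosedImmersion ((subschemeSystem (T.Jb ι') hJ).map a ≫
        (T.Jb ι' j.unop).subschemeι) := by
      rw [htn a]
      infer_instance
    exact IsClosedImmersion.of_comp _ (T.Jb ι' j.unop).subschemeι
  · intro i
    haveI : IsClosedImmersion ((subschemeCone (T.Jb ι') hJ).π.app i ≫
        (T.Jb ι' i.unop).subschemeι) := by
      have : (subschemeCone (T.Jb ι') hJ).π.app i ≫ (T.Jb ι' i.unop).subschemeι =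
          (⨆ b, T.Jb ι' b).subschemeι := Scheme.IdealSheafData.inclusion_subschemeι _
      rw [this]
      infer_instance
    exact IsClosedImmersion.of_comp _ (T.Jb ι' i.unop).subschemeι

end

end Groth.Agent.Lib.helper9.AbsApprox
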