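/-
Helper library (helper9): a closed subscheme `Y` of a cofiltered limit `X = lim X_i` (affine
transition maps, quasi-compact stages) which is locally of finite type over a stage embeds as a
closed subscheme of some stage.
-/
import Groth.Agent.Lib.Helper9.ClosedImmRing
import Mathlib.AlgebraicGeometry.Morphisms.ClosedImmersion
import Mathlib.AlgebraicGeometry.Morphisms.FiniteType

set_option autoImplicit false
set_option linter.style.haveILetI false

namespace Groth.Agent.Lib.helper9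

open AlgebraicGeometry CategoryTheory Limits

universe u

section

variable {I : Type u} [SmallCategory I] [IsCofiltered I] (D : I ⥤ Scheme.{u}) (c : Cone D)
  (hc : IsLimit c) [hD : ∀ {i j : I} (f : i ⟶ j), IsAffineHom (D.map f)]

include hc in
/-- Local step: over an affine open `U` of a stage, the closed subscheme `Y` of the limit embeds
as a closed subscheme of the preimage of `U` in all small enough stages. -/
theorem exists_isClosedImmersion_morphismRestrict_stage (i₀ : I) {Y : Scheme.{u}} (h : Y ⟶ c.pt)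
    [IsClosedImmersion h] [LocallyOfFiniteType (h ≫ c.π.app i₀)] (U : (D.obj i₀).Opens)
    (hU : IsAffineOpen U) :
    ∃ j : Over i₀, ∀ (j' : Over i₀) (_ : j' ⟶ j),
      IsClosedImmersion ((h ≫ c.π.app j'.left) ∣_ (D.map j'.hom ⁻¹ᵁ U)) := by
  classical
  let J := Over i₀
  let DY : J ⥤ Scheme.{u} := opensDiagram D i₀ U
  let cY : Cone DY := opensCone D c i₀ U
  have hcY : IsLimit cY := isLimitOpensCone D c hc i₀ U
  have affY : ∀ j : J, IsAffine (DY.obj j) := fun j => hU.preimage (D.map _)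
  have hπ : IsAffineHom (c.π.app i₀) := isAffineHom_π_app D c hc i₀
  have hUc : IsAffineOpen (c.π.app i₀ ⁻¹ᵁ U) := hU.preimage (c.π.app i₀)
  have hYU : IsAffineOpen (h ⁻¹ᵁ (c.π.app i₀ ⁻¹ᵁ U)) := hUc.preimage h
  have affcY : IsAffine cY.pt := hUc
  have affcY' : IsAffine (c.π.app i₀ ⁻¹ᵁ U).toScheme := hUc
  have affYU' : IsAffine ((h ≫ c.π.app i₀) ⁻¹ᵁ U).toScheme := hYU
  let YU : Scheme.{u} := (h ⁻¹ᵁ (c.π.app i₀ ⁻¹ᵁ U)).toScheme
  have affYU : IsAffine YU := hYU
  let DX : J ⥤ Scheme.{u} := (Functor.const J).obj YU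
  let cX : Cone DX := { pt := YU, π := 𝟙 _ }
  have hle : ∀ j : J, h ⁻¹ᵁ (c.π.app i₀ ⁻¹ᵁ U) ≤ (h ≫ c.π.app j.left) ⁻¹ᵁ (D.map j.hom ⁻¹ᵁ U) := by
    intro j
    rw [← Scheme.Hom.comp_preimage, ← Scheme.Hom.comp_preimage, Category.assoc, c.w]
  let F : DX ⟶ DY :=
    { app := fun j => (h ≫ c.π.app j.left).resLE (D.map j.hom ⁻¹ᵁ U) _ (hle j)
      naturality := by
        intro j j' m
        show 𝟙 _ ≫ _ = _ ≫ (D.map m.left).resLE _ _ _
        rw [Category.id_comp, Scheme.Hom.resLE_comp_resLE]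
        congr 1
        rw [Category.assoc, c.w] }
  let Fc : cX.pt ⟶ cY.pt := h ∣_ (c.π.app i₀ ⁻¹ᵁ U)
  have hF : ∀ j, cX.π.app j ≫ F.app j = Fc ≫ cY.π.app j := by
    intro j
    show 𝟙 _ ≫ (h ≫ c.π.app j.left).resLE _ _ _ =
      (h ∣_ (c.π.app i₀ ⁻¹ᵁ U)) ≫ (c.π.app j.left).resLE _ _ _
    rw [Category.id_comp, ← Scheme.Hom.resLE_eq_morphismRestrict, Scheme.Hom.resLE_comp_resLE]
  have H1 : ∀ s : Γ(cY.pt, ⊤), ∃ (j : J) (t : Γ(DY.obj j, ⊤)), (cY.π.app j).appTop t = s :=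
    fun s => exists_appTop_π_eq_of_isAffine_of_isLimit DY cY hcY s
  have H2 : ∀ (j : J) (s t : Γ(DX.obj j, ⊤)), (cX.π.app j).appTop s = (cX.π.app j).appTop t →
      ∃ (j' : J) (m : j' ⟶ j), (DX.map m).appTop s = (DX.map m).appTop t :=
    fun j s t hst => ⟨j, 𝟙 j, hst⟩
  have H4 : Function.Surjective Fc.appTop :=
    (IsClosedImmersion.isAffine_surjective_of_isAffine (h ∣_ (c.π.app i₀ ⁻¹ᵁ U))).2
  -- generators of `Γ(Y_U)` over `Γ(U)`
  have : IsAffine U.toScheme := hU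
  have hft : (((h ≫ c.π.app i₀) ∣_ U).appTop).hom.FiniteType :=
    (HasRingHomProperty.iff_of_isAffine (P := @LocallyOfFiniteType)).mp inferInstance
  obtain ⟨s, hs⟩ := exists_finset_forall_subring_eq_top _ hft
  let j₀ : J := Over.mk (𝟙 i₀)
  obtain ⟨l, m, hl⟩ := exists_forall_mem_range_appTop_stage F cX cY Fc hF H1 H2 H4 j₀ s
  refine ⟨l, fun l' a => ?_⟩
  -- surjectivity at the stage `l`
  have hfac : ∀ j : J, (h ≫ c.π.app i₀) ∣_ U = F.app j ≫ (D.map j.hom) ∣_ U := by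
    intro j
    show _ = (h ≫ c.π.app j.left).resLE _ _ _ ≫ _
    rw [← Scheme.Hom.resLE_eq_morphismRestrict, ← Scheme.Hom.resLE_eq_morphismRestrict,
      Scheme.Hom.resLE_comp_resLE]
    congr 1
    rw [Category.assoc, c.w]
  have hsurj : Function.Surjective (F.app l).appTop := by
    let T : Subring Γ(YU, ⊤) := RingHom.range (F.app l).appTop.hom
    have hT : T = ⊤ := by
      refine hs T ?_ ?_
      · rintro _ ⟨y, rfl⟩
        refine ⟨((D.map l.hom) ∣_ U).appTop y, ?_⟩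
        exact (appTop_appTop _ _ y).trans (congrArg (fun q => q.appTop y) (hfac l).symm)
      · intro x hx
        exact hl x hx
    intro x
    have hx : x ∈ T := hT ▸ Subring.mem_top x
    exact hx
  have hsurj' : Function.Surjective (F.app l').appTop := by
    intro x
    obtain ⟨y, hy⟩ := hsurj x
    refine ⟨(DY.map a).appTop y, ?_⟩
    have hn := F.naturality a
    rw [appTop_appTop, ← hn]
    exact hy
  have : IsAffine (DX.obj l') := affYU
  have hcl : IsClosedImmersion (F.app l') :=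
    IsClosedImmersion.of_surjective_of_isAffine _ hsurj'
  have hcl' : IsClosedImmersion ((h ≫ c.π.app l'.left).resLE (D.map l'.hom ⁻¹ᵁ U) _ (hle l')) :=
    hcl
  rw [← Scheme.Hom.resLE_eq_morphismRestrict]
  have heq : h ⁻¹ᵁ (c.π.app i₀ ⁻¹ᵁ U) = (h ≫ c.π.app l'.left) ⁻¹ᵁ (D.map l'.hom ⁻¹ᵁ U) := by
    rw [← Scheme.Hom.comp_preimage, ← Scheme.Hom.comp_preimage, Category.assoc, c.w]
  exact (Scheme.Hom.resLE_congr (h ≫ c.π.app l'.left) (hle l') rfl heq @IsClosedImmersion).mp hcl'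

include hc in
/-- A closed subscheme of the limit, locally of finite type over a stage, is a closed subscheme
of some stage. -/
theorem exists_isClosedImmersion_comp_π [∀ i, CompactSpace (D.obj i)] (i₀ : I) {Y : Scheme.{u}}
    (h : Y ⟶ c.pt) [IsClosedImmersion h] [LocallyOfFiniteType (h ≫ c.π.app i₀)] :
    ∃ i : I, IsClosedImmersion (h ≫ c.π.app i) := by
  classical
  obtain ⟨s, hs, hcov⟩ := (isCompact_and_isOpen_iff_finite_and_eq_biUnion_affineOpens
    (U := (Set.univ : Set (D.obj i₀)))).mp ⟨isCompact_univ, isOpen_univ⟩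
  have hstage : ∀ V : s, ∃ j : Over i₀, ∀ (j' : Over i₀) (_ : j' ⟶ j),
      IsClosedImmersion ((h ≫ c.π.app j'.left) ∣_ (D.map j'.hom ⁻¹ᵁ V.1.1)) := fun V =>
    exists_isClosedImmersion_morphismRestrict_stage D c hc i₀ h V.1.1 V.1.2
  choose lV hlV using hstage
  have : Fintype s := hs.fintype
  obtain ⟨l, hl⟩ := IsCofiltered.inf_objs_exists (Finset.univ.image lV)
  have ml : ∀ V : s, l ⟶ lV V := fun V =>
    (hl (Finset.mem_image_of_mem _ (Finset.mem_univ V))).some
  refine ⟨l.left, ?_⟩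
  refine IsZariskiLocalAtTarget.of_iSup_eq_top (P := @IsClosedImmersion)
    (fun V : s => D.map l.hom ⁻¹ᵁ V.1.1) ?_ (fun V => hlV V l (ml V))
  rw [eq_top_iff]
  intro x _
  have hx : (D.map l.hom) x ∈ ⋃ i ∈ s, (i : Set (D.obj i₀)) := hcov ▸ Set.mem_univ _
  obtain ⟨V, hVs, hxV⟩ := Set.mem_iUnion₂.mp hx
  exact TopologicalSpace.Opens.mem_iSup.mpr ⟨⟨V, hVs⟩, hxV⟩

end

end Groth.Agent.Lib.helper9
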