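/-
Helper library (helper9): for a cofiltered system `X_i` of qcqs schemes, locally of finite type
over a qcqs scheme `S`, with closed immersions as transition maps: if `lim X_i ⟶ S` is a closed
immersion then so is `X_i ⟶ S` for all small enough `i`.
-/
import Groth.Agent.Lib.Helper9.ClosedImmRing
import Groth.Agent.S9200

set_option autoImplicit false
set_option linter.style.haveILetI false

namespace Groth.Agent.Lib.helper9

open AlgebraicGeometry CategoryTheory Limits

universe u

section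

variable {I : Type u} [SmallCategory I] [IsCofiltered I] (S : Scheme.{u})
  (D : I ⥤ Scheme.{u}) (t : D ⟶ (Functor.const I).obj S) (c : Cone D) (hc : IsLimit c)

omit [IsCofiltered I] in
theorem map_comp_structure {i j : I} (a : i ⟶ j) : D.map a ≫ t.app j = t.app i := by
  rw [t.naturality a]
  exact Category.comp_id _

omit [IsCofiltered I] in
theorem π_comp_structure_of_hom {i j : I} (a : i ⟶ j) :
    c.π.app i ≫ t.app i = c.π.app j ≫ t.app j := by
  rw [← map_comp_structure S D t a, c.w_assoc]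

/-- The structure map of the limit does not depend on the stage. -/
theorem π_comp_structure_eq (i j : I) : c.π.app i ≫ t.app i = c.π.app j ≫ t.app j := by
  rw [← π_comp_structure_of_hom S D t c (IsCofiltered.minToLeft i j),
    ← π_comp_structure_of_hom S D t c (IsCofiltered.minToRight i j)]

include hc in
/-- Local step over an affine open `V` of `S`, when the structure maps of the stages over `i₁`
are affine. -/
theorem exists_isClosedImmersion_structure_morphismRestrict
    [hD : ∀ (i j : I) (a : i ⟶ j), IsClosedImmersion (D.map a)]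
    [∀ i, LocallyOfFiniteType (t.app i)] (i₁ : I)
    (haff : ∀ (i : I) (_ : i ⟶ i₁), IsAffineHom (t.app i))
    [IsClosedImmersion (c.π.app i₁ ≫ t.app i₁)] (V : S.Opens) (hV : IsAffineOpen V) :
    ∃ l : Over i₁, ∀ (l' : Over i₁) (_ : l' ⟶ l), IsClosedImmersion (t.app l'.left ∣_ V) := by
  classical
  have hD' : ∀ {i j : I} (a : i ⟶ j), IsAffineHom (D.map a) := fun a => inferInstance
  let J := Over i₁
  have hti₁ : IsAffineHom (t.app i₁) := haff i₁ (𝟙 i₁)
  let U : (D.obj i₁).Opens := t.app i₁ ⁻¹ᵁ V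
  have hU : IsAffineOpen U := hV.preimage (t.app i₁)
  let DX : J ⥤ Scheme.{u} := opensDiagram D i₁ U
  let cX : Cone DX := opensCone D c i₁ U
  have hcX : IsLimit cX := isLimitOpensCone D c hc i₁ U
  have affX : ∀ j : J, IsAffine (DX.obj j) := fun j => hU.preimage (D.map _)
  have affV : IsAffine V.toScheme := hV
  let DY : J ⥤ Scheme.{u} := (Functor.const J).obj V.toScheme
  have affY : ∀ j : J, IsAffine (DY.obj j) := fun _ => hV
  let cY : Cone DY := { pt := V.toScheme, π := 𝟙 _ }
  have hle : ∀ j : J, D.map j.hom ⁻¹ᵁ U ≤ t.app j.left ⁻¹ᵁ V := by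
    intro j
    show D.map j.hom ⁻¹ᵁ (t.app i₁ ⁻¹ᵁ V) ≤ _
    rw [← Scheme.Hom.comp_preimage, map_comp_structure S D t j.hom]
  let F : DX ⟶ DY :=
    { app := fun j => (t.app j.left).resLE V (D.map j.hom ⁻¹ᵁ U) (hle j)
      naturality := by
        intro j j' m
        show (D.map m.left).resLE _ _ _ ≫ (t.app j'.left).resLE _ _ _ = _ ≫ 𝟙 _
        rw [Category.comp_id, Scheme.Hom.resLE_comp_resLE]
        congr 1
        exact map_comp_structure S D t m.left }
  let Fc : cX.pt ⟶ cY.pt := (c.π.app i₁ ≫ t.app i₁) ∣_ V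
  have hF : ∀ j, cX.π.app j ≫ F.app j = Fc ≫ cY.π.app j := by
    intro j
    show (c.π.app j.left).resLE _ _ _ ≫ (t.app j.left).resLE _ _ _ =
      ((c.π.app i₁ ≫ t.app i₁) ∣_ V) ≫ 𝟙 _
    rw [Category.comp_id, Scheme.Hom.resLE_comp_resLE, ← Scheme.Hom.resLE_eq_morphismRestrict]
    congr 1
    exact π_comp_structure_of_hom S D t c j.hom
  have H1 : ∀ s : Γ(cY.pt, ⊤), ∃ (j : J) (t : Γ(DY.obj j, ⊤)), (cY.π.app j).appTop t = s :=
    fun s => ⟨Over.mk (𝟙 i₁), s, rfl⟩
  have H2 : ∀ (j : J) (s t : Γ(DX.obj j, ⊤)), (cX.π.app j).appTop s = (cX.π.app j).appTop t →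
      ∃ (j' : J) (m : j' ⟶ j), (DX.map m).appTop s = (DX.map m).appTop t := by
    intro j s t hst
    obtain ⟨j', m, hm⟩ := exists_appTop_map_eq_zero_of_isAffine_of_isLimit DX cX hcX j (s - t)
      (by rw [map_sub, hst, sub_self])
    exact ⟨j', m, by rwa [map_sub, sub_eq_zero] at hm⟩
  have H4 : Function.Surjective Fc.appTop :=
    (IsClosedImmersion.isAffine_surjective_of_isAffine ((c.π.app i₁ ≫ t.app i₁) ∣_ V)).2
  let j₀ : J := Over.mk (𝟙 i₁)
  have hft : ((F.app j₀).appTop).hom.FiniteType := by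
    have : LocallyOfFiniteType (F.app j₀) :=
      (inferInstance : LocallyOfFiniteType ((t.app j₀.left).resLE V (D.map j₀.hom ⁻¹ᵁ U) (hle j₀)))
    exact (HasRingHomProperty.iff_of_isAffine (P := @LocallyOfFiniteType)).mp this
  obtain ⟨s, hs⟩ := exists_finset_forall_subring_eq_top _ hft
  obtain ⟨l, m, hl⟩ := exists_forall_mem_range_appTop_stage F cX cY Fc hF H1 H2 H4 j₀ s
  refine ⟨l, fun l' a => ?_⟩
  -- the transition maps of `DX` are closed immersions
  have hDXcl : ∀ {j j' : J} (b : j ⟶ j'), IsClosedImmersion (DX.map b) := by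
    intro j j' b
    show IsClosedImmersion ((D.map b.left).resLE _ _ _)
    have heq : D.map j.hom ⁻¹ᵁ U = D.map b.left ⁻¹ᵁ (D.map j'.hom ⁻¹ᵁ U) := by
      rw [← Over.w b, D.map_comp]
      rfl
    refine (Scheme.Hom.resLE_congr (D.map b.left) _ rfl heq @IsClosedImmersion).mpr ?_
    rw [Scheme.Hom.resLE_eq_morphismRestrict]
    infer_instance
  have hsurjm : Function.Surjective (DX.map m).appTop :=
    (IsClosedImmersion.isAffine_surjective_of_isAffine (DX.map m)).2
  have hsurj : Function.Surjective (F.app l).appTop := by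
    let T : Subring Γ(DX.obj j₀, ⊤) :=
      (RingHom.range (F.app l).appTop.hom).comap (DX.map m).appTop.hom
    have hT : T = ⊤ := by
      refine hs T ?_ ?_
      · rintro _ ⟨y, rfl⟩
        refine ⟨y, ?_⟩
        have hn := F.naturality m
        have h1 : (DX.map m).appTop ((F.app j₀).appTop y) = (DX.map m ≫ F.app j₀).appTop y :=
          appTop_appTop _ _ y
        rw [hn] at h1
        exact h1.symm
      · intro x hx
        exact hl x hx
    intro x
    obtain ⟨x', rfl⟩ := hsurjm x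
    have hx : x' ∈ T := hT ▸ Subring.mem_top x'
    exact hx
  have hcl : IsClosedImmersion (F.app l) :=
    IsClosedImmersion.of_surjective_of_isAffine _ hsurj
  have hcl' : IsClosedImmersion (F.app l') := by
    have hn : DX.map a ≫ F.app l = F.app l' := by
      have := F.naturality a
      rw [this]
      exact Category.comp_id _
    rw [← hn]
    infer_instance
  have hcl'' : IsClosedImmersion ((t.app l'.left).resLE V (D.map l'.hom ⁻¹ᵁ U) (hle l')) := hcl'
  rw [← Scheme.Hom.resLE_eq_morphismRestrict]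
  have heq : D.map l'.hom ⁻¹ᵁ U = t.app l'.left ⁻¹ᵁ V := by
    show D.map l'.hom ⁻¹ᵁ (t.app i₁ ⁻¹ᵁ V) = _
    rw [← Scheme.Hom.comp_preimage, map_comp_structure S D t l'.hom]
  exact (Scheme.Hom.resLE_congr (t.app l'.left) (hle l') rfl heq @IsClosedImmersion).mp hcl''

include hc in
/-- If `lim X_i ⟶ S` is a closed immersion, then so is `X_i ⟶ S` for all small enough `i`. -/
theorem exists_forall_isClosedImmersion_structure [CompactSpace S] [QuasiSeparatedSpace S]
    [hD : ∀ (i j : I) (a : i ⟶ j), IsClosedImmersion (D.map a)]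
    [∀ i, CompactSpace (D.obj i)] [∀ i, QuasiSeparatedSpace (D.obj i)]
    [∀ i, LocallyOfFiniteType (t.app i)] (i₀ : I) [IsClosedImmersion (c.π.app i₀ ≫ t.app i₀)] :
    ∃ i₁ : I, ∀ (i : I) (_ : i ⟶ i₁), IsClosedImmersion (t.app i) := by
  classical
  have hD' : ∀ (i j : I) (a : i ⟶ j), IsAffineHom (D.map a) := fun _ _ a => inferInstance
  have : IsAffineHom (c.π.app i₀ ≫ t.app i₀) := inferInstance
  obtain ⟨i₁, hi₁⟩ := Groth.Agent.S9200.result S D t c hc i₀
  have : IsClosedImmersion (c.π.app i₁ ≫ t.app i₁) := by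
    rw [π_comp_structure_eq S D t c i₁ i₀]
    infer_instance
  obtain ⟨s, hs, hcov⟩ := (isCompact_and_isOpen_iff_finite_and_eq_biUnion_affineOpens
    (U := (Set.univ : Set S))).mp ⟨isCompact_univ, isOpen_univ⟩
  have hstage : ∀ V : s, ∃ l : Over i₁, ∀ (l' : Over i₁) (_ : l' ⟶ l),
      IsClosedImmersion (t.app l'.left ∣_ V.1.1) := fun V =>
    exists_isClosedImmersion_structure_morphismRestrict S D t c hc i₁ hi₁ V.1.1 V.1.2
  choose lV hlV using hstage
  have : Fintype s := hs.fintype
  obtain ⟨l, hl⟩ := IsCofiltered.inf_objs_exists (Finset.univ.image lV)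
  have ml : ∀ V : s, l ⟶ lV V := fun V =>
    (hl (Finset.mem_image_of_mem _ (Finset.mem_univ V))).some
  refine ⟨l.left, fun i a => ?_⟩
  let l' : Over i₁ := Over.mk (a ≫ l.hom)
  let a' : l' ⟶ l := Over.homMk a
  refine IsZariskiLocalAtTarget.of_iSup_eq_top (P := @IsClosedImmersion)
    (fun V : s => V.1.1) ?_ (fun V => hlV V l' (a' ≫ ml V))
  rw [eq_top_iff]
  intro x _
  have hx : x ∈ ⋃ i ∈ s, (i : Set S) := hcov ▸ Set.mem_univ _
  obtain ⟨V, hVs, hxV⟩ := Set.mem_iUnion₂.mp hx
  exact TopologicalSpace.Opens.mem_iSup.mpr ⟨⟨V, hVs⟩, hxV⟩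

end

end Groth.Agent.Lib.helper9
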