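/-
Helper library (helper9): for a cofiltered system `X_i` of qcqs schemes, locally of finite type
over a qcqs scheme `S`, with finite transition maps: if `lim X_i ⟶ S` is integral then `X_i ⟶ S`
is finite for all small enough `i`.
-/
import Groth.Agent.Lib.Helper9.IntegralRing
import Groth.Agent.Lib.Helper9.ClosedImmStructure
import Mathlib.AlgebraicGeometry.Morphisms.Finite

set_option autoImplicit false
set_option linter.style.haveILetI false

namespace Groth.Agent.Lib.helper9

open AlgebraicGeometry CategoryTheory Limits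

universe u

section

variable {I : Type u} [SmallCategory I] [IsCofiltered I] (S : Scheme.{u})
  (D : I ⥤ Scheme.{u}) (t : D ⟶ (Functor.const I).obj S) (c : Cone D) (hc : IsLimit c)

include hc in
/-- Local step over an affine open `V` of `S`, when the structure maps of the stages over `i₁`
are affine. -/
theorem exists_isFinite_structure_morphismRestrict
    [hD : ∀ (i j : I) (a : i ⟶ j), IsFinite (D.map a)]
    [∀ i, LocallyOfFiniteType (t.app i)] (i₁ : I)
    (haff : ∀ (i : I) (_ : i ⟶ i₁), IsAffineHom (t.app i))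
    [IsIntegralHom (c.π.app i₁ ≫ t.app i₁)] (V : S.Opens) (hV : IsAffineOpen V) :
    ∃ l : Over i₁, ∀ (l' : Over i₁) (_ : l' ⟶ l), IsFinite (t.app l'.left ∣_ V) := by
  classical
  have hD' : ∀ {i j : I} (a : i ⟶ j), IsAffineHom (D.map a) := fun a => inferInstance
  let J := Over i₁
  have hti₁ : IsAffineHom (t.app i₁) := haff i₁ (𝟙 i₁)
  let U : (D.obj i₁).Opens := t.app i₁ ⁻¹ᵁ V
  have hU : IsAffineOpen U := hV.preimage (t.app i₁)
  let DX : J ⥤ Scheme.{u} := opensDiagram D i₁ U
  let cX : Cone DX := opensCone D c i₁ U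
  have hcX : IsLimit cX := isLimitOpensCone D c hc i₁ U
  have affX : ∀ j : J, IsAffine (DX.obj j) := fun j => hU.preimage (D.map _)
  have affV : IsAffine V.toScheme := hV
  let DY : J ⥤ Scheme.{u} := (Functor.const J).obj V.toScheme
  have affY : ∀ j : J, IsAffine (DY.obj j) := fun _ => hV
  let cY : Cone DY := { pt := V.toScheme, π := 𝟙 _ }
  have hle : ∀ j : J, D.map j.hom ⁻¹ᵁ U ≤ t.app j.left ⁻¹ᵁ V := by
    intro j
    show D.map j.hom ⁻¹ᵁ (t.app i₁ ⁻¹ᵁ V) ≤ _
    rw [← Scheme.Hom.comp_preimage, map_comp_structure S D t j.hom]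
  let F : DX ⟶ DY :=
    { app := fun j => (t.app j.left).resLE V (D.map j.hom ⁻¹ᵁ U) (hle j)
      naturality := by
        intro j j' m
        show (D.map m.left).resLE _ _ _ ≫ (t.app j'.left).resLE _ _ _ = _ ≫ 𝟙 _
        rw [Category.comp_id, Scheme.Hom.resLE_comp_resLE]
        congr 1
        exact map_comp_structure S D t m.left }
  let Fc : cX.pt ⟶ cY.pt := (c.π.app i₁ ≫ t.app i₁) ∣_ V
  have hF : ∀ j, cX.π.app j ≫ F.app j = Fc ≫ cY.π.app j := by
    intro j
    show (c.π.app j.left).resLE _ _ _ ≫ (t.app j.left).resLE _ _ _ =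
      ((c.π.app i₁ ≫ t.app i₁) ∣_ V) ≫ 𝟙 _
    rw [Category.comp_id, Scheme.Hom.resLE_comp_resLE, ← Scheme.Hom.resLE_eq_morphismRestrict]
    congr 1
    exact π_comp_structure_of_hom S D t c j.hom
  have H1 : ∀ s : Γ(cY.pt, ⊤), ∃ (j : J) (t : Γ(DY.obj j, ⊤)), (cY.π.app j).appTop t = s :=
    fun s => ⟨Over.mk (𝟙 i₁), s, rfl⟩
  have H2 : ∀ (j : J) (s t : Γ(DX.obj j, ⊤)), (cX.π.app j).appTop s = (cX.π.app j).appTop t →
      ∃ (j' : J) (m : j' ⟶ j), (DX.map m).appTop s = (DX.map m).appTop t := by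
    intro j s t hst
    obtain ⟨j', m, hm⟩ := exists_appTop_map_eq_zero_of_isAffine_of_isLimit DX cX hcX j (s - t)
      (by rw [map_sub, hst, sub_self])
    exact ⟨j', m, by rwa [map_sub, sub_eq_zero] at hm⟩
  have hFcint : Fc.appTop.hom.IsIntegral :=
    ((HasAffineProperty.iff_of_isAffine (P := @IsIntegralHom)).mp
      (inferInstance : IsIntegralHom ((c.π.app i₁ ≫ t.app i₁) ∣_ V))).2
  let j₀ : J := Over.mk (𝟙 i₁)
  have hlft : ∀ j : J, LocallyOfFiniteType (F.app j) := fun j =>
    (inferInstance : LocallyOfFiniteType ((t.app j.left).resLE V (D.map j.hom ⁻¹ᵁ U) (hle j)))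
  have hft : ((F.app j₀).appTop).hom.FiniteType :=
    (HasRingHomProperty.iff_of_isAffine (P := @LocallyOfFiniteType)).mp (hlft j₀)
  obtain ⟨s, hs⟩ := exists_finset_forall_subring_eq_top _ hft
  obtain ⟨l, m, hl⟩ := exists_forall_isIntegralElem_appTop_stage F cX cY Fc hF H1 H2 j₀ s
    (fun x _ => hFcint _)
  refine ⟨l, fun l' a => ?_⟩
  -- the transition maps of `DX` are finite
  have hDXfin : ∀ {j j' : J} (b : j ⟶ j'), IsFinite (DX.map b) := by
    intro j j' b
    show IsFinite ((D.map b.left).resLE _ _ _)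
    have heq : D.map j.hom ⁻¹ᵁ U = D.map b.left ⁻¹ᵁ (D.map j'.hom ⁻¹ᵁ U) := by
      rw [← Over.w b, D.map_comp]
      rfl
    refine (Scheme.Hom.resLE_congr (D.map b.left) _ rfl heq @IsFinite).mpr ?_
    rw [Scheme.Hom.resLE_eq_morphismRestrict]
    infer_instance
  -- integrality at the stage `l`
  have hρ : (DX.map m).appTop.hom.IsIntegral :=
    (Scheme.Hom.finite_appTop (DX.map m)).to_isIntegral
  have hcompl : (DX.map m).appTop.hom.comp (F.app j₀).appTop.hom = (F.app l).appTop.hom := by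
    rw [← appTop_hom_comp, F.naturality m]
    show (F.app l ≫ 𝟙 _).appTop.hom = _
    rw [Category.comp_id]
  have hint : (F.app l).appTop.hom.IsIntegral := by
    rw [← hcompl]
    refine isIntegral_comp_of_forall_isIntegralElem _ _ hρ ?_
    rw [hcompl]
    let T : Subring Γ(DX.obj j₀, ⊤) :=
      integralPreimageSubring (F.app l).appTop.hom (DX.map m).appTop.hom
    have hT : T = ⊤ := by
      refine hs T ?_ ?_
      · rintro _ ⟨y, rfl⟩
        rw [mem_integralPreimageSubring]
        have e : (DX.map m).appTop.hom ((F.app j₀).appTop.hom y) =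
            (F.app l).appTop.hom y := congrArg (fun q => q y) hcompl
        rw [e]
        exact (F.app l).appTop.hom.isIntegralElem_map
      · intro x hx
        exact (mem_integralPreimageSubring _ _ x).mpr (hl x hx)
    intro b₀
    have hb : b₀ ∈ T := hT ▸ Subring.mem_top b₀
    exact (mem_integralPreimageSubring _ _ b₀).mp hb
  have hfinl : IsFinite (F.app l) := by
    rw [IsFinite.iff_isIntegralHom_and_locallyOfFiniteType]
    refine ⟨?_, hlft l⟩
    rw [HasAffineProperty.iff_of_isAffine (P := @IsIntegralHom)]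
    exact ⟨affX l, hint⟩
  have hfinl' : IsFinite (F.app l') := by
    have hn : DX.map a ≫ F.app l = F.app l' := by
      have := F.naturality a
      rw [this]
      exact Category.comp_id _
    rw [← hn]
    have := hDXfin a
    infer_instance
  have hcl'' : IsFinite ((t.app l'.left).resLE V (D.map l'.hom ⁻¹ᵁ U) (hle l')) := hfinl'
  rw [← Scheme.Hom.resLE_eq_morphismRestrict]
  have heq : D.map l'.hom ⁻¹ᵁ U = t.app l'.left ⁻¹ᵁ V := by
    show D.map l'.hom ⁻¹ᵁ (t.app i₁ ⁻¹ᵁ V) = _
    rw [← Scheme.Hom.comp_preimage, map_comp_structure S D t l'.hom]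
  exact (Scheme.Hom.resLE_congr (t.app l'.left) (hle l') rfl heq @IsFinite).mp hcl''

include hc in
/-- If `lim X_i ⟶ S` is integral, then `X_i ⟶ S` is finite for all small enough `i`. -/
theorem exists_forall_isFinite_structure [CompactSpace S] [QuasiSeparatedSpace S]
    [hD : ∀ (i j : I) (a : i ⟶ j), IsFinite (D.map a)]
    [∀ i, CompactSpace (D.obj i)] [∀ i, QuasiSeparatedSpace (D.obj i)]
    [∀ i, LocallyOfFiniteType (t.app i)] (i₀ : I) [IsIntegralHom (c.π.app i₀ ≫ t.app i₀)] :
    ∃ i₁ : I, ∀ (i : I) (_ : i ⟶ i₁), IsFinite (t.app i) := by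
  classical
  have hD' : ∀ (i j : I) (a : i ⟶ j), IsAffineHom (D.map a) := fun _ _ a => inferInstance
  have : IsAffineHom (c.π.app i₀ ≫ t.app i₀) := inferInstance
  obtain ⟨i₁, hi₁⟩ := Groth.Agent.S9200.result S D t c hc i₀
  have : IsIntegralHom (c.π.app i₁ ≫ t.app i₁) := by
    rw [π_comp_structure_eq S D t c i₁ i₀]
    infer_instance
  obtain ⟨s, hs, hcov⟩ := (isCompact_and_isOpen_iff_finite_and_eq_biUnion_affineOpens
    (U := (Set.univ : Set S))).mp ⟨isCompact_univ, isOpen_univ⟩
  have hstage : ∀ V : s, ∃ l : Over i₁, ∀ (l' : Over i₁) (_ : l' ⟶ l),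
      IsFinite (t.app l'.left ∣_ V.1.1) := fun V =>
    exists_isFinite_structure_morphismRestrict S D t c hc i₁ hi₁ V.1.1 V.1.2
  choose lV hlV using hstage
  have : Fintype s := hs.fintype
  obtain ⟨l, hl⟩ := IsCofiltered.inf_objs_exists (Finset.univ.image lV)
  have ml : ∀ V : s, l ⟶ lV V := fun V =>
    (hl (Finset.mem_image_of_mem _ (Finset.mem_univ V))).some
  refine ⟨l.left, fun i a => ?_⟩
  let l' : Over i₁ := Over.mk (a ≫ l.hom)
  let a' : l' ⟶ l := Over.homMk a
  refine IsZariskiLocalAtTarget.of_iSup_eq_top (P := @IsFinite)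
    (fun V : s => V.1.1) ?_ (fun V => hlV V l' (a' ≫ ml V))
  rw [eq_top_iff]
  intro x _
  have hx : x ∈ ⋃ i ∈ s, (i : Set S) := hcov ▸ Set.mem_univ _
  obtain ⟨V, hVs, hxV⟩ := Set.mem_iUnion₂.mp hx
  exact TopologicalSpace.Opens.mem_iSup.mpr ⟨⟨V, hVs⟩, hxV⟩

end

end Groth.Agent.Lib.helper9
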