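/-
Helper library (helper9): for a cofiltered system `X_i` of qcqs schemes over a quasi-separated
scheme `S` with affine transition maps: if `lim X_i ⟶ S` is separated then so is `X_i ⟶ S` for
all small enough `i`.
-/
import Groth.Agent.Lib.Helper9.ClosedImmDescend
import Groth.Agent.Lib.Helper9.ClosedImmIntoStage
import Mathlib.AlgebraicGeometry.Morphisms.Separated

set_option autoImplicit false
set_option linter.style.haveILetI false
set_option backward.isDefEq.respectTransparency false

namespace Groth.Agent.Lib.helper9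

open AlgebraicGeometry CategoryTheory Limits

universe u

section prodsys

variable {I : Type u} [SmallCategory I] (D : I ⥤ Scheme.{u}) (c : Cone D)
  {S : Scheme.{u}} (τ : ∀ i, D.obj i ⟶ S) (hτ : ∀ {i j : I} (a : i ⟶ j), D.map a ≫ τ j = τ i)
  {A : Scheme.{u}} (f : A ⟶ S)

/-- The system `A ×_S X_i`. -/
noncomputable def prodDiagram : I ⥤ Scheme.{u} where
  obj i := pullback f (τ i)
  map {i j} a := pullback.map f (τ i) f (τ j) (𝟙 _) (D.map a) (𝟙 _)
    (by rw [Category.id_comp, Category.comp_id]) (by rw [Category.comp_id, hτ])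
  map_id i := by
    apply pullback.hom_ext
    · simp [pullback.map]
    · simp [pullback.map]
  map_comp a b := by
    apply pullback.hom_ext
    · simp [pullback.map]
    · simp [pullback.map]

/-- The cone `A ×_S lim X_i` over the system `A ×_S X_i`. -/
noncomputable def prodCone (f' : c.pt ⟶ S) (hf : ∀ i, c.π.app i ≫ τ i = f') :
    Cone (prodDiagram D τ hτ f) where
  pt := pullback f f'
  π :=
    { app := fun i => pullback.map f f' f (τ i) (𝟙 _) (c.π.app i) (𝟙 _)
        (by rw [Category.id_comp, Category.comp_id]) (by rw [Category.comp_id, hf])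
      naturality := by
        intro i j a
        apply pullback.hom_ext
        · simp [prodDiagram, pullback.map]
        · simp [prodDiagram, pullback.map] }

@[simp]
theorem prodCone_π_fst (f' : c.pt ⟶ S) (hf : ∀ i, c.π.app i ≫ τ i = f') (i : I) :
    (prodCone D c τ hτ f f' hf).π.app i ≫ pullback.fst f (τ i) = pullback.fst f f' := by
  simp [prodCone, pullback.map]

@[simp]
theorem prodCone_π_snd (f' : c.pt ⟶ S) (hf : ∀ i, c.π.app i ≫ τ i = f') (i : I) :
    (prodCone D c τ hτ f f' hf).π.app i ≫ pullback.snd f (τ i) =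
      pullback.snd f f' ≫ c.π.app i := by
  simp [prodCone, pullback.map]

theorem prodDiagram_map_fst {i j : I} (a : i ⟶ j) :
    (prodDiagram D τ hτ f).map a ≫ pullback.fst f (τ j) = pullback.fst f (τ i) := by
  simp [prodDiagram, pullback.map]

theorem prodDiagram_map_snd {i j : I} (a : i ⟶ j) :
    (prodDiagram D τ hτ f).map a ≫ pullback.snd f (τ j) = pullback.snd f (τ i) ≫ D.map a := by
  simp [prodDiagram, pullback.map]

/-- The cone `A ×_S lim X_i` is a limit cone. -/
noncomputable def isLimitProdCone [IsCofiltered I] (hc : IsLimit c) (f' : c.pt ⟶ S)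
    (hf : ∀ i, c.π.app i ≫ τ i = f') : IsLimit (prodCone D c τ hτ f f' hf) := by
  have hfst : ∀ (s : Cone (prodDiagram D τ hτ f)) (i j : I),
      s.π.app i ≫ pullback.fst f (τ i) = s.π.app j ≫ pullback.fst f (τ j) := by
    intro s i j
    have h1 : ∀ {i j : I} (a : i ⟶ j),
        s.π.app i ≫ pullback.fst f (τ i) = s.π.app j ≫ pullback.fst f (τ j) := by
      intro i j a
      rw [← s.w a, Category.assoc, prodDiagram_map_fst]
    rw [← h1 (IsCofiltered.minToLeft i j), ← h1 (IsCofiltered.minToRight i j)]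
  let i₀ : I := (IsCofiltered.nonempty (C := I)).some
  let sc : ∀ s : Cone (prodDiagram D τ hτ f), Cone D := fun s =>
    { pt := s.pt
      π :=
        { app := fun i => s.π.app i ≫ pullback.snd f (τ i)
          naturality := by
            intro i j a
            show 𝟙 _ ≫ s.π.app j ≫ pullback.snd f (τ j) =
              (s.π.app i ≫ pullback.snd f (τ i)) ≫ D.map a
            rw [Category.id_comp, Category.assoc, ← prodDiagram_map_snd D τ hτ f a,
              ← Category.assoc, s.w a] } }
  refine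
    { lift := fun s => pullback.lift (s.π.app i₀ ≫ pullback.fst f (τ i₀)) (hc.lift (sc s)) ?_
      fac := ?_
      uniq := ?_ }
  · rw [← hf i₀, ← Category.assoc (hc.lift (sc s)), hc.fac]
    show _ = (s.π.app i₀ ≫ pullback.snd f (τ i₀)) ≫ τ i₀
    rw [Category.assoc, Category.assoc, pullback.condition]
  · intro s i
    apply pullback.hom_ext
    · rw [Category.assoc, prodCone_π_fst, pullback.lift_fst]
      exact hfst s i₀ i
    · rw [Category.assoc, prodCone_π_snd, pullback.lift_snd_assoc, hc.fac]
  · intro s m hm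
    apply pullback.hom_ext
    · rw [pullback.lift_fst, ← hm i₀, Category.assoc, prodCone_π_fst]
    · rw [pullback.lift_snd]
      apply hc.uniq (sc s)
      intro i
      show _ = s.π.app i ≫ pullback.snd f (τ i)
      rw [← hm i, Category.assoc, Category.assoc, prodCone_π_snd]

end prodsys

section main

variable {I : Type u} [SmallCategory I] [IsCofiltered I] (S : Scheme.{u}) [QuasiSeparatedSpace S]
  (D : I ⥤ Scheme.{u}) (c : Cone D) (hc : IsLimit c)
  [hD : ∀ (i j : I) (a : i ⟶ j), IsAffineHom (D.map a)]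
  [∀ i, CompactSpace (D.obj i)] [∀ i, QuasiSeparatedSpace (D.obj i)]
  (τ : ∀ i, D.obj i ⟶ S) (hτ : ∀ {i j : I} (a : i ⟶ j), D.map a ≫ τ j = τ i)
  (f : c.pt ⟶ S) (hf : ∀ i, c.π.app i ≫ τ i = f)

include hc hτ in
/-- Step 1: if `X = lim X_i ⟶ S` is separated, some graph `X ⟶ X ×_S X_b` is a closed
immersion. -/
theorem exists_isClosedImmersion_graph [IsSeparated f] :
    ∃ b : I, IsClosedImmersion (pullback.lift (𝟙 c.pt) (c.π.app b)
      (by rw [Category.id_comp, hf]) : c.pt ⟶ pullback f (τ b)) := by
  have hD' : ∀ {i j : I} (a : i ⟶ j), IsAffineHom (D.map a) := fun a => hD _ _ a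
  have : CompactSpace c.pt := Scheme.compactSpace_of_isLimit D c hc
  let PD := prodDiagram D τ hτ f
  let Pc := prodCone D c τ hτ f f hf
  have hPc : IsLimit Pc := isLimitProdCone D c τ hτ f hc f hf
  have hPaff : ∀ {i j : I} (a : i ⟶ j), IsAffineHom (PD.map a) := by
    intro i j a
    exact MorphismProperty.pullbackMap (P := @IsAffineHom)
      (inferInstance : IsAffineHom (𝟙 c.pt)) (hD' a) (Category.id_comp f).symm (hτ a).symm
  have hPcomp : ∀ b, CompactSpace (PD.obj b) := by
    intro b
    have : QuasiCompact (τ b) := inferInstance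
    exact QuasiCompact.compactSpace_of_compactSpace (pullback.fst f (τ b))
  let i₀ : I := (IsCofiltered.nonempty (C := I)).some
  let h : c.pt ⟶ Pc.pt := pullback.diagonal f
  have hh : IsClosedImmersion h := inferInstance
  have hgraph : ∀ b, h ≫ Pc.π.app b =
      pullback.lift (𝟙 c.pt) (c.π.app b) (by rw [Category.id_comp, hf]) := by
    intro b
    apply pullback.hom_ext
    · rw [Category.assoc, prodCone_π_fst, pullback.lift_fst]
      exact pullback.diagonal_fst f
    · rw [Category.assoc, prodCone_π_snd, pullback.lift_snd]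
      show pullback.diagonal f ≫ pullback.snd f f ≫ c.π.app b = _
      rw [pullback.diagonal_snd_assoc]
  have : LocallyOfFiniteType (h ≫ Pc.π.app i₀) := by
    have : LocallyOfFiniteType ((h ≫ Pc.π.app i₀) ≫ pullback.fst f (τ i₀)) := by
      rw [hgraph, pullback.lift_fst]
      infer_instance
    exact locallyOfFiniteType_of_comp (h ≫ Pc.π.app i₀) (pullback.fst f (τ i₀))
  obtain ⟨b, hb⟩ := exists_isClosedImmersion_comp_π PD Pc hPc i₀ h
  exact ⟨b, hgraph b ▸ hb⟩

include hc hτ in
/-- Step 2: if the graph `X ⟶ X ×_S X_b` is a closed immersion, then `X_i ⟶ S` is separated for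
some `i` over `b`. -/
theorem exists_isSeparated_of_isClosedImmersion_graph (b : I)
    (hb : IsClosedImmersion (pullback.lift (𝟙 c.pt) (c.π.app b)
      (by rw [Category.id_comp, hf]) : c.pt ⟶ pullback f (τ b))) :
    ∃ (i : I) (_ : i ⟶ b), IsSeparated (τ i) := by
  obtain rfl : c.π.app b ≫ τ b = f := hf b
  -- the data over the stage `b`
  have : QuasiCompact (τ b) := inferInstance
  have : QuasiSeparated (τ b) := inferInstance
  have : CompactSpace ↥(pullback (τ b) (τ b)) :=
    QuasiCompact.compactSpace_of_compactSpace (pullback.fst (τ b) (τ b))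
  have : QuasiSeparatedSpace ↥(pullback (τ b) (τ b)) :=
    quasiSeparatedSpace_of_quasiSeparated (pullback.fst (τ b) (τ b))
  have : LocallyOfFiniteType (pullback.diagonal (τ b)) := inferInstance
  -- the two squares for a map `φ : T ⟶ X_b`
  have hYφ : ∀ {T : Scheme.{u}} (φ : T ⟶ D.obj b),
      IsPullback (pullback.map (φ ≫ τ b) (τ b) (τ b) (τ b) φ (𝟙 _) (𝟙 _)
        (by rw [Category.comp_id]) (by rw [Category.comp_id, Category.id_comp]))
        (pullback.fst (φ ≫ τ b) (τ b)) (pullback.fst (τ b) (τ b)) φ := by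
    intro T φ
    refine IsPullback.of_right ?_ (by simp [pullback.map])
      (IsPullback.of_hasPullback (τ b) (τ b)).flip
    have e : pullback.map (φ ≫ τ b) (τ b) (τ b) (τ b) φ (𝟙 _) (𝟙 _)
        (by rw [Category.comp_id]) (by rw [Category.comp_id, Category.id_comp]) ≫
          pullback.snd (τ b) (τ b) = pullback.snd (φ ≫ τ b) (τ b) := by
      simp [pullback.map]
    rw [e]
    exact (IsPullback.of_hasPullback (φ ≫ τ b) (τ b)).flip
  have hXφ : ∀ {T : Scheme.{u}} (φ : T ⟶ D.obj b),
      IsPullback φ (pullback.lift (𝟙 T) φ (by rw [Category.id_comp]))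
        (pullback.diagonal (τ b))
        (pullback.map (φ ≫ τ b) (τ b) (τ b) (τ b) φ (𝟙 _) (𝟙 _)
          (by rw [Category.comp_id]) (by rw [Category.comp_id, Category.id_comp])) :=
    fun φ => pullback_lift_diagonal_isPullback φ (τ b)
  have : IsClosedImmersion (stageMap (c.π.app b) (pullback.diagonal (τ b))
      (pullback.fst (τ b) (τ b))) :=
    (stageMap_iff_of_isPullback @IsClosedImmersion (hYφ (c.π.app b)) (hXφ (c.π.app b))).mpr hb
  obtain ⟨l, hl⟩ := exists_isClosedImmersion_stageMap D c hc b (pullback.diagonal (τ b))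
    (pullback.fst (τ b) (τ b))
  have hΓ : IsClosedImmersion (pullback.lift (𝟙 (D.obj l.left)) (D.map l.hom)
      (by rw [Category.id_comp]) : D.obj l.left ⟶ pullback (D.map l.hom ≫ τ b) (τ b)) :=
    (stageMap_iff_of_isPullback @IsClosedImmersion (hYφ (D.map l.hom)) (hXφ (D.map l.hom))).mp hl
  refine ⟨l.left, l.hom, ?_⟩
  -- the diagonal of `X_l ⟶ S` followed by `id × φ` is the graph
  let φ := D.map l.hom
  let m : pullback (φ ≫ τ b) (φ ≫ τ b) ⟶ pullback (φ ≫ τ b) (τ b) :=
    pullback.map (φ ≫ τ b) (φ ≫ τ b) (φ ≫ τ b) (τ b) (𝟙 _) φ (𝟙 _)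
      (by rw [Category.comp_id, Category.id_comp]) (by rw [Category.comp_id])
  have hm : IsAffineHom m :=
    MorphismProperty.pullbackMap (P := @IsAffineHom)
      (inferInstance : IsAffineHom (𝟙 (D.obj l.left))) (hD _ _ l.hom)
      (Category.id_comp (φ ≫ τ b)).symm rfl
  have hms : IsSeparated m := IsSeparated.of_isAffineHom m
  have hcomp : pullback.diagonal (φ ≫ τ b) ≫ m =
      pullback.lift (𝟙 (D.obj l.left)) φ (by rw [Category.id_comp]) := by
    apply pullback.hom_ext
    · simp [m, pullback.map]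
    · simp [m, pullback.map]
  have : IsClosedImmersion (pullback.diagonal (φ ≫ τ b) ≫ m) := by
    rw [hcomp]
    exact hΓ
  have hΔ : IsClosedImmersion (pullback.diagonal (φ ≫ τ b)) :=
    IsClosedImmersion.of_comp (pullback.diagonal (φ ≫ τ b)) m
  have hsep : IsSeparated (φ ≫ τ b) := ⟨hΔ⟩
  exact hτ l.hom ▸ hsep

include hc hτ in
/-- If `lim X_i ⟶ S` is separated, then so is `X_i ⟶ S` for all small enough `i`. -/
theorem exists_forall_isSeparated_structure (i₀ : I) [IsSeparated (c.π.app i₀ ≫ τ i₀)] :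
    ∃ i₁ : I, ∀ (i : I) (_ : i ⟶ i₁), IsSeparated (τ i) := by
  have h1 : ∀ {i j : I} (a : i ⟶ j), c.π.app i ≫ τ i = c.π.app j ≫ τ j := by
    intro i j a
    rw [← hτ a, c.w_assoc]
  have hf : ∀ i, c.π.app i ≫ τ i = c.π.app i₀ ≫ τ i₀ := by
    intro i
    rw [← h1 (IsCofiltered.minToLeft i i₀), ← h1 (IsCofiltered.minToRight i i₀)]
  obtain ⟨b, hb⟩ := exists_isClosedImmersion_graph S D c hc τ hτ (c.π.app i₀ ≫ τ i₀) hf
  obtain ⟨i₁, a₁, hi₁⟩ := exists_isSeparated_of_isClosedImmersion_graph S D c hc τ hτ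
    (c.π.app i₀ ≫ τ i₀) hf b hb
  refine ⟨i₁, fun i a => ?_⟩
  have : IsSeparated (D.map a) := IsSeparated.of_isAffineHom (D.map a)
  rw [← hτ a]
  infer_instance

end main

end Groth.Agent.Lib.helper9
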