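/-
Helper library (helper9): for a cofiltered system `X_i` of qcqs schemes, locally of finite type
over a qcqs scheme `S`, with closed immersions as transition maps: if `lim X_i ⟶ S` is proper
then so is `X_i ⟶ S` for all small enough `i`.  (Uses Chow's lemma `S7409`.)
-/
import Groth.Agent.Lib.Helper9.SeparatedStructure
import Groth.Agent.Lib.Helper9.ClosedImmStructure
import Groth.Agent.Lib.Helper9.LimBaseChange
import Groth.Agent.Lib.Helper19.ProjSpaceProper
import Groth.Agent.S7409

set_option autoImplicit false
set_option linter.style.haveILetI false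
set_option backward.isDefEq.respectTransparency false

namespace Groth.Agent.Lib.helper9

open AlgebraicGeometry CategoryTheory Limits

universe u

section mono

variable {C : Type*} [Category C] {I : Type*} [Category I] [IsCofiltered I] (D : I ⥤ C)
  (c : Cone D) (hc : IsLimit c)

include hc in
/-- The projections from a cofiltered limit with monomorphic transition maps are monomorphisms. -/
theorem mono_π_app_of_mono (hD : ∀ {i j : I} (a : i ⟶ j), Mono (D.map a)) (k : I) :
    Mono (c.π.app k) := by
  constructor
  intro T u v huv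
  apply hc.hom_ext
  intro i
  have := hD (IsCofiltered.minToRight i k)
  have h1 : u ≫ c.π.app (IsCofiltered.min i k) = v ≫ c.π.app (IsCofiltered.min i k) := by
    rw [← cancel_mono (D.map (IsCofiltered.minToRight i k)), Category.assoc, Category.assoc, c.w,
      huv]
  rw [← c.w (IsCofiltered.minToLeft i k), reassoc_of% h1]

end mono

section bc

variable {I : Type u} [SmallCategory I] (D : I ⥤ Scheme.{u}) (k : I) {T : Scheme.{u}}
  (g : T ⟶ D.obj k)

instance isClosedImmersion_bcDiagram_map
    [hD : ∀ (i j : I) (f : i ⟶ j), IsClosedImmersion (D.map f)] {j j' : Over k} (f : j ⟶ j') :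
    IsClosedImmersion ((bcDiagram D k g).map f) := by
  haveI h1 : IsClosedImmersion (D.map j.hom) := hD _ _ j.hom
  haveI h2 : IsClosedImmersion (D.map j'.hom) := hD _ _ j'.hom
  haveI : IsClosedImmersion ((bcDiagram D k g).map f ≫ pullback.snd (D.map j'.hom) g) := by
    have : (bcDiagram D k g).map f ≫ pullback.snd (D.map j'.hom) g =
        pullback.snd (D.map j.hom) g := by simp [pullback.map]
    rw [this]
    exact MorphismProperty.pullback_snd (P := @IsClosedImmersion) _ _ h1
  haveI : IsClosedImmersion (pullback.snd (D.map j'.hom) g) :=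
    MorphismProperty.pullback_snd (P := @IsClosedImmersion) _ _ h2
  exact IsClosedImmersion.of_comp _ (pullback.snd (D.map j'.hom) g)

end bc

section main

variable {I : Type u} [SmallCategory I] [IsCofiltered I] (S : Scheme.{u})
  (D : I ⥤ Scheme.{u}) (t : D ⟶ (Functor.const I).obj S) (c : Cone D) (hc : IsLimit c)

include hc in
/-- If `lim X_i ⟶ S` is proper, then so is `X_i ⟶ S` for all small enough `i`. -/
theorem exists_forall_isProper_structure [CompactSpace S] [QuasiSeparatedSpace S]
    [hD : ∀ (i j : I) (a : i ⟶ j), IsClosedImmersion (D.map a)]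
    [∀ i, CompactSpace (D.obj i)] [∀ i, QuasiSeparatedSpace (D.obj i)]
    [∀ i, LocallyOfFiniteType (t.app i)] (i₀ : I) [IsProper (c.π.app i₀ ≫ t.app i₀)] :
    ∃ i₁ : I, ∀ (i : I) (_ : i ⟶ i₁), IsProper (t.app i) := by
  have hD' : ∀ (i j : I) (a : i ⟶ j), IsAffineHom (D.map a) := fun _ _ a => inferInstance
  have hτ : ∀ {i j : I} (a : i ⟶ j), D.map a ≫ t.app j = t.app i := fun a =>
    map_comp_structure S D t a
  -- separatedness
  obtain ⟨k₁, hk₁⟩ := exists_forall_isSeparated_structure S D c hc (fun i => t.app i) hτ i₀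
  have hsep : IsSeparated (t.app k₁) := hk₁ k₁ (𝟙 _)
  have hproper : IsProper (c.π.app k₁ ≫ t.app k₁) := by
    rw [π_comp_structure_eq S D t c k₁ i₀]
    infer_instance
  -- Chow's lemma
  obtain ⟨n, X', π, j, hj, hjπ, hπ, hπs⟩ := Groth.Agent.S7409.result (X := D.obj k₁) (S := S) (t.app k₁)
  -- the base changed system
  let DX := bcDiagram D k₁ π
  let cX := bcCone D c k₁ π
  have hcX : IsLimit cX := isLimitBcCone D c k₁ π hc
  let P := CohB1.ProjSpaceOver n S
  have hP1 : CompactSpace P :=
    QuasiCompact.compactSpace_of_compactSpace (CohB1.ProjSpaceOver.toBase n S)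
  have hP2 : QuasiSeparatedSpace P :=
    quasiSeparatedSpace_of_quasiSeparated (CohB1.ProjSpaceOver.toBase n S)
  let tX : DX ⟶ (Functor.const (Over k₁)).obj P :=
    { app := fun l => pullback.snd (D.map l.hom) π ≫ j
      naturality := fun l l' f => by
        have : DX.map f ≫ pullback.snd (D.map l'.hom) π = pullback.snd (D.map l.hom) π := by
          simp [DX, pullback.map]
        simp only [Functor.const_obj_obj, Functor.const_obj_map, Category.comp_id]
        rw [reassoc_of% this] }
  have hX'1 : CompactSpace X' := QuasiCompact.compactSpace_of_compactSpace π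
  have hX'2 : QuasiSeparatedSpace X' := quasiSeparatedSpace_of_quasiSeparated π
  have hsnd : ∀ l : Over k₁, IsClosedImmersion (pullback.snd (D.map l.hom) π) := fun l =>
    MorphismProperty.pullback_snd (P := @IsClosedImmersion) _ _ (hD _ _ l.hom)
  have h1 : ∀ l : Over k₁, CompactSpace (DX.obj l) := fun l =>
    QuasiCompact.compactSpace_of_compactSpace (pullback.snd (D.map l.hom) π)
  have h2 : ∀ l : Over k₁, QuasiSeparatedSpace (DX.obj l) := fun l =>
    quasiSeparatedSpace_of_quasiSeparated (pullback.snd (D.map l.hom) π)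
  have h3 : ∀ l : Over k₁, LocallyOfFiniteType (tX.app l) := fun l => by
    show LocallyOfFiniteType (pullback.snd (D.map l.hom) π ≫ j)
    infer_instance
  have h4 : ∀ (l l' : Over k₁) (f : l ⟶ l'), IsClosedImmersion (DX.map f) := fun l l' f =>
    isClosedImmersion_bcDiagram_map D k₁ π f
  -- the limit is a closed subscheme of projective space
  let l₀ : Over k₁ := Over.mk (𝟙 k₁)
  have hmono : Mono (c.π.app k₁) :=
    mono_π_app_of_mono D c hc (fun a => inferInstance) k₁
  have e1 : cX.π.app l₀ ≫ tX.app l₀ = pullback.snd (c.π.app k₁) π ≫ j := by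
    have : cX.π.app l₀ ≫ pullback.snd (D.map l₀.hom) π = pullback.snd (c.π.app k₁) π := by
      simp [cX, pullback.map]
    show cX.π.app l₀ ≫ pullback.snd (D.map l₀.hom) π ≫ j = _
    rw [reassoc_of% this]
  have e2 : (pullback.snd (c.π.app k₁) π ≫ j) ≫ CohB1.ProjSpaceOver.toBase n S =
      pullback.fst (c.π.app k₁) π ≫ c.π.app k₁ ≫ t.app k₁ := by
    rw [Category.assoc, hjπ, ← Category.assoc, ← pullback.condition, Category.assoc]
  have h5 : IsClosedImmersion (cX.π.app l₀ ≫ tX.app l₀) := by
    rw [e1, IsClosedImmersion.iff_isProper_and_mono]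
    constructor
    · have : IsProper ((pullback.snd (c.π.app k₁) π ≫ j) ≫ CohB1.ProjSpaceOver.toBase n S) := by
        rw [e2]
        have : IsProper (pullback.fst (c.π.app k₁) π) :=
          MorphismProperty.pullback_fst (P := @IsProper) _ _ hπ
        infer_instance
      exact IsProper.of_comp _ (CohB1.ProjSpaceOver.toBase n S)
    · infer_instance
  obtain ⟨l₁, hl₁⟩ := exists_forall_isClosedImmersion_structure P DX tX cX hcX l₀
  refine ⟨l₁.left, fun i a => ?_⟩
  let l : Over k₁ := Over.mk (a ≫ l₁.hom)
  let a' : l ⟶ l₁ := Over.homMk a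
  have hcl : IsClosedImmersion (pullback.snd (D.map l.hom) π ≫ j) := hl₁ l a'
  have hsepi : IsSeparated (t.app i) := hk₁ i (a ≫ l₁.hom)
  have hsurj : Surjective (pullback.fst (D.map l.hom) π) :=
    MorphismProperty.pullback_fst (P := @Surjective) _ _ hπs
  have e3 : pullback.fst (D.map l.hom) π ≫ t.app i =
      (pullback.snd (D.map l.hom) π ≫ j) ≫ CohB1.ProjSpaceOver.toBase n S := by
    rw [Category.assoc, hjπ, ← Category.assoc, ← pullback.condition, Category.assoc]
    show _ = _ ≫ D.map (a ≫ l₁.hom) ≫ _
    rw [hτ]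
  have huc : UniversallyClosed (pullback.fst (D.map l.hom) π ≫ t.app i) := by
    rw [e3]
    have : IsProper (pullback.snd (D.map l.hom) π ≫ j) := inferInstance
    have : IsProper ((pullback.snd (D.map l.hom) π ≫ j) ≫ CohB1.ProjSpaceOver.toBase n S) :=
      inferInstance
    infer_instance
  have : UniversallyClosed (t.app i) :=
    UniversallyClosed.of_comp_surjective (pullback.fst (D.map l.hom) π) (t.app i)
  have : QuasiCompact (t.app i) := inferInstance
  exact { }

end main

end Groth.Agent.Lib.helper9
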