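/-
Helper library (helper9): absolute Noetherian approximation, part 32.
A proper morphism over a qcqs base is a limit of proper morphisms of finite presentation with
closed immersions as transition maps (Stacks 09ZQ).
-/
import Groth.Agent.Lib.Helper9.AbsApprox29
import Groth.Agent.Lib.Helper9.ProperStructure

set_option autoImplicit false
set_option linter.style.haveILetI false
set_option backward.isDefEq.respectTransparency false

namespace Groth.Agent.Lib.helper9.AbsApprox

open AlgebraicGeometry CategoryTheory Limits Opposite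

universe u

/-- A proper scheme over a qcqs scheme `S` is a directed limit of proper `S`-schemes of finite
presentation with closed immersions as transition maps. -/
theorem exists_proper_approx {X S : Scheme.{u}} (f : X ⟶ S) [IsProper f] [CompactSpace S]
    [QuasiSeparatedSpace S] :
    ∃ (I : Type u) (_ : Preorder I) (_ : IsDirected I (fun a b => a ≤ b)) (_ : Nonempty I)
      (D : Iᵒᵖ ⥤ Scheme.{u}) (t : D ⟶ (Functor.const Iᵒᵖ).obj S) (c : Cone D) (_ : IsLimit c)
      (e : c.pt ≅ X),
      (∀ i, c.π.app i ≫ t.app i = e.hom ≫ f) ∧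
      (∀ i, IsProper (t.app i) ∧ LocallyOfFinitePresentation (t.app i)) ∧
      (∀ (i j : Iᵒᵖ) (a : i ⟶ j), IsClosedImmersion (D.map a)) ∧
      (∀ i, IsClosedImmersion (c.π.app i)) := by
  haveI : CompactSpace X := QuasiCompact.compactSpace_of_compactSpace f
  haveI : QuasiSeparatedSpace X := quasiSeparatedSpace_of_quasiSeparated f
  obtain ⟨Z, g, j, hg1, hg2, hg3, hj, hjg, hZ1, hZ2⟩ := exists_closedImmersion_fp f
  obtain ⟨I, hI1, hI2, hI3, D, t, c, hc, e, h1, h2, h3, h4⟩ := exists_closed_approx j
  -- the structure morphisms to `S`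
  let t' : D ⟶ (Functor.const Iᵒᵖ).obj S :=
    { app := fun i => t.app i ≫ g
      naturality := fun i j a => by
        have := t.naturality a
        simp only [Functor.const_obj_obj, Functor.const_obj_map, Category.comp_id] at this ⊢
        rw [reassoc_of% this] }
  have ht' : ∀ i, c.π.app i ≫ t'.app i = e.hom ≫ f := fun i => by
    show c.π.app i ≫ t.app i ≫ g = _
    rw [reassoc_of% h1 i, hjg]
  have : ∀ i, CompactSpace (D.obj i) := fun i => by
    have := (h2 i).1
    exact QuasiCompact.compactSpace_of_compactSpace (Y := Z) (t.app i)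
  have : ∀ i, QuasiSeparatedSpace (D.obj i) := fun i => by
    have := (h2 i).1
    exact quasiSeparatedSpace_of_quasiSeparated (Y := Z) (t.app i)
  have : ∀ i, LocallyOfFiniteType (t'.app i) := fun i => by
    have := (h2 i).2
    show LocallyOfFiniteType (t.app i ≫ g)
    infer_instance
  obtain ⟨i₀⟩ : Nonempty Iᵒᵖ := ⟨Opposite.op hI3.some⟩
  have : IsProper (c.π.app i₀ ≫ t'.app i₀) := by
    rw [ht']
    infer_instance
  obtain ⟨i₁, hi₁⟩ := Groth.Agent.Lib.helper9.exists_forall_isProper_structure S D t' c hc i₀
  refine ⟨Ge i₁.unop, inferInstance, inferInstance, inferInstance, (geIncl i₁.unop).op ⋙ D,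
    Functor.whiskerLeft (geIncl i₁.unop).op t', c.whisker (geIncl i₁.unop).op,
    isLimitWhiskerGe i₁.unop c hc, e, ?_, ?_, ?_, ?_⟩
  · intro i
    exact ht' _
  · intro i
    refine ⟨hi₁ _ (homOfLE i.unop.2).op, ?_⟩
    have := (h2 ((geIncl i₁.unop).op.obj i)).2
    show LocallyOfFinitePresentation (t.app _ ≫ g)
    infer_instance
  · intro i j a
    exact h3 _ _ _
  · intro i
    exact h4 _

end Groth.Agent.Lib.helper9.AbsApprox
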