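/-
Helper library (helper9): absolute Noetherian approximation, part 23.
From a cofiltered system of schemes with compatible morphisms to `S` and a limit cone to a
system in the category of schemes over `S` with a limit cone.
-/
import Mathlib

set_option autoImplicit false
set_option linter.style.haveILetI false
set_option backward.isDefEq.respectTransparency false

namespace Groth.Agent.Lib.helper9.AbsApprox

open AlgebraicGeometry CategoryTheory Limits Opposite

universe v u

variable {C : Type u} [Category.{v} C] {J : Type v} [SmallCategory J] {S : C}

/-- the system over `S` -/
def overFunctor (D : J ⥤ C) (t : D ⟶ (Functor.const J).obj S) : J ⥤ Over S where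
  obj i := Over.mk (t.app i)
  map a := Over.homMk (D.map a) (by
    have := t.naturality a
    simp only [Functor.const_obj_obj, Functor.const_obj_map, Category.comp_id] at this
    exact this)
  map_id i := by
    ext
    exact D.map_id i
  map_comp a b := by
    ext
    exact D.map_comp a b

/-- the cone over the system over `S` -/
def overCone (D : J ⥤ C) (t : D ⟶ (Functor.const J).obj S) (c : Cone D) (g : c.pt ⟶ S)
    (hg : ∀ i, c.π.app i ≫ t.app i = g) : Cone (overFunctor D t) where
  pt := Over.mk g
  π :=
  { app := fun i => Over.homMk (c.π.app i) (hg i)
    naturality := fun i j a => by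
      ext
      simp only [Functor.const_obj_obj, Functor.const_obj_map, Category.id_comp]
      exact (c.w a).symm }

/-- the cone over the system over `S` is a limit cone -/
noncomputable def isLimitOverCone [IsConnected J] (D : J ⥤ C) (t : D ⟶ (Functor.const J).obj S)
    (c : Cone D) (hc : IsLimit c) (g : c.pt ⟶ S) (hg : ∀ i, c.π.app i ≫ t.app i = g) :
    IsLimit (overCone D t c g hg) :=
  isLimitOfReflects (Over.forget S) (IsLimit.ofIsoLimit hc (Cone.ext (Iso.refl _) (fun _ => by
    simp [overCone])))

end Groth.Agent.Lib.helper9.AbsApprox
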