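/-
Helper library (helper9): fibre dimension in limits, part 1.
* the projections of a cofiltered limit with closed immersions as transition maps are closed
  immersions;
* the local fibre dimension decreases along preimmersions;
* over a field the local fibre dimension is the local dimension.
-/
import Groth.Agent.Lib.Helper3.FibreDimBC
import Groth.Agent.Lib.Helper3.TopDim
import Groth.Agent.Lib.Helper14.UnivPushField

set_option autoImplicit false
set_option linter.unusedVariables false
set_option linter.style.haveILetI false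
set_option backward.isDefEq.respectTransparency false

namespace Groth.Agent.Lib.helper9.FibreDimLim

open AlgebraicGeometry CategoryTheory Limits Opposite

universe u

section Limit

variable {I : Type u} [SmallCategory I] [IsCofiltered I] (D : I ⥤ Scheme.{u}) (c : Cone D)
  (hc : IsLimit c)

include hc in
/-- The projections of a cofiltered limit with closed immersions as transition maps are closed
immersions. -/
theorem isClosedImmersion_π_app (hcl : ∀ (i j : I) (a : i ⟶ j), IsClosedImmersion (D.map a))
    (i : I) : IsClosedImmersion (c.π.app i) := by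
  haveI : ∀ {i j : I} (a : i ⟶ j), IsAffineHom (D.map a) := fun a => by
    haveI := hcl _ _ a
    infer_instance
  haveI : IsAffineHom (c.π.app i) := isAffineHom_π_app D c hc i
  refine IsZariskiLocalAtTarget.of_iSup_eq_top (P := @IsClosedImmersion)
    (fun V : (D.obj i).affineOpens => V.1) (iSup_affineOpens_eq_top _) (fun V => ?_)
  haveI : IsAffine (V.1 : Scheme.{u}) := V.2
  rw [HasAffineProperty.iff_of_isAffine (P := @IsClosedImmersion)]
  have haff : IsAffine ((c.π.app i ⁻¹ᵁ V.1 : c.pt.Opens) : Scheme.{u}) := V.2.preimage (c.π.app i)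
  refine ⟨haff, ?_⟩
  intro s
  haveI : ∀ j : Over i, IsAffine ((opensDiagram D i V.1).obj j) := fun j =>
    V.2.preimage (D.map j.hom)
  obtain ⟨j, t, hj⟩ := exists_appTop_π_eq_of_isAffine_of_isLimit (opensDiagram D i V.1)
    (opensCone D c i V.1) (isLimitOpensCone D c hc i V.1) s
  haveI : IsClosedImmersion (D.map j.hom ∣_ V.1) := by
    haveI := hcl _ _ j.hom
    exact IsZariskiLocalAtTarget.restrict ‹_› V.1
  obtain ⟨r, hr⟩ := ((HasAffineProperty.iff_of_isAffine (P := @IsClosedImmersion)).mp
    (inferInstance : IsClosedImmersion (D.map j.hom ∣_ V.1))).2 t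
  refine ⟨r, ?_⟩
  have hcomp : c.π.app i ∣_ V.1 = (opensCone D c i V.1).π.app j ≫ (D.map j.hom ∣_ V.1) := by
    rw [← cancel_mono V.1.ι]
    simp only [opensCone_π_app, Category.assoc, morphismRestrict_ι, Scheme.Hom.resLE_comp_ι_assoc,
      Cone.w]
  rw [hcomp, Scheme.Hom.comp_appTop, CommRingCat.comp_apply]
  exact (congrArg (fun z => ((opensCone D c i V.1).π.app j).appTop z) hr).trans hj

end Limit

/-- The local fibre dimension decreases along preimmersions. -/
theorem fibreDimAt_comp_le {X' P B : Scheme.{u}} (ι : X' ⟶ P) [IsPreimmersion ι] (g : P ⟶ B)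
    (x : X') : FlatMor.fibreDimAt (ι ≫ g) x ≤ FlatMor.fibreDimAt g (ι x) := by
  let s : B := (ι ≫ g) x
  have hs : g (ι x) = s := (Scheme.Hom.comp_apply ι g x).symm
  let m : (ι ≫ g).fiber s ⟶ g.fiber s :=
    pullback.map (ι ≫ g) (B.fromSpecResidueField s) g (B.fromSpecResidueField s) ι (𝟙 _) (𝟙 _)
      (by simp) (by simp)
  have hm : m ≫ g.fiberι s = (ι ≫ g).fiberι s ≫ ι := pullback.lift_fst _ _ _
  haveI : IsPreimmersion (m ≫ g.fiberι s) := by
    rw [hm]
    infer_instance
  haveI : IsPreimmersion m := IsPreimmersion.of_comp m (g.fiberι s)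
  have h1 := Groth.Agent.Lib.helper3.TopDim.localDim_le_of_isInducing
    m.isEmbedding.isInducing ((ι ≫ g).asFiber x)
  have h2 : g.fiberι s (m ((ι ≫ g).asFiber x)) = ι x := by
    rw [← Scheme.Hom.comp_apply, hm, Scheme.Hom.comp_apply, Scheme.Hom.fiberι_asFiber]
  rw [Groth.Agent.Lib.helper3.RelDim.localDim_fiber_eq g s (ι x) hs _ h2] at h1
  exact h1

/-- Over a field the local fibre dimension is the local dimension. -/
theorem fibreDimAt_eq_localDim_of_field (K : Type u) [Field K] {F : Scheme.{u}}
    (g : F ⟶ Spec (CommRingCat.of K)) (y : F) :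
    FlatMor.fibreDimAt g y = FlatMor.localDim F y := by
  haveI := Groth.Agent.Lib.Helper14.UnivPushField.isIso_fromSpecResidueField K (g y)
  haveI : IsIso (g.fiberι (g y)) :=
    (IsPullback.of_hasPullback g
      ((Spec (CommRingCat.of K)).fromSpecResidueField (g y))).isIso_fst_of_isIso
  have h := Groth.Agent.Lib.helper3.FibreDimBC.localDim_homeo
    (Scheme.homeoOfIso (asIso (g.fiberι (g y)))) (g.asFiber y)
  have h2 : (Scheme.homeoOfIso (asIso (g.fiberι (g y)))) (g.asFiber y) = y :=
    Scheme.Hom.fiberι_asFiber g y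
  rw [h2] at h
  exact h

end Groth.Agent.Lib.helper9.FibreDimLim
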