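/-
Helper library (helper9): fibre dimension in limits, part 2.
The base change of a system of morphisms `X_i ⟶ S_i` along `T ⟶ lim S_i`.
-/
import Groth.Agent.Lib.Helper9.FibreDimLim1

set_option autoImplicit false
set_option linter.unusedVariables false
set_option linter.style.haveILetI false
set_option backward.isDefEq.respectTransparency false

namespace Groth.Agent.Lib.helper9.FibreDimLim

open AlgebraicGeometry CategoryTheory Limits Opposite

universe u

noncomputable section

variable {I : Type u} [SmallCategory I] {DX DS : I ⥤ Scheme.{u}} (φ : DX ⟶ DS)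
  {cX : Cone DX} {cS : Cone DS} {T : Scheme.{u}} (σ : T ⟶ cS.pt)

/-- The system of the base changes `X_i ×_{S_i} T`. -/
def fibSys : I ⥤ Scheme.{u} where
  obj i := pullback (φ.app i) (σ ≫ cS.π.app i)
  map {i j} a := pullback.map (φ.app i) (σ ≫ cS.π.app i) (φ.app j) (σ ≫ cS.π.app j) (DX.map a)
    (𝟙 T) (DS.map a) (φ.naturality a).symm (by rw [Category.assoc, cS.w, Category.id_comp])
  map_id i := by
    apply pullback.hom_ext <;> simp
  map_comp a b := by
    apply pullback.hom_ext <;> simp

@[reassoc (attr := simp)]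
theorem fibSys_map_fst {i j : I} (a : i ⟶ j) :
    (fibSys φ σ).map a ≫ pullback.fst (φ.app j) (σ ≫ cS.π.app j) =
      pullback.fst (φ.app i) (σ ≫ cS.π.app i) ≫ DX.map a :=
  pullback.lift_fst _ _ _

@[reassoc (attr := simp)]
theorem fibSys_map_snd {i j : I} (a : i ⟶ j) :
    (fibSys φ σ).map a ≫ pullback.snd (φ.app j) (σ ≫ cS.π.app j) =
      pullback.snd (φ.app i) (σ ≫ cS.π.app i) := by
  refine (pullback.lift_snd _ _ _).trans ?_
  exact Category.comp_id _

variable (f : cX.pt ⟶ cS.pt) (hf : ∀ i, f ≫ cS.π.app i = cX.π.app i ≫ φ.app i)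

/-- The cone over the system of base changes with vertex `X ×_S T`. -/
def fibCone : Cone (fibSys φ σ) where
  pt := pullback f σ
  π :=
  { app := fun i => pullback.map f σ (φ.app i) (σ ≫ cS.π.app i) (cX.π.app i) (𝟙 T) (cS.π.app i)
      (hf i) (by rw [Category.id_comp])
    naturality := fun i j a => by
      apply pullback.hom_ext
      · simp only [Functor.const_obj_obj, Functor.const_obj_map, Category.id_comp, Category.assoc,
          fibSys_map_fst]
        erw [pullback.lift_fst, pullback.lift_fst_assoc]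
        rw [Category.assoc, cX.w]
      · simp only [Functor.const_obj_obj, Functor.const_obj_map, Category.id_comp, Category.assoc,
          fibSys_map_snd]
        erw [pullback.lift_snd, pullback.lift_snd] }

@[reassoc (attr := simp)]
theorem fibCone_π_fst (i : I) :
    (fibCone φ σ f hf).π.app i ≫ pullback.fst (φ.app i) (σ ≫ cS.π.app i) =
      pullback.fst f σ ≫ cX.π.app i :=
  pullback.lift_fst _ _ _

@[reassoc (attr := simp)]
theorem fibCone_π_snd (i : I) :
    (fibCone φ σ f hf).π.app i ≫ pullback.snd (φ.app i) (σ ≫ cS.π.app i) =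
      pullback.snd f σ := by
  refine (pullback.lift_snd _ _ _).trans ?_
  exact Category.comp_id _

variable [IsCofiltered I]

omit [IsCofiltered I] in
theorem cone_snd_eq_of_hom (s : Cone (fibSys φ σ)) {i j : I} (a : i ⟶ j) :
    s.π.app i ≫ pullback.snd (φ.app i) (σ ≫ cS.π.app i) =
      s.π.app j ≫ pullback.snd (φ.app j) (σ ≫ cS.π.app j) := by
  rw [← s.w a, Category.assoc, fibSys_map_snd]

theorem cone_snd_eq (s : Cone (fibSys φ σ)) (i j : I) :
    s.π.app i ≫ pullback.snd (φ.app i) (σ ≫ cS.π.app i) =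
      s.π.app j ≫ pullback.snd (φ.app j) (σ ≫ cS.π.app j) := by
  rw [← cone_snd_eq_of_hom φ σ s (IsCofiltered.minToLeft i j),
    ← cone_snd_eq_of_hom φ σ s (IsCofiltered.minToRight i j)]

/-- the cone of first projections -/
def fstCone (s : Cone (fibSys φ σ)) : Cone DX where
  pt := s.pt
  π :=
  { app := fun i => s.π.app i ≫ pullback.fst (φ.app i) (σ ≫ cS.π.app i)
    naturality := fun i j a => by
      simp only [Functor.const_obj_obj, Functor.const_obj_map, Category.id_comp, Category.assoc]
      rw [← fibSys_map_fst, ← Category.assoc, s.w] }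

variable (hX : IsLimit cX) (hS : IsLimit cS)

include hf hS in
theorem lift_cond (s : Cone (fibSys φ σ)) (i₀ : I) :
    hX.lift (fstCone φ σ s) ≫ f =
      (s.π.app i₀ ≫ pullback.snd (φ.app i₀) (σ ≫ cS.π.app i₀)) ≫ σ := by
  refine hS.hom_ext fun i => ?_
  have h1 : hX.lift (fstCone φ σ s) ≫ cX.π.app i =
      s.π.app i ≫ pullback.fst (φ.app i) (σ ≫ cS.π.app i) := hX.fac _ _
  have h2 := cone_snd_eq φ σ s i₀ i
  calc (hX.lift (fstCone φ σ s) ≫ f) ≫ cS.π.app i
      = hX.lift (fstCone φ σ s) ≫ cX.π.app i ≫ φ.app i := by rw [Category.assoc, hf]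
    _ = (s.π.app i ≫ pullback.fst (φ.app i) (σ ≫ cS.π.app i)) ≫ φ.app i := by
        rw [← Category.assoc, h1]
    _ = s.π.app i ≫ pullback.snd (φ.app i) (σ ≫ cS.π.app i) ≫ σ ≫ cS.π.app i := by
        rw [Category.assoc, pullback.condition]
    _ = (s.π.app i₀ ≫ pullback.snd (φ.app i₀) (σ ≫ cS.π.app i₀)) ≫ σ ≫ cS.π.app i := by
        rw [← Category.assoc, ← h2]
    _ = ((s.π.app i₀ ≫ pullback.snd (φ.app i₀) (σ ≫ cS.π.app i₀)) ≫ σ) ≫ cS.π.app i := by
        simp only [Category.assoc]

/-- a base index -/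
def baseIdx (I : Type u) [SmallCategory I] [IsCofiltered I] : I :=
  (IsCofiltered.nonempty (C := I)).some

/-- The cone with vertex `X ×_S T` is a limit cone. -/
def isLimitFibCone : IsLimit (fibCone φ σ f hf) where
  lift s := pullback.lift (hX.lift (fstCone φ σ s))
    (s.π.app (baseIdx I) ≫ pullback.snd _ _) (lift_cond φ σ f hf hX hS s _)
  fac s i := by
    apply pullback.hom_ext
    · rw [Category.assoc, fibCone_π_fst, pullback.lift_fst_assoc, hX.fac]
      rfl
    · rw [Category.assoc, fibCone_π_snd, pullback.lift_snd]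
      exact cone_snd_eq φ σ s _ _
  uniq s m hm := by
    apply pullback.hom_ext
    · rw [pullback.lift_fst]
      refine hX.hom_ext fun i => ?_
      rw [hX.fac, Category.assoc, ← fibCone_π_fst φ σ f hf, ← Category.assoc, hm]
      rfl
    · rw [pullback.lift_snd, ← hm (baseIdx I), Category.assoc, fibCone_π_snd]

omit [IsCofiltered I] in
/-- The transition maps of the system of base changes are closed immersions. -/
theorem isClosedImmersion_fibSys_map {i j : I} (a : i ⟶ j)
    (hcl : IsClosedImmersion (pullback.lift (DX.map a) (φ.app i) (φ.naturality a))) :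
    IsClosedImmersion ((fibSys φ σ).map a) := by
  let ιa : DX.obj i ⟶ pullback (φ.app j) (DS.map a) :=
    pullback.lift (DX.map a) (φ.app i) (φ.naturality a)
  let θ : (fibSys φ σ).obj j ⟶ pullback (φ.app j) (DS.map a) :=
    pullback.lift (pullback.fst (φ.app j) (σ ≫ cS.π.app j))
      (pullback.snd (φ.app j) (σ ≫ cS.π.app j) ≫ σ ≫ cS.π.app i) (by
      rw [pullback.condition]
      simp only [Category.assoc, Cone.w])
  have hθ1 : θ ≫ pullback.fst _ _ = pullback.fst _ _ := pullback.lift_fst _ _ _
  have hθ2 : θ ≫ pullback.snd _ _ = pullback.snd _ _ ≫ σ ≫ cS.π.app i := pullback.lift_snd _ _ _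
  have hι1 : ιa ≫ pullback.fst _ _ = DX.map a := pullback.lift_fst _ _ _
  have hι2 : ιa ≫ pullback.snd _ _ = φ.app i := pullback.lift_snd _ _ _
  -- the bottom square
  have hbot : IsPullback θ (pullback.snd (φ.app j) (σ ≫ cS.π.app j))
      (pullback.snd (φ.app j) (DS.map a)) (σ ≫ cS.π.app i) := by
    refine IsPullback.of_right ?_ hθ2 (IsPullback.of_hasPullback (φ.app j) (DS.map a))
    rw [hθ1]
    have : (σ ≫ cS.π.app i) ≫ DS.map a = σ ≫ cS.π.app j := by rw [Category.assoc, cS.w]
    rw [this]
    exact IsPullback.of_hasPullback _ _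
  -- the top square
  have hcomm : pullback.fst (φ.app i) (σ ≫ cS.π.app i) ≫ ιa = (fibSys φ σ).map a ≫ θ := by
    apply pullback.hom_ext
    · rw [Category.assoc, hι1, Category.assoc, hθ1, fibSys_map_fst]
    · rw [Category.assoc, hι2, Category.assoc, hθ2, fibSys_map_snd_assoc, pullback.condition]
  have htop : IsPullback (pullback.fst (φ.app i) (σ ≫ cS.π.app i)) ((fibSys φ σ).map a) ιa θ := by
    refine IsPullback.of_bot ?_ hcomm hbot
    rw [fibSys_map_snd, hι2]
    exact IsPullback.of_hasPullback _ _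
  exact MorphismProperty.of_isPullback (P := @IsClosedImmersion) htop hcl

end

end Groth.Agent.Lib.helper9.FibreDimLim
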