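/-
Helper library (helper9): fibre dimension in limits, part 3.
For a system of morphisms of finite type `X_i ⟶ S_i` such that `X_j ⟶ X_i ×_{S_i} S_j` are closed
immersions, the local fibre dimension at a point of the limit is attained at a finite stage, and
a bound on the fibre dimension of the limit holds at a finite stage.
-/
import Groth.Agent.Lib.Helper9.FibreDimLim2
import Groth.Agent.Lib.Helper9.LimBaseChange
import Groth.Agent.Lib.Helper17.FieldBCDim
import Groth.Agent.Lib.Helper3.QFinTop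
import Groth.Agent.S0402

set_option autoImplicit false
set_option linter.unusedVariables false
set_option linter.style.haveILetI false
set_option backward.isDefEq.respectTransparency false

namespace Groth.Agent.Lib.helper9.FibreDimLim

open AlgebraicGeometry CategoryTheory Limits Opposite TopologicalSpace

universe u

variable {I : Type u} [SmallCategory I] [IsCofiltered I] {DX DS : I ⥤ Scheme.{u}} (φ : DX ⟶ DS)
  {cX : Cone DX} {cS : Cone DS} (hX : IsLimit cX) (hS : IsLimit cS)
  [∀ i, LocallyOfFiniteType (φ.app i)] [∀ i, QuasiCompact (φ.app i)]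
  (hcl : ∀ (i j : I) (a : i ⟶ j),
    IsClosedImmersion (pullback.lift (DX.map a) (φ.app i) (φ.naturality a)))
  (f : cX.pt ⟶ cS.pt) (hf : ∀ i, f ≫ cS.π.app i = cX.π.app i ≫ φ.app i)

include hX hS hcl hf in
/-- The local fibre dimension at a point of the limit is attained at a finite stage. -/
theorem exists_fibreDimAt_eq (x : cX.pt) :
    ∃ i : I, FlatMor.fibreDimAt (φ.app i) (cX.π.app i x) = FlatMor.fibreDimAt f x := by
  classical
  let s : cS.pt := f x
  let σ : Spec (cS.pt.residueField s) ⟶ cS.pt := cS.pt.fromSpecResidueField s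
  let F : I ⥤ Scheme.{u} := fibSys φ σ
  let cF : Cone F := fibCone φ σ f hf
  have hcF : IsLimit cF := isLimitFibCone φ σ f hf hX hS
  have hclF : ∀ (i j : I) (a : i ⟶ j), IsClosedImmersion (F.map a) := fun i j a =>
    isClosedImmersion_fibSys_map φ σ a (hcl i j a)
  haveI : ∀ (i j : I) (a : i ⟶ j), IsAffineHom (F.map a) := fun i j a => by
    haveI := hclF i j a
    infer_instance
  have hπ : ∀ i, IsClosedImmersion (cF.π.app i) := isClosedImmersion_π_app F cF hcF hclF
  let i₀ : I := baseIdx I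
  -- the base stage is a Noetherian space
  haveI : IsNoetherian (F.obj i₀) := by
    haveI : IsLocallyNoetherian (F.obj i₀) :=
      inferInstanceAs (IsLocallyNoetherian (pullback (φ.app i₀) (σ ≫ cS.π.app i₀)))
    haveI : QuasiCompact (pullback.snd (φ.app i₀) (σ ≫ cS.π.app i₀)) :=
      MorphismProperty.pullback_snd (P := @QuasiCompact) _ _ inferInstance
    haveI : CompactSpace (F.obj i₀) :=
      QuasiCompact.compactSpace_of_compactSpace (pullback.snd (φ.app i₀) (σ ≫ cS.π.app i₀))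
    exact ⟨⟩
  -- a minimal image
  let 𝒞 : Set (Closeds (F.obj i₀)) :=
    {C | ∃ (j : I) (a : j ⟶ i₀), (C : Set (F.obj i₀)) = Set.range (F.map a)}
  have h𝒞 : 𝒞.Nonempty := by
    refine ⟨⟨Set.range (F.map (𝟙 i₀)), ?_⟩, i₀, 𝟙 i₀, rfl⟩
    haveI := hclF _ _ (𝟙 i₀)
    exact (F.map (𝟙 i₀)).isClosedEmbedding.isClosed_range
  obtain ⟨C₀, ⟨j₀, a₀, hC₀⟩, hmin⟩ := wellFounded_lt.has_min 𝒞 h𝒞
  have hsurj : ∀ (k : I) (b : k ⟶ j₀), Function.Surjective (F.map b) := by
    intro k b y
    let C : Closeds (F.obj i₀) := ⟨Set.range (F.map (b ≫ a₀)), by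
      haveI := hclF _ _ (b ≫ a₀)
      exact (F.map (b ≫ a₀)).isClosedEmbedding.isClosed_range⟩
    have hC : C ∈ 𝒞 := ⟨k, b ≫ a₀, rfl⟩
    have hle : C ≤ C₀ := by
      intro w hw
      obtain ⟨z, rfl⟩ := hw
      show _ ∈ (C₀ : Set (F.obj i₀))
      rw [hC₀, F.map_comp, Scheme.Hom.comp_apply]
      exact ⟨_, rfl⟩
    have heq : C = C₀ := by
      by_contra hne
      exact hmin C hC (lt_of_le_of_ne hle hne)
    have hy : F.map a₀ y ∈ (C : Set (F.obj i₀)) := by
      rw [heq, hC₀]
      exact ⟨y, rfl⟩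
    obtain ⟨z, hz⟩ := hy
    refine ⟨z, ?_⟩
    haveI := hclF _ _ a₀
    apply (F.map a₀).isClosedEmbedding.injective
    rw [← hz, F.map_comp, Scheme.Hom.comp_apply]
  have hsurjπ : Function.Surjective (cF.π.app j₀) := by
    rw [← Set.range_eq_univ, Groth.Agent.Lib.helper9.range_π_eq_iInter F cF j₀ hcF]
    simp only [Set.iInter_eq_univ]
    intro k b
    exact Set.range_eq_univ.mpr (hsurj k b)
  haveI := hπ j₀
  let e : cF.pt ≃ₜ F.obj j₀ :=
    (cF.π.app j₀).isClosedEmbedding.isEmbedding.toHomeomorphOfSurjective hsurjπ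
  refine ⟨j₀, ?_⟩
  let z : cF.pt := f.asFiber x
  have h1 : FlatMor.fibreDimAt f x = FlatMor.localDim cF.pt z := rfl
  have h2 := Groth.Agent.Lib.helper3.FibreDimBC.localDim_homeo e z
  have h3 := fibreDimAt_eq_localDim_of_field (cS.pt.residueField s)
    (pullback.snd (φ.app j₀) (σ ≫ cS.π.app j₀)) (cF.π.app j₀ z)
  have h4 := Groth.Agent.Lib.helper3.FibreDimBC.fibreDimAt_eq_of_isPullback (φ.app j₀)
    (σ ≫ cS.π.app j₀) (pullback.fst (φ.app j₀) (σ ≫ cS.π.app j₀))
    (pullback.snd (φ.app j₀) (σ ≫ cS.π.app j₀)) (IsPullback.of_hasPullback _ _) (cF.π.app j₀ z)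
  have h5 : pullback.fst (φ.app j₀) (σ ≫ cS.π.app j₀) (cF.π.app j₀ z) = cX.π.app j₀ x := by
    have e1 : cF.π.app j₀ ≫ pullback.fst (φ.app j₀) (σ ≫ cS.π.app j₀) =
        pullback.fst f σ ≫ cX.π.app j₀ := fibCone_π_fst φ σ f hf j₀
    have e2 := congrArg (fun ψ : cF.pt ⟶ DX.obj j₀ => ψ z) e1
    simp only [Scheme.Hom.comp_apply] at e2
    exact e2.trans (congrArg (cX.π.app j₀) (Scheme.Hom.fiberι_asFiber f x))
  rw [h1, h2, ← h5, ← h4, h3]
  rfl

omit [IsCofiltered I] [∀ i, QuasiCompact (φ.app i)] in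
/-- The fibre dimension is monotone along the system. -/
theorem fibreDimAt_le_of_hom {i j : I} (a : i ⟶ j)
    (hcl' : IsClosedImmersion (pullback.lift (DX.map a) (φ.app i) (φ.naturality a)))
    (x : DX.obj i) :
    FlatMor.fibreDimAt (φ.app i) x ≤ FlatMor.fibreDimAt (φ.app j) (DX.map a x) := by
  let ιa : DX.obj i ⟶ pullback (φ.app j) (DS.map a) :=
    pullback.lift (DX.map a) (φ.app i) (φ.naturality a)
  have h1 := fibreDimAt_comp_le ιa (pullback.snd (φ.app j) (DS.map a)) x
  have h2 := Groth.Agent.Lib.helper3.FibreDimBC.fibreDimAt_eq_of_isPullback (φ.app j)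
    (DS.map a) (pullback.fst (φ.app j) (DS.map a)) (pullback.snd (φ.app j) (DS.map a))
    (IsPullback.of_hasPullback _ _) (ιa x)
  have h3 : pullback.fst (φ.app j) (DS.map a) (ιa x) = DX.map a x := by
    have e1 : ιa ≫ pullback.fst (φ.app j) (DS.map a) = DX.map a := pullback.lift_fst _ _ _
    have e2 := congrArg (fun ψ : DX.obj i ⟶ DX.obj j => ψ x) e1
    simpa only [Scheme.Hom.comp_apply] using e2
  have h4 : ιa ≫ pullback.snd (φ.app j) (DS.map a) = φ.app i := pullback.lift_snd _ _ _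
  rw [h4, h2, h3] at h1
  exact h1

include hX hS hcl hf in
/-- **A bound on the fibre dimension of the limit holds at a finite stage.** -/
theorem exists_fibre_dim_le [∀ (i j : I) (a : i ⟶ j), IsAffineHom (DS.map a)]
    [∀ i, CompactSpace (DS.obj i)] (d : ℕ)
    (hd : ∀ s : cS.pt, topologicalKrullDim ↥(f.fiber s) ≤ d) :
    ∃ i : I, ∀ s : DS.obj i, topologicalKrullDim ↥((φ.app i).fiber s) ≤ d := by
  classical
  by_contra hall
  push Not at hall
  let Z : ∀ i : I, Set (DX.obj i) := fun i =>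
    {x | FlatMor.fibreDimAt (φ.app i) x ≤ (d : WithBot ℕ∞)}ᶜ
  have hZc : ∀ i, IsClosed (Z i) := fun i =>
    (Groth.Agent.S0402.result (φ.app i) d).isClosed_compl
  have hZne : ∀ i, (Z i).Nonempty := by
    intro i
    obtain ⟨s, hs⟩ := hall i
    rw [Groth.Agent.Lib.helper17.FieldBCDim.dim_eq_iSup_localDim] at hs
    have : ∃ z : (φ.app i).fiber s, ¬ FlatMor.localDim _ z ≤ (d : WithBot ℕ∞) := by
      by_contra hcon
      push Not at hcon
      exact (not_le.mpr hs) (iSup_le hcon)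
    obtain ⟨z, hz⟩ := this
    refine ⟨(φ.app i).fiberι s z, ?_⟩
    have h6 := Groth.Agent.Lib.helper3.RelDim.localDim_fiber_eq (φ.app i) s _
      (Groth.Agent.Lib.helper3.QFinTop.fiberι_mem (φ.app i) s z) z rfl
    intro hcon
    apply hz
    rw [h6]
    exact hcon
  haveI : ∀ i, CompactSpace (DX.obj i) := fun i =>
    QuasiCompact.compactSpace_of_compactSpace (φ.app i)
  have hZcpt : ∀ i, IsCompact (Z i) := fun i => (hZc i).isCompact
  have hmaps : ∀ {i j : I} (a : i ⟶ j), Set.MapsTo (DX.map a) (Z i) (Z j) := by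
    intro i j a x hx hcon
    exact hx ((fibreDimAt_le_of_hom φ a (hcl i j a) x).trans hcon)
  haveI : ∀ {i j : I} (a : i ⟶ j), IsAffineHom (DX.map a) := by
    intro i j a
    have h1 : pullback.lift (DX.map a) (φ.app i) (φ.naturality a) ≫
        pullback.fst (φ.app j) (DS.map a) = DX.map a := pullback.lift_fst _ _ _
    haveI := hcl i j a
    haveI : IsAffineHom (pullback.fst (φ.app j) (DS.map a)) :=
      MorphismProperty.pullback_fst (P := @IsAffineHom) _ _ inferInstance
    rw [← h1]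
    infer_instance
  obtain ⟨x, hx⟩ := exists_mem_of_isClosed_of_nonempty DX cX hX Z hZc hZne hZcpt hmaps
  obtain ⟨i, hi⟩ := exists_fibreDimAt_eq φ hX hS hcl f hf x
  apply hx i
  show FlatMor.fibreDimAt (φ.app i) (cX.π.app i x) ≤ (d : WithBot ℕ∞)
  rw [hi]
  exact (Groth.Agent.Lib.helper3.TopDim.localDim_le_dim _).trans (hd (f x))

end Groth.Agent.Lib.helper9.FibreDimLim
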