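/-
Helper library (helper9): recursive form of a "stratification by smooth pieces" of a morphism
`q : P ⟶ T`: a chain of closed immersions of finite presentation `… ⟶ Z₂ ⟶ Z₁ ⟶ P` ending with
the empty scheme, such that each open complement `Z_i ∖ Z_{i+1}` is smooth over `T`.
Base change and invariance under isomorphisms.
-/
import Mathlib

set_option autoImplicit false
set_option linter.style.haveILetI false
set_option backward.isDefEq.respectTransparency false

namespace Groth.Agent.Lib.helper9.SmStrat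

open AlgebraicGeometry CategoryTheory Limits TopologicalSpace

universe u

/-- The open complement of the range of a closed immersion. -/
def cOpen {Z P : Scheme.{u}} (z : Z ⟶ P) [IsClosedImmersion z] : P.Opens :=
  ⟨(Set.range ⇑z)ᶜ, z.isClosedEmbedding.isClosed_range.isOpen_compl⟩

theorem coe_cOpen {Z P : Scheme.{u}} (z : Z ⟶ P) [IsClosedImmersion z] :
    (cOpen z : Set P) = (Set.range ⇑z)ᶜ := rfl

theorem mem_cOpen {Z P : Scheme.{u}} (z : Z ⟶ P) [IsClosedImmersion z] (x : P) :
    x ∈ cOpen z ↔ x ∉ Set.range ⇑z := Iff.rfl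

/-- `Strat n q`: `P` has a chain of `n` closed subschemes of finite presentation, each inside the
previous one, the last one empty, with successive differences smooth over `T` (the first
difference being `P` minus the first closed subscheme). -/
def Strat : ℕ → ∀ {P T : Scheme.{u}}, (P ⟶ T) → Prop
  | 0, P, _, _ => IsEmpty P
  | n + 1, P, _, q => ∃ (Z : Scheme.{u}) (z : Z ⟶ P) (_ : IsClosedImmersion z),
      LocallyOfFinitePresentation z ∧ Smooth ((cOpen z).ι ≫ q) ∧ Strat n (z ≫ q)

theorem strat_zero {P T : Scheme.{u}} (q : P ⟶ T) : Strat 0 q ↔ IsEmpty P := Iff.rfl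

theorem strat_succ {n : ℕ} {P T : Scheme.{u}} (q : P ⟶ T) :
    Strat (n + 1) q ↔ ∃ (Z : Scheme.{u}) (z : Z ⟶ P) (_ : IsClosedImmersion z),
      LocallyOfFinitePresentation z ∧ Smooth ((cOpen z).ι ≫ q) ∧ Strat n (z ≫ q) := Iff.rfl

theorem range_fst_of_isPullback {P A B S : Scheme.{u}} {fst : P ⟶ A} {snd : P ⟶ B} {f : A ⟶ S}
    {g : B ⟶ S} (h : IsPullback fst snd f g) : Set.range ⇑fst = ⇑f ⁻¹' Set.range ⇑g := by
  have h1 : Set.range ⇑(h.isoPullback.hom ≫ pullback.fst f g) = Set.range ⇑(pullback.fst f g) := by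
    ext x
    constructor
    · rintro ⟨y, rfl⟩
      exact ⟨h.isoPullback.hom y, (Scheme.Hom.comp_apply _ _ y).symm⟩
    · rintro ⟨y, rfl⟩
      obtain ⟨z, rfl⟩ := h.isoPullback.hom.homeomorph.surjective y
      exact ⟨z, Scheme.Hom.comp_apply _ _ z⟩
  rw [h.isoPullback_hom_fst] at h1
  rw [h1, Scheme.Pullback.range_fst]

/-- The complement of a base change of a closed immersion is the preimage of the complement. -/
theorem cOpen_of_isPullback {Z P Z' P' : Scheme.{u}} {z : Z ⟶ P} {z' : Z' ⟶ P'} {a : P' ⟶ P}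
    {aZ : Z' ⟶ Z} [IsClosedImmersion z] [IsClosedImmersion z'] (sq : IsPullback z' aZ a z) :
    cOpen z' = a ⁻¹ᵁ cOpen z := by
  ext x
  rw [SetLike.mem_coe, mem_cOpen, range_fst_of_isPullback sq]
  rfl

/-- Smoothness over the base of an open subscheme is stable under base change. -/
theorem smooth_ι_comp_of_isPullback {P T P' T' : Scheme.{u}} {q : P ⟶ T} {q' : P' ⟶ T'}
    {a : P' ⟶ P} {b : T' ⟶ T} (sq : IsPullback a q' q b) (U : P.Opens) (U' : P'.Opens)
    (hU : U' = a ⁻¹ᵁ U) (h : Smooth (U.ι ≫ q)) : Smooth (U'.ι ≫ q') := by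
  subst hU
  exact MorphismProperty.of_isPullback (P := @Smooth)
    ((isPullback_morphismRestrict a U).paste_vert sq) h

/-- **Base change** of a smooth stratification. -/
theorem Strat.of_isPullback {n : ℕ} : ∀ {P T P' T' : Scheme.{u}} {q : P ⟶ T} {q' : P' ⟶ T'}
    {a : P' ⟶ P} {b : T' ⟶ T}, IsPullback a q' q b → Strat n q → Strat n q' := by
  induction n with
  | zero =>
    intro P T P' T' q q' a b _ h
    rw [strat_zero] at h ⊢
    exact Function.isEmpty a
  | succ n ih =>
    intro P T P' T' q q' a b sq h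
    rw [strat_succ] at h ⊢
    obtain ⟨Z, z, hz, hfp, hsm, hrec⟩ := h
    have sqZ : IsPullback (pullback.snd z a) (pullback.fst z a) a z :=
      (IsPullback.of_hasPullback z a).flip
    haveI : IsClosedImmersion (pullback.snd z a) :=
      MorphismProperty.pullback_snd (P := @IsClosedImmersion) _ _ hz
    refine ⟨pullback z a, pullback.snd z a, inferInstance,
      MorphismProperty.pullback_snd (P := @LocallyOfFinitePresentation) _ _ hfp, ?_, ?_⟩
    · exact smooth_ι_comp_of_isPullback sq (cOpen z) _ (cOpen_of_isPullback sqZ) hsm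
    · exact ih ((IsPullback.of_hasPullback z a).paste_vert sq) hrec

/-- Invariance of a smooth stratification under an isomorphism of the source. -/
theorem Strat.of_iso {n : ℕ} {P P' T : Scheme.{u}} (e : P' ≅ P) {q : P ⟶ T} (h : Strat n q) :
    Strat n (e.hom ≫ q) :=
  Strat.of_isPullback (IsPullback.of_horiz_isIso ⟨by rw [Category.comp_id]⟩) h

/-- Invariance of a smooth stratification under isomorphisms. -/
theorem Strat.of_iso' {n : ℕ} {P P' T : Scheme.{u}} (e : P' ≅ P) {q : P ⟶ T} {q' : P' ⟶ T}
    (hq : e.hom ≫ q = q') (h : Strat n q) : Strat n q' :=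
  hq ▸ h.of_iso e

end Groth.Agent.Lib.helper9.SmStrat
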