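/-
Helper library (helper9): conversion between the recursive form `Strat` of a smooth stratification
and the form by an increasing chain of ideal sheaves.
-/
import Groth.Agent.Lib.Helper9.SmStrat1

set_option autoImplicit false
set_option linter.style.haveILetI false
set_option backward.isDefEq.respectTransparency false

namespace Groth.Agent.Lib.helper9.SmStrat

open AlgebraicGeometry CategoryTheory Limits TopologicalSpace

universe u

variable {P T : Scheme.{u}}

/-- One step of a stratification by ideal sheaves: the open part of `V(I)` off `V(I')` is smooth. -/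
def SmStep (q : P ⟶ T) (I I' : P.IdealSheafData) : Prop :=
  Smooth ((I.subschemeι ⁻¹ᵁ I'.support.compl).ι ≫ I.subschemeι ≫ q)

theorem smooth_ι_comp_congr {Z W : Scheme.{u}} (g : Z ⟶ W) {U U' : Z.Opens} (h : U = U') :
    Smooth (U.ι ≫ g) ↔ Smooth (U'.ι ≫ g) := by
  subst h
  rfl

/-- The kernel of a closed immersion of finite presentation is of finite type. -/
theorem ker_ideal_fg {Z : Scheme.{u}} (ζ : Z ⟶ P) [IsClosedImmersion ζ]
    [LocallyOfFinitePresentation ζ] (O : P.affineOpens) : ((ζ.ker).ideal O).FG := by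
  rw [ζ.ker_apply O]
  have h1 : Function.Surjective (ζ.app O.1).hom := ζ.app_surjective O.1 O.2
  have h2 : (ζ.app O.1).hom.FinitePresentation := by
    rw [Scheme.Hom.app_eq_appLE]
    exact ζ.finitePresentation_appLE O.2 (O.2.preimage ζ) le_rfl
  letI := (ζ.app O.1).hom.toAlgebra
  have : Algebra.FinitePresentation Γ(P, O.1) Γ(Z, ζ ⁻¹ᵁ O.1) := h2
  exact Algebra.FinitePresentation.ker_fG_of_surjective (Algebra.ofId _ _) h1

/-- The support of the kernel of a closed immersion is its range. -/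
theorem support_ker_eq_range {Z : Scheme.{u}} (ζ : Z ⟶ P) [IsClosedImmersion ζ] :
    (ζ.ker.support : Set P) = Set.range ⇑ζ := by
  rw [ζ.support_ker, ζ.isClosedEmbedding.isClosed_range.closure_eq]

/-- The stratum `V(ker ζ) ∖ V(ker (z ≫ ζ))` is isomorphic to `Z ∖ z(Z')`. -/
theorem smStep_ker_iff (q : P ⟶ T) {Z Z' : Scheme.{u}} (ζ : Z ⟶ P) [IsClosedImmersion ζ]
    (z : Z' ⟶ Z) [IsClosedImmersion z] :
    SmStep q ζ.ker (z ≫ ζ).ker ↔ Smooth ((cOpen z).ι ≫ ζ ≫ q) := by
  unfold SmStep
  let e : Z ⟶ ζ.ker.subscheme := ζ.toImage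
  have he : e ≫ ζ.ker.subschemeι = ζ := ζ.toImage_imageι
  let W₁ : ζ.ker.subscheme.Opens := ζ.ker.subschemeι ⁻¹ᵁ (z ≫ ζ).ker.support.compl
  have hW : e ⁻¹ᵁ W₁ = cOpen z := by
    ext x
    simp only [Scheme.Hom.coe_preimage, Set.mem_preimage, SetLike.mem_coe, W₁]
    show ζ.ker.subschemeι (e x) ∈ ((z ≫ ζ).ker.support : Set P)ᶜ ↔ _
    rw [← Scheme.Hom.comp_apply, he, support_ker_eq_range, mem_cOpen]
    simp only [Set.mem_compl_iff, Set.mem_range, not_iff_not]
    constructor
    · rintro ⟨y, hy⟩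
      refine ⟨y, ζ.isClosedEmbedding.injective ?_⟩
      rw [← hy, Scheme.Hom.comp_apply]
    · rintro ⟨y, rfl⟩
      exact ⟨y, Scheme.Hom.comp_apply _ _ _⟩
  rw [← smooth_ι_comp_congr (ζ ≫ q) hW]
  have h1 : (e ∣_ W₁) ≫ W₁.ι ≫ ζ.ker.subschemeι ≫ q = (e ⁻¹ᵁ W₁).ι ≫ ζ ≫ q := by
    rw [← Category.assoc, morphismRestrict_ι, Category.assoc, reassoc_of% he]
  rw [← h1]
  exact (MorphismProperty.cancel_left_of_respectsIso @Smooth (e ∣_ W₁) _).symm

/-- **From the recursive form to ideal sheaves.** -/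
theorem exists_idealSheafData_of_strat {n : ℕ} : ∀ (q : P ⟶ T) {Z : Scheme.{u}} (ζ : Z ⟶ P)
    [IsClosedImmersion ζ] [LocallyOfFinitePresentation ζ], Strat n (ζ ≫ q) →
    ∃ J : Fin (n + 1) → P.IdealSheafData, Monotone J ∧ J (Fin.last n) = ⊤ ∧ J 0 = ζ.ker ∧
      (∀ i, ∀ O : P.affineOpens, ((J i).ideal O).FG) ∧
      ∀ i : Fin n, SmStep q (J i.castSucc) (J i.succ) := by
  induction n with
  | zero =>
    intro q Z ζ _ _ h
    rw [strat_zero] at h
    have htop : ζ.ker = ⊤ := Scheme.ker_eq_top_of_isEmpty ζ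
    refine ⟨fun _ => ζ.ker, fun _ _ _ => le_rfl, htop, rfl, fun _ O => ker_ideal_fg ζ O,
      fun i => i.elim0⟩
  | succ n ih =>
    intro q Z ζ _ _ h
    rw [strat_succ] at h
    obtain ⟨Z', z, hz, hfp, hsm, hrec⟩ := h
    rw [← Category.assoc] at hrec
    obtain ⟨J', hmono, htop, h0, hfg, hstep⟩ := ih q (z ≫ ζ) hrec
    refine ⟨Fin.cons ζ.ker J', ?_, ?_, ?_, ?_, ?_⟩
    · rw [Fin.monotone_iff_le_succ]
      intro i
      refine Fin.cases ?_ (fun j => ?_) i
      · show (Fin.cons ζ.ker J' : Fin (n + 2) → _) 0 ≤ (Fin.cons ζ.ker J' : Fin (n + 2) → _) (Fin.succ 0)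
        rw [Fin.cons_zero, Fin.cons_succ, h0]
        exact z.le_ker_comp ζ
      · rw [← Fin.succ_castSucc, Fin.cons_succ, Fin.cons_succ]
        exact hmono (Fin.castSucc_lt_succ (i := j)).le
    · rw [← Fin.succ_last, Fin.cons_succ, htop]
    · exact Fin.cons_zero _ _
    · intro i
      refine Fin.cases ?_ (fun j => ?_) i
      · rw [Fin.cons_zero]
        exact fun O => ker_ideal_fg ζ O
      · rw [Fin.cons_succ]
        exact hfg j
    · intro i
      refine Fin.cases ?_ (fun j => ?_) i
      · show SmStep q ((Fin.cons ζ.ker J' : Fin (n + 2) → _) 0)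
          ((Fin.cons ζ.ker J' : Fin (n + 2) → _) (Fin.succ 0))
        rw [Fin.cons_zero, Fin.cons_succ, h0, smStep_ker_iff]
        exact hsm
      · rw [← Fin.succ_castSucc, Fin.cons_succ, Fin.cons_succ]
        exact hstep j

/-- **From ideal sheaves to the recursive form** (over a locally Noetherian scheme). -/
theorem strat_of_idealSheafData [IsLocallyNoetherian P] (q : P ⟶ T) {n : ℕ} :
    ∀ (J : Fin (n + 1) → P.IdealSheafData), Monotone J → J (Fin.last n) = ⊤ →
      (∀ i : Fin n, SmStep q (J i.castSucc) (J i.succ)) → Strat n ((J 0).subschemeι ≫ q) := by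
  induction n with
  | zero =>
    intro J _ htop _
    rw [strat_zero]
    have h0 : J 0 = ⊤ := htop
    rw [h0]
    refine ⟨fun x => ?_⟩
    have := (⊤ : P.IdealSheafData).range_subschemeι ▸ Set.mem_range_self (f := ⇑(⊤ : P.IdealSheafData).subschemeι) x
    simp at this
  | succ n ih =>
    intro J hmono htop hstep
    rw [strat_succ]
    have hle : J 0 ≤ J 1 := hmono (Fin.zero_le _)
    let z := Scheme.IdealSheafData.inclusion hle
    have hz : z ≫ (J 0).subschemeι = (J 1).subschemeι :=
      Scheme.IdealSheafData.inclusion_subschemeι hle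
    haveI : IsClosedImmersion (z ≫ (J 0).subschemeι) := by rw [hz]; infer_instance
    haveI hzc : IsClosedImmersion z := IsClosedImmersion.of_comp z (J 0).subschemeι
    haveI : IsLocallyNoetherian (J 0).subscheme := by
      haveI : LocallyOfFiniteType (J 0).subschemeι := inferInstance
      exact LocallyOfFiniteType.isLocallyNoetherian (J 0).subschemeι
    have hfp : LocallyOfFinitePresentation z :=
      LocallyOfFinitePresentation.iff_locallyOfFiniteType.mpr inferInstance
    refine ⟨(J 1).subscheme, z, hzc, hfp, ?_, ?_⟩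
    · have h0 := hstep 0
      have hopen : cOpen z = (J 0).subschemeι ⁻¹ᵁ (J 1).support.compl := by
        ext x
        rw [SetLike.mem_coe, mem_cOpen]
        show _ ↔ (J 0).subschemeι x ∈ ((J 1).support : Set P)ᶜ
        rw [Set.mem_compl_iff, not_iff_not, ← (J 1).range_subschemeι, ← hz]
        constructor
        · rintro ⟨y, rfl⟩
          exact ⟨y, Scheme.Hom.comp_apply _ _ _⟩
        · rintro ⟨y, hy⟩
          refine ⟨y, (J 0).subschemeι.isClosedEmbedding.injective ?_⟩
          rw [← hy, Scheme.Hom.comp_apply]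
      rw [smooth_ι_comp_congr _ hopen]
      exact h0
    · have := ih (fun i => J i.succ) (fun a b hab => hmono (Fin.succ_le_succ_iff.mpr hab))
        (by rw [Fin.succ_last]; exact htop)
        (fun i => by
          have := hstep i.succ
          rwa [← Fin.succ_castSucc] at this)
      rw [← Category.assoc, hz]
      exact this

end Groth.Agent.Lib.helper9.SmStrat
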