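/-
Helper library (helper9): recursive form of a "stratification of the base": for a scheme `S` and
a property `G` of `S`-schemes `E ⟶ S` which is stable under precomposition, `BStrat G n g` says
that `E` has a chain of `n` closed subschemes of finite presentation, the last one empty, whose
successive (open) differences satisfy `G`.
-/
import Groth.Agent.Lib.Helper9.SmStrat2

set_option autoImplicit false
set_option linter.style.haveILetI false
set_option backward.isDefEq.respectTransparency false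

namespace Groth.Agent.Lib.helper9.SmGlob

open AlgebraicGeometry CategoryTheory Limits TopologicalSpace
open Groth.Agent.Lib.helper9.SmStrat

universe u

variable {S : Scheme.{u}}

/-- `BStrat G n g`: a chain of `n` closed subschemes of finite presentation of `E`, the last one
empty, with successive differences satisfying `G`. -/
def BStrat (G : ∀ ⦃E : Scheme.{u}⦄, (E ⟶ S) → Prop) : ℕ → ∀ {E : Scheme.{u}}, (E ⟶ S) → Prop
  | 0, E, _ => IsEmpty E
  | n + 1, E, g => ∃ (Z : Scheme.{u}) (z : Z ⟶ E) (_ : IsClosedImmersion z),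
      LocallyOfFinitePresentation z ∧ G ((cOpen z).ι ≫ g) ∧ BStrat G n (z ≫ g)

variable (G : ∀ ⦃E : Scheme.{u}⦄, (E ⟶ S) → Prop)

theorem bstrat_zero {E : Scheme.{u}} (g : E ⟶ S) : BStrat G 0 g ↔ IsEmpty E := Iff.rfl

theorem bstrat_succ {n : ℕ} {E : Scheme.{u}} (g : E ⟶ S) :
    BStrat G (n + 1) g ↔ ∃ (Z : Scheme.{u}) (z : Z ⟶ E) (_ : IsClosedImmersion z),
      LocallyOfFinitePresentation z ∧ G ((cOpen z).ι ≫ g) ∧ BStrat G n (z ≫ g) := Iff.rfl

variable {G}

theorem BStrat.congr {n : ℕ} {E : Scheme.{u}} {g g' : E ⟶ S} (h : g = g')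
    (hs : BStrat G n g) : BStrat G n g' := h ▸ hs

/-- `HasBStrat G n g`: a thickening of finite presentation of `E` has a `BStrat`. -/
def HasBStrat (G : ∀ ⦃E : Scheme.{u}⦄, (E ⟶ S) → Prop) (n : ℕ) {E : Scheme.{u}} (g : E ⟶ S) :
    Prop :=
  ∃ (Z : Scheme.{u}) (z : Z ⟶ E), IsClosedImmersion z ∧ LocallyOfFinitePresentation z ∧
    Surjective z ∧ BStrat G n (z ≫ g)

theorem HasBStrat.congr {n : ℕ} {E : Scheme.{u}} {g g' : E ⟶ S} (h : g = g')
    (hs : HasBStrat G n g) : HasBStrat G n g' := h ▸ hs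

theorem BStrat.hasBStrat {n : ℕ} {E : Scheme.{u}} {g : E ⟶ S} (h : BStrat G n g) :
    HasBStrat G n g :=
  ⟨E, 𝟙 E, inferInstance, inferInstance, inferInstance, h.congr (Category.id_comp g).symm⟩

/-- Stability of `G` under precomposition. -/
def StableG (G : ∀ ⦃E : Scheme.{u}⦄, (E ⟶ S) → Prop) : Prop :=
  ∀ ⦃E E' : Scheme.{u}⦄ (a : E' ⟶ E) (g : E ⟶ S), G g → G (a ≫ g)

theorem G_ι_comp_of_eq_preimage (hG : StableG G) {E E' : Scheme.{u}} (a : E' ⟶ E) (g : E ⟶ S)
    (U : E.Opens) (U' : E'.Opens) (hU : U' = a ⁻¹ᵁ U) (h : G (U.ι ≫ g)) :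
    G (U'.ι ≫ a ≫ g) := by
  subst hU
  have h1 : (a ⁻¹ᵁ U).ι ≫ a ≫ g = (a ∣_ U) ≫ U.ι ≫ g := by
    rw [← Category.assoc, ← morphismRestrict_ι, Category.assoc]
  rw [h1]
  exact hG _ _ h

/-- **Base change** of a stratification of the base. -/
theorem BStrat.comp (hG : StableG G) {n : ℕ} : ∀ {E E' : Scheme.{u}} (a : E' ⟶ E) {g : E ⟶ S},
    BStrat G n g → BStrat G n (a ≫ g) := by
  induction n with
  | zero =>
    intro E E' a g h
    rw [bstrat_zero] at h ⊢
    exact Function.isEmpty a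
  | succ n ih =>
    intro E E' a g h
    rw [bstrat_succ] at h ⊢
    obtain ⟨Z, z, hz, hfp, hGz, hrec⟩ := h
    have sqZ : IsPullback (pullback.snd z a) (pullback.fst z a) a z :=
      (IsPullback.of_hasPullback z a).flip
    haveI : IsClosedImmersion (pullback.snd z a) :=
      MorphismProperty.pullback_snd (P := @IsClosedImmersion) _ _ hz
    refine ⟨pullback z a, pullback.snd z a, inferInstance,
      MorphismProperty.pullback_snd (P := @LocallyOfFinitePresentation) _ _ hfp, ?_, ?_⟩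
    · exact G_ι_comp_of_eq_preimage hG a g (cOpen z) _ (cOpen_of_isPullback sqZ) hGz
    · have h1 := ih (pullback.fst z a) hrec
      refine h1.congr ?_
      rw [← Category.assoc, pullback.condition, Category.assoc]

theorem HasBStrat.comp (hG : StableG G) {n : ℕ} {E E' : Scheme.{u}} (a : E' ⟶ E) {g : E ⟶ S}
    (h : HasBStrat G n g) : HasBStrat G n (a ≫ g) := by
  obtain ⟨Z, z, h1, h2, h3, h4⟩ := h
  refine ⟨pullback z a, pullback.snd z a,
    MorphismProperty.pullback_snd (P := @IsClosedImmersion) _ _ h1,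
    MorphismProperty.pullback_snd (P := @LocallyOfFinitePresentation) _ _ h2,
    MorphismProperty.pullback_snd (P := @Surjective) _ _ h3, ?_⟩
  have h5 := BStrat.comp hG (pullback.fst z a) h4
  refine h5.congr ?_
  rw [← Category.assoc, pullback.condition, Category.assoc]

/-- Transfer of `BStrat` along a change of the base scheme and of the property. -/
theorem BStrat.of_base {S₀ : Scheme.{u}} {G₀ : ∀ ⦃E : Scheme.{u}⦄, (E ⟶ S₀) → Prop} (b : S ⟶ S₀)
    (hGG : ∀ ⦃E : Scheme.{u}⦄ (g : E ⟶ S), G₀ (g ≫ b) → G g) {n : ℕ} :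
    ∀ {E : Scheme.{u}} {g : E ⟶ S}, BStrat G₀ n (g ≫ b) → BStrat G n g := by
  induction n with
  | zero =>
    intro E g h
    exact h
  | succ n ih =>
    intro E g h
    rw [bstrat_succ] at h ⊢
    obtain ⟨Z, z, hz, hfp, hGz, hrec⟩ := h
    refine ⟨Z, z, hz, hfp, hGG _ ?_, ih ?_⟩
    · rw [Category.assoc]
      exact hGz
    · rw [Category.assoc]
      exact hrec

theorem HasBStrat.of_base {S₀ : Scheme.{u}} {G₀ : ∀ ⦃E : Scheme.{u}⦄, (E ⟶ S₀) → Prop}
    (b : S ⟶ S₀) (hGG : ∀ ⦃E : Scheme.{u}⦄ (g : E ⟶ S), G₀ (g ≫ b) → G g) {n : ℕ}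
    {E : Scheme.{u}} {g : E ⟶ S} (h : HasBStrat G₀ n (g ≫ b)) : HasBStrat G n g := by
  obtain ⟨Z, z, h1, h2, h3, h4⟩ := h
  refine ⟨Z, z, h1, h2, h3, BStrat.of_base b hGG ?_⟩
  rw [Category.assoc]
  exact h4

/-- Transfer of `BStrat` from a scheme `S'` over `S` to `S`. -/
theorem BStrat.to_base {S' : Scheme.{u}} {G' : ∀ ⦃E : Scheme.{u}⦄, (E ⟶ S') → Prop} (b : S' ⟶ S)
    (hGG : ∀ ⦃E : Scheme.{u}⦄ (g : E ⟶ S'), G' g → G (g ≫ b)) {n : ℕ} :
    ∀ {E : Scheme.{u}} {g : E ⟶ S'}, BStrat G' n g → BStrat G n (g ≫ b) := by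
  induction n with
  | zero =>
    intro E g h
    exact h
  | succ n ih =>
    intro E g h
    rw [bstrat_succ] at h ⊢
    obtain ⟨Z, z, hz, hfp, hGz, hrec⟩ := h
    refine ⟨Z, z, hz, hfp, ?_, ?_⟩
    · have := hGG _ hGz
      rwa [Category.assoc] at this
    · have := ih hrec
      rwa [Category.assoc] at this

theorem HasBStrat.to_base {S' : Scheme.{u}} {G' : ∀ ⦃E : Scheme.{u}⦄, (E ⟶ S') → Prop}
    (b : S' ⟶ S) (hGG : ∀ ⦃E : Scheme.{u}⦄ (g : E ⟶ S'), G' g → G (g ≫ b)) {n : ℕ}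
    {E : Scheme.{u}} {g : E ⟶ S'} (h : HasBStrat G' n g) : HasBStrat G n (g ≫ b) := by
  obtain ⟨Z, z, h1, h2, h3, h4⟩ := h
  refine ⟨Z, z, h1, h2, h3, ?_⟩
  have := BStrat.to_base b hGG h4
  rwa [Category.assoc] at this

end Groth.Agent.Lib.helper9.SmGlob
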