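/-
Helper library (helper9): from the recursive form `BStrat` of a stratification of the base to an
increasing chain of ideal sheaves of finite type.
-/
import Groth.Agent.Lib.Helper9.SmGlob1

set_option autoImplicit false
set_option linter.style.haveILetI false
set_option backward.isDefEq.respectTransparency false

namespace Groth.Agent.Lib.helper9.SmGlob

open AlgebraicGeometry CategoryTheory Limits TopologicalSpace
open Groth.Agent.Lib.helper9.SmStrat

universe u

variable {S : Scheme.{u}} {G : ∀ ⦃E : Scheme.{u}⦄, (E ⟶ S) → Prop}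

/-- The inclusion of the locally closed stratum `V(I) ∖ V(I')` into `E`. -/
noncomputable def stratumι {E : Scheme.{u}} (I I' : E.IdealSheafData) :
    ↑(I.subschemeι ⁻¹ᵁ I'.support.compl) ⟶ E :=
  (I.subschemeι ⁻¹ᵁ I'.support.compl).ι ≫ I.subschemeι

/-- The stratum `V(ker ζ) ∖ V(ker (z ≫ ζ))` is isomorphic to `Z ∖ z(Z')`. -/
theorem G_stratumι_ker (hG : StableG G) {E : Scheme.{u}} (g : E ⟶ S) {Z Z' : Scheme.{u}}
    (ζ : Z ⟶ E) [IsClosedImmersion ζ] (z : Z' ⟶ Z) [IsClosedImmersion z]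
    (h : G ((cOpen z).ι ≫ ζ ≫ g)) : G (stratumι ζ.ker (z ≫ ζ).ker ≫ g) := by
  unfold stratumι
  let e : Z ⟶ ζ.ker.subscheme := ζ.toImage
  have he : e ≫ ζ.ker.subschemeι = ζ := ζ.toImage_imageι
  let W₁ : ζ.ker.subscheme.Opens := ζ.ker.subschemeι ⁻¹ᵁ (z ≫ ζ).ker.support.compl
  have hW : e ⁻¹ᵁ W₁ = cOpen z := by
    ext x
    simp only [Scheme.Hom.coe_preimage, Set.mem_preimage, SetLike.mem_coe, W₁]
    show ζ.ker.subschemeι (e x) ∈ ((z ≫ ζ).ker.support : Set E)ᶜ ↔ _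
    rw [← Scheme.Hom.comp_apply, he, support_ker_eq_range, mem_cOpen]
    simp only [Set.mem_compl_iff, Set.mem_range, not_iff_not]
    constructor
    · rintro ⟨y, hy⟩
      refine ⟨y, ζ.isClosedEmbedding.injective ?_⟩
      rw [← hy, Scheme.Hom.comp_apply]
    · rintro ⟨y, rfl⟩
      exact ⟨y, Scheme.Hom.comp_apply _ _ _⟩
  have h' : G ((e ⁻¹ᵁ W₁).ι ≫ ζ ≫ g) := by
    rw [hW]
    exact h
  have h1 : (e ∣_ W₁) ≫ W₁.ι ≫ ζ.ker.subschemeι ≫ g = (e ⁻¹ᵁ W₁).ι ≫ ζ ≫ g := by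
    rw [← Category.assoc, morphismRestrict_ι, Category.assoc, reassoc_of% he]
  rw [← h1] at h'
  have h2 := hG (inv (e ∣_ W₁)) _ h'
  rw [IsIso.inv_hom_id_assoc] at h2
  simpa only [Category.assoc] using h2

/-- **From the recursive form to ideal sheaves.** -/
theorem exists_idealSheafData_of_bstrat (hG : StableG G) {n : ℕ} :
    ∀ {E : Scheme.{u}} (g : E ⟶ S) {Z : Scheme.{u}} (ζ : Z ⟶ E)
    [IsClosedImmersion ζ] [LocallyOfFinitePresentation ζ], BStrat G n (ζ ≫ g) →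
    ∃ I : Fin (n + 1) → E.IdealSheafData, Monotone I ∧ I (Fin.last n) = ⊤ ∧ I 0 = ζ.ker ∧
      (∀ i, ∀ O : E.affineOpens, ((I i).ideal O).FG) ∧
      ∀ i : Fin n, G (stratumι (I i.castSucc) (I i.succ) ≫ g) := by
  induction n with
  | zero =>
    intro E g Z ζ _ _ h
    rw [bstrat_zero] at h
    have htop : ζ.ker = ⊤ := Scheme.ker_eq_top_of_isEmpty ζ
    refine ⟨fun _ => ζ.ker, fun _ _ _ => le_rfl, htop, rfl, fun _ O => ker_ideal_fg ζ O,
      fun i => i.elim0⟩
  | succ n ih =>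
    intro E g Z ζ _ _ h
    rw [bstrat_succ] at h
    obtain ⟨Z', z, hz, hfp, hsm, hrec⟩ := h
    rw [← Category.assoc] at hrec
    obtain ⟨J', hmono, htop, h0, hfg, hstep⟩ := ih g (z ≫ ζ) hrec
    refine ⟨Fin.cons ζ.ker J', ?_, ?_, ?_, ?_, ?_⟩
    · rw [Fin.monotone_iff_le_succ]
      intro i
      refine Fin.cases ?_ (fun j => ?_) i
      · show (Fin.cons ζ.ker J' : Fin (n + 2) → _) 0 ≤
          (Fin.cons ζ.ker J' : Fin (n + 2) → _) (Fin.succ 0)
        rw [Fin.cons_zero, Fin.cons_succ, h0]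
        exact z.le_ker_comp ζ
      · rw [← Fin.succ_castSucc, Fin.cons_succ, Fin.cons_succ]
        exact hmono (Fin.castSucc_lt_succ (i := j)).le
    · rw [← Fin.succ_last, Fin.cons_succ, htop]
    · exact Fin.cons_zero _ _
    · intro i
      refine Fin.cases ?_ (fun j => ?_) i
      · rw [Fin.cons_zero]
        exact fun O => ker_ideal_fg ζ O
      · rw [Fin.cons_succ]
        exact hfg j
    · intro i
      refine Fin.cases ?_ (fun j => ?_) i
      · show G (stratumι ((Fin.cons ζ.ker J' : Fin (n + 2) → _) 0)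
          ((Fin.cons ζ.ker J' : Fin (n + 2) → _) (Fin.succ 0)) ≫ g)
        rw [Fin.cons_zero, Fin.cons_succ, h0]
        exact G_stratumι_ker hG g ζ z hsm
      · rw [← Fin.succ_castSucc, Fin.cons_succ, Fin.cons_succ]
        exact hstep j

end Groth.Agent.Lib.helper9.SmGlob
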