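/-
Helper library (helper9): constructible sets and subspaces / embeddings.
-/
import Mathlib.Topology.Constructible
import Mathlib.Topology.Spectral.Prespectral

set_option autoImplicit false
set_option linter.style.haveILetI false

namespace Groth.Agent.Lib.helper9

open Topology TopologicalSpace Set

universe u v

variable {X : Type u} {Y : Type v} [tX : TopologicalSpace X] [tY : TopologicalSpace Y]

/-- Induction principle: a constructible set is a finite union of differences of retrocompact
opens. -/
theorem isConstructible_sdiff_sup_induction {p : ∀ s : Set X, IsConstructible s → Prop}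
    (sdiff : ∀ (U V : Set X) (hUo : IsOpen U) (hUr : IsRetrocompact U) (hVo : IsOpen V)
      (hVr : IsRetrocompact V), p (U \ V) ((hUr.isConstructible hUo).sdiff (hVr.isConstructible hVo)))
    (sup : ∀ (s t : Set X) (hs : IsConstructible s) (ht : IsConstructible t), p s hs → p t ht →
      p (s ∪ t) (hs.union ht))
    {s : Set X} (hs : IsConstructible s) : p s hs := by
  induction s, hs using BooleanSubalgebra.closure_sdiff_sup_induction with
  | isSublattice =>
    exact ⟨fun s hs t ht ↦ ⟨hs.1.union ht.1, hs.2.union ht.2⟩,
      fun s hs t ht ↦ ⟨hs.1.inter ht.1, hs.2.inter_isOpen ht.2 ht.1⟩⟩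
  | bot_mem => exact ⟨isOpen_empty, .empty⟩
  | top_mem => exact ⟨isOpen_univ, .univ⟩
  | sdiff U hU V hV => exact sdiff U V hU.1 hU.2 hV.1 hV.2
  | sup s hs t ht hs' ht' => exact sup s t hs ht hs' ht'

/-- Constructible sets are retrocompact. -/
theorem isRetrocompact_of_isConstructible {s : Set X} (hs : IsConstructible s) :
    IsRetrocompact s := by
  induction hs using isConstructible_sdiff_sup_induction with
  | sdiff U V hUo hUr hVo hVr =>
    intro W hWc hWo
    have h1 : IsCompact (U ∩ W) := hUr hWc hWo
    have h2 : (U \ V) ∩ W = (U ∩ W) ∩ Vᶜ := by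
      ext x
      simp only [Set.mem_inter_iff, Set.mem_sdiff, Set.mem_compl_iff]
      tauto
    rw [h2]
    exact h1.inter_right hVo.isClosed_compl
  | sup s t _ _ hs' ht' => exact hs'.union ht'

/-- An inducing map with retrocompact range is spectral. -/
theorem isSpectralMap_of_isInducing_of_isRetrocompact_range {f : Y → X} (hf : IsInducing f)
    (hr : IsRetrocompact (range f)) : IsSpectralMap f := by
  refine ⟨hf.continuous, fun K hKo hKc => ?_⟩
  have h1 : IsCompact (range f ∩ K) := hr hKc hKo
  have h2 : f ⁻¹' K = f ⁻¹' (range f ∩ K) := by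
    ext y
    simp
  rw [h2, hf.isCompact_preimage_iff Set.inter_subset_left]
  exact h1

/-- Preimages of retrocompact opens under an inducing spectral map into a prespectral space are
retrocompact. -/
theorem isRetrocompact_preimage_of_isInducing [PrespectralSpace X] {f : Y → X}
    (hf : IsInducing f) (hsp : IsSpectralMap f) {s : Set X} (hso : IsOpen s)
    (hsr : IsRetrocompact s) : IsRetrocompact (f ⁻¹' s) := by
  intro W hWc hWo
  obtain ⟨W', hW'o, rfl⟩ := hf.isOpen_iff.mp hWo
  obtain ⟨K, hKc, hKo, hWK, hKW'⟩ := PrespectralSpace.exists_isCompact_and_isOpen_between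
    (hWc.image hf.continuous) hW'o (by
      rintro _ ⟨t, ht, rfl⟩
      exact ht)
  have heq : f ⁻¹' s ∩ f ⁻¹' W' = f ⁻¹' (s ∩ K) := by
    ext t
    constructor
    · rintro ⟨h1, h2⟩
      exact ⟨h1, hWK ⟨t, h2, rfl⟩⟩
    · rintro ⟨h1, h2⟩
      exact ⟨h1, hKW' h2⟩
  rw [heq]
  exact hsp.2 (hso.inter hKo) (hsr hKc hKo)

/-- Preimages of constructible sets under an inducing spectral map into a prespectral space are
constructible. -/
theorem isConstructible_preimage_of_isInducing [PrespectralSpace X] {f : Y → X}
    (hf : IsInducing f) (hsp : IsSpectralMap f) {s : Set X} (hs : IsConstructible s) :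
    IsConstructible (f ⁻¹' s) :=
  hs.preimage hf.continuous fun _ hso hsr => isRetrocompact_preimage_of_isInducing hf hsp hso hsr

/-- The image of a constructible set under an embedding whose range is the difference of two
retrocompact opens is constructible. -/
theorem isConstructible_image_of_range_eq_sdiff {f : Y → X} (hf : IsEmbedding f)
    {U V : Set X} (hUo : IsOpen U) (hUr : IsRetrocompact U) (hVo : IsOpen V)
    (hVr : IsRetrocompact V) (hrange : range f = U \ V) {F : Set Y} (hF : IsConstructible F) :
    IsConstructible (f '' F) := by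
  have hfU : ∀ y, f y ∈ U := fun y => by
    have : f y ∈ U \ V := hrange ▸ mem_range_self y
    exact this.1
  let g : Y → U := fun y => ⟨f y, hfU y⟩
  have hg : IsEmbedding g := by
    refine IsEmbedding.of_comp (hf.continuous.subtype_mk _) continuous_subtype_val ?_
    exact hf
  have hgrange : range g = Subtype.val ⁻¹' Vᶜ := by
    ext u
    constructor
    · rintro ⟨y, rfl⟩
      have : f y ∈ U \ V := hrange ▸ mem_range_self y
      exact this.2
    · intro hu
      have : u.1 ∈ range f := by
        rw [hrange]
        exact ⟨u.2, hu⟩
      obtain ⟨y, hy⟩ := this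
      exact ⟨y, Subtype.ext hy⟩
  have hgc : IsClosedEmbedding g := by
    refine ⟨hg, ?_⟩
    rw [hgrange]
    exact hVo.isClosed_compl.preimage continuous_subtype_val
  have hcompl : IsRetrocompact (range g)ᶜ := by
    rw [hgrange, ← Set.preimage_compl, compl_compl]
    exact hVr.preimage_of_isOpenEmbedding hUo.isOpenEmbedding_subtypeVal
  have h1 : IsConstructible (g '' F) := hF.image_of_isClosedEmbedding hgc hcompl
  have h2 : IsConstructible (Subtype.val '' (g '' F)) :=
    h1.image_of_isOpenEmbedding hUo.isOpenEmbedding_subtypeVal (by
      rw [Subtype.range_coe]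
      exact hUr)
  have h3 : Subtype.val '' (g '' F) = f '' F := by
    rw [Set.image_image]
  rw [← h3]
  exact h2

/-- The image of a constructible set under an embedding with constructible range into a
prespectral space is constructible. -/
theorem isConstructible_image_of_isEmbedding [PrespectralSpace X] {E : Set X}
    (hE : IsConstructible E) :
    ∀ {Y : Type u} [TopologicalSpace Y] {f : Y → X}, IsEmbedding f → range f = E →
      ∀ {F : Set Y}, IsConstructible F → IsConstructible (f '' F) := by
  induction hE using isConstructible_sdiff_sup_induction with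
  | sdiff U V hUo hUr hVo hVr =>
    intro Y _ f hf hrange F hF
    exact isConstructible_image_of_range_eq_sdiff hf hUo hUr hVo hVr hrange hF
  | sup s t hs ht ihs iht =>
    intro Y _ f hf hrange F hF
    have hsp : IsSpectralMap f := isSpectralMap_of_isInducing_of_isRetrocompact_range
      hf.isInducing (hrange ▸ isRetrocompact_of_isConstructible (hs.union ht))
    haveI : PrespectralSpace Y := PrespectralSpace.of_isInducing f hf.isInducing hsp
    -- a general step
    have step : ∀ r : Set X, IsConstructible r → r ⊆ s ∪ t →
        (∀ {Y : Type u} [TopologicalSpace Y] {f : Y → X}, IsEmbedding f → range f = r →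
          ∀ {F : Set Y}, IsConstructible F → IsConstructible (f '' F)) →
        IsConstructible (f '' (F ∩ f ⁻¹' r)) := by
      intro r hr hrsub ih
      have hpre : IsConstructible (f ⁻¹' r) :=
        isConstructible_preimage_of_isInducing hf.isInducing hsp hr
      have hretro : IsRetrocompact (f ⁻¹' r) := isRetrocompact_of_isConstructible hpre
      have hvsp : IsSpectralMap (Subtype.val : ↥(f ⁻¹' r) → Y) :=
        IsRetrocompact_iff_isSpectralMap_subtypeVal.mp hretro
      have hFr : IsConstructible ((Subtype.val : ↥(f ⁻¹' r) → Y) ⁻¹' F) :=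
        isConstructible_preimage_of_isInducing IsInducing.subtypeVal hvsp hF
      have hemb : IsEmbedding (f ∘ (Subtype.val : ↥(f ⁻¹' r) → Y)) :=
        hf.comp IsEmbedding.subtypeVal
      have hrg : range (f ∘ (Subtype.val : ↥(f ⁻¹' r) → Y)) = r := by
        rw [Set.range_comp, Subtype.range_coe, Set.image_preimage_eq_inter_range, hrange]
        exact Set.inter_eq_left.mpr hrsub
      have := ih hemb hrg hFr
      rw [Set.image_comp, Subtype.image_preimage_coe] at this
      rwa [Set.inter_comm]
    have h1 := step s hs Set.subset_union_left ihs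
    have h2 := step t ht Set.subset_union_right iht
    have heq : f '' F = f '' (F ∩ f ⁻¹' s) ∪ f '' (F ∩ f ⁻¹' t) := by
      rw [← Set.image_union, ← Set.inter_union_distrib_left, ← Set.preimage_union, ← hrange,
        Set.preimage_range, Set.inter_univ]
    rw [heq]
    exact h1.union h2

end Groth.Agent.Lib.helper9
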