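/-
Helper library (helper9): Noetherian induction on closed subsets, and constructible sets in
Noetherian spaces.
-/
import Mathlib.Topology.NoetherianSpace
import Mathlib.Topology.Constructible
import Mathlib.Topology.LocallyClosed
import Groth.Agent.Lib.Helper9.ConstrSub

set_option autoImplicit false
set_option linter.style.haveILetI false

namespace Groth.Agent.Lib.helper9

open Topology TopologicalSpace Set

universe u

variable {X : Type u} [TopologicalSpace X]

/-- Noetherian induction on closed subsets: a property of closed sets that holds for the empty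
set, for finite unions, and for an irreducible closed set as soon as it holds for all its proper
closed subsets, holds for all closed sets. -/
theorem noetherian_closed_induction [NoetherianSpace X] {P : Set X → Prop}
    (hempty : P ∅)
    (hunion : ∀ Z₁ Z₂ : Set X, IsClosed Z₁ → IsClosed Z₂ → P Z₁ → P Z₂ → P (Z₁ ∪ Z₂))
    (hirr : ∀ Z : Set X, IsClosed Z → IsIrreducible Z →
      (∀ Z' : Set X, IsClosed Z' → Z' ⊆ Z → Z' ≠ Z → P Z') → P Z) :
    ∀ Z : Set X, IsClosed Z → P Z := by
  intro Z hZ
  lift Z to Closeds X using hZ
  apply wellFounded_lt.induction Z; clear Z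
  intro s H
  rcases eq_or_ne s ⊥ with rfl | h₀
  · simpa using hempty
  · by_cases h₁ : IsPreirreducible (s : Set X)
    · replace h₁ : IsIrreducible (s : Set X) := ⟨Closeds.coe_nonempty.2 h₀, h₁⟩
      refine hirr _ s.isClosed h₁ ?_
      intro Z' hZ' hsub hne
      lift Z' to Closeds X using hZ'
      refine H Z' (lt_of_le_of_ne ?_ ?_)
      · exact hsub
      · intro h
        exact hne (congrArg _ h)
    · simp only [isPreirreducible_iff_isClosed_union_isClosed, not_forall, not_or] at h₁
      obtain ⟨z₁, z₂, hz₁, hz₂, h, hz₁', hz₂'⟩ := h₁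
      lift z₁ to Closeds X using hz₁
      lift z₂ to Closeds X using hz₂
      have h1 := H (s ⊓ z₁) (inf_lt_left.2 hz₁')
      have h2 := H (s ⊓ z₂) (inf_lt_left.2 hz₂')
      have := hunion _ _ (s ⊓ z₁).isClosed (s ⊓ z₂).isClosed h1 h2
      have heq : ((s ⊓ z₁ : Closeds X) : Set X) ∪ ((s ⊓ z₂ : Closeds X) : Set X) = (s : Set X) := by
        simp only [Closeds.coe_inf]
        rw [← Set.inter_union_distrib_left]
        exact Set.inter_eq_left.mpr h
      rwa [heq] at this

/-- In a Noetherian space every set is retrocompact. -/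
theorem isRetrocompact_of_noetherianSpace [NoetherianSpace X] (s : Set X) : IsRetrocompact s :=
  fun _ _ _ => NoetherianSpace.isCompact _

/-- In a Noetherian space locally closed sets are constructible. -/
theorem isConstructible_of_isLocallyClosed [NoetherianSpace X] {s : Set X}
    (hs : IsLocallyClosed s) : IsConstructible s := by
  obtain ⟨U, Z, hU, hZ, rfl⟩ := hs
  exact ((isRetrocompact_of_noetherianSpace U).isConstructible hU).inter
    ((isRetrocompact_of_noetherianSpace Zᶜ).isConstructible hZ.isOpen_compl).of_compl

/-- A constructible set whose trace on an irreducible set `Z` is dense in `Z` contains a nonempty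
relatively open subset of `Z`. -/
theorem exists_isOpen_of_isConstructible_of_dense {E Z : Set X} (hE : IsConstructible E)
    (hZ : IsIrreducible Z) (hd : Z ⊆ closure (E ∩ Z)) :
    ∃ U : Set X, IsOpen U ∧ (U ∩ Z).Nonempty ∧ U ∩ Z ⊆ E := by
  induction hE using isConstructible_sdiff_sup_induction with
  | sdiff U V hUo hUr hVo hVr =>
    have hZV : Z ⊆ Vᶜ := by
      refine hd.trans (closure_minimal ?_ hVo.isClosed_compl)
      exact fun x hx => hx.1.2
    refine ⟨U, hUo, ?_, fun x hx => ⟨hx.1, hZV hx.2⟩⟩
    obtain ⟨z, hz⟩ := hZ.nonempty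
    by_contra hemp
    rw [Set.not_nonempty_iff_eq_empty] at hemp
    have : (U \ V) ∩ Z = ∅ := by
      apply Set.eq_empty_of_subset_empty
      rw [← hemp]
      exact fun x hx => ⟨hx.1.1, hx.2⟩
    rw [this, closure_empty] at hd
    exact hd hz
  | sup s t hs ht ihs iht =>
    have hcl : Z ⊆ closure (s ∩ Z) ∪ closure (t ∩ Z) := by
      rw [← closure_union, ← Set.union_inter_distrib_right]
      exact hd
    rcases (isPreirreducible_iff_isClosed_union_isClosed.mp hZ.isPreirreducible) _ _
      isClosed_closure isClosed_closure hcl with h | h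
    · obtain ⟨U, hU, hne, hsub⟩ := ihs h
      exact ⟨U, hU, hne, hsub.trans Set.subset_union_left⟩
    · obtain ⟨U, hU, hne, hsub⟩ := iht h
      exact ⟨U, hU, hne, hsub.trans Set.subset_union_right⟩

end Groth.Agent.Lib.helper9
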