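/-
Helper library (helper9): constructibly open sets are neighbourhoods relative to point closures.
-/
import Mathlib.Topology.Spectral.ConstructibleTopology
import Mathlib.Topology.Bases

set_option autoImplicit false

namespace Groth.Agent.Lib.helper9

open Topology TopologicalSpace Set

universe u

variable {X : Type u} [tX : TopologicalSpace X]

/-- A constructibly open set containing `ξ` contains `W ∩ closure {ξ}` for some open
neighbourhood `W` of `ξ`. -/
theorem exists_isOpen_inter_closure_subset {O : Set X} {ξ : X}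
    (hO : @IsOpen X (constructibleTopology X) O) (hξO : ξ ∈ O) :
    ∃ W : Set X, IsOpen W ∧ ξ ∈ W ∧ W ∩ closure {ξ} ⊆ O := by
  have hbasis := @isTopologicalBasis_of_subbasis X (constructibleTopology X)
    (constructibleTopologySubbasis X) rfl
  obtain ⟨_, ⟨f, ⟨hf, hfsub⟩, rfl⟩, hξf, hfO⟩ :=
    @IsTopologicalBasis.exists_subset_of_mem_open X (constructibleTopology X) _ hbasis ξ O hξO hO
  refine ⟨⋂₀ {s ∈ f | IsOpen s}, ?_, fun s hs => hξf s hs.1, ?_⟩
  · exact (hf.subset (Set.sep_subset _ _)).isOpen_sInter fun s hs => hs.2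
  · rintro z ⟨hzW, hzcl⟩
    refine hfO ?_
    intro s hs
    rcases hfsub hs with h | h
    · exact hzW s ⟨hs, h.1⟩
    · exact (h.1.closure_subset_iff.mpr (Set.singleton_subset_iff.mpr (hξf s hs))) hzcl

end Groth.Agent.Lib.helper9
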