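/-
Helper library (helper9): extension of a closed subscheme of finite presentation of a
quasi-compact open `U` of a qcqs scheme `E` to a closed subscheme of finite presentation of `E`
containing the complement of `U`.
-/
import Groth.Agent.Lib.Helper9.SmGlob2
import Groth.Agent.Lib.Helper16.FTIdeal2

set_option autoImplicit false
set_option linter.style.haveILetI false
set_option backward.isDefEq.respectTransparency false

namespace Groth.Agent.Lib.helper9.SmGlob

open AlgebraicGeometry CategoryTheory Limits TopologicalSpace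
open Groth.Agent.Lib.helper9.SmStrat

universe u

/-- The closed immersion defined by an ideal sheaf of finite type is of finite presentation. -/
theorem locallyOfFinitePresentation_subschemeι {E : Scheme.{u}} (J : E.IdealSheafData)
    (hfg : ∀ O : E.affineOpens, (J.ideal O).FG) : LocallyOfFinitePresentation J.subschemeι := by
  rw [IsZariskiLocalAtSource.iff_of_openCover (P := @LocallyOfFinitePresentation)
    J.subschemeCover.openCover]
  intro O
  change LocallyOfFinitePresentation (J.subschemeCover.f O ≫ J.subschemeι)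
  have he : J.subschemeCover.f O ≫ J.subschemeι =
      Spec.map (CommRingCat.ofHom (Ideal.Quotient.mk (J.ideal O))) ≫ O.2.fromSpec := by
    rw [J.subschemeCover_map_subschemeι]
    rfl
  rw [he]
  have h1 : LocallyOfFinitePresentation
      (Spec.map (CommRingCat.ofHom (Ideal.Quotient.mk (J.ideal O)))) := by
    rw [HasRingHomProperty.Spec_iff (P := @LocallyOfFinitePresentation)]
    refine RingHom.FinitePresentation.of_surjective _ Ideal.Quotient.mk_surjective ?_
    change (RingHom.ker (Ideal.Quotient.mk (J.ideal O))).FG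
    rw [Ideal.mk_ker]
    exact hfg O
  haveI : IsOpenImmersion O.2.fromSpec := O.2.isOpenImmersion_fromSpec
  haveI h2 : LocallyOfFinitePresentation O.2.fromSpec := inferInstance
  exact @locallyOfFinitePresentation_comp _ _ _ _ _ h1 h2

/-- **Extension of a closed subscheme of finite presentation** from a quasi-compact open. -/
theorem exists_closed_extension {E : Scheme.{u}} [CompactSpace E] [QuasiSeparatedSpace E]
    (U : E.Opens) (hU : IsCompact (U : Set E)) {Z : Scheme.{u}} (z : Z ⟶ (U : Scheme.{u}))
    [IsClosedImmersion z] [LocallyOfFinitePresentation z] :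
    ∃ (Z' : Scheme.{u}) (z' : Z' ⟶ E) (a : Z ⟶ Z'), IsClosedImmersion z' ∧
      LocallyOfFinitePresentation z' ∧ IsPullback z a U.ι z' ∧ (U : Set E)ᶜ ⊆ Set.range ⇑z' := by
  have hbot : IsCompact ((⊥ : E.Opens) : Set E) := by
    simp
  have hadm : BlowUp.IsAdmissibleFor (U.ι ⁻¹ᵁ (⊥ : E.Opens)) z.ker := by
    refine ⟨fun O => ker_ideal_fg z O, ?_⟩
    simp
  obtain ⟨𝓙, ⟨h𝓙ft, -⟩, h𝓙⟩ :=
    Groth.Agent.Lib.helper16.FTIdeal.exists_admissible_extension E ⊥ U hbot hU z.ker hadm
  obtain ⟨K, hKft, hKs⟩ := Groth.Agent.Lib.helper16.FTIdeal.exists_ft_ideal_support U hU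
  let I : E.IdealSheafData := 𝓙 * K
  have hIft : ∀ O : E.affineOpens, (I.ideal O).FG := by
    intro O
    have : I.ideal O = 𝓙.ideal O * K.ideal O := rfl
    rw [this]
    exact (h𝓙ft O).mul (hKft O)
  have hI𝓙 : I ≤ 𝓙 := by
    intro O
    show 𝓙.ideal O * K.ideal O ≤ 𝓙.ideal O
    exact Ideal.mul_le_left (I := 𝓙.ideal O) (J := K.ideal O)
  have hcomap : I.comap U.ι = z.ker := by
    rw [← h𝓙]
    refine Scheme.IdealSheafData.ext (funext fun T => ?_)
    rw [Scheme.IdealSheafData.ideal_comap_of_isOpenImmersion,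
      Scheme.IdealSheafData.ideal_comap_of_isOpenImmersion]
    congr 1
    have h1 : I.ideal ⟨U.ι ''ᵁ T.1, T.2.image_of_isOpenImmersion U.ι⟩ =
        𝓙.ideal ⟨U.ι ''ᵁ T.1, T.2.image_of_isOpenImmersion U.ι⟩ *
          K.ideal ⟨U.ι ''ᵁ T.1, T.2.image_of_isOpenImmersion U.ι⟩ := rfl
    rw [h1, Groth.Agent.Lib.helper16.FTIdeal.ideal_eq_top_of_disjoint_support K, Ideal.mul_top]
    rw [hKs, Set.disjoint_left]
    rintro x hx ⟨y, -, rfl⟩
    exact hx y.2
  have hle : I.subschemeι.ker ≤ (z ≫ U.ι).ker := by
    rw [Scheme.IdealSheafData.ker_subschemeι, Scheme.Hom.ker_comp,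
      Scheme.IdealSheafData.le_map_iff_comap_le, hcomap]
  haveI hlfp : LocallyOfFinitePresentation I.subschemeι :=
    locallyOfFinitePresentation_subschemeι I hIft
  let a : Z ⟶ I.subscheme := IsClosedImmersion.lift I.subschemeι (z ≫ U.ι) hle
  have ha : a ≫ I.subschemeι = z ≫ U.ι := IsClosedImmersion.lift_fac _ _ _
  refine ⟨I.subscheme, I.subschemeι, a, inferInstance, hlfp, ?_, ?_⟩
  · refine isPullback_of_isClosedImmersion z I.subschemeι a U.ι ha.symm ?_
    rw [Scheme.IdealSheafData.ker_subschemeι, hcomap]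
  · rw [Scheme.IdealSheafData.range_subschemeι]
    have : (I.support : Set E) = (𝓙.support : Set E) ∪ (K.support : Set E) := by
      show ((𝓙 * K).support : Set E) = _
      rw [Scheme.IdealSheafData.support_mul]
      rfl
    rw [this, hKs]
    exact Set.subset_union_right

end Groth.Agent.Lib.helper9.SmGlob
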