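/-
Helper library (helper9): cofiltered limits of schemes whose transition maps are affine and
topological embeddings, with a Noetherian stage: eventually the projections from the limit have
dense range.
-/
import Groth.Agent.Lib.Helper9.LimProCons

set_option autoImplicit false
set_option linter.style.haveILetI false

namespace Groth.Agent.Lib.helper9

open AlgebraicGeometry CategoryTheory Limits Topology TopologicalSpace

universe u

/-- A locally constructible set is pro-constructible. -/
theorem isProConstructible_of_isLocallyConstructible {X : Type*} [TopologicalSpace X] {E : Set X}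
    (hE : IsLocallyConstructible E) : ProCons.IsProConstructible E := by
  intro x
  refine ⟨Set.univ, isOpen_univ, Set.mem_univ x, {Subtype.val ⁻¹' E}, ?_, by simp⟩
  intro T hT
  rw [Set.mem_singleton_iff] at hT
  subst hT
  exact hE.preimage_of_isOpenEmbedding isOpen_univ.isOpenEmbedding_subtypeVal

/-- In a Noetherian space every open subset is pro-constructible. -/
theorem isProConstructible_of_isOpen_of_noetherianSpace {X : Type*} [TopologicalSpace X]
    [NoetherianSpace X] {U : Set X} (hU : IsOpen U) : ProCons.IsProConstructible U := by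
  refine isProConstructible_of_isLocallyConstructible (IsConstructible.isLocallyConstructible ?_)
  refine IsRetrocompact.isConstructible hU ?_
  intro V _ _
  exact NoetherianSpace.isCompact _

variable {I : Type u} [SmallCategory I] [IsCofiltered I] (D : I ⥤ Scheme.{u})
variable (c : Cone D) (hc : IsLimit c) [hD : ∀ (i j : I) (f : i ⟶ j), IsAffineHom (D.map f)]

include hc in
/-- If the transition maps are affine and inducing and some stage is Noetherian, then eventually
the projections from the limit have dense range. -/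
theorem exists_forall_denseRange_π_app_of_isInducing (i₀ : I) [NoetherianSpace (D.obj i₀)]
    (he : ∀ (i j : I) (φ : i ⟶ j), IsInducing ⇑(D.map φ)) :
    ∃ (i₁ : I) (_ : i₁ ⟶ i₀), ∀ (j : I) (_ : j ⟶ i₁), DenseRange ⇑(c.π.app j) := by
  classical
  -- the closures of the images in the Noetherian stage
  let K : (Σ j : I, (j ⟶ i₀)) → Closeds (D.obj i₀) := fun x =>
    ⟨closure (Set.range ⇑(D.map x.2)), isClosed_closure⟩
  obtain ⟨K₁, ⟨x₁, rfl⟩, hmin⟩ :=
    (wellFounded_lt (α := Closeds (D.obj i₀))).has_min (Set.range K) ⟨K ⟨i₀, 𝟙 i₀⟩, ⟨_, rfl⟩⟩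
  obtain ⟨i₁, a⟩ := x₁
  -- all further stages have the same closure
  have hK : ∀ (j : I) (b : j ⟶ i₁), closure (Set.range ⇑(D.map (b ≫ a))) =
      closure (Set.range ⇑(D.map a)) := by
    intro j b
    have hle : K ⟨j, b ≫ a⟩ ≤ K ⟨i₁, a⟩ := by
      show closure (Set.range ⇑(D.map (b ≫ a))) ⊆ closure (Set.range ⇑(D.map a))
      refine closure_mono ?_
      rw [D.map_comp]
      rintro _ ⟨w, rfl⟩
      exact ⟨D.map b w, (Scheme.Hom.comp_apply _ _ _).symm⟩
    have hnlt := hmin (K ⟨j, b ≫ a⟩) ⟨_, rfl⟩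
    have heq : K ⟨j, b ≫ a⟩ = K ⟨i₁, a⟩ := by
      rcases hle.lt_or_eq with h | h
      · exact absurd h hnlt
      · exact h
    exact congrArg (fun Z : Closeds (D.obj i₀) => (Z : Set (D.obj i₀))) heq
  refine ⟨i₁, a, fun j b => ?_⟩
  -- key claim
  have key : ∀ U : Set (D.obj i₀), IsOpen U → (U ∩ Set.range ⇑(D.map (b ≫ a))).Nonempty →
      (U ∩ Set.range ⇑(c.π.app i₀)).Nonempty := by
    intro U hU hne
    by_contra hcon
    have hempty : ⇑(c.π.app i₀) ⁻¹' U = ∅ := by
      rw [Set.eq_empty_iff_forall_notMem]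
      intro s hs
      exact hcon ⟨c.π.app i₀ s, hs, s, rfl⟩
    obtain ⟨l, ψ, hl⟩ := exists_preimage_map_eq_empty D c hc i₀ U
      (isProConstructible_of_isOpen_of_noetherianSpace hU) hempty
    obtain ⟨m, f, g, hfg⟩ := IsCofiltered.cospan ψ (b ≫ a)
    have h1 : closure (Set.range ⇑(D.map ((g ≫ b) ≫ a))) =
        closure (Set.range ⇑(D.map (b ≫ a))) := (hK m (g ≫ b)).trans (hK j b).symm
    obtain ⟨y, hyU, hy⟩ := hne
    have hy' : y ∈ closure (Set.range ⇑(D.map ((g ≫ b) ≫ a))) := by
      rw [h1]; exact subset_closure hy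
    obtain ⟨_, hzU, ⟨w, rfl⟩⟩ := mem_closure_iff.mp hy' U hU hyU
    have hw : (D.map f w) ∈ ⇑(D.map ψ) ⁻¹' U := by
      show D.map ψ (D.map f w) ∈ U
      rw [← Scheme.Hom.comp_apply, ← D.map_comp, hfg, ← Category.assoc]
      exact hzU
    rw [hl] at hw
    exact hw
  rw [DenseRange, dense_iff_inter_open]
  intro V hV hVne
  obtain ⟨U, hU, rfl⟩ := (he j i₀ (b ≫ a)).isOpen_iff.mp hV
  obtain ⟨v, hv⟩ := hVne
  obtain ⟨_, hsU, ⟨s, rfl⟩⟩ := key U hU ⟨D.map (b ≫ a) v, hv, v, rfl⟩
  refine ⟨c.π.app j s, ?_, s, rfl⟩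
  show D.map (b ≫ a) (c.π.app j s) ∈ U
  rw [← Scheme.Hom.comp_apply, c.w]
  exact hsU

end Groth.Agent.Lib.helper9
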