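/-
Helper library (helper9): more descent along cofiltered limits with affine transition maps:
open neighbourhoods of the image of the limit contain the image of a stage; surjectivity and
universal injectivity of morphisms of finite presentation descend.
-/
import Groth.Agent.Lib.Helper9.LimDescendEmpty
import Groth.Agent.Lib.Helper9.LimEmbDense
import Groth.Agent.Lib.Helper9.DiagSquares
import Groth.Agent.Lib.Helper9.StageSquares
import Groth.Agent.Lib.Helper7.LfpOfComp
import Mathlib.AlgebraicGeometry.Morphisms.UniversallyInjective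

set_option autoImplicit false
set_option linter.style.haveILetI false
set_option backward.isDefEq.respectTransparency false

namespace Groth.Agent.Lib.helper9

open AlgebraicGeometry CategoryTheory Limits Topology

universe u

variable {I : Type u} [SmallCategory I] [IsCofiltered I] (D : I ⥤ Scheme.{u})
  (c : Cone D) (hc : IsLimit c) [hD : ∀ (i j : I) (f : i ⟶ j), IsAffineHom (D.map f)]

include hc in
/-- An open neighbourhood of the image of the limit in a quasi-compact stage contains the image
of some later stage. -/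
theorem exists_range_map_subset_of_isOpen (k : I) [CompactSpace (D.obj k)] (W : (D.obj k).Opens)
    (hW : Set.range ⇑(c.π.app k) ⊆ (W : Set (D.obj k))) :
    ∃ (l : I) (ψ : l ⟶ k), Set.range ⇑(D.map ψ) ⊆ (W : Set (D.obj k)) := by
  have hZ : ProCons.IsProConstructible ((W : Set (D.obj k))ᶜ) :=
    isProConstructible_of_isClosed W.isOpen.isClosed_compl
  have hempty : ⇑(c.π.app k) ⁻¹' ((W : Set (D.obj k))ᶜ) = ∅ := by
    ext s
    simp only [Set.mem_preimage, Set.mem_compl_iff, Set.mem_empty_iff_false, iff_false, not_not]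
    exact hW ⟨s, rfl⟩
  obtain ⟨l, ψ, hl⟩ := exists_preimage_map_eq_empty D c hc k _ hZ hempty
  refine ⟨l, ψ, ?_⟩
  rintro _ ⟨y, rfl⟩
  by_contra hy
  have : y ∈ ⇑(D.map ψ) ⁻¹' ((W : Set (D.obj k))ᶜ) := hy
  rw [hl] at this
  exact this

include hc in
/-- Surjectivity of a morphism of finite presentation descends. -/
theorem exists_surjective_stageMap (i₀ : I) {X₀ Y₀ : Scheme.{u}} (f₀ : X₀ ⟶ Y₀)
    (g₀ : Y₀ ⟶ D.obj i₀) [LocallyOfFinitePresentation f₀] [QuasiCompact f₀] [CompactSpace Y₀]
    [QuasiSeparatedSpace Y₀] (h : Surjective (stageMap (c.π.app i₀) f₀ g₀)) :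
    ∃ l : Over i₀, Surjective (stageMap (D.map l.hom) f₀ g₀) := by
  have hcons : IsConstructible (Set.range ⇑f₀)ᶜ := by
    have := f₀.isConstructible_image (s := Set.univ) IsConstructible.univ
    rw [Set.image_univ] at this
    exact this.compl
  have hZ : ProCons.IsProConstructible (Set.range ⇑f₀)ᶜ :=
    isProConstructible_of_isLocallyConstructible hcons.isLocallyConstructible
  have hlim : ∀ w : ↥(pullback (c.π.app i₀) g₀), (pullback.snd (c.π.app i₀) g₀) w ∉
      (Set.range ⇑f₀)ᶜ := by
    intro w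
    simp only [Set.mem_compl_iff, not_not]
    obtain ⟨w', rfl⟩ := h.surj w
    rw [← Scheme.Hom.comp_apply, stageMap_snd, Scheme.Hom.comp_apply]
    exact ⟨_, rfl⟩
  obtain ⟨i, φ, hφ⟩ := exists_forall_snd_notMem D c hc i₀ g₀ _ hZ hlim
  refine ⟨Over.mk φ, ⟨fun w => ?_⟩⟩
  have hw := hφ w
  simp only [Set.mem_compl_iff, not_not] at hw
  obtain ⟨x, hx⟩ := hw
  obtain ⟨z, -, hz⟩ := exists_preimage_of_isPullback (isPullback_stageMap (D.map φ) f₀ g₀) x w hx
  exact ⟨z, hz⟩

include hc in
/-- Universal injectivity of a morphism of finite presentation descends. -/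
theorem exists_universallyInjective_stageMap (i₀ : I) {X₀ Y₀ : Scheme.{u}} (f₀ : X₀ ⟶ Y₀)
    (g₀ : Y₀ ⟶ D.obj i₀) [LocallyOfFinitePresentation f₀] [QuasiCompact f₀] [QuasiSeparated f₀]
    [CompactSpace Y₀] [QuasiSeparatedSpace Y₀]
    (h : UniversallyInjective (stageMap (c.π.app i₀) f₀ g₀)) :
    ∃ l : Over i₀, UniversallyInjective (stageMap (D.map l.hom) f₀ g₀) := by
  haveI : CompactSpace X₀ := QuasiCompact.compactSpace_of_compactSpace f₀
  haveI : QuasiSeparatedSpace X₀ := quasiSeparatedSpace_of_quasiSeparated f₀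
  haveI : CompactSpace ↥(pullback f₀ f₀) :=
    QuasiCompact.compactSpace_of_compactSpace (pullback.fst f₀ f₀)
  haveI : QuasiSeparatedSpace ↥(pullback f₀ f₀) :=
    quasiSeparatedSpace_of_quasiSeparated (pullback.fst f₀ f₀)
  have h1 : Surjective (stageMap (c.π.app i₀) (pullback.diagonal f₀) (diagBase f₀ g₀)) :=
    (diagonal_iff_stageMap_diagonal @Surjective (isPullback_stage_base (c.π.app i₀) g₀)
      (isPullback_stageMap (c.π.app i₀) f₀ g₀)).mp
      ((UniversallyInjective.iff_diagonal _).mp h)
  obtain ⟨l, hl⟩ := exists_surjective_stageMap D c hc i₀ (pullback.diagonal f₀) (diagBase f₀ g₀) h1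
  refine ⟨l, (UniversallyInjective.iff_diagonal _).mpr ?_⟩
  exact (diagonal_iff_stageMap_diagonal @Surjective (isPullback_stage_base (D.map l.hom) g₀)
    (isPullback_stageMap (D.map l.hom) f₀ g₀)).mpr hl

end Groth.Agent.Lib.helper9
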