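/-
Helper library (helper9): a smooth stratification (recursive form `Strat`) of a morphism of finite
presentation over a cofiltered limit `lim S_i` (affine transition maps, qcqs stages) descends to a
model over some stage.
-/
import Groth.Agent.Lib.Helper9.SmStrat1
import Groth.Agent.Lib.Helper9.FPDescend2
import Groth.Agent.Lib.Helper9.ModelDescendGen
import Groth.Agent.Lib.Helper25.ConstrCompact

set_option autoImplicit false
set_option linter.style.haveILetI false
set_option backward.isDefEq.respectTransparency false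

namespace Groth.Agent.Lib.helper9.SmStrat

open AlgebraicGeometry CategoryTheory Limits TopologicalSpace Topology
open Groth.Agent.Lib.helper9

universe u

/-- The open complement of a closed immersion of finite presentation into a qcqs scheme is
quasi-compact. -/
theorem isCompact_cOpen {Z P : Scheme.{u}} (z : Z ⟶ P) [IsClosedImmersion z]
    [LocallyOfFinitePresentation z] [CompactSpace P] [QuasiSeparatedSpace P] :
    IsCompact (cOpen z : Set P) := by
  have h1 : IsConstructible (Set.range ⇑z) := by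
    have := z.isConstructible_image (s := Set.univ) IsConstructible.univ
    rwa [Set.image_univ] at this
  exact Groth.Agent.Lib.helper25.isCompact_of_isConstructible h1.compl

section

variable {I : Type u} [SmallCategory I] [IsCofiltered I] {D : I ⥤ Scheme.{u}} {c : Cone D}
  (hc : IsLimit c) [hD : ∀ (i j : I) (f : i ⟶ j), IsAffineHom (D.map f)]
  [∀ i, CompactSpace (D.obj i)] [∀ i, QuasiSeparatedSpace (D.obj i)]
  {X Y : Scheme.{u}} {i : I}

include hc in
/-- A morphism of models over a closed immersion becomes a closed immersion at some stage. -/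
theorem exists_isClosedImmersion_rebase {fX : X ⟶ c.pt} {fY : Y ⟶ c.pt} {M : FPModel D c fX i}
    {N : FPModel D c fY i} {h : X ⟶ Y} (φ : M.Hom N h) [IsClosedImmersion h] :
    ∃ (k : I) (a : k ⟶ i), IsClosedImmersion (φ.rebase a).h₀ := by
  have : CompactSpace M.X₀ := M.compactSpace_X₀
  have : QuasiSeparatedSpace M.X₀ := M.quasiSeparatedSpace_X₀
  have : CompactSpace N.X₀ := N.compactSpace_X₀
  have : QuasiSeparatedSpace N.X₀ := N.quasiSeparatedSpace_X₀
  have : LocallyOfFinitePresentation (φ.h₀ ≫ N.f₀) := by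
    rw [φ.w]
    infer_instance
  have : LocallyOfFinitePresentation φ.h₀ :=
    Groth.Agent.Lib.helper7.locallyOfFinitePresentation_of_comp φ.h₀ N.f₀
  haveI : IsClosedImmersion (stageMap (c.π.app i) φ.h₀ N.f₀) :=
    (stageMap_iff_of_isPullback @IsClosedImmersion N.pb φ.isPullback).mpr ‹_›
  obtain ⟨l, hl⟩ := exists_isClosedImmersion_stageMap D c hc i φ.h₀ N.f₀
  exact ⟨l.left, l.hom, (stageMap'_iff @IsClosedImmersion _ _ _ _ φ.w).mpr hl⟩

omit [IsCofiltered I] hD [∀ i, CompactSpace (D.obj i)] [∀ i, QuasiSeparatedSpace (D.obj i)] in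
theorem isClosedImmersion_rebase {fX : X ⟶ c.pt} {fY : Y ⟶ c.pt} {M : FPModel D c fX i}
    {N : FPModel D c fY i} {h : X ⟶ Y} (φ : M.Hom N h) [IsClosedImmersion φ.h₀] {j : I}
    (a : j ⟶ i) : IsClosedImmersion (φ.rebase a).h₀ :=
  MorphismProperty.of_isPullback (P := @IsClosedImmersion)
    (isPullback_stageMap' (D.map a) φ.h₀ N.f₀ M.f₀ φ.w) inferInstance

omit [IsCofiltered I] hD [∀ i, CompactSpace (D.obj i)] [∀ i, QuasiSeparatedSpace (D.obj i)] in
/-- The smooth stratum of a rebase. -/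
theorem smooth_stratum_rebase {fX : X ⟶ c.pt} {fY : Y ⟶ c.pt} {M : FPModel D c fX i}
    {N : FPModel D c fY i} {h : X ⟶ Y} (φ : M.Hom N h) [IsClosedImmersion φ.h₀] {j : I}
    (a : j ⟶ i) [IsClosedImmersion (φ.rebase a).h₀]
    (hsm : Smooth ((cOpen φ.h₀).ι ≫ N.f₀)) :
    Smooth ((cOpen (φ.rebase a).h₀).ι ≫ (N.rebase a).f₀) := by
  have sqZ : IsPullback (φ.rebase a).h₀ (pullback.snd (D.map a) M.f₀)
      (pullback.snd (D.map a) N.f₀) φ.h₀ :=
    (isPullback_stageMap' (D.map a) φ.h₀ N.f₀ M.f₀ φ.w).flip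
  exact smooth_ι_comp_of_isPullback (IsPullback.of_hasPullback (D.map a) N.f₀).flip
    (cOpen φ.h₀) _ (cOpen_of_isPullback sqZ) hsm

include hc in
/-- Smoothness of the open stratum descends to a stage. -/
theorem exists_smooth_stratum_rebase {fX : X ⟶ c.pt} {fY : Y ⟶ c.pt} {M : FPModel D c fX i}
    {N : FPModel D c fY i} {h : X ⟶ Y} (φ : M.Hom N h) [IsClosedImmersion h]
    [IsClosedImmersion φ.h₀] (hsm : Smooth ((cOpen h).ι ≫ fY)) :
    ∃ (k : I) (a : k ⟶ i) (_ : IsClosedImmersion (φ.rebase a).h₀),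
      Smooth ((cOpen (φ.rebase a).h₀).ι ≫ (N.rebase a).f₀) := by
  have : CompactSpace N.X₀ := N.compactSpace_X₀
  have : QuasiSeparatedSpace N.X₀ := N.quasiSeparatedSpace_X₀
  have : LocallyOfFinitePresentation (φ.h₀ ≫ N.f₀) := by
    rw [φ.w]
    infer_instance
  have : LocallyOfFinitePresentation φ.h₀ :=
    Groth.Agent.Lib.helper7.locallyOfFinitePresentation_of_comp φ.h₀ N.f₀
  let U₀ := cOpen φ.h₀
  haveI : CompactSpace ↥U₀.toScheme := isCompact_iff_compactSpace.mp (isCompact_cOpen φ.h₀)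
  have hopen : cOpen h = N.g ⁻¹ᵁ U₀ := cOpen_of_isPullback φ.isPullback.flip
  have hsm' : Smooth ((N.g ⁻¹ᵁ U₀).ι ≫ fY) := by
    rw [← hopen]
    exact hsm
  have hX : IsPullback (N.g ∣_ U₀) ((N.g ⁻¹ᵁ U₀).ι ≫ fY) (U₀.ι ≫ N.f₀) (c.π.app i) :=
    (isPullback_morphismRestrict N.g U₀).paste_vert N.pb
  have h1 : Smooth (stageMap (c.π.app i) (U₀.ι ≫ N.f₀) (𝟙 _)) :=
    (stageMap_iff_of_isPullback @Smooth (FPModel.isPullback_id_π i) hX).mpr hsm'
  obtain ⟨l, hl⟩ := exists_smooth_stageMap D c hc i (U₀.ι ≫ N.f₀) (𝟙 _) h1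
  haveI := isClosedImmersion_rebase φ l.hom
  refine ⟨l.left, l.hom, inferInstance, ?_⟩
  let pr := pullback.snd (D.map l.hom) N.f₀
  have sqZ : IsPullback (φ.rebase l.hom).h₀ (pullback.snd (D.map l.hom) M.f₀) pr φ.h₀ :=
    (isPullback_stageMap' (D.map l.hom) φ.h₀ N.f₀ M.f₀ φ.w).flip
  have hopen' : cOpen (φ.rebase l.hom).h₀ = pr ⁻¹ᵁ U₀ := cOpen_of_isPullback sqZ
  have hX' : IsPullback (pr ∣_ U₀) ((pr ⁻¹ᵁ U₀).ι ≫ pullback.fst (D.map l.hom) N.f₀)
      (U₀.ι ≫ N.f₀) (D.map l.hom) :=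
    (isPullback_morphismRestrict pr U₀).paste_vert (IsPullback.of_hasPullback _ _).flip
  have h2 : Smooth ((pr ⁻¹ᵁ U₀).ι ≫ pullback.fst (D.map l.hom) N.f₀) :=
    (stageMap_iff_of_isPullback @Smooth (IsPullback.id_vert (D.map l.hom)) hX').mp hl
  rw [hopen']
  exact h2

omit [IsCofiltered I] hD [∀ i, CompactSpace (D.obj i)] [∀ i, QuasiSeparatedSpace (D.obj i)] in
theorem isPullback_paste_rebase {X₀ : Scheme.{u}} {i j k : I} (f₀ : X₀ ⟶ D.obj i) (a : j ⟶ i)
    {P : Scheme.{u}} {q : P ⟶ D.obj k} {b : k ⟶ j} {r : P ⟶ pullback (D.map a) f₀}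
    (h : IsPullback r q (pullback.fst (D.map a) f₀) (D.map b)) :
    IsPullback (r ≫ pullback.snd (D.map a) f₀) q f₀ (D.map (b ≫ a)) := by
  rw [D.map_comp]
  exact h.paste_horiz (IsPullback.of_hasPullback _ _).flip

include hc in
/-- **Descent of a smooth stratification** to a stage of the limit. -/
theorem Strat.exists_stage {n : ℕ} : ∀ {i : I} {X : Scheme.{u}} {fX : X ⟶ c.pt}
    (M : FPModel D c fX i), Strat n fX →
    ∃ (j : I) (a : j ⟶ i) (P : Scheme.{u}) (q : P ⟶ D.obj j) (r : P ⟶ M.X₀),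
      IsPullback r q M.f₀ (D.map a) ∧ Strat n q := by
  induction n with
  | zero =>
    intro i X fX M h
    rw [strat_zero] at h
    haveI : CompactSpace M.X₀ := M.compactSpace_X₀
    by_contra hcon
    have hne : ∀ (j : I) (φ : j ⟶ i), Nonempty ↥(pullback (D.map φ) M.f₀) := by
      intro j φ
      by_contra hemp
      rw [not_nonempty_iff] at hemp
      exact hcon ⟨j, φ, _, pullback.fst (D.map φ) M.f₀, pullback.snd (D.map φ) M.f₀,
        (IsPullback.of_hasPullback _ _).flip, hemp⟩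
    obtain ⟨w⟩ := nonempty_pullback_π D c i M.f₀ hc hne
    exact h.false (M.pb.flip.isoPullback.inv w)
  | succ n ih =>
    intro i X fX M h
    rw [strat_succ] at h
    obtain ⟨Z, z, hz, hfp, hsm, hrec⟩ := h
    haveI : LocallyOfFinitePresentation fX :=
      MorphismProperty.of_isPullback (P := @LocallyOfFinitePresentation) M.pb M.lfp
    haveI : QuasiCompact fX := MorphismProperty.of_isPullback (P := @QuasiCompact) M.pb M.qc
    haveI : QuasiSeparated fX := MorphismProperty.of_isPullback (P := @QuasiSeparated) M.pb M.qs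
    obtain ⟨i₁, ⟨N₁⟩⟩ := FPModel.exists_model hc (z ≫ fX)
    let k := IsCofiltered.min i i₁
    let a₀ : k ⟶ i := IsCofiltered.minToLeft i i₁
    let a₁ : k ⟶ i₁ := IsCofiltered.minToRight i i₁
    obtain ⟨k₃, a₃, ⟨φ₃⟩⟩ := FPModel.exists_hom hc (N₁.rebase a₁) (M.rebase a₀) z rfl
    obtain ⟨k₄, a₄, hcl₄⟩ := exists_isClosedImmersion_rebase hc φ₃
    obtain ⟨k₅, a₅, hcl₅, hsm₅⟩ := exists_smooth_stratum_rebase hc (φ₃.rebase a₄) hsm
    obtain ⟨k₆, a₆, P, q, r, hpb, hP⟩ := ih (((N₁.rebase a₁).rebase a₃).rebase a₄ |>.rebase a₅) hrec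
    let φ₅ := (φ₃.rebase a₄).rebase a₅
    haveI : IsClosedImmersion φ₅.h₀ := hcl₅
    let φ₆ := φ₅.rebase a₆
    haveI : IsClosedImmersion φ₆.h₀ := isClosedImmersion_rebase φ₅ a₆
    have hsm₆ := smooth_stratum_rebase φ₅ a₆ hsm₅
    -- the model of `X` at the final stage
    let M₅ := (((M.rebase a₀).rebase a₃).rebase a₄).rebase a₅
    let N₅ := (((N₁.rebase a₁).rebase a₃).rebase a₄).rebase a₅
    have hlfp : LocallyOfFinitePresentation φ₆.h₀ := by
      have : LocallyOfFinitePresentation (φ₆.h₀ ≫ (M₅.rebase a₆).f₀) := by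
        rw [φ₆.w]
        infer_instance
      exact Groth.Agent.Lib.helper7.locallyOfFinitePresentation_of_comp φ₆.h₀ (M₅.rebase a₆).f₀
    -- the stratification of the model of `Z` at the final stage
    have hN₆ : Strat n (N₅.rebase a₆).f₀ := by
      refine Strat.of_iso' (IsPullback.isoIsPullback _ _
        ((IsPullback.of_hasPullback (D.map a₆) N₅.f₀).flip) hpb) ?_ hP
      exact IsPullback.isoIsPullback_hom_snd _ _ _ _
    have hM₆ : Strat (n + 1) (M₅.rebase a₆).f₀ := by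
      rw [strat_succ]
      refine ⟨_, φ₆.h₀, inferInstance, hlfp, hsm₆, ?_⟩
      rw [φ₆.w]
      exact hN₆
    have hfinal := isPullback_paste_rebase M.f₀ a₀ (isPullback_paste_rebase (M.rebase a₀).f₀ a₃
      (isPullback_paste_rebase ((M.rebase a₀).rebase a₃).f₀ a₄
        (isPullback_paste_rebase (((M.rebase a₀).rebase a₃).rebase a₄).f₀ a₅
          (IsPullback.of_hasPullback (D.map a₆) M₅.f₀).flip)))
    exact ⟨k₆, _, _, _, _, hfinal, hM₆⟩

end

end Groth.Agent.Lib.helper9.SmStrat
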