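/-
Helper library (helper9): `HasStrat q`: a thickening-by-nilpotents `Z₀ ⟶ P` of finite presentation
together with a smooth stratification of `Z₀`; base change and descent along a cofiltered limit.
-/
import Groth.Agent.Lib.Helper9.SmStrat3
import Groth.Agent.Lib.Helper9.LimDescMore

set_option autoImplicit false
set_option linter.style.haveILetI false
set_option backward.isDefEq.respectTransparency false

namespace Groth.Agent.Lib.helper9.SmStrat

open AlgebraicGeometry CategoryTheory Limits TopologicalSpace Topology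
open Groth.Agent.Lib.helper9

universe u

/-- `q : P ⟶ T` admits a surjective closed immersion of finite presentation `Z₀ ⟶ P` such that
`Z₀` has a stratification by pieces smooth over `T`, with `n` pieces. -/
def HasStrat (n : ℕ) {P T : Scheme.{u}} (q : P ⟶ T) : Prop :=
  ∃ (Z₀ : Scheme.{u}) (z₀ : Z₀ ⟶ P), IsClosedImmersion z₀ ∧ LocallyOfFinitePresentation z₀ ∧
    Surjective z₀ ∧ Strat n (z₀ ≫ q)

/-- Base change of `HasStrat`. -/
theorem HasStrat.of_isPullback {n : ℕ} {P T P' T' : Scheme.{u}} {q : P ⟶ T} {q' : P' ⟶ T'}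
    {a : P' ⟶ P} {b : T' ⟶ T} (sq : IsPullback a q' q b) (h : HasStrat n q) : HasStrat n q' := by
  obtain ⟨Z₀, z₀, h1, h2, h3, h4⟩ := h
  refine ⟨pullback z₀ a, pullback.snd z₀ a,
    MorphismProperty.pullback_snd (P := @IsClosedImmersion) _ _ h1,
    MorphismProperty.pullback_snd (P := @LocallyOfFinitePresentation) _ _ h2,
    MorphismProperty.pullback_snd (P := @Surjective) _ _ h3, ?_⟩
  exact Strat.of_isPullback ((IsPullback.of_hasPullback z₀ a).paste_vert sq) h4

/-- Two base changes of the same morphism along the same map: transfer of `HasStrat`. -/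
theorem HasStrat.of_isPullback_of_isPullback {n : ℕ} {P T P₁ P₂ T' : Scheme.{u}} {q : P ⟶ T}
    {q₁ : P₁ ⟶ T'} {q₂ : P₂ ⟶ T'} {r₁ : P₁ ⟶ P} {r₂ : P₂ ⟶ P} {b : T' ⟶ T}
    (h₁ : IsPullback r₁ q₁ q b) (h₂ : IsPullback r₂ q₂ q b) (h : HasStrat n q₁) :
    HasStrat n q₂ := by
  let e := IsPullback.isoIsPullback _ _ h₂ h₁
  have he : e.hom ≫ q₁ = q₂ := IsPullback.isoIsPullback_hom_snd _ _ _ _
  refine HasStrat.of_isPullback (a := e.hom) (b := 𝟙 T') ?_ h
  exact IsPullback.of_horiz_isIso ⟨by rw [Category.comp_id, he]⟩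

section

variable {I : Type u} [SmallCategory I] [IsCofiltered I] {D : I ⥤ Scheme.{u}} {c : Cone D}
  (hc : IsLimit c) [hD : ∀ (i j : I) (f : i ⟶ j), IsAffineHom (D.map f)]
  [∀ i, CompactSpace (D.obj i)] [∀ i, QuasiSeparatedSpace (D.obj i)]

include hc in
/-- A morphism of models over a surjective morphism becomes surjective at some stage. -/
theorem exists_surjective_rebase {X Y : Scheme.{u}} {i : I} {fX : X ⟶ c.pt} {fY : Y ⟶ c.pt}
    {M : FPModel D c fX i} {N : FPModel D c fY i} {h : X ⟶ Y} (φ : M.Hom N h) (hs : Surjective h) :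
    ∃ (k : I) (a : k ⟶ i), Surjective (φ.rebase a).h₀ := by
  have : CompactSpace N.X₀ := N.compactSpace_X₀
  have : QuasiSeparatedSpace N.X₀ := N.quasiSeparatedSpace_X₀
  have : LocallyOfFinitePresentation (φ.h₀ ≫ N.f₀) := by
    rw [φ.w]
    infer_instance
  have : LocallyOfFinitePresentation φ.h₀ :=
    Groth.Agent.Lib.helper7.locallyOfFinitePresentation_of_comp φ.h₀ N.f₀
  have : QuasiCompact (φ.h₀ ≫ N.f₀) := by
    rw [φ.w]
    infer_instance
  have : QuasiCompact φ.h₀ := QuasiCompact.of_comp φ.h₀ N.f₀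
  have h1 : Surjective (stageMap (c.π.app i) φ.h₀ N.f₀) :=
    (stageMap_iff_of_isPullback @Surjective N.pb φ.isPullback).mpr hs
  obtain ⟨l, hl⟩ := exists_surjective_stageMap D c hc i φ.h₀ N.f₀ h1
  exact ⟨l.left, l.hom, (stageMap'_iff @Surjective _ _ _ _ φ.w).mpr hl⟩

include hc in
/-- **Descent of `HasStrat`** to a stage of the limit. -/
theorem HasStrat.exists_stage {n : ℕ} {i : I} {X : Scheme.{u}} {fX : X ⟶ c.pt}
    (M : FPModel D c fX i) (h : HasStrat n fX) :
    ∃ (j : I) (a : j ⟶ i) (P : Scheme.{u}) (q : P ⟶ D.obj j) (r : P ⟶ M.X₀),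
      IsPullback r q M.f₀ (D.map a) ∧ HasStrat n q := by
  obtain ⟨Z, z, hz, hfp, hsurj, hrec⟩ := h
  haveI : LocallyOfFinitePresentation fX :=
    MorphismProperty.of_isPullback (P := @LocallyOfFinitePresentation) M.pb M.lfp
  haveI : QuasiCompact fX := MorphismProperty.of_isPullback (P := @QuasiCompact) M.pb M.qc
  haveI : QuasiSeparated fX := MorphismProperty.of_isPullback (P := @QuasiSeparated) M.pb M.qs
  obtain ⟨i₁, ⟨N₁⟩⟩ := FPModel.exists_model hc (z ≫ fX)
  let k := IsCofiltered.min i i₁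
  let a₀ : k ⟶ i := IsCofiltered.minToLeft i i₁
  let a₁ : k ⟶ i₁ := IsCofiltered.minToRight i i₁
  obtain ⟨k₃, a₃, ⟨φ₃⟩⟩ := FPModel.exists_hom hc (N₁.rebase a₁) (M.rebase a₀) z rfl
  obtain ⟨k₄, a₄, hcl₄⟩ := exists_isClosedImmersion_rebase hc φ₃
  obtain ⟨k₅, a₅, hs₅⟩ := exists_surjective_rebase hc (φ₃.rebase a₄) hsurj
  obtain ⟨k₆, a₆, P, q, r, hpb, hP⟩ :=
    Strat.exists_stage hc ((((N₁.rebase a₁).rebase a₃).rebase a₄).rebase a₅) hrec
  let φ₅ := (φ₃.rebase a₄).rebase a₅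
  haveI : IsClosedImmersion φ₅.h₀ := isClosedImmersion_rebase (φ₃.rebase a₄) a₅
  let φ₆ := φ₅.rebase a₆
  haveI : IsClosedImmersion φ₆.h₀ := isClosedImmersion_rebase φ₅ a₆
  have hs₆ : Surjective φ₆.h₀ :=
    MorphismProperty.of_isPullback (P := @Surjective)
      (isPullback_stageMap' (D.map a₆) φ₅.h₀ _ _ φ₅.w) hs₅
  let M₅ := (((M.rebase a₀).rebase a₃).rebase a₄).rebase a₅
  let N₅ := (((N₁.rebase a₁).rebase a₃).rebase a₄).rebase a₅
  have hlfp : LocallyOfFinitePresentation φ₆.h₀ := by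
    have : LocallyOfFinitePresentation (φ₆.h₀ ≫ (M₅.rebase a₆).f₀) := by
      rw [φ₆.w]
      infer_instance
    exact Groth.Agent.Lib.helper7.locallyOfFinitePresentation_of_comp φ₆.h₀ (M₅.rebase a₆).f₀
  have hN₆ : Strat n (N₅.rebase a₆).f₀ := by
    refine Strat.of_iso' (IsPullback.isoIsPullback _ _
      ((IsPullback.of_hasPullback (D.map a₆) N₅.f₀).flip) hpb) ?_ hP
    exact IsPullback.isoIsPullback_hom_snd _ _ _ _
  have hM₆ : HasStrat n (M₅.rebase a₆).f₀ := by
    refine ⟨_, φ₆.h₀, inferInstance, hlfp, hs₆, ?_⟩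
    rw [φ₆.w]
    exact hN₆
  have hfinal := isPullback_paste_rebase M.f₀ a₀ (isPullback_paste_rebase (M.rebase a₀).f₀ a₃
    (isPullback_paste_rebase ((M.rebase a₀).rebase a₃).f₀ a₄
      (isPullback_paste_rebase (((M.rebase a₀).rebase a₃).rebase a₄).f₀ a₅
        (IsPullback.of_hasPullback (D.map a₆) M₅.f₀).flip)))
  exact ⟨k₆, _, _, _, _, hfinal, hM₆⟩

end

end Groth.Agent.Lib.helper9.SmStrat
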