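/-
Helper library (helper9): descent of integral and finite morphisms along a cofiltered limit
`S = lim S_i` of schemes with affine transition maps (base-change form).
-/
import Groth.Agent.Lib.Helper9.GenericDescend
import Groth.Agent.Lib.Helper9.IntegralRing
import Mathlib.AlgebraicGeometry.Morphisms.Finite

set_option autoImplicit false
set_option linter.style.haveILetI false

namespace Groth.Agent.Lib.helper9

open AlgebraicGeometry CategoryTheory Limits

universe u

section core

variable {I : Type u} [SmallCategory I] [IsCofiltered I] (D : I ⥤ Scheme.{u}) (c : Cone D)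
  (hc : IsLimit c) [hD : ∀ (i j : I) (f : i ⟶ j), IsAffineHom (D.map f)]

include hc in
/-- The affine case of the descent of integral morphisms. -/
theorem affineDescent_isIntegralHom :
    AffineDescent D c @IsIntegralHom @LocallyOfFiniteType := by
  intro i₀ X₀ Y₀ f₀ g₀ _ _ hlft hint
  classical
  let DX := bcDiagram D i₀ (f₀ ≫ g₀)
  let DY := bcDiagram D i₀ g₀
  let cX := bcCone D c i₀ (f₀ ≫ g₀)
  let cY := bcCone D c i₀ g₀
  have hcX : IsLimit cX := isLimitBcCone D c i₀ (f₀ ≫ g₀) hc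
  have hcY : IsLimit cY := isLimitBcCone D c i₀ g₀ hc
  have hπ : IsAffineHom (c.π.app i₀) := isAffineHom_π_app D c hc i₀
  have affX : ∀ j, IsAffine (DX.obj j) := fun j =>
    (inferInstance : IsAffine (pullback (D.map j.hom) (f₀ ≫ g₀)))
  have affY : ∀ j, IsAffine (DY.obj j) := fun j =>
    (inferInstance : IsAffine (pullback (D.map j.hom) g₀))
  have affcX : IsAffine (pullback (c.π.app i₀) (f₀ ≫ g₀)) := inferInstance
  have affcY : IsAffine (pullback (c.π.app i₀) g₀) := inferInstance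
  have H4 : (stageFc D c i₀ f₀ g₀).appTop.hom.IsIntegral :=
    ((HasAffineProperty.iff_of_isAffine (P := @IsIntegralHom)).mp hint).2
  have H1 : ∀ s : Γ(cY.pt, ⊤), ∃ (j : Over i₀) (t : Γ(DY.obj j, ⊤)),
      (cY.π.app j).appTop t = s := fun s =>
    exists_appTop_π_eq_of_isAffine_of_isLimit DY cY hcY s
  have H2 : ∀ (j : Over i₀) (s t : Γ(DX.obj j, ⊤)),
      (cX.π.app j).appTop s = (cX.π.app j).appTop t →
      ∃ (j' : Over i₀) (m : j' ⟶ j), (DX.map m).appTop s = (DX.map m).appTop t := by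
    intro j s t hst
    obtain ⟨j', m, hm⟩ := exists_appTop_map_eq_zero_of_isAffine_of_isLimit DX cX hcX j (s - t)
      (by rw [map_sub, hst, sub_self])
    exact ⟨j', m, by rwa [map_sub, sub_eq_zero] at hm⟩
  have hft : (f₀.appTop).hom.FiniteType :=
    (HasRingHomProperty.iff_of_isAffine (P := @LocallyOfFiniteType)).mp hlft
  obtain ⟨s, hs⟩ := exists_finset_forall_subring_eq_top _ hft
  let j₀ : Over i₀ := Over.mk (𝟙 i₀)
  let s' : Finset Γ(DX.obj j₀, ⊤) :=
    s.image (pullback.snd (D.map j₀.hom) (f₀ ≫ g₀)).appTop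
  obtain ⟨l, m, hl⟩ := exists_forall_isIntegralElem_appTop_stage (stageNat D i₀ f₀ g₀) cX cY
    (stageFc D c i₀ f₀ g₀) (stageFc_naturality D c i₀ f₀ g₀) H1 H2 j₀ s' (fun x _ => H4 _)
  refine ⟨l, ?_⟩
  have hgen : ∀ x ∈ s, (stageMap (D.map l.hom) f₀ g₀).appTop.hom.IsIntegralElem
      ((pullback.snd (D.map l.hom) (f₀ ≫ g₀)).appTop x) := by
    intro x hx
    have ht := hl _ (Finset.mem_image_of_mem _ hx)
    have e : (DX.map m).appTop ((pullback.snd (D.map j₀.hom) (f₀ ≫ g₀)).appTop x) =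
        (pullback.snd (D.map l.hom) (f₀ ≫ g₀)).appTop x :=
      (appTop_appTop _ _ x).trans
        (congrArg (fun q => q.appTop x) (bcDiagram_map_snd D i₀ (f₀ ≫ g₀) m))
    rw [e] at ht
    exact ht
  have : IsAffine (pullback (D.map l.hom) (f₀ ≫ g₀)) := inferInstance
  have : IsAffine (pullback (D.map l.hom) g₀) := inferInstance
  have hpo := isPushout_appTop_of_isPullback (isPullback_stageMap (D.map l.hom) f₀ g₀)
  rw [HasAffineProperty.iff_of_isAffine (P := @IsIntegralHom)]
  refine ⟨inferInstance, ?_⟩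
  -- the elements of `Γ(X₀)` whose image in `Γ(X_l)` is integral over `Γ(Y_l)`
  let T : Subring Γ(X₀, ⊤) := integralPreimageSubring (stageMap (D.map l.hom) f₀ g₀).appTop.hom
    (pullback.snd (D.map l.hom) (f₀ ≫ g₀)).appTop.hom
  have hT : T = ⊤ := by
    refine hs T ?_ ?_
    · rintro _ ⟨y, rfl⟩
      rw [mem_integralPreimageSubring]
      have e : (pullback.snd (D.map l.hom) (f₀ ≫ g₀)).appTop.hom (f₀.appTop.hom y) =
          (stageMap (D.map l.hom) f₀ g₀).appTop.hom
            ((pullback.snd (D.map l.hom) g₀).appTop.hom y) :=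
        (appTop_appTop _ _ y).trans (((congrArg (fun q => q.appTop y)
          (stageMap_snd (D.map l.hom) f₀ g₀))).symm.trans (appTop_appTop _ _ y).symm)
      rw [e]
      exact (stageMap (D.map l.hom) f₀ g₀).appTop.hom.isIntegralElem_map
    · intro x hx
      exact (mem_integralPreimageSubring _ _ x).mpr (hgen x hx)
  -- the integral closure of `Γ(Y_l)` in `Γ(X_l)`
  let R : Subring Γ(pullback (D.map l.hom) (f₀ ≫ g₀), ⊤) :=
    integralPreimageSubring (stageMap (D.map l.hom) f₀ g₀).appTop.hom (RingHom.id _)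
  have hR : R = ⊤ := by
    refine subring_eq_top_of_isPushout hpo R ?_ ?_
    · intro x
      have hx : x ∈ T := hT ▸ Subring.mem_top x
      exact hx
    · intro y
      exact (stageMap (D.map l.hom) f₀ g₀).appTop.hom.isIntegralElem_map
  intro x
  have hx : x ∈ R := hR ▸ Subring.mem_top x
  exact hx

include hc in
/-- The descent of integral morphisms (stage-map form). -/
theorem exists_isIntegralHom_stageMap (i₀ : I) {X₀ Y₀ : Scheme.{u}} (f₀ : X₀ ⟶ Y₀)
    (g₀ : Y₀ ⟶ D.obj i₀) [CompactSpace (D.obj i₀)]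
    [QuasiSeparatedSpace (D.obj i₀)] [CompactSpace X₀] [QuasiSeparatedSpace X₀] [CompactSpace Y₀]
    [QuasiSeparatedSpace Y₀] [LocallyOfFiniteType f₀]
    [IsIntegralHom (stageMap (c.π.app i₀) f₀ g₀)] :
    ∃ l : Over i₀, IsIntegralHom (stageMap (D.map l.hom) f₀ g₀) :=
  (affineDescent_isIntegralHom D c hc).exists_stageMap hc (fun _ _ _ h => h.1) i₀ f₀ g₀
    inferInstance inferInstance

include hc in
/-- The descent of finite morphisms (stage-map form). -/
theorem exists_isFinite_stageMap (i₀ : I) {X₀ Y₀ : Scheme.{u}} (f₀ : X₀ ⟶ Y₀)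
    (g₀ : Y₀ ⟶ D.obj i₀) [CompactSpace (D.obj i₀)]
    [QuasiSeparatedSpace (D.obj i₀)] [CompactSpace X₀] [QuasiSeparatedSpace X₀] [CompactSpace Y₀]
    [QuasiSeparatedSpace Y₀] [LocallyOfFiniteType f₀]
    [IsFinite (stageMap (c.π.app i₀) f₀ g₀)] :
    ∃ l : Over i₀, IsFinite (stageMap (D.map l.hom) f₀ g₀) := by
  obtain ⟨l, hl⟩ := exists_isIntegralHom_stageMap D c hc i₀ f₀ g₀
  refine ⟨l, ?_⟩
  rw [IsFinite.iff_isIntegralHom_and_locallyOfFiniteType]
  exact ⟨hl, MorphismProperty.of_isPullback (P := @LocallyOfFiniteType)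
    (isPullback_stageMap (D.map l.hom) f₀ g₀) inferInstance⟩

end core

end Groth.Agent.Lib.helper9
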