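/-
Helper library (helper9): generic flatness along a cofiltered limit whose limit points have
fields as local rings at a stage (e.g. the system of neighbourhoods of a generic point of a
reduced scheme).
-/
import Groth.Agent.Lib.Helper9.LimDescMore
import Groth.Agent.Lib.Helper3.FlatDescI

set_option autoImplicit false
set_option linter.style.haveILetI false
set_option backward.isDefEq.respectTransparency false

namespace Groth.Agent.Lib.helper9

open AlgebraicGeometry CategoryTheory Limits Topology

universe u

section cat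

variable {C : Type*} [Category C]

/-- If `b` factors through the monomorphism `j`, the factorization square is cartesian. -/
theorem isPullback_of_mono_fac {P F X : C} (b : P ⟶ X) (b' : P ⟶ F) (j : F ⟶ X) [Mono j]
    (h : b' ≫ j = b) : IsPullback b' (𝟙 P) j b := by
  refine ⟨⟨by rw [h, Category.id_comp]⟩, ⟨PullbackCone.IsLimit.mk _ (fun s => s.snd) ?_ ?_ ?_⟩⟩
  · intro s
    rw [← cancel_mono j, Category.assoc, h, s.condition]
  · intro s
    exact Category.comp_id _
  · intro s m _ h2
    rw [← h2]
    exact (Category.comp_id m).symm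

/-- A cartesian square whose top map factors through a monomorphism. -/
theorem isPullback_of_isPullback_of_mono_fac {P F X D D₀ : C} {a : P ⟶ D} {b : P ⟶ X}
    {φ : D ⟶ D₀} {f₀ : X ⟶ D₀} (big : IsPullback b a f₀ φ) (b' : P ⟶ F) (j : F ⟶ X) [Mono j]
    (h : b' ≫ j = b) : IsPullback b' a (j ≫ f₀) φ := by
  have := (isPullback_of_mono_fac b b' j h).paste_vert big
  rwa [Category.id_comp] at this

end cat

/-- A ring homomorphism out of a field is flat: stalk form. -/
theorem flat_stalkMap_of_isField {X Y : Scheme.{u}} (f : X ⟶ Y) (x : X)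
    (h : IsField (Y.presheaf.stalk (f x))) : (f.stalkMap x).hom.Flat := by
  letI := h.toField
  letI : Algebra (Y.presheaf.stalk (f x)) (X.presheaf.stalk x) := (f.stalkMap x).hom.toAlgebra
  show Module.Flat (Y.presheaf.stalk (f x)) (X.presheaf.stalk x)
  haveI : Module.Free (Y.presheaf.stalk (f x)) (X.presheaf.stalk x) := Module.Free.of_divisionRing _ _
  exact Module.Flat.of_free

variable {I : Type u} [SmallCategory I] [IsCofiltered I] (D : I ⥤ Scheme.{u})
  (c : Cone D) (hc : IsLimit c) [hD : ∀ (i j : I) (f : i ⟶ j), IsAffineHom (D.map f)]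

include hc in
/-- **Generic flatness** along a limit all of whose points have fields as local rings at the
stage `i₀`: a morphism locally of finite presentation to the stage `i₀` becomes flat over a later
stage. -/
theorem exists_flat_pullback_fst_of_isField (i₀ : I) {X₀ : Scheme.{u}} (f₀ : X₀ ⟶ D.obj i₀)
    [LocallyOfFinitePresentation f₀] [CompactSpace X₀]
    (hfield : ∀ s : c.pt, IsField ((D.obj i₀).presheaf.stalk (c.π.app i₀ s))) :
    ∃ (i : I) (φ : i ⟶ i₀), Flat (pullback.fst (D.map φ) f₀) := by
  have hopen :=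
    Groth.Agent.Lib.helper3.FlatDesc.isOpen_flatLocus_of_locallyOfFinitePresentation f₀
  let F : X₀.Opens := ⟨{x : X₀ | (f₀.stalkMap x).hom.Flat}, hopen⟩
  have hZ : ProCons.IsProConstructible ((F : Set X₀)ᶜ) :=
    isProConstructible_of_isClosed F.isOpen.isClosed_compl
  have hlim : ∀ w : ↥(pullback (c.π.app i₀) f₀), (pullback.snd (c.π.app i₀) f₀) w ∉
      ((F : Set X₀)ᶜ) := by
    intro w
    simp only [Set.mem_compl_iff, not_not]
    show (f₀.stalkMap _).hom.Flat
    apply flat_stalkMap_of_isField
    have e : f₀ ((pullback.snd (c.π.app i₀) f₀) w) =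
        c.π.app i₀ ((pullback.fst (c.π.app i₀) f₀) w) := by
      rw [← Scheme.Hom.comp_apply, ← Scheme.Hom.comp_apply, pullback.condition]
    rw [e]
    exact hfield _
  obtain ⟨i, φ, hφ⟩ := exists_forall_snd_notMem D c hc i₀ f₀ _ hZ hlim
  refine ⟨i, φ, ?_⟩
  have hsub : Set.range ⇑(pullback.snd (D.map φ) f₀) ⊆ Set.range ⇑F.ι := by
    rintro _ ⟨w, rfl⟩
    have := hφ w
    simp only [Set.mem_compl_iff, not_not] at this
    rw [Scheme.Opens.range_ι]
    exact this
  let b' : pullback (D.map φ) f₀ ⟶ F.toScheme :=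
    IsOpenImmersion.lift F.ι (pullback.snd (D.map φ) f₀) hsub
  have hb' : b' ≫ F.ι = pullback.snd (D.map φ) f₀ := IsOpenImmersion.lift_fac _ _ _
  have sq : IsPullback b' (pullback.fst (D.map φ) f₀) (F.ι ≫ f₀) (D.map φ) :=
    isPullback_of_isPullback_of_mono_fac (IsPullback.of_hasPullback (D.map φ) f₀).flip b' F.ι hb'
  haveI : Flat (F.ι ≫ f₀) := by
    rw [Flat.iff_flat_stalkMap]
    intro u
    rw [Scheme.Hom.stalkMap_comp, CommRingCat.hom_comp]
    refine RingHom.Flat.comp (u.2 : (f₀.stalkMap (F.ι u)).hom.Flat) ?_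
    exact RingHom.Flat.of_bijective (ConcreteCategory.bijective_of_isIso (F.ι.stalkMap u))
  exact MorphismProperty.of_isPullback (P := @Flat) sq inferInstance

end Groth.Agent.Lib.helper9
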