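/-
Helper library (helper9): spreading out a finite purely inseparable extension `K'/K` of the local
ring `K = A_𝔭` (a field) to a finite locally free, surjective, universally injective morphism
`V ⟶ Spec A_g` over a basic open neighbourhood of `𝔭`.
-/
import Groth.Agent.Lib.Helper9.LocLim1
import Groth.Agent.Lib.Helper9.LimDescFlat
import Groth.Agent.Lib.Helper9.FPDescend2
import Groth.Agent.Lib.Helper9.FiniteDescend

set_option autoImplicit false
set_option linter.style.haveILetI false
set_option backward.isDefEq.respectTransparency false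

namespace Groth.Agent.Lib.helper9.SmStrat

open AlgebraicGeometry CategoryTheory Limits TopologicalSpace Topology
open Groth.Agent.Lib.helper9 Groth.Agent.Lib.helper9.LocLim

universe u

theorem isField_stalk_congr {X : Scheme.{u}} {x x' : X} (h : x = x')
    (hx : IsField (X.presheaf.stalk x)) : IsField (X.presheaf.stalk x') := by
  subst h
  exact hx

section

variable {A : Type u} [CommRing A] (𝔭 : Ideal A) [𝔭.IsPrime] (K : Type u) [Field K] [Algebra A K]
  [hK : IsLocalization.AtPrime K 𝔭]

/-- The image of a point of `Spec K` in `Spec A` is `𝔭`. -/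
theorem specMap_algebraMap_asIdeal (s : Spec (CommRingCat.of K)) :
    (Spec.map (CommRingCat.ofHom (algebraMap A K)) s).asIdeal = 𝔭 := by
  have h1 : s.asIdeal = ⊥ := Ideal.eq_bot_of_prime s.asIdeal
  show Ideal.comap (algebraMap A K) s.asIdeal = 𝔭
  rw [h1, ← IsLocalRing.maximalIdeal_eq_bot (R := K)]
  exact IsLocalization.AtPrime.under_maximalIdeal K 𝔭

include hK in
/-- The local ring of `Spec A` at the image of a point of `Spec K` is a field. -/
theorem isField_stalk_specMap_algebraMap (s : Spec (CommRingCat.of K)) :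
    IsField ((Spec (CommRingCat.of A)).presheaf.stalk
      (Spec.map (CommRingCat.ofHom (algebraMap A K)) s)) := by
  set x := Spec.map (CommRingCat.ofHom (algebraMap A K)) s with hx
  have hxp : x.asIdeal = 𝔭 := specMap_algebraMap_asIdeal 𝔭 K s
  letI : Algebra A ((Spec (CommRingCat.of A)).presheaf.stalk x) := StructureSheaf.stalkAlgebra A x
  haveI h1 : IsLocalization.AtPrime ((Spec (CommRingCat.of A)).presheaf.stalk x) x.asIdeal :=
    StructureSheaf.IsLocalization.to_stalk A x
  have hM : x.asIdeal.primeCompl = 𝔭.primeCompl := Submonoid.ext fun a => by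
    show a ∉ x.asIdeal ↔ a ∉ 𝔭
    rw [hxp]
  haveI h2 : IsLocalization x.asIdeal.primeCompl K :=
    hM ▸ (inferInstance : IsLocalization 𝔭.primeCompl K)
  let e : (Spec (CommRingCat.of A)).presheaf.stalk x ≃ₐ[A] K :=
    IsLocalization.algEquiv x.asIdeal.primeCompl _ _
  exact e.toRingEquiv.toMulEquiv.isField (Field.toIsField K)

/-- The local rings of the stages at the image of the limit are fields. -/
theorem isField_stalk_stage (i : (Idx 𝔭.primeCompl)ᵒᵖ)
    (s : (specCone 𝔭.primeCompl K).pt) :
    IsField (((specDiagram 𝔭.primeCompl).obj i).presheaf.stalk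
      ((specCone 𝔭.primeCompl K).π.app i s)) := by
  set y := (specCone 𝔭.primeCompl K).π.app i s with hy
  have hxy : toBase 𝔭.primeCompl i y = Spec.map (CommRingCat.ofHom (algebraMap A K)) s := by
    have h0 := Scheme.Hom.comp_apply ((specCone 𝔭.primeCompl K).π.app i) (toBase 𝔭.primeCompl i) s
    rw [specCone_π_toBase] at h0
    exact h0.symm
  have h1 : IsField ((Spec (CommRingCat.of A)).presheaf.stalk (toBase 𝔭.primeCompl i y)) :=
    isField_stalk_congr hxy.symm (isField_stalk_specMap_algebraMap 𝔭 K s)
  let e := (asIso ((toBase 𝔭.primeCompl i).stalkMap y)).commRingCatIsoToRingEquiv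
  exact e.symm.toMulEquiv.isField h1

end

section

variable {A : Type u} [CommRing A] (𝔭 : Ideal A) [𝔭.IsPrime] (K : Type u) [Field K] [Algebra A K]
  [IsLocalization.AtPrime K 𝔭] (K' : Type u) [Field K'] [Algebra K K'] [FiniteDimensional K K']
  [IsPurelyInseparable K K']

/-- `Spec K' ⟶ Spec K` for a purely inseparable extension is universally injective. -/
theorem universallyInjective_specMap_of_isPurelyInseparable (K K' : Type u) [Field K] [Field K']
    [Algebra K K'] [IsPurelyInseparable K K'] :
    UniversallyInjective (Spec.map (CommRingCat.ofHom (algebraMap K K'))) := by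
  refine ((tfae_universallyInjective _).out 0 1).mpr ?_
  intro L _ g₁ g₂ hg
  obtain ⟨φ₁, rfl⟩ := Spec.map_surjective g₁
  obtain ⟨φ₂, rfl⟩ := Spec.map_surjective g₂
  simp only [← Spec.map_comp] at hg
  have h := Spec.map_injective hg
  congr 1
  ext : 1
  apply IsPurelyInseparable.injective_comp_algebraMap K K' L
  exact congrArg CommRingCat.Hom.hom h

/-- **Spreading out a finite purely inseparable extension of the local ring at `𝔭`.** -/
theorem exists_spread_purelyInseparable :
    ∃ (i : (Idx 𝔭.primeCompl)ᵒᵖ)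
      (N : FPModel (specDiagram 𝔭.primeCompl) (specCone 𝔭.primeCompl K)
        (Spec.map (CommRingCat.ofHom (algebraMap K K'))) i),
      IsFinite N.f₀ ∧ Flat N.f₀ ∧ Surjective N.f₀ ∧ UniversallyInjective N.f₀ := by
  let M := 𝔭.primeCompl
  let D := specDiagram M
  let c := specCone M K
  have hc : IsLimit c := isLimitSpecCone M K
  let ψ₀ : Spec (CommRingCat.of K') ⟶ Spec (CommRingCat.of K) :=
    Spec.map (CommRingCat.ofHom (algebraMap K K'))
  let ψ : Spec (CommRingCat.of K') ⟶ c.pt := ψ₀
  haveI hfin : IsFinite ψ := by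
    rw [IsFinite.SpecMap_iff]
    exact RingHom.finite_algebraMap.mpr (inferInstance : Module.Finite K K')
  haveI hlfp : LocallyOfFinitePresentation ψ := by
    rw [HasRingHomProperty.Spec_iff (P := @LocallyOfFinitePresentation)]
    show (algebraMap K K').FinitePresentation
    rw [RingHom.finitePresentation_algebraMap]
    exact Algebra.FinitePresentation.of_finiteType.mp inferInstance
  have hsurj : Surjective ψ := by
    refine ⟨fun x => ?_⟩
    obtain ⟨y⟩ : Nonempty ↥(Spec (CommRingCat.of K')) := inferInstance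
    haveI : Subsingleton ↥(Spec (CommRingCat.of K)) :=
      inferInstanceAs (Subsingleton (PrimeSpectrum K))
    exact ⟨y, Subsingleton.elim (α := ↥(Spec (CommRingCat.of K))) _ _⟩
  have hui : UniversallyInjective ψ := universallyInjective_specMap_of_isPurelyInseparable K K'
  -- a model
  obtain ⟨i₀, ⟨N₀⟩⟩ := FPModel.exists_model hc ψ
  -- finite
  obtain ⟨i₁, a₁, hf₁⟩ := N₀.exists_rebase_of_descent @IsFinite (fun h => by
    haveI := h
    haveI : CompactSpace N₀.X₀ := N₀.compactSpace_X₀
    haveI : QuasiSeparatedSpace N₀.X₀ := N₀.quasiSeparatedSpace_X₀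
    exact exists_isFinite_stageMap D c hc i₀ N₀.f₀ (𝟙 _)) hfin
  let N₁ := N₀.rebase a₁
  -- flat
  haveI : CompactSpace N₁.X₀ := N₁.compactSpace_X₀
  obtain ⟨i₂, a₂, hfl₂⟩ := exists_flat_pullback_fst_of_isField D c hc i₁ N₁.f₀
    (fun s => isField_stalk_stage 𝔭 K i₁ s)
  let N₂ := N₁.rebase a₂
  -- surjective
  obtain ⟨i₃, a₃, hs₃⟩ := N₂.exists_rebase_of_descent @Surjective (fun h =>
    exists_surjective_stageMap D c hc i₂ N₂.f₀ (𝟙 _) h) hsurj
  let N₃ := N₂.rebase a₃
  -- universally injective
  obtain ⟨i₄, a₄, hu₄⟩ := N₃.exists_rebase_of_descent @UniversallyInjective (fun h =>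
    exists_universallyInjective_stageMap D c hc i₃ N₃.f₀ (𝟙 _) h) hui
  refine ⟨i₄, N₃.rebase a₄, ?_, ?_, ?_, hu₄⟩
  · have h2 : IsFinite N₂.f₀ := MorphismProperty.pullback_fst (P := @IsFinite) _ _ hf₁
    have h3 : IsFinite N₃.f₀ := MorphismProperty.pullback_fst (P := @IsFinite) _ _ h2
    exact MorphismProperty.pullback_fst (P := @IsFinite) _ _ h3
  · have h3 : Flat N₃.f₀ := MorphismProperty.pullback_fst (P := @Flat) _ _ hfl₂
    exact MorphismProperty.pullback_fst (P := @Flat) _ _ h3
  · exact MorphismProperty.pullback_fst (P := @Surjective) _ _ hs₃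

end

end Groth.Agent.Lib.helper9.SmStrat
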