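import Mathlib
import Groth.Agent.Lib.Helper1.SmoothReduced

/-!
# helper9: strata of reduced induced closed subschemes which are smooth over a base

* `exists_iso_of_reduced_immersions`: two immersions with reduced source and the same range are
  isomorphic over the target (uniqueness of the reduced induced structure on a locally closed set).
* `SmStr g C C'`: the open subscheme `C ∖ C'` of the reduced induced closed subscheme on `C` is
  smooth over the target of `g`.
* `smStr_iff_of_immersion`: this can be tested on any reduced scheme immersed onto `C ∖ C'`.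
* `SmStr.of_isPullback`: base change.
-/

set_option autoImplicit false
set_option linter.style.haveILetI false
set_option backward.isDefEq.respectTransparency false

universe u

open CategoryTheory CategoryTheory.Limits AlgebraicGeometry TopologicalSpace

namespace Groth.Agent.Lib.helper9.Strat

theorem isIso_of_isImmersion_of_surjective {X Y : Scheme.{u}} (f : X ⟶ Y) [IsImmersion f]
    (hf : Function.Surjective f.base) [AlgebraicGeometry.IsReduced Y] : IsIso f := by
  haveI : IsClosedImmersion f := IsClosedImmersion.of_isPreimmersion f (by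
    rw [Set.range_eq_univ.mpr hf]; exact isClosed_univ)
  haveI : Surjective f := ⟨hf⟩
  exact isIso_of_isClosedImmersion_of_surjective f

theorem exists_iso_of_reduced_immersions {P Z₁ Z₂ : Scheme.{u}} (i₁ : Z₁ ⟶ P) (i₂ : Z₂ ⟶ P)
    [IsImmersion i₁] [IsImmersion i₂] [AlgebraicGeometry.IsReduced Z₁]
    [AlgebraicGeometry.IsReduced Z₂] (h : Set.range i₁ = Set.range i₂) :
    ∃ e : Z₁ ≅ Z₂, e.hom ≫ i₂ = i₁ := by
  have h1 : Function.Surjective (pullback.fst i₁ i₂).base := by
    intro z₁
    obtain ⟨z₂, hz₂⟩ : i₁ z₁ ∈ Set.range i₂ := h ▸ Set.mem_range_self z₁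
    obtain ⟨t, ht, -⟩ := Scheme.Pullback.exists_preimage_pullback z₁ z₂ hz₂.symm
    exact ⟨t, ht⟩
  have h2 : Function.Surjective (pullback.snd i₁ i₂).base := by
    intro z₂
    obtain ⟨z₁, hz₁⟩ : i₂ z₂ ∈ Set.range i₁ := h ▸ Set.mem_range_self z₂
    obtain ⟨t, -, ht⟩ := Scheme.Pullback.exists_preimage_pullback z₁ z₂ hz₁
    exact ⟨t, ht⟩
  haveI : IsIso (pullback.fst i₁ i₂) := isIso_of_isImmersion_of_surjective _ h1
  haveI : IsIso (pullback.snd i₁ i₂) := isIso_of_isImmersion_of_surjective _ h2
  refine ⟨(asIso (pullback.fst i₁ i₂)).symm ≪≫ asIso (pullback.snd i₁ i₂), ?_⟩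
  simp only [Iso.trans_hom, Iso.symm_hom, asIso_inv, asIso_hom, Category.assoc,
    IsIso.inv_comp_eq]
  exact pullback.condition.symm

variable {Y S : Scheme.{u}}

/-- The open subscheme `C ∖ C'` of the reduced induced closed subscheme on `C` is smooth over `S`. -/
def SmStr (g : Y ⟶ S) (C C' : Closeds Y) : Prop :=
  Smooth (((Scheme.IdealSheafData.vanishingIdeal C).subschemeι ⁻¹ᵁ
    (Scheme.IdealSheafData.vanishingIdeal C').support.compl).ι ≫
      (Scheme.IdealSheafData.vanishingIdeal C).subschemeι ≫ g)

theorem isReduced_subscheme_vanishingIdeal (C : Closeds Y) :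
    AlgebraicGeometry.IsReduced (Scheme.IdealSheafData.vanishingIdeal C).subscheme := by
  rw [IsReduced.iff_of_openCover
    (X := (Scheme.IdealSheafData.vanishingIdeal C).subscheme)
    (Scheme.IdealSheafData.vanishingIdeal C).subschemeCover.openCover]
  intro (U : Y.affineOpens)
  change AlgebraicGeometry.IsReduced
    (Spec (.of (Γ(Y, U.1) ⧸ (Scheme.IdealSheafData.vanishingIdeal C).ideal U)))
  rw [affine_isReduced_iff, ← Ideal.isRadical_iff_quotient_reduced,
    Scheme.IdealSheafData.vanishingIdeal_ideal]
  exact PrimeSpectrum.isRadical_vanishingIdeal _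

theorem range_stratum (C C' : Closeds Y) :
    Set.range (((Scheme.IdealSheafData.vanishingIdeal C).subschemeι ⁻¹ᵁ
      (Scheme.IdealSheafData.vanishingIdeal C').support.compl).ι ≫
        (Scheme.IdealSheafData.vanishingIdeal C).subschemeι) = (C : Set Y) \ (C' : Set Y) := by
  rw [Scheme.Hom.comp_base, TopCat.coe_comp, Set.range_comp, Scheme.Opens.range_ι]
  ext y
  simp only [Set.mem_image, Set.mem_sdiff]
  constructor
  · rintro ⟨z, hz, rfl⟩
    refine ⟨?_, ?_⟩
    · have : (Scheme.IdealSheafData.vanishingIdeal C).subschemeι z ∈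
          Set.range (Scheme.IdealSheafData.vanishingIdeal C).subschemeι := Set.mem_range_self z
      rwa [Scheme.IdealSheafData.range_subschemeι,
        Scheme.IdealSheafData.coe_support_vanishingIdeal] at this
    · intro hy
      apply hz
      show _ ∈ ((Scheme.IdealSheafData.vanishingIdeal C').support : Set Y)
      rwa [Scheme.IdealSheafData.coe_support_vanishingIdeal]
  · rintro ⟨hy, hy'⟩
    have : y ∈ Set.range (Scheme.IdealSheafData.vanishingIdeal C).subschemeι := by
      rwa [Scheme.IdealSheafData.range_subschemeι,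
        Scheme.IdealSheafData.coe_support_vanishingIdeal]
    obtain ⟨z, rfl⟩ := this
    refine ⟨z, ?_, rfl⟩
    intro hz
    apply hy'
    have hz' : (Scheme.IdealSheafData.vanishingIdeal C).subschemeι z ∈
        ((Scheme.IdealSheafData.vanishingIdeal C').support : Set Y) := hz
    rwa [Scheme.IdealSheafData.coe_support_vanishingIdeal] at hz'

theorem smStr_iff_of_immersion (g : Y ⟶ S) (C C' : Closeds Y) {Z : Scheme.{u}} (i : Z ⟶ Y)
    [IsImmersion i] [AlgebraicGeometry.IsReduced Z]
    (hi : Set.range i = (C : Set Y) \ (C' : Set Y)) : SmStr g C C' ↔ Smooth (i ≫ g) := by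
  haveI := isReduced_subscheme_vanishingIdeal C
  set o := ((Scheme.IdealSheafData.vanishingIdeal C).subschemeι ⁻¹ᵁ
      (Scheme.IdealSheafData.vanishingIdeal C').support.compl).ι with ho
  haveI : AlgebraicGeometry.IsReduced ((Scheme.IdealSheafData.vanishingIdeal C).subschemeι ⁻¹ᵁ
      (Scheme.IdealSheafData.vanishingIdeal C').support.compl).toScheme :=
    isReduced_of_isOpenImmersion o
  obtain ⟨e, he⟩ := exists_iso_of_reduced_immersions
    (o ≫ (Scheme.IdealSheafData.vanishingIdeal C).subschemeι) i
    ((range_stratum C C').trans hi.symm)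
  unfold SmStr
  rw [← ho, ← Category.assoc, ← he, Category.assoc]
  exact MorphismProperty.cancel_left_of_respectsIso @Smooth e.hom (i ≫ g)

theorem SmStr.of_isPullback {Y' S' : Scheme.{u}} {q : Y' ⟶ Y} {g' : Y' ⟶ S'} {g : Y ⟶ S}
    {ψ : S' ⟶ S} (h : IsPullback q g' g ψ) [AlgebraicGeometry.IsReduced S'] {C C' : Closeds Y}
    (hs : SmStr g C C') : SmStr g' (C.preimage q.continuous) (C'.preimage q.continuous) := by
  set i₀ := ((Scheme.IdealSheafData.vanishingIdeal C).subschemeι ⁻¹ᵁ
      (Scheme.IdealSheafData.vanishingIdeal C').support.compl).ι ≫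
        (Scheme.IdealSheafData.vanishingIdeal C).subschemeι with hi₀
  have hs' : Smooth (i₀ ≫ g) := by
    rw [hi₀, Category.assoc]; exact hs
  haveI : IsImmersion i₀ := by rw [hi₀]; infer_instance
  let β := pullback.snd i₀ q
  have hpb : IsPullback (pullback.fst i₀ q) (β ≫ g') (i₀ ≫ g) ψ :=
    ((IsPullback.of_hasPullback i₀ q).flip.paste_horiz h.flip).flip
  haveI hsm : Smooth (β ≫ g') := MorphismProperty.of_isPullback (P := @Smooth) hpb hs'
  haveI : AlgebraicGeometry.IsReduced (pullback i₀ q) :=
    Groth.Agent.H1.SmoothReduced.isReduced_of_smooth (β ≫ g')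
  have hrange : Set.range β =
      ((C.preimage q.continuous : Closeds Y') : Set Y') \
        ((C'.preimage q.continuous : Closeds Y') : Set Y') := by
    rw [Scheme.Pullback.range_snd, hi₀, range_stratum]
    rfl
  exact (smStr_iff_of_immersion g' _ _ β hrange).mpr hsm

end Groth.Agent.Lib.helper9.Strat
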