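import Mathlib

/-!
# helper9: a common finite purely inseparable extension of two finite purely inseparable
extensions
-/

set_option autoImplicit false
set_option linter.style.haveILetI false

universe u

namespace Groth.Agent.Lib.helper9.Strat

theorem exists_common_extension (k k₁ k₂ : Type u) [Field k] [Field k₁] [Field k₂] [Algebra k k₁]
    [Algebra k k₂] [Module.Finite k k₁] [Module.Finite k k₂] [IsPurelyInseparable k k₁]
    [IsPurelyInseparable k k₂] :
    ∃ (k₃ : Type u) (_ : Field k₃) (_ : Algebra k k₃) (_ : Module.Finite k k₃)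
      (_ : IsPurelyInseparable k k₃) (_ : Algebra k₁ k₃) (_ : IsScalarTower k k₁ k₃)
      (_ : Algebra k₂ k₃), IsScalarTower k k₂ k₃ := by
  let Ω := AlgebraicClosure k
  haveI : Algebra.IsAlgebraic k k₁ := Algebra.IsAlgebraic.of_finite k k₁
  haveI : Algebra.IsAlgebraic k k₂ := Algebra.IsAlgebraic.of_finite k k₂
  let σ₁ : k₁ →ₐ[k] Ω := IsAlgClosed.lift
  let σ₂ : k₂ →ₐ[k] Ω := IsAlgClosed.lift
  let E₁ : IntermediateField k Ω := σ₁.fieldRange
  let E₂ : IntermediateField k Ω := σ₂.fieldRange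
  let e₁ : k₁ ≃ₐ[k] E₁ := AlgEquiv.ofInjectiveField σ₁
  let e₂ : k₂ ≃ₐ[k] E₂ := AlgEquiv.ofInjectiveField σ₂
  haveI : IsPurelyInseparable k E₁ := e₁.isPurelyInseparable
  haveI : IsPurelyInseparable k E₂ := e₂.isPurelyInseparable
  haveI : FiniteDimensional k E₁ := LinearEquiv.finiteDimensional e₁.toLinearEquiv
  haveI : FiniteDimensional k E₂ := LinearEquiv.finiteDimensional e₂.toLinearEquiv
  let E : IntermediateField k Ω := E₁ ⊔ E₂
  let j₁ : k₁ →ₐ[k] E := (IntermediateField.inclusion (le_sup_left : E₁ ≤ E)).comp e₁.toAlgHom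
  let j₂ : k₂ →ₐ[k] E := (IntermediateField.inclusion (le_sup_right : E₂ ≤ E)).comp e₂.toAlgHom
  letI a₁ : Algebra k₁ E := j₁.toRingHom.toAlgebra
  letI a₂ : Algebra k₂ E := j₂.toRingHom.toAlgebra
  refine ⟨E, inferInstance, inferInstance, inferInstance, inferInstance, a₁, ?_, a₂, ?_⟩
  · exact IsScalarTower.of_algebraMap_eq fun x => (j₁.commutes x).symm
  · exact IsScalarTower.of_algebraMap_eq fun x => (j₂.commutes x).symm

end Groth.Agent.Lib.helper9.Strat
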