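import Mathlib
import Groth.Agent.S2514
import Groth.Agent.Lib.Helper3.GeomRedSch
import Groth.Agent.Lib.Helper17.GeomRedSmooth
import Groth.Agent.Lib.Helper7.GrpPerfect

/-!
# helper9: the reduction of an affine scheme of finite type over a field becomes generically
smooth after a finite purely inseparable extension (affine case)

* `geometricallyReduced_specMap`: `Algebra.IsGeometricallyReduced k C` gives
  `GeometricallyReduced (Spec C ⟶ Spec k)`.
* `affine_case`: for a finitely generated `k`-algebra `A` there are a finite purely inseparable
  extension `k'`, a reduced scheme `Z₀` with a surjective closed immersion into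
  `Spec A ×_k Spec k'` and a dense open `W` of `Z₀` which is smooth over `k'`.
-/

set_option autoImplicit false
set_option linter.style.haveILetI false
set_option backward.isDefEq.respectTransparency false

universe u

open CategoryTheory CategoryTheory.Limits AlgebraicGeometry TensorProduct

namespace Groth.Agent.Lib.helper9.PISmooth

theorem geometricallyReduced_specMap (k C : Type u) [Field k] [CommRing C] [Algebra k C]
    [Algebra.IsGeometricallyReduced k C] :
    GeometricallyReduced (Spec.map (CommRingCat.ofHom (algebraMap k C))) := by
  refine ⟨(geometrically_iff_of_commRing_of_isClosedUnderIsomorphisms).mpr fun K _ _ => ?_⟩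
  rw [Groth.Agent.Lib.helper3.GeomRed.isReduced_pullback_specMap_iff]
  have h2 := Groth.Agent.Lib.helper3.GeomRed.isReduced_tensor_of_isGeometricallyReduced k K C
  exact isReduced_of_injective (Algebra.TensorProduct.comm k C K).toRingHom
    (Algebra.TensorProduct.comm k C K).injective

theorem surjective_specMap_quotient_nilradical (B : Type u) [CommRing B] :
    Function.Surjective (Spec.map (CommRingCat.ofHom (Ideal.Quotient.mk (nilradical B)))).base := by
  exact (PrimeSpectrum.comap_quotientMk_bijective_of_le_nilradical (le_refl _)).2

theorem affine_case (k : Type u) [Field k] (A : Type u) [CommRing A] [Algebra k A]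
    [Algebra.FiniteType k A] :
    ∃ (k' : Type u) (_ : Field k') (_ : Algebra k k') (_ : Module.Finite k k')
      (_ : IsPurelyInseparable k k') (Z₀ : Scheme.{u}) (_ : AlgebraicGeometry.IsReduced Z₀)
      (i₀ : Z₀ ⟶ pullback (Spec.map (CommRingCat.ofHom (algebraMap k A)))
        (Spec.map (CommRingCat.ofHom (algebraMap k k')))) (W : Z₀.Opens),
      IsClosedImmersion i₀ ∧ Function.Surjective i₀.base ∧ Dense (W : Set Z₀) ∧
        Smooth (W.ι ≫ i₀ ≫ pullback.snd _ _) := by
  obtain ⟨k', _, _, hfin, hpi, hGR⟩ := Groth.Agent.S2514.result (k := k) A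
  let B := k' ⊗[k] A
  let C := B ⧸ nilradical B
  have hCred : _root_.IsReduced C :=
    (Ideal.isRadical_iff_quotient_reduced _).mp (Ideal.radical_isRadical _)
  let q : B →+* C := Ideal.Quotient.mk (nilradical B)
  let cm : A ⊗[k] k' →+* B := (Algebra.TensorProduct.comm k A k').toRingHom
  let i₀ : Spec (CommRingCat.of C) ⟶ pullback (Spec.map (CommRingCat.ofHom (algebraMap k A)))
        (Spec.map (CommRingCat.ofHom (algebraMap k k'))) :=
    Spec.map (CommRingCat.ofHom q) ≫ Spec.map (CommRingCat.ofHom cm) ≫ (pullbackSpecIso k A k').inv
  have hsnd : i₀ ≫ pullback.snd _ _ = Spec.map (CommRingCat.ofHom (algebraMap k' C)) := by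
    simp only [i₀, Category.assoc, pullbackSpecIso_inv_snd]
    rw [← Spec.map_comp, ← Spec.map_comp]
    congr 1
  have hFT : Algebra.FiniteType k' C := by
    have : Algebra.FiniteType k' B := inferInstance
    exact Algebra.FiniteType.of_surjective (Ideal.Quotient.mkₐ k' (nilradical B))
      (Ideal.Quotient.mkₐ_surjective _ _)
  have hFP : Algebra.FinitePresentation k' C := Algebra.FinitePresentation.of_finiteType.mp hFT
  haveI hlfp : LocallyOfFinitePresentation (Spec.map (CommRingCat.ofHom (algebraMap k' C))) := by
    rw [HasRingHomProperty.Spec_iff (P := @LocallyOfFinitePresentation)]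
    exact RingHom.finitePresentation_algebraMap.mpr hFP
  haveI := geometricallyReduced_specMap k' C
  refine ⟨k', _, _, hfin, hpi, Spec (CommRingCat.of C), inferInstance, i₀,
    (Spec.map (CommRingCat.ofHom (algebraMap k' C))).smoothLocus, ?_, ?_, ?_, ?_⟩
  · have h1 : IsClosedImmersion (Spec.map (CommRingCat.ofHom q)) :=
      IsClosedImmersion.spec_of_surjective _ Ideal.Quotient.mk_surjective
    have h2 : IsIso (Spec.map (CommRingCat.ofHom cm)) := by
      have : IsIso (CommRingCat.ofHom cm) :=
        (Algebra.TensorProduct.comm k A k').toRingEquiv.toCommRingCatIso.isIso_hom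
      infer_instance
    infer_instance
  · have h1 := surjective_specMap_quotient_nilradical B
    have h2 : Function.Surjective
        (Spec.map (CommRingCat.ofHom cm) ≫ (pullbackSpecIso k A k').inv).base := by
      have : IsIso (Spec.map (CommRingCat.ofHom cm)) := by
        have : IsIso (CommRingCat.ofHom cm) :=
          (Algebra.TensorProduct.comm k A k').toRingEquiv.toCommRingCatIso.isIso_hom
        infer_instance
      exact (Spec.map (CommRingCat.ofHom cm) ≫ (pullbackSpecIso k A k').inv).homeomorph.surjective
    have : i₀.base = (Spec.map (CommRingCat.ofHom cm) ≫ (pullbackSpecIso k A k').inv).base ∘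
        (Spec.map (CommRingCat.ofHom q)).base := by
      ext x
      simp [i₀]
    rw [this]
    exact h2.comp h1
  · exact Groth.Agent.Lib.helper17.GeomRedSmooth.dense_smoothLocus_of_geometricallyReduced _
  · rw [hsnd]
    exact Groth.Agent.Lib.helper7.GrpPerfect.smooth_smoothLocus_ι _

end Groth.Agent.Lib.helper9.PISmooth
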