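import Mathlib
import Groth.Agent.Lib.Helper9.PISmooth1

/-!
# helper9: shrinking a dense open along a universal homeomorphism

* `affine_case'`: `affine_case` for an arbitrary affine scheme of finite type over a field.
* `transport`: given `f : X ⟶ S`, a universal homeomorphism `ψ : S' ⟶ S`, a dense open `U₀` of `X`,
  a reduced `Z₀` with a surjective closed immersion `i₀` into `U₀ ×_S S'` and a dense open `W ⊆ Z₀`
  smooth over `S'`, there is a dense open `U ⊆ U₀` such that the reduction of `U ×_S S'`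
  (namely the open subscheme `W`) is smooth over `S'`.
-/

set_option autoImplicit false
set_option linter.style.haveILetI false
set_option backward.isDefEq.respectTransparency false

universe u

open CategoryTheory CategoryTheory.Limits AlgebraicGeometry TensorProduct

namespace Groth.Agent.Lib.helper9.PISmooth

theorem affine_case' (k : Type u) [Field k] {Y : Scheme.{u}} [IsAffine Y]
    (g : Y ⟶ Spec (CommRingCat.of k)) [LocallyOfFiniteType g] :
    ∃ (k' : Type u) (_ : Field k') (_ : Algebra k k') (_ : Module.Finite k k')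
      (_ : IsPurelyInseparable k k') (Z₀ : Scheme.{u}) (_ : AlgebraicGeometry.IsReduced Z₀)
      (i₀ : Z₀ ⟶ pullback g (Spec.map (CommRingCat.ofHom (algebraMap k k')))) (W : Z₀.Opens),
      IsClosedImmersion i₀ ∧ Function.Surjective i₀.base ∧ Dense (W : Set Z₀) ∧
        Smooth (W.ι ≫ i₀ ≫ pullback.snd _ _) := by
  let g' : Spec Γ(Y, ⊤) ⟶ Spec (CommRingCat.of k) := Y.isoSpec.inv ≫ g
  obtain ⟨alg, hg'⟩ := Groth.Agent.Lib.helper3.GeomRed.exists_algebra_of_hom Γ(Y, ⊤) g'
  have hlft : LocallyOfFiniteType g' := inferInstance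
  have hFT : Algebra.FiniteType k Γ(Y, ⊤) := by
    rw [hg', HasRingHomProperty.Spec_iff (P := @LocallyOfFiniteType)] at hlft
    exact RingHom.finiteType_algebraMap.mp hlft
  obtain ⟨k', _, _, hfin, hpi, Z₀, hZ₀, i₀, W, h1, h2, h3, h4⟩ := affine_case k Γ(Y, ⊤)
  let ψ := Spec.map (CommRingCat.ofHom (algebraMap k k'))
  let e : pullback (Spec.map (CommRingCat.ofHom (algebraMap k Γ(Y, ⊤)))) ψ ⟶ pullback g ψ :=
    pullback.map _ _ _ _ Y.isoSpec.inv (𝟙 _) (𝟙 _) (by rw [← hg']; simp [g']) (by simp)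
  have he : e ≫ pullback.snd g ψ = pullback.snd _ _ := by simp [e]
  refine ⟨k', _, _, hfin, hpi, Z₀, hZ₀, i₀ ≫ e, W, inferInstance, ?_, h3, ?_⟩
  · intro y
    obtain ⟨y', hy'⟩ := e.homeomorph.surjective y
    obtain ⟨z, hz⟩ := h2 y'
    refine ⟨z, ?_⟩
    change (i₀ ≫ e) z = y
    rw [Scheme.Hom.comp_apply, hz]
    exact hy'
  · have : W.ι ≫ (i₀ ≫ e) ≫ pullback.snd g ψ = W.ι ≫ i₀ ≫ pullback.snd _ _ := by
      rw [Category.assoc, he]
    rw [this]
    exact h4

theorem transport {X S S' : Scheme.{u}} (f : X ⟶ S) (ψ : S' ⟶ S) [Surjective ψ]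
    [UniversallyInjective ψ] [UniversallyOpen ψ]
    (U₀ : X.Opens) (hU₀ : Dense (U₀ : Set X)) {Z₀ : Scheme.{u}} [AlgebraicGeometry.IsReduced Z₀]
    (i₀ : Z₀ ⟶ pullback (U₀.ι ≫ f) ψ) [IsClosedImmersion i₀] (hi₀ : Function.Surjective i₀.base)
    (W : Z₀.Opens) (hW : Dense (W : Set Z₀)) (hsm : Smooth (W.ι ≫ i₀ ≫ pullback.snd _ _)) :
    ∃ (U : X.Opens) (_ : Dense (U : Set X)) (Z : Scheme.{u}) (_ : AlgebraicGeometry.IsReduced Z)
      (i : Z ⟶ pullback (U.ι ≫ f) ψ), IsClosedImmersion i ∧ Function.Surjective i.base ∧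
        Smooth (i ≫ pullback.snd (U.ι ≫ f) ψ) := by
  let p := pullback.fst (U₀.ι ≫ f) ψ
  have hp_open : IsOpenMap p := p.isOpenMap
  haveI : UniversallyInjective p :=
    MorphismProperty.pullback_fst (P := @UniversallyInjective) _ _ inferInstance
  have hp_inj : Function.Injective p := p.injective
  have hp_surj : Function.Surjective p := p.surjective
  have hi₀_inj : Function.Injective i₀ := i₀.isClosedEmbedding.injective
  have hi₀_open : IsOpenMap i₀ := by
    intro s hs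
    have hbij : Function.Bijective i₀ := ⟨hi₀_inj, hi₀⟩
    have : i₀ '' s = (i₀ '' sᶜ)ᶜ := by
      rw [Set.image_compl_eq hbij, compl_compl]
    rw [this]
    exact (i₀.isClosedEmbedding.isClosedMap _ hs.isClosed_compl).isOpen_compl
  let T : Set X := U₀.ι '' (p '' (i₀ '' (W : Set Z₀)))
  have hT : IsOpen T :=
    U₀.ι.isOpenEmbedding.isOpenMap _ (hp_open _ (hi₀_open _ W.isOpen))
  let U : X.Opens := ⟨T, hT⟩
  have hle : U ≤ U₀ := by
    rintro x ⟨y, -, rfl⟩
    exact y.2
  have hdense : Dense (U : Set X) := by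
    have h1 : Dense (i₀ '' (W : Set Z₀)) :=
      (hi₀.denseRange).dense_image i₀.continuous hW
    have h2 : Dense (p '' (i₀ '' (W : Set Z₀))) :=
      (hp_surj.denseRange).dense_image p.continuous h1
    have h3 : DenseRange U₀.ι := by
      rw [DenseRange, Scheme.Opens.range_ι]
      exact hU₀
    exact h3.dense_image U₀.ι.continuous h2
  let j : pullback (U.ι ≫ f) ψ ⟶ pullback (U₀.ι ≫ f) ψ :=
    pullback.map (U.ι ≫ f) ψ (U₀.ι ≫ f) ψ (X.homOfLE hle) (𝟙 _) (𝟙 _) (by simp) (by simp)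
  have hj_snd : j ≫ pullback.snd _ _ = pullback.snd _ _ := by simp [j]
  have hj_fst : j ≫ p = pullback.fst _ _ ≫ X.homOfLE hle := by simp [j, p]
  let Z := pullback i₀ j
  let i : Z ⟶ pullback (U.ι ≫ f) ψ := pullback.snd i₀ j
  let o : Z ⟶ Z₀ := pullback.fst i₀ j
  haveI : Surjective i₀ := ⟨hi₀⟩
  have hcond : o ≫ i₀ = i ≫ j := pullback.condition
  have hrange : Set.range o ⊆ Set.range W.ι := by
    rintro _ ⟨z, rfl⟩
    rw [Scheme.Opens.range_ι]
    have h1 : U₀.ι (p (i₀ (o z))) ∈ T := by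
      have e1 : i₀ (o z) = j (i z) := by
        rw [← Scheme.Hom.comp_apply, ← Scheme.Hom.comp_apply, hcond]
      have e2 : p (j (i z)) = X.homOfLE hle (pullback.fst (U.ι ≫ f) ψ (i z)) := by
        rw [← Scheme.Hom.comp_apply, ← Scheme.Hom.comp_apply (pullback.fst (U.ι ≫ f) ψ), hj_fst]
      rw [e1, e2, ← Scheme.Hom.comp_apply, X.homOfLE_ι]
      exact (pullback.fst (U.ι ≫ f) ψ (i z)).2
    obtain ⟨y, ⟨y', ⟨w, hw, rfl⟩, rfl⟩, hy⟩ := h1
    have := hi₀_inj (hp_inj (U₀.ι.isOpenEmbedding.injective hy))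
    rw [← this]
    exact hw
  let l : Z ⟶ W := IsOpenImmersion.lift W.ι o hrange
  have hl : l ≫ W.ι = o := IsOpenImmersion.lift_fac _ _ _
  haveI : IsOpenImmersion l := by
    have : IsOpenImmersion (l ≫ W.ι) := by rw [hl]; infer_instance
    exact IsOpenImmersion.of_comp l W.ι
  refine ⟨U, hdense, Z, isReduced_of_isOpenImmersion o, i, inferInstance, i.surjective, ?_⟩
  have : i ≫ pullback.snd (U.ι ≫ f) ψ = l ≫ (W.ι ≫ i₀ ≫ pullback.snd _ _) := by
    rw [← hj_snd, ← Category.assoc, ← hcond, ← hl]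
    simp only [Category.assoc]
  rw [this]
  infer_instance

end Groth.Agent.Lib.helper9.PISmooth
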