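import Mathlib
import Groth.Agent.Lib.Helper9.Strat1
import Groth.Agent.Lib.Helper9.Strat2
import Groth.Agent.S2769

/-!
# helper9: stratification of a scheme of finite type over a field by locally closed pieces which
become smooth (with their reduced structure) after a finite purely inseparable extension
-/

set_option autoImplicit false
set_option linter.style.haveILetI false
set_option backward.isDefEq.respectTransparency false

universe u

open CategoryTheory CategoryTheory.Limits AlgebraicGeometry TopologicalSpace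

namespace Groth.Agent.Lib.helper9.Strat

variable (k : Type u) [Field k] {X : Scheme.{u}} (p : X ⟶ Spec (CommRingCat.of k))

/-- `bcψ k k'` is `Spec k' ⟶ Spec k`. -/
noncomputable abbrev bcψ (k' : Type u) [Field k'] [Algebra k k'] :
    Spec (CommRingCat.of k') ⟶ Spec (CommRingCat.of k) :=
  Spec.map (CommRingCat.ofHom (algebraMap k k'))

/-- The stratum `T ∖ T'` becomes smooth over `k'`. -/
def SmF (k' : Type u) [Field k'] [Algebra k k'] (T T' : Closeds X) : Prop :=
  SmStr (pullback.snd p (bcψ k k')) (T.preimage (pullback.fst p (bcψ k k')).continuous)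
    (T'.preimage (pullback.fst p (bcψ k k')).continuous)

theorem SmF.of_tower (k' k'' : Type u) [Field k'] [Field k''] [Algebra k k'] [Algebra k' k'']
    [Algebra k k''] [IsScalarTower k k' k''] {T T' : Closeds X} (h : SmF k p k' T T') :
    SmF k p k'' T T' := by
  let ψ₂ : Spec (CommRingCat.of k'') ⟶ Spec (CommRingCat.of k') := bcψ k' k''
  have hψ : ψ₂ ≫ bcψ k k' = bcψ k k'' := by
    simp only [ψ₂, bcψ]
    rw [← Spec.map_comp, ← CommRingCat.ofHom_comp, ← IsScalarTower.algebraMap_eq]
  let r : pullback p (bcψ k k'') ⟶ pullback p (bcψ k k') :=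
    pullback.map p (bcψ k k'') p (bcψ k k') (𝟙 _) ψ₂ (𝟙 _) (by simp) (by simp [hψ])
  have hr_fst : r ≫ pullback.fst p (bcψ k k') = pullback.fst p (bcψ k k'') := by simp [r]
  have hr_snd : r ≫ pullback.snd p (bcψ k k') = pullback.snd p (bcψ k k'') ≫ ψ₂ := by simp [r]
  have hpb : IsPullback r (pullback.snd p (bcψ k k'')) (pullback.snd p (bcψ k k')) ψ₂ := by
    refine (IsPullback.of_bot ?_ hr_snd.symm (IsPullback.of_hasPullback p (bcψ k k')).flip).flip
    rw [hr_fst, hψ]
    exact (IsPullback.of_hasPullback p (bcψ k k'')).flip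
  have h1 := SmStr.of_isPullback hpb h
  unfold SmF
  convert h1 using 2
  · ext x
    simp only [Closeds.coe_preimage, Set.mem_preimage]
    rw [← hr_fst]
    rfl
  · ext x
    simp only [Closeds.coe_preimage, Set.mem_preimage]
    rw [← hr_fst]
    rfl

theorem exists_smF [LocallyOfFiniteType p] [QuasiCompact p] (T : Closeds X) (hT : T ≠ ⊥) :
    ∃ T' : Closeds X, T' < T ∧ ∃ (k' : Type u) (_ : Field k') (_ : Algebra k k')
      (_ : Module.Finite k k') (_ : IsPurelyInseparable k k'), SmF k p k' T T' := by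
  set ιT := (Scheme.IdealSheafData.vanishingIdeal T).subschemeι with hιT
  have hrangeT : Set.range ιT = (T : Set X) := by
    rw [hιT, Scheme.IdealSheafData.range_subschemeι,
      Scheme.IdealSheafData.coe_support_vanishingIdeal]
  obtain ⟨U, hU, k', _, _, hfin, hpi, Z, hZ, i, hi1, hi2, hi3⟩ :=
    Groth.Agent.S2769.result k (ιT ≫ p)
  -- the smaller closed set
  let T' : Closeds X := ⟨ιT '' (U : Set _)ᶜ,
    ιT.isClosedEmbedding.isClosedMap _ U.isOpen.isClosed_compl⟩
  have hinj : Function.Injective ιT := ιT.isClosedEmbedding.injective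
  have himgU : ιT '' (U : Set _) = (T : Set X) \ (T' : Set X) := by
    rw [← hrangeT]
    ext x
    simp only [Set.mem_image, Set.mem_sdiff, Set.mem_range]
    constructor
    · rintro ⟨u, hu, rfl⟩
      refine ⟨⟨u, rfl⟩, ?_⟩
      rintro ⟨v, hv, hvu⟩
      exact hv (hinj hvu ▸ hu)
    · rintro ⟨⟨u, rfl⟩, hx⟩
      refine ⟨u, ?_, rfl⟩
      by_contra hu
      exact hx ⟨u, hu, rfl⟩
  have hle : T' ≤ T := by
    intro x hx
    obtain ⟨v, -, rfl⟩ := hx
    rw [← SetLike.mem_coe, ← hrangeT]
    exact Set.mem_range_self v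
  have hlt : T' < T := by
    refine lt_of_le_of_ne hle ?_
    intro heq
    obtain ⟨x, hx⟩ : (T : Set X).Nonempty := by
      rw [Set.nonempty_iff_ne_empty]
      intro h
      exact hT (Closeds.ext h)
    rw [← hrangeT] at hx
    obtain ⟨z, rfl⟩ := hx
    obtain ⟨u, hu⟩ := hU.nonempty_iff.mpr ⟨z⟩
    have h1 : ιT u ∈ ιT '' (U : Set _) := ⟨u, hu, rfl⟩
    rw [himgU, heq] at h1
    exact h1.2 h1.1
  refine ⟨T', hlt, k', _, _, hfin, hpi, ?_⟩
  -- the immersion of `Z`
  let ψ := bcψ k k'
  let m : pullback (U.ι ≫ ιT ≫ p) ψ ⟶ pullback p ψ :=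
    pullback.map (U.ι ≫ ιT ≫ p) ψ p ψ (U.ι ≫ ιT) (𝟙 _) (𝟙 _) (by simp) (by simp)
  have hm_snd : m ≫ pullback.snd p ψ = pullback.snd _ _ := by simp [m]
  have hm_fst : m ≫ pullback.fst p ψ = pullback.fst _ _ ≫ U.ι ≫ ιT := by simp [m]
  have hmpb : IsPullback m (pullback.fst (U.ι ≫ ιT ≫ p) ψ) (pullback.fst p ψ) (U.ι ≫ ιT) := by
    refine IsPullback.of_right ?_ hm_fst (IsPullback.of_hasPullback p ψ).flip
    rw [hm_snd, Category.assoc]
    exact (IsPullback.of_hasPullback (U.ι ≫ ιT ≫ p) ψ).flip
  haveI : IsImmersion (U.ι ≫ ιT) := inferInstance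
  haveI : IsImmersion m := MorphismProperty.of_isPullback (P := @IsImmersion) hmpb.flip inferInstance
  haveI : IsImmersion (i ≫ m) := inferInstance
  have hrange : Set.range (i ≫ m) =
      (↑(T.preimage (pullback.fst p ψ).continuous) : Set ↥(pullback p ψ)) \
        ↑(T'.preimage (pullback.fst p ψ).continuous) := by
    have h1 : Set.range (i ≫ m) = Set.range m := by
      ext x
      constructor
      · rintro ⟨z, rfl⟩
        exact ⟨i z, (Scheme.Hom.comp_apply i m z).symm⟩
      · rintro ⟨y, rfl⟩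
        obtain ⟨z, rfl⟩ := hi2 y
        exact ⟨z, Scheme.Hom.comp_apply i m z⟩
    have h2 : Set.range m = (pullback.fst p ψ).base ⁻¹' Set.range (U.ι ≫ ιT) := by
      have h3 : Set.range (hmpb.isoPullback.hom ≫ pullback.fst (pullback.fst p ψ) (U.ι ≫ ιT)) =
          Set.range (pullback.fst (pullback.fst p ψ) (U.ι ≫ ιT)) := by
        ext x
        constructor
        · rintro ⟨z, rfl⟩
          exact ⟨hmpb.isoPullback.hom z, (Scheme.Hom.comp_apply _ _ z).symm⟩
        · rintro ⟨y, rfl⟩
          obtain ⟨z, rfl⟩ := hmpb.isoPullback.hom.homeomorph.surjective y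
          exact ⟨z, Scheme.Hom.comp_apply _ _ z⟩
      rw [hmpb.isoPullback_hom_fst] at h3
      rw [h3, Scheme.Pullback.range_fst]
    have h4 : Set.range (U.ι ≫ ιT) = ιT '' (U : Set _) := by
      rw [Scheme.Hom.comp_base, TopCat.coe_comp, Set.range_comp, Scheme.Opens.range_ι]
    rw [h1, h2, h4, himgU]
    rfl
  refine (smStr_iff_of_immersion (pullback.snd p ψ) _ _ (i ≫ m) hrange).mpr ?_
  rw [Category.assoc, hm_snd]
  have : pullback.snd (U.ι ≫ ιT ≫ p) ψ = pullback.snd (U.ι ≫ ιT ≫ p)
      (Spec.map (CommRingCat.ofHom (algebraMap k k'))) := rfl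
  exact hi3

theorem exists_chain [LocallyOfFiniteType p] [QuasiCompact p] (T : Closeds X) :
    ∃ (k' : Type u) (_ : Field k') (_ : Algebra k k') (_ : Module.Finite k k')
      (_ : IsPurelyInseparable k k') (n : ℕ) (c : ℕ → Closeds X), c 0 = T ∧ c n = ⊥ ∧
        (∀ i, c (i + 1) ≤ c i) ∧ ∀ i < n, SmF k p k' (c i) (c (i + 1)) := by
  haveI : CompactSpace X := QuasiCompact.compactSpace_of_compactSpace p
  haveI : IsLocallyNoetherian X := LocallyOfFiniteType.isLocallyNoetherian p
  haveI : IsNoetherian X := {}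
  haveI : NoetherianSpace X := inferInstance
  induction T using (wellFounded_lt (α := Closeds X)).induction with
  | h T IH =>
  by_cases hT : T = ⊥
  · subst hT
    exact ⟨k, inferInstance, inferInstance, inferInstance, inferInstance, 0, fun _ => ⊥, rfl, rfl,
      fun _ => le_rfl, fun i hi => absurd hi (Nat.not_lt_zero i)⟩
  · obtain ⟨T', hlt, k₁, _, _, _, _, hSm⟩ := exists_smF k p T hT
    obtain ⟨k₂, _, _, _, _, n, c, hc0, hcn, hmono, hsm⟩ := IH T' hlt
    obtain ⟨k₃, _, _, hfin, hpi, _, _, _, _⟩ := exists_common_extension k k₁ k₂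
    refine ⟨k₃, inferInstance, inferInstance, hfin, hpi, n + 1,
      fun i => Nat.casesOn i T (fun j => c j), rfl, hcn, ?_, ?_⟩
    · intro i
      cases i with
      | zero =>
        show c 0 ≤ T
        rw [hc0]
        exact hlt.le
      | succ j => exact hmono j
    · intro i hi
      cases i with
      | zero =>
        show SmF k p k₃ T (c 0)
        rw [hc0]
        exact SmF.of_tower k p k₁ k₃ hSm
      | succ j =>
        show SmF k p k₃ (c j) (c (j + 1))
        exact SmF.of_tower k p k₂ k₃ (hsm j (Nat.lt_of_succ_lt_succ hi))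

theorem exists_stratification [LocallyOfFiniteType p] [QuasiCompact p] :
    ∃ (k' : Type u) (_ : Field k') (_ : Algebra k k') (_ : FiniteDimensional k k')
      (_ : IsPurelyInseparable k k') (t : ℕ)
      (I : Fin (t + 1) → (pullback p (Spec.map (CommRingCat.ofHom (algebraMap k k')))).IdealSheafData),
      Monotone I ∧ I 0 = Scheme.IdealSheafData.vanishingIdeal ⊤ ∧ I (Fin.last t) = ⊤ ∧
        ∀ i : Fin t,
          Smooth (((I i.castSucc).subschemeι ⁻¹ᵁ (I i.succ).support.compl).ι ≫
            (I i.castSucc).subschemeι ≫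
              pullback.snd p (Spec.map (CommRingCat.ofHom (algebraMap k k')))) := by
  obtain ⟨k', _, _, hfin, hpi, n, c, hc0, hcn, hmono, hsm⟩ := exists_chain k p ⊤
  have hanti : Antitone c := antitone_nat_of_succ_le hmono
  refine ⟨k', inferInstance, inferInstance, hfin, hpi, n,
    fun i => Scheme.IdealSheafData.vanishingIdeal
      ((c i.val).preimage (pullback.fst p (bcψ k k')).continuous), ?_, ?_, ?_, ?_⟩
  · intro i j hij
    apply Scheme.IdealSheafData.vanishingIdeal_antimono
    intro x hx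
    exact hanti hij hx
  · show Scheme.IdealSheafData.vanishingIdeal ((c 0).preimage _) = _
    rw [hc0]
    congr 1
  · show Scheme.IdealSheafData.vanishingIdeal ((c n).preimage _) = _
    rw [hcn]
    have : ((⊥ : Closeds X).preimage (pullback.fst p (bcψ k k')).continuous) = ⊥ := by
      ext x; simp
    rw [this, Scheme.IdealSheafData.vanishingIdeal_bot]
  · intro i
    exact hsm i.val i.isLt

end Groth.Agent.Lib.helper9.Strat
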