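/-
Helper library (helper9): smooth stratification near a prime `𝔭` of `A` with `A_𝔭` a field
(e.g. a minimal prime of a reduced ring), after a finite locally free, surjective, universally
injective base change (affine base case of EGA IV 17.16.? / Stacks 0ASY-type statement).
-/
import Groth.Agent.Lib.Helper9.SmStrat2
import Groth.Agent.Lib.Helper9.SmStrat4
import Groth.Agent.Lib.Helper9.SmStrat5
import Groth.Agent.Lib.Helper9.Strat3

set_option autoImplicit false
set_option linter.style.haveILetI false
set_option backward.isDefEq.respectTransparency false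

namespace Groth.Agent.Lib.helper9.SmStrat

open AlgebraicGeometry CategoryTheory Limits TopologicalSpace Topology
open Groth.Agent.Lib.helper9 Groth.Agent.Lib.helper9.LocLim

universe u

/-- The field case: after a finite purely inseparable extension, a scheme of finite type over a
field has a smooth stratification. -/
theorem hasStrat_field (k : Type u) [Field k] {X : Scheme.{u}}
    (p : X ⟶ Spec (CommRingCat.of k)) [LocallyOfFiniteType p] [QuasiCompact p] :
    ∃ (k' : Type u) (_ : Field k') (_ : Algebra k k') (_ : FiniteDimensional k k')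
      (_ : IsPurelyInseparable k k') (n : ℕ),
      HasStrat n (pullback.snd p (Spec.map (CommRingCat.ofHom (algebraMap k k')))) := by
  obtain ⟨k', _, _, hfin, hpi, t, J, hmono, h0, htop, hsm⟩ :=
    Groth.Agent.Lib.helper9.Strat.exists_stratification k p
  refine ⟨k', inferInstance, inferInstance, hfin, hpi, t, ?_⟩
  let ψ := Spec.map (CommRingCat.ofHom (algebraMap k k'))
  haveI : IsLocallyNoetherian (pullback p ψ) :=
    LocallyOfFiniteType.isLocallyNoetherian (pullback.snd p ψ)
  refine ⟨(J 0).subscheme, (J 0).subschemeι, inferInstance, ?_, ?_, ?_⟩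
  · exact LocallyOfFinitePresentation.iff_locallyOfFiniteType.mpr inferInstance
  · refine ⟨fun x => ?_⟩
    have hr : Set.range ⇑(J 0).subschemeι = Set.univ := by
      rw [Scheme.IdealSheafData.range_subschemeι, h0,
        Scheme.IdealSheafData.coe_support_vanishingIdeal]
      rfl
    have : x ∈ Set.range ⇑(J 0).subschemeι := hr ▸ Set.mem_univ x
    exact this
  · exact strat_of_idealSheafData (pullback.snd p ψ) J hmono htop hsm

section

variable {I : Type u} [SmallCategory I] {D : I ⥤ Scheme.{u}} {c : Cone D}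

/-- The tautological model of a base change of `f : X ⟶ B` to the limit, at a stage mapping
to `B`. -/
noncomputable def FPModel.ofPullback (j₀ : I) {B X : Scheme.{u}} (t : D.obj j₀ ⟶ B) (f : X ⟶ B)
    [LocallyOfFinitePresentation f] [QuasiCompact f] [QuasiSeparated f] :
    FPModel D c (pullback.snd f (c.π.app j₀ ≫ t)) j₀ where
  X₀ := pullback f t
  f₀ := pullback.snd f t
  g := pullback.map f (c.π.app j₀ ≫ t) f t (𝟙 X) (c.π.app j₀) (𝟙 B) (by simp) (by simp)
  lfp := MorphismProperty.pullback_snd (P := @LocallyOfFinitePresentation) _ _ inferInstance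
  qc := MorphismProperty.pullback_snd (P := @QuasiCompact) _ _ inferInstance
  qs := MorphismProperty.pullback_snd (P := @QuasiSeparated) _ _ inferInstance
  pb := by
    refine IsPullback.of_right ?_ (pullback.lift_snd _ _ _) (IsPullback.of_hasPullback f t)
    have : pullback.map f (c.π.app j₀ ≫ t) f t (𝟙 X) (c.π.app j₀) (𝟙 B) (by simp) (by simp) ≫
        pullback.fst f t = pullback.fst f (c.π.app j₀ ≫ t) := by
      rw [pullback.lift_fst, Category.comp_id]
    rw [this]
    exact IsPullback.of_hasPullback f (c.π.app j₀ ≫ t)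

end

section

variable {I : Type u} [SmallCategory I] (D : I ⥤ Scheme.{u}) (c : Cone D)
  (k : I) {T : Scheme.{u}} (g : T ⟶ D.obj k)

theorem bcCone_π_fst (j : Over k) :
    (bcCone D c k g).π.app j ≫ pullback.fst (D.map j.hom) g =
      pullback.fst (c.π.app k) g ≫ c.π.app j.left := by
  simp [pullback.map]

theorem bcDiagram_map_fst {j j' : Over k} (m : j ⟶ j') :
    (bcDiagram D k g).map m ≫ pullback.fst (D.map j'.hom) g =
      pullback.fst (D.map j.hom) g ≫ D.map m.left := by
  simp [pullback.map]

end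

/-- **Smooth stratification near a prime with a field as local ring** (affine base). -/
theorem exists_hasStrat_affine {A : Type u} [CommRing A] (𝔭 : Ideal A) [𝔭.IsPrime] (K : Type u)
    [Field K] [Algebra A K] [hK : IsLocalization.AtPrime K 𝔭] {X : Scheme.{u}}
    (f : X ⟶ Spec (CommRingCat.of A)) [LocallyOfFinitePresentation f] [QuasiCompact f]
    [QuasiSeparated f] :
    ∃ (g : A) (_ : g ∉ 𝔭) (V : Scheme.{u})
      (v : V ⟶ Spec (CommRingCat.of (Localization.Away g))),
      IsFinite v ∧ Flat v ∧ LocallyOfFinitePresentation v ∧ Surjective v ∧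
        UniversallyInjective v ∧ ∃ n, HasStrat n
          (pullback.snd f (v ≫ Spec.map (CommRingCat.ofHom (algebraMap A (Localization.Away g))))) := by
  let M := 𝔭.primeCompl
  let D := specDiagram M
  let c := specCone M K
  have hc : IsLimit c := isLimitSpecCone M K
  let κ : Spec (CommRingCat.of K) ⟶ Spec (CommRingCat.of A) :=
    Spec.map (CommRingCat.ofHom (algebraMap A K))
  let p := pullback.snd f κ
  obtain ⟨K', _, _, _, _, n, hK'⟩ := hasStrat_field K p
  let ψ : Spec (CommRingCat.of K') ⟶ Spec (CommRingCat.of K) :=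
    Spec.map (CommRingCat.ofHom (algebraMap K K'))
  obtain ⟨i₂, Nψ, hfin, hflat, hsurj, hui⟩ := exists_spread_purelyInseparable 𝔭 K K'
  let v₀ := Nψ.f₀
  -- the base-changed system
  let D' := bcDiagram D i₂ v₀
  let c' := bcCone D c i₂ v₀
  have hc' : IsLimit c' := isLimitBcCone D c i₂ v₀ hc
  haveI : ∀ (j j' : Over i₂) (m : j ⟶ j'), IsAffineHom (D'.map m) := fun j j' m => inferInstance
  haveI : CompactSpace Nψ.X₀ := Nψ.compactSpace_X₀
  haveI : QuasiSeparatedSpace Nψ.X₀ := Nψ.quasiSeparatedSpace_X₀
  haveI : ∀ j : Over i₂, CompactSpace ↥(D'.obj j) := fun j =>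
    QuasiCompact.compactSpace_of_compactSpace (pullback.snd (D.map j.hom) v₀)
  haveI : ∀ j : Over i₂, QuasiSeparatedSpace ↥(D'.obj j) := fun j =>
    quasiSeparatedSpace_of_quasiSeparated (pullback.snd (D.map j.hom) v₀)
  let j₀ : Over i₂ := Over.mk (𝟙 i₂)
  let t : D'.obj j₀ ⟶ Spec (CommRingCat.of A) := pullback.fst (D.map (𝟙 i₂)) v₀ ≫ toBase M i₂
  let M'' : FPModel D' c' (pullback.snd f (c'.π.app j₀ ≫ t)) j₀ := FPModel.ofPullback j₀ t f
  -- the identification of the limit with `Spec K'`
  let e : Spec (CommRingCat.of K') ≅ c'.pt := Nψ.pb.flip.isoPullback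
  let ρ : c'.pt ⟶ Spec (CommRingCat.of K) := pullback.fst (c.π.app i₂) v₀
  have heρ : e.hom ≫ ρ = ψ := Nψ.pb.flip.isoPullback_hom_fst
  have heρ' : e.inv ≫ ψ = ρ := by rw [← heρ, Iso.inv_hom_id_assoc]
  have hρ : c'.π.app j₀ ≫ t = ρ ≫ κ := by
    have h1 := bcCone_π_fst D c i₂ v₀ j₀
    show c'.π.app j₀ ≫ pullback.fst (D.map j₀.hom) v₀ ≫ toBase M i₂ = _
    rw [← Category.assoc, h1, Category.assoc]
    show pullback.fst (c.π.app i₂) v₀ ≫ c.π.app i₂ ≫ toBase M i₂ = _
    rw [specCone_π_toBase]
  let snd'' := pullback.snd f (c'.π.app j₀ ≫ t)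
  -- `X''` is the base change of `p` along `ρ`
  let a₁ : pullback f (c'.π.app j₀ ≫ t) ⟶ pullback f κ :=
    pullback.lift (pullback.fst f (c'.π.app j₀ ≫ t)) (snd'' ≫ ρ)
      (by
        rw [pullback.condition, Category.assoc]
        exact congrArg (pullback.snd f (c'.π.app j₀ ≫ t) ≫ ·) hρ)
  have S1 : IsPullback a₁ snd'' p ρ := by
    refine IsPullback.of_right ?_ (pullback.lift_snd _ _ _) (IsPullback.of_hasPullback f κ)
    rw [pullback.lift_fst, ← hρ]
    exact IsPullback.of_hasPullback f (c'.π.app j₀ ≫ t)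
  let a : pullback f (c'.π.app j₀ ≫ t) ⟶ pullback p ψ :=
    pullback.lift a₁ (snd'' ≫ e.inv) (by rw [S1.w, Category.assoc, heρ'])
  have S3 : IsPullback a snd'' (pullback.snd p ψ) e.inv := by
    refine IsPullback.of_right ?_ (pullback.lift_snd _ _ _) (IsPullback.of_hasPullback p ψ)
    rw [pullback.lift_fst, heρ']
    exact S1
  have hlim : HasStrat n snd'' := HasStrat.of_isPullback S3 hK'
  -- descent
  obtain ⟨j, b, P, q, r, hpb, hP⟩ := HasStrat.exists_stage hc' M'' hlim
  -- the output
  let v : D'.obj j ⟶ D.obj j.left := pullback.fst (D.map j.hom) v₀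
  have hg : j.left.unop.val ∉ 𝔭 := j.left.unop.mem
  refine ⟨j.left.unop.val, hg, D'.obj j, v,
    MorphismProperty.pullback_fst (P := @IsFinite) _ _ hfin,
    MorphismProperty.pullback_fst (P := @Flat) _ _ hflat,
    MorphismProperty.pullback_fst (P := @LocallyOfFinitePresentation) _ _ Nψ.lfp,
    MorphismProperty.pullback_fst (P := @Surjective) _ _ hsurj,
    MorphismProperty.pullback_fst (P := @UniversallyInjective) _ _ hui, n, ?_⟩
  have hbt : D'.map b ≫ t = v ≫ toBase M j.left := by
    have h1 := bcDiagram_map_fst D i₂ v₀ b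
    show D'.map b ≫ pullback.fst (D.map j₀.hom) v₀ ≫ toBase M i₂ = _
    rw [← Category.assoc, h1, Category.assoc]
    have h2 : D.map b.left ≫ toBase M i₂ = toBase M j.left := specDiagram_map_toBase M b.left
    show pullback.fst (D.map j.hom) v₀ ≫ D.map b.left ≫ toBase M i₂ = _
    rw [h2]
  have h₁ : IsPullback (r ≫ pullback.fst f t) q f (v ≫ toBase M j.left) := by
    rw [← hbt]
    exact hpb.paste_horiz (IsPullback.of_hasPullback f t)
  exact HasStrat.of_isPullback_of_isPullback h₁
    (IsPullback.of_hasPullback f (v ≫ toBase M j.left)) hP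

end Groth.Agent.Lib.helper9.SmStrat
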