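/-
Helper library (helper9): smooth stratification near a maximal point (generic point of an
irreducible component) of a reduced scheme, after a finite locally free, surjective, universally
injective base change (`S1456`).
-/
import Groth.Agent.Lib.Helper9.SmStrat6
import Groth.Agent.Lib.Helper14.HomFlat2

set_option autoImplicit false
set_option linter.style.haveILetI false
set_option backward.isDefEq.respectTransparency false

namespace Groth.Agent.Lib.helper9.SmStrat

open AlgebraicGeometry CategoryTheory Limits TopologicalSpace Topology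
open Groth.Agent.Lib.helper9

universe u

/-- The generic point of an irreducible component has no proper generizations. -/
theorem eq_of_specializes_of_isGenericPoint {T : Type*} [TopologicalSpace T] [T0Space T]
    {η : T} {W : Set T} (hW : W ∈ irreducibleComponents T) (hη : IsGenericPoint η W) (ω : T)
    (h : ω ⤳ η) : ω = η := by
  have hcl : closure ({η} : Set T) = W := hη.def
  have h1 : W ≤ closure ({ω} : Set T) := by
    rw [← hcl]
    exact closure_minimal (Set.singleton_subset_iff.mpr h.mem_closure) isClosed_closure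
  have h2 : closure ({ω} : Set T) ≤ W := hW.2 isIrreducible_singleton.closure h1
  have h3 : η ⤳ ω := by
    rw [specializes_iff_mem_closure, hcl]
    exact h2 (subset_closure rfl)
  exact (h.antisymm h3).eq

theorem HasStrat.of_isPullback_of_isPullback' {n : ℕ} {P T P₁ P₂ T' : Scheme.{u}} {q : P ⟶ T}
    {q₁ : P₁ ⟶ T'} {q₂ : P₂ ⟶ T'} {r₁ : P₁ ⟶ P} {r₂ : P₂ ⟶ P} {b b' : T' ⟶ T}
    (h₁ : IsPullback r₁ q₁ q b) (h₂ : IsPullback r₂ q₂ q b') (hb : b = b') (h : HasStrat n q₁) :
    HasStrat n q₂ := by
  subst hb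
  exact HasStrat.of_isPullback_of_isPullback h₁ h₂ h

/-- **Smooth stratification near a maximal point of a reduced scheme.** -/
theorem exists_hasStrat_near_maximal_point {X S : Scheme.{u}} (f : X ⟶ S)
    [LocallyOfFinitePresentation f] [QuasiCompact f] [QuasiSeparated f] [IsReduced S] (η : S)
    (hmax : ∀ y : S, y ⤳ η → y = η) :
    ∃ (U : S.Opens) (V : Scheme.{u}) (v : V ⟶ (U : Scheme.{u})), η ∈ U ∧ IsFinite v ∧ Flat v ∧
      LocallyOfFinitePresentation v ∧ Surjective v ∧ UniversallyInjective v ∧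
      ∃ n, HasStrat n (pullback.snd f (v ≫ U.ι)) := by
  obtain ⟨_, ⟨U₀, hU₀ : IsAffineOpen U₀, rfl⟩, hηU₀, -⟩ :=
    S.isBasis_affineOpens.exists_subset_of_mem_open (Set.mem_univ η) isOpen_univ
  let A := Γ(S, U₀)
  let x₀ := hU₀.primeIdealOf ⟨η, hηU₀⟩
  let 𝔭 : Ideal A := x₀.asIdeal
  have hfield : IsField (S.presheaf.stalk η) :=
    Groth.Agent.Lib.Helper14.HomFlat.isField_stalk_of_maximal η hmax
  letI : Field (S.presheaf.stalk η) := hfield.toField
  letI : Algebra A (S.presheaf.stalk η) :=
    TopCat.Presheaf.algebra_section_stalk S.presheaf ⟨η, hηU₀⟩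
  haveI : IsLocalization.AtPrime (S.presheaf.stalk η) 𝔭 := hU₀.isLocalization_stalk ⟨η, hηU₀⟩
  let f₀ : pullback f hU₀.fromSpec ⟶ Spec (CommRingCat.of A) := pullback.snd f hU₀.fromSpec
  haveI : LocallyOfFinitePresentation f₀ :=
    MorphismProperty.pullback_snd (P := @LocallyOfFinitePresentation) _ _ inferInstance
  haveI : QuasiCompact f₀ := MorphismProperty.pullback_snd (P := @QuasiCompact) _ _ inferInstance
  haveI : QuasiSeparated f₀ :=
    MorphismProperty.pullback_snd (P := @QuasiSeparated) _ _ inferInstance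
  obtain ⟨g, hg, V, v, h1, h2, h3, h4, h5, n, hn⟩ :=
    exists_hasStrat_affine 𝔭 (S.presheaf.stalk η) f₀
  let sm : Spec (CommRingCat.of (Localization.Away g)) ⟶ Spec (CommRingCat.of A) :=
    Spec.map (CommRingCat.ofHom (algebraMap A (Localization.Away g)))
  let ιg : Spec (CommRingCat.of (Localization.Away g)) ⟶ S := sm ≫ hU₀.fromSpec
  let U : S.Opens := ιg.opensRange
  let e := ιg.isoOpensRange
  have he : e.hom ≫ U.ι = ιg := ιg.isoOpensRange_hom_ι
  refine ⟨U, V, v ≫ e.hom, ?_, inferInstance, inferInstance, inferInstance, inferInstance,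
    MorphismProperty.comp_mem @UniversallyInjective _ _ h5 inferInstance, n, ?_⟩
  · -- `η` lies in `U`
    have hx₀ : x₀ ∈ Set.range ⇑sm := by
      have hr : Set.range ⇑sm = (PrimeSpectrum.basicOpen g : Set (PrimeSpectrum A)) :=
        PrimeSpectrum.localization_away_comap_range (Localization.Away g) g
      rw [hr]
      exact hg
    obtain ⟨y, hy⟩ := hx₀
    refine ⟨y, ?_⟩
    show (sm ≫ hU₀.fromSpec) y = η
    rw [Scheme.Hom.comp_apply, hy]
    exact hU₀.fromSpec_primeIdealOf ⟨η, hηU₀⟩
  · have hb : (v ≫ sm) ≫ hU₀.fromSpec = (v ≫ e.hom) ≫ U.ι := by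
      rw [Category.assoc, Category.assoc, he]
    have hp : IsPullback (pullback.fst f₀ (v ≫ sm) ≫ pullback.fst f hU₀.fromSpec)
        (pullback.snd f₀ (v ≫ sm)) f ((v ≫ sm) ≫ hU₀.fromSpec) :=
      (IsPullback.of_hasPullback f₀ (v ≫ sm)).paste_horiz (IsPullback.of_hasPullback f hU₀.fromSpec)
    exact HasStrat.of_isPullback_of_isPullback' hp
      (IsPullback.of_hasPullback f ((v ≫ e.hom) ≫ U.ι)) hb hn

end Groth.Agent.Lib.helper9.SmStrat
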