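import Mathlib
import Groth.Agent.Lib.Helper9.CurvePunctual
import Groth.Agent.Lib.Helper11.GenLocus
import Groth.Agent.Lib.Helper20.SplitH1
import Groth.Agent.Lib.Helper20.TensorEquiv
import Groth.Agent.Lib.Helper12.PullTensor

/-!
# Sections generating an invertible module at finitely many closed points (helper9)

* `mem_basicOpen_one_add_mul`: `z ∉ D(f)` ⇒ `z ∈ D(1 + a f)`.
* `fn_localEnd`: the local function of `φ : O ⟶ L` in a trivialisation `e` of `L` over `U` is
  `e (φ|_U)`.
* `exists_generating_section`: `s : O ⟶ L` a monomorphism into an invertible module which is an isomorphism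
  outside a finite set of closed points, such that `Γ(X, L) → Γ(X, coker s)` is surjective.  Then there is
  `t : O ⟶ L` with `isoLocus s ⊔ isoLocus t = ⊤` (i.e. `s` and `t` generate `L`).
-/

set_option autoImplicit false
set_option linter.style.haveILetI false
universe u
open CategoryTheory CategoryTheory.Limits AlgebraicGeometry Opposite TopologicalSpace
open Scheme.Modules

namespace Groth.Agent.Lib.helper9.CurveGen

open Groth.Agent.Lib.helper11.IsoLocus Groth.Agent.Lib.helper11.InvMod
open Groth.Agent.Lib.helper11.GenLocus Groth.Agent.Lib.helper9.CurvePunctual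
open Groth.Agent.Lib.Helper20.SplitH1 Groth.Agent.Lib.helper11.TwistH1

variable {X : Scheme.{u}}

/-- if `f` vanishes at `z` then `1 + a f` does not -/
theorem mem_basicOpen_one_add_mul {U : X.Opens} (f a : Γ(X, U)) {z : X} (hzU : z ∈ U)
    (hz : z ∉ X.basicOpen f) : z ∈ X.basicOpen (1 + a * f) := by
  have h1 : z ∈ X.basicOpen ((1 + a * f) + (-(a * f))) := by
    rw [add_neg_cancel_right, X.basicOpen_of_isUnit isUnit_one]
    exact hzU
  rcases X.basicOpen_add_le _ _ h1 with h2 | h2
  · exact h2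
  · exfalso
    apply hz
    have h3 : X.basicOpen (-(a * f)) = X.basicOpen (a * f) := by
      have : -(a * f) = (-1 : Γ(X, U)) * (a * f) := by ring
      rw [this, Scheme.basicOpen_mul, X.basicOpen_of_isUnit isUnit_one.neg]
      exact inf_eq_right.mpr (X.basicOpen_le _)
    rw [h3, Scheme.basicOpen_mul] at h2
    exact h2.2

/-- the local function of `φ : O ⟶ L` in a trivialisation `e` of `L` over `U` -/
theorem fn_localEnd {L : X.Modules} (φ : Coh.structureModule X ⟶ L) (U : X.Opens)
    (e : L.restrict U.ι ≅ Coh.structureModule (↑U : Scheme.{u})) :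
    fn (localEnd φ (restrictUnitIso U.ι) e) ⊤ =
      ((e.hom.app ⊤).hom (show Γ(L.restrict U.ι, ⊤) from sec φ (U.ι ''ᵁ ⊤))) := by
  have h5 : fn (localEnd φ (restrictUnitIso U.ι) e) ⊤ = ((e.hom.app ⊤).hom
        ((φ.app (U.ι ''ᵁ ⊤)).hom ((U.ι.appIso ⊤).inv (1 : Γ((↑U : Scheme.{u}), ⊤))))) := rfl
  rw [h5, map_one]
  rfl

/-- sections of `L|_U` under a trivialisation: compatibility with scalars from `X` -/
theorem triv_smul {L : X.Modules} (U : X.Opens)
    (e : L.restrict U.ι ≅ Coh.structureModule (↑U : Scheme.{u}))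
    (r : Γ(X, U.ι ''ᵁ ⊤)) (m : Γ(L, U.ι ''ᵁ ⊤)) :
    (e.hom.app ⊤).hom (show Γ(L.restrict U.ι, ⊤) from r • m) =
      ((U.ι.appIso ⊤).hom r : Γ((↑U : Scheme.{u}), ⊤)) •
        (e.hom.app ⊤).hom (show Γ(L.restrict U.ι, ⊤) from m) := by
  have hr : (U.ι.appIso ⊤).inv ((U.ι.appIso ⊤).hom r) = r := by
    rw [← CommRingCat.comp_apply, Iso.hom_inv_id]
    rfl
  have h1 : (r • m : Γ(L, U.ι ''ᵁ ⊤)) =
      (((U.ι.appIso ⊤).hom r : Γ((↑U : Scheme.{u}), ⊤)) • (show Γ(L.restrict U.ι, ⊤) from m)) := by
    change r • m = ((U.ι.appIso ⊤).inv ((U.ι.appIso ⊤).hom r)) • m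
    rw [hr]
  rw [h1]
  exact Scheme.Modules.Hom.app_smul e.hom _ _

/-- **A second generating section.**  Let `s : O ⟶ L` be a monomorphism into an invertible module which is an
isomorphism outside a finite set of closed points, and assume `Γ(X, L) → Γ(X, coker s)` is surjective.  Then
there is `t : O ⟶ L` generating `L` wherever `s` does not. -/
theorem exists_generating_section {L : X.Modules} (hL : PicF.IsInvertible L)
    (s : Coh.structureModule X ⟶ L) [Mono s]
    (hfin : (((isoLocus s : X.Opens) : Set X)ᶜ).Finite)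
    (hcl : ∀ x, x ∉ isoLocus s → IsClosed ({x} : Set X))
    (hsurj : Function.Surjective ((cokernel.π s).app ⊤).hom) :
    ∃ t : Coh.structureModule X ⟶ L, isoLocus s ⊔ isoLocus t = ⊤ := by
  classical
  set W : X.Opens := isoLocus s with hWdef
  have hchoice : ∀ z : {z : X // z ∉ W}, ∃ U : X.Opens, z.1 ∈ U ∧ IsTrivOn L U := fun z => hL z.1
  choose U hzU hUtriv using hchoice
  have hTopen : ∀ z : {z : X // z ∉ W}, IsOpen (((W : Set X)ᶜ \ {z.1})ᶜ) := by
    intro z
    rw [isOpen_compl_iff]
    have h1 : ((W : Set X)ᶜ \ {z.1}).Finite := hfin.subset Set.sdiff_subset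
    have h2 := h1.isClosed_biUnion (f := fun x => ({x} : Set X)) (fun x hx => hcl x hx.1)
    rwa [Set.biUnion_of_singleton] at h2
  let T : {z : X // z ∉ W} → X.Opens := fun z => ⟨_, hTopen z⟩
  let V : {z : X // z ∉ W} → X.Opens := fun z => U z ⊓ T z
  have hzV : ∀ z, z.1 ∈ V z := fun z => ⟨hzU z, fun h => h.2 rfl⟩
  have hVtriv : ∀ z, IsTrivOn L (V z) := fun z => IsTrivOn.of_le inf_le_left (hUtriv z)
  have hVW : ∀ z (x : X), x ∈ V z → x ∈ W ∨ x = z.1 := by
    intro z x hx
    by_contra hcon
    push Not at hcon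
    exact hx.2 ⟨hcon.1, hcon.2⟩
  let e : ∀ z, L.restrict (V z).ι ≅ Coh.structureModule (↑(V z) : Scheme.{u}) :=
    fun z => (hVtriv z).some
  let O : {z : X // z ∉ W} → X.Opens := fun z => (V z).ι ''ᵁ ⊤
  have hO : ∀ z, O z = V z := fun z => Scheme.Opens.ι_image_top (V z)
  have hcov : (⊤ : X.Opens) ≤ W ⊔ ⨆ z, O z := by
    intro x _
    rw [Opens.mem_sup]
    by_cases hx : x ∈ W
    · exact Or.inl hx
    · refine Or.inr (Opens.mem_iSup.mpr ⟨⟨x, hx⟩, ?_⟩)
      rw [hO]
      exact hzV ⟨x, hx⟩
  have hpair : ∀ z z', z ≠ z' → O z ⊓ O z' ≤ W := by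
    intro z z' hzz' x hx
    rw [hO, hO] at hx
    rcases hVW z x hx.1 with h | h
    · exact h
    · rcases hVW z' x hx.2 with h' | h'
      · exact h'
      · exact absurd (Subtype.ext (h.symm.trans h')) hzz'
  have hM : ∀ P : X.Opens, P ≤ W → Subsingleton Γ(cokernel s, P) := fun P hP =>
    ⟨fun a b => (eq_zero_of_le_isoLocus s hP a).trans (eq_zero_of_le_isoLocus s hP b).symm⟩
  -- the local generators
  let g : ∀ z, Γ(L, O z) := fun z =>
    ((e z).inv.app ⊤).hom (1 : Γ((↑(V z) : Scheme.{u}), ⊤))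
  let π := cokernel.π s
  obtain ⟨q, hq⟩ := (bijective_toPi (cokernel s) W hM O hcov hpair).2
    (fun z => (π.app (O z)).hom (g z))
  have hq' : ∀ z, res (cokernel s) (le_top : O z ≤ ⊤) q = (π.app (O z)).hom (g z) :=
    fun z => congrFun hq z
  obtain ⟨x, hx⟩ := hsurj q
  let t : Coh.structureModule X ⟶ L := homOfGlobal L x
  have hsec : ∀ P : X.Opens, sec t P = res L (le_top : P ≤ ⊤) x := fun P =>
    homOfGlobal_app_one L x (op P)
  refine ⟨t, ?_⟩
  rw [eq_top_iff]
  intro z _
  rw [Opens.mem_sup]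
  by_cases hz : z ∈ W
  · exact Or.inl hz
  · right
    let z' : {z : X // z ∉ W} := ⟨z, hz⟩
    have hnat : (π.app (O z')).hom (res L (le_top : O z' ≤ ⊤) x) =
        res (cokernel s) (le_top : O z' ≤ ⊤) ((π.app ⊤).hom x) :=
      PresheafOfModules.naturality_apply π.val (homOfLE (le_top : O z' ≤ ⊤)).op x
    have hdiff : (π.app (O z')).hom (res L (le_top : O z' ≤ ⊤) x - g z') = 0 := by
      rw [map_sub, hnat, hx, hq' z']
      exact sub_self _
    obtain ⟨a, ha⟩ := exists_preimage_of_cokernel_π_eq_zero s (O z') _ hdiff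
    have ha' : res L (le_top : O z' ≤ ⊤) x = g z' + (show Γ(X, O z') from a) • sec s (O z') := by
      rw [← app_apply s (O z') (show Γ(X, O z') from a)]
      have : (s.app (O z')).hom a = res L (le_top : O z' ≤ ⊤) x - g z' := ha
      rw [show (s.app (O z')).hom ((show Γ(X, O z') from a) : Γ(Coh.structureModule X, O z')) =
        (s.app (O z')).hom a from rfl, this]
      abel
    -- transport to functions on `V z'`
    let E := ((e z').hom.app ⊤).hom
    have hEg : E (show Γ(L.restrict (V z').ι, ⊤) from g z') = (1 : Γ((↑(V z') : Scheme.{u}), ⊤)) :=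
      congrArg (fun ψ : Coh.structureModule (↑(V z') : Scheme.{u}) ⟶ Coh.structureModule (↑(V z') : Scheme.{u}) =>
        (Scheme.Modules.Hom.app ψ ⊤).hom (1 : Γ((↑(V z') : Scheme.{u}), ⊤))) (e z').inv_hom_id
    let σs : Γ((↑(V z') : Scheme.{u}), ⊤) := fn (localEnd s (restrictUnitIso (V z').ι) (e z')) ⊤
    let σt : Γ((↑(V z') : Scheme.{u}), ⊤) := fn (localEnd t (restrictUnitIso (V z').ι) (e z')) ⊤
    let a' : Γ((↑(V z') : Scheme.{u}), ⊤) := ((V z').ι.appIso ⊤).hom (show Γ(X, O z') from a)
    have hσ : σt = 1 + a' * σs := by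
      change fn (localEnd t (restrictUnitIso (V z').ι) (e z')) ⊤ =
        1 + a' * fn (localEnd s (restrictUnitIso (V z').ι) (e z')) ⊤
      rw [fn_localEnd, fn_localEnd, hsec, ha']
      refine (map_add E _ _).trans ?_
      rw [hEg]
      congr 1
      exact triv_smul (V z') (e z') (show Γ(X, O z') from a) (sec s (O z'))
    have h1 := isoLocus_inf_eq_basicOpen_localFn s (restrictUnitIso (V z').ι) (e z')
    have h2 := isoLocus_inf_eq_basicOpen_localFn t (restrictUnitIso (V z').ι) (e z')
    have hzs : z ∉ X.basicOpen (localFn s (restrictUnitIso (V z').ι) (e z')) := by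
      rw [← h1]
      exact fun h => hz h.1
    have hlt : localFn t (restrictUnitIso (V z').ι) (e z') =
        1 + (V z').topIso.hom a' * localFn s (restrictUnitIso (V z').ι) (e z') := by
      change (V z').topIso.hom σt = 1 + (V z').topIso.hom a' * (V z').topIso.hom σs
      rw [hσ, map_add, map_one, map_mul]
    have hzt : z ∈ X.basicOpen (localFn t (restrictUnitIso (V z').ι) (e z')) := by
      rw [hlt]
      exact mem_basicOpen_one_add_mul _ _ (hzV z') hzs
    rw [← h2] at hzt
    exact hzt.1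

section Abstract

variable {C D : Type*} [Category C] [Category D] [HasZeroMorphisms C] [HasZeroMorphisms D]
  (G : C ⥤ D) [G.PreservesZeroMorphisms]

/-- a functor preserving cokernels sends `cokernel.map` with vertical maps inverted by the functor to an
isomorphism -/
theorem isIso_map_cokernel_map {A B A' B' : C} (f : A ⟶ B) (g : A' ⟶ B') [HasCokernel f] [HasCokernel g]
    [PreservesColimit (parallelPair f 0) G] [PreservesColimit (parallelPair g 0) G]
    (p : A ⟶ A') (q : B ⟶ B') (hpq : f ≫ q = p ≫ g) [IsIso (G.map p)] [IsIso (G.map q)] :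
    IsIso (G.map (cokernel.map f g p q hpq)) := by
  have h := preserves_cokernel_iso_comp_cokernel_map G f g p q hpq
  have hw : G.map f ≫ (asIso (G.map q)).hom = (asIso (G.map p)).hom ≫ G.map g := by
    simp only [asIso_hom]
    rw [← G.map_comp, hpq, G.map_comp]
  have h2 : IsIso (cokernel.map (G.map f) (G.map g) (G.map p) (G.map q)
      (by rw [← G.map_comp, hpq, G.map_comp])) :=
    (cokernel.mapIso (G.map f) (G.map g) (asIso (G.map p)) (asIso (G.map q)) hw).isIso_hom
  have h3 : G.map (cokernel.map f g p q hpq) = (PreservesCokernel.iso G f).hom ≫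
      cokernel.map (G.map f) (G.map g) (G.map p) (G.map q)
        (by rw [← G.map_comp, hpq, G.map_comp]) ≫ (PreservesCokernel.iso G g).inv := by
    rw [← Category.assoc, h, Category.assoc, Iso.hom_inv_id, Category.comp_id]
  rw [h3]
  infer_instance

/-- a functor preserving cokernels sends the cokernel of a morphism it inverts to a zero object -/
theorem isZero_map_cokernel {A B : C} (f : A ⟶ B) [HasCokernel f]
    [PreservesColimit (parallelPair f 0) G] [IsIso (G.map f)] : IsZero (G.obj (cokernel f)) :=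
  IsZero.of_iso (isZero_cokernel_of_epi (G.map f)) (PreservesCokernel.iso G f)

end Abstract

section Mul

open Groth.Agent.Lib.Lead.ModTensor Groth.Agent.Lib.Helper20.TensorEquiv
open Groth.Agent.Lib.helper12.PullTensor

variable {L : X.Modules}

/-- multiplication by a section `t` of `L`: `M ≅ M ⊗ O ⟶ M ⊗ L` -/
noncomputable def mulRight (M : X.Modules) (t : Coh.structureModule X ⟶ L) :
    M ⟶ CohB1.tensorMod M L :=
  (rightUnitor M).inv ≫ tensorMap (𝟙 M) t

theorem mulRight_comm {M N : X.Modules} (f : M ⟶ N) (t : Coh.structureModule X ⟶ L) :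
    f ≫ mulRight N t = mulRight M t ≫ tensorMap f (𝟙 L) := by
  unfold mulRight
  have h1 : f ≫ (rightUnitor N).inv = (rightUnitor M).inv ≫ tensorMap f (𝟙 (Coh.structureModule X)) := by
    rw [Iso.comp_inv_eq, Category.assoc, rightUnitor_naturality, Iso.inv_hom_id_assoc]
  rw [← Category.assoc, h1, Category.assoc, Category.assoc, tensorMap_exchange]

theorem isoLocus_le_mulRight (M : X.Modules) (t : Coh.structureModule X ⟶ L) :
    isoLocus t ≤ isoLocus (mulRight M t) := by
  unfold mulRight
  rw [isoLocus_comp_of_isIso_left]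
  refine le_trans ?_ (isoLocus_inf_le_tensorMap (𝟙 M) t)
  rw [(isoLocus_eq_top_iff (𝟙 M)).mpr inferInstance]
  exact le_inf le_top le_rfl

/-- the map `coker s ⟶ coker (s ⊗ L)` induced by multiplication by `t` -/
noncomputable def cokerMul (s t : Coh.structureModule X ⟶ L) :
    cokernel s ⟶ cokernel (tensorMap s (𝟙 L)) :=
  cokernel.map s (tensorMap s (𝟙 L)) (mulRight _ t) (mulRight L t) (mulRight_comm s t)

theorem π_cokerMul (s t : Coh.structureModule X ⟶ L) :
    cokernel.π s ≫ cokerMul s t = mulRight L t ≫ cokernel.π (tensorMap s (𝟙 L)) :=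
  cokernel.π_desc _ _ _

/-- if `s` and `t` generate `L`, multiplication by `t` identifies `coker s` with `coker (s ⊗ L)` -/
theorem isIso_cokerMul (s t : Coh.structureModule X ⟶ L)
    (h : isoLocus s ⊔ isoLocus t = ⊤) : IsIso (cokerMul s t) := by
  rw [← isoLocus_eq_top_iff, eq_top_iff]
  intro x _
  have hx : x ∈ isoLocus s ⊔ isoLocus t := by rw [h]; trivial
  rw [Opens.mem_sup] at hx
  rw [mem_isoLocus_iff]
  rcases hx with hx | hx
  · refine ⟨isoLocus s, hx, ?_⟩
    set G := restrictFunctor (isoLocus s).ι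
    haveI : PreservesColimitsOfSize.{0, 0} G :=
      (restrictAdjunction (isoLocus s).ι).leftAdjoint_preservesColimits
    haveI h1 : IsIso (G.map s) := isIso_restrict_isoLocus s
    haveI h2 : IsIso (G.map (tensorMap s (𝟙 L))) := by
      have hle : isoLocus s ≤ isoLocus (tensorMap s (𝟙 L)) := by
        refine le_trans ?_ (isoLocus_inf_le_tensorMap s (𝟙 L))
        rw [(isoLocus_eq_top_iff (𝟙 L)).mpr inferInstance]
        exact le_inf le_rfl le_top
      exact (le_isoLocus_iff _ _).mp hle
    have z1 : IsZero (G.obj (cokernel s)) := isZero_map_cokernel G s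
    have z2 : IsZero (G.obj (cokernel (tensorMap s (𝟙 L)))) := isZero_map_cokernel G _
    exact ⟨⟨0, z1.eq_of_src _ _, z2.eq_of_src _ _⟩⟩
  · refine ⟨isoLocus t, hx, ?_⟩
    set G := restrictFunctor (isoLocus t).ι
    haveI : PreservesColimitsOfSize.{0, 0} G :=
      (restrictAdjunction (isoLocus t).ι).leftAdjoint_preservesColimits
    haveI h1 : IsIso (G.map (mulRight (Coh.structureModule X) t)) :=
      (le_isoLocus_iff _ _).mp (isoLocus_le_mulRight _ t)
    haveI h2 : IsIso (G.map (mulRight L t)) :=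
      (le_isoLocus_iff _ _).mp (isoLocus_le_mulRight _ t)
    exact isIso_map_cokernel_map G s (tensorMap s (𝟙 L)) _ _ (mulRight_comm s t)

/-- surjectivity of `Γ(L) → Γ(coker s)` propagates to `Γ(L ⊗ L) → Γ(coker (s ⊗ L))` when `s, t` generate -/
theorem surjective_π_tensor (s t : Coh.structureModule X ⟶ L)
    (h : isoLocus s ⊔ isoLocus t = ⊤)
    (hsurj : Function.Surjective ((cokernel.π s).app ⊤).hom) :
    Function.Surjective ((cokernel.π (tensorMap s (𝟙 L))).app ⊤).hom := by
  haveI := isIso_cokerMul s t h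
  intro q₁
  obtain ⟨x, hx⟩ := hsurj (((inv (cokerMul s t)).app ⊤).hom q₁)
  refine ⟨((mulRight L t).app ⊤).hom x, ?_⟩
  have h1 : ((mulRight L t ≫ cokernel.π (tensorMap s (𝟙 L))).app ⊤).hom x =
      ((cokernel.π s ≫ cokerMul s t).app ⊤).hom x := by rw [π_cokerMul]
  refine h1.trans ?_
  change ((cokerMul s t).app ⊤).hom (((cokernel.π s).app ⊤).hom x) = q₁
  rw [hx]
  change ((inv (cokerMul s t) ≫ cokerMul s t).app ⊤).hom q₁ = q₁
  rw [IsIso.inv_hom_id]
  rfl

end Mul

end Groth.Agent.Lib.helper9.CurveGen
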