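import Mathlib
import Groth.Agent.Lib.Helper9.CurveGen
import Groth.Agent.Lib.Helper9.CurveTwist

/-!
# Linear series of maximal dimension force genus zero (helper9)

Let `X` be an integral proper curve over a field `k` with `h⁰(O) = 1`.
* `finite_compl_isoLocus`: a nonzero map of invertible modules is an isomorphism outside finitely many closed points.
* `surjective_sections_π_of_finrank_eq`: if `h⁰(L) = deg L + 1` then `Γ(L) → Γ(coker s)` is onto for every nonzero
  section `s`.
* `finrank_H0_eq_add_of_surjective`: `h⁰(B) = h⁰(A) + h⁰(C)` for `0 → A → B → C → 0` with `H⁰(B) → H⁰(C)` onto.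
* `tensor_self_numerics`: if `deg L > 0` and `h⁰(L) = deg L + 1`, then `deg (L ⊗ L) = 2 deg L` and
  `h⁰(L ⊗ L) = deg (L ⊗ L) + 1`.
* `genus_eq_zero_of_finrank_H0_eq`: if `deg L > 0` and `h⁰(L) = deg L + 1` then `g = 0` (no duality, any field).
-/

set_option autoImplicit false
set_option linter.style.haveILetI false
universe u
open CategoryTheory CategoryTheory.Limits AlgebraicGeometry Opposite TopologicalSpace Module
open Scheme.Modules

namespace Groth.Agent.Lib.helper9.CurveLinSer

open Groth.Agent.Lib.Helper18 Groth.Agent.Lib.helper11.IsoLocus Groth.Agent.Lib.helper11.InvMod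
open Groth.Agent.Lib.Lead.ModTensor Groth.Agent.Lib.helper9.CurvePunctual
open Groth.Agent.Lib.helper9.CurveVanish Groth.Agent.Lib.helper9.CurveTwist
open Groth.Agent.Lib.helper9.CurveGen Groth.Agent.Lib.Lead.CurveInv Groth.Agent.Lib.Lead.CurveEuler
open Groth.Agent.Lib.Lead.CurveSec

section general

variable (k : Type u) [Field k] {X : Scheme.{u}} [X.Over (Spec (CommRingCat.of k))]

/-- `h⁰(B) = h⁰(A) + h⁰(C)` for a short exact sequence `0 → A → B → C → 0` with `H⁰(B) → H⁰(C)` onto -/
theorem finrank_H0_eq_add_of_surjective {S : ShortComplex X.Modules} (hS : S.ShortExact)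
    (hfin : Module.Finite k (Coh.HH X S.X₂ 0))
    (hsurj : Function.Surjective (HH.map S.g 0)) :
    finrank k (Coh.HH X S.X₂ 0) = finrank k (Coh.HH X S.X₁ 0) + finrank k (Coh.HH X S.X₃ 0) := by
  have h := LinearMap.finrank_range_add_finrank_ker (HH.mapOver k S.g 0)
  have h1 : LinearMap.range (HH.mapOver k S.g 0) = ⊤ := LinearMap.range_eq_top.mpr hsurj
  have h2 : LinearMap.ker (HH.mapOver k S.g 0) = LinearMap.range (HH.mapOver k S.f 0) :=
    LinearMap.exact_iff.mp (HH.exactOver₂ hS k 0)
  have h3 : finrank k (LinearMap.range (HH.mapOver k S.f 0)) = finrank k (Coh.HH X S.X₁ 0) :=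
    LinearMap.finrank_range_of_inj (HH.injective_mapOver_f_zero hS k)
  rw [h1, finrank_top, h2, h3] at h
  omega

/-- surjectivity on `H⁰` from surjectivity on global sections -/
theorem surjective_H0_of_sections {M N : X.Modules} (f : M ⟶ N)
    (h : Function.Surjective (f.app ⊤).hom) : Function.Surjective (HH.map f 0) := by
  intro y
  obtain ⟨x, hx⟩ := h (HH.equiv₀ N y)
  refine ⟨(HH.equiv₀ M).symm x, ?_⟩
  rw [HH.equiv₀_symm_naturality]
  apply (HH.equiv₀ N).injective
  rw [LinearEquiv.apply_symm_apply]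
  exact hx

/-- surjectivity on global sections from surjectivity on `H⁰` -/
theorem surjective_sections_of_H0 {M N : X.Modules} (f : M ⟶ N)
    (h : Function.Surjective (HH.map f 0)) : Function.Surjective (f.app ⊤).hom := by
  intro q
  obtain ⟨x, hx⟩ := h ((HH.equiv₀ N).symm q)
  refine ⟨HH.equiv₀ M x, ?_⟩
  have h1 := HH.equiv₀_naturality f x
  rw [hx, LinearEquiv.apply_symm_apply] at h1
  exact h1.symm

end general

section curve

variable (k : Type u) [Field k] (X : Scheme.{u}) [X.Over (Spec (CommRingCat.of k))]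
  [IsProper (X ↘ Spec (CommRingCat.of k))] [IsIntegral X]

include k in
/-- a nonzero map of invertible modules is an isomorphism outside a finite set of closed points -/
theorem finite_compl_isoLocus (hdim : topologicalKrullDim X ≤ 1) {N L : X.Modules}
    (hN : PicF.IsInvertible N) (hL : PicF.IsInvertible L) (φ : N ⟶ L) (hφ : φ ≠ 0) :
    (((isoLocus φ : X.Opens) : Set X)ᶜ).Finite ∧ ∀ x, x ∉ isoLocus φ → IsClosed ({x} : Set X) := by
  haveI := Groth.Agent.Lib.Lead.CurveEuler.isNoetherian k X
  have hcl : ∀ x, x ∉ isoLocus φ → IsClosed ({x} : Set X) := fun x hx =>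
    isClosed_singleton_of_not_mem hdim _ (isoLocus_nonempty X hN hL φ hφ) x hx
  exact ⟨finite_of_forall_isClosed_singleton _ (isoLocus φ).2.isClosed_compl (fun x hx => hcl x hx), hcl⟩

/-- if `h⁰(L) = deg L + 1`, every nonzero section `s` has `Γ(L) → Γ(coker s)` onto -/
theorem surjective_sections_π_of_finrank_eq (hdim : topologicalKrullDim X ≤ 1)
    (h0 : finrank k (Coh.HH X (Coh.structureModule X) 0) = 1)
    {L : X.Modules} (hL : PicF.IsInvertible L) (s : Coh.structureModule X ⟶ L) (hs : s ≠ 0)
    (heq : (finrank k (Coh.HH X L 0) : ℤ) = Curv2.deg k X L 1 + 1) :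
    Function.Surjective ((cokernel.π s).app ⊤).hom := by
  have hO := isInvertible_structureModule X
  have hS := shortExact_cokernel X hO hL s hs
  have hLc := isCoh_of_isInvertible X hL
  have hOc := isCoh_of_isInvertible X hO
  have hrr := riemann_roch' k X hdim h0 L hLc.1 1
  have h1 : finrank k (Coh.HH X L 1) = finrank k (Coh.HH X (Coh.structureModule X) 1) := by
    have h2 : (finrank k (Coh.HH X L 1) : ℤ) = (Curv2.genus k X : ℤ) := by
      push_cast at hrr
      linarith
    unfold Curv2.genus at h2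
    exact_mod_cast h2
  haveI : Module.Finite k (Coh.HH X (Coh.structureModule X) 1) :=
    Groth.Agent.Lib.Lead.ProperEuler.finite_HH k X _ hOc 1
  haveI : Module.Finite k (Coh.HH X L 1) := Groth.Agent.Lib.Lead.ProperEuler.finite_HH k X _ hLc 1
  have hsur : Function.Surjective (HH.mapOver k s 1) := surjective_H1_of_section k X hdim hL s hs
  have hinj : Function.Injective (HH.mapOver k s 1) :=
    (LinearMap.injective_iff_surjective_of_finrank_eq_finrank h1.symm).mpr hsur
  apply surjective_sections_of_H0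
  intro y
  have hδ : HH.δ hS 0 y = 0 := by
    apply hinj
    rw [map_zero]
    exact (HH.exact₁ hS 0 _).2 ⟨y, rfl⟩
  exact (HH.exact₃ hS 0 y).1 hδ

/-- **Doubling**: if `deg L > 0` and `h⁰(L) = deg L + 1`, the same holds for `L ⊗ L`, of degree `2 deg L` -/
theorem tensor_self_numerics (hdim : topologicalKrullDim X ≤ 1)
    (h0 : finrank k (Coh.HH X (Coh.structureModule X) 0) = 1)
    {L : X.Modules} (hL : PicF.IsInvertible L) (hd : 0 < Curv2.deg k X L 1)
    (heq : (finrank k (Coh.HH X L 0) : ℤ) = Curv2.deg k X L 1 + 1) :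
    Curv2.deg k X (CohB1.tensorMod L L) 1 = 2 * Curv2.deg k X L 1 ∧
      (finrank k (Coh.HH X (CohB1.tensorMod L L) 0) : ℤ) = Curv2.deg k X (CohB1.tensorMod L L) 1 + 1 := by
  have hO := isInvertible_structureModule X
  have hpos : 0 < finrank k (Coh.HH X L 0) := by
    have : (0 : ℤ) < (finrank k (Coh.HH X L 0) : ℤ) := by rw [heq]; linarith
    exact_mod_cast this
  obtain ⟨s, hs⟩ := exists_hom_ne_zero_of_finrank_pos k X L hpos
  haveI : Mono s := mono_of_ne_zero hO hL s hs
  have hsurj := surjective_sections_π_of_finrank_eq k X hdim h0 hL s hs heq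
  obtain ⟨hfin, hcl⟩ := finite_compl_isoLocus k X hdim hO hL s hs
  obtain ⟨t, ht⟩ := exists_generating_section hL s hfin hcl hsurj
  haveI hc := isIso_cokerMul s t ht
  have hsurj₁ := surjective_π_tensor s t ht hsurj
  set s₁ := tensorMap s (𝟙 L) with hs₁def
  haveI : Mono s₁ := Groth.Agent.Lib.helper11.TwistH1.mono_tensorMap_left s hL
  have hs₁ : s₁ ≠ 0 := fun h => hs
    ((IsZero.of_iso (IsZero.of_mono_eq_zero s₁ h) (leftUnitor L).symm).eq_of_tgt s 0)
  have hOL : PicF.IsInvertible (CohB1.tensorMod (Coh.structureModule X) L) :=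
    Groth.Agent.Lib.helper12.TensorInv.isInvertible_tensorMod hO hL
  have hLL : PicF.IsInvertible (CohB1.tensorMod L L) :=
    Groth.Agent.Lib.helper12.TensorInv.isInvertible_tensorMod hL hL
  have hS₁ := shortExact_cokernel X hOL hLL s₁ hs₁
  have hd1 := deg_sub_deg k X hdim hOL hLL s₁ hs₁
  have hd0 := deg_sub_deg k X hdim hO hL s hs
  have hQ : finrank k (Coh.HH X (cokernel s) 0) = finrank k (Coh.HH X (cokernel s₁) 0) :=
    finrank_HH_eq_of_iso k (asIso (cokerMul s t)) 0
  have hOLdeg : Curv2.deg k X (CohB1.tensorMod (Coh.structureModule X) L) 1 = Curv2.deg k X L 1 :=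
    deg_eq_of_iso k X (leftUnitor L) 1
  have hOdeg := deg_structureModule k X
  have hdeg : Curv2.deg k X (CohB1.tensorMod L L) 1 = 2 * Curv2.deg k X L 1 := by
    rw [hOLdeg, ← hQ] at hd1
    rw [hOdeg] at hd0
    linarith
  refine ⟨hdeg, ?_⟩
  have hLLc := isCoh_of_isInvertible X hLL
  have hfinLL : Module.Finite k (Coh.HH X (CohB1.tensorMod L L) 0) :=
    Groth.Agent.Lib.Lead.ProperEuler.finite_HH k X _ hLLc 0
  have hadd := finrank_H0_eq_add_of_surjective k hS₁ hfinLL
    (surjective_H0_of_sections (cokernel.π s₁) hsurj₁)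
  have hOL0 : finrank k (Coh.HH X (CohB1.tensorMod (Coh.structureModule X) L) 0) =
      finrank k (Coh.HH X L 0) := finrank_HH_eq_of_iso k (leftUnitor L) 0
  simp only at hadd
  rw [hOL0, ← hQ] at hadd
  rw [hOdeg] at hd0
  rw [hdeg]
  have : (finrank k (Coh.HH X (CohB1.tensorMod L L) 0) : ℤ) =
      (finrank k (Coh.HH X L 0) : ℤ) + (finrank k (Coh.HH X (cokernel s) 0) : ℤ) := by
    exact_mod_cast hadd
  rw [this, heq, ← hd0]
  ring

/-- **Maximal linear series force genus zero**: on an integral proper curve with `h⁰(O) = 1`, if `deg L > 0`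
and `h⁰(L) = deg L + 1` then `H¹(O) = 0`. -/
theorem genus_eq_zero_of_finrank_H0_eq (hdim : topologicalKrullDim X ≤ 1)
    (h0 : finrank k (Coh.HH X (Coh.structureModule X) 0) = 1) :
    ∀ (m : ℕ) (L : X.Modules), PicF.IsInvertible L → 0 < Curv2.deg k X L 1 →
      (finrank k (Coh.HH X L 0) : ℤ) = Curv2.deg k X L 1 + 1 →
      (2 * (Curv2.genus k X : ℤ) - 1 - Curv2.deg k X L 1).toNat ≤ m → Curv2.genus k X = 0 := by
  intro m
  induction m with
  | zero =>
    intro L hL hd heq hm
    have hle : 2 * (Curv2.genus k X : ℤ) - 1 ≤ Curv2.deg k X L 1 := by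
      have := Int.toNat_eq_zero.mp (Nat.le_zero.mp hm)
      linarith
    haveI := subsingleton_H1_of_deg_ge k X hdim h0 hL hle
    have hLc := isCoh_of_isInvertible X hL
    have hrr := riemann_roch' k X hdim h0 L hLc.1 1
    rw [finrank_zero_of_subsingleton (M := Coh.HH X L 1)] at hrr
    push_cast at hrr
    have : (Curv2.genus k X : ℤ) = 0 := by linarith
    exact_mod_cast this
  | succ m ih =>
    intro L hL hd heq hm
    by_cases hle : 2 * (Curv2.genus k X : ℤ) - 1 ≤ Curv2.deg k X L 1
    · haveI := subsingleton_H1_of_deg_ge k X hdim h0 hL hle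
      have hLc := isCoh_of_isInvertible X hL
      have hrr := riemann_roch' k X hdim h0 L hLc.1 1
      rw [finrank_zero_of_subsingleton (M := Coh.HH X L 1)] at hrr
      push_cast at hrr
      have : (Curv2.genus k X : ℤ) = 0 := by linarith
      exact_mod_cast this
    · push Not at hle
      obtain ⟨hdeg, heq'⟩ := tensor_self_numerics k X hdim h0 hL hd heq
      have hLL : PicF.IsInvertible (CohB1.tensorMod L L) :=
        Groth.Agent.Lib.helper12.TensorInv.isInvertible_tensorMod hL hL
      refine ih (CohB1.tensorMod L L) hLL (by rw [hdeg]; linarith) heq' ?_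
      rw [hdeg]
      omega

end curve

end Groth.Agent.Lib.helper9.CurveLinSer
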