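import Mathlib
import Groth.Agent.Lib.Helper9.CurveLinSer

/-!
# Global generation of invertible modules of degree `≥ 2g` on integral proper curves (helper9)

* `mem_vanishingIdeal_of_not_mem_basicOpen`: a function on an affine open vanishing at the closed point `y` lies in
  the ideal of `y`.
* `exists_preimage_of_not_mem_isoLocus`: a global section of `O ⊗ L` which does not generate at the closed point `y`
  comes from `I_y ⊗ L`.
* `genAt_of_mem_isoLocus`: a section generating `L` at `y` makes `L` globally generated near `y`.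
* `isGloballyGenerated_of_deg_ge`: on an integral proper curve with `h⁰(O) = 1`, `deg L ≥ 2g` implies `L` globally
  generated (no duality, any field).
-/

set_option autoImplicit false
set_option linter.style.haveILetI false
universe u
open CategoryTheory CategoryTheory.Limits AlgebraicGeometry Opposite TopologicalSpace Module
open Scheme.Modules

namespace Groth.Agent.Lib.helper9.CurveGG

open Groth.Agent.Lib.Helper18 Groth.Agent.Lib.helper11.IsoLocus Groth.Agent.Lib.helper11.InvMod
open Groth.Agent.Lib.Lead.ModTensor Groth.Agent.Lib.helper11.GenLocus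
open Groth.Agent.Lib.helper9.CurveGen Groth.Agent.Lib.Helper20.SplitH1
open Groth.Agent.Lib.helper11.TwistH1 Groth.Agent.Lib.helper11.IdealGG
open Groth.Agent.Lib.helper12.TensorInv Groth.Agent.Lib.helper7

section general

variable {X : Scheme.{u}}

/-- a function on an affine open vanishing at the closed point `y` lies in the ideal of `y` -/
theorem mem_vanishingIdeal_of_not_mem_basicOpen {y : X} (hy : IsClosed ({y} : Set X))
    (U : X.affineOpens) (f : Γ(X, U.1)) (hf : y ∉ X.basicOpen f) :
    f ∈ (Scheme.IdealSheafData.vanishingIdeal ⟨{y}, hy⟩).ideal U := by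
  rw [Scheme.IdealSheafData.vanishingIdeal_ideal, PrimeSpectrum.mem_vanishingIdeal]
  intro p hp
  by_contra hfp
  apply hf
  have h1 : p ∈ PrimeSpectrum.basicOpen f := hfp
  have h2 : U.2.fromSpec ⁻¹ᵁ X.basicOpen f = PrimeSpectrum.basicOpen f :=
    U.2.fromSpec_preimage_basicOpen f
  have h3 : U.2.fromSpec p ∈ X.basicOpen f := by
    have : p ∈ U.2.fromSpec ⁻¹ᵁ X.basicOpen f := by rw [h2]; exact h1
    exact this
  have h4 : U.2.fromSpec p = y := hp
  rwa [h4] at h3

open Groth.Agent.Lib.helper11.SerreGG in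
/-- a section generating `L` at `y` makes `L` generated by global sections near `y` -/
theorem genAt_of_mem_isoLocus {L : X.Modules} (t : Coh.structureModule X ⟶ L) {y : X}
    (hy : y ∈ isoLocus t) : GenAt L y := by
  have h1 : GenAtBy (Coh.structureModule X)
      (fun _ : Unit => (1 : X.ringCatSheaf.obj.obj (op ⊤))) y := by
    intro V σ hyV
    refine ⟨V, le_rfl, hyV, ?_⟩
    have h2 : Groth.Agent.Lib.helper12.TwistExtend.res (Coh.structureModule X) (le_refl V) σ = σ := by
      unfold Groth.Agent.Lib.helper12.TwistExtend.res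
      have : (homOfLE (le_refl V)).op = 𝟙 (op V) := rfl
      rw [this, (Coh.structureModule X).val.map_id]
      rfl
    rw [h2]
    have h3 : Groth.Agent.Lib.helper12.TwistExtend.res (Coh.structureModule X) (le_top : V ≤ ⊤)
        (1 : X.ringCatSheaf.obj.obj (op ⊤)) = (1 : X.ringCatSheaf.obj.obj (op V)) :=
      PresheafOfModules.unit_map_one _ _
    have h4 : σ = (show X.ringCatSheaf.obj.obj (op V) from σ) •
        (Groth.Agent.Lib.helper12.TwistExtend.res (Coh.structureModule X) (le_top : V ≤ ⊤)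
          (1 : X.ringCatSheaf.obj.obj (op ⊤))) := by
      rw [h3]
      exact (mul_one (show X.ringCatSheaf.obj.obj (op V) from σ)).symm
    rw [h4]
    exact Submodule.smul_mem _ _ (Submodule.subset_span ⟨(), rfl⟩)
  exact (genAtBy_of_mem_isoLocus t hy h1).genAt

/-- a global section of `O ⊗ L` which does not generate at the closed point `y` comes from `I_y ⊗ L` -/
theorem exists_preimage_of_not_mem_isoLocus {L : X.Modules} (hL : PicF.IsInvertible L) {y : X}
    (hy : IsClosed ({y} : Set X))
    (x' : Γ(CohB1.tensorMod (Coh.structureModule X) L, ⊤))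
    (hx : y ∉ isoLocus (homOfGlobal (CohB1.tensorMod (Coh.structureModule X) L) x')) :
    ∃ a : Γ(CohB1.tensorMod (ClSub.idealMod (Scheme.IdealSheafData.vanishingIdeal ⟨{y}, hy⟩)) L, ⊤),
      ((tensorMap (ClSub.idealModι (Scheme.IdealSheafData.vanishingIdeal ⟨{y}, hy⟩))
        (𝟙 L)).app ⊤).hom a = x' := by
  set Z := Scheme.IdealSheafData.vanishingIdeal ⟨{y}, hy⟩ with hZdef
  let ι := ClSub.idealModι Z
  let OL := CohB1.tensorMod (Coh.structureModule X) L
  let IL := CohB1.tensorMod (ClSub.idealMod Z) L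
  let φ : IL ⟶ OL := tensorMap ι (𝟙 L)
  haveI : Mono ι := IdealMod.mono_idealModι Z
  haveI hφmono : Mono φ := mono_tensorMap_left ι hL
  let t' := homOfGlobal OL x'
  have hsec : ∀ P : X.Opens, sec t' P = CurvePunctual.res OL (le_top : P ≤ ⊤) x' := fun P =>
    homOfGlobal_app_one OL x' (op P)
  obtain ⟨U, hUaff, hyU, -, ⟨e⟩⟩ := exists_affine_isTrivOn hL y ⊤ trivial
  let U' : X.Opens := U.ι ''ᵁ ⊤
  have hU' : U' = U := U.ι_image_top
  have hyU' : y ∈ U' := hU' ▸ hyU
  have hU'aff : IsAffineOpen U' := hU' ▸ hUaff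
  let θO := tensorTrivIso (Coh.structureModule X) L U e
  let θI := tensorTrivIso (ClSub.idealMod Z) L U e
  have hn := tensorTrivIso_naturality ι L U e
  let xU : Γ(OL, U') := CurvePunctual.res OL (le_top : U' ≤ ⊤) x'
  let f : Γ(X, U') := (θO.hom.app ⊤).hom (show Γ(OL.restrict U.ι, ⊤) from xU)
  -- `f` vanishes at `y`
  have hfy : y ∉ X.basicOpen f := by
    let eM := restrictUnitIso U.ι
    let eN := θO ≪≫ restrictUnitIso U.ι
    have h1 := isoLocus_inf_eq_basicOpen_localFn t' eM eN
    have h3 : localFn t' eM eN = X.presheaf.map (eqToHom U.ι_image_top.symm).op f := by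
      unfold localFn
      rw [fn_localEnd, hsec, Scheme.Opens.topIso_hom]
      have h4 : ((eN.hom.app ⊤).hom (show Γ(OL.restrict U.ι, ⊤) from
          CurvePunctual.res OL (le_top : U' ≤ ⊤) x')) = (U.ι.appIso ⊤).hom f := rfl
      rw [h4, Scheme.Opens.ι_appIso]
      rfl
    rw [h3, Scheme.basicOpen_res] at h1
    intro hyf
    apply hx
    have h5 : y ∈ U ⊓ X.basicOpen f := ⟨hyU, hyf⟩
    rw [← h1] at h5
    exact h5.1
  -- `f` lies in the ideal of `y`
  have hfmem : f ∈ Set.range ((ClSub.idealModι Z).app U').hom := by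
    rw [IdealMod.mem_range_idealModι_iff_of_affine Z ⟨U', hU'aff⟩]
    exact mem_vanishingIdeal_of_not_mem_basicOpen hy ⟨U', hU'aff⟩ f hfy
  obtain ⟨a₀, ha₀⟩ := hfmem
  let b : Γ(IL, U') := (θI.inv.app ⊤).hom (show Γ((ClSub.idealMod Z).restrict U.ι, ⊤) from a₀)
  have hb : (φ.app U').hom b = xU := by
    have hinj : Function.Injective (θO.hom.app ⊤).hom :=
      (CurvePunctual.sectionsEquivOfRestrictIso OL (Coh.structureModule X) U θO).injective
    apply hinj
    have h5 : (θO.hom.app ⊤).hom (show Γ(OL.restrict U.ι, ⊤) from (φ.app U').hom b) =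
        (ι.app U').hom ((θI.hom.app ⊤).hom (show Γ(IL.restrict U.ι, ⊤) from b)) :=
      congrArg (fun ψ : IL.restrict U.ι ⟶ (Coh.structureModule X).restrict U.ι =>
        (Scheme.Modules.Hom.app ψ ⊤).hom (show Γ(IL.restrict U.ι, ⊤) from b)) hn
    have h6 : (θI.hom.app ⊤).hom (show Γ(IL.restrict U.ι, ⊤) from b) = a₀ :=
      congrArg (fun ψ : (ClSub.idealMod Z).restrict U.ι ⟶ (ClSub.idealMod Z).restrict U.ι =>
        (Scheme.Modules.Hom.app ψ ⊤).hom (show Γ((ClSub.idealMod Z).restrict U.ι, ⊤) from a₀))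
        θI.inv_hom_id
    refine h5.trans ?_
    rw [h6]
    exact ha₀
  -- the class of `x'` in `coker φ` vanishes
  let π := cokernel.π φ
  let c : Γ(cokernel φ, ⊤) := (π.app ⊤).hom x'
  have hcU : CurvePunctual.res (cokernel φ) (le_top : U' ≤ ⊤) c = 0 := by
    have hnat : (π.app U').hom (CurvePunctual.res OL (le_top : U' ≤ ⊤) x') =
        CurvePunctual.res (cokernel φ) (le_top : U' ≤ ⊤) ((π.app ⊤).hom x') :=
      PresheafOfModules.naturality_apply π.val (homOfLE (le_top : U' ≤ ⊤)).op x'
    rw [← hnat]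
    change (π.app U').hom xU = 0
    rw [← hb]
    exact congrArg (fun ψ : IL ⟶ cokernel φ => (ψ.app U').hom b) (cokernel.condition φ)
  let W : X.Opens := ⟨({y} : Set X)ᶜ, hy.isOpen_compl⟩
  have hsupp : ((Z.support : Closeds X) : Set X) = {y} :=
    Scheme.IdealSheafData.coe_support_vanishingIdeal _
  have hWι : W ≤ isoLocus ι :=
    le_isoLocus_kernel_ι (ClSub.toSubscheme Z) W (fun V hV =>
      subsingleton_quotMod_of_disjoint Z V (by
        rw [hsupp]
        exact Set.disjoint_singleton_right.mpr (fun hx => hV hx rfl)))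
  have hWφ : W ≤ isoLocus φ := hWι.trans (CurvePunctual.isoLocus_le_tensorMap ι L hL)
  have hc : c = 0 := by
    refine CurvePunctual.eq_of_cover (cokernel φ) (fun b : Bool => cond b U' W) ⊤
      (fun _ => le_top) ?_ c 0 ?_
    · intro z _
      by_cases hz : z = y
      · exact Opens.mem_iSup.mpr ⟨true, hz ▸ hyU'⟩
      · exact Opens.mem_iSup.mpr ⟨false, hz⟩
    · intro b
      cases b
      · exact (eq_zero_of_le_isoLocus φ hWφ _).trans (eq_zero_of_le_isoLocus φ hWφ _).symm
      · rw [CurvePunctual.res_zero]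
        exact hcU
  exact exists_preimage_of_cokernel_π_eq_zero φ ⊤ x' hc

end general

section curve

open Groth.Agent.Lib.helper9.CurveVanish Groth.Agent.Lib.helper9.CurveTwist
open Groth.Agent.Lib.helper9.CurveLinSer Groth.Agent.Lib.Lead.CurveInv Groth.Agent.Lib.Lead.CurveEuler
open Groth.Agent.Lib.Lead.CurveSec

variable (k : Type u) [Field k] (X : Scheme.{u}) [X.Over (Spec (CommRingCat.of k))]
  [IsProper (X ↘ Spec (CommRingCat.of k))] [IsIntegral X]

omit [IsIntegral X] in
/-- `h⁰(O_y) ≥ 1` for a closed point `y` with its reduced structure -/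
theorem finrank_H0_quotMod_pos {y : X} (hy : IsClosed ({y} : Set X)) :
    0 < finrank k (Coh.HH X (ClSub.quotMod (Scheme.IdealSheafData.vanishingIdeal ⟨{y}, hy⟩)) 0) := by
  set Z := Scheme.IdealSheafData.vanishingIdeal ⟨{y}, hy⟩ with hZdef
  haveI := Groth.Agent.Lib.Lead.CurveEuler.isNoetherian k X
  have hQc : Coh.IsCoh (ClSub.quotMod Z) :=
    Groth.Agent.Lib.helper8.Dev.isCoh_push_structureModule Z.subschemeι
  haveI : Module.Finite k (Coh.HH X (ClSub.quotMod Z) 0) :=
    Groth.Agent.Lib.Lead.ProperEuler.finite_HH k X _ hQc 0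
  have hsupp : ((Z.support : Closeds X) : Set X) = {y} :=
    Scheme.IdealSheafData.coe_support_vanishingIdeal _
  have hyr : y ∈ Set.range Z.subschemeι := by
    rw [Z.range_subschemeι, hsupp]
    rfl
  obtain ⟨z, hz⟩ := hyr
  haveI : Nonempty ↥(Z.subschemeι ⁻¹ᵁ (⊤ : X.Opens)) := ⟨⟨z, trivial⟩⟩
  have hnt : Nontrivial Γ(Z.subscheme, Z.subschemeι ⁻¹ᵁ (⊤ : X.Opens)) := inferInstance
  haveI hnt' : Nontrivial ((ClSub.quotMod Z).val.obj (op ⊤)) := hnt
  haveI : Nontrivial (Coh.HH X (ClSub.quotMod Z) 0) := (HH.equiv₀ (ClSub.quotMod Z)).toEquiv.nontrivial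
  exact Module.finrank_pos

omit [X.Over (Spec (CommRingCat.of k))] [IsProper (X ↘ Spec (CommRingCat.of k))] [IsIntegral X] in
/-- the singleton of a point has dimension `≤ 0` -/
theorem dim_support_vanishingIdeal_le {y : X} (hy : IsClosed ({y} : Set X)) :
    topologicalKrullDim
      (((Scheme.IdealSheafData.vanishingIdeal ⟨{y}, hy⟩).support : Closeds X) : Set X) ≤ 0 := by
  have hsupp : (((Scheme.IdealSheafData.vanishingIdeal ⟨{y}, hy⟩).support : Closeds X) : Set X) = {y} :=
    Scheme.IdealSheafData.coe_support_vanishingIdeal _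
  rw [hsupp]
  exact topologicalKrullDim_zero_of_discreteTopology _

/-- **Key inequality**: for `deg L ≥ 2g` and a closed point `y`, `h⁰(I_y ⊗ L) < h⁰(L)` -/
theorem finrank_H0_idealTwist_lt (hdim : topologicalKrullDim X ≤ 1)
    (h0 : finrank k (Coh.HH X (Coh.structureModule X) 0) = 1)
    {L : X.Modules} (hL : PicF.IsInvertible L)
    (hdeg : 2 * (Curv2.genus k X : ℤ) ≤ Curv2.deg k X L 1) {y : X} (hy : IsClosed ({y} : Set X)) :
    finrank k (Coh.HH X (CohB1.tensorMod
      (ClSub.idealMod (Scheme.IdealSheafData.vanishingIdeal ⟨{y}, hy⟩)) L) 0) <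
      finrank k (Coh.HH X L 0) := by
  set Z := Scheme.IdealSheafData.vanishingIdeal ⟨{y}, hy⟩ with hZdef
  have hZ := dim_support_vanishingIdeal_le X hy
  obtain ⟨hFc, heul, hsurj⟩ := idealTwist_main k X hdim L hL Z hZ
  have hLc := isCoh_of_isInvertible X hL
  haveI := subsingleton_H1_of_deg_ge k X hdim h0 hL (by linarith)
  have hrr := riemann_roch' k X hdim h0 L hLc.1 1
  rw [finrank_zero_of_subsingleton (M := Coh.HH X L 1)] at hrr
  push_cast at hrr
  have e1 := euler_eq k X hdim _ hFc.1
  have e2 := euler_eq k X hdim L hLc.1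
  rw [finrank_zero_of_subsingleton (M := Coh.HH X L 1)] at e2
  push_cast at e2
  have hpos := finrank_H0_quotMod_pos k X hy
  have hpos' : (1 : ℤ) ≤ (finrank k (Coh.HH X (ClSub.quotMod Z) 0) : ℤ) := by exact_mod_cast hpos
  by_cases h1 : Nontrivial (Coh.HH X (CohB1.tensorMod (ClSub.idealMod Z) L) 1)
  · have hle := finrank_H0_le_genus k X _ hsurj h1
    have hle' : (finrank k (Coh.HH X (CohB1.tensorMod (ClSub.idealMod Z) L) 0) : ℤ) ≤
        (Curv2.genus k X : ℤ) := by exact_mod_cast hle
    have : (finrank k (Coh.HH X (CohB1.tensorMod (ClSub.idealMod Z) L) 0) : ℤ) <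
        (finrank k (Coh.HH X L 0) : ℤ) := by linarith
    exact_mod_cast this
  · rw [not_nontrivial_iff_subsingleton] at h1
    rw [finrank_zero_of_subsingleton (M := Coh.HH X (CohB1.tensorMod (ClSub.idealMod Z) L) 1)] at e1
    push_cast at e1
    have : (finrank k (Coh.HH X (CohB1.tensorMod (ClSub.idealMod Z) L) 0) : ℤ) <
        (finrank k (Coh.HH X L 0) : ℤ) := by linarith
    exact_mod_cast this

open Groth.Agent.Lib.helper11.SerreGG in
/-- **Global generation**: on an integral proper curve with `h⁰(O) = 1`, an invertible module of degree `≥ 2g` is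
globally generated. -/
theorem isGloballyGenerated_of_deg_ge (hdim : topologicalKrullDim X ≤ 1)
    (h0 : finrank k (Coh.HH X (Coh.structureModule X) 0) = 1)
    {L : X.Modules} (hL : PicF.IsInvertible L)
    (hdeg : 2 * (Curv2.genus k X : ℤ) ≤ Curv2.deg k X L 1) : Curv2.IsGloballyGenerated L := by
  apply isGloballyGenerated_of_genAt
  intro y
  suffices h : ∃ t : Coh.structureModule X ⟶ L, y ∈ isoLocus t by
    obtain ⟨t, ht⟩ := h
    exact genAt_of_mem_isoLocus t ht
  have hO := isInvertible_structureModule X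
  have hLc := isCoh_of_isInvertible X hL
  by_cases hy : IsClosed ({y} : Set X)
  · set Z := Scheme.IdealSheafData.vanishingIdeal ⟨{y}, hy⟩ with hZdef
    have hZ := dim_support_vanishingIdeal_le X hy
    obtain ⟨hFc, -, -⟩ := idealTwist_main k X hdim L hL Z hZ
    have hlt := finrank_H0_idealTwist_lt k X hdim h0 hL hdeg hy
    let OL := CohB1.tensorMod (Coh.structureModule X) L
    let φ : CohB1.tensorMod (ClSub.idealMod Z) L ⟶ OL := tensorMap (ClSub.idealModι Z) (𝟙 L)
    have hOL0 : finrank k (Coh.HH X OL 0) = finrank k (Coh.HH X L 0) :=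
      finrank_HH_eq_of_iso k (leftUnitor L) 0
    haveI : Module.Finite k (Coh.HH X (CohB1.tensorMod (ClSub.idealMod Z) L) 0) :=
      Groth.Agent.Lib.Lead.ProperEuler.finite_HH k X _ hFc 0
    obtain ⟨x', hx'⟩ : ∃ x' : Γ(OL, ⊤), x' ∉ Set.range (φ.app ⊤).hom := by
      by_contra hcon
      push Not at hcon
      have hs : Function.Surjective (HH.mapOver k φ 0) :=
        surjective_H0_of_sections φ (fun x' => hcon x')
      have h' : finrank k (Coh.HH X OL 0) ≤
          finrank k (Coh.HH X (CohB1.tensorMod (ClSub.idealMod Z) L) 0) :=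
        LinearMap.finrank_le_finrank_of_surjective hs
      rw [hOL0] at h'
      exact absurd hlt (not_lt.mpr h')
    have hyt : y ∈ isoLocus (homOfGlobal OL x') := by
      by_contra hcon
      exact hx' (exists_preimage_of_not_mem_isoLocus hL hy x' hcon)
    refine ⟨homOfGlobal OL x' ≫ (leftUnitor L).hom, ?_⟩
    rw [isoLocus_comp_of_isIso_right]
    exact hyt
  · have hpos : 0 < finrank k (Coh.HH X L 0) := by
      haveI := subsingleton_H1_of_deg_ge k X hdim h0 hL (by linarith)
      have hrr := riemann_roch' k X hdim h0 L hLc.1 1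
      rw [finrank_zero_of_subsingleton (M := Coh.HH X L 1)] at hrr
      push_cast at hrr
      have : (0 : ℤ) < (finrank k (Coh.HH X L 0) : ℤ) := by linarith
      exact_mod_cast this
    obtain ⟨s, hs⟩ := exists_hom_ne_zero_of_finrank_pos k X L hpos
    refine ⟨s, ?_⟩
    by_contra hcon
    exact hy (isClosed_singleton_of_not_mem hdim _ (isoLocus_nonempty X hO hL s hs) y hcon)

end curve

end Groth.Agent.Lib.helper9.CurveGG
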