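import Mathlib
import Groth.Agent.Lib.Helper9.CurveGG

/-!
# Complements on global generation on integral proper curves (helper9)

* `exists_section_mem_isoLocus`: on an integral proper curve with `h⁰(O) = 1`, if `deg L ≥ 2g` then every point has a
  global section of `L` generating `L` there.
* `finrank_H0_eq_one_of_genus_eq_one`: an integral proper scheme over `k` with `dim_k H¹(O) = 1` has `H⁰(O) = k`.
* `isGloballyGenerated_of_genus_one`, `exists_section_mem_isoLocus_of_genus_one`: integral proper curves of genus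
  one, `deg L ≥ 2`.
-/

set_option autoImplicit false
set_option linter.style.haveILetI false
universe u
open CategoryTheory CategoryTheory.Limits AlgebraicGeometry Opposite TopologicalSpace Module
open Scheme.Modules

namespace Groth.Agent.Lib.helper9.CurveGG2

open Groth.Agent.Lib.Helper18 Groth.Agent.Lib.helper11.IsoLocus Groth.Agent.Lib.helper11.InvMod
open Groth.Agent.Lib.Lead.ModTensor Groth.Agent.Lib.helper11.GenLocus
open Groth.Agent.Lib.helper9.CurveGen Groth.Agent.Lib.Helper20.SplitH1
open Groth.Agent.Lib.helper9.CurveVanish Groth.Agent.Lib.helper9.CurveTwist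
open Groth.Agent.Lib.helper9.CurveLinSer Groth.Agent.Lib.Lead.CurveInv Groth.Agent.Lib.Lead.CurveEuler
open Groth.Agent.Lib.Lead.CurveSec Groth.Agent.Lib.helper9.CurveGG

variable (k : Type u) [Field k] (X : Scheme.{u}) [X.Over (Spec (CommRingCat.of k))]
  [IsProper (X ↘ Spec (CommRingCat.of k))] [IsIntegral X]

/-- on an integral proper curve with `h⁰(O) = 1`, if `deg L ≥ 2g` every point has a section generating `L` there -/
theorem exists_section_mem_isoLocus (hdim : topologicalKrullDim X ≤ 1)
    (h0 : finrank k (Coh.HH X (Coh.structureModule X) 0) = 1)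
    {L : X.Modules} (hL : PicF.IsInvertible L)
    (hdeg : 2 * (Curv2.genus k X : ℤ) ≤ Curv2.deg k X L 1) (y : X) :
    ∃ t : Coh.structureModule X ⟶ L, y ∈ isoLocus t := by
  have hO := isInvertible_structureModule X
  have hLc := isCoh_of_isInvertible X hL
  by_cases hy : IsClosed ({y} : Set X)
  · set Z := Scheme.IdealSheafData.vanishingIdeal ⟨{y}, hy⟩ with hZdef
    have hZ := dim_support_vanishingIdeal_le X hy
    obtain ⟨hFc, -, -⟩ := idealTwist_main k X hdim L hL Z hZ
    have hlt := finrank_H0_idealTwist_lt k X hdim h0 hL hdeg hy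
    let OL := CohB1.tensorMod (Coh.structureModule X) L
    let φ : CohB1.tensorMod (ClSub.idealMod Z) L ⟶ OL := tensorMap (ClSub.idealModι Z) (𝟙 L)
    have hOL0 : finrank k (Coh.HH X OL 0) = finrank k (Coh.HH X L 0) :=
      finrank_HH_eq_of_iso k (leftUnitor L) 0
    haveI : Module.Finite k (Coh.HH X (CohB1.tensorMod (ClSub.idealMod Z) L) 0) :=
      Groth.Agent.Lib.Lead.ProperEuler.finite_HH k X _ hFc 0
    obtain ⟨x', hx'⟩ : ∃ x' : Γ(OL, ⊤), x' ∉ Set.range (φ.app ⊤).hom := by
      by_contra hcon
      push Not at hcon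
      have hs : Function.Surjective (HH.mapOver k φ 0) :=
        surjective_H0_of_sections φ (fun x' => hcon x')
      have h' : finrank k (Coh.HH X OL 0) ≤
          finrank k (Coh.HH X (CohB1.tensorMod (ClSub.idealMod Z) L) 0) :=
        LinearMap.finrank_le_finrank_of_surjective hs
      rw [hOL0] at h'
      exact absurd hlt (not_lt.mpr h')
    have hyt : y ∈ isoLocus (homOfGlobal OL x') := by
      by_contra hcon
      exact hx' (exists_preimage_of_not_mem_isoLocus hL hy x' hcon)
    refine ⟨homOfGlobal OL x' ≫ (leftUnitor L).hom, ?_⟩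
    rw [isoLocus_comp_of_isIso_right]
    exact hyt
  · have hpos : 0 < finrank k (Coh.HH X L 0) := by
      haveI := subsingleton_H1_of_deg_ge k X hdim h0 hL (by linarith)
      have hrr := riemann_roch' k X hdim h0 L hLc.1 1
      rw [finrank_zero_of_subsingleton (M := Coh.HH X L 1)] at hrr
      push_cast at hrr
      have : (0 : ℤ) < (finrank k (Coh.HH X L 0) : ℤ) := by linarith
      exact_mod_cast this
    obtain ⟨s, hs⟩ := exists_hom_ne_zero_of_finrank_pos k X L hpos
    refine ⟨s, ?_⟩
    by_contra hcon
    exact hy (isClosed_singleton_of_not_mem hdim _ (isoLocus_nonempty X hO hL s hs) y hcon)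

/-- an integral proper scheme over `k` with `dim_k H¹(O) = 1` has `H⁰(O) = k` -/
theorem finrank_H0_eq_one_of_genus_eq_one (hg : Curv2.genus k X = 1) :
    finrank k (Coh.HH X (Coh.structureModule X) 0) = 1 := by
  let φ : k →+* Γ(X, ⊤) := Coh.toGlobal (X ↘ Spec (CommRingCat.of k))
  letI alg : Algebra k Γ(X, ⊤) := φ.toAlgebra
  have hOc : Coh.IsCoh (Coh.structureModule X) :=
    isCoh_of_isInvertible X (isInvertible_structureModule X)
  haveI : Module.Finite k (Coh.HH X (Coh.structureModule X) 0) :=
    Groth.Agent.Lib.Lead.ProperEuler.finite_HH k X _ hOc 0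
  haveI : Module.Finite k (Coh.HH X (Coh.structureModule X) 1) :=
    Groth.Agent.Lib.Lead.ProperEuler.finite_HH k X _ hOc 1
  let e' : Coh.HH X (Coh.structureModule X) 0 ≃ₗ[k] Γ(X, ⊤) :=
    { (HH.equiv₀ (Coh.structureModule X)).toAddEquiv with
      map_smul' := fun a x => (HH.equiv₀ (Coh.structureModule X)).map_smul (φ a) x }
  haveI : Module.Finite k Γ(X, ⊤) := Module.Finite.equiv e'
  haveI : Nonempty (⊤ : X.Opens) := ⟨⟨Classical.arbitrary X, trivial⟩⟩
  haveI : IsDomain Γ(X, ⊤) := inferInstance
  haveI : Algebra.IsIntegral k Γ(X, ⊤) := Algebra.IsIntegral.of_finite k _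
  have hg' : finrank k (Coh.HH X (Coh.structureModule X) 1) = 1 := hg
  haveI : Nontrivial (Coh.HH X (Coh.structureModule X) 1) := by
    by_contra h
    rw [not_nontrivial_iff_subsingleton] at h
    rw [finrank_zero_of_subsingleton] at hg'
    exact absurd hg' (by norm_num)
  obtain ⟨v, hv⟩ := exists_ne (0 : Coh.HH X (Coh.structureModule X) 1)
  let ψ : Γ(X, ⊤) →ₗ[k] Coh.HH X (Coh.structureModule X) 1 :=
    { toFun := fun r => (show Coh.Γtop X from r) • v
      map_add' := fun r r' => add_smul (show Coh.Γtop X from r) (show Coh.Γtop X from r') v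
      map_smul' := fun a r => by
        change (show Coh.Γtop X from (φ a * r)) • v = (show Coh.Γtop X from φ a) • ((show Coh.Γtop X from r) • v)
        exact mul_smul (show Coh.Γtop X from φ a) (show Coh.Γtop X from r) v }
  have hψ : Function.Injective ψ := by
    rw [injective_iff_map_eq_zero]
    intro r hr
    by_contra hr0
    have hu : IsUnit r := (Algebra.IsIntegral.isIntegral (R := k) r).isUnit hr0
    obtain ⟨u, rfl⟩ := hu
    apply hv
    have h1 : (show Coh.Γtop X from (↑u⁻¹ : Γ(X, ⊤))) • ((show Coh.Γtop X from (↑u : Γ(X, ⊤))) • v) = v := by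
      rw [← mul_smul]
      have : (show Coh.Γtop X from (↑u⁻¹ : Γ(X, ⊤))) * (show Coh.Γtop X from (↑u : Γ(X, ⊤))) = 1 :=
        Units.inv_mul u
      rw [this, one_smul]
    rw [← h1]
    have h2 : (show Coh.Γtop X from (↑u : Γ(X, ⊤))) • v = 0 := hr
    rw [h2, smul_zero]
  have h1 := LinearMap.finrank_le_finrank_of_injective hψ
  have h2 : 0 < finrank k Γ(X, ⊤) := Module.finrank_pos
  rw [e'.finrank_eq]
  omega

/-- integral proper curves of genus one: `deg L ≥ 2` implies a generating section at every point -/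
theorem exists_section_mem_isoLocus_of_genus_one (hdim : topologicalKrullDim X ≤ 1)
    (hg : Curv2.genus k X = 1) {L : X.Modules} (hL : PicF.IsInvertible L)
    (hdeg : 2 ≤ Curv2.deg k X L 1) (y : X) :
    ∃ t : Coh.structureModule X ⟶ L, y ∈ isoLocus t :=
  exists_section_mem_isoLocus k X hdim (finrank_H0_eq_one_of_genus_eq_one k X hg) hL
    (by rw [hg]; simpa using hdeg) y

/-- integral proper curves of genus one: `deg L ≥ 2` implies globally generated -/
theorem isGloballyGenerated_of_genus_one (hdim : topologicalKrullDim X ≤ 1)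
    (hg : Curv2.genus k X = 1) {L : X.Modules} (hL : PicF.IsInvertible L)
    (hdeg : 2 ≤ Curv2.deg k X L 1) : Curv2.IsGloballyGenerated L :=
  isGloballyGenerated_of_deg_ge k X hdim (finrank_H0_eq_one_of_genus_eq_one k X hg) hL
    (by rw [hg]; simpa using hdeg)

end Groth.Agent.Lib.helper9.CurveGG2
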