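/-
Helper library (helper9): a cofiltered limit of affine schemes flat over an affine scheme is flat
(equational criterion of flatness), and the projection of a cofiltered limit with affine flat
transition maps is flat.
-/
import Groth.Agent.Lib.Helper9.IntegralRing
import Mathlib.RingTheory.Flat.EquationalCriterion
import Mathlib.RingTheory.RingHom.Flat
import Mathlib.AlgebraicGeometry.Morphisms.Flat

set_option autoImplicit false
set_option linter.style.haveILetI false

namespace Groth.Agent.Lib.helper9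

open AlgebraicGeometry CategoryTheory Limits

universe u

/-- The equational criterion of flatness, for ring maps. -/
theorem ringHom_flat_iff {R S : Type*} [CommRing R] [CommRing S] (φ : R →+* S) :
    φ.Flat ↔ ∀ {l : ℕ} (f : Fin l → R) (x : Fin l → S), ∑ i, φ (f i) * x i = 0 →
      ∃ (k : ℕ) (a : Fin l → Fin k → R) (y : Fin k → S),
        (∀ i, x i = ∑ j, φ (a i j) * y j) ∧ ∀ j, ∑ i, f i * a i j = 0 := by
  letI := φ.toAlgebra
  show Module.Flat R S ↔ _
  rw [Module.Flat.iff_forall_isTrivialRelation]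
  constructor
  · intro h l f x hx
    have hx' : ∑ i, f i • x i = 0 := by
      simpa only [Algebra.smul_def, RingHom.algebraMap_toAlgebra] using hx
    obtain ⟨k, a, y, h1, h2⟩ := h hx'
    refine ⟨k, a, y, fun i => ?_, h2⟩
    simpa only [Algebra.smul_def, RingHom.algebraMap_toAlgebra] using h1 i
  · intro h l f x hx
    have hx' : ∑ i, φ (f i) * x i = 0 := by
      simpa only [Algebra.smul_def, RingHom.algebraMap_toAlgebra] using hx
    obtain ⟨k, a, y, h1, h2⟩ := h f x hx'
    refine ⟨k, a, y, fun i => ?_, h2⟩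
    simpa only [Algebra.smul_def, RingHom.algebraMap_toAlgebra] using h1 i

/-- A ring map which is a "directed union" of flat ring maps is flat. -/
theorem ringHom_flat_of_directed {R S : Type*} [CommRing R] [CommRing S] (φ : R →+* S)
    {ι : Type*} (T : ι → Type*) [∀ j, CommRing (T j)] (φj : ∀ j, R →+* T j)
    (ρ : ∀ j, T j →+* S) (hρ : ∀ j, (ρ j).comp (φj j) = φ) (hfl : ∀ j, (φj j).Flat)
    (hlift : ∀ {l : ℕ} (f : Fin l → R) (x : Fin l → S), ∑ i, φ (f i) * x i = 0 →
      ∃ (j : ι) (x' : Fin l → T j), (∀ i, ρ j (x' i) = x i) ∧ ∑ i, φj j (f i) * x' i = 0) :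
    φ.Flat := by
  rw [ringHom_flat_iff]
  intro l f x hx
  obtain ⟨j, x', hx', hrel⟩ := hlift f x hx
  obtain ⟨k, a, y, h1, h2⟩ := (ringHom_flat_iff (φj j)).mp (hfl j) f x' hrel
  refine ⟨k, a, fun t => ρ j (y t), fun i => ?_, h2⟩
  rw [← hx' i, h1 i, map_sum]
  refine Finset.sum_congr rfl fun t _ => ?_
  rw [map_mul, ← hρ j]
  rfl

section abstract

variable {J : Type*} [Category J] [IsCofiltered J] {DX : J ⥤ Scheme.{u}} (cX : Cone DX)
  {Y : Scheme.{u}} (F : ∀ j, DX.obj j ⟶ Y) (Fc : cX.pt ⟶ Y)

/-- Abstract form: the limit of a cofiltered system of flat affine `Y`-schemes is flat over `Y`,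
in terms of global sections. -/
theorem flat_appTop_of_forall_flat_appTop
    (hFm : ∀ {j j' : J} (m : j' ⟶ j), DX.map m ≫ F j = F j')
    (hFc : ∀ j, cX.π.app j ≫ F j = Fc)
    (H1 : ∀ s : Γ(cX.pt, ⊤), ∃ (j : J) (t : Γ(DX.obj j, ⊤)), (cX.π.app j).appTop t = s)
    (H2 : ∀ (j : J) (s : Γ(DX.obj j, ⊤)), (cX.π.app j).appTop s = 0 →
      ∃ (j' : J) (m : j' ⟶ j), (DX.map m).appTop s = 0)
    (hfl : ∀ j, (F j).appTop.hom.Flat) : Fc.appTop.hom.Flat := by
  classical
  refine ringHom_flat_of_directed Fc.appTop.hom (fun j => Γ(DX.obj j, ⊤))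
    (fun j => (F j).appTop.hom) (fun j => (cX.π.app j).appTop.hom) (fun j => ?_) hfl ?_
  · rw [← appTop_hom_comp, hFc]
  · intro l f x hx
    obtain ⟨j, hj⟩ := exists_stage_forall_mem_range (DY := DX) cX H1 (Finset.univ.image x)
    have hj' : ∀ i, ∃ t : Γ(DX.obj j, ⊤), (cX.π.app j).appTop.hom t = x i := fun i =>
      hj (x i) (Finset.mem_image_of_mem _ (Finset.mem_univ i))
    choose x' hx' using hj'
    let z : Γ(DX.obj j, ⊤) := ∑ i, (F j).appTop.hom (f i) * x' i
    have hz : (cX.π.app j).appTop z = 0 := by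
      show (cX.π.app j).appTop.hom z = 0
      rw [map_sum, ← hx]
      refine Finset.sum_congr rfl fun i _ => ?_
      rw [map_mul, hx' i]
      congr 1
      have := congrArg (fun q => q (f i)) (appTop_hom_comp (cX.π.app j) (F j))
      simp only [RingHom.comp_apply] at this
      rw [← this, hFc]
    obtain ⟨j', m, hm⟩ := H2 j z hz
    refine ⟨j', fun i => (DX.map m).appTop.hom (x' i), fun i => ?_, ?_⟩
    · rw [← hx' i]
      have := congrArg (fun q => q (x' i)) (appTop_hom_comp (cX.π.app j') (DX.map m))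
      simp only [RingHom.comp_apply] at this
      rw [← this, cX.w m]
    · have hm' : (DX.map m).appTop.hom z = 0 := hm
      rw [map_sum] at hm'
      rw [← hm']
      refine Finset.sum_congr rfl fun i _ => ?_
      rw [map_mul]
      congr 1
      have := congrArg (fun q => q (f i)) (appTop_hom_comp (DX.map m) (F j))
      simp only [RingHom.comp_apply] at this
      rw [← this, hFm m]

end abstract

end Groth.Agent.Lib.helper9
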