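/-
Helper library (helper9): the descent statements available in the generic `QcqsBaseDescent` form.
-/
import Groth.Agent.Lib.Helper9.QcqsReduce
import Groth.Agent.Lib.Helper9.OpenImmDescendGen
import Groth.Agent.S9190

set_option autoImplicit false
set_option linter.style.haveILetI false

namespace Groth.Agent.Lib.helper9

open AlgebraicGeometry CategoryTheory Limits

universe u

theorem qcqsBaseDescent_isClosedImmersion :
    QcqsBaseDescent.{u} @IsClosedImmersion @LocallyOfFiniteType := by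
  intro I _ _ D c hc _ i₀ _ _ X₀ Y₀ f₀ g₀ _ _ _ _ hQ hP
  have : LocallyOfFiniteType f₀ := hQ
  have : IsClosedImmersion (stageMap (c.π.app i₀) f₀ g₀) := hP
  exact exists_isClosedImmersion_stageMap D c hc i₀ f₀ g₀

theorem qcqsBaseDescent_isOpenImmersion :
    QcqsBaseDescent.{u} @IsOpenImmersion @LocallyOfFinitePresentation := by
  intro I _ _ D c hc _ i₀ _ _ X₀ Y₀ f₀ g₀ _ _ _ _ hQ hP
  have : LocallyOfFinitePresentation f₀ := hQ
  have : IsOpenImmersion (stageMap (c.π.app i₀) f₀ g₀) := hP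
  exact exists_isOpenImmersion_stageMap_of_lfp D c hc i₀ f₀ g₀

theorem qcqsBaseDescent_isIso :
    QcqsBaseDescent.{u} (MorphismProperty.isomorphisms Scheme.{u})
      @LocallyOfFinitePresentation := by
  intro I _ _ D c hc _ i₀ _ _ X₀ Y₀ f₀ g₀ _ _ _ _ hQ hP
  have : LocallyOfFinitePresentation f₀ := hQ
  have : IsIso (stageMap (c.π.app i₀) f₀ g₀) := hP
  exact exists_isIso_stageMap_of_lfp D c hc i₀ f₀ g₀

theorem qcqsBaseDescent_isSeparated :
    QcqsBaseDescent.{u} @IsSeparated @LocallyOfFiniteType := by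
  intro I _ _ D c hc _ i₀ _ _ X₀ Y₀ f₀ g₀ _ _ _ _ _ hP
  have : IsSeparated (stageMap (c.π.app i₀) f₀ g₀) := hP
  obtain ⟨i, φ, Xi, Yi, fi, gi, pY, pX, h1, h2, h3⟩ :=
    Groth.Agent.S9190.result D c hc i₀ f₀ g₀ (stageMap (c.π.app i₀) f₀ g₀)
      (pullback.fst (c.π.app i₀) g₀) (pullback.snd (c.π.app i₀) g₀)
      (pullback.snd (c.π.app i₀) (f₀ ≫ g₀)) (isPullback_stage_base (c.π.app i₀) g₀)
      (isPullback_stageMap (c.π.app i₀) f₀ g₀)
  exact ⟨Over.mk φ, (stageMap_iff_of_isPullback @IsSeparated h1 h2).mpr h3⟩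

end Groth.Agent.Lib.helper9
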