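/-
Helper library (helper9): descent of formally unramified morphisms along a cofiltered limit
`S = lim S_i` with affine transition maps, via the descent of open immersions applied to the
diagonal.
-/
import Groth.Agent.Lib.Helper9.QcqsInstances
import Groth.Agent.Lib.Helper7.LfpOfComp
import Mathlib.AlgebraicGeometry.Morphisms.FormallyUnramified
import Mathlib.AlgebraicGeometry.Morphisms.Immersion

set_option autoImplicit false
set_option linter.style.haveILetI false

namespace Groth.Agent.Lib.helper9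

open AlgebraicGeometry CategoryTheory Limits

universe u

section cat

variable {C : Type*} [Category C] [HasPullbacks C]

/-- The diagonal of a base change is the base change of the diagonal. -/
theorem isPullback_diagonal_of_isPullback {X Y X₀ Y₀ : C} {f : X ⟶ Y} {f₀ : X₀ ⟶ Y₀}
    {qX : X ⟶ X₀} {qY : Y ⟶ Y₀} (hX : IsPullback qX f f₀ qY) :
    IsPullback qX (pullback.diagonal f) (pullback.diagonal f₀)
      (pullback.map f f f₀ f₀ qX qX qY hX.w.symm hX.w.symm) := by
  have hm1 : pullback.map f f f₀ f₀ qX qX qY hX.w.symm hX.w.symm ≫ pullback.fst f₀ f₀ =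
      pullback.fst f f ≫ qX := pullback.lift_fst _ _ _
  have hm2 : pullback.map f f f₀ f₀ qX qX qY hX.w.symm hX.w.symm ≫ pullback.snd f₀ f₀ =
      pullback.snd f f ≫ qX := pullback.lift_snd _ _ _
  refine ⟨⟨?_⟩, ⟨PullbackCone.IsLimit.mk _ (fun s => s.snd ≫ pullback.fst f f) ?_ ?_ ?_⟩⟩
  · apply pullback.hom_ext
    · rw [Category.assoc, Category.assoc, pullback.diagonal_fst, hm1, pullback.diagonal_fst_assoc,
        Category.comp_id]
    · rw [Category.assoc, Category.assoc, pullback.diagonal_snd, hm2, pullback.diagonal_snd_assoc,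
        Category.comp_id]
  · intro s
    have h1 := s.condition =≫ pullback.fst f₀ f₀
    rw [Category.assoc, Category.assoc, pullback.diagonal_fst, Category.comp_id, hm1] at h1
    rw [Category.assoc]; exact h1.symm
  · intro s
    have h1 := s.condition =≫ pullback.fst f₀ f₀
    rw [Category.assoc, Category.assoc, pullback.diagonal_fst, Category.comp_id, hm1] at h1
    have h2 := s.condition =≫ pullback.snd f₀ f₀
    rw [Category.assoc, Category.assoc, pullback.diagonal_snd, Category.comp_id, hm2] at h2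
    have h3 : s.snd ≫ pullback.fst f f = s.snd ≫ pullback.snd f f := by
      apply hX.hom_ext
      · rw [Category.assoc, Category.assoc, ← h1, ← h2]
      · rw [Category.assoc, Category.assoc, pullback.condition]
    apply pullback.hom_ext
    · rw [Category.assoc, pullback.diagonal_fst, Category.comp_id]
    · rw [Category.assoc, pullback.diagonal_snd, Category.comp_id, h3]
  · intro s m hm1' hm2'
    have := hm2' =≫ pullback.fst f f
    rw [Category.assoc, pullback.diagonal_fst, Category.comp_id] at this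
    exact this

/-- The fibre square of a base change is the base change of the fibre square. -/
theorem isPullback_map_diagonalObj_of_isPullback {X Y X₀ Y₀ : C} {f : X ⟶ Y} {f₀ : X₀ ⟶ Y₀}
    {qX : X ⟶ X₀} {qY : Y ⟶ Y₀} (hX : IsPullback qX f f₀ qY) :
    IsPullback (pullback.map f f f₀ f₀ qX qX qY hX.w.symm hX.w.symm) (pullback.fst f f ≫ f)
      (pullback.fst f₀ f₀ ≫ f₀) qY := by
  have hm1 : pullback.map f f f₀ f₀ qX qX qY hX.w.symm hX.w.symm ≫ pullback.fst f₀ f₀ =
      pullback.fst f f ≫ qX := pullback.lift_fst _ _ _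
  have hm2 : pullback.map f f f₀ f₀ qX qX qY hX.w.symm hX.w.symm ≫ pullback.snd f₀ f₀ =
      pullback.snd f f ≫ qX := pullback.lift_snd _ _ _
  have hl : ∀ s : PullbackCone (pullback.fst f₀ f₀ ≫ f₀) qY,
      ∃ l : s.pt ⟶ pullback f f, l ≫ pullback.fst f f ≫ qX = s.fst ≫ pullback.fst f₀ f₀ ∧
        l ≫ pullback.snd f f ≫ qX = s.fst ≫ pullback.snd f₀ f₀ ∧
        l ≫ pullback.fst f f ≫ f = s.snd := by
    intro s
    have e1 : (s.fst ≫ pullback.fst f₀ f₀) ≫ f₀ = s.snd ≫ qY := by
      rw [Category.assoc, s.condition]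
    have e2 : (s.fst ≫ pullback.snd f₀ f₀) ≫ f₀ = s.snd ≫ qY := by
      rw [Category.assoc, ← pullback.condition, s.condition]
    refine ⟨pullback.lift (hX.lift _ _ e1) (hX.lift _ _ e2) ?_, ?_, ?_, ?_⟩
    · rw [hX.lift_snd, hX.lift_snd]
    · rw [pullback.lift_fst_assoc, hX.lift_fst]
    · rw [pullback.lift_snd_assoc, hX.lift_fst]
    · rw [pullback.lift_fst_assoc, hX.lift_snd]
  choose l hl1 hl2 hl3 using hl
  refine ⟨⟨?_⟩, ⟨PullbackCone.IsLimit.mk _ l ?_ ?_ ?_⟩⟩
  · rw [← Category.assoc, hm1, Category.assoc, hX.w, Category.assoc]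
  · intro s
    apply pullback.hom_ext
    · rw [Category.assoc, hm1, hl1]
    · rw [Category.assoc, hm2, hl2]
  · intro s
    exact hl3 s
  · intro s m hm1' hm2'
    have hm3 : m ≫ pullback.snd f f ≫ f = s.snd := by
      rw [← pullback.condition]; exact hm2'
    apply pullback.hom_ext
    · apply hX.hom_ext
      · rw [Category.assoc, Category.assoc, hl1, ← hm1']
        rw [Category.assoc, hm1]
      · rw [Category.assoc, Category.assoc, hl3, hm2']
    · apply hX.hom_ext
      · rw [Category.assoc, Category.assoc, hl2, ← hm1']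
        rw [Category.assoc, hm2]
      · rw [Category.assoc, Category.assoc, hm3, ← pullback.condition (f := f) (g := f), hl3]

end cat

section scheme

/-- Key comparison: for a base change `f` of `f₀`, and an open `Z₀'` of `X₀ ×_{Y₀} X₀` through
which the diagonal of `f₀` factors, the diagonal of `f` is an open immersion iff the base change
of the factored diagonal is an open immersion. -/
theorem isOpenImmersion_stageMap_diagonal_iff {S' S₀ X₀ Y₀ X Y : Scheme.{u}} (π : S' ⟶ S₀)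
    (f₀ : X₀ ⟶ Y₀) (g₀ : Y₀ ⟶ S₀) (f : X ⟶ Y) (g : Y ⟶ S') (qY : Y ⟶ Y₀) (qX : X ⟶ X₀)
    (hY : IsPullback qY g g₀ π) (hX : IsPullback qX f f₀ qY)
    (Z₀' : (pullback f₀ f₀).Opens) (Δ₀' : X₀ ⟶ Z₀')
    (hΔ : Δ₀' ≫ Z₀'.ι = pullback.diagonal f₀) :
    IsOpenImmersion (stageMap π Δ₀' (Z₀'.ι ≫ pullback.fst f₀ f₀ ≫ f₀ ≫ g₀)) ↔
      IsOpenImmersion (pullback.diagonal f) := by
  let m : pullback f f ⟶ pullback f₀ f₀ := pullback.map f f f₀ f₀ qX qX qY hX.w.symm hX.w.symm
  have h1 : IsPullback qX (pullback.diagonal f) (pullback.diagonal f₀) m :=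
    isPullback_diagonal_of_isPullback hX
  have h3 : IsPullback m (pullback.fst f f ≫ f) (pullback.fst f₀ f₀ ≫ f₀) qY :=
    isPullback_map_diagonalObj_of_isPullback hX
  let Z' : (pullback f f).Opens := m ⁻¹ᵁ Z₀'
  have hrange : Set.range (pullback.diagonal f).base ⊆ Set.range Z'.ι.base := by
    rintro _ ⟨x, rfl⟩
    have hx : (pullback.diagonal f).base x ∈ Z' := by
      show m.base ((pullback.diagonal f).base x) ∈ Z₀'
      rw [← Scheme.Hom.comp_apply, ← h1.w, ← hΔ]
      simp only [Scheme.Hom.comp_apply]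
      exact (Δ₀'.base (qX.base x)).2
    simpa using hx
  let Δ' : X ⟶ Z' := IsOpenImmersion.lift Z'.ι (pullback.diagonal f) hrange
  have hΔ' : Δ' ≫ Z'.ι = pullback.diagonal f := IsOpenImmersion.lift_fac _ _ _
  have hres : IsPullback (m ∣_ Z₀') Z'.ι Z₀'.ι m := isPullback_morphismRestrict m Z₀'
  have hZ : IsPullback (m ∣_ Z₀') (Z'.ι ≫ pullback.fst f f ≫ f ≫ g)
      (Z₀'.ι ≫ pullback.fst f₀ f₀ ≫ f₀ ≫ g₀) π := by
    have := (hres.paste_vert h3).paste_vert hY
    simpa only [Category.assoc] using this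
  have hcomm : qX ≫ Δ₀' = Δ' ≫ (m ∣_ Z₀') := by
    rw [← cancel_mono Z₀'.ι, Category.assoc, Category.assoc, hΔ, hres.w, ← Category.assoc, hΔ',
      h1.w]
  have hsq : IsPullback qX Δ' Δ₀' (m ∣_ Z₀') := by
    refine IsPullback.of_bot ?_ hcomm hres
    rw [hΔ, hΔ']
    exact h1
  rw [stageMap_iff_of_isPullback @IsOpenImmersion hZ hsq]
  constructor
  · intro h
    rw [← hΔ']
    infer_instance
  · intro h
    have : IsOpenImmersion (Δ' ≫ Z'.ι) := by rw [hΔ']; exact h
    exact IsOpenImmersion.of_comp Δ' Z'.ι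

end scheme

section descent

variable {I : Type u} [SmallCategory I] [IsCofiltered I] (D : I ⥤ Scheme.{u}) (c : Cone D)
  (hc : IsLimit c) [hD : ∀ (i j : I) (f : i ⟶ j), IsAffineHom (D.map f)]

include hc in
/-- Descent of formally unramified morphisms: `X₀` quasi-compact, `f₀` locally of finite type, no
hypothesis on `Y₀` or on the base stage. -/
theorem exists_formallyUnramified_stageMap (i₀ : I) {X₀ Y₀ : Scheme.{u}} (f₀ : X₀ ⟶ Y₀)
    (g₀ : Y₀ ⟶ D.obj i₀) [LocallyOfFiniteType f₀] [CompactSpace X₀]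
    (h : FormallyUnramified (stageMap (c.π.app i₀) f₀ g₀)) :
    ∃ l : Over i₀, FormallyUnramified (stageMap (D.map l.hom) f₀ g₀) := by
  classical
  let Δ₀ : X₀ ⟶ pullback f₀ f₀ := pullback.diagonal f₀
  let O : (pullback f₀ f₀).Opens := Δ₀.coborderRange
  have hK : IsCompact (Set.range Δ₀.base) := isCompact_range Δ₀.continuous
  have hKO : Set.range Δ₀.base ⊆ (O : Set ↥(pullback f₀ f₀)) := by
    rintro _ ⟨x, rfl⟩
    have : (Δ₀.liftCoborder ≫ O.ι).base x ∈ O := by
      rw [Scheme.Hom.comp_apply]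
      exact (Δ₀.liftCoborder.base x).2
    rwa [Δ₀.liftCoborder_ι] at this
  -- a quasi-compact open neighbourhood of the diagonal inside the coborder
  have hW : ∀ z : Set.range Δ₀.base, ∃ W : (pullback f₀ f₀).Opens,
      IsAffineOpen W ∧ z.1 ∈ W ∧ W ≤ O := by
    intro z
    obtain ⟨W, hWa, hzW, hWO⟩ := ((pullback f₀ f₀).isBasis_affineOpens).exists_subset_of_mem_open
      (hKO z.2) O.isOpen
    obtain ⟨W, hW, rfl⟩ := hWa
    exact ⟨W, hW, hzW, hWO⟩
  choose W hWa hzW hWO using hW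
  obtain ⟨t, ht⟩ := hK.elim_finite_subcover (fun z => (W z : Set ↥(pullback f₀ f₀)))
    (fun z => (W z).isOpen) (fun z hz => Set.mem_iUnion.2 ⟨⟨z, hz⟩, hzW ⟨z, hz⟩⟩)
  let Z₀' : (pullback f₀ f₀).Opens := ⨆ z ∈ t, W z
  have hZ₀'O : Z₀' ≤ O := iSup₂_le fun z _ => hWO z
  have hZ₀'c : CompactSpace ↥(Z₀' : Scheme.{u}) := by
    refine isCompact_iff_compactSpace.mp ?_
    show IsCompact ((⨆ z ∈ t, W z : (pullback f₀ f₀).Opens) : Set ↥(pullback f₀ f₀))
    simp only [TopologicalSpace.Opens.coe_iSup]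
    exact t.isCompact_biUnion fun z _ => (hWa z).isCompact
  have hrange : Set.range Δ₀.base ⊆ Set.range Z₀'.ι.base := by
    intro z hz
    have : z ∈ (Z₀' : Set ↥(pullback f₀ f₀)) := by
      have := ht hz
      simpa [Z₀'] using this
    simpa using this
  let Δ₀' : X₀ ⟶ Z₀' := IsOpenImmersion.lift Z₀'.ι Δ₀ hrange
  have hΔ : Δ₀' ≫ Z₀'.ι = pullback.diagonal f₀ := IsOpenImmersion.lift_fac _ _ _
  have hci : IsClosedImmersion Δ₀' := by
    have e : Δ₀' ≫ (pullback f₀ f₀).homOfLE hZ₀'O = Δ₀.liftCoborder := by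
      rw [← cancel_mono O.ι, Category.assoc, Scheme.homOfLE_ι, hΔ, Δ₀.liftCoborder_ι]
    have : IsClosedImmersion (Δ₀' ≫ (pullback f₀ f₀).homOfLE hZ₀'O) := by
      rw [e]; infer_instance
    exact IsClosedImmersion.of_comp Δ₀' ((pullback f₀ f₀).homOfLE hZ₀'O)
  have hlfp : LocallyOfFinitePresentation Δ₀' := by
    have : LocallyOfFinitePresentation (Δ₀' ≫ Z₀'.ι) := by
      rw [hΔ]; infer_instance
    exact Groth.Agent.Lib.helper7.locallyOfFinitePresentation_of_comp Δ₀' Z₀'.ι
  let h₀' : (Z₀' : Scheme.{u}) ⟶ D.obj i₀ := Z₀'.ι ≫ pullback.fst f₀ f₀ ≫ f₀ ≫ g₀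
  have hlft : LocallyOfFiniteType (stageMap (c.π.app i₀) f₀ g₀) :=
    MorphismProperty.of_isPullback (P := @LocallyOfFiniteType)
      (isPullback_stageMap (c.π.app i₀) f₀ g₀) inferInstance
  have hP : IsOpenImmersion (stageMap (c.π.app i₀) Δ₀' h₀') :=
    (isOpenImmersion_stageMap_diagonal_iff (c.π.app i₀) f₀ g₀ (stageMap (c.π.app i₀) f₀ g₀)
      (pullback.fst (c.π.app i₀) g₀) (pullback.snd (c.π.app i₀) g₀)
      (pullback.snd (c.π.app i₀) (f₀ ≫ g₀)) (isPullback_stage_base (c.π.app i₀) g₀)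
      (isPullback_stageMap (c.π.app i₀) f₀ g₀) Z₀' Δ₀' hΔ).mpr inferInstance
  obtain ⟨l, hl⟩ := qcqsBaseDescent_isOpenImmersion.exists_stageMap D c hc i₀ Δ₀' h₀' hlfp hP
  refine ⟨l, ?_⟩
  have hlftl : LocallyOfFiniteType (stageMap (D.map l.hom) f₀ g₀) :=
    MorphismProperty.of_isPullback (P := @LocallyOfFiniteType)
      (isPullback_stageMap (D.map l.hom) f₀ g₀) inferInstance
  have : IsOpenImmersion (pullback.diagonal (stageMap (D.map l.hom) f₀ g₀)) :=
    (isOpenImmersion_stageMap_diagonal_iff (D.map l.hom) f₀ g₀ (stageMap (D.map l.hom) f₀ g₀)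
      (pullback.fst (D.map l.hom) g₀) (pullback.snd (D.map l.hom) g₀)
      (pullback.snd (D.map l.hom) (f₀ ≫ g₀)) (isPullback_stage_base (D.map l.hom) g₀)
      (isPullback_stageMap (D.map l.hom) f₀ g₀) Z₀' Δ₀' hΔ).mp hl
  infer_instance

end descent

end Groth.Agent.Lib.helper9
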