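/-
Helper library (helper9): a morphism of finite presentation `X ⟶ Spec A` with a property that
descends along limits (étale, smooth, unramified) has a model with the same property over a
finitely generated `ℤ`-subalgebra of `A`.
-/
import Groth.Agent.Lib.Helper9.FPDescend2
import Groth.Agent.Lib.Helper9.ModelDescendGen
import Groth.Agent.Lib.Helper9.UnramDescend
import Groth.Agent.Lib.Helper9.FGLimitZ

set_option autoImplicit false
set_option linter.style.haveILetI false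
set_option backward.isDefEq.respectTransparency false

namespace Groth.Agent.Lib.helper9

open AlgebraicGeometry CategoryTheory Limits
open Groth.Agent.Lib.helper9.FGLimitZ

universe u

theorem exists_model_over_fg (P : MorphismProperty Scheme.{u}) [P.RespectsIso]
    (A : Type u) [CommRing A]
    (hdesc : ∀ (s : (Finset A)ᵒᵖ) {X₀ : Scheme.{u}} (f₀ : X₀ ⟶ (specDiagram A).obj s)
      [CompactSpace X₀] [LocallyOfFinitePresentation f₀],
      P (stageMap ((specCone A).π.app s) f₀ (𝟙 _)) →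
        ∃ l : Over s, P (stageMap ((specDiagram A).map l.hom) f₀ (𝟙 _)))
    {X : Scheme.{u}} (f : X ⟶ Spec (CommRingCat.of A)) [LocallyOfFinitePresentation f]
    [QuasiCompact f] [QuasiSeparated f] (hf : P f) :
    ∃ A₀ : Subalgebra ℤ A, A₀.FG ∧
      ∃ (X₀ : Scheme.{u}) (f₀ : X₀ ⟶ Spec (CommRingCat.of ↥A₀)) (g : X ⟶ X₀),
        P f₀ ∧ LocallyOfFinitePresentation f₀ ∧ QuasiCompact f₀ ∧ QuasiSeparated f₀ ∧
          IsPullback g f f₀ (Spec.map (CommRingCat.ofHom (algebraMap (↥A₀) A))) := by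
  have hlim := isLimitSpecCone A
  let f' : X ⟶ (specCone A).pt := f
  have h1 : LocallyOfFinitePresentation f' := (inferInstance : LocallyOfFinitePresentation f)
  have h2 : QuasiCompact f' := (inferInstance : QuasiCompact f)
  have h3 : QuasiSeparated f' := (inferInstance : QuasiSeparated f)
  have h4 : P f' := hf
  obtain ⟨s, ⟨M⟩⟩ := FPModel.exists_model (D := specDiagram A) (c := specCone A) hlim f'
  have : CompactSpace M.X₀ := M.compactSpace_X₀
  obtain ⟨t, a, ht⟩ := M.exists_rebase_of_descent P (fun h => hdesc s M.f₀ h) h4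
  exact ⟨adj A t.unop, Subalgebra.fg_adjoin_finset _,
    (M.rebase a).X₀, (M.rebase a).f₀, (M.rebase a).g, ht, (M.rebase a).lfp, (M.rebase a).qc,
    (M.rebase a).qs, (M.rebase a).pb⟩

theorem exists_etale_model_over_fg (A : Type u) [CommRing A] {X : Scheme.{u}}
    (f : X ⟶ Spec (CommRingCat.of A)) [Etale f] [QuasiCompact f] [QuasiSeparated f] :
    ∃ A₀ : Subalgebra ℤ A, A₀.FG ∧
      ∃ (X₀ : Scheme.{u}) (f₀ : X₀ ⟶ Spec (CommRingCat.of ↥A₀)) (g : X ⟶ X₀),
        Etale f₀ ∧ QuasiCompact f₀ ∧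
          IsPullback g f f₀ (Spec.map (CommRingCat.ofHom (algebraMap (↥A₀) A))) := by
  obtain ⟨A₀, h0, X₀, f₀, g, h1, -, h3, -, h5⟩ := exists_model_over_fg @Etale A
    (fun s _ f₀ _ _ h => exists_etale_stageMap _ _ (isLimitSpecCone A) s f₀ (𝟙 _) h) f
    ‹Etale f›
  exact ⟨A₀, h0, X₀, f₀, g, h1, h3, h5⟩

theorem exists_smooth_model_over_fg (A : Type u) [CommRing A] {X : Scheme.{u}}
    (f : X ⟶ Spec (CommRingCat.of A)) [Smooth f] [QuasiCompact f] [QuasiSeparated f] :
    ∃ A₀ : Subalgebra ℤ A, A₀.FG ∧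
      ∃ (X₀ : Scheme.{u}) (f₀ : X₀ ⟶ Spec (CommRingCat.of ↥A₀)) (g : X ⟶ X₀),
        Smooth f₀ ∧ QuasiCompact f₀ ∧
          IsPullback g f f₀ (Spec.map (CommRingCat.ofHom (algebraMap (↥A₀) A))) := by
  obtain ⟨A₀, h0, X₀, f₀, g, h1, -, h3, -, h5⟩ := exists_model_over_fg @Smooth A
    (fun s _ f₀ _ _ h => exists_smooth_stageMap _ _ (isLimitSpecCone A) s f₀ (𝟙 _) h) f
    ‹Smooth f›
  exact ⟨A₀, h0, X₀, f₀, g, h1, h3, h5⟩

theorem exists_unramified_model_over_fg (A : Type u) [CommRing A] {X : Scheme.{u}}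
    (f : X ⟶ Spec (CommRingCat.of A)) [FormallyUnramified f] [LocallyOfFinitePresentation f]
    [QuasiCompact f] [QuasiSeparated f] :
    ∃ A₀ : Subalgebra ℤ A, A₀.FG ∧
      ∃ (X₀ : Scheme.{u}) (f₀ : X₀ ⟶ Spec (CommRingCat.of ↥A₀)) (g : X ⟶ X₀),
        FormallyUnramified f₀ ∧ LocallyOfFinitePresentation f₀ ∧ QuasiCompact f₀ ∧
          IsPullback g f f₀ (Spec.map (CommRingCat.ofHom (algebraMap (↥A₀) A))) := by
  obtain ⟨A₀, h0, X₀, f₀, g, h1, h2, h3, -, h5⟩ := exists_model_over_fg @FormallyUnramified A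
    (fun s _ f₀ _ _ h =>
      exists_formallyUnramified_stageMap _ _ (isLimitSpecCone A) s f₀ (𝟙 _) h) f
    ‹FormallyUnramified f›
  exact ⟨A₀, h0, X₀, f₀, g, h1, h2, h3, h5⟩

end Groth.Agent.Lib.helper9
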