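import Mathlib

/-!
# Extending morphisms to a smooth scheme along a closed immersion, étale locally (helper9)

* `isOpenImmersion_of_comp_unramified`: if `σ ≫ g` is an open immersion and `g` is locally of finite
  type and formally unramified, `σ` is an open immersion.
* `exists_extend_affineSpace`: maps to `𝔸ⁿ_R` extend along closed immersions of affine schemes.
* `exists_etale_chart`: a smooth morphism is, locally, étale over an affine space.
-/

set_option autoImplicit false
set_option linter.style.haveILetI false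
set_option backward.isDefEq.respectTransparency false

namespace Groth.Agent.Lib.helper9.SmoothExt

open AlgebraicGeometry CategoryTheory Limits

universe u

lemma isOpenImmersion_of_comp_unramified {X Y Z : Scheme.{u}} (σ : X ⟶ Y) (g : Y ⟶ Z)
    [LocallyOfFiniteType g] [FormallyUnramified g] [IsOpenImmersion (σ ≫ g)] :
    IsOpenImmersion σ := by
  have : MorphismProperty.HasOfPostcompProperty @IsOpenImmersion
      (@LocallyOfFiniteType ⊓ @FormallyUnramified) := by
    rw [MorphismProperty.hasOfPostcompProperty_iff_le_diagonal]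
    intro X Y f ⟨hft, hfu⟩
    exact inferInstanceAs <| IsOpenImmersion (pullback.diagonal f)
  exact MorphismProperty.of_postcomp _ (W' := @LocallyOfFiniteType ⊓ @FormallyUnramified) σ g
    ⟨‹_›, ‹_›⟩ ‹_›

/-- Morphisms to affine space extend along closed immersions of affine schemes. -/
lemma exists_extend_affineSpace {R : CommRingCat.{u}} (n : ℕ) {X' X₀' : Scheme.{u}} [IsAffine X']
    (j' : X₀' ⟶ X') [IsClosedImmersion j'] (t : X' ⟶ Spec R)
    (g₀ : X₀' ⟶ Spec (CommRingCat.of (MvPolynomial (Fin n) R)))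
    (hg₀ : g₀ ≫ Spec.map (CommRingCat.ofHom (MvPolynomial.C (σ := Fin n) (R := R))) = j' ≫ t) :
    ∃ h : X' ⟶ Spec (CommRingCat.of (MvPolynomial (Fin n) R)),
      j' ≫ h = g₀ ∧ h ≫ Spec.map (CommRingCat.ofHom (MvPolynomial.C (σ := Fin n) (R := R))) = t := by
  obtain ⟨haff, hsurj⟩ := IsClosedImmersion.isAffine_surjective_of_isAffine j'
  -- ring maps
  obtain ⟨γ₀, hγ₀⟩ := Spec.map_surjective (X₀'.isoSpec.inv ≫ g₀)
  obtain ⟨τ, hτ⟩ := Spec.map_surjective (X'.isoSpec.inv ≫ t)
  have hcomm : CommRingCat.ofHom (MvPolynomial.C (σ := Fin n) (R := R)) ≫ γ₀ = τ ≫ j'.appTop := by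
    apply Spec.map_injective
    rw [Spec.map_comp, Spec.map_comp, hγ₀, hτ, Category.assoc, hg₀,
      Scheme.isoSpec_inv_naturality_assoc]
  have hlift : ∀ k : Fin n, ∃ a : Γ(X', ⊤), j'.appTop.hom a = γ₀.hom (MvPolynomial.X k) :=
    fun k => hsurj _
  choose a ha using hlift
  let ψ : MvPolynomial (Fin n) R →+* Γ(X', ⊤) := MvPolynomial.eval₂Hom τ.hom a
  have hψ : CommRingCat.ofHom ψ ≫ j'.appTop = γ₀ := by
    ext1
    apply MvPolynomial.ringHom_ext
    · intro r
      have := congrArg (fun φ => φ.hom r) hcomm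
      simp only [CommRingCat.hom_comp, CommRingCat.hom_ofHom, RingHom.coe_comp,
        Function.comp_apply] at this
      simp only [CommRingCat.hom_comp, CommRingCat.hom_ofHom, RingHom.coe_comp,
        Function.comp_apply, ψ, MvPolynomial.coe_eval₂Hom, MvPolynomial.eval₂_C]
      exact this.symm
    · intro k
      simp only [CommRingCat.hom_comp, CommRingCat.hom_ofHom, RingHom.coe_comp,
        Function.comp_apply, ψ, MvPolynomial.coe_eval₂Hom, MvPolynomial.eval₂_X]
      exact ha k
  refine ⟨X'.isoSpec.hom ≫ Spec.map (CommRingCat.ofHom ψ), ?_, ?_⟩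
  · rw [← Scheme.isoSpec_hom_naturality_assoc, ← Spec.map_comp, hψ, hγ₀, Iso.hom_inv_id_assoc]
  · rw [Category.assoc, ← Spec.map_comp]
    have : CommRingCat.ofHom (MvPolynomial.C (σ := Fin n) (R := R)) ≫ CommRingCat.ofHom ψ = τ := by
      ext1
      ext r
      simp [ψ]
    rw [this, hτ, Iso.hom_inv_id_assoc]

/-- A smooth morphism is locally étale over an affine space. -/
lemma exists_etale_chart {Y S : Scheme.{u}} (q : Y ⟶ S) [Smooth q] (y : Y) :
    ∃ (S' : S.Opens) (hS' : IsAffineOpen S') (W : Y.Opens) (_ : IsAffineOpen W) (_ : y ∈ W)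
      (_ : W ≤ q ⁻¹ᵁ S') (n : ℕ)
      (π : (W : Scheme.{u}) ⟶ Spec (CommRingCat.of (MvPolynomial (Fin n) Γ(S, S')))),
      Etale π ∧
      π ≫ Spec.map (CommRingCat.ofHom (MvPolynomial.C (σ := Fin n) (R := Γ(S, S')))) ≫
        hS'.fromSpec = W.ι ≫ q := by
  obtain ⟨S', hS', W, hW, hyW, e, hstd⟩ := Smooth.exists_isStandardSmooth q y
  obtain ⟨n, φ, hφC, hφ⟩ := RingHom.IsStandardSmooth.exists_etale_mvPolynomial hstd
  have hπ : Etale (Spec.map (CommRingCat.ofHom φ)) := HasRingHomProperty.Spec_iff.mpr hφ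
  refine ⟨S', hS', W, hW, hyW, e, n, hW.isoSpec.hom ≫ Spec.map (CommRingCat.ofHom φ),
    inferInstance, ?_⟩
  have h1 : CommRingCat.ofHom (MvPolynomial.C (σ := Fin n) (R := Γ(S, S'))) ≫
      CommRingCat.ofHom φ = q.appLE S' W e := by
    ext1
    exact hφC
  rw [Category.assoc, ← Spec.map_comp_assoc, h1, IsAffineOpen.SpecMap_appLE_fromSpec q hS' hW e,
    IsAffineOpen.isoSpec_hom_fromSpec_assoc]

end Groth.Agent.Lib.helper9.SmoothExt
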