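import Groth.Agent.Lib.Helper9.ZMTFin5
import Mathlib.AlgebraicGeometry.ZariskisMainTheorem

/-!
# ZMT, finite form (helper9), part 6: Zariski's Main Theorem, finite factorization

A quasi-finite separated morphism `f : X ⟶ S` (l.f.t., quasi-compact) to a qcqs scheme factors as a
quasi-compact open immersion followed by a finite morphism.
-/

set_option autoImplicit false
set_option linter.style.haveILetI false
universe u

open CategoryTheory CategoryTheory.Limits AlgebraicGeometry TopologicalSpace Opposite

namespace Groth.Agent.Lib.helper9.ZMTFin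

/-- an open immersion into an integral `S`-scheme, with quasi-compact l.f.t. composite, factors
through a finite `S`-scheme as a quasi-compact open immersion. -/
theorem zmt_finite_aux {X N S : Scheme.{u}} (t : X ⟶ N) (ν : N ⟶ S) [IsIntegralHom ν]
    [IsOpenImmersion t] [CompactSpace S] [QuasiSeparatedSpace S]
    [QuasiCompact (t ≫ ν)] [LocallyOfFiniteType (t ≫ ν)] :
    ∃ (T : Scheme.{u}) (j : X ⟶ T) (π : T ⟶ S),
      IsOpenImmersion j ∧ QuasiCompact j ∧ IsFinite π ∧ j ≫ π = t ≫ ν := by
  let O := t.opensRange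
  have hO : t.isoOpensRange.hom ≫ O.ι = t := t.isoOpensRange_hom_ι
  have hOν : O.ι ≫ ν = t.isoOpensRange.inv ≫ t ≫ ν := by
    rw [← Category.assoc, Scheme.Hom.isoOpensRange_inv_comp]
  haveI : QuasiCompact (O.ι ≫ ν) := by rw [hOν]; infer_instance
  haveI : LocallyOfFiniteType (O.ι ≫ ν) := by rw [hOν]; infer_instance
  obtain ⟨T, m, π, hπ, hmπ, hm⟩ := exists_finite_factor ν O
  refine ⟨T, t ≫ m, π, ?_, ?_, hπ, ?_⟩
  · have : t ≫ m = t.isoOpensRange.hom ≫ O.ι ≫ m := by
      rw [← Category.assoc, hO]
    rw [this]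
    infer_instance
  · haveI : QuasiCompact ((t ≫ m) ≫ π) := by
      rw [Category.assoc, hmπ]; infer_instance
    exact MorphismProperty.of_postcomp (W := @QuasiCompact) (W' := @QuasiSeparated) (t ≫ m) π
      inferInstance inferInstance
  · rw [Category.assoc, hmπ]

theorem zmt_finite {X S : Scheme.{u}} (f : X ⟶ S) [CompactSpace S] [QuasiSeparatedSpace S]
    [LocallyQuasiFinite f] [LocallyOfFiniteType f] [QuasiCompact f] [IsSeparated f] :
    ∃ (T : Scheme.{u}) (j : X ⟶ T) (π : T ⟶ S),
      IsOpenImmersion j ∧ QuasiCompact j ∧ IsFinite π ∧ j ≫ π = f := by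
  haveI : QuasiCompact (f.toNormalization ≫ f.fromNormalization) := by
    rw [f.toNormalization_fromNormalization]; infer_instance
  haveI : LocallyOfFiniteType (f.toNormalization ≫ f.fromNormalization) := by
    rw [f.toNormalization_fromNormalization]; infer_instance
  obtain ⟨T, j, π, h1, h2, h3, h4⟩ := zmt_finite_aux f.toNormalization f.fromNormalization
  exact ⟨T, j, π, h1, h2, h3, h4.trans f.toNormalization_fromNormalization⟩

end Groth.Agent.Lib.helper9.ZMTFin
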