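import Mathlib
import Groth.Agent.Lib.Helper9.ZMTFin6
import Groth.Agent.Lib.Helper9.SmoothExt1
import Groth.Agent.Lib.Helper1.FinAff

/-!
# Henselian couples (clopen-lifting form): sections of étale separated morphisms lift (helper9)

`IsHC i` : for every finite `g : S' ⟶ S`, clopen subsets of `S' ×_S S₀` lift uniquely to clopen
subsets of `S'`  (EGA IV 18.5.11 a)).

* `eq_empty_of_disjoint`: a closed subset of `S` missing `S₀` is empty.
* `eq_univ_of_isClopen`: a clopen subset containing `S₀` is everything.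
* `section_unique`: sections of an étale separated `g` agreeing on `S₀` agree.
* `isIso_of_isIso_snd`: a finite étale `h : Y ⟶ S` whose base change to `S₀` is an iso is an iso.
* `exists_section`: (S qcqs) a lift `w₀ : S₀ ⟶ S'` of `i` along étale separated `g` extends to a
  section of `g`.
-/

set_option autoImplicit false
set_option linter.style.haveILetI false
set_option backward.isDefEq.respectTransparency false

namespace Groth.Agent.Lib.helper9.HensCouple

open AlgebraicGeometry CategoryTheory Limits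

universe u

/-- the clopen-lifting form of "henselian couple". -/
def IsHC {S S₀ : Scheme.{u}} (i : S₀ ⟶ S) : Prop :=
  ∀ (S' : Scheme.{u}) (g : S' ⟶ S), IsFinite g →
    ∀ V : Set ↥(pullback g i), IsClopen V →
      ∃! U : Set ↥S', IsClopen U ∧ (pullback.fst g i).base ⁻¹' U = V

variable {S S₀ : Scheme.{u}} (i : S₀ ⟶ S)

lemma eq_empty_of_disjoint (ha : IsHC i) (Z : Set S) (hZ : IsClosed Z)
    (hdisj : ∀ s₀ : S₀, i.base s₀ ∉ Z) : Z = ∅ := by
  let I := Scheme.IdealSheafData.vanishingIdeal ⟨Z, hZ⟩
  have hrange : Set.range I.subschemeι = Z := by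
    rw [I.range_subschemeι]; exact Scheme.IdealSheafData.coe_support_vanishingIdeal _
  haveI : IsEmpty ↥(pullback I.subschemeι i) := by
    refine ⟨fun p => ?_⟩
    apply hdisj ((pullback.snd I.subschemeι i) p)
    have : i ((pullback.snd _ i) p) = I.subschemeι ((pullback.fst _ i) p) := by
      rw [← Scheme.Hom.comp_apply, ← Scheme.Hom.comp_apply, pullback.condition]
    show i ((pullback.snd _ i) p) ∈ Z
    rw [this, ← hrange]; exact ⟨_, rfl⟩
  obtain ⟨U, _, hU⟩ := ha _ I.subschemeι inferInstance ∅ isClopen_empty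
  have h1 : (∅ : Set I.subscheme) = U := hU ∅ ⟨isClopen_empty, Set.eq_empty_of_isEmpty _⟩
  have h2 : (Set.univ : Set I.subscheme) = U := hU _ ⟨isClopen_univ, Set.eq_empty_of_isEmpty _⟩
  have : IsEmpty I.subscheme := by
    rw [← Set.univ_eq_empty_iff, h2, ← h1]
  rw [← hrange]; exact Set.range_eq_empty _

lemma eq_univ_of_isClopen (ha : IsHC i) (W : Set S) (hW : IsClopen W)
    (h : ∀ s₀ : S₀, i.base s₀ ∈ W) : W = Set.univ := by
  have := eq_empty_of_disjoint i ha Wᶜ hW.compl.isClosed (fun s₀ hs => hs (h s₀))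
  exact Set.compl_empty_iff.mp this

lemma isOpenImmersion_of_section {X Y : Scheme.{u}} (g : X ⟶ Y) [Etale g] (u : Y ⟶ X)
    (hu : u ≫ g = 𝟙 Y) : IsOpenImmersion u := by
  haveI : IsOpenImmersion (u ≫ g) := by rw [hu]; infer_instance
  exact SmoothExt.isOpenImmersion_of_comp_unramified u g

lemma isClosedImmersion_of_section {X Y : Scheme.{u}} (g : X ⟶ Y) [IsSeparated g] (u : Y ⟶ X)
    (hu : u ≫ g = 𝟙 Y) : IsClosedImmersion u := by
  haveI : IsClosedImmersion (u ≫ g) := by rw [hu]; infer_instance
  exact IsClosedImmersion.of_comp u g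

lemma section_unique (ha : IsHC i) {S' : Scheme.{u}} (g : S' ⟶ S) [Etale g] [IsSeparated g]
    (u u' : S ⟶ S') (hu : u ≫ g = 𝟙 S) (hu' : u' ≫ g = 𝟙 S) (h : i ≫ u = i ≫ u') : u = u' := by
  haveI := isOpenImmersion_of_section g u' hu'
  haveI := isClosedImmersion_of_section g u' hu'
  have hW : IsClopen (u.base ⁻¹' Set.range u'.base) :=
    ⟨u'.isClosedEmbedding.isClosed_range.preimage u.continuous,
      u'.isOpenEmbedding.isOpen_range.preimage u.continuous⟩
  have huniv := eq_univ_of_isClopen i ha _ hW (fun s₀ => ⟨i.base s₀, by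
    have := congrArg (fun f => f.base s₀) h
    simpa using this.symm⟩)
  have hsub : Set.range u.base ⊆ Set.range u'.base := by
    rintro _ ⟨s, rfl⟩
    have : s ∈ u.base ⁻¹' Set.range u'.base := by rw [huniv]; trivial
    exact this
  have hl : IsOpenImmersion.lift u' u hsub ≫ u' = u := IsOpenImmersion.lift_fac _ _ _
  have : IsOpenImmersion.lift u' u hsub = 𝟙 S := by
    calc _ = IsOpenImmersion.lift u' u hsub ≫ u' ≫ g := by rw [hu', Category.comp_id]
    _ = u ≫ g := by rw [← Category.assoc, hl]
    _ = 𝟙 S := hu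
  rw [← hl, this, Category.id_comp]

lemma exists_compact_open_of_isCompact (W : Scheme.{u}) (K : Set W) (hK : IsCompact K) :
    ∃ W' : W.Opens, IsCompact (W' : Set W) ∧ K ⊆ W' := by
  have h : ∀ x : W, ∃ A : W.Opens, IsAffineOpen A ∧ x ∈ A := by
    intro x
    obtain ⟨_, ⟨A, hA, rfl⟩, hxA, -⟩ :=
      W.isBasis_affineOpens.exists_subset_of_mem_open (Set.mem_univ x) isOpen_univ
    exact ⟨A, hA, hxA⟩
  choose A hA hxA using h
  obtain ⟨t, -, hcover⟩ := hK.elim_nhds_subcover (fun x => (A x : Set W))
    (fun x _ => (A x).isOpen.mem_nhds (hxA x))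
  have hcoe : ((⨆ x ∈ t, A x : W.Opens) : Set W) = ⋃ x ∈ t, (A x : Set W) := by simp
  refine ⟨⨆ x ∈ t, A x, ?_, ?_⟩
  · rw [hcoe]
    exact t.isCompact_biUnion (fun x _ => (hA x).isCompact)
  · rw [hcoe]; exact hcover

/-- a finite étale `h : Y ⟶ S` whose base change to `S₀` is an isomorphism is an isomorphism. -/
lemma isIso_of_isIso_snd (ha : IsHC i) {Y : Scheme.{u}} (h : Y ⟶ S) [IsFinite h] [Etale h]
    [IsIso (pullback.snd h i)] : IsIso h := by
  -- Step 1: `h` is a monomorphism, via the diagonal
  let Δ : Y ⟶ pullback h h := pullback.diagonal h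
  haveI : IsOpenImmersion Δ := inferInstanceAs <| IsOpenImmersion (pullback.diagonal h)
  haveI : IsClosedImmersion Δ := inferInstanceAs <| IsClosedImmersion (pullback.diagonal h)
  let q : pullback h h ⟶ S := pullback.fst h h ≫ h
  haveI : IsFinite q := inferInstance
  have hq2 : pullback.snd h h ≫ h = q := pullback.condition.symm
  let α : pullback q i ⟶ pullback h i :=
    pullback.map q i h i (pullback.fst h h) (𝟙 _) (𝟙 _) (by simp [q]) (by simp)
  let β : pullback q i ⟶ pullback h i :=
    pullback.map q i h i (pullback.snd h h) (𝟙 _) (𝟙 _) (by rw [hq2, Category.comp_id]) (by simp)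
  have hαβ : α = β := by
    rw [← cancel_mono (pullback.snd h i)]
    simp [α, β]
  have hfs : pullback.fst q i ≫ pullback.fst h h = pullback.fst q i ≫ pullback.snd h h := by
    have h1 : α ≫ pullback.fst h i = pullback.fst q i ≫ pullback.fst h h := by simp [α]
    have h2 : β ≫ pullback.fst h i = pullback.fst q i ≫ pullback.snd h h := by simp [β]
    rw [← h1, ← h2, hαβ]
  have hfac : pullback.fst q i = (pullback.fst q i ≫ pullback.fst h h) ≫ Δ := by
    apply pullback.hom_ext
    · simp [Δ]
    · simp only [Δ, Category.assoc, pullback.diagonal_snd, Category.comp_id]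
      exact hfs.symm
  have hΔsurj : Set.range Δ.base = Set.univ := by
    obtain ⟨U, _, hU⟩ := ha _ q inferInstance Set.univ isClopen_univ
    have h1 : Set.range Δ.base = U := by
      apply hU
      refine ⟨⟨Δ.isClosedEmbedding.isClosed_range, Δ.isOpenEmbedding.isOpen_range⟩, ?_⟩
      rw [Set.eq_univ_iff_forall]
      intro p
      show (pullback.fst q i).base p ∈ Set.range Δ.base
      rw [hfac]
      exact ⟨_, rfl⟩
    have h2 : Set.univ = U := hU _ ⟨isClopen_univ, Set.preimage_univ⟩
    rw [h1, ← h2]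
  haveI : IsIso Δ := by
    rw [isIso_iff_isOpenImmersion_and_epi_base]
    refine ⟨inferInstance, (TopCat.epi_iff_surjective _).mpr ?_⟩
    exact Set.range_eq_univ.mp hΔsurj
  have hfstsnd : pullback.fst h h = pullback.snd h h := by
    rw [← cancel_epi Δ]
    simp [Δ]
  haveI : Mono h := ⟨fun a b hab => by
    have h1 : pullback.lift a b hab ≫ pullback.fst h h = a := pullback.lift_fst _ _ _
    have h2 : pullback.lift a b hab ≫ pullback.snd h h = b := pullback.lift_snd _ _ _
    exact h1.symm.trans ((congrArg (pullback.lift a b hab ≫ ·) hfstsnd).trans h2)⟩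
  -- Step 2: `h` is an open and closed immersion
  haveI : IsClosedImmersion h := (IsClosedImmersion.iff_isFinite_and_mono h).mpr ⟨inferInstance, inferInstance⟩
  haveI : IsOpenImmersion h := IsOpenImmersion.of_flat_of_mono h
  -- Step 3: `h` is surjective
  have hsurj : Set.range h.base = Set.univ := by
    apply eq_univ_of_isClopen i ha _
      ⟨h.isClosedEmbedding.isClosed_range, h.isOpenEmbedding.isOpen_range⟩
    intro s₀
    refine ⟨(pullback.fst h i).base ((inv (pullback.snd h i)).base s₀), ?_⟩
    have : (inv (pullback.snd h i) ≫ pullback.fst h i ≫ h).base s₀ = i.base s₀ := by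
      rw [pullback.condition, IsIso.inv_hom_id_assoc]
    simpa using this
  rw [isIso_iff_isOpenImmersion_and_epi_base]
  refine ⟨inferInstance, (TopCat.epi_iff_surjective _).mpr ?_⟩
  exact Set.range_eq_univ.mp hsurj

end Groth.Agent.Lib.helper9.HensCouple
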