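import Mathlib
import Groth.Agent.Lib.Helper9.HensCouple1

/-!
# helper9: morphisms to étale schemes descend along universal homeomorphisms (Stacks 04DZ)
-/

set_option autoImplicit false
set_option linter.style.haveILetI false
set_option backward.isDefEq.respectTransparency false

universe u

open AlgebraicGeometry CategoryTheory Limits MorphismProperty

namespace Groth.Agent.Lib.helper9.UHomEt

/-- Two morphisms to a scheme unramified over `Y` that agree after precomposition with a surjective
morphism are equal. -/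
theorem eq_of_comp_surjective {U V Y W : Scheme.{u}} (u : U ⟶ Y) (v : V ⟶ Y)
    [FormallyUnramified v] [LocallyOfFiniteType v]
    (a b : U ⟶ V) (ha : a ≫ v = u) (hb : b ≫ v = u) (p : W ⟶ U) [Surjective p]
    (h : p ≫ a = p ≫ b) : a = b := by
  let Δ := pullback.diagonal v
  let g : U ⟶ pullback v v := pullback.lift a b (by rw [ha, hb])
  let e : pullback g Δ ⟶ U := pullback.fst g Δ
  have hpg : p ≫ g = (p ≫ a) ≫ Δ := by
    apply pullback.hom_ext
    · simp only [g, Δ, Category.assoc, pullback.lift_fst, pullback.diagonal_fst, Category.comp_id]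
    · simp only [g, Δ, Category.assoc, pullback.lift_snd, pullback.diagonal_snd, Category.comp_id, h]
  let l : W ⟶ pullback g Δ := pullback.lift p (p ≫ a) hpg
  have hl : l ≫ e = p := pullback.lift_fst _ _ _
  have he_open : IsOpenImmersion e := inferInstance
  have hsurj : Function.Surjective e.base := by
    intro x
    obtain ⟨w, rfl⟩ := p.surjective x
    exact ⟨l.base w, by rw [← hl]; simp⟩
  have : Epi e.base := (TopCat.epi_iff_surjective _).2 hsurj
  have : IsIso e := IsOpenImmersion.isIso e
  have h1 : e ≫ a = pullback.snd g Δ := by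
    have : e ≫ g = pullback.snd g Δ ≫ Δ := pullback.condition
    have := congrArg (· ≫ pullback.fst v v) this
    simpa only [g, Δ, Category.assoc, pullback.lift_fst, pullback.diagonal_fst, Category.comp_id]
      using this
  have h2 : e ≫ b = pullback.snd g Δ := by
    have : e ≫ g = pullback.snd g Δ ≫ Δ := pullback.condition
    have := congrArg (· ≫ pullback.snd v v) this
    simpa only [g, Δ, Category.assoc, pullback.lift_snd, pullback.diagonal_snd, Category.comp_id]
      using this
  exact (cancel_epi e).1 (h1.trans h2.symm)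

/-- An étale, universally injective, surjective morphism is an isomorphism. -/
theorem isIso_of_etale_of_universallyInjective_of_surjective {U Y : Scheme.{u}} (ρ : U ⟶ Y)
    [Etale ρ] [UniversallyInjective ρ] [Surjective ρ] : IsIso ρ := by
  have hΔs : Surjective (pullback.diagonal ρ) := (UniversallyInjective.iff_diagonal ρ).mp ‹_›
  have hΔo : IsOpenImmersion (pullback.diagonal ρ) := inferInstance
  have : Epi (pullback.diagonal ρ).base := (TopCat.epi_iff_surjective _).2 hΔs.surj
  have : IsIso (pullback.diagonal ρ) := IsOpenImmersion.isIso _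
  have : Mono ρ := (pullback.isIso_diagonal_iff ρ).mp inferInstance
  have : IsOpenImmersion ρ := IsOpenImmersion.of_flat_of_mono ρ
  have : Epi ρ.base := (TopCat.epi_iff_surjective _).2 ρ.surjective
  exact IsOpenImmersion.isIso ρ

instance : DescendsAlong @Surjective.{u} @Surjective.{u} := inferInstance

instance : DescendsAlong @UniversallyInjective.{u} @Surjective.{u} := by
  rw [universallyInjective_eq_diagonal]
  infer_instance

/-- Descent of isomorphy for étale morphisms along surjective base change. -/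
theorem isIso_of_isPullback_of_surjective {A U Y Y' : Scheme.{u}} {fst : A ⟶ Y'} {snd : A ⟶ U}
    {h : Y' ⟶ Y} {ρ : U ⟶ Y} (H : IsPullback fst snd h ρ) [Surjective h] [Etale ρ] [IsIso fst] :
    IsIso ρ := by
  have h1 : Surjective ρ :=
    of_isPullback_of_descendsAlong (P := @Surjective.{u}) (Q := @Surjective.{u}) H ‹_›
      inferInstance
  have h2 : UniversallyInjective ρ :=
    of_isPullback_of_descendsAlong (P := @UniversallyInjective.{u}) (Q := @Surjective.{u}) H ‹_›
      inferInstance
  exact isIso_of_etale_of_universallyInjective_of_surjective ρ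

theorem isIso_ι_comp_of_section {E' Y' : Scheme.{u}} (p' : E' ⟶ Y') (s' : Y' ⟶ E')
    [IsOpenImmersion s'] (hs' : s' ≫ p' = 𝟙 Y') (W : E'.Opens) (hW : W = s'.opensRange) :
    IsIso (W.ι ≫ p') := by
  subst hW
  rw [← Scheme.Hom.isoOpensRange_inv_comp, Category.assoc, hs', Category.comp_id]
  infer_instance

/-- **Stacks 04DZ**: morphisms into a scheme étale over `S` descend uniquely along universal
homeomorphisms. -/
theorem existsUnique_descent {S X Y Y' : Scheme.{u}} (x : X ⟶ S) [Etale x] (y : Y ⟶ S)
    (h : Y' ⟶ Y) [IsIntegralHom h] [UniversallyInjective h] [Surjective h]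
    (ψ : Y' ⟶ X) (hψ : ψ ≫ x = h ≫ y) :
    ∃! φ : Y ⟶ X, φ ≫ x = y ∧ h ≫ φ = ψ := by
  refine existsUnique_of_exists_of_unique ?_ ?_
  swap
  · rintro φ₁ φ₂ ⟨h1, h1'⟩ ⟨h2, h2'⟩
    exact eq_of_comp_surjective y x φ₁ φ₂ h1 h2 h (h1'.trans h2'.symm)
  -- the étale map `p : E ⟶ Y` and its base change
  let p : pullback x y ⟶ Y := pullback.snd x y
  let q : pullback p h ⟶ pullback x y := pullback.fst p h
  let p' : pullback p h ⟶ Y' := pullback.snd p h
  let s₀ : Y' ⟶ pullback x y := pullback.lift ψ h hψ
  have hs₀ : s₀ ≫ p = h := pullback.lift_snd _ _ _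
  let s' : Y' ⟶ pullback p h := pullback.lift s₀ (𝟙 Y') (by rw [hs₀, Category.id_comp])
  have hs'p : s' ≫ p' = 𝟙 Y' := pullback.lift_snd _ _ _
  have hs'q : s' ≫ q = s₀ := pullback.lift_fst _ _ _
  have : IsOpenImmersion s' := Groth.Agent.Lib.helper9.HensCouple.isOpenImmersion_of_section p' s' hs'p
  -- the open image
  have : UniversallyInjective q :=
    MorphismProperty.pullback_fst (P := @UniversallyInjective) p h ‹_›
  have : Surjective q := MorphismProperty.pullback_fst (P := @Surjective) p h ‹_›
  have : IsIntegralHom q := MorphismProperty.pullback_fst (P := @IsIntegralHom) p h ‹_›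
  have hqinj : Function.Injective q := q.injective
  have hqclosed : IsClosedMap q := q.isClosedMap
  let U : (pullback x y).Opens :=
    ⟨(q '' ((s'.opensRange : Set ↥(pullback p h))ᶜ))ᶜ,
      (hqclosed _ s'.opensRange.2.isClosed_compl).isOpen_compl⟩
  have hqsurj : Function.Surjective q := q.surjective
  have hU : q ⁻¹ᵁ U = s'.opensRange := by
    ext z
    show q z ∈ (q '' ((s'.opensRange : Set ↥(pullback p h))ᶜ))ᶜ ↔ z ∈ s'.opensRange
    rw [Set.mem_compl_iff, hqinj.mem_set_image, Set.mem_compl_iff, not_not]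
    rfl
  -- the restriction of `p` to `U` is an isomorphism
  have hetp : Etale p := MorphismProperty.pullback_snd (P := @Etale) x y ‹_›
  have H1 : IsPullback (q ∣_ U) (q ⁻¹ᵁ U).ι U.ι q := isPullback_morphismRestrict q U
  have H2 : IsPullback q p' p h := IsPullback.of_hasPullback p h
  have H3 : IsPullback (q ∣_ U) ((q ⁻¹ᵁ U).ι ≫ p') (U.ι ≫ p) h := H1.paste_vert H2
  have hiso : IsIso ((q ⁻¹ᵁ U).ι ≫ p') := isIso_ι_comp_of_section p' s' hs'p _ hU
  have hρ : IsIso (U.ι ≫ p) := isIso_of_isPullback_of_surjective H3.flip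
  -- the morphism
  have hsub : Set.range (s' ≫ q) ⊆ Set.range U.ι := by
    rintro _ ⟨z, rfl⟩
    rw [Scheme.Opens.range_ι]
    have hz : s' z ∈ q ⁻¹ᵁ U := by rw [hU]; exact ⟨z, rfl⟩
    exact hz
  let t : Y' ⟶ U := IsOpenImmersion.lift U.ι (s' ≫ q) hsub
  have ht : t ≫ U.ι = s' ≫ q := IsOpenImmersion.lift_fac _ _ _
  have htρ : t ≫ (U.ι ≫ p) = h := by
    rw [← Category.assoc, ht]
    exact (congrArg (· ≫ p) hs'q).trans hs₀
  refine ⟨inv (U.ι ≫ p) ≫ U.ι ≫ pullback.fst x y, ?_, ?_⟩
  · rw [Category.assoc, Category.assoc, pullback.condition, ← Category.assoc U.ι,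
      IsIso.inv_hom_id_assoc]
  · have h1 : h ≫ inv (U.ι ≫ p) = t := by rw [← htρ, Category.assoc, IsIso.hom_inv_id,
      Category.comp_id]
    rw [← Category.assoc, h1, ← Category.assoc, ht, hs'q]
    exact pullback.lift_fst _ _ _

end Groth.Agent.Lib.helper9.UHomEt
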