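import Mathlib
import Groth.Agent.Lib.Helper9.UHomEt1

/-!
# helper9: base change of étale covers along universal homeomorphisms is fully faithful
(in the language of `MorphismProperty.Over.pullback`)
-/

set_option autoImplicit false
set_option linter.style.haveILetI false
set_option backward.isDefEq.respectTransparency false

universe u

open AlgebraicGeometry CategoryTheory Limits MorphismProperty

namespace Groth.Agent.Lib.helper9.ThickLift

open Groth.Agent.Lib.helper9.UHomEt

variable {X X' : Scheme.{u}} (P : MorphismProperty Scheme.{u}) [P.IsStableUnderBaseChange]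
  (hP : P ≤ @Etale) (i : X ⟶ X')

theorem pullback_map_left_fst {T₁ T₂ : P.Over ⊤ X'} (φ : T₁ ⟶ T₂) :
    ((MorphismProperty.Over.pullback P ⊤ i).map φ).left ≫ pullback.fst T₂.hom i =
      pullback.fst T₁.hom i ≫ φ.left :=
  pullback.lift_fst _ _ _

theorem pullback_map_left_snd {T₁ T₂ : P.Over ⊤ X'} (φ : T₁ ⟶ T₂) :
    ((MorphismProperty.Over.pullback P ⊤ i).map φ).left ≫ pullback.snd T₂.hom i =
      pullback.snd T₁.hom i :=
  pullback.lift_snd _ _ _

include hP in
theorem faithful_pullback [Surjective i] : (MorphismProperty.Over.pullback P ⊤ i).Faithful := by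
  constructor
  intro T₁ T₂ φ₁ φ₂ h
  have : Etale T₂.hom := hP _ T₂.prop
  apply MorphismProperty.Over.Hom.ext
  have h1 : φ₁.left ≫ T₂.hom = T₁.hom := MorphismProperty.Over.w φ₁
  have h2 : φ₂.left ≫ T₂.hom = T₁.hom := MorphismProperty.Over.w φ₂
  refine eq_of_comp_surjective T₁.hom T₂.hom φ₁.left φ₂.left h1 h2 (pullback.fst T₁.hom i) ?_
  rw [← pullback_map_left_fst, ← pullback_map_left_fst, h]

include hP in
theorem full_pullback [IsIntegralHom i] [UniversallyInjective i] [Surjective i] :
    (MorphismProperty.Over.pullback P ⊤ i).Full := by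
  constructor
  intro T₁ T₂ χ
  have : Etale T₂.hom := hP _ T₂.prop
  obtain ⟨χl, hχl⟩ : ∃ χl : pullback T₁.hom i ⟶ pullback T₂.hom i, χl = χ.left := ⟨χ.left, rfl⟩
  have hχ : χl ≫ pullback.snd T₂.hom i = pullback.snd T₁.hom i := by
    rw [hχl]
    exact MorphismProperty.Over.w χ
  have hU : UniversallyInjective (pullback.fst T₁.hom i) :=
    MorphismProperty.of_isPullback (P := @UniversallyInjective.{u})
      (IsPullback.of_hasPullback T₁.hom i).flip ‹_›
  have hI : IsIntegralHom (pullback.fst T₁.hom i) := inferInstance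
  have hS : Surjective (pullback.fst T₁.hom i) := inferInstance
  obtain ⟨φ, ⟨hφ1, hφ2⟩, -⟩ := existsUnique_descent T₂.hom T₁.hom (pullback.fst T₁.hom i)
    (χl ≫ pullback.fst T₂.hom i) (by
      rw [Category.assoc, pullback.condition, reassoc_of% hχ, pullback.condition])
  refine ⟨MorphismProperty.Over.homMk φ hφ1 trivial, ?_⟩
  apply MorphismProperty.Over.Hom.ext
  suffices hfinal : ((MorphismProperty.Over.pullback P ⊤ i).map
      (MorphismProperty.Over.homMk φ hφ1 trivial : T₁ ⟶ T₂)).left = χl by
    rw [hχl] at hfinal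
    exact hfinal
  apply pullback.hom_ext
  · exact (pullback_map_left_fst P i _).trans hφ2
  · exact (pullback_map_left_snd P i _).trans hχ.symm

end Groth.Agent.Lib.helper9.ThickLift
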