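/-
Helper library (helper9): the stalk maps of a flat monomorphism of schemes are isomorphisms.
-/
import Mathlib.AlgebraicGeometry.Morphisms.FlatMono
import Mathlib.AlgebraicGeometry.Morphisms.Preimmersion
import Mathlib.AlgebraicGeometry.Stalk

set_option autoImplicit false
set_option linter.style.haveILetI false

namespace Groth.Agent.Lib.helper9

open AlgebraicGeometry CategoryTheory Limits

universe u

set_option backward.isDefEq.respectTransparency.types false in
/-- The stalk maps of a flat monomorphism are isomorphisms. -/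
theorem isIso_stalkMap_of_flat_of_mono {X Y : Scheme.{u}} (f : X ⟶ Y) [Flat f] [Mono f] (x : X) :
    IsIso (f.stalkMap x) := by
  have hff : (f.stalkMap x).hom.FaithfullyFlat := by
    algebraize [(f.stalkMap x).hom]
    have : Module.FaithfullyFlat (Y.presheaf.stalk (f x)) (X.presheaf.stalk x) :=
      @Module.FaithfullyFlat.of_flat_of_isLocalHom _ _ _ _ _ _ _
        (Flat.stalkMap f x) (f.toLRSHom.prop x)
    exact ‹RingHom.FaithfullyFlat _›
  obtain ⟨h1, h2⟩ := (flat_and_surjective_SpecMap_iff (f.stalkMap x)).mpr hff
  have hm : Mono (Spec.map (f.stalkMap x) ≫ Y.fromSpecStalk (f x)) := by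
    rw [Scheme.SpecMap_stalkMap_fromSpecStalk]
    infer_instance
  have : Mono (Spec.map (f.stalkMap x)) := mono_of_mono _ (Y.fromSpecStalk (f x))
  have hiso : IsIso (Spec.map (f.stalkMap x)) := Flat.isIso_of_surjective_of_mono _
  rw [ConcreteCategory.isIso_iff_bijective]
  exact isIso_SpecMap_iff.mp hiso

end Groth.Agent.Lib.helper9
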