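/-
Helper library (helper9): a morphism of finite presentation `X ⟶ Spec A` with a section and a
property `P` (flat, smooth) has a model with a section and the property `P` over a finitely
generated `ℤ`-subalgebra of `A`.
-/
import Groth.Agent.Lib.Helper9.FPModelFG
import Groth.Agent.S2075

set_option autoImplicit false
set_option linter.style.haveILetI false
set_option backward.isDefEq.respectTransparency false

namespace Groth.Agent.Lib.helper9.SecFlat

open AlgebraicGeometry CategoryTheory Limits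
open Groth.Agent.Lib.helper9 Groth.Agent.Lib.helper9.FGLimitZ

universe u

variable (A : Type u) [CommRing A]

/-- The trivial model of the identity of `Spec A`. -/
noncomputable def idModel (s : (Finset A)ᵒᵖ) :
    FPModel (specDiagram A) (specCone A) (𝟙 (specCone A).pt) s where
  X₀ := (specDiagram A).obj s
  f₀ := 𝟙 _
  g := (specCone A).π.app s
  lfp := inferInstance
  qc := inferInstance
  qs := inferInstance
  pb := IsPullback.id_vert ((specCone A).π.app s)

/-- **Models with a section.** -/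
theorem exists_model_with_section (P : MorphismProperty Scheme.{u}) [P.IsStableUnderBaseChange]
    {X : Scheme.{u}} (f : X ⟶ Spec (CommRingCat.of A)) [LocallyOfFinitePresentation f]
    [QuasiCompact f] [QuasiSeparated f] (g : Spec (CommRingCat.of A) ⟶ X) (hg : g ≫ f = 𝟙 _)
    (hM : ∃ (s : (Finset A)ᵒᵖ) (M : FPModel (specDiagram A) (specCone A)
      (show X ⟶ (specCone A).pt from f) s), P M.f₀) :
    ∃ A₀ : Subalgebra ℤ A, A₀.FG ∧
      ∃ (X₀ : Scheme.{u}) (f₀ : X₀ ⟶ Spec (CommRingCat.of ↥A₀)) (gX : X ⟶ X₀)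
        (g₀ : Spec (CommRingCat.of ↥A₀) ⟶ X₀),
        P f₀ ∧ LocallyOfFinitePresentation f₀ ∧ QuasiCompact f₀ ∧ QuasiSeparated f₀ ∧
          IsPullback gX f f₀ (Spec.map (CommRingCat.ofHom (algebraMap (↥A₀) A))) ∧
          g₀ ≫ f₀ = 𝟙 _ ∧
          g ≫ gX = Spec.map (CommRingCat.ofHom (algebraMap (↥A₀) A)) ≫ g₀ := by
  have hlim := isLimitSpecCone A
  obtain ⟨s, M, hPM⟩ := hM
  obtain ⟨k, a, ⟨φ⟩⟩ := FPModel.exists_hom hlim (idModel A s) M g hg
  set N := M.rebase a with hN
  set J := (idModel A s).rebase a with hJ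
  haveI : IsIso J.f₀ := by
    show IsIso (pullback.fst ((specDiagram A).map a) (𝟙 _))
    infer_instance
  have hPN : P N.f₀ := by
    show P (pullback.fst ((specDiagram A).map a) M.f₀)
    exact P.pullback_fst _ _ hPM
  have hJg : J.g = (specCone A).π.app k ≫ inv J.f₀ := by
    rw [IsIso.eq_comp_inv]
    have := J.pb.w
    rw [this, Category.id_comp]
  refine ⟨adj A k.unop, Subalgebra.fg_adjoin_finset _, N.X₀, N.f₀, N.g, inv J.f₀ ≫ φ.h₀,
    hPN, N.lfp, N.qc, N.qs, N.pb, ?_, ?_⟩
  · rw [Category.assoc, φ.w]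
    exact IsIso.inv_hom_id J.f₀
  · have h1 := φ.wg
    rw [hJg, Category.assoc] at h1
    exact h1.symm

/-- Flat models with a section. -/
theorem exists_flat_model_with_section
    {X : Scheme.{u}} (f : X ⟶ Spec (CommRingCat.of A)) [Flat f] [LocallyOfFinitePresentation f]
    [QuasiCompact f] [QuasiSeparated f] (g : Spec (CommRingCat.of A) ⟶ X) (hg : g ≫ f = 𝟙 _) :
    ∃ A₀ : Subalgebra ℤ A, A₀.FG ∧
      ∃ (X₀ : Scheme.{u}) (f₀ : X₀ ⟶ Spec (CommRingCat.of ↥A₀)) (gX : X ⟶ X₀)
        (g₀ : Spec (CommRingCat.of ↥A₀) ⟶ X₀),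
        Flat f₀ ∧ LocallyOfFinitePresentation f₀ ∧ QuasiCompact f₀ ∧ QuasiSeparated f₀ ∧
          IsPullback gX f f₀ (Spec.map (CommRingCat.ofHom (algebraMap (↥A₀) A))) ∧
          g₀ ≫ f₀ = 𝟙 _ ∧
          g ≫ gX = Spec.map (CommRingCat.ofHom (algebraMap (↥A₀) A)) ≫ g₀ := by
  refine exists_model_with_section A @Flat f g hg ?_
  have hlim := isLimitSpecCone A
  let f' : X ⟶ (specCone A).pt := f
  have h1 : LocallyOfFinitePresentation f' := (inferInstance : LocallyOfFinitePresentation f)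
  have h2 : QuasiCompact f' := (inferInstance : QuasiCompact f)
  have h3 : QuasiSeparated f' := (inferInstance : QuasiSeparated f)
  have h4 : Flat f' := (inferInstance : Flat f)
  obtain ⟨s, ⟨M⟩⟩ := FPModel.exists_model (D := specDiagram A) (c := specCone A) hlim f'
  haveI : CompactSpace M.X₀ := M.compactSpace_X₀
  haveI : QuasiSeparatedSpace ↥((specDiagram A).obj s) :=
    inferInstanceAs (QuasiSeparatedSpace ↥(Spec (CommRingCat.of (adj A s.unop))))
  haveI : QuasiSeparatedSpace M.X₀ := M.quasiSeparatedSpace_X₀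
  obtain ⟨i, φ, Xi, Yi, fi, gi, pY, pX, hY, hX, hfl⟩ :=
    Groth.Agent.S2075.result (specDiagram A) (specCone A) hlim s M.f₀ (𝟙 _) f' (𝟙 _)
      ((specCone A).π.app s) M.g (IsPullback.id_vert ((specCone A).π.app s)) M.pb
  have h5 : Flat (stageMap ((specDiagram A).map φ) M.f₀ (𝟙 _)) :=
    (stageMap_iff_of_isPullback @Flat hY hX).mpr hfl
  refine ⟨i, M.rebase φ, ?_⟩
  have hY' : IsPullback ((specDiagram A).map φ) (𝟙 ((specDiagram A).obj i))
      (𝟙 ((specDiagram A).obj s)) ((specDiagram A).map φ) :=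
    IsPullback.id_vert ((specDiagram A).map φ)
  exact (stageMap_iff_of_isPullback @Flat hY'
    (IsPullback.of_hasPullback ((specDiagram A).map φ) M.f₀).flip).mp h5

/-- Smooth models with a section. -/
theorem exists_smooth_model_with_section
    {X : Scheme.{u}} (f : X ⟶ Spec (CommRingCat.of A)) [Smooth f]
    [QuasiCompact f] [QuasiSeparated f] (g : Spec (CommRingCat.of A) ⟶ X) (hg : g ≫ f = 𝟙 _) :
    ∃ A₀ : Subalgebra ℤ A, A₀.FG ∧
      ∃ (X₀ : Scheme.{u}) (f₀ : X₀ ⟶ Spec (CommRingCat.of ↥A₀)) (gX : X ⟶ X₀)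
        (g₀ : Spec (CommRingCat.of ↥A₀) ⟶ X₀),
        Smooth f₀ ∧ LocallyOfFinitePresentation f₀ ∧ QuasiCompact f₀ ∧ QuasiSeparated f₀ ∧
          IsPullback gX f f₀ (Spec.map (CommRingCat.ofHom (algebraMap (↥A₀) A))) ∧
          g₀ ≫ f₀ = 𝟙 _ ∧
          g ≫ gX = Spec.map (CommRingCat.ofHom (algebraMap (↥A₀) A)) ≫ g₀ := by
  refine exists_model_with_section A @Smooth f g hg ?_
  have hlim := isLimitSpecCone A
  let f' : X ⟶ (specCone A).pt := f
  have h1 : LocallyOfFinitePresentation f' := (inferInstance : LocallyOfFinitePresentation f)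
  have h2 : QuasiCompact f' := (inferInstance : QuasiCompact f)
  have h3 : QuasiSeparated f' := (inferInstance : QuasiSeparated f)
  have h4 : Smooth f' := (inferInstance : Smooth f)
  obtain ⟨s, ⟨M⟩⟩ := FPModel.exists_model (D := specDiagram A) (c := specCone A) hlim f'
  haveI : CompactSpace M.X₀ := M.compactSpace_X₀
  obtain ⟨t, a, ht⟩ := M.exists_rebase_of_descent @Smooth
    (fun h => exists_smooth_stageMap _ _ hlim s M.f₀ (𝟙 _) h) h4
  exact ⟨t, M.rebase a, ht⟩

end Groth.Agent.Lib.helper9.SecFlat
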