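/-
Helper library (helper9): geometric reducedness of a fibre at a point is invariant under base
change, and smooth morphisms have geometrically reduced fibres.
-/
import Mathlib
import Groth.Prelude.Def_FDesc
import Groth.Agent.S1545
import Groth.Agent.Lib.Helper5.GeomReducedEt
import Groth.Agent.Lib.Helper24.SmoothReduced

set_option autoImplicit false
set_option linter.style.haveILetI false
set_option backward.isDefEq.respectTransparency false

namespace Groth.Agent.Lib.helper9.SecFlat

open AlgebraicGeometry CategoryTheory Limits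

universe u

/-- Geometric reducedness at a point and extension of the base field (`S1545` in `FBase` form). -/
theorem isGeomReducedAt_bc_iff {k : Type u} [Field k] {X : Scheme.{u}}
    (f : X ⟶ Spec (CommRingCat.of k)) (k' : Type u) [Field k'] [Algebra k k']
    (x' : ↥(FBase.bc f k')) :
    FBase.IsGeomReducedAt f ((FBase.bcπ f k') x') ↔ FBase.IsGeomReducedAt (FBase.bcStr f k') x' := by
  letI : X.Over (Spec (CommRingCat.of k)) := ⟨f⟩
  exact Groth.Agent.S1545.result k X k' ((FBase.bcπ f k') x') x' rfl

/-- Geometric reducedness of the fibres at corresponding points of a cartesian square. -/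
theorem isGeomReducedAt_fiber_iff_of_isPullback {P X Y Z : Scheme.{u}} {fst : P ⟶ X}
    {snd : P ⟶ Y} {f : X ⟶ Z} {g : Y ⟶ Z} (h : IsPullback fst snd f g) (y : Y)
    (p : ↥(snd.fiber y)) :
    FBase.IsGeomReducedAt (snd.fiberToSpecResidueField y) p ↔
      FBase.IsGeomReducedAt (f.fiberToSpecResidueField (g y))
        ((pullback.map _ _ _ _ fst (Spec.map (g.residueFieldMap y)) g h.w.symm (by simp) :
          snd.fiber y ⟶ f.fiber (g y)) p) := by
  have hp := isPullback_fiberToSpecResidueField_of_isPullback h y
  letI : Algebra (IsLocalRing.ResidueField (Z.presheaf.stalk (g y))) (Y.residueField y) :=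
    (g.residueFieldMap y).hom.toAlgebra
  let e : snd.fiber y ≅ FBase.bc (f.fiberToSpecResidueField (g y)) (Y.residueField y) :=
    hp.isoPullback
  have he1 : e.hom ≫ FBase.bcπ (f.fiberToSpecResidueField (g y)) (Y.residueField y) =
      pullback.map _ _ _ _ fst (Spec.map (g.residueFieldMap y)) g h.w.symm (by simp) :=
    hp.isoPullback_hom_fst
  have he2 : e.hom ≫ FBase.bcStr (f.fiberToSpecResidueField (g y)) (Y.residueField y) =
      snd.fiberToSpecResidueField y := hp.isoPullback_hom_snd
  rw [Groth.Agent.Lib.helper5.GeomReducedEt.isGeomReducedAt_iff_of_etale e.hom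
    (FBase.bcStr (f.fiberToSpecResidueField (g y)) (Y.residueField y))
    (snd.fiberToSpecResidueField y) he2 p, ← isGeomReducedAt_bc_iff, ← he1]
  rfl

/-- A scheme smooth over a field has reduced local rings. -/
theorem isReduced_stalk_of_smooth_field {K : Type u} [Field K] {T : Scheme.{u}}
    (q : T ⟶ Spec (CommRingCat.of K)) [Smooth q] (t : T) :
    _root_.IsReduced (T.presheaf.stalk t) := by
  obtain ⟨_, ⟨U, hU, rfl⟩, htU, -⟩ :=
    T.isBasis_affineOpens.exists_subset_of_mem_open (Set.mem_univ t) isOpen_univ
  have hsm : (q.appLE ⊤ U le_top).hom.Smooth :=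
    HasRingHomProperty.appLE (P := @Smooth) q inferInstance ⟨⊤, isAffineOpen_top _⟩ ⟨U, hU⟩ le_top
  haveI : _root_.IsReduced Γ(Spec (CommRingCat.of K), ⊤) := by
    have e := (Scheme.ΓSpecIso (CommRingCat.of K)).commRingCatIsoToRingEquiv
    exact isReduced_of_injective e.toRingHom e.injective
  haveI : _root_.IsReduced Γ(T, U) := by
    letI := (q.appLE ⊤ U le_top).hom.toAlgebra
    haveI : Algebra.Smooth Γ(Spec (CommRingCat.of K), ⊤) Γ(T, U) := hsm
    exact Groth.Agent.Lib.Helper24.SmoothReduced.isReduced_of_smooth
      Γ(Spec (CommRingCat.of K), ⊤) Γ(T, U)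
  letI := TopCat.Presheaf.algebra_section_stalk T.presheaf ⟨t, htU⟩
  haveI := hU.isLocalization_stalk ⟨t, htU⟩
  exact isReduced_localizationPreserves (hU.primeIdealOf ⟨t, htU⟩).asIdeal.primeCompl _
    inferInstance

/-- The fibres of a smooth morphism are geometrically reduced at every point. -/
theorem isGeomReducedAt_of_smooth {k : Type u} [Field k] {X : Scheme.{u}}
    (f : X ⟶ Spec (CommRingCat.of k)) [Smooth f] (x : X) : FBase.IsGeomReducedAt f x := by
  intro K _ _ x' _
  haveI : Smooth (FBase.bcStr f K) :=
    MorphismProperty.pullback_snd (P := @Smooth) _ _ inferInstance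
  exact isReduced_stalk_of_smooth_field (FBase.bcStr f K) x'

end Groth.Agent.Lib.helper9.SecFlat
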