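import Mathlib
import Groth.Agent.Lib.Helper3.SecCompConst2
import Groth.Agent.Lib.Helper17.IdemAlgClosed

/-!
# Connectedness of the generic fibre of a local scheme, flat with reduced closed fibre (helper9)

* `trivIdem_away`: `O` local, `ϖ` a nonzerodivisor with `O/ϖ` reduced: `O[1/ϖ]` has only trivial
  idempotents.
* `isPreconnected_basicOpen`: then `D(ϖ) ⊆ Spec O` is preconnected.
* `isPreconnected_generizations`: for `φ : P ⟶ T`, `c : P` such that the maximal ideal of `O_{T,φ c}`
  is principal generated by a nonzerodivisor, `φ` flat at `c` and `O_{P,c}/m O_{P,c}` reduced, the set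
  of generizations of `c` outside the fibre through `c` is preconnected.
-/

set_option autoImplicit false
set_option linter.style.haveILetI false
universe u
open CategoryTheory AlgebraicGeometry CategoryTheory.Limits TopologicalSpace Topology IsLocalRing

namespace Groth.Agent.Lib.helper9.SecNbhd

open Groth.Agent.Lib.helper17.IdemAlgClosed

theorem trivIdem_away {O : Type u} [CommRing O] [IsLocalRing O] (ϖ : O)
    (hreg : ϖ ∈ nonZeroDivisors O) (hrad : (Ideal.span {ϖ}).IsRadical) :
    TrivIdem (Localization.Away ϖ) := by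
  classical
  set S := Localization.Away ϖ with hS
  have hle : Submonoid.powers ϖ ≤ nonZeroDivisors O :=
    Submonoid.powers_le.mpr hreg
  have hinj : Function.Injective (algebraMap O S) := IsLocalization.injective S hle
  have hunit : IsUnit (algebraMap O S ϖ) := IsLocalization.Away.algebraMap_isUnit ϖ
  intro e he
  have hex : ∃ n : ℕ, ∃ a : O, e * algebraMap O S ϖ ^ n = algebraMap O S a :=
    IsLocalization.Away.surj ϖ e
  have hmin : Nat.find hex = 0 := by
    by_contra hne
    obtain ⟨m, hm⟩ := Nat.exists_eq_succ_of_ne_zero hne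
    obtain ⟨a, ha⟩ := Nat.find_spec hex
    rw [hm] at ha
    -- `a ^ 2 = a * ϖ ^ (m+1)`
    have h1 : algebraMap O S (a * a) = algebraMap O S (a * ϖ ^ (m + 1)) := by
      rw [map_mul, map_mul, map_pow, ← ha]
      calc e * algebraMap O S ϖ ^ (m + 1) * (e * algebraMap O S ϖ ^ (m + 1))
          = (e * e) * algebraMap O S ϖ ^ (m + 1) * algebraMap O S ϖ ^ (m + 1) := by ring
        _ = e * algebraMap O S ϖ ^ (m + 1) * algebraMap O S ϖ ^ (m + 1) := by rw [he.eq]
    have h2 : a * a = a * ϖ ^ (m + 1) := hinj h1
    have h3 : a ^ 2 ∈ Ideal.span {ϖ} := by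
      rw [pow_two, h2, pow_succ, ← mul_assoc]
      exact Ideal.mul_mem_left _ _ (Ideal.mem_span_singleton_self ϖ)
    have h4 : a ∈ Ideal.span {ϖ} := hrad ⟨2, h3⟩
    obtain ⟨a', ha'⟩ := Ideal.mem_span_singleton.mp h4
    have h5 : e * algebraMap O S ϖ ^ m = algebraMap O S a' := by
      apply hunit.mul_right_cancel
      rw [mul_assoc, ← pow_succ, ha, ha', map_mul, mul_comm]
    have h6 : Nat.find hex ≤ m := Nat.find_min' hex ⟨a', h5⟩
    omega
  obtain ⟨a, ha⟩ := Nat.find_spec hex
  rw [hmin, pow_zero, mul_one] at ha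
  have hidem : IsIdempotentElem a := by
    apply hinj
    rw [map_mul, ← ha]
    exact he.eq
  rcases trivIdem_of_isLocalRing O a hidem with h0 | h1
  · left; rw [ha, h0, map_zero]
  · right; rw [ha, h1, map_one]

theorem isPreconnected_basicOpen {O : Type u} [CommRing O] [IsLocalRing O] (ϖ : O)
    (hreg : ϖ ∈ nonZeroDivisors O) (hrad : (Ideal.span {ϖ}).IsRadical) :
    _root_.IsPreconnected (PrimeSpectrum.basicOpen ϖ : Set (PrimeSpectrum O)) := by
  have htriv := trivIdem_away ϖ hreg hrad
  haveI : PreconnectedSpace (PrimeSpectrum (Localization.Away ϖ)) := by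
    rw [preconnectedSpace_iff_clopen]
    intro s hs
    obtain ⟨e, he, rfl⟩ := PrimeSpectrum.isClopen_iff.mp hs
    rcases htriv e he with rfl | rfl
    · left; simp
    · right; simp
  have h1 : _root_.IsPreconnected (Set.range (PrimeSpectrum.comap (algebraMap O (Localization.Away ϖ)))) :=
    isPreconnected_range (PrimeSpectrum.continuous_comap _)
  rwa [PrimeSpectrum.localization_away_comap_range (Localization.Away ϖ) ϖ] at h1

open Groth.Agent.Lib.helper3.SecCompConst in
/-- The generizations of `c` outside the fibre through `c` form a preconnected set when `φ` is flat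
at `c` over a base whose local ring at `φ c` has principal maximal ideal, with reduced fibre ring. -/
theorem isPreconnected_generizations {P T : Scheme.{u}} (φ : P ⟶ T) (c : P)
    (ϖ₀ : T.presheaf.stalk (φ c))
    (hϖ₀ : maximalIdeal (T.presheaf.stalk (φ c)) = Ideal.span {ϖ₀})
    (hreg : (φ.stalkMap c).hom ϖ₀ ∈ nonZeroDivisors (P.presheaf.stalk c))
    (hrad : (fibIdeal φ c).IsRadical) :
    _root_.IsPreconnected {w : P | w ⤳ c ∧ φ w ≠ φ c} := by
  set ϖ := (φ.stalkMap c).hom ϖ₀ with hϖ
  have hI : fibIdeal φ c = Ideal.span {ϖ} := by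
    change (maximalIdeal (T.presheaf.stalk (φ c))).map (φ.stalkMap c).hom = _
    rw [hϖ₀, Ideal.map_span, Set.image_singleton]
  have hrad' : (Ideal.span {ϖ}).IsRadical := hI ▸ hrad
  have h1 := (isPreconnected_basicOpen ϖ hreg hrad').image (P.fromSpecStalk c)
    (P.fromSpecStalk c).continuous.continuousOn
  have h2 : (P.fromSpecStalk c) '' (PrimeSpectrum.basicOpen ϖ : Set (PrimeSpectrum _)) =
      {w : P | w ⤳ c ∧ φ w ≠ φ c} := by
    ext w
    constructor
    · rintro ⟨q, hq, rfl⟩
      refine ⟨fromSpecStalk_specializes c q, ?_⟩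
      intro h
      rw [← fibIdeal_le_iff, hI, Ideal.span_singleton_le_iff_mem] at h
      exact hq h
    · rintro ⟨hwc, hw⟩
      obtain ⟨q, rfl⟩ := exists_prime_of_specializes c w hwc
      refine ⟨q, ?_, rfl⟩
      intro h
      apply hw
      rw [← fibIdeal_le_iff, hI, Ideal.span_singleton_le_iff_mem]
      exact h
  rw [← h2]
  exact h1

end Groth.Agent.Lib.helper9.SecNbhd
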