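import Mathlib
import Groth.Agent.Lib.Helper9.SecNbhd1
import Groth.Agent.Lib.Helper3.SecCompDim2

/-!
# Specialization closure of open subsets; connectedness over a discrete valuation ring (helper9)

* `exists_specializes_of_mem_closure`: in a locally Noetherian scheme, a point of the closure of an
  open subset is a specialization of a point of that subset.
-/

set_option autoImplicit false
set_option linter.style.haveILetI false
universe u
open CategoryTheory AlgebraicGeometry CategoryTheory.Limits TopologicalSpace Topology IsLocalRing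

namespace Groth.Agent.Lib.helper9.SecNbhd

theorem exists_specializes_of_mem_closure {P : Scheme.{u}} [IsLocallyNoetherian P] (D : Set P)
    (hD : IsOpen D) (x : P) (hx : x ∈ closure D) : ∃ d ∈ D, d ⤳ x := by
  classical
  obtain ⟨_, ⟨U, hU : IsAffineOpen U, rfl⟩, hxU, -⟩ :=
    P.isBasis_affineOpens.exists_subset_of_mem_open (Set.mem_univ x) isOpen_univ
  haveI : IsNoetherianRing Γ(P, U) := IsLocallyNoetherian.component_noetherian ⟨U, hU⟩
  haveI : NoetherianSpace ↥U := noetherianSpace_of_isAffineOpen U hU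
  have hemb : IsOpenEmbedding (Subtype.val : ↥U → P) := U.isOpen.isOpenEmbedding_subtypeVal
  haveI : QuasiSober ↥U := hemb.quasiSober
  set DU : Set ↥U := Subtype.val ⁻¹' D with hDU
  have hDUo : IsOpen DU := hD.preimage continuous_subtype_val
  set x' : ↥U := ⟨x, hxU⟩ with hx'
  by_contra hcon
  push Not at hcon
  -- the components through `x'` do not meet `DU`
  have hfin : (irreducibleComponents ↥U).Finite := NoetherianSpace.finite_irreducibleComponents
  set F : Set ↥U := ⋃₀ {C ∈ irreducibleComponents ↥U | x' ∉ C} with hF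
  have hFcl : IsClosed F := by
    rw [hF, Set.sUnion_eq_biUnion]
    apply Set.Finite.isClosed_biUnion (hfin.subset (fun C hC => hC.1))
    intro C hC
    exact isClosed_of_mem_irreducibleComponents C hC.1
  have hxF : x' ∉ F := by
    rintro ⟨C, ⟨-, hxC⟩, hxC'⟩
    exact hxC hxC'
  have hDF : DU ⊆ F := by
    intro d hd
    have hdu : d ∈ ⋃₀ irreducibleComponents ↥U := by
      rw [sUnion_irreducibleComponents]; trivial
    obtain ⟨C, hC, hdC⟩ := hdu
    refine ⟨C, ⟨hC, fun hxC => ?_⟩, hdC⟩
    -- generic point of `C`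
    have hCirr : IsIrreducible C := hC.1
    have hCcl : IsClosed C := isClosed_of_mem_irreducibleComponents C hC
    obtain ⟨g, hg⟩ := QuasiSober.sober hCirr hCcl
    have hgd : g ⤳ d := by
      rw [specializes_iff_mem_closure, hg.def]; exact hdC
    have hgx : g ⤳ x' := by
      rw [specializes_iff_mem_closure, hg.def]; exact hxC
    have hgD : g ∈ DU := hgd.mem_open hDUo hd
    exact hcon g.1 hgD (hgx.map continuous_subtype_val)
  -- contradiction with `x ∈ closure D`
  have hO : IsOpen (Subtype.val '' Fᶜ : Set P) := hemb.isOpenMap _ hFcl.isOpen_compl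
  have hxO : x ∈ (Subtype.val '' Fᶜ : Set P) := ⟨x', hxF, rfl⟩
  obtain ⟨t, htO, htD⟩ := mem_closure_iff.mp hx _ hO hxO
  obtain ⟨t', ht'F, rfl⟩ := htO
  exact ht'F (hDF htD)

open Groth.Agent.Lib.helper3.SecCompDim in
/-- **Connectedness over a two-point base.** `T` has exactly two points `τ ⤳ v` with `τ` open. If
along a connected component `C` of the closed fibre every point has a generization in the open
fibre and its generizations in the open fibre form a preconnected set, then all generizations in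
the open fibre of points of `C` lie in one connected component of the open fibre. -/
theorem mem_connectedComponentIn_of_specializes {P T : Scheme.{u}} [IsLocallyNoetherian P]
    (φ : P ⟶ T) [LocallyOfFiniteType φ] (v τ : T) (hτ : IsOpen ({τ} : Set T))
    (hTT : ∀ t : T, t = v ∨ t = τ) (hvτ : τ ≠ v)
    (c₀ d₀ : P) (hc₀ : φ.base c₀ = v) (hd₀ : φ.base d₀ = τ) (hd₀c₀ : d₀ ⤳ c₀)
    (hloc : ∀ c ∈ connectedComponentIn (φ.base ⁻¹' {v}) c₀,
      (∃ w : P, w ⤳ c ∧ φ.base w = τ) ∧
        _root_.IsPreconnected {w : P | w ⤳ c ∧ φ.base w ≠ φ.base c}) :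
    ∀ c ∈ connectedComponentIn (φ.base ⁻¹' {v}) c₀, ∀ w : P, w ⤳ c → φ.base w = τ →
      w ∈ connectedComponentIn (φ.base ⁻¹' {τ}) d₀ := by
  classical
  set C := connectedComponentIn (φ.base ⁻¹' {v}) c₀ with hC
  set D := connectedComponentIn (φ.base ⁻¹' {τ}) d₀ with hD
  have hCv : C ⊆ φ.base ⁻¹' {v} := connectedComponentIn_subset _ _
  have hDτ : D ⊆ φ.base ⁻¹' {τ} := connectedComponentIn_subset _ _
  have hFo : IsOpen (φ.base ⁻¹' {τ}) := hτ.preimage φ.continuous
  obtain ⟨O, hO, hDO⟩ := exists_isOpen_connectedComponentIn_fibre φ τ d₀ hd₀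
  have hDo : IsOpen D := by
    rw [hD, hDO]; exact hFo.inter hO
  have hDcl : φ.base ⁻¹' {τ} ∩ closure D ⊆ D := connectedComponentIn_fibre_isClosed φ τ d₀ hd₀
  set D' := φ.base ⁻¹' {τ} ∩ (closure D)ᶜ with hD'
  have hD'o : IsOpen D' := hFo.inter isClosed_closure.isOpen_compl
  have hDD' : ∀ w : P, φ.base w = τ → w ∈ D ∨ w ∈ D' := by
    intro w hw
    by_cases h : w ∈ closure D
    · exact Or.inl (hDcl ⟨hw, h⟩)
    · exact Or.inr ⟨hw, h⟩
  have hd₀D : d₀ ∈ D := mem_connectedComponentIn hd₀
  have hc₀C : c₀ ∈ C := mem_connectedComponentIn hc₀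
  -- the local statement
  have key : ∀ c ∈ C, ∀ w₁ w₂ : P, w₁ ⤳ c → w₂ ⤳ c → φ.base w₁ = τ → φ.base w₂ = τ →
      w₁ ∈ D → w₂ ∈ D := by
    intro c hc w₁ w₂ h₁ h₂ hφ₁ hφ₂ hw₁
    have hφc : φ.base c = v := hCv hc
    have hpre := (hloc c hc).2
    have hsub : {w : P | w ⤳ c ∧ φ.base w ≠ φ.base c} ⊆ φ.base ⁻¹' {τ} := by
      rintro w ⟨-, hw⟩
      rcases hTT (φ.base w) with h | h
      · exact absurd (h.trans hφc.symm) hw
      · exact h
    have hw₁S : w₁ ∈ {w : P | w ⤳ c ∧ φ.base w ≠ φ.base c} :=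
      ⟨h₁, by rw [hφ₁, hφc]; exact hvτ⟩
    have hw₂S : w₂ ∈ {w : P | w ⤳ c ∧ φ.base w ≠ φ.base c} :=
      ⟨h₂, by rw [hφ₂, hφc]; exact hvτ⟩
    have h3 : w₂ ∈ connectedComponentIn (φ.base ⁻¹' {τ}) w₁ :=
      hpre.subset_connectedComponentIn hw₁S hsub hw₂S
    have h4 : connectedComponentIn (φ.base ⁻¹' {τ}) d₀ =
        connectedComponentIn (φ.base ⁻¹' {τ}) w₁ := connectedComponentIn_eq hw₁
    rw [hD, h4]
    exact h3
  -- `C` does not meet the closure of `D'`
  have hempty : ¬ (C ∩ closure D').Nonempty := by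
    intro hne2
    have hne1 : (C ∩ closure D).Nonempty :=
      ⟨c₀, hc₀C, specializes_iff_mem_closure.mp hd₀c₀ |> fun h =>
        closure_mono (Set.singleton_subset_iff.mpr hd₀D) h⟩
    have hcov : C ⊆ closure D ∪ closure D' := by
      intro c hc
      obtain ⟨w, hwc, hφw⟩ := (hloc c hc).1
      have hcw : c ∈ closure {w} := specializes_iff_mem_closure.mp hwc
      rcases hDD' w hφw with h | h
      · exact Or.inl (closure_mono (Set.singleton_subset_iff.mpr h) hcw)
      · exact Or.inr (closure_mono (Set.singleton_subset_iff.mpr h) hcw)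
    have hpreC : _root_.IsPreconnected C := isPreconnected_connectedComponentIn
    obtain ⟨c, hcC, hcD, hcD'⟩ := isPreconnected_closed_iff.mp hpreC (closure D) (closure D')
      isClosed_closure isClosed_closure hcov hne1 hne2
    obtain ⟨d, hdD, hdc⟩ := exists_specializes_of_mem_closure D hDo c hcD
    obtain ⟨d', hd'D', hd'c⟩ := exists_specializes_of_mem_closure D' hD'o c hcD'
    have h4 : d' ∈ D := key c hcC d d' hdc hd'c (hDτ hdD) hd'D'.1 hdD
    exact hd'D'.2 (subset_closure h4)
  intro c hc w hwc hφw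
  rcases hDD' w hφw with h | h
  · exact h
  · exfalso
    apply hempty
    exact ⟨c, hc, closure_mono (Set.singleton_subset_iff.mpr h)
      (specializes_iff_mem_closure.mp hwc)⟩

end Groth.Agent.Lib.helper9.SecNbhd
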