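import Mathlib
import Groth.Prelude.Def_FDesc
import Groth.Prelude.Def_MoreMor
import Groth.Agent.S1324
import Groth.Agent.Lib.Helper3.SecCompConst3
import Groth.Agent.Lib.Helper3.DvrFlatSch
import Groth.Agent.Lib.Helper4.SubtrNoeth2
import Groth.Agent.Lib.Helper8.UnivOpenAt
import Groth.Agent.Lib.Helper9.SecNbhd2

/-!
# Generizations of points of a section component (helper9; EGA IV 15.6.4, first half)

`Y` locally Noetherian, `f : X ⟶ Y` locally of finite type with a section `g`, `y : Y` such that
`f` is universally open and the fibre geometrically reduced at every point of `X_y⁰`. Then every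
generization of a point of `X_y⁰` lies in `X⁰`.
-/

set_option autoImplicit false
set_option linter.style.haveILetI false
universe u
open CategoryTheory AlgebraicGeometry CategoryTheory.Limits TopologicalSpace Topology IsLocalRing

namespace Groth.Agent.Lib.helper9.SecNbhd

open Groth.Agent.Lib.helper3 Groth.Agent.Lib.helper3.SecCompDim
  Groth.Agent.Lib.helper3.UnivOpenGenTd Groth.Agent.Lib.helper3.SecCompConst
  Groth.Agent.Lib.helper17.FibreStalk

theorem mem_sectionComponents_of_specializes {X Y : Scheme.{u}} [IsLocallyNoetherian Y]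
    (f : X ⟶ Y) [LocallyOfFiniteType f] (g : Y ⟶ X) (hg : g ≫ f = 𝟙 Y) (y : Y)
    (hy : ∀ x ∈ connectedComponentIn (f.base ⁻¹' {y}) (g.base y), EGA43.IsUnivOpenAt f x ∧
        FBase.IsGeomReducedAt (f.fiberToSpecResidueField (f.base x)) (f.asFiber x))
    (x ζ : X) (hx : x ∈ connectedComponentIn (f.base ⁻¹' {y}) (g.base y)) (hζx : ζ ⤳ x) :
    ζ ∈ MoreMor.sectionComponents f g := by
  classical
  have hfg : ∀ y : Y, f.base (g.base y) = y := fun y => by
    rw [← Scheme.Hom.comp_apply, hg]; rfl
  haveI : IsLocallyNoetherian X := LocallyOfFiniteType.isLocallyNoetherian f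
  have hfx : f.base x = y := connectedComponentIn_subset (f.base ⁻¹' {y}) _ hx
  obtain ⟨R, _, _, _, h, hh1, hh2⟩ :=
    Groth.Agent.Lib.helper4.SubtrNoeth.exists_dvr_of_specializes' x ζ hζx
  set m : Spec (CommRingCat.of R) ⟶ Y := h ≫ f with hm
  set v : Spec (CommRingCat.of R) := closedPoint R with hv
  set η : Spec (CommRingCat.of R) := (⟨⊥, Ideal.isPrime_bot⟩ : PrimeSpectrum R) with hη
  have hm1 : m.base v = y := by
    rw [hm, Scheme.Hom.comp_apply]; exact (congrArg f.base hh1).trans hfx
  set p := pullback.fst f m with hp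
  set φ := pullback.snd f m with hφ
  have hc : IsPullback p φ f m := IsPullback.of_hasPullback f m
  haveI : LocallyOfFiniteType φ := by
    rw [hφ]
    infer_instance
  haveI : IsLocallyNoetherian (pullback f m) := LocallyOfFiniteType.isLocallyNoetherian φ
  let gT : Spec (CommRingCat.of R) ⟶ pullback f m :=
    pullback.lift (m ≫ g) (𝟙 _) (by rw [Category.assoc, hg, Category.comp_id, Category.id_comp])
  let hT : Spec (CommRingCat.of R) ⟶ pullback f m :=
    pullback.lift h (𝟙 _) (by rw [Category.id_comp])
  have hgTp : gT ≫ p = m ≫ g := pullback.lift_fst _ _ _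
  have hgTφ : gT ≫ φ = 𝟙 _ := pullback.lift_snd _ _ _
  have hhTp : hT ≫ p = h := pullback.lift_fst _ _ _
  have hhTφ : hT ≫ φ = 𝟙 _ := pullback.lift_snd _ _ _
  have hηv : η ⤳ v := IsLocalRing.specializes_closedPoint (R := R) η
  have hηne : η ≠ v := by
    intro h'
    have h1 : (⊥ : Ideal R) = maximalIdeal R := congrArg PrimeSpectrum.asIdeal h'
    exact IsDiscreteValuationRing.not_a_field R h1.symm
  have hφgT : ∀ t, φ.base (gT.base t) = t := fun t => by
    rw [← Scheme.Hom.comp_apply, hgTφ]; rfl
  have hφhT : ∀ t, φ.base (hT.base t) = t := fun t => by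
    rw [← Scheme.Hom.comp_apply, hhTφ]; rfl
  have hphT : ∀ t, p.base (hT.base t) = h.base t := fun t => by
    rw [← Scheme.Hom.comp_apply, hhTp]
  have hfp : ∀ w, f.base (p.base w) = m.base (φ.base w) := fun w => by
    rw [← Scheme.Hom.comp_apply, hc.w, Scheme.Hom.comp_apply]
  -- the section components upstairs
  have hS : MoreMor.sectionComponents φ gT = p ⁻¹' MoreMor.sectionComponents f g :=
    Groth.Agent.S1324.result f g hg φ p m hc gT hgTφ hgTp
  have hmemS : ∀ w, w ∈ connectedComponentIn (φ.base ⁻¹' {φ.base w}) (gT.base (φ.base w)) ↔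
      p.base w ∈ connectedComponentIn (f.base ⁻¹' {f.base (p.base w)})
        (g.base (f.base (p.base w))) := by
    intro w
    have h1 : w ∈ MoreMor.sectionComponents φ gT ↔ w ∈ p ⁻¹' MoreMor.sectionComponents f g := by
      rw [hS]
    exact h1
  -- two points of `Spec R`
  have hTT : ∀ t : Spec (CommRingCat.of R), t = v ∨ t = η := by
    intro t
    let t' : PrimeSpectrum R := t
    rcases (Ring.DimensionLEOne.maximalOfPrime (R := R) (p := t'.asIdeal)) with h0
    by_cases hb : t'.asIdeal = ⊥
    · right
      exact PrimeSpectrum.ext hb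
    · left
      have hmax : t'.asIdeal.IsMaximal := h0 hb t'.isPrime
      exact PrimeSpectrum.ext (IsLocalRing.eq_maximalIdeal hmax)
  have hηo : IsOpen ({η} : Set (Spec (CommRingCat.of R))) := by
    have h1 : ({η} : Set (Spec (CommRingCat.of R))) = ({v} : Set (Spec (CommRingCat.of R)))ᶜ := by
      ext t
      simp only [Set.mem_singleton_iff, Set.mem_compl_iff]
      constructor
      · rintro rfl; exact hηne
      · intro ht
        exact (hTT t).resolve_left ht
    rw [h1]
    exact (IsLocalRing.isClosed_singleton_closedPoint R).isOpen_compl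
  set c₀ := gT.base v with hc₀def
  set d₀ := gT.base η with hd₀def
  have hφc₀ : φ.base c₀ = v := hφgT v
  have hφd₀ : φ.base d₀ = η := hφgT η
  have hd₀c₀ : d₀ ⤳ c₀ := hηv.map gT.continuous
  -- points of the component of the closed fibre lie over `X_y⁰`
  have hCX : ∀ c ∈ connectedComponentIn (φ.base ⁻¹' {v}) c₀,
      p.base c ∈ connectedComponentIn (f.base ⁻¹' {y}) (g.base y) := by
    intro c hcC
    have hφc : φ.base c = v := connectedComponentIn_subset (φ.base ⁻¹' {v}) _ hcC
    have h1 := (hmemS c).mp (by rw [hφc]; exact hcC)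
    rw [hfp, hφc, hm1] at h1
    exact h1
  have hloc : ∀ c ∈ connectedComponentIn (φ.base ⁻¹' {v}) c₀,
      (∃ w : ↥(pullback f m), w ⤳ c ∧ φ.base w = η) ∧
        _root_.IsPreconnected {w : ↥(pullback f m) | w ⤳ c ∧ φ.base w ≠ φ.base c} := by
    intro c hcC
    have hφc : φ.base c = v := connectedComponentIn_subset (φ.base ⁻¹' {v}) _ hcC
    have hpc := hCX c hcC
    have huoc : EGA43.IsUnivOpenAt φ c :=
      Groth.Agent.Lib.helper8.isUnivOpenAt_of_isPullback (hy _ hpc).1 hc c rfl
    constructor
    · obtain ⟨ξ', hξ'c, hφξ', -⟩ := exists_generization_td_ge φ c huoc η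
        (by rw [hφc]; exact hηv)
      exact ⟨ξ', hξ'c, hφξ'⟩
    · -- radical fibre ideal
      have hrad : (fibIdeal φ c).IsRadical :=
        isRadical_fibIdeal_of_isGeomReducedAt hc c (f.base (p.base c)) (hfp c).symm
          (f.asFiber (p.base c)) (f.fiberι_asFiber _) (hy _ hpc).2
      -- flatness
      have hflat : (φ.stalkMap c).hom.Flat := by
        apply Groth.Agent.Lib.helper3.DvrFlat.flat_stalkMap_of_dvr_base φ c hφc
        · intro z hz hzmax
          set z' := (φ.fiberι (φ.base c)).base z with hz'
          have hz'c : z' ⤳ c := by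
            have h1 : z ⤳ φ.asFiber c := specializes_iff_mem_closure.mpr hz
            have h2 := h1.map (φ.fiberι (φ.base c)).continuous
            rwa [φ.fiberι_asFiber] at h2
          have hφz' : φ.base z' = φ.base c := by
            have h1 : z' ∈ Set.range (φ.fiberι (φ.base c)).base := ⟨z, rfl⟩
            rw [φ.range_fiberι] at h1
            exact h1
          have hz'C : z' ∈ connectedComponentIn (φ.base ⁻¹' {v}) c₀ := by
            have h1 := closure_inter_fibre_subset_connectedComponentIn φ z' c hz'c hφz'
              ⟨subset_closure rfl, hφz'⟩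
            rw [hφc] at h1
            have h2 : connectedComponentIn (φ.base ⁻¹' {v}) c₀ =
                connectedComponentIn (φ.base ⁻¹' {v}) c := connectedComponentIn_eq hcC
            rw [h2]
            exact h1
          have huoz : EGA43.IsUnivOpenAt φ z' :=
            Groth.Agent.Lib.helper8.isUnivOpenAt_of_isPullback (hy _ (hCX z' hz'C)).1 hc z' rfl
          exact Groth.Agent.Lib.helper8.isOpenAt_snd_of_isPullback huoz (IsPullback.id_horiz φ)
            z' rfl
        · obtain ⟨e⟩ := nonempty_asFiber_stalk_equiv φ c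
          haveI : _root_.IsReduced (FibRing φ c) :=
            (Ideal.isRadical_iff_quotient_reduced _).mp hrad
          exact isReduced_of_injective e.symm.toRingHom e.symm.injective
      -- the uniformizer
      have hprin : (maximalIdeal ((Spec (CommRingCat.of R)).presheaf.stalk (φ.base c))).IsPrincipal := by
        rw [hφc]
        exact isPrincipal_maximalIdeal_stalk_closedPoint R
      obtain ⟨ϖ₀, hϖ₀⟩ := hprin.principal
      have hϖ₀' : maximalIdeal ((Spec (CommRingCat.of R)).presheaf.stalk (φ.base c)) =
          Ideal.span {ϖ₀} := hϖ₀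
      have hϖ₀ne : ϖ₀ ≠ 0 := by
        rintro rfl
        -- then the maximal ideal is zero, but `η ⤳ v`, `η ≠ v`
        have hmax0 : maximalIdeal ((Spec (CommRingCat.of R)).presheaf.stalk (φ.base c)) = ⊥ := by
          rw [hϖ₀']; simp
        have hηc : η ⤳ φ.base c := by rw [hφc]; exact hηv
        have hr : η ∈ Set.range ((Spec (CommRingCat.of R)).fromSpecStalk (φ.base c)) := by
          rw [Scheme.range_fromSpecStalk]; exact hηc
        obtain ⟨q, hq⟩ := hr
        have hq0 : q.asIdeal = ⊥ := by
          apply le_antisymm _ bot_le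
          rw [← hmax0]
          exact IsLocalRing.le_maximalIdeal q.isPrime.ne_top
        have hqcl : q = closedPoint ((Spec (CommRingCat.of R)).presheaf.stalk (φ.base c)) := by
          apply PrimeSpectrum.ext
          rw [hq0]
          exact hmax0.symm
        rw [hqcl, Scheme.fromSpecStalk_closedPoint, hφc] at hq
        exact hηne hq.symm
      have hreg : (φ.stalkMap c).hom ϖ₀ ∈ nonZeroDivisors ((pullback f m).presheaf.stalk c) := by
        letI := (φ.stalkMap c).hom.toAlgebra
        haveI : Module.Flat ((Spec (CommRingCat.of R)).presheaf.stalk (φ.base c))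
            ((pullback f m).presheaf.stalk c) := hflat
        have h1 : ϖ₀ ∈ nonZeroDivisors ((Spec (CommRingCat.of R)).presheaf.stalk (φ.base c)) :=
          mem_nonZeroDivisors_of_ne_zero hϖ₀ne
        have h2 := Module.Flat.isSMulRegular_of_nonZeroDivisors
          (M := (pullback f m).presheaf.stalk c) h1
        rw [mem_nonZeroDivisors_iff_right]
        intro z hz
        apply h2
        change (φ.stalkMap c).hom ϖ₀ * z = (φ.stalkMap c).hom ϖ₀ * 0
        rw [mul_zero, mul_comm]
        exact hz
      exact isPreconnected_generizations φ c ϖ₀ hϖ₀' hreg hrad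
  -- conclusion
  have hmain := mem_connectedComponentIn_of_specializes φ v η hηo hTT hηne c₀ d₀ hφc₀ hφd₀
    hd₀c₀ hloc
  -- `hT v` lies in the component
  have hhTvC : hT.base v ∈ connectedComponentIn (φ.base ⁻¹' {v}) c₀ := by
    have h1 := (hmemS (hT.base v)).mpr (by
      rw [hphT, hh1, hfx]; exact hx)
    rw [hφhT] at h1
    exact h1
  have h2 := hmain (hT.base v) hhTvC (hT.base η) (hηv.map hT.continuous) (hφhT η)
  have h3 := (hmemS (hT.base η)).mp (by rw [hφhT]; exact h2)
  rw [hphT, hh2] at h3
  exact h3

end Groth.Agent.Lib.helper9.SecNbhd
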