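import Groth.Agent.Lib.Helper9.FinBC1

/-!
# Finite base change criterion for universal openness (helper9), part 2: auxiliary ring lemmas
-/

set_option autoImplicit false
set_option linter.style.haveILetI false
universe u

open PrimeSpectrum Topology

namespace Groth.Agent.Lib.helper9.FinBC

/-- A constructible subset of the spectrum of a domain missing the generic point is contained
in a proper principal closed subset. -/
theorem exists_ne_zero_of_isConstructible {C : Type u} [CommRing C] [IsDomain C]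
    (E : Set (PrimeSpectrum C)) (hE : IsConstructible E)
    (h0 : ∀ P ∈ E, P.asIdeal ≠ ⊥) :
    ∃ a : C, a ≠ 0 ∧ ∀ P ∈ E, a ∈ P.asIdeal := by
  obtain ⟨S, _, f, rfl⟩ := exists_range_eq_of_isConstructible hE
  have hninj : ¬ Function.Injective f := by
    intro hinj
    have hb : (⊥ : Ideal C) ∈ minimalPrimes C := by
      rw [IsDomain.minimalPrimes_eq_singleton_bot]; rfl
    obtain ⟨p', hp', hcomap⟩ := Ideal.exists_comap_eq_of_mem_minimalPrimes_of_injective hinj ⊥ hb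
    exact h0 (comap f ⟨p', hp'⟩) ⟨⟨p', hp'⟩, rfl⟩ hcomap
  rw [injective_iff_map_eq_zero] at hninj
  push_neg at hninj
  obtain ⟨a, hfa, ha⟩ := hninj
  refine ⟨a, ha, ?_⟩
  rintro _ ⟨Q, rfl⟩
  change f a ∈ Q.asIdeal
  rw [hfa]
  exact Q.asIdeal.zero_mem

/-- In a finite type algebra, every nonempty open subset of a fibre contains a point which is
maximal in its fibre. -/
theorem exists_maximal_in_fibre {A C : Type u} [CommRing A] [CommRing C] [Algebra A C]
    [Algebra.FiniteType A C] (U : Set (PrimeSpectrum C)) (hU : IsOpen U) (P₀ : PrimeSpectrum C)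
    (hP₀ : P₀ ∈ U) :
    ∃ P ∈ U, comap (algebraMap A C) P = comap (algebraMap A C) P₀ ∧
      ∀ P₁ : PrimeSpectrum C, P ≤ P₁ → comap (algebraMap A C) P₁ = comap (algebraMap A C) P₀ →
        P₁ = P := by
  set 𝔭 := comap (algebraMap A C) P₀ with h𝔭
  let e := PrimeSpectrum.preimageHomeomorphFiber A C 𝔭
  haveI : IsJacobsonRing (𝔭.asIdeal.Fiber C) :=
    isJacobsonRing_of_finiteType (A := 𝔭.asIdeal.ResidueField)
  let Z : Set (PrimeSpectrum (𝔭.asIdeal.Fiber C)) := e '' (Subtype.val ⁻¹' U)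
  have hZo : IsOpen Z := (e.isOpen_image).mpr (hU.preimage continuous_subtype_val)
  have hZne : Z.Nonempty := ⟨e ⟨P₀, rfl⟩, ⟨P₀, rfl⟩, hP₀, rfl⟩
  obtain ⟨z, hzZ, hzcl⟩ := nonempty_inter_closedPoints hZne hZo.isLocallyClosed
  obtain ⟨⟨P, hP𝔭⟩, hPU, rfl⟩ := hzZ
  refine ⟨P, hPU, hP𝔭, ?_⟩
  intro P₁ hle hP₁
  have hP₁' : P₁ ∈ comap (algebraMap A C) ⁻¹' {𝔭} := hP₁
  have hsp : (⟨P, hP𝔭⟩ : comap (algebraMap A C) ⁻¹' {𝔭}) ⤳ ⟨P₁, hP₁'⟩ :=
    Topology.IsInducing.subtypeVal.specializes_iff.mp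
      ((PrimeSpectrum.le_iff_specializes _ _).mp hle)
  have h2 := hsp.map e.continuous
  have h3 : e ⟨P₁, hP₁'⟩ ∈ closure {e ⟨P, hP𝔭⟩} := specializes_iff_mem_closure.mp h2
  rw [(mem_closedPoints_iff.mp hzcl).closure_eq, Set.mem_singleton_iff] at h3
  exact congrArg Subtype.val (e.injective h3)

/-- An element isolating `P` among the primes containing `P'' + I`, when `P` covers `P''`. -/
theorem exists_isolating {C : Type u} [CommRing C] [IsNoetherianRing C] (P'' P I : Ideal C)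
    [P''.IsPrime] [P.IsPrime] (hlt : P'' < P) (hIP : I ≤ P) (hI : ¬ I ≤ P'')
    (hcov : ∀ P₁ : Ideal C, P₁.IsPrime → P'' < P₁ → P₁ ≤ P → P₁ = P) :
    ∃ h : C, h ∉ P ∧ ∀ P₁ : Ideal C, P₁.IsPrime → P'' ≤ P₁ → I ≤ P₁ → h ∉ P₁ → P ≤ P₁ := by
  classical
  set J := P'' ⊔ I with hJ
  have hJP : J ≤ P := sup_le hlt.le hIP
  have hfin := J.finite_minimalPrimes_of_isNoetherianRing C
  -- `P` is minimal over `J`
  have hmin : ∀ r : Ideal C, r.IsPrime → J ≤ r → r ≤ P → r = P := by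
    intro r hr hJr hrP
    refine hcov r hr (lt_of_le_of_ne (le_sup_left.trans hJr) ?_) hrP
    intro h
    exact hI (h ▸ (le_sup_right.trans hJr))
  set s : Finset (Ideal C) := hfin.toFinset.erase P with hs
  have hprod : ¬ (s.prod id) ≤ P := by
    intro hle
    obtain ⟨r, hrs, hrP⟩ := (Ideal.IsPrime.prod_le ‹P.IsPrime›).mp hle
    have hr := hfin.mem_toFinset.mp (Finset.mem_of_mem_erase hrs)
    exact (Finset.ne_of_mem_erase hrs) (hmin r hr.1.1 hr.1.2 hrP)
  obtain ⟨h, hprodmem, hhP⟩ := Set.not_subset.mp hprod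
  refine ⟨h, hhP, ?_⟩
  intro P₁ hP₁ h1 h2 hh
  haveI := hP₁
  obtain ⟨r, hr, hrP₁⟩ := Ideal.exists_minimalPrimes_le (sup_le h1 h2 : J ≤ P₁)
  by_cases hrP : r = P
  · exact hrP ▸ hrP₁
  · exfalso
    have hrs : r ∈ s := Finset.mem_erase.mpr ⟨hrP, hfin.mem_toFinset.mpr hr⟩
    have : s.prod id ≤ r := Ideal.prod_le_inf.trans (Finset.inf_le hrs)
    exact hh (hrP₁ (this hprodmem))

/-- The set of primes of `D` having a generization lying over the generic point of the domain `C`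
is closed. -/
theorem isClosed_good {C D : Type u} [CommRing C] [CommRing D] [Algebra C D]
    [IsNoetherianRing D] :
    IsClosed {Q : PrimeSpectrum D | ∃ Q' : PrimeSpectrum D, Q' ≤ Q ∧
      (comap (algebraMap C D) Q').asIdeal = ⊥} := by
  have hfin := minimalPrimes.finite_of_isNoetherianRing D
  have heq : {Q : PrimeSpectrum D | ∃ Q' : PrimeSpectrum D, Q' ≤ Q ∧
      (comap (algebraMap C D) Q').asIdeal = ⊥} =
      ⋃ q ∈ {q ∈ minimalPrimes D | q.comap (algebraMap C D) = ⊥}, zeroLocus (q : Set D) := by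
    ext Q
    simp only [Set.mem_ofPred_eq, Set.mem_iUnion, mem_zeroLocus, SetLike.coe_subset_coe,
      exists_prop]
    constructor
    · rintro ⟨Q', hle, hQ'⟩
      obtain ⟨q, hq, hqQ'⟩ := Ideal.exists_minimalPrimes_le (bot_le : (⊥ : Ideal D) ≤ Q'.asIdeal)
      refine ⟨q, ⟨hq, ?_⟩, hqQ'.trans hle⟩
      refine le_bot_iff.mp ?_
      rw [← hQ']
      exact Ideal.comap_mono hqQ'
    · rintro ⟨q, ⟨hq, hq0⟩, hqQ⟩
      exact ⟨⟨q, hq.1.1⟩, hqQ, hq0⟩
  rw [heq]
  exact (hfin.subset (fun q hq => hq.1)).isClosed_biUnion (fun q _ => isClosed_zeroLocus _)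

end Groth.Agent.Lib.helper9.FinBC
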