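import Mathlib
import Groth.Agent.Lib.Helper9.FinBC2

/-!
# Elimination: absolute irreducibility spreads out (helper9)

`A` a domain, `P ∈ A[T_σ]` (`σ` finite) such that the image of `P` in `Ω[T_σ]` is irreducible for
every injective ring map `A → Ω` into a field (`P` is absolutely irreducible over `Frac A`).
Then there is `a ≠ 0` in `A` such that the image of `P` in `Ω[T_σ]` is irreducible for every ring
map `φ : A → Ω` into a field with `φ a ≠ 0` (EGA IV 9.7.4-type statement). The proof is by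
Chevalley's theorem applied to the universal factorisation of bounded degree.
-/

set_option autoImplicit false
universe u
open MvPolynomial PrimeSpectrum Topology

namespace Groth.Agent.Lib.helper9.GenIrr

section Elim

variable {σ : Type u} [Finite σ] {A : Type u} [CommRing A]

/-- the monomials of degree at most `e`. -/
noncomputable def monos (σ : Type u) [Finite σ] (e : ℕ) : Finset (σ →₀ ℕ) :=
  (Finsupp.finite_of_degree_le (σ := σ) e).toFinset

theorem mem_monos {e : ℕ} {m : σ →₀ ℕ} : m ∈ monos σ e ↔ m.degree ≤ e := by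
  simp [monos]

/-- nonconstant polynomials. -/
def NonConst {R : Type*} [CommSemiring R] (Q : MvPolynomial σ R) : Prop :=
  ∃ m : σ →₀ ℕ, m ≠ 0 ∧ coeff m Q ≠ 0

/-- the coefficient ring of the universal factorisation of degree `≤ e`. -/
abbrev Cf (σ : Type u) [Finite σ] (A : Type u) [CommRing A] (e : ℕ) : Type u :=
  MvPolynomial (↥(monos σ e) ⊕ ↥(monos σ e)) A

/-- the first universal factor. -/
noncomputable def Qu (σ : Type u) [Finite σ] (A : Type u) [CommRing A] (e : ℕ) :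
    MvPolynomial σ (Cf σ A e) :=
  ∑ m ∈ (monos σ e).attach, monomial m.1 (X (Sum.inl m))

/-- the second universal factor. -/
noncomputable def Ru (σ : Type u) [Finite σ] (A : Type u) [CommRing A] (e : ℕ) :
    MvPolynomial σ (Cf σ A e) :=
  ∑ m ∈ (monos σ e).attach, monomial m.1 (X (Sum.inr m))

theorem coeff_Qu_of_mem (e : ℕ) (n : σ →₀ ℕ) (h : n ∈ monos σ e) :
    coeff n (Qu σ A e) = X (Sum.inl ⟨n, h⟩) := by
  classical
  rw [Qu, coeff_sum]
  simp only [coeff_monomial]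
  rw [Finset.sum_eq_single ⟨n, h⟩]
  · simp
  · intro b _ hb
    rw [if_neg]
    intro h'
    exact hb (Subtype.ext h')
  · intro h'
    exact absurd (Finset.mem_attach _ _) h'

theorem coeff_Qu_of_not_mem (e : ℕ) (n : σ →₀ ℕ) (h : n ∉ monos σ e) :
    coeff n (Qu σ A e) = 0 := by
  classical
  rw [Qu, coeff_sum]
  simp only [coeff_monomial]
  apply Finset.sum_eq_zero
  intro b _
  rw [if_neg]
  intro h'
  exact h (h' ▸ b.2)

theorem coeff_Ru_of_mem (e : ℕ) (n : σ →₀ ℕ) (h : n ∈ monos σ e) :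
    coeff n (Ru σ A e) = X (Sum.inr ⟨n, h⟩) := by
  classical
  rw [Ru, coeff_sum]
  simp only [coeff_monomial]
  rw [Finset.sum_eq_single ⟨n, h⟩]
  · simp
  · intro b _ hb
    rw [if_neg]
    intro h'
    exact hb (Subtype.ext h')
  · intro h'
    exact absurd (Finset.mem_attach _ _) h'

theorem coeff_Ru_of_not_mem (e : ℕ) (n : σ →₀ ℕ) (h : n ∉ monos σ e) :
    coeff n (Ru σ A e) = 0 := by
  classical
  rw [Ru, coeff_sum]
  simp only [coeff_monomial]
  apply Finset.sum_eq_zero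
  intro b _
  rw [if_neg]
  intro h'
  exact h (h' ▸ b.2)

theorem coeff_eq_zero_of_not_mem_monos {R : Type*} [CommSemiring R] {e : ℕ}
    (Q : MvPolynomial σ R) (hQ : Q.totalDegree ≤ e) (n : σ →₀ ℕ) (hn : n ∉ monos σ e) :
    coeff n Q = 0 := by
  by_contra h
  have h1 : n ∈ Q.support := mem_support_iff.mpr h
  have h2 := le_totalDegree h1
  apply hn
  rw [mem_monos]
  have : n.degree = n.sum fun _ e => e := rfl
  rw [this]
  exact h2.trans hQ

theorem map_Qu {Ω : Type*} [CommRing Ω] (e : ℕ) (ψ : Cf σ A e →+* Ω) (Q : MvPolynomial σ Ω)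
    (hQ : Q.totalDegree ≤ e) (h : ∀ m : ↥(monos σ e), ψ (X (Sum.inl m)) = coeff m.1 Q) :
    map ψ (Qu σ A e) = Q := by
  ext n
  rw [coeff_map]
  by_cases hn : n ∈ monos σ e
  · rw [coeff_Qu_of_mem e n hn]
    exact h ⟨n, hn⟩
  · rw [coeff_Qu_of_not_mem e n hn, map_zero, coeff_eq_zero_of_not_mem_monos Q hQ n hn]

theorem map_Ru {Ω : Type*} [CommRing Ω] (e : ℕ) (ψ : Cf σ A e →+* Ω) (R : MvPolynomial σ Ω)
    (hR : R.totalDegree ≤ e) (h : ∀ m : ↥(monos σ e), ψ (X (Sum.inr m)) = coeff m.1 R) :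
    map ψ (Ru σ A e) = R := by
  ext n
  rw [coeff_map]
  by_cases hn : n ∈ monos σ e
  · rw [coeff_Ru_of_mem e n hn]
    exact h ⟨n, hn⟩
  · rw [coeff_Ru_of_not_mem e n hn, map_zero, coeff_eq_zero_of_not_mem_monos R hR n hn]

/-- the universal equation. -/
noncomputable def Gu (e : ℕ) (P : MvPolynomial σ A) : MvPolynomial σ (Cf σ A e) :=
  Qu σ A e * Ru σ A e - map (C : A →+* Cf σ A e) P

/-- the bad locus: primes of `A` over which `P` has a factorisation into nonconstant factors of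
degree `≤ e`. -/
noncomputable def Bad (e : ℕ) (P : MvPolynomial σ A) : Set (PrimeSpectrum A) :=
  comap (C : A →+* Cf σ A e) ''
    (zeroLocus ((fun n => coeff n (Gu e P)) '' (↑(Gu e P).support : Set (σ →₀ ℕ))) ∩
      (⋃ m ∈ {m : ↥(monos σ e) | m.1 ≠ 0},
        (basicOpen (X (Sum.inl m) : Cf σ A e) : Set (PrimeSpectrum (Cf σ A e)))) ∩
      (⋃ m ∈ {m : ↥(monos σ e) | m.1 ≠ 0},
        (basicOpen (X (Sum.inr m) : Cf σ A e) : Set (PrimeSpectrum (Cf σ A e)))))

theorem isConstructible_bad (e : ℕ) (P : MvPolynomial σ A) : IsConstructible (Bad e P) := by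
  classical
  apply PrimeSpectrum.isConstructible_comap_image
  · have h1 : (algebraMap A (Cf σ A e)).FinitePresentation :=
      RingHom.finitePresentation_algebraMap.mpr inferInstance
    rwa [MvPolynomial.algebraMap_eq] at h1
  · refine (IsConstructible.inter ?_ ?_).inter ?_
    · rw [← isConstructible_compl]
      exact (isRetrocompact_zeroLocus_compl ((Finset.finite_toSet _).image _)).isConstructible
        (isClosed_zeroLocus _).isOpen_compl
    · exact IsConstructible.biUnion (Set.toFinite _) fun m _ => isConstructible_basicOpen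
    · exact IsConstructible.biUnion (Set.toFinite _) fun m _ => isConstructible_basicOpen

theorem mem_zeroLocus_Gu_iff (e : ℕ) (P : MvPolynomial σ A) (𝔮 : PrimeSpectrum (Cf σ A e)) :
    𝔮 ∈ zeroLocus ((fun n => coeff n (Gu e P)) '' (↑(Gu e P).support : Set (σ →₀ ℕ))) ↔
      ∀ n, coeff n (Gu e P) ∈ 𝔮.asIdeal := by
  classical
  rw [mem_zeroLocus]
  constructor
  · intro h n
    by_cases hn : n ∈ (Gu e P).support
    · exact h (Set.mem_image_of_mem _ (Finset.mem_coe.mpr hn))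
    · rw [notMem_support_iff.mp hn]
      exact 𝔮.asIdeal.zero_mem
  · intro h x hx
    obtain ⟨n, _, rfl⟩ := hx
    exact h n

theorem mem_bad_of_factor {Ω : Type*} [Field Ω] (e : ℕ) (P : MvPolynomial σ A) (φ : A →+* Ω)
    (Q R : MvPolynomial σ Ω) (hQ : Q.totalDegree ≤ e) (hR : R.totalDegree ≤ e)
    (hQn : NonConst Q) (hRn : NonConst R) (hPQR : map φ P = Q * R) :
    (⟨RingHom.ker φ, RingHom.ker_isPrime φ⟩ : PrimeSpectrum A) ∈ Bad e P := by
  classical
  set ψ : Cf σ A e →+* Ω :=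
    eval₂Hom φ (Sum.elim (fun m => coeff m.1 Q) (fun m => coeff m.1 R)) with hψ
  have hψC : ∀ a, ψ (C a) = φ a := fun a => by simp [hψ]
  have hψl : ∀ m : ↥(monos σ e), ψ (X (Sum.inl m)) = coeff m.1 Q := fun m => by simp [hψ]
  have hψr : ∀ m : ↥(monos σ e), ψ (X (Sum.inr m)) = coeff m.1 R := fun m => by simp [hψ]
  have hmapG : map ψ (Gu e P) = 0 := by
    rw [Gu, map_sub, map_mul, map_Qu e ψ Q hQ hψl, map_Ru e ψ R hR hψr, map_map]
    have : ψ.comp (C : A →+* Cf σ A e) = φ := RingHom.ext hψC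
    rw [this, hPQR, sub_self]
  refine ⟨⟨RingHom.ker ψ, RingHom.ker_isPrime ψ⟩, ⟨⟨?_, ?_⟩, ?_⟩, ?_⟩
  · rw [mem_zeroLocus_Gu_iff]
    intro n
    change ψ (coeff n (Gu e P)) = 0
    rw [← coeff_map, hmapG, coeff_zero]
  · obtain ⟨m, hm0, hm⟩ := hQn
    have hmem : m ∈ monos σ e := by
      by_contra h
      exact hm (coeff_eq_zero_of_not_mem_monos Q hQ m h)
    refine Set.mem_iUnion₂.mpr ⟨⟨m, hmem⟩, hm0, ?_⟩
    rw [SetLike.mem_coe, PrimeSpectrum.mem_basicOpen]
    intro h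
    have h' : ψ (X (Sum.inl ⟨m, hmem⟩)) = 0 := h
    rw [hψl] at h'
    exact hm h'
  · obtain ⟨m, hm0, hm⟩ := hRn
    have hmem : m ∈ monos σ e := by
      by_contra h
      exact hm (coeff_eq_zero_of_not_mem_monos R hR m h)
    refine Set.mem_iUnion₂.mpr ⟨⟨m, hmem⟩, hm0, ?_⟩
    rw [SetLike.mem_coe, PrimeSpectrum.mem_basicOpen]
    intro h
    have h' : ψ (X (Sum.inr ⟨m, hmem⟩)) = 0 := h
    rw [hψr] at h'
    exact hm h'
  · apply PrimeSpectrum.ext
    ext a
    change ψ (C a) = 0 ↔ φ a = 0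
    rw [hψC]

theorem factor_of_mem_bad (e : ℕ) (P : MvPolynomial σ A) (p : PrimeSpectrum A)
    (hp : p ∈ Bad e P) :
    ∃ (Ω : Type u) (_ : Field Ω) (φ : A →+* Ω) (Q R : MvPolynomial σ Ω),
      RingHom.ker φ = p.asIdeal ∧ NonConst Q ∧ NonConst R ∧ map φ P = Q * R := by
  classical
  obtain ⟨𝔮, ⟨⟨hZ, hOQ⟩, hOR⟩, rfl⟩ := hp
  rw [mem_zeroLocus_Gu_iff] at hZ
  set ψ : Cf σ A e →+* 𝔮.asIdeal.ResidueField := algebraMap _ _ with hψ
  have hker : ∀ x, ψ x = 0 ↔ x ∈ 𝔮.asIdeal := fun x =>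
    Ideal.algebraMap_residueField_eq_zero
  refine ⟨𝔮.asIdeal.ResidueField, inferInstance, ψ.comp C, map ψ (Qu σ A e), map ψ (Ru σ A e),
    ?_, ?_, ?_, ?_⟩
  · ext a
    rw [RingHom.mem_ker, RingHom.comp_apply, hker]
    rfl
  · obtain ⟨m, hm0, hm⟩ := Set.mem_iUnion₂.mp hOQ
    refine ⟨m.1, hm0, ?_⟩
    rw [coeff_map, coeff_Qu_of_mem e m.1 m.2]
    intro h
    exact hm ((hker _).mp h)
  · obtain ⟨m, hm0, hm⟩ := Set.mem_iUnion₂.mp hOR
    refine ⟨m.1, hm0, ?_⟩
    rw [coeff_map, coeff_Ru_of_mem e m.1 m.2]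
    intro h
    exact hm ((hker _).mp h)
  · have h0 : map ψ (Gu e P) = 0 := by
      ext n
      rw [coeff_map, coeff_zero, hker]
      exact hZ n
    rw [Gu, map_sub, map_mul, map_map, sub_eq_zero] at h0
    exact h0.symm

omit [Finite σ] in
theorem nonConst_of_not_isUnit {Ω : Type*} [Field Ω] (Q : MvPolynomial σ Ω) (h0 : Q ≠ 0)
    (hu : ¬ IsUnit Q) : NonConst Q := by
  classical
  by_contra hc
  have hQ : Q = C (coeff 0 Q) := by
    ext m
    by_cases hm : m = 0
    · subst hm; simp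
    · rw [coeff_C, if_neg (Ne.symm hm)]
      by_contra h
      exact hc ⟨m, hm, h⟩
  apply hu
  rw [hQ]
  have h1 : coeff 0 Q ≠ 0 := fun h => h0 (by rw [hQ, h, C_0])
  exact (isUnit_iff_ne_zero.mpr h1).map C

omit [Finite σ] in
theorem not_isUnit_of_nonConst {Ω : Type*} [Field Ω] (Q : MvPolynomial σ Ω) (h : NonConst Q) :
    ¬ IsUnit Q := by
  classical
  intro hu
  rw [isUnit_iff_eq_C_of_isReduced] at hu
  obtain ⟨r, _, rfl⟩ := hu
  obtain ⟨m, hm0, hm⟩ := h
  rw [coeff_C, if_neg (Ne.symm hm0)] at hm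
  exact hm rfl

/-- **Elimination.** Absolute irreducibility over the fraction field spreads out. -/
theorem exists_ne_zero_forall_irreducible [IsDomain A] (P : MvPolynomial σ A)
    (hP : ∀ (Ω : Type u) [Field Ω] (φ : A →+* Ω), Function.Injective φ →
      Irreducible (map φ P)) :
    ∃ a : A, a ≠ 0 ∧ ∀ (Ω : Type u) [Field Ω] (φ : A →+* Ω), φ a ≠ 0 →
      Irreducible (map φ P) := by
  classical
  set e := P.totalDegree with he
  have hbot : ∀ p ∈ Bad e P, p.asIdeal ≠ ⊥ := by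
    intro p hp hbot
    obtain ⟨Ω, _, φ, Q, R, hker, hQ, hR, hPQR⟩ := factor_of_mem_bad e P p hp
    have hinj : Function.Injective φ := by
      rw [RingHom.injective_iff_ker_eq_bot, hker, hbot]
    have hirr := hP Ω φ hinj
    rcases hirr.isUnit_or_isUnit hPQR with h | h
    · exact not_isUnit_of_nonConst Q hQ h
    · exact not_isUnit_of_nonConst R hR h
  obtain ⟨a₁, ha₁, hmem⟩ := FinBC.exists_ne_zero_of_isConstructible (Bad e P)
    (isConstructible_bad e P) hbot
  have hPK := hP (FractionRing A) (algebraMap A (FractionRing A))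
    (IsFractionRing.injective A _)
  obtain ⟨m₀, hm₀, hc₀⟩ := nonConst_of_not_isUnit _ hPK.ne_zero hPK.not_isUnit
  rw [coeff_map] at hc₀
  have hc₀' : coeff m₀ P ≠ 0 := fun h => hc₀ (by rw [h, map_zero])
  refine ⟨a₁ * coeff m₀ P, mul_ne_zero ha₁ hc₀', ?_⟩
  intro Ω _ φ hφ
  rw [map_mul] at hφ
  have hφ1 : φ a₁ ≠ 0 := left_ne_zero_of_mul hφ
  have hφ2 : φ (coeff m₀ P) ≠ 0 := right_ne_zero_of_mul hφ
  have hnc : NonConst (map φ P) := ⟨m₀, hm₀, by rwa [coeff_map]⟩
  rw [irreducible_iff]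
  refine ⟨not_isUnit_of_nonConst _ hnc, ?_⟩
  intro Q R hQR
  by_contra hcon
  push Not at hcon
  obtain ⟨hQu, hRu⟩ := hcon
  have h0 : map φ P ≠ 0 := by
    obtain ⟨m, _, hm⟩ := hnc
    intro h
    rw [h, coeff_zero] at hm
    exact hm rfl
  have hQ0 : Q ≠ 0 := by
    rintro rfl
    rw [zero_mul] at hQR
    exact h0 hQR
  have hR0 : R ≠ 0 := by
    rintro rfl
    rw [mul_zero] at hQR
    exact h0 hQR
  have hdeg : Q.totalDegree + R.totalDegree ≤ e := by
    rw [← totalDegree_mul_of_isDomain hQ0 hR0, ← hQR]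
    exact Finset.sup_mono (support_map_subset φ P)
  have hb := mem_bad_of_factor e P φ Q R (by omega) (by omega)
    (nonConst_of_not_isUnit Q hQ0 hQu) (nonConst_of_not_isUnit R hR0 hRu) hQR
  exact hφ1 (hmem _ hb)

end Elim

end Groth.Agent.Lib.helper9.GenIrr
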