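import Mathlib

/-!
# Separating transcendence bases and primitive elements from geometric reducedness (helper9)

`L / K` a finitely generated field extension with `K̄ ⊗_K L` reduced. Then `L / K` is separably
generated (MacLane), hence `L = K(t₁, …, t_d, α)` with `t` algebraically independent and `α`
integral over `K[t]`.
-/

set_option autoImplicit false
set_option linter.style.haveILetI false
universe u
open TensorProduct

namespace Groth.Agent.Lib.helper9.GenIrr

section Field

variable {K L : Type u} [Field K] [Field L] [Algebra K L]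

/-- MacLane's criterion from reducedness of `K̄ ⊗ L`. -/
theorem linearIndepOn_pow_of_isReduced (p : ℕ) (hp : p.Prime) [CharP K p]
    (hred : IsReduced (AlgebraicClosure K ⊗[K] L)) (s : Finset L)
    (hs : LinearIndepOn K _root_.id (s : Set L)) : LinearIndepOn K (· ^ p) (s : Set L) := by
  classical
  haveI : Fact p.Prime := ⟨hp⟩
  set Ω := AlgebraicClosure K
  haveI : Nontrivial (Ω ⊗[K] L) := inferInstance
  haveI : CharP (Ω ⊗[K] L) p :=
    charP_of_injective_algebraMap (algebraMap K (Ω ⊗[K] L)).injective p
  have hli : LinearIndependent Ω (fun i : (s : Set L) => (1 : Ω) ⊗ₜ[K] (i : L)) :=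
    Module.Flat.linearIndependent_one_tmul (S := Ω) hs
  rw [LinearIndepOn, Fintype.linearIndependent_iff]
  intro g hg
  choose γ hγ using fun i : (s : Set L) =>
    IsAlgClosed.exists_pow_nat_eq (algebraMap K Ω (g i)) hp.pos
  set z : Ω ⊗[K] L := ∑ i : (s : Set L), γ i ⊗ₜ[K] (i : L) with hz
  have hzp : z ^ p = 0 := by
    rw [hz, sum_pow_char]
    have h1 : ∀ i : (s : Set L), (γ i ⊗ₜ[K] (i : L)) ^ p = (1 : Ω) ⊗ₜ[K] (g i • (i : L) ^ p) := by
      intro i
      rw [Algebra.TensorProduct.tmul_pow, hγ, Algebra.algebraMap_eq_smul_one, smul_tmul]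
    simp_rw [h1]
    rw [← tmul_sum, hg, tmul_zero]
  have hz0 : z = 0 := IsReduced.eq_zero _ ⟨p, hzp⟩
  have hz' : ∑ i : (s : Set L), γ i • ((1 : Ω) ⊗ₜ[K] (i : L)) = 0 := by
    rw [← hz0, hz]
    refine Finset.sum_congr rfl fun i _ => ?_
    rw [TensorProduct.smul_tmul', smul_eq_mul, mul_one]
  have hγ0 := Fintype.linearIndependent_iff.mp hli γ hz'
  intro i
  have h2 := hγ i
  rw [hγ0 i, zero_pow hp.ne_zero] at h2
  exact (map_eq_zero_iff _ (algebraMap K Ω).injective).mp h2.symm

/-- `L / K` is separably generated if `K̄ ⊗ L` is reduced. -/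
theorem exists_sep_transcendenceBasis [Algebra.EssFiniteType K L]
    (hred : IsReduced (AlgebraicClosure K ⊗[K] L)) :
    ∃ s : Finset L, IsTranscendenceBasis K ((↑) : s → L) ∧
      Algebra.IsSeparable (IntermediateField.adjoin K (s : Set L)) L := by
  obtain _ | ⟨p, hp, hpk⟩ := CharP.exists' K
  · exact exists_isTranscendenceBasis_and_isSeparable_of_perfectField K L
  · haveI : ExpChar K p := .prime hp.out
    exact exists_isTranscendenceBasis_and_isSeparable_of_linearIndepOn_pow_of_essFiniteType
      p hp.out fun s hs => linearIndepOn_pow_of_isReduced p hp.out hred s hs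

/-- `L = K(t, α)` with `t` algebraically independent and `α` integral over `K[t]`, primitive and
separable over `K(t)`. -/
theorem exists_sep_gen [Algebra.EssFiniteType K L]
    (hred : IsReduced (AlgebraicClosure K ⊗[K] L)) :
    ∃ (s : Finset L) (α : L), AlgebraicIndependent K ((↑) : s → L) ∧
      (MvPolynomial.aeval ((↑) : s → L) : MvPolynomial s K →ₐ[K] L).toRingHom.IsIntegralElem α ∧
      IntermediateField.adjoin K (Set.range (fun o : Option s => o.elim α (↑))) = ⊤ := by
  classical
  obtain ⟨s, hs, hsep⟩ := exists_sep_transcendenceBasis hred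
  set F := IntermediateField.adjoin K (s : Set L) with hF
  haveI : Algebra.EssFiniteType F L := Algebra.EssFiniteType.of_comp K F L
  haveI : Algebra.IsAlgebraic F L := Algebra.IsSeparable.isAlgebraic F L
  haveI : FiniteDimensional F L := by
    obtain ⟨t, ht⟩ := IntermediateField.fg_top F L
    have h1 : FiniteDimensional F (IntermediateField.adjoin F (t : Set L)) :=
      IntermediateField.finiteDimensional_adjoin
        (fun x _ => (Algebra.IsAlgebraic.isAlgebraic x).isIntegral)
    rw [ht] at h1
    exact IntermediateField.topEquiv.toLinearEquiv.finiteDimensional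
  obtain ⟨α₀, hα₀⟩ := Field.exists_primitive_element F L
  have halg : Algebra.IsAlgebraic (Algebra.adjoin K (Set.range ((↑) : s → L))) L :=
    hs.isAlgebraic
  obtain ⟨y, hy0, hyint⟩ := (halg.isAlgebraic α₀).exists_integral_multiple
  have hy0' : (y : L) ≠ 0 := fun h => hy0 (Subtype.ext h)
  have hyF : (y : L) ∈ F := IntermediateField.algebra_adjoin_le_adjoin K _ (by
    have := y.2
    rwa [Subtype.range_coe] at this)
  refine ⟨s, (y : L) * α₀, hs.1, ?_, ?_⟩
  · obtain ⟨q, hqm, hq⟩ := hyint
    set e := hs.1.aevalEquiv with he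
    refine ⟨q.map (e.symm : _ →+* _), hqm.map _, ?_⟩
    rw [Polynomial.eval₂_map]
    have hcomp : ((MvPolynomial.aeval ((↑) : s → L) : MvPolynomial s K →ₐ[K] L).toRingHom.comp
        (e.symm : _ →+* _)) = algebraMap (Algebra.adjoin K (Set.range ((↑) : s → L))) L := by
      ext x
      change MvPolynomial.aeval ((↑) : s → L) (e.symm x) = _
      rw [← hs.1.algebraMap_aevalEquiv, ← he, AlgEquiv.apply_symm_apply]
    rw [hcomp]
    have h2 : y • α₀ = (y : L) * α₀ := rfl
    rw [← h2]
    exact hq
  · have hrange : Set.range (fun o : Option s => o.elim ((y : L) * α₀) (↑)) =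
        (s : Set L) ∪ {(y : L) * α₀} := by
      ext z
      constructor
      · rintro ⟨o, rfl⟩
        cases o with
        | none => exact Or.inr rfl
        | some i => exact Or.inl i.2
      · rintro (h | h)
        · exact ⟨some ⟨z, h⟩, rfl⟩
        · exact ⟨none, h.symm⟩
    rw [hrange, ← IntermediateField.adjoin_adjoin_left]
    have htop : IntermediateField.adjoin F {(y : L) * α₀} = ⊤ := by
      rw [eq_top_iff, ← hα₀, IntermediateField.adjoin_simple_le_iff]
      have h1 : (y : L) * α₀ ∈ IntermediateField.adjoin F {(y : L) * α₀} :=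
        IntermediateField.mem_adjoin_simple_self F _
      have h2 : (y : L) ∈ IntermediateField.adjoin F {(y : L) * α₀} :=
        (IntermediateField.adjoin F {(y : L) * α₀}).algebraMap_mem ⟨(y : L), hyF⟩
      have h3 := mul_mem (inv_mem h2) h1
      rwa [← mul_assoc, inv_mul_cancel₀ hy0', one_mul] at h3
    rw [htop, IntermediateField.restrictScalars_top]

end Field

end Groth.Agent.Lib.helper9.GenIrr
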