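import Mathlib

/-!
# The hypersurface model of a separably generated extension (helper9)

`L = K(t, α)` with `t` algebraically independent over `K` and `α` integral over `K[t]`.
* `exists_ker_aeval_eq_span` : the kernel of `K[T, X] → L` is principal.
* `irreducible_map_of_isDomain` : if `Ω ⊗_K L'` is a domain, a generator of the kernel of
  `K[T] → L'` stays irreducible over `Ω`.
* `isDomain_tensor_fraction` : `Ω ⊗_A B` a domain ⟹ `Ω ⊗_K L` a domain (`K = Frac A`, `L = Frac B`).
-/

set_option autoImplicit false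
set_option linter.style.haveILetI false
universe u
open TensorProduct MvPolynomial

namespace Groth.Agent.Lib.helper9.GenIrr

section Hyper

variable {K L : Type u} [Field K] [Field L] [Algebra K L] {ι : Type u}

/-- the evaluation point `(α, t)`. -/
def xOpt (t : ι → L) (α : L) : Option ι → L := fun o => o.elim α t

theorem exists_ker_aeval_eq_span (t : ι → L) (ht : AlgebraicIndependent K t) (α : L)
    (hα : (aeval t : MvPolynomial ι K →ₐ[K] L).toRingHom.IsIntegralElem α) :
    ∃ P : MvPolynomial (Option ι) K, P ≠ 0 ∧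
      RingHom.ker (aeval (xOpt t α) : MvPolynomial (Option ι) K →ₐ[K] L) = Ideal.span {P} := by
  letI : Algebra (MvPolynomial ι K) L :=
    (aeval t : MvPolynomial ι K →ₐ[K] L).toRingHom.toAlgebra
  haveI : IsScalarTower K (MvPolynomial ι K) L := IsScalarTower.of_algebraMap_eq (fun k => by
    change algebraMap K L k = aeval t (algebraMap K (MvPolynomial ι K) k)
    rw [AlgHom.commutes])
  haveI : Module.IsTorsionFree (MvPolynomial ι K) L :=
    Module.isTorsionFree_iff_algebraMap_injective.mpr ht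
  have hint : IsIntegral (MvPolynomial ι K) α := hα
  set m := minpoly (MvPolynomial ι K) α with hm
  set E := optionEquivLeft K ι with hE
  refine ⟨E.symm m, ?_, ?_⟩
  · rw [Ne, EmbeddingLike.map_eq_zero_iff]
    exact (minpoly.monic hint).ne_zero
  · have hcomp : ∀ F : MvPolynomial (Option ι) K,
        aeval (xOpt t α) F = Polynomial.aeval α (E F) := by
      intro F
      have h1 : (aeval (xOpt t α) : MvPolynomial (Option ι) K →ₐ[K] L) =
          ((Polynomial.aeval α : Polynomial (MvPolynomial ι K) →ₐ[MvPolynomial ι K] L).restrictScalars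
            K).comp E.toAlgHom := by
        apply MvPolynomial.algHom_ext
        intro o
        cases o with
        | none => simp [xOpt, hE]
        | some i =>
          rw [aeval_X]
          change t i = Polynomial.aeval α (E (X (some i)))
          rw [hE, optionEquivLeft_X_some, Polynomial.aeval_C]
          change t i = aeval t (X i)
          rw [aeval_X]
      rw [h1]
      rfl
    ext F
    rw [RingHom.mem_ker, Ideal.mem_span_singleton]
    change aeval (xOpt t α) F = 0 ↔ _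
    rw [hcomp, minpoly.isIntegrallyClosed_dvd_iff hint]
    constructor
    · rintro ⟨G, hG⟩
      exact ⟨E.symm G, by rw [← map_mul, ← hG, AlgEquiv.symm_apply_apply]⟩
    · rintro ⟨G, hG⟩
      exact ⟨E G, by rw [hG, map_mul, AlgEquiv.apply_symm_apply]⟩

end Hyper

section AbsIrr

variable {K L' : Type u} [Field K] [CommRing L'] [Algebra K L'] {σ : Type u}

/-- If `Ω ⊗_K L'` is a domain, a generator of the kernel of `K[T] → L'` stays irreducible over
`Ω`. -/
theorem irreducible_map_of_isDomain (x : σ → L') (P : MvPolynomial σ K) (hP0 : P ≠ 0)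
    (hker : RingHom.ker (aeval x : MvPolynomial σ K →ₐ[K] L') = Ideal.span {P})
    (Ω : Type u) [Field Ω] [Algebra K Ω] [IsDomain (Ω ⊗[K] L')] :
    Irreducible (map (algebraMap K Ω) P) := by
  classical
  set ev : MvPolynomial σ K →ₐ[K] L' := aeval x with hev
  set ev' : MvPolynomial σ K →ₐ[K] ev.range := ev.rangeRestrict with hev'
  have hev'surj : Function.Surjective ev' := ev.rangeRestrict_surjective
  have hker' : RingHom.ker ev' = Ideal.span {P} := by
    rw [← hker]
    exact ev.ker_rangeRestrict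
  set Φ' := Algebra.TensorProduct.map (AlgHom.id K Ω) ev' with hΦ'
  have hkerΦ' : RingHom.ker Φ' =
      (RingHom.ker ev').map (Algebra.TensorProduct.includeRight :
        MvPolynomial σ K →ₐ[K] Ω ⊗[K] MvPolynomial σ K) :=
    Algebra.TensorProduct.lTensor_ker _ hev'surj
  set j := Algebra.TensorProduct.map (AlgHom.id K Ω) ev.range.val with hj'
  have hj : Function.Injective j :=
    Module.Flat.lTensor_preserves_injective_linearMap (M := Ω) ev.range.val.toLinearMap
      Subtype.val_injective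
  set E := algebraTensorAlgEquiv K Ω (σ := σ) with hE
  set PΩ := map (algebraMap K Ω) P with hPΩ
  have hEP : E ((1 : Ω) ⊗ₜ[K] P) = PΩ := by
    rw [hE, algebraTensorAlgEquiv_tmul, one_smul]
  have hΨker : ∀ F : MvPolynomial σ Ω, j (Φ' (E.symm F)) = 0 ↔ PΩ ∣ F := by
    intro F
    rw [map_eq_zero_iff _ hj, ← RingHom.mem_ker, hkerΦ', hker', Ideal.map_span,
      Set.image_singleton, Ideal.mem_span_singleton]
    change (1 : Ω) ⊗ₜ[K] P ∣ E.symm F ↔ _
    constructor
    · rintro ⟨G, hG⟩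
      refine ⟨E G, ?_⟩
      rw [← hEP, ← map_mul, ← hG, AlgEquiv.apply_symm_apply]
    · rintro ⟨G, hG⟩
      refine ⟨E.symm G, ?_⟩
      rw [hG, map_mul, ← hEP, AlgEquiv.symm_apply_apply]
  have hΨmul : ∀ F G : MvPolynomial σ Ω,
      j (Φ' (E.symm (F * G))) = j (Φ' (E.symm F)) * j (Φ' (E.symm G)) := by
    intro F G
    rw [map_mul, map_mul, map_mul]
  have hΨone : j (Φ' (E.symm (1 : MvPolynomial σ Ω))) = 1 := by
    rw [map_one, map_one, map_one]
  have hPΩ0 : PΩ ≠ 0 := by
    intro h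
    apply hP0
    apply map_injective _ (algebraMap K Ω).injective
    rw [← hPΩ, h, map_zero]
  rw [irreducible_iff]
  constructor
  · intro hu
    obtain ⟨G, hG⟩ := hu.exists_right_inv
    have h0 : j (Φ' (E.symm PΩ)) = 0 := (hΨker PΩ).mpr dvd_rfl
    have h1 := hΨmul PΩ G
    rw [hG, hΨone, h0, zero_mul] at h1
    exact one_ne_zero h1
  · intro Q R hQR
    have h0 : j (Φ' (E.symm (Q * R))) = 0 := by
      rw [← hQR]
      exact (hΨker PΩ).mpr dvd_rfl
    rw [hΨmul, mul_eq_zero] at h0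
    rcases h0 with h0 | h0
    · obtain ⟨S, hS⟩ := (hΨker Q).mp h0
      right
      have h2 : PΩ * 1 = PΩ * (S * R) := by
        rw [mul_one, ← mul_assoc, ← hS, ← hQR]
      have h3 := mul_left_cancel₀ hPΩ0 h2
      exact IsUnit.of_mul_eq_one S (by rw [mul_comm]; exact h3.symm)
    · obtain ⟨S, hS⟩ := (hΨker R).mp h0
      left
      have h2 : PΩ * 1 = PΩ * (S * Q) := by
        rw [mul_one, ← mul_assoc, ← hS, mul_comm R Q, ← hQR]
      have h3 := mul_left_cancel₀ hPΩ0 h2
      exact IsUnit.of_mul_eq_one S (by rw [mul_comm]; exact h3.symm)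

end AbsIrr

section Frac

variable {A B K L Ω : Type u} [CommRing A] [IsDomain A] [CommRing B] [IsDomain B] [Algebra A B]
  [Field K] [Field L] [Algebra A K] [IsFractionRing A K] [Algebra B L] [IsFractionRing B L]
  [Algebra A L] [IsScalarTower A B L] [Algebra K L] [IsScalarTower A K L]
  [Field Ω] [Algebra K Ω] [Algebra A Ω] [IsScalarTower A K Ω]

omit [IsDomain A] in
theorem isDomain_tensor_fraction_aux [Module.Flat A Ω] (h : IsDomain (Ω ⊗[A] B)) :
    IsDomain (Ω ⊗[A] L) := by
  classical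
  set ι := Algebra.TensorProduct.map (AlgHom.id A Ω) (IsScalarTower.toAlgHom A B L) with hι
  have hιinj : Function.Injective ι :=
    Module.Flat.lTensor_preserves_injective_linearMap (M := Ω)
      (IsScalarTower.toAlgHom A B L).toLinearMap (IsFractionRing.injective B L)
  have hι1 : ∀ b : B, ι ((1 : Ω) ⊗ₜ[A] b) = (1 : Ω) ⊗ₜ[A] algebraMap B L b := fun b => by
    rw [hι, Algebra.TensorProduct.map_tmul]
    rfl
  have hden : ∀ z : Ω ⊗[A] L, ∃ b : B, b ≠ 0 ∧ ∃ w : Ω ⊗[A] B,
      ((1 : Ω) ⊗ₜ[A] algebraMap B L b) * z = ι w := by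
    intro z
    induction z using TensorProduct.induction_on with
    | zero => exact ⟨1, one_ne_zero, 0, by rw [mul_zero, map_zero]⟩
    | tmul ω l =>
      obtain ⟨⟨b', b⟩, hb⟩ := IsLocalization.surj (nonZeroDivisors B) l
      refine ⟨b.1, nonZeroDivisors.ne_zero b.2, ω ⊗ₜ[A] b', ?_⟩
      rw [Algebra.TensorProduct.tmul_mul_tmul, one_mul, mul_comm, hb, hι,
        Algebra.TensorProduct.map_tmul]
      rfl
    | add z₁ z₂ h₁ h₂ =>
      obtain ⟨b₁, hb₁, w₁, hw₁⟩ := h₁
      obtain ⟨b₂, hb₂, w₂, hw₂⟩ := h₂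
      refine ⟨b₁ * b₂, mul_ne_zero hb₁ hb₂,
        ((1 : Ω) ⊗ₜ[A] b₂) * w₁ + ((1 : Ω) ⊗ₜ[A] b₁) * w₂, ?_⟩
      have h3 : (1 : Ω) ⊗ₜ[A] (algebraMap B L b₁ * algebraMap B L b₂) =
          ((1 : Ω) ⊗ₜ[A] algebraMap B L b₁) * ((1 : Ω) ⊗ₜ[A] algebraMap B L b₂) := by
        rw [Algebra.TensorProduct.tmul_mul_tmul, one_mul]
      rw [map_add ι, map_mul ι, map_mul ι, hι1, hι1, ← hw₁, ← hw₂, map_mul (algebraMap B L), h3]
      ring
  have hunit : ∀ b : B, b ≠ 0 → ∀ z : Ω ⊗[A] L,
      ((1 : Ω) ⊗ₜ[A] algebraMap B L b) * z = 0 → z = 0 := by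
    intro b hb z hz
    have hb' : algebraMap B L b ≠ 0 := fun h0 => hb ((IsFractionRing.injective B L) (by
      rw [h0, map_zero]))
    have h1 : ((1 : Ω) ⊗ₜ[A] (algebraMap B L b)⁻¹) * (((1 : Ω) ⊗ₜ[A] algebraMap B L b) * z) = z := by
      rw [← mul_assoc, Algebra.TensorProduct.tmul_mul_tmul, one_mul, inv_mul_cancel₀ hb',
        ← Algebra.TensorProduct.one_def, one_mul]
    rw [← h1, hz, mul_zero]
  haveI : Nontrivial (Ω ⊗[A] L) := hιinj.nontrivial
  haveI : NoZeroDivisors (Ω ⊗[A] L) := by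
    refine ⟨fun {z₁ z₂} hz => ?_⟩
    obtain ⟨b₁, hb₁, w₁, hw₁⟩ := hden z₁
    obtain ⟨b₂, hb₂, w₂, hw₂⟩ := hden z₂
    have h1 : ι (w₁ * w₂) = 0 := by
      rw [map_mul, ← hw₁, ← hw₂]
      calc ((1 : Ω) ⊗ₜ[A] algebraMap B L b₁) * z₁ * (((1 : Ω) ⊗ₜ[A] algebraMap B L b₂) * z₂)
          = ((1 : Ω) ⊗ₜ[A] algebraMap B L b₁) * ((1 : Ω) ⊗ₜ[A] algebraMap B L b₂) * (z₁ * z₂) := by
            ring
        _ = 0 := by rw [hz, mul_zero]
    have h2 : w₁ * w₂ = 0 := hιinj (by rw [h1, map_zero])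
    rcases mul_eq_zero.mp h2 with h3 | h3
    · left
      apply hunit b₁ hb₁
      rw [hw₁, h3, map_zero]
    · right
      apply hunit b₂ hb₂
      rw [hw₂, h3, map_zero]
  exact NoZeroDivisors.to_isDomain _

/-- `Ω ⊗_A B` a domain ⟹ `Ω ⊗_K L` a domain (`K = Frac A`, `L = Frac B`). -/
theorem isDomain_tensor_fraction (h : IsDomain (Ω ⊗[A] B)) : IsDomain (Ω ⊗[K] L) := by
  haveI : Module.Flat A K := IsLocalization.flat K (nonZeroDivisors A)
  haveI : Module.Flat A Ω := Module.Flat.trans A K Ω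
  haveI := isDomain_tensor_fraction_aux (L := L) h
  exact (IsLocalization.algebraTensorEquiv (nonZeroDivisors A) K Ω L).toMulEquiv.isDomain

end Frac

end Groth.Agent.Lib.helper9.GenIrr
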