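import Mathlib

/-!
# Fibres of a hypersurface in relative affine space (helper9)

`fibre_hypersurface_isIrreducible` : for `P₁ ∈ A[T_σ]` and a prime `p` of `A` such that the image
of `P₁` in `κ(p)[T_σ]` is irreducible, the set of primes of `A[T_σ]` over `p` containing `P₁` is
irreducible.
-/

set_option autoImplicit false
set_option linter.style.haveILetI false
universe u
open TensorProduct MvPolynomial PrimeSpectrum

namespace Groth.Agent.Lib.helper9.GenIrr

section Fibre

variable {A : Type u} [CommRing A] {σ : Type u}

theorem fibre_hypersurface_isIrreducible (P₁ : MvPolynomial σ A) (p : PrimeSpectrum A)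
    (hirr : Irreducible (map (algebraMap A p.asIdeal.ResidueField) P₁)) :
    IsIrreducible (zeroLocus {P₁} ∩
      comap (algebraMap A (MvPolynomial σ A)) ⁻¹' {p}) := by
  classical
  set κ := p.asIdeal.ResidueField with hκ
  set φ : A →+* κ := algebraMap A κ with hφ
  set P' := map φ P₁ with hP'
  have hprime : Prime P' := UniqueFactorizationMonoid.irreducible_iff_prime.mp hirr
  haveI hIp : (Ideal.span {P'}).IsPrime := (Ideal.span_singleton_prime hprime.ne_zero).mpr hprime
  set x₀ : PrimeSpectrum (MvPolynomial σ κ) := ⟨Ideal.span {P'}, hIp⟩ with hx₀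
  have hV : IsIrreducible (zeroLocus ({P'} : Set (MvPolynomial σ κ))) := by
    have h1 : zeroLocus ({P'} : Set (MvPolynomial σ κ)) = closure {x₀} := by
      rw [PrimeSpectrum.closure_singleton, hx₀]
      change _ = zeroLocus ((Ideal.span {P'} : Ideal _) : Set (MvPolynomial σ κ))
      rw [PrimeSpectrum.zeroLocus_span]
    rw [h1]
    exact isIrreducible_singleton.closure
  set g : PrimeSpectrum (MvPolynomial σ κ) → PrimeSpectrum (MvPolynomial σ A) :=
    comap (map φ) with hg
  have hgc : Continuous g := PrimeSpectrum.continuous_comap (map φ)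
  have himg := hV.image g hgc.continuousOn
  have heq : g '' zeroLocus ({P'} : Set (MvPolynomial σ κ)) =
      zeroLocus {P₁} ∩ comap (algebraMap A (MvPolynomial σ A)) ⁻¹' {p} := by
    ext Q
    constructor
    · rintro ⟨Q', hQ', rfl⟩
      refine ⟨?_, ?_⟩
      · rw [mem_zeroLocus, Set.singleton_subset_iff] at hQ' ⊢
        exact hQ'
      · rw [Set.mem_preimage, Set.mem_singleton_iff, hg, ← PrimeSpectrum.comap_comp_apply]
        have h1 : (map φ).comp (algebraMap A (MvPolynomial σ A)) =
            (C : κ →+* MvPolynomial σ κ).comp φ := by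
          ext a
          simp [MvPolynomial.algebraMap_eq]
        rw [h1, PrimeSpectrum.comap_comp_apply]
        apply PrimeSpectrum.ext
        ext a
        change φ a ∈ (comap C Q').asIdeal ↔ a ∈ p.asIdeal
        have h2 : (comap (C : κ →+* MvPolynomial σ κ) Q').asIdeal = ⊥ :=
          Ideal.eq_bot_of_prime _
        rw [h2, Ideal.mem_bot, hφ, Ideal.algebraMap_residueField_eq_zero]
    · rintro ⟨hQ1, hQ2⟩
      set h := PrimeSpectrum.preimageHomeomorphFiber A (MvPolynomial σ A) p with hh
      set qf := h ⟨Q, hQ2⟩ with hqf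
      have hsymm : ((h.symm qf).1 : PrimeSpectrum (MvPolynomial σ A)) = Q := by
        rw [hqf, Homeomorph.symm_apply_apply]
      have hsymm' : comap (Algebra.TensorProduct.includeRight :
          MvPolynomial σ A →ₐ[A] κ ⊗[A] MvPolynomial σ A).toRingHom qf = Q := hsymm
      set E := algebraTensorAlgEquiv A κ (σ := σ) with hE
      refine ⟨comap (E.symm : MvPolynomial σ κ →+* κ ⊗[A] MvPolynomial σ A) qf, ?_, ?_⟩
      · rw [mem_zeroLocus, Set.singleton_subset_iff]
        change E.symm P' ∈ qf.asIdeal
        rw [hP', hφ, hE, algebraTensorAlgEquiv_symm_map]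
        have : P₁ ∈ Q.asIdeal := by
          rw [mem_zeroLocus, Set.singleton_subset_iff] at hQ1
          exact hQ1
        rw [← hsymm'] at this
        exact this
      · rw [hg, ← PrimeSpectrum.comap_comp_apply, ← hsymm']
        congr 1
        refine RingHom.ext fun F => ?_
        change E.symm (MvPolynomial.map φ F) = (1 : κ) ⊗ₜ[A] F
        rw [hφ, hE, algebraTensorAlgEquiv_symm_map]
  rw [← heq]
  exact himg

end Fibre

end Groth.Agent.Lib.helper9.GenIrr
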