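import Mathlib
import Groth.Agent.Lib.Helper5.ConsSep1

/-!
# Fibrewise density of a principal open and birational transfer of irreducibility (helper9)

* `dens_ring` : `A` Noetherian domain, `B` a finite type `A`-algebra and a domain, `c ≠ 0` in `B`;
  then for `p` in a nonempty open of `Spec A`, `D(c)` is dense in the fibre of `Spec B` over `p`.
* `transfer` : for an injective map `B₁ → B₃` of finite type `A`-algebras which are domains, such
  that `B₃ ⊆ (B₁)_c`, the fibres of `Spec B₁` and `Spec B₃` over `p` are simultaneously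
  irreducible, for `p` in a nonempty open of `Spec A`.
-/

set_option autoImplicit false
set_option linter.style.haveILetI false
universe u
open AlgebraicGeometry CategoryTheory PrimeSpectrum

namespace Groth.Agent.Lib.helper9.GenIrr

theorem isPreirreducible_of_subset_closure {X : Type*} [TopologicalSpace X] {s t : Set X}
    (hs : IsPreirreducible s) (hst : s ⊆ t) (hts : t ⊆ closure s) : IsPreirreducible t := by
  rintro u v hu hv ⟨x, hxt, hxu⟩ ⟨y, hyt, hyv⟩
  obtain ⟨x', hx'u, hx's⟩ := mem_closure_iff.mp (hts hxt) u hu hxu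
  obtain ⟨y', hy'v, hy's⟩ := mem_closure_iff.mp (hts hyt) v hv hyv
  obtain ⟨z, hzs, hzuv⟩ := hs u v hu hv ⟨x', hx's, hx'u⟩ ⟨y', hy's, hy'v⟩
  exact ⟨z, hst hzs, hzuv⟩

theorem irr_transfer {X Y Z : Type*} [TopologicalSpace X] [TopologicalSpace Y] [TopologicalSpace Z]
    (ι₁ : Z → X) (ι₃ : Z → Y) (h₁ : Topology.IsOpenEmbedding ι₁) (h₃ : Continuous ι₃)
    (F₁ : Set X) (F₃ : Set Y) (hG : ι₁ ⁻¹' F₁ = ι₃ ⁻¹' F₃) (hF₁ : IsIrreducible F₁)
    (hd₁ : F₁ ⊆ closure (Set.range ι₁ ∩ F₁)) (hd₃ : F₃ ⊆ closure (Set.range ι₃ ∩ F₃)) :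
    IsIrreducible F₃ := by
  have hG1 : IsPreirreducible (ι₁ ⁻¹' F₁) := hF₁.isPreirreducible.preimage h₁
  have h2 : IsPreirreducible (ι₃ '' (ι₃ ⁻¹' F₃)) := by
    rw [← hG]
    exact hG1.image ι₃ h₃.continuousOn
  rw [Set.image_preimage_eq_range_inter] at h2
  refine ⟨?_, isPreirreducible_of_subset_closure h2 Set.inter_subset_right hd₃⟩
  obtain ⟨x, hx⟩ := hF₁.nonempty
  have h3 : (Set.range ι₁ ∩ F₁).Nonempty := by
    by_contra h
    rw [Set.not_nonempty_iff_eq_empty] at h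
    rw [h, closure_empty] at hd₁
    exact hd₁ hx
  obtain ⟨_, ⟨z, rfl⟩, hz⟩ := h3
  have : z ∈ ι₃ ⁻¹' F₃ := by rw [← hG]; exact hz
  exact ⟨ι₃ z, this⟩

section Dens

variable {A B : Type u} [CommRing A] [IsDomain A] [IsNoetherianRing A] [CommRing B] [IsDomain B]
  [Algebra A B] [Algebra.FiniteType A B]

theorem dens_ring (c : B) (hc : c ≠ 0) :
    ∃ a : A, a ≠ 0 ∧ ∀ p : PrimeSpectrum A, a ∉ p.asIdeal →
      comap (algebraMap A B) ⁻¹' {p} ⊆
        closure ((basicOpen c : Set (PrimeSpectrum B)) ∩ comap (algebraMap A B) ⁻¹' {p}) := by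
  haveI : LocallyOfFiniteType (Spec.map (CommRingCat.ofHom (algebraMap A B))) := by
    rw [HasRingHomProperty.Spec_iff (P := @LocallyOfFiniteType)]
    exact RingHom.finiteType_algebraMap.mpr inferInstance
  have hopen : IsOpen ((basicOpen c : Set (PrimeSpectrum B)) : Set (Spec (CommRingCat.of B))) :=
    (basicOpen c).2
  have hdense : Dense ((basicOpen c : Set (PrimeSpectrum B)) : Set (Spec (CommRingCat.of B))) := by
    haveI : IrreducibleSpace (PrimeSpectrum B) := inferInstance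
    refine IsOpen.dense (X := PrimeSpectrum B) (basicOpen c).2 ⟨⟨⊥, Ideal.isPrime_bot⟩, ?_⟩
    rw [SetLike.mem_coe, mem_basicOpen]
    exact fun h => hc h
  obtain ⟨V, ⟨x, hxV⟩, hV⟩ :=
    Groth.Agent.Lib.helper5.ConsSep.exists_open_fibre_subset_closure
      (Spec.map (CommRingCat.ofHom (algebraMap A B))) _ hopen hdense
  have hVo : IsOpen ((V : Set (Spec (CommRingCat.of A))) : Set (PrimeSpectrum A)) := V.2
  obtain ⟨_, ⟨a, rfl⟩, hxa, haV⟩ :=
    PrimeSpectrum.isTopologicalBasis_basic_opens.exists_subset_of_mem_open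
      (a := (x : PrimeSpectrum A)) hxV hVo
  refine ⟨a, ?_, ?_⟩
  · rintro rfl
    let x' : PrimeSpectrum A := x
    have hxa' : (0 : A) ∉ x'.asIdeal := hxa
    exact hxa' x'.asIdeal.zero_mem
  · intro p hp
    have hpV : p ∈ (V : Set (Spec (CommRingCat.of A))) := haV (by
      change a ∉ p.asIdeal
      exact hp)
    exact hV p hpV

end Dens

section Transfer

variable {A B₁ B₃ : Type u} [CommRing A] [IsDomain A] [IsNoetherianRing A]
  [CommRing B₁] [IsDomain B₁] [Algebra A B₁] [Algebra.FiniteType A B₁]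
  [CommRing B₃] [IsDomain B₃] [Algebra A B₃] [Algebra.FiniteType A B₃]

theorem transfer (j : B₁ →ₐ[A] B₃) (hj : Function.Injective j) (c : B₁) (hc : c ≠ 0)
    (hden : ∀ b : B₃, ∃ (n : ℕ) (b₁ : B₁), j c ^ n * b = j b₁) :
    ∃ a : A, a ≠ 0 ∧ ∀ p : PrimeSpectrum A, a ∉ p.asIdeal →
      (IsIrreducible (comap (algebraMap A B₁) ⁻¹' {p}) ↔
        IsIrreducible (comap (algebraMap A B₃) ⁻¹' {p})) := by
  obtain ⟨a₁, ha₁, hd₁⟩ := dens_ring (A := A) c hc
  have hjc : j c ≠ 0 := fun h => hc (hj (by rw [h, map_zero]))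
  obtain ⟨a₃, ha₃, hd₃⟩ := dens_ring (A := A) (j c) hjc
  set Bc := Localization.Away (j c) with hBc
  letI alg1 : Algebra B₁ Bc := ((algebraMap B₃ Bc).comp j.toRingHom).toAlgebra
  have halg1 : ∀ b : B₁, algebraMap B₁ Bc b = algebraMap B₃ Bc (j b) := fun b => rfl
  haveI hloc : IsLocalization.Away c Bc := by
    refine (isLocalization_iff _ _).mpr ⟨?_, ?_, ?_⟩
    · rintro ⟨_, n, rfl⟩
      rw [halg1, map_pow, map_pow]
      exact (IsLocalization.Away.algebraMap_isUnit (j c)).pow n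
    · intro z
      obtain ⟨⟨b, ⟨_, m, rfl⟩⟩, hb⟩ := IsLocalization.surj (Submonoid.powers (j c)) z
      obtain ⟨n, b₁, hb₁⟩ := hden b
      refine ⟨⟨b₁, ⟨c ^ (m + n), m + n, rfl⟩⟩, ?_⟩
      change z * algebraMap B₁ Bc (c ^ (m + n)) = algebraMap B₁ Bc b₁
      change z * algebraMap B₃ Bc (j c ^ m) = algebraMap B₃ Bc b at hb
      rw [halg1, halg1, ← hb₁, map_pow, pow_add, map_mul, ← mul_assoc, hb, map_mul]
      ring
    · intro x y hxy
      rw [halg1, halg1] at hxy
      obtain ⟨⟨_, k, rfl⟩, hk⟩ := IsLocalization.exists_of_eq (M := Submonoid.powers (j c)) hxy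
      refine ⟨⟨c ^ k, k, rfl⟩, ?_⟩
      apply hj
      change j (c ^ k * x) = j (c ^ k * y)
      rw [map_mul, map_mul, map_pow]
      exact hk
  have hι₃ := PrimeSpectrum.localization_away_isOpenEmbedding Bc (j c)
  have hr₃ := PrimeSpectrum.localization_away_comap_range Bc (j c)
  have hι₁ := PrimeSpectrum.localization_away_isOpenEmbedding Bc c
  have hr₁ := PrimeSpectrum.localization_away_comap_range Bc c
  refine ⟨a₁ * a₃, mul_ne_zero ha₁ ha₃, fun p hp => ?_⟩
  have hp₁ : a₁ ∉ p.asIdeal := fun h => hp (p.asIdeal.mul_mem_right _ h)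
  have hp₃ : a₃ ∉ p.asIdeal := fun h => hp (p.asIdeal.mul_mem_left _ h)
  have hG : comap (algebraMap B₁ Bc) ⁻¹' (comap (algebraMap A B₁) ⁻¹' {p}) =
      comap (algebraMap B₃ Bc) ⁻¹' (comap (algebraMap A B₃) ⁻¹' {p}) := by
    ext z
    simp only [Set.mem_preimage, Set.mem_singleton_iff]
    rw [← PrimeSpectrum.comap_comp_apply, ← PrimeSpectrum.comap_comp_apply]
    have : (algebraMap B₁ Bc).comp (algebraMap A B₁) = (algebraMap B₃ Bc).comp (algebraMap A B₃) := by
      ext r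
      change algebraMap B₃ Bc (j (algebraMap A B₁ r)) = _
      rw [j.commutes]
      rfl
    rw [this]
  have h1 := hd₁ p hp₁
  have h3 := hd₃ p hp₃
  rw [← hr₁] at h1
  rw [← hr₃] at h3
  constructor
  · intro hF
    exact irr_transfer _ _ hι₁ hι₃.continuous _ _ hG hF h1 h3
  · intro hF
    exact irr_transfer _ _ hι₃ hι₁.continuous _ _ hG.symm hF h3 h1

end Transfer

end Groth.Agent.Lib.helper9.GenIrr
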