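import Mathlib
import Groth.Agent.Lib.Helper9.GenIrr1
import Groth.Agent.Lib.Helper9.GenIrr2
import Groth.Agent.Lib.Helper9.GenIrr3
import Groth.Agent.Lib.Helper9.GenIrr4
import Groth.Agent.Lib.Helper9.GenIrr5

/-!
# Generic irreducibility of the fibres, domain case (helper9; EGA IV 9.7.7 (i) core)

`A` a Noetherian domain, `B` a finite type `A`-algebra and a domain containing `A`, such that
`Ω ⊗_A B` is a domain for every field `Ω ⊇ A`. Then the fibres of `Spec B → Spec A` over a nonempty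
open of `Spec A` are irreducible.
-/

set_option autoImplicit false
set_option linter.style.haveILetI false
universe u
open TensorProduct MvPolynomial PrimeSpectrum

namespace Groth.Agent.Lib.helper9.GenIrr

theorem isPreirreducible_of_image {X Y : Type*} [TopologicalSpace X] [TopologicalSpace Y]
    (f : X → Y) (hf : Topology.IsInducing f) (s : Set X) (h : IsPreirreducible (f '' s)) :
    IsPreirreducible s := by
  rintro u v hu hv ⟨x, hxs, hxu⟩ ⟨y, hys, hyv⟩
  obtain ⟨u', hu', rfl⟩ := hf.isOpen_iff.mp hu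
  obtain ⟨v', hv', rfl⟩ := hf.isOpen_iff.mp hv
  obtain ⟨_, ⟨z, hzs, rfl⟩, hz⟩ := h u' v' hu' hv' ⟨f x, ⟨x, hxs, rfl⟩, hxu⟩
    ⟨f y, ⟨y, hys, rfl⟩, hyv⟩
  exact ⟨z, hzs, hz⟩

section ClearDen

variable {A K : Type u} [CommRing A] [IsDomain A] [Field K] [Algebra A K] [IsFractionRing A K]
  {σ : Type u}

/-- clearing denominators in a polynomial over the fraction field. -/
theorem exists_clear_den (F : MvPolynomial σ K) :
    ∃ (a : A) (F₁ : MvPolynomial σ A), a ≠ 0 ∧
      MvPolynomial.map (algebraMap A K) F₁ = C (algebraMap A K a) * F := by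
  induction F using MvPolynomial.induction_on' with
  | monomial m k =>
    obtain ⟨⟨r, d⟩, hrd⟩ := IsLocalization.surj (nonZeroDivisors A) k
    refine ⟨d.1, monomial m r, nonZeroDivisors.ne_zero d.2, ?_⟩
    rw [map_monomial, C_mul_monomial, ← hrd, mul_comm]
  | add F G hF hG =>
    obtain ⟨a, F₁, ha, hF₁⟩ := hF
    obtain ⟨b, G₁, hb, hG₁⟩ := hG
    refine ⟨a * b, C b * F₁ + C a * G₁, mul_ne_zero ha hb, ?_⟩
    rw [map_add, map_mul, map_mul, hF₁, hG₁, map_C, map_C, map_mul (algebraMap A K), C_mul]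
    ring

end ClearDen

section Den

variable {A L B₁ : Type u} [CommRing A] [Field L] [Algebra A L] [CommRing B₁] [Algebra A B₁]

/-- common denominators for a finitely generated subalgebra of the fraction field. -/
theorem exists_den (j₁ : B₁ →ₐ[A] L) (_hj₁ : Function.Injective j₁)
    (hfrac : ∀ l : L, ∃ u v : B₁, j₁ v ≠ 0 ∧ l * j₁ v = j₁ u)
    (S₃ : Subalgebra A L) (hS₃ : S₃.FG) :
    ∃ c : B₁, c ≠ 0 ∧ ∀ b ∈ S₃, ∃ (n : ℕ) (b₁ : B₁), j₁ c ^ n * b = j₁ b₁ := by
  classical
  obtain ⟨G, rfl⟩ := hS₃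
  choose u v hv huv using hfrac
  set c := ∏ g ∈ G, v g with hc
  have hc0 : j₁ c ≠ 0 := by
    rw [hc, map_prod]
    exact Finset.prod_ne_zero_iff.mpr fun g _ => hv g
  refine ⟨c, fun h => hc0 (by rw [h, map_zero]), ?_⟩
  intro b hb
  induction hb using Algebra.adjoin_induction with
  | mem g hg =>
    refine ⟨1, (∏ g' ∈ G.erase g, v g') * u g, ?_⟩
    rw [pow_one, hc, ← Finset.mul_prod_erase G v (Finset.mem_coe.mp hg), map_mul, map_mul,
      ← huv g]
    ring
  | algebraMap r =>
    exact ⟨0, algebraMap A B₁ r, by rw [pow_zero, one_mul, AlgHom.commutes]⟩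
  | add x y _ _ hx hy =>
    obtain ⟨n, b₁, h₁⟩ := hx
    obtain ⟨m, b₂, h₂⟩ := hy
    refine ⟨n + m, c ^ m * b₁ + c ^ n * b₂, ?_⟩
    rw [map_add, map_mul, map_mul, map_pow, map_pow, ← h₁, ← h₂, pow_add]
    ring
  | mul x y _ _ hx hy =>
    obtain ⟨n, b₁, h₁⟩ := hx
    obtain ⟨m, b₂, h₂⟩ := hy
    refine ⟨n + m, b₁ * b₂, ?_⟩
    rw [map_mul, ← h₁, ← h₂, pow_add]
    ring

end Den

section Main

variable {A B : Type u} [CommRing A] [IsDomain A] [IsNoetherianRing A] [CommRing B] [IsDomain B]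
  [Algebra A B] [Algebra.FiniteType A B]

/-- **Generic irreducibility of fibres, domain case.** -/
theorem domain_main (hinj : Function.Injective (algebraMap A B))
    (hreg : ∀ (Ω : Type u) [Field Ω] [Algebra A Ω], Function.Injective (algebraMap A Ω) →
      IsDomain (Ω ⊗[A] B)) :
    ∃ a : A, a ≠ 0 ∧ ∀ p : PrimeSpectrum A, a ∉ p.asIdeal →
      IsIrreducible (comap (algebraMap A B) ⁻¹' {p}) := by
  classical
  set K := FractionRing A with hK
  set L := FractionRing B with hL
  have hinjL : Function.Injective (algebraMap A L) := by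
    rw [IsScalarTower.algebraMap_eq A B L]
    exact (IsFractionRing.injective B L).comp hinj
  haveI : FaithfulSMul A L := (faithfulSMul_iff_algebraMap_injective A L).mpr hinjL
  letI : Algebra K L := FractionRing.liftAlgebra A L
  haveI : IsScalarTower A K L := FractionRing.isScalarTower_liftAlgebra A L
  -- regularity of `L / K`
  have hRegL : ∀ (Ω : Type u) [Field Ω] [Algebra K Ω], IsDomain (Ω ⊗[K] L) := by
    intro Ω _ _
    letI : Algebra A Ω := ((algebraMap K Ω).comp (algebraMap A K)).toAlgebra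
    haveI : IsScalarTower A K Ω := IsScalarTower.of_algebraMap_eq (fun _ => rfl)
    have hi : Function.Injective (algebraMap A Ω) :=
      (algebraMap K Ω).injective.comp (IsFractionRing.injective A K)
    exact isDomain_tensor_fraction (A := A) (B := B) (K := K) (L := L) (hreg Ω hi)
  haveI : Algebra.EssFiniteType K L := Algebra.EssFiniteType.of_comp A K L
  have hred : IsReduced (AlgebraicClosure K ⊗[K] L) := by
    haveI := hRegL (AlgebraicClosure K)
    infer_instance
  obtain ⟨s, α, hs, hα, htop⟩ := exists_sep_gen hred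
  set x : Option s → L := xOpt ((↑) : s → L) α with hx
  obtain ⟨P, hP0, hker⟩ := exists_ker_aeval_eq_span ((↑) : s → L) hs α hα
  have habs : ∀ (Ω : Type u) [Field Ω] [Algebra K Ω],
      Irreducible (MvPolynomial.map (algebraMap K Ω) P) := by
    intro Ω _ _
    haveI := hRegL Ω
    exact irreducible_map_of_isDomain x P hP0 hker Ω
  obtain ⟨a₀, P₁, ha₀, hP₁⟩ := exists_clear_den (A := A) P
  have hP₁abs : ∀ (Ω : Type u) [Field Ω] (φ : A →+* Ω), Function.Injective φ →
      Irreducible (MvPolynomial.map φ P₁) := by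
    intro Ω _ φ hφ
    letI : Algebra K Ω := (IsFractionRing.lift hφ).toAlgebra
    have h1 : (algebraMap K Ω).comp (algebraMap A K) = φ :=
      RingHom.ext fun r => IsFractionRing.lift_algebraMap hφ r
    have h2 : MvPolynomial.map φ P₁ =
        C (φ a₀) * MvPolynomial.map (algebraMap K Ω) P := by
      rw [← h1, ← MvPolynomial.map_map, hP₁, map_mul, map_C]
      rfl
    rw [h2, irreducible_isUnit_mul]
    · exact habs Ω
    · exact (isUnit_iff_ne_zero.mpr ((map_ne_zero_iff φ hφ).mpr ha₀)).map C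
  obtain ⟨a_e, ha_e, helim⟩ := exists_ne_zero_forall_irreducible P₁ hP₁abs
  -- evaluation over `A`
  set evA : MvPolynomial (Option s) A →ₐ[A] L := aeval x with hevA
  set evK : MvPolynomial (Option s) K →ₐ[K] L := aeval x with hevK
  have hev : ∀ F : MvPolynomial (Option s) A,
      evK (MvPolynomial.map (algebraMap A K) F) = evA F := fun F => aeval_map_algebraMap K x F
  have hmapinj : Function.Injective
      (MvPolynomial.map (algebraMap A K) : MvPolynomial (Option s) A → _) :=
    map_injective _ (IsFractionRing.injective A K)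
  have hevC : ∀ (d : A) (F : MvPolynomial (Option s) K),
      evK (C (algebraMap A K d) * F) = algebraMap A L d * evK F := by
    intro d F
    rw [map_mul, hevK, aeval_C, ← IsScalarTower.algebraMap_apply]
  set 𝔓 := RingHom.ker evA with h𝔓
  have hPker : evK P = 0 := by
    have : P ∈ RingHom.ker evK := by
      rw [hker]
      exact Ideal.mem_span_singleton_self P
    exact this
  have hP₁mem : P₁ ∈ 𝔓 := by
    rw [RingHom.mem_ker, ← hev, hP₁, map_mul, hPker, mul_zero]
  -- the kernel is generically principal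
  have hL3 : ∃ a'' : A, a'' ≠ 0 ∧ ∀ F ∈ 𝔓, C a'' * F ∈ Ideal.span {P₁} := by
    obtain ⟨G, hG⟩ := (isNoetherianRing_iff_ideal_fg _).mp
      (inferInstance : IsNoetherianRing (MvPolynomial (Option s) A)) 𝔓
    have hgen : ∀ g ∈ 𝔓, ∃ d : A, d ≠ 0 ∧ C d * g ∈ Ideal.span {P₁} := by
      intro g hg
      have h1 : MvPolynomial.map (algebraMap A K) g ∈ RingHom.ker evK := by
        rw [RingHom.mem_ker, hev]
        exact hg
      rw [hker, Ideal.mem_span_singleton] at h1
      obtain ⟨h, hh⟩ := h1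
      obtain ⟨d, h₁, hd, hh₁⟩ := exists_clear_den (A := A) h
      refine ⟨d * a₀, mul_ne_zero hd ha₀, ?_⟩
      rw [Ideal.mem_span_singleton]
      refine ⟨h₁, ?_⟩
      apply hmapinj
      simp only [map_mul, map_C, hP₁, hh₁, hh]
      ring
    choose! d hd hdmem using hgen
    have hGsub : ∀ g ∈ G, g ∈ 𝔓 := fun g hg => by
      rw [← hG]
      exact Ideal.subset_span hg
    refine ⟨∏ g ∈ G, d g, Finset.prod_ne_zero_iff.mpr (fun g hg => hd g (hGsub g hg)), ?_⟩
    intro F hF
    rw [← hG] at hF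
    induction hF using Submodule.span_induction with
    | mem g hg =>
      rw [← Finset.mul_prod_erase G d hg, C_mul, mul_comm (C (d g)), mul_assoc]
      exact Ideal.mul_mem_left _ _ (hdmem g (hGsub g hg))
    | zero =>
      rw [mul_zero]
      exact Ideal.zero_mem _
    | add F₁ F₂ _ _ h₁ h₂ =>
      rw [mul_add]
      exact Ideal.add_mem _ h₁ h₂
    | smul r F _ h =>
      rw [smul_eq_mul, mul_left_comm]
      exact Ideal.mul_mem_left _ _ h
  obtain ⟨a'', ha'', hL3⟩ := hL3
  -- the subalgebras of `L`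
  set B₂ : Subalgebra A L := evA.range with hB₂
  set S_B : Subalgebra A L := (IsScalarTower.toAlgHom A B L).range with hS_B
  set S₃ : Subalgebra A L := B₂ ⊔ S_B with hS₃
  haveI : Algebra.FiniteType A B₂ :=
    Algebra.FiniteType.of_surjective evA.rangeRestrict evA.rangeRestrict_surjective
  have hfgB₂ : B₂.FG := (Subalgebra.fg_iff_finiteType _).mpr inferInstance
  have hfgSB : S_B.FG := by
    haveI : Algebra.FiniteType A S_B :=
      Algebra.FiniteType.of_surjective (IsScalarTower.toAlgHom A B L).rangeRestrict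
        (AlgHom.rangeRestrict_surjective _)
    exact (Subalgebra.fg_iff_finiteType _).mpr inferInstance
  have hfgS₃ : S₃.FG := hfgB₂.sup hfgSB
  haveI : Algebra.FiniteType A S₃ := (Subalgebra.fg_iff_finiteType _).mp hfgS₃
  set jB : B →ₐ[A] S₃ := (IsScalarTower.toAlgHom A B L).codRestrict S₃
    (fun b => (le_sup_right : S_B ≤ S₃) ⟨b, rfl⟩) with hjB'
  have hjB : Function.Injective jB := fun b b' h =>
    IsFractionRing.injective B L (congrArg Subtype.val h)
  set j₂ : B₂ →ₐ[A] S₃ := Subalgebra.inclusion (le_sup_left : B₂ ≤ S₃) with hj₂'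
  have hj₂ : Function.Injective j₂ := Subalgebra.inclusion_injective _
  -- fractions
  have hfracB : ∀ l : L, ∃ u v : B, (IsScalarTower.toAlgHom A B L) v ≠ 0 ∧
      l * (IsScalarTower.toAlgHom A B L) v = (IsScalarTower.toAlgHom A B L) u := by
    intro l
    obtain ⟨⟨u, v⟩, h⟩ := IsLocalization.surj (nonZeroDivisors B) l
    refine ⟨u, v.1, ?_, h⟩
    intro h0
    exact nonZeroDivisors.ne_zero v.2 (IsFractionRing.injective B L (by
      rw [map_zero]
      exact h0))
  have hfracB₂ : ∀ l : L, ∃ u v : B₂, B₂.val v ≠ 0 ∧ l * B₂.val v = B₂.val u := by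
    intro l
    have hl : l ∈ IntermediateField.adjoin K (Set.range x) := by
      have hx' : x = fun o => o.elim α ((↑) : s → L) := rfl
      rw [hx', htop]
      trivial
    rw [IntermediateField.mem_adjoin_range_iff] at hl
    obtain ⟨r, t, hrt⟩ := hl
    by_cases ht0 : evK t = 0
    · refine ⟨0, 1, ?_, ?_⟩
      · rw [map_one]
        exact one_ne_zero
      · rw [hrt]
        change _ / evK t * _ = _
        rw [ht0, div_zero, zero_mul, map_zero]
    · obtain ⟨d₁, r₁, hd₁, hr₁⟩ := exists_clear_den (A := A) r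
      obtain ⟨d₂, t₁, hd₂, ht₁⟩ := exists_clear_den (A := A) t
      have e1 : evA r₁ = algebraMap A L d₁ * evK r := by rw [← hev, hr₁, hevC]
      have e2 : evA t₁ = algebraMap A L d₂ * evK t := by rw [← hev, ht₁, hevC]
      have e3 : ∀ d : A, evA (C d) = algebraMap A L d := fun d => by rw [hevA, aeval_C]
      have hd₁' : algebraMap A L d₁ ≠ 0 := fun h => hd₁ (hinjL (by rw [h, map_zero]))
      have hd₂' : algebraMap A L d₂ ≠ 0 := fun h => hd₂ (hinjL (by rw [h, map_zero]))
      refine ⟨⟨evA (C d₂ * r₁), ⟨_, rfl⟩⟩, ⟨evA (C d₁ * t₁), ⟨_, rfl⟩⟩, ?_, ?_⟩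
      · change evA (C d₁ * t₁) ≠ 0
        rw [map_mul, e2, e3]
        exact mul_ne_zero hd₁' (mul_ne_zero hd₂' ht0)
      · change l * evA (C d₁ * t₁) = evA (C d₂ * r₁)
        rw [map_mul, map_mul, e1, e2, e3, e3, hrt]
        change evK r / evK t * _ = _
        rw [div_mul_eq_mul_div, div_eq_iff ht0]
        ring
  obtain ⟨cB, hcB, hdenB⟩ := exists_den (IsScalarTower.toAlgHom A B L)
    (IsFractionRing.injective B L) hfracB S₃ hfgS₃
  obtain ⟨c₂, hc₂, hden₂⟩ := exists_den B₂.val Subtype.val_injective hfracB₂ S₃ hfgS₃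
  obtain ⟨a₁, ha₁, htr₁⟩ := transfer jB hjB cB hcB (fun b => by
    obtain ⟨n, b₁, h⟩ := hdenB b.1 b.2
    exact ⟨n, b₁, Subtype.ext h⟩)
  obtain ⟨a₂, ha₂, htr₂⟩ := transfer j₂ hj₂ c₂ hc₂ (fun b => by
    obtain ⟨n, b₁, h⟩ := hden₂ b.1 b.2
    exact ⟨n, b₁, Subtype.ext h⟩)
  refine ⟨a_e * a'' * a₁ * a₂,
    mul_ne_zero (mul_ne_zero (mul_ne_zero ha_e ha'') ha₁) ha₂, fun p hp => ?_⟩
  have hp₂ : a₂ ∉ p.asIdeal := fun h => hp (p.asIdeal.mul_mem_left _ h)
  have hp' : a_e * a'' * a₁ ∉ p.asIdeal := fun h => hp (p.asIdeal.mul_mem_right _ h)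
  have hp₁ : a₁ ∉ p.asIdeal := fun h => hp' (p.asIdeal.mul_mem_left _ h)
  have hp'' : a_e * a'' ∉ p.asIdeal := fun h => hp' (p.asIdeal.mul_mem_right _ h)
  have hpa'' : a'' ∉ p.asIdeal := fun h => hp'' (p.asIdeal.mul_mem_left _ h)
  have hp_e : a_e ∉ p.asIdeal := fun h => hp'' (p.asIdeal.mul_mem_right _ h)
  rw [htr₁ p hp₁, ← htr₂ p hp₂]
  -- the fibre of `B₂`
  set ψ : MvPolynomial (Option s) A →ₐ[A] B₂ := evA.rangeRestrict with hψ
  have hψs : Function.Surjective (ψ : MvPolynomial (Option s) A →+* B₂) :=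
    evA.rangeRestrict_surjective
  have hψk : RingHom.ker (ψ : MvPolynomial (Option s) A →+* B₂) = 𝔓 := evA.ker_rangeRestrict
  have hemb := PrimeSpectrum.isClosedEmbedding_comap_of_surjective B₂
    (ψ : MvPolynomial (Option s) A →+* B₂) hψs
  have hrange := _root_.range_comap_of_surjective B₂
    (ψ : MvPolynomial (Option s) A →+* B₂) hψs
  have hpre : comap (algebraMap A B₂) ⁻¹' {p} =
      comap (ψ : MvPolynomial (Option s) A →+* B₂) ⁻¹'
        (comap (algebraMap A (MvPolynomial (Option s) A)) ⁻¹' {p}) := by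
    ext z
    simp only [Set.mem_preimage, Set.mem_singleton_iff]
    rw [← PrimeSpectrum.comap_comp_apply]
    have : (ψ : MvPolynomial (Option s) A →+* B₂).comp
        (algebraMap A (MvPolynomial (Option s) A)) = algebraMap A B₂ :=
      ψ.comp_algebraMap
    rw [this]
  have himg : comap (ψ : MvPolynomial (Option s) A →+* B₂) '' (comap (algebraMap A B₂) ⁻¹' {p}) =
      zeroLocus {P₁} ∩ comap (algebraMap A (MvPolynomial (Option s) A)) ⁻¹' {p} := by
    rw [hpre, Set.image_preimage_eq_range_inter, hrange, hψk]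
    ext Q
    constructor
    · rintro ⟨hQ1, hQ2⟩
      refine ⟨?_, hQ2⟩
      rw [mem_zeroLocus, Set.singleton_subset_iff]
      exact hQ1 hP₁mem
    · rintro ⟨hQ1, hQ2⟩
      refine ⟨?_, hQ2⟩
      rw [mem_zeroLocus, Set.singleton_subset_iff] at hQ1
      intro F hF
      have h1 : C a'' * F ∈ Q.asIdeal :=
        (Ideal.span_le.mpr (Set.singleton_subset_iff.mpr hQ1)) (hL3 F hF)
      rcases Q.2.mem_or_mem h1 with h2 | h2
      · exfalso
        apply hpa''
        rw [Set.mem_preimage, Set.mem_singleton_iff] at hQ2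
        rw [← hQ2]
        exact h2
      · exact h2
  have hirr : IsIrreducible (zeroLocus {P₁} ∩
      comap (algebraMap A (MvPolynomial (Option s) A)) ⁻¹' {p}) :=
    fibre_hypersurface_isIrreducible P₁ p (helim _ _ (by
      rw [Ne, Ideal.algebraMap_residueField_eq_zero]
      exact hp_e))
  rw [← himg] at hirr
  exact ⟨hirr.nonempty.of_image, isPreirreducible_of_image _ hemb.isInducing _ hirr.isPreirreducible⟩

end Main

end Groth.Agent.Lib.helper9.GenIrr
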