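import Mathlib
import Groth.Agent.Lib.Helper9.GenIrr6

/-!
# Generic irreducibility of the fibres of an irreducible closed subset (helper9)

`A₀` Noetherian, `B₀` a finite type `A₀`-algebra, `q` a prime of `B₀` over `p₀`, such that
* (H1) every prime of `B₀` over `p₀` contains `q`;
* (H2) `Ω ⊗_{A₀} B₀` is a domain for every field `Ω` over `A₀` with kernel `p₀`.
Then for `p ∈ V(p₀)` outside a proper closed subset `V(a)`, `a ∉ p₀`, the fibre of `V(q)` over `p`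
is irreducible.
-/

set_option autoImplicit false
set_option linter.style.haveILetI false
universe u
open TensorProduct PrimeSpectrum

namespace Groth.Agent.Lib.helper9.GenIrr

section Quot

variable {A₀ B₀ : Type u} [CommRing A₀] [IsNoetherianRing A₀] [CommRing B₀] [Algebra A₀ B₀]
  [Algebra.FiniteType A₀ B₀]

omit [IsNoetherianRing A₀] [Algebra.FiniteType A₀ B₀] in
theorem isDomain_tensor_quotient (q : Ideal B₀) [q.IsPrime] (p₀ : Ideal A₀) [p₀.IsPrime]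
    [q.LiesOver p₀]
    (H1 : ∀ Q : Ideal B₀, Q.IsPrime → Q.under A₀ = p₀ → q ≤ Q)
    (Ω : Type u) [Field Ω] [Algebra (A₀ ⧸ p₀) Ω] [Algebra A₀ Ω]
    [IsScalarTower A₀ (A₀ ⧸ p₀) Ω]
    (hinj : Function.Injective (algebraMap (A₀ ⧸ p₀) Ω))
    (H2 : IsDomain (Ω ⊗[A₀] B₀)) :
    IsDomain (Ω ⊗[A₀ ⧸ p₀] (B₀ ⧸ q)) := by
  classical
  -- the kernel of `B₀ → Ω ⊗ B₀` contains `q`
  set inc : B₀ →ₐ[A₀] Ω ⊗[A₀] B₀ := Algebra.TensorProduct.includeRight with hinc
  have hkerA : RingHom.ker (algebraMap A₀ Ω) = p₀ := by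
    ext a
    rw [RingHom.mem_ker, IsScalarTower.algebraMap_apply A₀ (A₀ ⧸ p₀) Ω,
      map_eq_zero_iff _ hinj, Ideal.Quotient.algebraMap_eq, Ideal.Quotient.eq_zero_iff_mem]
  have hq : q ≤ RingHom.ker (inc : B₀ →+* Ω ⊗[A₀] B₀) := by
    haveI : (RingHom.ker (inc : B₀ →+* Ω ⊗[A₀] B₀)).IsPrime := RingHom.ker_isPrime _
    apply H1 _ inferInstance
    ext a
    rw [Ideal.under_def, Ideal.mem_comap, RingHom.mem_ker, ← hkerA, RingHom.mem_ker]
    change inc (algebraMap A₀ B₀ a) = 0 ↔ _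
    rw [AlgHom.commutes, Algebra.TensorProduct.algebraMap_apply]
    have hleft : Function.Injective
        (Algebra.TensorProduct.includeLeft : Ω →ₐ[A₀] Ω ⊗[A₀] B₀) :=
      (Algebra.TensorProduct.includeLeft : Ω →ₐ[A₀] Ω ⊗[A₀] B₀).toRingHom.injective
    constructor
    · intro h
      exact hleft (by rw [map_zero]; exact h)
    · intro h
      rw [h, TensorProduct.zero_tmul]
  -- the surjection `Ω ⊗ B₀ → Ω ⊗ (B₀ ⧸ q)` is injective
  set π := Algebra.TensorProduct.map (AlgHom.id A₀ Ω) (Ideal.Quotient.mkₐ A₀ q) with hπ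
  have hπs : Function.Surjective π :=
    Algebra.TensorProduct.map_surjective _ _ Function.surjective_id
      (Ideal.Quotient.mkₐ_surjective A₀ q)
  have hkq : RingHom.ker (Ideal.Quotient.mkₐ A₀ q) = q := Ideal.Quotient.mkₐ_ker A₀ q
  have hπk : RingHom.ker π = ⊥ := by
    rw [hπ, Algebra.TensorProduct.lTensor_ker _ (Ideal.Quotient.mkₐ_surjective A₀ q), hkq,
      Ideal.map_eq_bot_iff_le_ker]
    exact hq
  have hπi : Function.Injective π := (RingHom.injective_iff_ker_eq_bot _).mpr hπk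
  haveI : IsDomain (Ω ⊗[A₀] (B₀ ⧸ q)) :=
    (RingEquiv.ofBijective (π : Ω ⊗[A₀] B₀ →+* Ω ⊗[A₀] (B₀ ⧸ q))
      ⟨hπi, hπs⟩).symm.toMulEquiv.isDomain
  haveI : TensorProduct.CompatibleSMul A₀ (A₀ ⧸ p₀) Ω (B₀ ⧸ q) :=
    TensorProduct.CompatibleSMul.of_algebraMap_surjective Ω (B₀ ⧸ q)
      (Ideal.Quotient.mk_surjective (I := p₀))
  exact (Algebra.TensorProduct.equivOfCompatibleSMul A₀ (A₀ ⧸ p₀) A₀ Ω (B₀ ⧸ q)).toMulEquiv.isDomain

/-- **Generic irreducibility of the fibres of an irreducible closed subset.** -/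
theorem quotient_main (q : Ideal B₀) [q.IsPrime] (p₀ : Ideal A₀) [p₀.IsPrime] [q.LiesOver p₀]
    (H1 : ∀ Q : Ideal B₀, Q.IsPrime → Q.under A₀ = p₀ → q ≤ Q)
    (H2 : ∀ (Ω : Type u) [Field Ω] [Algebra A₀ Ω], RingHom.ker (algebraMap A₀ Ω) = p₀ →
      IsDomain (Ω ⊗[A₀] B₀)) :
    ∃ a : A₀, a ∉ p₀ ∧ ∀ p : PrimeSpectrum A₀, p₀ ≤ p.asIdeal → a ∉ p.asIdeal →
      IsIrreducible (zeroLocus (q : Set B₀) ∩ comap (algebraMap A₀ B₀) ⁻¹' {p}) := by
  classical
  haveI : Algebra.FiniteType (A₀ ⧸ p₀) (B₀ ⧸ q) :=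
    Algebra.FiniteType.of_restrictScalars_finiteType A₀ _ _
  have hreg : ∀ (Ω : Type u) [Field Ω] [Algebra (A₀ ⧸ p₀) Ω],
      Function.Injective (algebraMap (A₀ ⧸ p₀) Ω) → IsDomain (Ω ⊗[A₀ ⧸ p₀] (B₀ ⧸ q)) := by
    intro Ω _ _ hi
    letI : Algebra A₀ Ω := ((algebraMap (A₀ ⧸ p₀) Ω).comp (Ideal.Quotient.mk p₀)).toAlgebra
    haveI : IsScalarTower A₀ (A₀ ⧸ p₀) Ω := IsScalarTower.of_algebraMap_eq (fun _ => rfl)
    have hker : RingHom.ker (algebraMap A₀ Ω) = p₀ := by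
      ext a
      rw [RingHom.mem_ker]
      change algebraMap (A₀ ⧸ p₀) Ω (Ideal.Quotient.mk p₀ a) = 0 ↔ _
      rw [map_eq_zero_iff _ hi, Ideal.Quotient.eq_zero_iff_mem]
    exact isDomain_tensor_quotient q p₀ H1 Ω hi (H2 Ω hker)
  obtain ⟨ā, hā, hirr⟩ := domain_main (A := A₀ ⧸ p₀) (B := B₀ ⧸ q)
    (FaithfulSMul.algebraMap_injective _ _) hreg
  obtain ⟨a, rfl⟩ := Ideal.Quotient.mk_surjective ā
  refine ⟨a, fun h => hā (Ideal.Quotient.eq_zero_iff_mem.mpr h), fun p hp ha => ?_⟩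
  have hmk₀s : Function.Surjective (Ideal.Quotient.mk p₀) := Ideal.Quotient.mk_surjective
  have hmkqs : Function.Surjective (Ideal.Quotient.mk q) := Ideal.Quotient.mk_surjective
  have hpr : p ∈ Set.range (comap (Ideal.Quotient.mk p₀)) := by
    rw [range_comap_of_surjective _ _ hmk₀s, Ideal.mk_ker]
    exact hp
  obtain ⟨p', rfl⟩ := hpr
  have hā' : Ideal.Quotient.mk p₀ a ∉ p'.asIdeal := ha
  have h1 := hirr p' hā'
  have h2 := h1.image (comap (Ideal.Quotient.mk q)) (continuous_comap _).continuousOn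
  have hcomm : (algebraMap (A₀ ⧸ p₀) (B₀ ⧸ q)).comp (Ideal.Quotient.mk p₀) =
      (Ideal.Quotient.mk q).comp (algebraMap A₀ B₀) := rfl
  convert h2 using 1
  ext Q
  constructor
  · rintro ⟨hQ1, hQ2⟩
    have hQr : Q ∈ Set.range (comap (Ideal.Quotient.mk q)) := by
      rw [range_comap_of_surjective _ _ hmkqs, Ideal.mk_ker]
      exact hQ1
    obtain ⟨z, rfl⟩ := hQr
    refine ⟨z, ?_, rfl⟩
    apply PrimeSpectrum.comap_injective_of_surjective _ hmk₀s
    rw [Set.mem_preimage, Set.mem_singleton_iff, ← PrimeSpectrum.comap_comp_apply, ← hcomm,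
      PrimeSpectrum.comap_comp_apply] at hQ2
    exact hQ2
  · rintro ⟨z, hz, rfl⟩
    refine ⟨?_, ?_⟩
    · rw [mem_zeroLocus]
      intro b hb
      change Ideal.Quotient.mk q b ∈ z.asIdeal
      rw [Ideal.Quotient.eq_zero_iff_mem.mpr hb]
      exact z.asIdeal.zero_mem
    · rw [Set.mem_preimage, Set.mem_singleton_iff, ← PrimeSpectrum.comap_comp_apply, ← hcomm,
        PrimeSpectrum.comap_comp_apply]
      rw [Set.mem_preimage, Set.mem_singleton_iff] at hz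
      rw [hz]

end Quot

end Groth.Agent.Lib.helper9.GenIrr
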