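import Mathlib
import Groth.Agent.Lib.Helper9.GenIrr7

/-!
# Generic irreducibility of the fibres of an irreducible closed subset, scheme form (helper9)

`scheme_main` : `f : X ⟶ Y` locally of finite type, `Y` locally Noetherian, `ξ : X`, `W ∋ f ξ` an
affine open of `Y`, `U ∋ ξ` an affine open of `X` over `W` such that `U ∩ f⁻¹(f ξ) ⊆ closure {ξ}`
and such that `U ×_W Spec Ω` is integral for every field-valued point `Spec Ω → W` with image
`f ξ`. Then `closure {ξ} ∩ U ∩ f⁻¹(y)` is irreducible for all `y ∈ closure {f ξ}` in a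
neighbourhood of `f ξ` (EGA IV 9.7.7 (i) in this situation).
-/

set_option autoImplicit false
set_option linter.style.haveILetI false
set_option backward.isDefEq.respectTransparency false
universe u
open AlgebraicGeometry CategoryTheory Limits TensorProduct

namespace Groth.Agent.Lib.helper9.GenIrr

theorem scheme_main {X Y : Scheme.{u}} [IsLocallyNoetherian Y] (f : X ⟶ Y)
    [LocallyOfFiniteType f] (ξ : X) (W : Y.Opens) (hW : IsAffineOpen W) (U : X.Opens)
    (hU : IsAffineOpen U) (e : U ≤ f ⁻¹ᵁ W) (hξU : ξ ∈ U)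
    (G1 : ∀ x ∈ U, f x = f ξ → ξ ⤳ x)
    (G2 : ∀ (Ω : Type u) [Field Ω] (ψ : Γ(Y, W) →+* Ω),
      RingHom.ker ψ = (hW.primeIdealOf ⟨f ξ, e hξU⟩).asIdeal →
      IsIntegral (pullback (Spec.map (f.appLE W U e)) (Spec.map (CommRingCat.ofHom ψ)))) :
    ∃ V : Y.Opens, f ξ ∈ V ∧ ∀ y ∈ V, f ξ ⤳ y →
      IsIrreducible (closure {ξ} ∩ (U : Set X) ∩ f ⁻¹' {y}) := by
  classical
  letI : Algebra Γ(Y, W) Γ(X, U) := (f.appLE W U e).hom.toAlgebra
  haveI : IsNoetherianRing Γ(Y, W) := IsLocallyNoetherian.component_noetherian ⟨W, hW⟩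
  haveI : Algebra.FiniteType Γ(Y, W) Γ(X, U) :=
    HasRingHomProperty.appLE (P := @LocallyOfFiniteType) f inferInstance ⟨W, hW⟩ ⟨U, hU⟩ e
  have hab : hU.fromSpec ≫ f = Spec.map (f.appLE W U e) ≫ hW.fromSpec :=
    (IsAffineOpen.SpecMap_appLE_fromSpec f hW hU e).symm
  have hnat : ∀ Q : Spec Γ(X, U),
      f (hU.fromSpec Q) = hW.fromSpec (PrimeSpectrum.comap (algebraMap Γ(Y, W) Γ(X, U)) Q) := by
    intro Q
    have h1 : (hU.fromSpec ≫ f) Q = (Spec.map (f.appLE W U e) ≫ hW.fromSpec) Q := by rw [hab]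
    rw [Scheme.Hom.comp_apply, Scheme.Hom.comp_apply] at h1
    exact h1
  have hWinj : Function.Injective hW.fromSpec := hW.fromSpec.isOpenEmbedding.injective
  have hUind : Topology.IsInducing hU.fromSpec := hU.fromSpec.isOpenEmbedding.isInducing
  have hWind : Topology.IsInducing hW.fromSpec := hW.fromSpec.isOpenEmbedding.isInducing
  set q' : PrimeSpectrum Γ(X, U) := hU.primeIdealOf ⟨ξ, hξU⟩ with hq'def
  have hq' : hU.fromSpec q' = ξ := hU.fromSpec_primeIdealOf ⟨ξ, hξU⟩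
  set p₀' : PrimeSpectrum Γ(Y, W) := hW.primeIdealOf ⟨f ξ, e hξU⟩ with hp₀'def
  have hp₀' : hW.fromSpec p₀' = f ξ := hW.fromSpec_primeIdealOf ⟨f ξ, e hξU⟩
  have hq'p₀' : PrimeSpectrum.comap (algebraMap Γ(Y, W) Γ(X, U)) q' = p₀' := by
    apply hWinj
    rw [← hnat, hq', hp₀']
  haveI : q'.asIdeal.LiesOver p₀'.asIdeal := ⟨by
    rw [← hq'p₀']
    rfl⟩
  have H1 : ∀ Q : Ideal Γ(X, U), Q.IsPrime → Q.under Γ(Y, W) = p₀'.asIdeal → q'.asIdeal ≤ Q := by
    intro Q hQ hQp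
    set Q' : PrimeSpectrum Γ(X, U) := ⟨Q, hQ⟩ with hQ'
    have hxU : hU.fromSpec Q' ∈ U := by
      have : hU.fromSpec Q' ∈ Set.range hU.fromSpec := ⟨Q', rfl⟩
      rw [hU.range_fromSpec] at this
      exact this
    have hcomap : PrimeSpectrum.comap (algebraMap Γ(Y, W) Γ(X, U)) Q' = p₀' :=
      PrimeSpectrum.ext hQp
    have hfx : f (hU.fromSpec Q') = f ξ := by rw [hnat, hcomap, hp₀']
    have hsp := G1 _ hxU hfx
    rw [← hq', hUind.specializes_iff, ← PrimeSpectrum.le_iff_specializes] at hsp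
    exact hsp
  have H2 : ∀ (Ω : Type u) [Field Ω] [Algebra Γ(Y, W) Ω],
      RingHom.ker (algebraMap Γ(Y, W) Ω) = p₀'.asIdeal → IsDomain (Ω ⊗[Γ(Y, W)] Γ(X, U)) := by
    intro Ω _ _ hker
    have hint := G2 Ω (algebraMap Γ(Y, W) Ω) hker
    have hiso := pullbackSpecIso Γ(Y, W) Γ(X, U) Ω
    have hofHom : CommRingCat.ofHom (algebraMap Γ(Y, W) Γ(X, U)) = f.appLE W U e := rfl
    rw [hofHom] at hiso
    haveI := hint
    haveI : Nonempty ↥(Spec (CommRingCat.of (Γ(X, U) ⊗[Γ(Y, W)] Ω))) :=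
      ⟨hiso.hom (Classical.arbitrary _)⟩
    have h3 : IsIntegral (Spec (CommRingCat.of (Γ(X, U) ⊗[Γ(Y, W)] Ω))) :=
      isIntegral_of_isOpenImmersion hiso.inv
    have h4 : IsDomain (Γ(X, U) ⊗[Γ(Y, W)] Ω) := (affine_isIntegral_iff _).mp h3
    exact (Algebra.TensorProduct.comm Γ(Y, W) Ω Γ(X, U)).toMulEquiv.isDomain
  obtain ⟨a, ha, hmain⟩ := quotient_main q'.asIdeal p₀'.asIdeal H1 H2
  refine ⟨⟨hW.fromSpec '' (PrimeSpectrum.basicOpen a : Set (PrimeSpectrum Γ(Y, W))),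
    hW.fromSpec.isOpenEmbedding.isOpenMap _ (PrimeSpectrum.basicOpen a).2⟩, ?_, ?_⟩
  · exact ⟨p₀', ha, hp₀'⟩
  · rintro y ⟨p, hp, rfl⟩ hsp
    have hle : p₀'.asIdeal ≤ p.asIdeal := by
      rw [← hp₀', hWind.specializes_iff, ← PrimeSpectrum.le_iff_specializes] at hsp
      exact hsp
    have h1 := hmain p hle hp
    have h2 := h1.image hU.fromSpec hU.fromSpec.continuous.continuousOn
    convert h2 using 1
    ext x
    constructor
    · rintro ⟨⟨hx1, hx2⟩, hx3⟩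
      set Q := hU.primeIdealOf ⟨x, hx2⟩ with hQ
      have hQx : hU.fromSpec Q = x := hU.fromSpec_primeIdealOf ⟨x, hx2⟩
      refine ⟨Q, ⟨?_, ?_⟩, hQx⟩
      · have hsp' : ξ ⤳ x := specializes_iff_mem_closure.mpr hx1
        rw [← hq', ← hQx, hUind.specializes_iff, ← PrimeSpectrum.le_iff_specializes] at hsp'
        rw [PrimeSpectrum.mem_zeroLocus]
        exact hsp'
      · rw [Set.mem_preimage, Set.mem_singleton_iff]
        apply hWinj
        rw [← hnat, hQx]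
        exact hx3
    · rintro ⟨Q, ⟨hQ1, hQ2⟩, rfl⟩
      refine ⟨⟨?_, ?_⟩, ?_⟩
      · rw [PrimeSpectrum.mem_zeroLocus] at hQ1
        have hsp' : q' ⤳ Q := (PrimeSpectrum.le_iff_specializes q' Q).mp hQ1
        have := hsp'.map hU.fromSpec.continuous
        rw [hq'] at this
        exact specializes_iff_mem_closure.mp this
      · have : hU.fromSpec Q ∈ Set.range hU.fromSpec := ⟨Q, rfl⟩
        rw [hU.range_fromSpec] at this
        exact this
      · rw [Set.mem_preimage, Set.mem_singleton_iff] at hQ2 ⊢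
        rw [hnat, hQ2]

end Groth.Agent.Lib.helper9.GenIrr
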