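import Mathlib
import Groth.Prelude.Def_FDesc
import Groth.Agent.Lib.Helper3.SecCompConst1

/-!
# Geometric integrality of a fibre component and base change to a field (helper9)

`isIntegral_pullback_of_geomIntegral` : `C` a subset of the fibre `f⁻¹(y)` which is geometrically
irreducible with geometrically reduced local rings (in the sense of the hypotheses of EGA IV
15.6.6 as stated in `S4975`); `U` an affine open of `X` over an affine open `W ∋ y` of `Y` with
`U ∩ f⁻¹(y) ⊆ C` nonempty. Then `U ×_W Spec Ω` is integral for every field-valued point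
`Spec Ω → W` with image `y`.
-/

set_option autoImplicit false
set_option linter.style.haveILetI false
set_option backward.isDefEq.respectTransparency false
universe u
open AlgebraicGeometry CategoryTheory Limits

namespace Groth.Agent.Lib.helper9.SecOpen

open Groth.Agent.Lib.helper3.SecCompConst

theorem maximalIdeal_stalk_Spec_field (Ω : Type u) [Field Ω] (t : Spec (CommRingCat.of Ω)) :
    IsLocalRing.maximalIdeal ((Spec (CommRingCat.of Ω)).presheaf.stalk t) = ⊥ := by
  let t' : PrimeSpectrum Ω := t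
  letI k : Algebra Ω ((Spec (CommRingCat.of Ω)).presheaf.stalk t) :=
    StructureSheaf.stalkAlgebra Ω t'
  haveI hloc : IsLocalization.AtPrime ((Spec (CommRingCat.of Ω)).presheaf.stalk t) t'.asIdeal :=
    StructureSheaf.IsLocalization.to_stalk Ω t'
  have h1 := IsLocalization.AtPrime.map_eq_maximalIdeal t'.asIdeal
    ((Spec (CommRingCat.of Ω)).presheaf.stalk t)
  rw [← h1]
  have h2 : t'.asIdeal = ⊥ := Ideal.eq_bot_of_prime _
  rw [h2, Ideal.map_bot]

theorem isIntegral_pullback_of_geomIntegral {X Y : Scheme.{u}} (f : X ⟶ Y)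
    (y : Y) (C : Set X)
    (hirr : ∀ (K : Type u) [Field K] [Algebra (IsLocalRing.ResidueField (Y.presheaf.stalk y)) K],
      IsIrreducible ((FBase.bcπ (f.fiberToSpecResidueField y) K ≫ f.fiberι y).base ⁻¹' C))
    (hred : ∀ (K : Type u) [Field K] [Algebra (IsLocalRing.ResidueField (Y.presheaf.stalk y)) K],
      ∀ x' : ↥(FBase.bc (f.fiberToSpecResidueField y) K),
        (FBase.bcπ (f.fiberToSpecResidueField y) K ≫ f.fiberι y).base x' ∈ C →
        _root_.IsReduced ((FBase.bc (f.fiberToSpecResidueField y) K).presheaf.stalk x'))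
    (W : Y.Opens) (hW : IsAffineOpen W) (U : X.Opens) (hU : IsAffineOpen U) (e : U ≤ f ⁻¹ᵁ W)
    (hyW : y ∈ W) (hUC : ∀ x ∈ U, f x = y → x ∈ C) (hne : ∃ x ∈ U, f x = y)
    (Ω : Type u) [Field Ω] (ψ : Γ(Y, W) →+* Ω)
    (hψ : RingHom.ker ψ = (hW.primeIdealOf ⟨y, hyW⟩).asIdeal) :
    IsIntegral (pullback (Spec.map (f.appLE W U e)) (Spec.map (CommRingCat.ofHom ψ))) := by
  classical
  set m : Spec (CommRingCat.of Ω) ⟶ Y := Spec.map (CommRingCat.ofHom ψ) ≫ hW.fromSpec with hm
  have hmt : ∀ t : Spec (CommRingCat.of Ω), m t = y := by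
    intro t
    rw [hm, Scheme.Hom.comp_apply]
    have h1 : Spec.map (CommRingCat.ofHom ψ) t = hW.primeIdealOf ⟨y, hyW⟩ := by
      apply PrimeSpectrum.ext
      rw [← hψ]
      let t' : PrimeSpectrum Ω := t
      have h2 : t'.asIdeal = ⊥ := Ideal.eq_bot_of_prime _
      change Ideal.comap ψ t'.asIdeal = _
      rw [h2]
      rfl
    rw [h1]
    exact hW.fromSpec_primeIdealOf ⟨y, hyW⟩
  set p := pullback.fst f m with hp
  set φ := pullback.snd f m with hφ
  have hc : IsPullback p φ f m := IsPullback.of_hasPullback f m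
  have hfp : ∀ c : ↥(pullback f m), f (p c) = y := by
    intro c
    have h1 : (p ≫ f) c = (φ ≫ m) c := by rw [hc.w]
    rw [Scheme.Hom.comp_apply, Scheme.Hom.comp_apply, hmt] at h1
    exact h1
  -- irreducibility of `p⁻¹ C`
  have hPirr : IsIrreducible (p ⁻¹' C) := by
    obtain ⟨x, hxU, hfx⟩ := hne
    obtain ⟨c₀, hc₀, -⟩ := Scheme.Pullback.exists_preimage_pullback (f := f) (g := m) x
      (Classical.arbitrary _) (by rw [hfx, hmt])
    have h1 := isIrreducible_preimage_of_geom hc (φ c₀) y (hmt _) C hirr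
    have h2 : p ⁻¹' C ∩ φ ⁻¹' {φ c₀} = p ⁻¹' C := by
      apply Set.inter_eq_left.mpr
      intro c _
      exact Subsingleton.elim (α := PrimeSpectrum Ω) _ _
    rw [← h2]
    exact h1
  -- reducedness of the local rings at the points of `p⁻¹ C`
  have hPred : ∀ c : ↥(pullback f m), p c ∈ C → _root_.IsReduced ((pullback f m).presheaf.stalk c) := by
    intro c hcC
    have hrange : p c ∈ Set.range (f.fiberι y) := by
      rw [f.range_fiberι y]
      exact hfp c
    obtain ⟨z, hz⟩ := hrange
    have hgr : FBase.IsGeomReducedAt (f.fiberToSpecResidueField y) z := by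
      intro K _ _ x' hx'
      apply hred K x'
      rw [Scheme.Hom.comp_apply]
      change (f.fiberι y) ((FBase.bcπ (f.fiberToSpecResidueField y) K) x') ∈ C
      have hx'' : (FBase.bcπ (f.fiberToSpecResidueField y) K) x' = z := hx'
      rw [hx'', hz]
      exact hcC
    have hrad := isRadical_fibIdeal_of_isGeomReducedAt hc c y (hmt _) z hz hgr
    have hbot : fibIdeal φ c = ⊥ := by
      rw [fibIdeal, maximalIdeal_stalk_Spec_field, Ideal.map_bot]
    rw [hbot] at hrad
    exact Ideal.isRadical_bot_iff.mp hrad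
  -- the open immersion
  have e₁ : Spec.map (f.appLE W U e) ≫ hW.fromSpec = hU.fromSpec ≫ f :=
    IsAffineOpen.SpecMap_appLE_fromSpec f hW hU e
  have e₂ : Spec.map (CommRingCat.ofHom ψ) ≫ hW.fromSpec = 𝟙 _ ≫ m := by
    rw [Category.id_comp]
  set θ := pullback.map (Spec.map (f.appLE W U e)) (Spec.map (CommRingCat.ofHom ψ)) f m
    hU.fromSpec (𝟙 _) hW.fromSpec e₁ e₂ with hθ
  haveI : IsOpenImmersion θ := Scheme.pullback_map_isOpenImmersion _ _ _ _ _ _ _ e₁ e₂
  have hrange : Set.range θ = p ⁻¹' (U : Set X) := by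
    rw [hθ, Scheme.Pullback.range_map, hU.range_fromSpec]
    have : Set.range (𝟙 (Spec (CommRingCat.of Ω)) : _ ⟶ _) = Set.univ := by
      ext z
      simp
    rw [this, Set.preimage_univ, Set.inter_univ]
  have hsub : p ⁻¹' (U : Set X) ⊆ p ⁻¹' C := fun c hcU => hUC _ hcU (hfp c)
  have hUirr : IsPreirreducible (p ⁻¹' (U : Set X)) :=
    hPirr.isPreirreducible.open_subset (U.2.preimage p.continuous) hsub
  have hne' : (p ⁻¹' (U : Set X)).Nonempty := by
    obtain ⟨x, hxU, hfx⟩ := hne
    obtain ⟨c₀, hc₀, -⟩ := Scheme.Pullback.exists_preimage_pullback (f := f) (g := m) x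
      (Classical.arbitrary _) (by rw [hfx, hmt])
    exact ⟨c₀, by rw [Set.mem_preimage]; rw [← hp] at hc₀; rw [hc₀]; exact hxU⟩
  haveI : Nonempty ↥(pullback (Spec.map (f.appLE W U e)) (Spec.map (CommRingCat.ofHom ψ))) := by
    obtain ⟨c, hc'⟩ := hne'
    rw [← hrange] at hc'
    obtain ⟨z, -⟩ := hc'
    exact ⟨z⟩
  haveI : IrreducibleSpace ↥(pullback (Spec.map (f.appLE W U e)) (Spec.map (CommRingCat.ofHom ψ))) := by
    have h1 : IsPreirreducible (θ ⁻¹' (p ⁻¹' (U : Set X))) :=
      hUirr.preimage θ.isOpenEmbedding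
    have h2 : θ ⁻¹' (p ⁻¹' (U : Set X)) = Set.univ := by
      rw [← hrange]
      ext z
      simp
    rw [h2] at h1
    haveI : PreirreducibleSpace
        ↥(pullback (Spec.map (f.appLE W U e)) (Spec.map (CommRingCat.ofHom ψ))) := ⟨h1⟩
    exact ⟨inferInstance⟩
  haveI : ∀ z : ↥(pullback (Spec.map (f.appLE W U e)) (Spec.map (CommRingCat.ofHom ψ))),
      _root_.IsReduced ((pullback (Spec.map (f.appLE W U e))
        (Spec.map (CommRingCat.ofHom ψ))).presheaf.stalk z) := by
    intro z
    have hz : p (θ z) ∈ C := hsub (by rw [← hrange]; exact ⟨z, rfl⟩)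
    haveI := hPred (θ z) hz
    exact isReduced_of_injective (inv (θ.stalkMap z)).hom
      ((ConcreteCategory.bijective_of_isIso (inv (θ.stalkMap z))).injective)
  haveI : IsReduced (pullback (Spec.map (f.appLE W U e)) (Spec.map (CommRingCat.ofHom ψ))) :=
    isReduced_of_isReduced_stalk _
  exact isIntegral_of_irreducibleSpace_of_isReduced _

end Groth.Agent.Lib.helper9.SecOpen
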