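import Mathlib
import Groth.Prelude.Def_FDesc
import Groth.Prelude.Def_MoreMor
import Groth.Agent.Lib.Helper3.SecCompConst3

/-!
# The union of the section components is stable under generization (helper9)

EGA IV 15.6.5-type statement: `Y` locally Noetherian, `f : X ⟶ Y` locally of finite type with a
section `g`, the section components `X_y⁰` geometrically irreducible with geometrically reduced
local rings, `f` universally open at the points of `X⁰`. Then `X⁰` is stable under generization.
-/

set_option autoImplicit false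
set_option linter.style.haveILetI false
universe u
open CategoryTheory AlgebraicGeometry CategoryTheory.Limits TopologicalSpace Topology IsLocalRing

namespace Groth.Agent.Lib.helper9.SecOpen

open Groth.Agent.Lib.helper3 Groth.Agent.Lib.helper3.UOImageDim Groth.Agent.Lib.helper3.DimIneq
  Groth.Agent.Lib.helper3.SecCompDim Groth.Agent.Lib.helper3.UnivOpenGenTd
  Groth.Agent.Lib.helper3.SecCompConst

variable {X Y : Scheme.{u}} (f : X ⟶ Y) [LocallyOfFiniteType f] (g : Y ⟶ X)

theorem mem_sectionComponents_of_specializes [IsLocallyNoetherian Y] (hg : g ≫ f = 𝟙 Y)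
    (hirr : ∀ y : Y, (∀ (K : Type u) [Field K]
      [Algebra (IsLocalRing.ResidueField (Y.presheaf.stalk y)) K],
        IsIrreducible ((FBase.bcπ (f.fiberToSpecResidueField y) K ≫ f.fiberι y).base ⁻¹'
          connectedComponentIn (f.base ⁻¹' {y}) (g.base y))))
    (hred : ∀ y : Y, (∀ (K : Type u) [Field K]
      [Algebra (IsLocalRing.ResidueField (Y.presheaf.stalk y)) K],
        ∀ x' : ↥(FBase.bc (f.fiberToSpecResidueField y) K),
          (FBase.bcπ (f.fiberToSpecResidueField y) K ≫ f.fiberι y).base x' ∈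
            connectedComponentIn (f.base ⁻¹' {y}) (g.base y) →
          _root_.IsReduced ((FBase.bc (f.fiberToSpecResidueField y) K).presheaf.stalk x')))
    (huo : ∀ y : Y, ∀ x ∈ connectedComponentIn (f.base ⁻¹' {y}) (g.base y),
      EGA43.IsUnivOpenAt f x)
    (x ζ : X) (hx : x ∈ connectedComponentIn (f.base ⁻¹' {f.base x}) (g.base (f.base x)))
    (hζx : ζ ⤳ x) :
    ζ ∈ connectedComponentIn (f.base ⁻¹' {f.base ζ}) (g.base (f.base ζ)) := by
  have hfg : ∀ y : Y, f.base (g.base y) = y := fun y => by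
    rw [← Scheme.Hom.comp_apply, hg]; rfl
  haveI : IsLocallyNoetherian X := LocallyOfFiniteType.isLocallyNoetherian f
  set y₀ := f.base x with hy₀
  set y' := f.base ζ with hy'
  obtain ⟨R, _, _, _, h, hh1, hh2⟩ :=
    Groth.Agent.Lib.helper4.SubtrNoeth.exists_dvr_of_specializes' x ζ hζx
  set m : Spec (CommRingCat.of R) ⟶ Y := h ≫ f with hm
  set v : Spec (CommRingCat.of R) := closedPoint R with hv
  set η : Spec (CommRingCat.of R) := (⟨⊥, Ideal.isPrime_bot⟩ : PrimeSpectrum R) with hη
  have hm1 : m.base v = y₀ := by rw [hm, Scheme.Hom.comp_apply]; exact congrArg f.base hh1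
  have hm2 : m.base η = y' := by rw [hm, Scheme.Hom.comp_apply]; exact congrArg f.base hh2
  set p := pullback.fst f m with hp
  set φ := pullback.snd f m with hφ
  have hc : IsPullback p φ f m := IsPullback.of_hasPullback f m
  haveI : LocallyOfFiniteType φ := by
    rw [hφ]
    infer_instance
  haveI : IsLocallyNoetherian (pullback f m) := LocallyOfFiniteType.isLocallyNoetherian φ
  let gT : Spec (CommRingCat.of R) ⟶ pullback f m :=
    pullback.lift (m ≫ g) (𝟙 _) (by rw [Category.assoc, hg, Category.comp_id, Category.id_comp])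
  let hT : Spec (CommRingCat.of R) ⟶ pullback f m :=
    pullback.lift h (𝟙 _) (by rw [Category.id_comp])
  have hgTp : gT ≫ p = m ≫ g := pullback.lift_fst _ _ _
  have hgTφ : gT ≫ φ = 𝟙 _ := pullback.lift_snd _ _ _
  have hhTp : hT ≫ p = h := pullback.lift_fst _ _ _
  have hhTφ : hT ≫ φ = 𝟙 _ := pullback.lift_snd _ _ _
  have hηv : η ⤳ v := IsLocalRing.specializes_closedPoint (R := R) η
  have hηne : η ≠ v := by
    intro h'
    have h1 : (⊥ : Ideal R) = maximalIdeal R := congrArg PrimeSpectrum.asIdeal h'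
    exact IsDiscreteValuationRing.not_a_field R h1.symm
  set c₁ := gT.base v with hc₁def
  set w₁ := gT.base η with hw₁def
  set c₂ := hT.base v with hc₂def
  set w₂ := hT.base η with hw₂def
  have hφgT : ∀ t, φ.base (gT.base t) = t := fun t => by
    rw [← Scheme.Hom.comp_apply, hgTφ]; rfl
  have hφhT : ∀ t, φ.base (hT.base t) = t := fun t => by
    rw [← Scheme.Hom.comp_apply, hhTφ]; rfl
  have hpgT : ∀ t, p.base (gT.base t) = g.base (m.base t) := fun t => by
    rw [← Scheme.Hom.comp_apply, hgTp]; rfl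
  have hphT : ∀ t, p.base (hT.base t) = h.base t := fun t => by
    rw [← Scheme.Hom.comp_apply, hhTp]
  have hφc₁ : φ.base c₁ = v := hφgT v
  have hφw₁ : φ.base w₁ = η := hφgT η
  have hφc₂ : φ.base c₂ = v := hφhT v
  have hφw₂ : φ.base w₂ = η := hφhT η
  have hpc₁ : p.base c₁ = g.base y₀ := by rw [hc₁def, hpgT, hm1]
  have hpw₁ : p.base w₁ = g.base y' := by rw [hw₁def, hpgT, hm2]
  have hpc₂ : p.base c₂ = x := by rw [hc₂def, hphT]; exact hh1
  have hpw₂ : p.base w₂ = ζ := by rw [hw₂def, hphT]; exact hh2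
  -- the components
  obtain ⟨hCCv, -⟩ := bc_component hc v y₀ hm1 (g.base y₀) (hfg y₀) c₁ hpc₁ hφc₁ (hirr y₀)
  obtain ⟨hCCη, -⟩ := bc_component hc η y' hm2 (g.base y') (hfg y') w₁ hpw₁ hφw₁ (hirr y')
  have hCCvirr : IsIrreducible (connectedComponentIn (φ.base ⁻¹' {v}) c₁) := by
    rw [hCCv]
    exact isIrreducible_preimage_of_geom hc v y₀ hm1 _ (hirr y₀)
  obtain ⟨ξv, hξvCC, hCCveq⟩ := exists_generic_of_isClosed_in_fibre φ v _
    (connectedComponentIn_subset _ _) hCCvirr (connectedComponentIn_fibre_isClosed φ v c₁ hφc₁)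
  have hφξv : φ.base ξv = v := connectedComponentIn_subset (φ.base ⁻¹' {v}) c₁ hξvCC
  have hpξv : p.base ξv ∈ connectedComponentIn (f.base ⁻¹' {y₀}) (g.base y₀) := by
    have := hξvCC
    rw [hCCv] at this
    exact this.1
  have hopenv : EGA43.IsUnivOpenAt φ ξv :=
    Groth.Agent.Lib.helper8.isUnivOpenAt_of_isPullback (huo y₀ _ hpξv) hc ξv rfl
  obtain ⟨ξ', hξ'ξv, hφξ', -⟩ := exists_generization_td_ge φ ξv hopenv η
    (by rw [hφξv]; exact hηv)
  have hc₁CC : c₁ ∈ connectedComponentIn (φ.base ⁻¹' {v}) c₁ := mem_connectedComponentIn hφc₁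
  have hc₂CC : c₂ ∈ connectedComponentIn (φ.base ⁻¹' {v}) c₁ := by
    rw [hCCv]
    refine ⟨?_, hφc₂⟩
    rw [Set.mem_preimage, hpc₂]
    exact hx
  obtain ⟨O', hO', hCCO'⟩ := exists_isOpen_connectedComponentIn_fibre φ v c₁ hφc₁
  -- the local irreducibility argument at a point of the component
  have key : ∀ c w : ↥(pullback f m), c ∈ connectedComponentIn (φ.base ⁻¹' {v}) c₁ → w ⤳ c →
      ξ' ⤳ w := by
    intro c w hcCC hwc
    have hφc : φ.base c = v := connectedComponentIn_subset (φ.base ⁻¹' {v}) c₁ hcCC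
    have hξvc : ξv ⤳ c := by
      have := hcCC
      rw [hCCveq] at this
      exact specializes_iff_mem_closure.mpr this.1
    have hcO' : c ∈ O' := by
      have := hcCC
      rw [hCCO'] at this
      exact this.2
    have hmin : ∀ x' : ↥(pullback f m), x' ⤳ c → φ.base x' = φ.base c → ξv ⤳ x' := by
      intro x' hx'c hφx'
      have h1 : x' ∈ connectedComponentIn (φ.base ⁻¹' {v}) c₁ := by
        rw [hCCO']
        exact ⟨hφx'.trans hφc, hx'c.mem_open hO' hcO'⟩
      rw [hCCveq] at h1
      exact specializes_iff_mem_closure.mpr h1.1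
    have hpcC : p.base c ∈ connectedComponentIn (f.base ⁻¹' {y₀}) (g.base y₀) := by
      have := hcCC
      rw [hCCv] at this
      exact this.1
    have hrange : p.base c ∈ Set.range (f.fiberι y₀).base := by
      rw [f.range_fiberι y₀]
      exact connectedComponentIn_subset _ _ hpcC
    obtain ⟨z, hz⟩ := hrange
    have hgr : FBase.IsGeomReducedAt (f.fiberToSpecResidueField y₀) z := by
      intro K _ _ x' hx'
      apply hred y₀ K x'
      rw [Scheme.Hom.comp_base, TopCat.comp_app]
      have hx'' : (FBase.bcπ (f.fiberToSpecResidueField y₀) K).base x' = z := hx'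
      rw [hx'', hz]
      exact hpcC
    have hredc : (fibIdeal φ c).IsRadical :=
      isRadical_fibIdeal_of_isGeomReducedAt hc c y₀ (by rw [hφc, hm1]) z hz hgr
    have hprin : (maximalIdeal ((Spec (CommRingCat.of R)).presheaf.stalk (φ.base c))).IsPrincipal := by
      rw [hφc]
      exact isPrincipal_maximalIdeal_stalk_closedPoint R
    exact specializes_of_reduced_fibre φ c ξv ξ' w hξvc hξ'ξv hwc
      (by rw [hφξ', hφc]; exact hηne) hmin hredc hprin
  have hξ'w₁ : ξ' ⤳ w₁ := key c₁ w₁ hc₁CC (hηv.map gT.continuous)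
  have hξ'w₂ : ξ' ⤳ w₂ := key c₂ w₂ hc₂CC (hηv.map hT.continuous)
  -- connectedness of the closure of `ξ'` in the generic fibre
  have hS : _root_.IsPreconnected (closure {ξ'} ∩ φ.base ⁻¹' {η}) := by
    refine (isPreconnected_singleton (x := ξ')).subset_closure ?_ Set.inter_subset_left
    rw [Set.singleton_subset_iff]
    exact ⟨subset_closure rfl, hφξ'⟩
  have hw₁S : w₁ ∈ closure {ξ'} ∩ φ.base ⁻¹' {η} :=
    ⟨specializes_iff_mem_closure.mp hξ'w₁, hφw₁⟩
  have hw₂S : w₂ ∈ closure {ξ'} ∩ φ.base ⁻¹' {η} :=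
    ⟨specializes_iff_mem_closure.mp hξ'w₂, hφw₂⟩
  have hw₂CC : w₂ ∈ connectedComponentIn (φ.base ⁻¹' {η}) w₁ :=
    hS.subset_connectedComponentIn hw₁S Set.inter_subset_right hw₂S
  rw [hCCη] at hw₂CC
  have := hw₂CC.1
  rw [Set.mem_preimage, hpw₂] at this
  exact this

end Groth.Agent.Lib.helper9.SecOpen
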