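import Mathlib
import Groth.Prelude.Def_FDesc
import Groth.Prelude.Def_MoreMor
import Groth.Agent.Lib.Helper9.NoethInd
import Groth.Agent.Lib.Helper9.GenIrr8
import Groth.Agent.Lib.Helper9.SecOpen1
import Groth.Agent.Lib.Helper9.SecOpen2

/-!
# Openness of the union of the section components (helper9; EGA IV 15.6.5 / 15.6.6)

`Y` locally Noetherian, `f : X ⟶ Y` locally of finite type with a section `g`, the section
components `X_y⁰` geometrically integral, `f` universally open at the points of `X⁰`. Then `X⁰`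
is open in `X`.
-/

set_option autoImplicit false
set_option linter.style.haveILetI false
universe u
open CategoryTheory AlgebraicGeometry CategoryTheory.Limits TopologicalSpace Topology

namespace Groth.Agent.Lib.helper9.SecOpen

/-- A neighbourhood criterion in Noetherian spaces (EGA 0_III 9.2.5-type statement). -/
theorem mem_nhds_of_forall_irreducible {T : Type u} [TopologicalSpace T] [NoetherianSpace T]
    (E : Set T) (x : T)
    (H : ∀ Z : Set T, IsClosed Z → IsIrreducible Z → x ∈ Z →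
      ∃ G : Set T, IsOpen G ∧ (G ∩ Z).Nonempty ∧ G ∩ Z ⊆ E) :
    E ∈ 𝓝 x := by
  have key : ∀ F : Set T, IsClosed F → (x ∈ F → ∃ O : Set T, IsOpen O ∧ x ∈ O ∧ O ∩ F ⊆ E) := by
    apply Groth.Agent.Lib.helper9.noetherian_closed_induction
    · intro hx
      exact absurd hx (Set.notMem_empty x)
    · intro Z₁ Z₂ hZ₁ hZ₂ h₁ h₂ hx
      by_cases hx₁ : x ∈ Z₁
      · by_cases hx₂ : x ∈ Z₂
        · obtain ⟨O₁, hO₁, hxO₁, hO₁E⟩ := h₁ hx₁
          obtain ⟨O₂, hO₂, hxO₂, hO₂E⟩ := h₂ hx₂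
          refine ⟨O₁ ∩ O₂, hO₁.inter hO₂, ⟨hxO₁, hxO₂⟩, ?_⟩
          rintro t ⟨⟨ht₁, ht₂⟩, ht | ht⟩
          · exact hO₁E ⟨ht₁, ht⟩
          · exact hO₂E ⟨ht₂, ht⟩
        · obtain ⟨O₁, hO₁, hxO₁, hO₁E⟩ := h₁ hx₁
          refine ⟨O₁ ∩ Z₂ᶜ, hO₁.inter hZ₂.isOpen_compl, ⟨hxO₁, hx₂⟩, ?_⟩
          rintro t ⟨⟨ht₁, ht₂⟩, ht | ht⟩
          · exact hO₁E ⟨ht₁, ht⟩
          · exact absurd ht ht₂
      · have hx₂ : x ∈ Z₂ := hx.resolve_left hx₁
        obtain ⟨O₂, hO₂, hxO₂, hO₂E⟩ := h₂ hx₂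
        refine ⟨O₂ ∩ Z₁ᶜ, hO₂.inter hZ₁.isOpen_compl, ⟨hxO₂, hx₁⟩, ?_⟩
        rintro t ⟨⟨ht₁, ht₂⟩, ht | ht⟩
        · exact absurd ht ht₂
        · exact hO₂E ⟨ht₁, ht⟩
    · intro Z hZ hZirr IH hx
      obtain ⟨G, hG, hGZ, hGE⟩ := H Z hZ hZirr hx
      by_cases hxG : x ∈ G
      · exact ⟨G, hG, hxG, hGE⟩
      · have hZ' : IsClosed (Z ∩ Gᶜ) := hZ.inter hG.isClosed_compl
        have hne : Z ∩ Gᶜ ≠ Z := by
          intro h
          obtain ⟨t, htG, htZ⟩ := hGZ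
          have : t ∈ Z ∩ Gᶜ := by rw [h]; exact htZ
          exact this.2 htG
        obtain ⟨O', hO', hxO', hO'E⟩ := IH (Z ∩ Gᶜ) hZ' Set.inter_subset_left hne ⟨hx, hxG⟩
        refine ⟨O', hO', hxO', ?_⟩
        rintro t ⟨htO', htZ⟩
        by_cases htG : t ∈ G
        · exact hGE ⟨htG, htZ⟩
        · exact hO'E ⟨htO', htZ, htG⟩
  obtain ⟨O, hO, hxO, hOE⟩ := key Set.univ isClosed_univ (Set.mem_univ x)
  rw [Set.inter_univ] at hOE
  exact Filter.mem_of_superset (hO.mem_nhds hxO) hOE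

open Groth.Agent.Lib.helper3.SecCompDim Groth.Agent.Lib.helper9.GenIrr in
/-- The local step: around a point `ζ` of a geometrically integral section component `X_η⁰` with
generic point `ξ`, every specialization `z` of `ξ` lies in its own section component. -/
theorem step2_core_aux {X Y : Scheme.{u}} [IsLocallyNoetherian Y] (f : X ⟶ Y)
    [LocallyOfFiniteType f] (g : Y ⟶ X) (hg : g ≫ f = 𝟙 Y) (ξ : X)
    (hirr : ∀ (K : Type u) [Field K]
      [Algebra (IsLocalRing.ResidueField (Y.presheaf.stalk (f.base ξ))) K],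
        IsIrreducible ((FBase.bcπ (f.fiberToSpecResidueField (f.base ξ)) K ≫
          f.fiberι (f.base ξ)).base ⁻¹'
          connectedComponentIn (f.base ⁻¹' {f.base ξ}) (g.base (f.base ξ))))
    (hred : ∀ (K : Type u) [Field K]
      [Algebra (IsLocalRing.ResidueField (Y.presheaf.stalk (f.base ξ))) K],
        ∀ x' : ↥(FBase.bc (f.fiberToSpecResidueField (f.base ξ)) K),
          (FBase.bcπ (f.fiberToSpecResidueField (f.base ξ)) K ≫ f.fiberι (f.base ξ)).base x' ∈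
            connectedComponentIn (f.base ⁻¹' {f.base ξ}) (g.base (f.base ξ)) →
          _root_.IsReduced ((FBase.bc (f.fiberToSpecResidueField (f.base ξ)) K).presheaf.stalk x'))
    (hξ : connectedComponentIn (f.base ⁻¹' {f.base ξ}) (g.base (f.base ξ)) =
      closure {ξ} ∩ f.base ⁻¹' {f.base ξ})
    (ζ : X) (hζ : ζ ∈ connectedComponentIn (f.base ⁻¹' {f.base ξ}) (g.base (f.base ξ))) :
    ∃ G : Set X, IsOpen G ∧ ζ ∈ G ∧ ∀ z ∈ G, ξ ⤳ z →
      z ∈ connectedComponentIn (f.base ⁻¹' {f.base z}) (g.base (f.base z)) := by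
  classical
  have hfg : ∀ y : Y, f.base (g.base y) = y := fun y => by
    rw [← Scheme.Hom.comp_apply, hg]; rfl
  obtain ⟨O, hO, hCO⟩ :=
    exists_isOpen_connectedComponentIn_fibre f (f.base ξ) (g.base (f.base ξ)) (hfg (f.base ξ))
  have hmemC : ∀ x : X, x ∈ O → f.base x = f.base ξ → ξ ⤳ x := by
    intro x hxO hfx
    have h1 : x ∈ connectedComponentIn (f.base ⁻¹' {f.base ξ}) (g.base (f.base ξ)) := by
      rw [hCO]; exact ⟨hfx, hxO⟩
    rw [hξ] at h1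
    exact specializes_iff_mem_closure.mpr h1.1
  have hCmem : ∀ x : X, x ∈ connectedComponentIn (f.base ⁻¹' {f.base ξ}) (g.base (f.base ξ)) →
      x ∈ O ∧ f.base x = f.base ξ ∧ ξ ⤳ x := by
    intro x hx
    have h1 := hx
    rw [hCO] at h1
    exact ⟨h1.2, h1.1, hmemC x h1.2 h1.1⟩
  obtain ⟨hζO, hfζ, hξζ⟩ := hCmem ζ hζ
  obtain ⟨hgO, -, hξg⟩ := hCmem (g.base (f.base ξ)) (mem_connectedComponentIn (hfg (f.base ξ)))
  obtain ⟨_, ⟨W, hW : IsAffineOpen W, rfl⟩, hηW, -⟩ :=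
    Y.isBasis_affineOpens.exists_subset_of_mem_open (Set.mem_univ (f.base ξ)) isOpen_univ
  have hP : IsOpen ((f ⁻¹ᵁ W : Set X) ∩ O) := (f ⁻¹ᵁ W).isOpen.inter hO
  have hζW : ζ ∈ (f ⁻¹ᵁ W : Set X) := by
    show f.base ζ ∈ W
    rw [hfζ]; exact hηW
  have hgW : g.base (f.base ξ) ∈ (f ⁻¹ᵁ W : Set X) := by
    show f.base (g.base (f.base ξ)) ∈ W
    rw [hfg]; exact hηW
  obtain ⟨_, ⟨U₁, hU₁ : IsAffineOpen U₁, rfl⟩, hζU₁, hU₁P⟩ :=
    X.isBasis_affineOpens.exists_subset_of_mem_open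
      (show ζ ∈ (f ⁻¹ᵁ W : Set X) ∩ O from ⟨hζW, hζO⟩) hP
  obtain ⟨_, ⟨U₂, hU₂ : IsAffineOpen U₂, rfl⟩, hgU₂, hU₂P⟩ :=
    X.isBasis_affineOpens.exists_subset_of_mem_open
      (show g.base (f.base ξ) ∈ (f ⁻¹ᵁ W : Set X) ∩ O from ⟨hgW, hgO⟩) hP
  have hξU₁ : ξ ∈ U₁ := hξζ.mem_open U₁.isOpen hζU₁
  have hξU₂ : ξ ∈ U₂ := hξg.mem_open U₂.isOpen hgU₂
  obtain ⟨_, ⟨U₃, hU₃ : IsAffineOpen U₃, rfl⟩, hξU₃, hU₃12⟩ :=
    X.isBasis_affineOpens.exists_subset_of_mem_open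
      (show ξ ∈ (U₁ : Set X) ∩ U₂ from ⟨hξU₁, hξU₂⟩) (U₁.isOpen.inter U₂.isOpen)
  have main : ∀ (U : X.Opens), IsAffineOpen U → (U : Set X) ⊆ (f ⁻¹ᵁ W : Set X) ∩ O → ξ ∈ U →
      ∃ V : Y.Opens, f.base ξ ∈ V ∧ ∀ y ∈ V, f.base ξ ⤳ y →
        IsIrreducible (closure {ξ} ∩ (U : Set X) ∩ f.base ⁻¹' {y}) := by
    intro U hU hUP hξU
    have e : U ≤ f ⁻¹ᵁ W := fun x hx => (hUP hx).1
    exact scheme_main f ξ W hW U hU e hξU
      (fun x hx hfx => hmemC x (hUP hx).2 hfx)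
      (fun Ω _ ψ hψ => isIntegral_pullback_of_geomIntegral f (f.base ξ) _ hirr hred W hW U hU e hηW
        (fun x hx hfx => by rw [hCO]; exact ⟨hfx, (hUP hx).2⟩) ⟨ξ, hξU, rfl⟩ Ω ψ hψ)
  obtain ⟨V₁, hηV₁, hV₁⟩ := main U₁ hU₁ hU₁P hξU₁
  obtain ⟨V₂, hηV₂, hV₂⟩ := main U₂ hU₂ hU₂P hξU₂
  obtain ⟨V₃, hηV₃, hV₃⟩ := main U₃ hU₃ (fun x hx => hU₁P (hU₃12 hx).1) hξU₃
  refine ⟨(U₁ : Set X) ∩ f.base ⁻¹' ((V₁ : Set Y) ∩ V₂ ∩ V₃ ∩ g.base ⁻¹' (U₂ : Set X)),
    ?_, ?_, ?_⟩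
  · refine U₁.isOpen.inter (IsOpen.preimage f.continuous ?_)
    exact ((V₁.isOpen.inter V₂.isOpen).inter V₃.isOpen).inter (U₂.isOpen.preimage g.continuous)
  · refine ⟨hζU₁, ?_⟩
    rw [Set.mem_preimage, hfζ]
    exact ⟨⟨⟨hηV₁, hηV₂⟩, hηV₃⟩, hgU₂⟩
  · rintro z ⟨hzU₁, ⟨⟨⟨hzV₁, hzV₂⟩, hzV₃⟩, hzg⟩⟩ hξz
    have hηy : f.base ξ ⤳ f.base z := hξz.map f.continuous
    have h1 := hV₁ (f.base z) hzV₁ hηy
    have h2 := hV₂ (f.base z) hzV₂ hηy
    have h3 := hV₃ (f.base z) hzV₃ hηy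
    have hsub31 : closure {ξ} ∩ (U₃ : Set X) ∩ f.base ⁻¹' {f.base z} ⊆
        closure {ξ} ∩ (U₁ : Set X) ∩ f.base ⁻¹' {f.base z} :=
      fun t ht => ⟨⟨ht.1.1, (hU₃12 ht.1.2).1⟩, ht.2⟩
    have hsub32 : closure {ξ} ∩ (U₃ : Set X) ∩ f.base ⁻¹' {f.base z} ⊆
        closure {ξ} ∩ (U₂ : Set X) ∩ f.base ⁻¹' {f.base z} :=
      fun t ht => ⟨⟨ht.1.1, (hU₃12 ht.1.2).2⟩, ht.2⟩
    obtain ⟨t, ht⟩ := h3.nonempty
    have hconn : IsPreconnected ((closure {ξ} ∩ (U₁ : Set X) ∩ f.base ⁻¹' {f.base z}) ∪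
        (closure {ξ} ∩ (U₂ : Set X) ∩ f.base ⁻¹' {f.base z})) :=
      IsPreconnected.union t (hsub31 ht) (hsub32 ht) h1.isPreirreducible.isPreconnected
        h2.isPreirreducible.isPreconnected
    have hgy : g.base (f.base z) ∈ closure {ξ} ∩ (U₂ : Set X) ∩ f.base ⁻¹' {f.base z} :=
      ⟨⟨specializes_iff_mem_closure.mp (hξg.trans (hηy.map g.continuous)), hzg⟩, hfg _⟩
    have hz : z ∈ closure {ξ} ∩ (U₁ : Set X) ∩ f.base ⁻¹' {f.base z} :=
      ⟨⟨specializes_iff_mem_closure.mp hξz, hzU₁⟩, rfl⟩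
    exact hconn.subset_connectedComponentIn (Or.inr hgy)
      (by rintro t (ht | ht) <;> exact ht.2) (Or.inl hz)

/-- `step2_core_aux` with the base point `η = f ξ` as a free variable. -/
theorem step2_core {X Y : Scheme.{u}} [IsLocallyNoetherian Y] (f : X ⟶ Y)
    [LocallyOfFiniteType f] (g : Y ⟶ X) (hg : g ≫ f = 𝟙 Y) (ξ : X) (η : Y) (hfξ : f.base ξ = η)
    (hirr : ∀ (K : Type u) [Field K]
      [Algebra (IsLocalRing.ResidueField (Y.presheaf.stalk η)) K],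
        IsIrreducible ((FBase.bcπ (f.fiberToSpecResidueField η) K ≫
          f.fiberι η).base ⁻¹'
          connectedComponentIn (f.base ⁻¹' {η}) (g.base η)))
    (hred : ∀ (K : Type u) [Field K]
      [Algebra (IsLocalRing.ResidueField (Y.presheaf.stalk η)) K],
        ∀ x' : ↥(FBase.bc (f.fiberToSpecResidueField η) K),
          (FBase.bcπ (f.fiberToSpecResidueField η) K ≫ f.fiberι η).base x' ∈
            connectedComponentIn (f.base ⁻¹' {η}) (g.base η) →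
          _root_.IsReduced ((FBase.bc (f.fiberToSpecResidueField η) K).presheaf.stalk x'))
    (hξ : connectedComponentIn (f.base ⁻¹' {η}) (g.base η) =
      closure {ξ} ∩ f.base ⁻¹' {η})
    (ζ : X) (hζ : ζ ∈ connectedComponentIn (f.base ⁻¹' {η}) (g.base η)) :
    ∃ G : Set X, IsOpen G ∧ ζ ∈ G ∧ ∀ z ∈ G, ξ ⤳ z →
      z ∈ connectedComponentIn (f.base ⁻¹' {f.base z}) (g.base (f.base z)) := by
  subst hfξ
  exact step2_core_aux f g hg ξ hirr hred hξ ζ hζ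

open Groth.Agent.Lib.helper3.SecCompDim Groth.Agent.Lib.helper3.SecCompConst in
/-- **Openness of the union of the section components** (EGA IV 15.6.5/15.6.6 type statement). -/
theorem isOpen_sectionComponents {X Y : Scheme.{u}} [IsLocallyNoetherian Y] (f : X ⟶ Y)
    [LocallyOfFiniteType f] (g : Y ⟶ X) (hg : g ≫ f = 𝟙 Y)
    (hirr : ∀ y : Y, (∀ (K : Type u) [Field K]
      [Algebra (IsLocalRing.ResidueField (Y.presheaf.stalk y)) K],
        IsIrreducible ((FBase.bcπ (f.fiberToSpecResidueField y) K ≫ f.fiberι y).base ⁻¹'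
          connectedComponentIn (f.base ⁻¹' {y}) (g.base y))))
    (hred : ∀ y : Y, (∀ (K : Type u) [Field K]
      [Algebra (IsLocalRing.ResidueField (Y.presheaf.stalk y)) K],
        ∀ x' : ↥(FBase.bc (f.fiberToSpecResidueField y) K),
          (FBase.bcπ (f.fiberToSpecResidueField y) K ≫ f.fiberι y).base x' ∈
            connectedComponentIn (f.base ⁻¹' {y}) (g.base y) →
          _root_.IsReduced ((FBase.bc (f.fiberToSpecResidueField y) K).presheaf.stalk x')))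
    (huo : ∀ y : Y, ∀ x ∈ connectedComponentIn (f.base ⁻¹' {y}) (g.base y),
      EGA43.IsUnivOpenAt f x) :
    IsOpen {x : X | x ∈ connectedComponentIn (f.base ⁻¹' {f.base x}) (g.base (f.base x))} := by
  classical
  have hfg : ∀ y : Y, f.base (g.base y) = y := fun y => by
    rw [← Scheme.Hom.comp_apply, hg]; rfl
  haveI : IsLocallyNoetherian X := LocallyOfFiniteType.isLocallyNoetherian f
  rw [isOpen_iff_mem_nhds]
  intro x hx
  obtain ⟨_, ⟨O, hOaff : IsAffineOpen O, rfl⟩, hxO, -⟩ :=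
    X.isBasis_affineOpens.exists_subset_of_mem_open (Set.mem_univ x) isOpen_univ
  haveI : IsNoetherianRing Γ(X, O) := IsLocallyNoetherian.component_noetherian ⟨O, hOaff⟩
  haveI : NoetherianSpace ↥O := noetherianSpace_of_isAffineOpen O hOaff
  have hemb : IsOpenEmbedding (Subtype.val : ↥O → X) := O.isOpen.isOpenEmbedding_subtypeVal
  haveI : QuasiSober ↥O := hemb.quasiSober
  have h1 : (Subtype.val ⁻¹' {x : X | x ∈ connectedComponentIn (f.base ⁻¹' {f.base x})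
      (g.base (f.base x))} : Set ↥O) ∈ 𝓝 (⟨x, hxO⟩ : ↥O) := by
    apply mem_nhds_of_forall_irreducible
    intro Z hZ hZirr hxZ
    obtain ⟨ζ', hζ'⟩ := QuasiSober.sober hZirr hZ
    have hζ'x : ζ' ⤳ (⟨x, hxO⟩ : ↥O) := by
      rw [specializes_iff_mem_closure, hζ'.def]
      exact hxZ
    have hζx : (ζ' : X) ⤳ x := hζ'x.map continuous_subtype_val
    have hζE : (ζ' : X) ∈ connectedComponentIn (f.base ⁻¹' {f.base (ζ' : X)})
        (g.base (f.base (ζ' : X))) :=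
      mem_sectionComponents_of_specializes f g hg hirr hred huo x ζ' hx hζx
    have hCirr : IsIrreducible (connectedComponentIn (f.base ⁻¹' {f.base (ζ' : X)})
        (g.base (f.base (ζ' : X)))) :=
      isIrreducible_of_geom f (f.base (ζ' : X)) _ (connectedComponentIn_subset _ _)
        (hirr (f.base (ζ' : X)))
    obtain ⟨ξ, hξC, hCeq⟩ := exists_generic_of_isClosed_in_fibre f (f.base (ζ' : X)) _
      (connectedComponentIn_subset _ _) hCirr
      (connectedComponentIn_fibre_isClosed f (f.base (ζ' : X)) (g.base (f.base (ζ' : X)))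
        (hfg _))
    have hfξ : f.base ξ = f.base (ζ' : X) :=
      connectedComponentIn_subset (f.base ⁻¹' {f.base (ζ' : X)}) _ hξC
    obtain ⟨G, hG, hζG, hGE⟩ := step2_core f g hg ξ (f.base (ζ' : X)) hfξ
      (hirr (f.base (ζ' : X))) (hred (f.base (ζ' : X))) hCeq ζ' hζE
    have hξζ : ξ ⤳ (ζ' : X) := by
      have h2 := hζE
      rw [hCeq] at h2
      exact specializes_iff_mem_closure.mpr h2.1
    refine ⟨Subtype.val ⁻¹' G, hG.preimage continuous_subtype_val, ⟨ζ', hζG, hζ'.mem⟩, ?_⟩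
    rintro t ⟨htG, htZ⟩
    have hζ't : ζ' ⤳ t := by
      rw [specializes_iff_mem_closure, hζ'.def]
      exact htZ
    exact hGE t htG (hξζ.trans (hζ't.map continuous_subtype_val))
  have h2 := hemb.map_nhds_eq ⟨x, hxO⟩
  change Filter.map _ _ = 𝓝 x at h2
  rw [← h2]
  exact h1

end Groth.Agent.Lib.helper9.SecOpen
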