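import Mathlib
import Groth.Agent.Lib.Helper3.AlgClosedTensor

/-!
# Geometric integrality over a domain: reduction to one algebraically closed field (helper9)

`A'` a domain, `D` an `A'`-algebra.
* `flat_of_field`: a field containing `A'` is flat over `A'`.
* `exists_ne_zero_smul_eq_zero`: the kernel of `M → L ⊗[A'] M` is torsion for `L` a flat field.
* `injective_map_of_field_ext`: `Ω ⊗[A'] D → Ω' ⊗[A'] D` is injective for a field extension `Ω ⊆ Ω'`.
* `isDomain_tensor_of_isAlgClosed`: if `L ⊗[A'] D` is a domain for one algebraically closed field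
  `L` algebraic over `A'`, then `Ω ⊗[A'] D` is a domain for every field `Ω` containing `A'`.
-/

set_option autoImplicit false
set_option linter.style.haveILetI false
universe u
open TensorProduct

namespace Groth.Agent.Lib.helper9.GeomInt

theorem flat_of_field (A' : Type u) [CommRing A'] [IsDomain A'] (Ω : Type u) [Field Ω]
    [Algebra A' Ω] (hinj : Function.Injective (algebraMap A' Ω)) : Module.Flat A' Ω := by
  letI : Algebra (FractionRing A') Ω :=
    ((IsFractionRing.lift (K := FractionRing A') (g := algebraMap A' Ω) hinj : FractionRing A' →+* Ω)).toAlgebra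
  haveI : IsScalarTower A' (FractionRing A') Ω := IsScalarTower.of_algebraMap_eq (fun a => by
    change algebraMap A' Ω a = IsFractionRing.lift hinj (algebraMap A' (FractionRing A') a)
    rw [IsFractionRing.lift_algebraMap])
  haveI : Module.Flat A' (FractionRing A') := IsLocalization.flat (FractionRing A') (nonZeroDivisors A')
  exact Module.Flat.trans A' (FractionRing A') Ω

theorem exists_ne_zero_smul_eq_zero {A' : Type u} [CommRing A'] {L : Type u} [Field L]
    [Algebra A' L] [Module.Flat A' L] {M : Type u} [AddCommGroup M] [Module A' M] (b : M)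
    (h : (1 : L) ⊗ₜ[A'] b = 0) : ∃ a : A', a ≠ 0 ∧ a • b = 0 := by
  classical
  have h' : ∑ i : Fin 1, (fun _ => b) i ⊗ₜ[A'] (fun _ => (1 : L)) i = (0 : M ⊗[A'] L) := by
    simp only [Finset.univ_unique, Finset.sum_singleton]
    have := congrArg (TensorProduct.comm A' L M) h
    simpa using this
  have hm : Function.Injective (LinearMap.rTensor L
      (Submodule.span A' (Set.range (fun _ : Fin 1 => b))).subtype) :=
    Module.Flat.rTensor_preserves_injective_linearMap _ (Submodule.injective_subtype _)
  obtain ⟨k, a, y, h1, h2⟩ :=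
    TensorProduct.vanishesTrivially_of_sum_tmul_eq_zero_of_rTensor_injective A' hm h'
  have h1' : (1 : L) = ∑ j, a 0 j • y j := h1 0
  by_contra hcon
  push Not at hcon
  have hall : ∀ j, a 0 j = 0 := by
    intro j
    by_contra hj
    have := h2 j
    simp only [Finset.univ_unique, Finset.sum_singleton] at this
    exact hcon (a 0 j) hj (by simpa using this)
  have : (1 : L) = 0 := by
    rw [h1']
    apply Finset.sum_eq_zero
    intro j _
    have h0 : a 0 j = 0 := hall j
    simp [h0]
  exact one_ne_zero this

theorem injective_map_of_field_ext {A' : Type u} [CommRing A'] (Ω Ω' : Type u) [Field Ω]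
    [Field Ω'] [Algebra A' Ω] [Algebra A' Ω'] [Algebra Ω Ω'] [IsScalarTower A' Ω Ω']
    (D : Type u) [CommRing D] [Algebra A' D] :
    Function.Injective (Algebra.TensorProduct.map (IsScalarTower.toAlgHom A' Ω Ω')
      (AlgHom.id A' D)) := by
  obtain ⟨r, hr⟩ := LinearMap.exists_leftInverse_of_injective (Algebra.linearMap Ω Ω')
    (LinearMap.ker_eq_bot.mpr (algebraMap Ω Ω').injective)
  set r' : Ω' →ₗ[A'] Ω := r.restrictScalars A' with hr'
  have hcomp : ∀ x : Ω ⊗[A'] D, TensorProduct.map r' LinearMap.id
      (Algebra.TensorProduct.map (IsScalarTower.toAlgHom A' Ω Ω') (AlgHom.id A' D) x) = x := by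
    intro x
    induction x using TensorProduct.induction_on with
    | zero => simp
    | tmul ω d =>
      simp only [Algebra.TensorProduct.map_tmul, IsScalarTower.coe_toAlgHom', AlgHom.coe_id, id_eq,
        TensorProduct.map_tmul, LinearMap.id_coe]
      have : r' (algebraMap Ω Ω' ω) = ω := by
        change r (algebraMap Ω Ω' ω) = ω
        have := LinearMap.congr_fun hr ω
        simpa using this
      rw [this]
    | add x y hx hy => rw [map_add, map_add, hx, hy]
  exact Function.LeftInverse.injective hcomp

theorem isDomain_tensor_of_isAlgClosed (A' : Type u) [CommRing A'] [IsDomain A'] (L : Type u)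
    [Field L] [IsAlgClosed L] [Algebra A' L] [Algebra.IsAlgebraic A' L]
    (hL : Function.Injective (algebraMap A' L)) (D : Type u) [CommRing D] [Algebra A' D]
    (hD : IsDomain (L ⊗[A'] D)) (Ω : Type u) [Field Ω] [Algebra A' Ω]
    (hΩ : Function.Injective (algebraMap A' Ω)) : IsDomain (Ω ⊗[A'] D) := by
  classical
  set Ω' := AlgebraicClosure Ω with hΩ'
  haveI : IsScalarTower A' Ω Ω' := inferInstance
  have hΩ'inj : Function.Injective (algebraMap A' Ω') := by
    rw [IsScalarTower.algebraMap_eq A' Ω Ω']
    exact (algebraMap Ω Ω').injective.comp hΩ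
  haveI : Module.IsTorsionFree A' L := by
    rw [← faithfulSMul_iff_algebraMap_injective] at hL
    infer_instance
  haveI : Module.IsTorsionFree A' Ω' := by
    rw [← faithfulSMul_iff_algebraMap_injective] at hΩ'inj
    infer_instance
  let σ : L →ₐ[A'] Ω' := IsAlgClosed.lift
  letI : Algebra L Ω' := σ.toRingHom.toAlgebra
  haveI : IsScalarTower A' L Ω' := IsScalarTower.of_algebraMap_eq (fun a => (σ.commutes a).symm)
  -- `Ω' ⊗[A'] D` is a domain
  set F := FractionRing (L ⊗[A'] D) with hF
  haveI : IsDomain (Ω' ⊗[L] F) := Groth.Agent.Lib.helper3.AlgClosedTensor.isDomain_tensor L Ω' F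
  have hinj1 : Function.Injective (Algebra.TensorProduct.map (AlgHom.id L Ω')
      (IsScalarTower.toAlgHom L (L ⊗[A'] D) F)) := by
    have : Function.Injective (LinearMap.lTensor Ω'
        (IsScalarTower.toAlgHom L (L ⊗[A'] D) F).toLinearMap) :=
      Module.Flat.lTensor_preserves_injective_linearMap _
        (IsFractionRing.injective (L ⊗[A'] D) F)
    exact this
  haveI : IsDomain (Ω' ⊗[L] (L ⊗[A'] D)) :=
    Function.Injective.isDomain (Algebra.TensorProduct.map (AlgHom.id L Ω')
      (IsScalarTower.toAlgHom L (L ⊗[A'] D) F)).toRingHom hinj1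
  haveI : IsDomain (Ω' ⊗[A'] D) :=
    (Algebra.TensorProduct.cancelBaseChange A' L Ω' Ω' D).symm.toMulEquiv.isDomain
  exact Function.Injective.isDomain (Algebra.TensorProduct.map (IsScalarTower.toAlgHom A' Ω Ω')
      (AlgHom.id A' D)).toRingHom (injective_map_of_field_ext Ω Ω' D)

end Groth.Agent.Lib.helper9.GeomInt
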