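import Mathlib
import Groth.Agent.Lib.Helper9.GeomInt1

/-!
# Geometric integrality of the minimal primes after a finite base extension: the core (helper9)

`A₀ → A' → L` with `A'` a domain and `L` a field flat over `A'`, `B` an `A₀`-algebra with
`L ⊗[A₀] B` Noetherian. If every minimal prime of `L ⊗[A₀] B` is generated by elements coming from
`A' ⊗[A₀] B`, then for every minimal prime `𝔮` of `A' ⊗[A₀] B` lying over `0` of `A'`, the ring
`L ⊗[A'] ((A' ⊗[A₀] B) ⧸ 𝔮)` is a domain.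
-/

set_option autoImplicit false
set_option linter.style.haveILetI false
universe u
open TensorProduct

namespace Groth.Agent.Lib.helper9.GeomInt

section Core

variable (A₀ : Type u) [CommRing A₀] (A' : Type u) [CommRing A'] [Algebra A₀ A']
  (L : Type u) [Field L] [Algebra A₀ L] [Algebra A' L] [IsScalarTower A₀ A' L]
  (B : Type u) [CommRing B] [Algebra A₀ B]

/-- The comparison map `A' ⊗[A₀] B → L ⊗[A₀] B`. -/
noncomputable abbrev ιmap : A' ⊗[A₀] B →ₐ[A₀] L ⊗[A₀] B :=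
  Algebra.TensorProduct.map (IsScalarTower.toAlgHom A₀ A' L) (AlgHom.id A₀ B)

theorem cancel_one_tmul (s : A' ⊗[A₀] B) :
    Algebra.TensorProduct.cancelBaseChange A₀ A' L L B ((1 : L) ⊗ₜ[A'] s) = ιmap A₀ A' L B s := by
  induction s using TensorProduct.induction_on with
  | zero => simp
  | tmul a b =>
    rw [Algebra.TensorProduct.cancelBaseChange_tmul, Algebra.TensorProduct.map_tmul,
      Algebra.smul_def, mul_one]
    rfl
  | add x y hx hy => rw [TensorProduct.tmul_add, map_add, map_add, hx, hy]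

theorem isDomain_tensor_quotient_of_gens [IsNoetherianRing (L ⊗[A₀] B)] [Module.Flat A' L]
    (hgen : ∀ Q ∈ minimalPrimes (L ⊗[A₀] B), ∃ G : Set (A' ⊗[A₀] B),
      Ideal.span (ιmap A₀ A' L B '' G) = Q)
    (𝔮 : Ideal (A' ⊗[A₀] B)) (h𝔮 : 𝔮 ∈ minimalPrimes (A' ⊗[A₀] B))
    (h𝔮' : 𝔮.comap (algebraMap A' (A' ⊗[A₀] B)) = ⊥) :
    IsDomain (L ⊗[A'] ((A' ⊗[A₀] B) ⧸ 𝔮)) := by
  classical
  haveI h𝔮p : 𝔮.IsPrime := h𝔮.1.1
  set ι := ιmap A₀ A' L B with hι
  set e := Algebra.TensorProduct.cancelBaseChange A₀ A' L L B with he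
  have hfin : (minimalPrimes (L ⊗[A₀] B)).Finite := minimalPrimes.finite_of_isNoetherianRing _
  -- each minimal prime is extended from its contraction
  have hext : ∀ Q ∈ minimalPrimes (L ⊗[A₀] B), (Q.comap ι).map ι = Q := by
    intro Q hQ
    obtain ⟨G, hG⟩ := hgen Q hQ
    apply le_antisymm Ideal.map_comap_le
    rw [← hG, Ideal.span_le]
    rintro _ ⟨g, hg, rfl⟩
    apply Ideal.mem_map_of_mem
    rw [Ideal.mem_comap]
    exact Ideal.subset_span ⟨g, hg, rfl⟩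
  -- some contraction is contained in `𝔮`
  have hinf : hfin.toFinset.inf (fun Q => Q.comap (ι : A' ⊗[A₀] B →+* L ⊗[A₀] B)) ≤ 𝔮 := by
    intro b hb
    rw [Submodule.mem_finsetInf] at hb
    have h1 : ι b ∈ sInf (minimalPrimes (L ⊗[A₀] B)) := by
      rw [Ideal.mem_sInf]
      intro Q hQ
      exact hb Q (hfin.mem_toFinset.mpr hQ)
    have h2 : sInf (minimalPrimes (L ⊗[A₀] B)) = (⊥ : Ideal (L ⊗[A₀] B)).radical :=
      Ideal.sInf_minimalPrimes
    rw [h2] at h1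
    obtain ⟨n, hn⟩ := h1
    rw [Ideal.mem_bot, ← map_pow] at hn
    have h3 : (1 : L) ⊗ₜ[A'] (b ^ n) = 0 := by
      apply e.injective
      rw [map_zero, he, cancel_one_tmul]
      exact hn
    obtain ⟨a, ha, hab⟩ := exists_ne_zero_smul_eq_zero (b ^ n) h3
    have h4 : algebraMap A' (A' ⊗[A₀] B) a * b ^ n ∈ 𝔮 := by
      rw [← Algebra.smul_def, hab]
      exact 𝔮.zero_mem
    rcases h𝔮p.mem_or_mem h4 with h5 | h5
    · exfalso
      have : a ∈ 𝔮.comap (algebraMap A' (A' ⊗[A₀] B)) := h5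
      rw [h𝔮'] at this
      exact ha this
    · exact h𝔮p.mem_of_pow_mem n h5
  obtain ⟨Q, hQs, hQ𝔮⟩ := (Ideal.IsPrime.inf_le' h𝔮p).mp hinf
  have hQ : Q ∈ minimalPrimes (L ⊗[A₀] B) := hfin.mem_toFinset.mp hQs
  haveI hQp : Q.IsPrime := hQ.1.1
  have hQeq : Q.comap ι = 𝔮 := by
    apply le_antisymm hQ𝔮
    exact h𝔮.2 ⟨Ideal.comap_isPrime _ _, bot_le⟩ hQ𝔮
  have hmap : 𝔮.map ι = Q := by rw [← hQeq]; exact hext Q hQ
  -- the quotient
  set π := Algebra.TensorProduct.map (AlgHom.id A' L) (Ideal.Quotient.mkₐ A' 𝔮) with hπ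
  have hπs : Function.Surjective π :=
    Algebra.TensorProduct.map_surjective _ _ Function.surjective_id
      (Ideal.Quotient.mkₐ_surjective A' 𝔮)
  have hkq : RingHom.ker (Ideal.Quotient.mkₐ A' 𝔮) = 𝔮 := Ideal.Quotient.mkₐ_ker A' 𝔮
  have hπk : RingHom.ker π = 𝔮.map
      (Algebra.TensorProduct.includeRight : A' ⊗[A₀] B →ₐ[A'] L ⊗[A'] (A' ⊗[A₀] B)) := by
    rw [hπ, Algebra.TensorProduct.lTensor_ker _ (Ideal.Quotient.mkₐ_surjective A' 𝔮), hkq]
  have hker : RingHom.ker π = Q.comap (e : L ⊗[A'] (A' ⊗[A₀] B) →+* L ⊗[A₀] B) := by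
    rw [hπk, ← hmap]
    have h1 : (𝔮.map (Algebra.TensorProduct.includeRight :
        A' ⊗[A₀] B →ₐ[A'] L ⊗[A'] (A' ⊗[A₀] B))).map
          (e : L ⊗[A'] (A' ⊗[A₀] B) →+* L ⊗[A₀] B) = 𝔮.map ι := by
      have key : ∀ s : A' ⊗[A₀] B, e ((Algebra.TensorProduct.includeRight :
          A' ⊗[A₀] B →ₐ[A'] L ⊗[A'] (A' ⊗[A₀] B)) s) = ι s := by
        intro s
        change e ((1 : L) ⊗ₜ[A'] s) = ι s
        rw [he, cancel_one_tmul]
      apply le_antisymm
      · rw [Ideal.map_le_iff_le_comap, Ideal.map_le_iff_le_comap]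
        intro s hs
        rw [Ideal.mem_comap, Ideal.mem_comap]
        change e ((Algebra.TensorProduct.includeRight :
          A' ⊗[A₀] B →ₐ[A'] L ⊗[A'] (A' ⊗[A₀] B)) s) ∈ _
        rw [key]
        exact Ideal.mem_map_of_mem _ hs
      · rw [Ideal.map_le_iff_le_comap]
        intro s hs
        rw [Ideal.mem_comap, ← key]
        exact Ideal.mem_map_of_mem _ (Ideal.mem_map_of_mem _ hs)
    rw [← h1]
    exact (Ideal.comap_map_of_bijective _ e.bijective).symm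
  haveI : (RingHom.ker π).IsPrime := by
    rw [hker]
    exact Ideal.comap_isPrime _ _
  haveI : IsDomain ((L ⊗[A'] (A' ⊗[A₀] B)) ⧸ RingHom.ker π.toRingHom) := by
    change IsDomain ((L ⊗[A'] (A' ⊗[A₀] B)) ⧸ RingHom.ker π)
    exact Ideal.Quotient.isDomain _
  exact (RingHom.quotientKerEquivOfSurjective (f := π.toRingHom) hπs).symm.toMulEquiv.isDomain

end Core

end Groth.Agent.Lib.helper9.GeomInt
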