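import Mathlib
import Groth.Agent.Lib.Helper9.GeomInt2

/-!
# A finite extension of the base making the minimal primes geometrically integral (helper9)

`A₀` a ring, `p₀` a prime, `B j` a finite family of finite type `A₀`-algebras. There is a domain `A'`,
finite over `A₀` with `ker (A₀ → A') = p₀`, such that for every `j` and every minimal prime `𝔮` of
`A' ⊗[A₀] B j` lying over `0` of `A'`, the `A'`-algebra `(A' ⊗[A₀] B j) ⧸ 𝔮` has geometrically integral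
generic fibre: `Ω ⊗[A'] ((A' ⊗[A₀] B j) ⧸ 𝔮)` is a domain for every field `Ω ⊇ A'`.
-/

set_option autoImplicit false
set_option linter.style.haveILetI false
universe u
open TensorProduct

namespace Groth.Agent.Lib.helper9.GeomInt

section Exist

variable (A₀ : Type u) [CommRing A₀] (p₀ : Ideal A₀) [p₀.IsPrime]

/-- An algebraic closure of the residue field at `p₀`. -/
abbrev Lcl := AlgebraicClosure (FractionRing (A₀ ⧸ p₀))

instance Lcl_isAlgebraic : Algebra.IsAlgebraic (A₀ ⧸ p₀) (Lcl A₀ p₀) :=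
  IsFractionRing.comap_isAlgebraic_iff.mpr
    (inferInstance : Algebra.IsAlgebraic (FractionRing (A₀ ⧸ p₀)) (Lcl A₀ p₀))

theorem Lcl_injective : Function.Injective (algebraMap (A₀ ⧸ p₀) (Lcl A₀ p₀)) := by
  rw [IsScalarTower.algebraMap_eq (A₀ ⧸ p₀) (FractionRing (A₀ ⧸ p₀)) (Lcl A₀ p₀)]
  exact (algebraMap (FractionRing (A₀ ⧸ p₀)) (Lcl A₀ p₀)).injective.comp
    (IsFractionRing.injective _ _)

theorem Lcl_ker : RingHom.ker (algebraMap A₀ (Lcl A₀ p₀)) = p₀ := by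
  ext a
  rw [RingHom.mem_ker, IsScalarTower.algebraMap_apply A₀ (A₀ ⧸ p₀) (Lcl A₀ p₀),
    map_eq_zero_iff _ (Lcl_injective A₀ p₀), Ideal.Quotient.algebraMap_eq,
    Ideal.Quotient.eq_zero_iff_mem]

end Exist

section Coeffs

variable {A₀ : Type u} [CommRing A₀] {L : Type u} [Field L] [Algebra A₀ L]

theorem exists_coeffs (B : Type u) [CommRing B] [Algebra A₀ B] (t : L ⊗[A₀] B) :
    ∃ C : Finset L, ∀ (d : A₀) (S : Subalgebra A₀ L), (∀ c ∈ C, d • c ∈ S) →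
      (algebraMap A₀ L d ⊗ₜ[A₀] (1 : B)) * t ∈ (ιmap A₀ S L B).range := by
  classical
  obtain ⟨S', hS'⟩ := TensorProduct.exists_finset t
  refine ⟨S'.image Prod.fst, fun d S hd => ?_⟩
  rw [hS', Finset.mul_sum]
  apply Subalgebra.sum_mem
  intro i hi
  have h1 : d • i.1 ∈ S := hd _ (Finset.mem_image_of_mem _ hi)
  refine ⟨(⟨d • i.1, h1⟩ : S) ⊗ₜ[A₀] i.2, ?_⟩
  rw [Algebra.TensorProduct.tmul_mul_tmul, one_mul]
  change (Algebra.TensorProduct.map (IsScalarTower.toAlgHom A₀ S L) (AlgHom.id A₀ B))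
    ((⟨d • i.1, h1⟩ : S) ⊗ₜ[A₀] i.2) = _
  rw [Algebra.TensorProduct.map_tmul, ← Algebra.smul_def]
  rfl

theorem exists_coeffs_minimalPrimes (B : Type u) [CommRing B] [Algebra A₀ B]
    [IsNoetherianRing (L ⊗[A₀] B)] :
    ∃ C : Finset L, ∀ (d : A₀) (S : Subalgebra A₀ L), (∀ c ∈ C, d • c ∈ S) →
      algebraMap A₀ L d ≠ 0 → ∀ Q ∈ minimalPrimes (L ⊗[A₀] B),
        ∃ G : Set (S ⊗[A₀] B), Ideal.span (ιmap A₀ S L B '' G) = Q := by
  classical
  have hfin : (minimalPrimes (L ⊗[A₀] B)).Finite := minimalPrimes.finite_of_isNoetherianRing _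
  have hfg : ∀ Q : Ideal (L ⊗[A₀] B), ∃ T : Finset (L ⊗[A₀] B), Ideal.span (T : Set _) = Q :=
    fun Q => (IsNoetherian.noetherian Q)
  choose T hT using hfg
  choose Cc hCc using fun t : L ⊗[A₀] B => exists_coeffs B t
  refine ⟨hfin.toFinset.biUnion (fun Q => (T Q).biUnion Cc), fun d S hd hd0 Q hQ => ?_⟩
  refine ⟨(ιmap A₀ S L B) ⁻¹' Q, ?_⟩
  apply le_antisymm
  · rw [Ideal.span_le]
    rintro _ ⟨s, hs, rfl⟩
    exact hs
  · have key : ∀ t ∈ (T Q : Set (L ⊗[A₀] B)),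
        t ∈ Ideal.span (ιmap A₀ S L B '' ((ιmap A₀ S L B) ⁻¹' Q)) := ?_
    · have h3 := Ideal.span_le.mpr key
      rwa [hT Q] at h3
    intro t ht
    have hu : IsUnit (algebraMap A₀ L d ⊗ₜ[A₀] (1 : B)) := by
      have : algebraMap A₀ L d ⊗ₜ[A₀] (1 : B) =
          algebraMap L (L ⊗[A₀] B) (algebraMap A₀ L d) := by
        rw [Algebra.TensorProduct.algebraMap_apply]
        rfl
      rw [this]
      exact (IsUnit.mk0 _ hd0).map _
    have h1 : (algebraMap A₀ L d ⊗ₜ[A₀] (1 : B)) * t ∈ (ιmap A₀ S L B).range := by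
      apply hCc t d S
      intro c hc
      apply hd
      rw [Finset.mem_biUnion]
      refine ⟨Q, hfin.mem_toFinset.mpr hQ, ?_⟩
      rw [Finset.mem_biUnion]
      exact ⟨t, ht, hc⟩
    obtain ⟨s, hs⟩ := h1
    have h2 : (algebraMap A₀ L d ⊗ₜ[A₀] (1 : B)) * t ∈
        Ideal.span (ιmap A₀ S L B '' ((ιmap A₀ S L B) ⁻¹' Q)) := by
      apply Ideal.subset_span
      refine ⟨s, ?_, hs⟩
      rw [Set.mem_preimage]
      have hs' : (ιmap A₀ S L B) s = (algebraMap A₀ L d ⊗ₜ[A₀] (1 : B)) * t := hs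
      rw [hs']
      apply Ideal.mul_mem_left
      rw [← hT Q]
      exact Ideal.subset_span ht
    exact (Ideal.unit_mul_mem_iff_mem _ hu).mp h2

end Coeffs

section Main

variable (A₀ : Type u) [CommRing A₀] (p₀ : Ideal A₀) [p₀.IsPrime]

theorem isAlgebraic_subalgebra_Lcl (S : Subalgebra A₀ (Lcl A₀ p₀)) :
    Algebra.IsAlgebraic S (Lcl A₀ p₀) := by
  constructor
  intro z
  obtain ⟨y, hy0, hy⟩ :=
    (Algebra.IsAlgebraic.isAlgebraic (R := A₀ ⧸ p₀) z).exists_integral_multiple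
  obtain ⟨e, rfl⟩ := Ideal.Quotient.mk_surjective y
  haveI : Algebra.IsIntegral A₀ (A₀ ⧸ p₀) :=
    Algebra.isIntegral_of_surjective Ideal.Quotient.mk_surjective
  have h1 : IsIntegral A₀ (Ideal.Quotient.mk p₀ e • z) := isIntegral_trans _ hy
  have h2 : Ideal.Quotient.mk p₀ e • z = (algebraMap A₀ S e) • z := by
    rw [algebraMap_smul]
    exact algebraMap_smul (A₀ ⧸ p₀) e z
  rw [h2] at h1
  have h3 : IsIntegral S ((algebraMap A₀ S e) • z) := h1.tower_top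
  refine IsAlgebraic.of_smul_isIntegral ?_ h3
  rw [isNilpotent_iff_eq_zero]
  intro h0
  apply hy0
  have h4 : e ∈ RingHom.ker (algebraMap A₀ (Lcl A₀ p₀)) := by
    rw [RingHom.mem_ker, IsScalarTower.algebraMap_apply A₀ S (Lcl A₀ p₀), h0, map_zero]
  rw [Lcl_ker A₀ p₀] at h4
  exact Ideal.Quotient.eq_zero_iff_mem.mpr h4

variable {ι : Type*} [Finite ι] (B : ι → Type u) [∀ j, CommRing (B j)] [∀ j, Algebra A₀ (B j)]
  [∀ j, Algebra.FiniteType A₀ (B j)]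

theorem exists_finite_ext :
    ∃ (A' : Type u) (_ : CommRing A') (_ : IsDomain A') (_ : Algebra A₀ A'),
      Module.Finite A₀ A' ∧ RingHom.ker (algebraMap A₀ A') = p₀ ∧
      ∀ j, ∀ 𝔮 ∈ minimalPrimes (A' ⊗[A₀] B j),
        𝔮.comap (algebraMap A' (A' ⊗[A₀] B j)) = ⊥ →
        ∀ (Ω : Type u) [Field Ω] [Algebra A' Ω], Function.Injective (algebraMap A' Ω) →
          IsDomain (Ω ⊗[A'] ((A' ⊗[A₀] B j) ⧸ 𝔮)) := by
  classical
  haveI : Fintype ι := Fintype.ofFinite ι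
  haveI : ∀ j, IsNoetherianRing (Lcl A₀ p₀ ⊗[A₀] B j) :=
    fun j => Algebra.FiniteType.isNoetherianRing (Lcl A₀ p₀) _
  choose C hC using fun j => exists_coeffs_minimalPrimes (A₀ := A₀) (L := Lcl A₀ p₀) (B j)
  set Call : Finset (Lcl A₀ p₀) := Finset.univ.biUnion C with hCall
  obtain ⟨y, hy0, hy⟩ := Algebra.IsAlgebraic.exists_integral_multiples (A₀ ⧸ p₀) Call
  obtain ⟨d, rfl⟩ := Ideal.Quotient.mk_surjective y
  have hdsmul : ∀ z : Lcl A₀ p₀, (Ideal.Quotient.mk p₀ d) • z = d • z :=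
    fun z => algebraMap_smul (A₀ ⧸ p₀) d z
  set S : Subalgebra A₀ (Lcl A₀ p₀) :=
    Algebra.adjoin A₀ ((fun c => d • c) '' (Call : Set (Lcl A₀ p₀))) with hS
  haveI : Algebra.IsIntegral A₀ (A₀ ⧸ p₀) :=
    Algebra.isIntegral_of_surjective Ideal.Quotient.mk_surjective
  have hint : ∀ x ∈ (fun c => d • c) '' (Call : Set (Lcl A₀ p₀)), IsIntegral A₀ x := by
    rintro _ ⟨c, hc, rfl⟩
    have h1 : IsIntegral (A₀ ⧸ p₀) (d • c) := by
      rw [← hdsmul]
      exact hy c hc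
    exact isIntegral_trans _ h1
  haveI hfinS : Module.Finite A₀ S :=
    Algebra.finite_adjoin_of_finite_of_isIntegral ((Finset.finite_toSet _).image _) hint
  have hd0 : algebraMap A₀ (Lcl A₀ p₀) d ≠ 0 := by
    intro h
    have h1 : d ∈ RingHom.ker (algebraMap A₀ (Lcl A₀ p₀)) := h
    rw [Lcl_ker] at h1
    exact hy0 (Ideal.Quotient.eq_zero_iff_mem.mpr h1)
  have hSinj : Function.Injective (algebraMap S (Lcl A₀ p₀)) := Subtype.val_injective
  haveI : Module.Flat S (Lcl A₀ p₀) := flat_of_field S (Lcl A₀ p₀) hSinj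
  haveI : Algebra.IsAlgebraic S (Lcl A₀ p₀) := isAlgebraic_subalgebra_Lcl A₀ p₀ S
  refine ⟨S, inferInstance, inferInstance, inferInstance, hfinS, ?_, ?_⟩
  · ext a
    have h1 : a ∈ RingHom.ker (algebraMap A₀ (Lcl A₀ p₀)) ↔ a ∈ p₀ := by rw [Lcl_ker A₀ p₀]
    rw [RingHom.mem_ker, ← h1, RingHom.mem_ker,
      IsScalarTower.algebraMap_apply A₀ S (Lcl A₀ p₀), map_eq_zero_iff _ hSinj]
  · intro j 𝔮 h𝔮 h𝔮' Ω _ _ hΩ
    have hgen := hC j d S (fun c hc => Algebra.subset_adjoin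
      ⟨c, Finset.mem_biUnion.mpr ⟨j, Finset.mem_univ _, hc⟩, rfl⟩) hd0
    have hD := isDomain_tensor_quotient_of_gens A₀ S (Lcl A₀ p₀) (B j) hgen 𝔮 h𝔮 h𝔮'
    exact isDomain_tensor_of_isAlgClosed S (Lcl A₀ p₀) hSinj _ hD Ω hΩ

end Main

end Groth.Agent.Lib.helper9.GeomInt
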