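import Mathlib
import Groth.Agent.Lib.Helper9.GenIrr6
import Groth.Agent.Lib.Helper9.FinBC2

/-!
# Spreading out connectedness: algebraic lemmas (helper9)

* `exists_ne_zero_isIrreducible_zeroLocus_fibre`: `A` a Noetherian domain, `B` a finite type
  `A`-algebra, `𝔮` a prime of `B` over `0` with `B ⧸ 𝔮` geometrically integral at the generic point.
  Then the fibres of `V(𝔮)` over a nonempty open of `Spec A` are irreducible.
* `exists_ne_zero_forall_exists_mem`: a constructible subset of `Spec B` containing a point over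
  the generic point of `Spec A` maps onto a nonempty open of `Spec A`.
-/

set_option autoImplicit false
set_option linter.style.haveILetI false
universe u
open TensorProduct PrimeSpectrum Topology

namespace Groth.Agent.Lib.helper9.SecSpread

section Alg

variable {A B : Type u} [CommRing A] [IsDomain A] [IsNoetherianRing A] [CommRing B]
  [Algebra A B] [Algebra.FiniteType A B]

omit [IsDomain A] [IsNoetherianRing A] [Algebra.FiniteType A B] in
theorem image_comap_mk_fibre (𝔮 : Ideal B) (p : PrimeSpectrum A) :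
    comap (Ideal.Quotient.mk 𝔮) '' (comap (algebraMap A (B ⧸ 𝔮)) ⁻¹' {p}) =
      zeroLocus (𝔮 : Set B) ∩ comap (algebraMap A B) ⁻¹' {p} := by
  have hmkqs : Function.Surjective (Ideal.Quotient.mk 𝔮) := Ideal.Quotient.mk_surjective
  have hcomm : algebraMap A (B ⧸ 𝔮) = (Ideal.Quotient.mk 𝔮).comp (algebraMap A B) := rfl
  ext Q
  constructor
  · rintro ⟨z, hz, rfl⟩
    refine ⟨?_, ?_⟩
    · rw [mem_zeroLocus]
      intro b hb
      change Ideal.Quotient.mk 𝔮 b ∈ z.asIdeal
      rw [Ideal.Quotient.eq_zero_iff_mem.mpr hb]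
      exact z.asIdeal.zero_mem
    · rw [Set.mem_preimage, Set.mem_singleton_iff] at hz ⊢
      rw [← PrimeSpectrum.comap_comp_apply, ← hcomm]
      exact hz
  · rintro ⟨hQ1, hQ2⟩
    have hQr : Q ∈ Set.range (comap (Ideal.Quotient.mk 𝔮)) := by
      rw [range_comap_of_surjective _ _ hmkqs, Ideal.mk_ker]
      exact hQ1
    obtain ⟨z, rfl⟩ := hQr
    refine ⟨z, ?_, rfl⟩
    rw [Set.mem_preimage, Set.mem_singleton_iff] at hQ2 ⊢
    rw [hcomm, PrimeSpectrum.comap_comp_apply]
    exact hQ2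

theorem exists_ne_zero_isIrreducible_zeroLocus_fibre (𝔮 : Ideal B) [𝔮.IsPrime]
    (h𝔮 : 𝔮.comap (algebraMap A B) = ⊥)
    (hreg : ∀ (Ω : Type u) [Field Ω] [Algebra A Ω], Function.Injective (algebraMap A Ω) →
      IsDomain (Ω ⊗[A] (B ⧸ 𝔮))) :
    ∃ a : A, a ≠ 0 ∧ ∀ p : PrimeSpectrum A, a ∉ p.asIdeal →
      IsIrreducible (zeroLocus (𝔮 : Set B) ∩ comap (algebraMap A B) ⁻¹' {p}) := by
  have hinj : Function.Injective (algebraMap A (B ⧸ 𝔮)) := by
    rw [injective_iff_map_eq_zero]
    intro a ha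
    have h1 : a ∈ 𝔮.comap (algebraMap A B) := by
      rw [Ideal.mem_comap]
      exact Ideal.Quotient.eq_zero_iff_mem.mp ha
    rw [h𝔮] at h1
    exact h1
  obtain ⟨a, ha, hirr⟩ := Groth.Agent.Lib.helper9.GenIrr.domain_main (A := A) (B := B ⧸ 𝔮) hinj hreg
  refine ⟨a, ha, fun p hp => ?_⟩
  have h1 := (hirr p hp).image (comap (Ideal.Quotient.mk 𝔮)) (continuous_comap _).continuousOn
  rw [image_comap_mk_fibre] at h1
  exact h1

theorem exists_ne_zero_forall_exists_mem (E : Set (PrimeSpectrum B)) (hE : IsConstructible E)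
    (Q : PrimeSpectrum B) (hQE : Q ∈ E) (hQ : Q.asIdeal.comap (algebraMap A B) = ⊥) :
    ∃ a : A, a ≠ 0 ∧ ∀ p : PrimeSpectrum A, a ∉ p.asIdeal →
      ∃ Q' ∈ E, comap (algebraMap A B) Q' = p := by
  have hfp : (algebraMap A B).FinitePresentation :=
    RingHom.FinitePresentation.of_finiteType.mp (RingHom.finiteType_algebraMap.mpr inferInstance)
  have h1 : IsConstructible (comap (algebraMap A B) '' E) :=
    PrimeSpectrum.isConstructible_comap_image hfp hE
  have h2 : IsConstructible (comap (algebraMap A B) '' E)ᶜ := h1.compl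
  obtain ⟨a, ha, hmem⟩ := Groth.Agent.Lib.helper9.FinBC.exists_ne_zero_of_isConstructible _ h2 (by
    intro P hP hbot
    apply hP
    refine ⟨Q, hQE, ?_⟩
    apply PrimeSpectrum.ext
    rw [hbot]
    exact hQ)
  refine ⟨a, ha, fun p hp => ?_⟩
  by_contra hcon
  apply hp
  apply hmem p
  rintro ⟨Q', hQ'E, hQ'⟩
  exact hcon ⟨Q', hQ'E, hQ'⟩

end Alg

end Groth.Agent.Lib.helper9.SecSpread
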