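import Mathlib
import Groth.Prelude.Def_MoreMor
import Groth.Agent.Lib.Helper9.SecSpread1

/-!
# Spreading out connectedness over an integral Noetherian affine base (helper9)

`φ : X' ⟶ Spec A'` with `A'` a Noetherian domain, `g'` a section, `X'` covered by affine charts
`Spec B'_j` of finite type over `A'` whose generic-fibre components are geometrically integral.
Then for every point `ζ'` of the generic fibre lying in `X'⁰` there is an open `G' ∋ ζ'` with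
`G' ∩ closure {ζ'} ⊆ X'⁰`.
-/

set_option autoImplicit false
set_option linter.style.haveILetI false
set_option backward.isDefEq.respectTransparency false
universe u
open CategoryTheory AlgebraicGeometry CategoryTheory.Limits TensorProduct Topology TopologicalSpace

namespace Groth.Agent.Lib.helper9.SecSpread

section UT

variable {A' : Type u} [CommRing A'] [IsDomain A'] [IsNoetherianRing A'] {X' : Scheme.{u}}
  (φ : X' ⟶ Spec (CommRingCat.of A'))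
  {J : Type*} (B' : J → Type u) [∀ j, CommRing (B' j)] [∀ j, Algebra A' (B' j)]
  [∀ j, Algebra.FiniteType A' (B' j)] (c : ∀ j, Spec (CommRingCat.of (B' j)) ⟶ X')
  [∀ j, IsOpenImmersion (c j)]
  (hc : ∀ j, c j ≫ φ = Spec.map (CommRingCat.ofHom (algebraMap A' (B' j))))

/-- The relation: near the generic point, the closures of `a` and `b` meet each fibre in
points of one and the same connected subset of the fibre. -/
def Conn (a b : X') : Prop :=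
  ∃ s : A', s ≠ 0 ∧ ∃ Ga Gb : Set X', IsOpen Ga ∧ IsOpen Gb ∧ a ∈ Ga ∧ b ∈ Gb ∧
    ∀ y' : Spec (CommRingCat.of A'), s ∉ y'.asIdeal →
      ∀ za ∈ Ga, a ⤳ za → φ za = y' → ∀ zb ∈ Gb, b ⤳ zb → φ zb = y' →
        ∃ T : Set X', _root_.IsPreconnected T ∧ T ⊆ φ ⁻¹' {y'} ∧ za ∈ T ∧ zb ∈ T

omit [IsDomain A'] [IsNoetherianRing A'] in
theorem Conn.symm {a b : X'} (h : Conn φ a b) : Conn φ b a := by
  obtain ⟨s, hs, Ga, Gb, hGa, hGb, ha, hb, H⟩ := h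
  refine ⟨s, hs, Gb, Ga, hGb, hGa, hb, ha, fun y' hy' zb hzb hbz hφb za hza haz hφa => ?_⟩
  obtain ⟨T, hT, hTs, h1, h2⟩ := H y' hy' za hza haz hφa zb hzb hbz hφb
  exact ⟨T, hT, hTs, h2, h1⟩

include hc in
omit [IsDomain A'] [IsNoetherianRing A'] [∀ j, Algebra.FiniteType A' (B' j)]
  [∀ j, IsOpenImmersion (c j)] in
theorem phi_chart (j : J) (Q : Spec (CommRingCat.of (B' j))) :
    φ (c j Q) = PrimeSpectrum.comap (algebraMap A' (B' j)) Q := by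
  have h1 : (c j ≫ φ) Q = (Spec.map (CommRingCat.ofHom (algebraMap A' (B' j)))) Q := by
    rw [hc j]
  rw [Scheme.Hom.comp_apply] at h1
  exact h1

omit [IsDomain A'] [IsNoetherianRing A'] [∀ j, Algebra.FiniteType A' (B' j)] in
theorem specializes_chart (j : J) (Q₁ Q₂ : Spec (CommRingCat.of (B' j))) :
    c j Q₁ ⤳ c j Q₂ ↔ Q₁.asIdeal ≤ Q₂.asIdeal := by
  rw [(c j).isOpenEmbedding.isInducing.specializes_iff]
  exact (PrimeSpectrum.le_iff_specializes Q₁ Q₂).symm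

include hc in
/-- The local step. -/
theorem conn_local
    (GI : ∀ j, ∀ 𝔮 ∈ minimalPrimes (B' j), 𝔮.comap (algebraMap A' (B' j)) = ⊥ →
      ∀ (Ω : Type u) [Field Ω] [Algebra A' Ω], Function.Injective (algebraMap A' Ω) →
        IsDomain (Ω ⊗[A'] (B' j ⧸ 𝔮)))
    (j : J) (Qa : Spec (CommRingCat.of (B' j))) :
    ∃ N : Set X', IsOpen N ∧ c j Qa ∈ N ∧ ∀ b ∈ N,
      (φ b).asIdeal = ⊥ → Conn φ (c j Qa) b := by
  classical
  haveI : IsNoetherianRing (B' j) := Algebra.FiniteType.isNoetherianRing A' (B' j)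
  have hfin : (minimalPrimes (B' j)).Finite := minimalPrimes.finite_of_isNoetherianRing _
  set M : Set (Ideal (B' j)) := {𝔮 ∈ minimalPrimes (B' j) | ¬ 𝔮 ≤ Qa.asIdeal} with hM
  have hMfin : M.Finite := hfin.subset (fun 𝔮 h => h.1)
  set F : Set (PrimeSpectrum (B' j)) := ⋃ 𝔮 ∈ M, PrimeSpectrum.zeroLocus (𝔮 : Set (B' j)) with hF
  have hFc : IsClosed F := hMfin.isClosed_biUnion (fun 𝔮 _ => PrimeSpectrum.isClosed_zeroLocus _)
  refine ⟨c j '' Fᶜ, (c j).isOpenEmbedding.isOpenMap _ hFc.isOpen_compl, ⟨Qa, ?_, rfl⟩, ?_⟩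
  · intro hQa
    rw [hF, Set.mem_iUnion₂] at hQa
    obtain ⟨𝔮, h𝔮M, h𝔮⟩ := hQa
    rw [PrimeSpectrum.mem_zeroLocus] at h𝔮
    exact h𝔮M.2 h𝔮
  · rintro _ ⟨Qb, hQb, rfl⟩ hφb
    rw [phi_chart φ B' c hc] at hφb
    obtain ⟨𝔮, h𝔮min, h𝔮b⟩ := Ideal.exists_minimalPrimes_le (bot_le : ⊥ ≤ Qb.asIdeal)
    have h𝔮min' : 𝔮 ∈ minimalPrimes (B' j) := h𝔮min
    haveI : 𝔮.IsPrime := h𝔮min.1.1
    have h𝔮a : 𝔮 ≤ Qa.asIdeal := by
      by_contra hcon
      apply hQb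
      rw [hF, Set.mem_iUnion₂]
      refine ⟨𝔮, ⟨h𝔮min', hcon⟩, ?_⟩
      rw [PrimeSpectrum.mem_zeroLocus]
      exact h𝔮b
    have h𝔮bot : 𝔮.comap (algebraMap A' (B' j)) = ⊥ := by
      rw [eq_bot_iff]
      have h1 : (PrimeSpectrum.comap (algebraMap A' (B' j)) Qb).asIdeal =
          Qb.asIdeal.comap (algebraMap A' (B' j)) := rfl
      rw [← hφb, h1]
      exact Ideal.comap_mono h𝔮b
    obtain ⟨s, hs, hirr⟩ := exists_ne_zero_isIrreducible_zeroLocus_fibre 𝔮 h𝔮bot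
      (GI j 𝔮 h𝔮min' h𝔮bot)
    refine ⟨s, hs, Set.range (c j), Set.range (c j), (c j).isOpenEmbedding.isOpen_range,
      (c j).isOpenEmbedding.isOpen_range, ⟨Qa, rfl⟩, ⟨Qb, rfl⟩, ?_⟩
    rintro y' hy' _ ⟨Qz, rfl⟩ haz hφa _ ⟨Qw, rfl⟩ hbw hφb'
    rw [specializes_chart] at haz hbw
    rw [phi_chart φ B' c hc] at hφa hφb'
    refine ⟨c j '' (PrimeSpectrum.zeroLocus (𝔮 : Set (B' j)) ∩
      PrimeSpectrum.comap (algebraMap A' (B' j)) ⁻¹' {y'}),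
      (hirr y' hy').2.isPreconnected.image _ (c j).continuous.continuousOn, ?_, ?_, ?_⟩
    · rintro _ ⟨Q, ⟨-, hQ⟩, rfl⟩
      rw [Set.mem_preimage, Set.mem_singleton_iff, phi_chart φ B' c hc]
      exact hQ
    · refine ⟨Qz, ⟨?_, hφa⟩, rfl⟩
      rw [PrimeSpectrum.mem_zeroLocus]
      exact h𝔮a.trans haz
    · refine ⟨Qw, ⟨?_, hφb'⟩, rfl⟩
      rw [PrimeSpectrum.mem_zeroLocus]
      exact h𝔮b.trans hbw

include hc in
/-- The Chevalley step. -/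
theorem conn_exists (j : J) (Qb : Spec (CommRingCat.of (B' j)))
    (hQb : (φ (c j Qb)).asIdeal = ⊥) (G : Set X') (hG : IsOpen G) (hbG : c j Qb ∈ G) :
    ∃ s : A', s ≠ 0 ∧ ∀ y' : Spec (CommRingCat.of A'), s ∉ y'.asIdeal →
      ∃ z ∈ G, c j Qb ⤳ z ∧ φ z = y' := by
  haveI : IsNoetherianRing (B' j) := Algebra.FiniteType.isNoetherianRing A' (B' j)
  rw [phi_chart φ B' c hc] at hQb
  set E : Set (PrimeSpectrum (B' j)) :=
    (c j) ⁻¹' G ∩ PrimeSpectrum.zeroLocus (Qb.asIdeal : Set (B' j)) with hE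
  have hE1 : IsConstructible ((c j) ⁻¹' G : Set (PrimeSpectrum (B' j))) :=
    (NoetherianSpace.isCompact _).isConstructible (hG.preimage (c j).continuous)
  have hE2 : IsConstructible (PrimeSpectrum.zeroLocus (Qb.asIdeal : Set (B' j))) := by
    rw [← isConstructible_compl]
    exact (NoetherianSpace.isCompact _).isConstructible
      (PrimeSpectrum.isClosed_zeroLocus _).isOpen_compl
  obtain ⟨s, hs, H⟩ := exists_ne_zero_forall_exists_mem (A := A') E (hE1.inter hE2) Qb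
    ⟨hbG, by rw [PrimeSpectrum.mem_zeroLocus]⟩ hQb
  refine ⟨s, hs, fun y' hy' => ?_⟩
  obtain ⟨Q', ⟨hQ'G, hQ'z⟩, hQ'⟩ := H y' hy'
  refine ⟨c j Q', hQ'G, ?_, ?_⟩
  · rw [specializes_chart]
    rw [PrimeSpectrum.mem_zeroLocus] at hQ'z
    exact hQ'z
  · rw [phi_chart φ B' c hc]
    exact hQ'

include hc in
theorem Conn.trans (hcov : ∀ x : X', ∃ j, x ∈ Set.range (c j)) {a b d : X'}
    (hb : (φ b).asIdeal = ⊥) (h₁ : Conn φ a b) (h₂ : Conn φ b d) : Conn φ a d := by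
  obtain ⟨s₁, hs₁, Ga, Gb, hGa, hGb, ha, hbGb, H₁⟩ := h₁
  obtain ⟨s₂, hs₂, Gb', Gd, hGb', hGd, hbGb', hd, H₂⟩ := h₂
  obtain ⟨j, Qb, rfl⟩ := hcov b
  obtain ⟨s₃, hs₃, H₃⟩ := conn_exists φ B' c hc j Qb hb (Gb ∩ Gb') (hGb.inter hGb')
    ⟨hbGb, hbGb'⟩
  refine ⟨s₁ * s₂ * s₃, mul_ne_zero (mul_ne_zero hs₁ hs₂) hs₃, Ga, Gd, hGa, hGd, ha, hd, ?_⟩
  intro y' hy' za hza haz hφa zd hzd hdz hφd
  have hy₃ : s₃ ∉ y'.asIdeal := fun h => hy' (Ideal.mul_mem_left _ _ h)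
  have hy₁₂ : s₁ * s₂ ∉ y'.asIdeal := fun h => hy' (Ideal.mul_mem_right _ _ h)
  have hy₁ : s₁ ∉ y'.asIdeal := fun h => hy₁₂ (Ideal.mul_mem_right _ _ h)
  have hy₂ : s₂ ∉ y'.asIdeal := fun h => hy₁₂ (Ideal.mul_mem_left _ _ h)
  obtain ⟨zb, ⟨hzb, hzb'⟩, hbz, hφb⟩ := H₃ y' hy₃
  obtain ⟨T₁, hT₁, hT₁s, h1a, h1b⟩ := H₁ y' hy₁ za hza haz hφa zb hzb hbz hφb
  obtain ⟨T₂, hT₂, hT₂s, h2b, h2d⟩ := H₂ y' hy₂ zb hzb' hbz hφb zd hzd hdz hφd
  exact ⟨T₁ ∪ T₂, hT₁.union zb h1b h2b hT₂, Set.union_subset hT₁s hT₂s, Or.inl h1a, Or.inr h2d⟩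

include hc in
/-- **Spreading out connectedness over an integral base.** -/
theorem upstairs (g' : Spec (CommRingCat.of A') ⟶ X') (hg' : g' ≫ φ = 𝟙 _)
    (hcov : ∀ x : X', ∃ j, x ∈ Set.range (c j))
    (GI : ∀ j, ∀ 𝔮 ∈ minimalPrimes (B' j), 𝔮.comap (algebraMap A' (B' j)) = ⊥ →
      ∀ (Ω : Type u) [Field Ω] [Algebra A' Ω], Function.Injective (algebraMap A' Ω) →
        IsDomain (Ω ⊗[A'] (B' j ⧸ 𝔮)))
    (ζ' : X') (hζ' : (φ ζ').asIdeal = ⊥) (hζ'0 : ζ' ∈ MoreMor.sectionComponents φ g') :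
    ∃ G' : Set X', IsOpen G' ∧ ζ' ∈ G' ∧ G' ∩ closure {ζ'} ⊆ MoreMor.sectionComponents φ g' := by
  have hφg : ∀ y', φ (g' y') = y' := fun y' => by
    rw [← Scheme.Hom.comp_apply, hg']; rfl
  set η' : Spec (CommRingCat.of A') := φ ζ' with hη'
  have hηle : ∀ y' : Spec (CommRingCat.of A'), η' ⤳ y' := by
    intro y'
    rw [← PrimeSpectrum.le_iff_specializes]
    change η'.asIdeal ≤ y'.asIdeal
    rw [hζ']
    exact bot_le
  have hfib : ∀ x ∈ connectedComponentIn (φ ⁻¹' {η'}) (g' η'), (φ x).asIdeal = ⊥ := by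
    intro x hx
    have h1 : x ∈ φ ⁻¹' {η'} := connectedComponentIn_subset _ _ hx
    have h1 : φ x = η' := h1
    rw [h1, hζ']
  have hgη : g' η' ∈ connectedComponentIn (φ ⁻¹' {η'}) (g' η') :=
    mem_connectedComponentIn (hφg η')
  have hconn : Conn φ ζ' (g' η') := by
    refine isPreconnected_connectedComponentIn.induction₂ (Conn φ) ?_ ?_ ?_ hζ'0 hgη
    · intro x hx
      obtain ⟨j, Qx, rfl⟩ := hcov x
      obtain ⟨N, hN, hxN, HN⟩ := conn_local φ B' c hc GI j Qx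
      rw [eventually_nhdsWithin_iff]
      filter_upwards [hN.mem_nhds hxN] with b hbN hbC
      exact HN b hbN (hfib b hbC)
    · intro x y z _ hy _ hxy hyz
      exact Conn.trans φ B' c hc hcov (hfib y hy) hxy hyz
    · intro x y _ _ hxy
      exact hxy.symm
  obtain ⟨s, hs, Ga, Gb, hGa, hGb, hζGa, hgGb, H⟩ := hconn
  refine ⟨Ga ∩ φ ⁻¹' ((PrimeSpectrum.basicOpen s : Set (PrimeSpectrum A')) ∩ g' ⁻¹' Gb),
    hGa.inter (((PrimeSpectrum.basicOpen s).isOpen.inter (hGb.preimage g'.continuous)).preimage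
      φ.continuous), ⟨hζGa, ?_, hgGb⟩, ?_⟩
  · change s ∉ η'.asIdeal
    rw [hζ']
    exact hs
  · rintro z ⟨⟨hzGa, hzs, hzGb⟩, hzcl⟩
    have hζz : ζ' ⤳ z := specializes_iff_mem_closure.mpr hzcl
    have hgz : g' η' ⤳ g' (φ z) := (hηle (φ z)).map g'.continuous
    obtain ⟨T, hT, hTs, hzT, hgT⟩ := H (φ z) hzs z hzGa hζz rfl (g' (φ z)) hzGb hgz (hφg _)
    exact hT.subset_connectedComponentIn hgT hTs hzT

end UT

end Groth.Agent.Lib.helper9.SecSpread
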