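import Mathlib
import Groth.Prelude.Def_MoreMor
import Groth.Agent.S1324
import Groth.Agent.Lib.Helper13.Normal6
import Groth.Agent.Lib.Helper9.GeomInt3
import Groth.Agent.Lib.Helper9.SecSpread2

/-!
# Spreading out connectedness: the finite type case over an affine Noetherian base (helper9)

`f : X ⟶ Spec A₀` with `A₀` Noetherian, `g` a section, `X` covered by finitely many affine charts of
finite type. Then every `ζ ∈ X⁰` has an open neighbourhood `G` with `G ∩ closure {ζ} ⊆ X⁰`.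
-/

set_option autoImplicit false
set_option linter.style.haveILetI false
set_option backward.isDefEq.respectTransparency false
universe u
open CategoryTheory AlgebraicGeometry CategoryTheory.Limits TensorProduct Topology TopologicalSpace

namespace Groth.Agent.Lib.helper9.SecSpread

theorem spread_finiteType {A₀ : Type u} [CommRing A₀] [IsNoetherianRing A₀] {X : Scheme.{u}}
    (f : X ⟶ Spec (CommRingCat.of A₀)) (g : Spec (CommRingCat.of A₀) ⟶ X) (hg : g ≫ f = 𝟙 _)
    {J : Type*} [Finite J] (R : J → Type u) [∀ j, CommRing (R j)] [∀ j, Algebra A₀ (R j)]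
    [∀ j, Algebra.FiniteType A₀ (R j)] (c₀ : ∀ j, Spec (CommRingCat.of (R j)) ⟶ X)
    [∀ j, IsOpenImmersion (c₀ j)]
    (hc₀ : ∀ j, c₀ j ≫ f = Spec.map (CommRingCat.ofHom (algebraMap A₀ (R j))))
    (hcov : ∀ x : X, ∃ j, x ∈ Set.range (c₀ j))
    (ζ : X) (hζ : ζ ∈ MoreMor.sectionComponents f g) :
    ∃ G : Set X, IsOpen G ∧ ζ ∈ G ∧ G ∩ closure {ζ} ⊆ MoreMor.sectionComponents f g := by
  classical
  set η : Spec (CommRingCat.of A₀) := f ζ with hη
  haveI : η.asIdeal.IsPrime := η.isPrime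
  obtain ⟨A', _, _, _, hfin, hker, GI⟩ := GeomInt.exists_finite_ext A₀ η.asIdeal R
  haveI : IsNoetherianRing A' := Algebra.FiniteType.isNoetherianRing A₀ A'
  set m : Spec (CommRingCat.of A') ⟶ Spec (CommRingCat.of A₀) :=
    Spec.map (CommRingCat.ofHom (algebraMap A₀ A')) with hm
  haveI : IsFinite m := by
    rw [hm, IsFinite.SpecMap_iff]
    exact RingHom.finite_algebraMap.mpr inferInstance
  set p : pullback f m ⟶ X := pullback.fst f m with hp
  set φ : pullback f m ⟶ Spec (CommRingCat.of A') := pullback.snd f m with hφ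
  have hsq : IsPullback p φ f m := IsPullback.of_hasPullback f m
  set g' : Spec (CommRingCat.of A') ⟶ pullback f m :=
    pullback.lift (m ≫ g) (𝟙 _) (by rw [Category.assoc, hg, Category.comp_id, Category.id_comp])
    with hg'def
  have hg' : g' ≫ φ = 𝟙 _ := pullback.lift_snd _ _ _
  have hg'p : g' ≫ p = m ≫ g := pullback.lift_fst _ _ _
  -- the charts upstairs
  have hpush : ∀ j, IsPullback
      (Spec.map (CommRingCat.ofHom (algebraMap A' (A' ⊗[A₀] R j))))
      (Spec.map (CommRingCat.ofHom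
        (Algebra.TensorProduct.includeRight : R j →ₐ[A₀] A' ⊗[A₀] R j).toRingHom))
      m (c₀ j ≫ f) := by
    intro j
    rw [hc₀ j]
    exact isPullback_SpecMap_of_isPushout _ _ _ _ (CommRingCat.isPushout_tensorProduct A₀ A' (R j))
  set c' : ∀ j, Spec (CommRingCat.of (A' ⊗[A₀] R j)) ⟶ pullback f m := fun j =>
    hsq.flip.lift (Spec.map (CommRingCat.ofHom (algebraMap A' (A' ⊗[A₀] R j))))
      (Spec.map (CommRingCat.ofHom
        (Algebra.TensorProduct.includeRight : R j →ₐ[A₀] A' ⊗[A₀] R j).toRingHom) ≫ c₀ j)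
      (by rw [(hpush j).w, Category.assoc]) with hc'def
  have hc'pb : ∀ j, IsPullback (c' j) (Spec.map (CommRingCat.ofHom
        (Algebra.TensorProduct.includeRight : R j →ₐ[A₀] A' ⊗[A₀] R j).toRingHom)) p (c₀ j) :=
    fun j => IsPullback.of_right' (hpush j) hsq.flip
  have hc'φ : ∀ j, c' j ≫ φ =
      Spec.map (CommRingCat.ofHom (algebraMap A' (A' ⊗[A₀] R j))) :=
    fun j => hsq.flip.lift_fst _ _ _
  haveI hc'oi : ∀ j, IsOpenImmersion (c' j) := fun j =>
    MorphismProperty.of_isPullback (P := @IsOpenImmersion) (hc'pb j).flip inferInstance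
  have hcov' : ∀ x' : ↥(pullback f m), ∃ j, x' ∈ Set.range (c' j) := by
    intro x'
    obtain ⟨j, b, hb⟩ := hcov (p x')
    obtain ⟨z, hz1, -⟩ := Scheme.Pullback.exists_preimage_pullback (f := p) (g := c₀ j) x' b hb.symm
    refine ⟨j, (hc'pb j).isoPullback.inv z, ?_⟩
    rw [← Scheme.Hom.comp_apply, (hc'pb j).isoPullback_inv_fst]
    exact hz1
  -- a point over `ζ` in the generic fibre
  set η' : Spec (CommRingCat.of A') := (⟨⊥, Ideal.isPrime_bot⟩ : PrimeSpectrum A') with hη'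
  have hmη' : m η' = η := by
    apply PrimeSpectrum.ext
    change Ideal.comap (algebraMap A₀ A') ⊥ = η.asIdeal
    rw [← hker]
    rfl
  obtain ⟨ζ', hζ'1, hζ'2⟩ := Scheme.Pullback.exists_preimage_pullback (f := f) (g := m) ζ η'
    hmη'.symm
  have hS : ∀ x', x' ∈ MoreMor.sectionComponents φ g' ↔ p x' ∈ MoreMor.sectionComponents f g :=
    fun x' => Groth.Agent.S1324.mem_iff f g hg φ p m hsq g' hg' hg'p x'
  have hζ'0 : ζ' ∈ MoreMor.sectionComponents φ g' := by
    rw [hS, hζ'1]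
    exact hζ
  have hζ'bot : (φ ζ').asIdeal = ⊥ := by
    rw [hζ'2]
  obtain ⟨G', hG', hζ'G', HG'⟩ := upstairs φ (fun j => A' ⊗[A₀] R j) c' hc'φ g' hg' hcov'
    (fun j 𝔮 h𝔮 h𝔮' Ω _ _ hΩ => GI j 𝔮 h𝔮 h𝔮' Ω hΩ) ζ' hζ'bot hζ'0
  -- descent
  have hpcl : IsClosedMap p := p.isClosedMap
  refine ⟨(p '' (closure {ζ'} \ G'))ᶜ,
    (hpcl _ (isClosed_closure.sdiff hG')).isOpen_compl, ?_, ?_⟩
  · rintro ⟨t, ⟨ht, htG'⟩, hpt⟩
    have hsp : ζ' ⤳ t := specializes_iff_mem_closure.mpr ht
    have heq : ζ' = t := Groth.Agent.Lib.helper13.Normal.eq_of_specializes_of_isIntegralHom p hsp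
      (by rw [hζ'1, hpt])
    exact htG' (heq ▸ hζ'G')
  · rintro z ⟨hzG, hzcl⟩
    have hcl : closure {ζ} ⊆ p '' closure {ζ'} := by
      apply closure_minimal _ (hpcl _ isClosed_closure)
      rw [Set.singleton_subset_iff]
      exact ⟨ζ', subset_closure rfl, hζ'1⟩
    obtain ⟨t, ht, rfl⟩ := hcl hzcl
    have htG' : t ∈ G' := by
      by_contra hcon
      exact hzG ⟨t, ⟨ht, hcon⟩, rfl⟩
    exact (hS t).mp (HG' ⟨htG', ht⟩)

end Groth.Agent.Lib.helper9.SecSpread
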