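import Mathlib
import Groth.Prelude.Def_MoreMor
import Groth.Agent.Lib.Helper3.SecCompDim2

/-!
# Spreading out connectedness: reduction to finitely many affine charts (helper9)

* `image_sectionComponents_subset`: compatibility of `X⁰` with a commutative square.
* `exists_finset_affineOpens_isPreconnected`: two points of a connected subset of a fibre of a
  morphism locally of finite type are joined by a preconnected subset of the fibre covered by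
  finitely many affine opens.
-/

set_option autoImplicit false
set_option linter.style.haveILetI false
set_option backward.isDefEq.respectTransparency false
universe u
open CategoryTheory AlgebraicGeometry CategoryTheory.Limits Topology TopologicalSpace

namespace Groth.Agent.Lib.helper9.SecSpread

theorem image_sectionComponents_subset {X Y X₁ Y₁ : Scheme.{u}} (f : X ⟶ Y) (g : Y ⟶ X)
    (f₁ : X₁ ⟶ Y₁) (g₁ : Y₁ ⟶ X₁) (ι : X₁ ⟶ X) (j : Y₁ ⟶ Y)
    (hf : f₁ ≫ j = ι ≫ f) (hgj : g₁ ≫ ι = j ≫ g) (x₁ : X₁)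
    (hx₁ : x₁ ∈ MoreMor.sectionComponents f₁ g₁) : ι x₁ ∈ MoreMor.sectionComponents f g := by
  have hfp : ∀ t : X₁, f (ι t) = j (f₁ t) := fun t => by
    rw [← Scheme.Hom.comp_apply, ← Scheme.Hom.comp_apply, hf]
  have hgp : ∀ t : Y₁, g (j t) = ι (g₁ t) := fun t => by
    rw [← Scheme.Hom.comp_apply, ← Scheme.Hom.comp_apply, hgj]
  set K := connectedComponentIn (f₁ ⁻¹' {f₁ x₁}) (g₁ (f₁ x₁)) with hK
  have hKpre : _root_.IsPreconnected (ι '' K) :=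
    isPreconnected_connectedComponentIn.image _ ι.continuous.continuousOn
  have hKsub : ι '' K ⊆ f ⁻¹' {f (ι x₁)} := by
    rintro _ ⟨t, ht, rfl⟩
    have h1 : t ∈ f₁ ⁻¹' {f₁ x₁} := connectedComponentIn_subset _ _ ht
    have h1' : f₁ t = f₁ x₁ := h1
    rw [Set.mem_preimage, Set.mem_singleton_iff, hfp, hfp, h1']
  have hgK : g (f (ι x₁)) ∈ ι '' K := by
    have hne : K.Nonempty := ⟨x₁, hx₁⟩
    have h2 : g₁ (f₁ x₁) ∈ f₁ ⁻¹' {f₁ x₁} := by
      by_contra hcon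
      rw [hK, connectedComponentIn_eq_empty hcon] at hne
      exact Set.not_nonempty_empty hne
    refine ⟨g₁ (f₁ x₁), mem_connectedComponentIn h2, ?_⟩
    rw [hfp, hgp]
  exact hKpre.subset_connectedComponentIn hgK hKsub ⟨x₁, hx₁, rfl⟩

section Fin

variable {X Y : Scheme.{u}} (f : X ⟶ Y) [LocallyOfFiniteType f]

theorem exists_finset_affineOpens_isPreconnected (y : Y) (W : Y.Opens) (hyW : y ∈ W)
    (C : Set X) (hC : _root_.IsPreconnected C) (hCy : C ⊆ f ⁻¹' {y}) (a b : X) (ha : a ∈ C)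
    (hb : b ∈ C) :
    ∃ 𝒪 : Finset X.Opens, (∀ O ∈ 𝒪, IsAffineOpen O ∧ O ≤ f ⁻¹ᵁ W) ∧
      ∃ S : Set X, _root_.IsPreconnected S ∧ S ⊆ (⋃ O ∈ 𝒪, (O : Set X)) ∩ f ⁻¹' {y} ∧
        a ∈ S ∧ b ∈ S := by
  classical
  haveI := Groth.Agent.Lib.helper3.SecCompDim.locallyConnectedSpace_fiber f y
  haveI : LocallyConnectedSpace ↥(f ⁻¹' {y}) :=
    (f.fiberHomeo y).symm.isOpenEmbedding.locallyConnectedSpace
  refine hC.induction₂ (fun a b => ∃ 𝒪 : Finset X.Opens,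
    (∀ O ∈ 𝒪, IsAffineOpen O ∧ O ≤ f ⁻¹ᵁ W) ∧
      ∃ S : Set X, _root_.IsPreconnected S ∧ S ⊆ (⋃ O ∈ 𝒪, (O : Set X)) ∩ f ⁻¹' {y} ∧
        a ∈ S ∧ b ∈ S) ?_ ?_ ?_ ha hb
  · intro x hx
    have hxy : x ∈ f ⁻¹' {y} := hCy hx
    have hxW : x ∈ f ⁻¹ᵁ W := by
      change f x ∈ W
      have : f x = y := hxy
      rw [this]
      exact hyW
    obtain ⟨O, hO, hxO, hOW⟩ := exists_isAffineOpen_mem_and_subset (x := x) (U := f ⁻¹ᵁ W) hxW
    set F : Set ↥(f ⁻¹' {y}) := Subtype.val ⁻¹' (O : Set X) with hF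
    have hFo : IsOpen F := O.isOpen.preimage continuous_subtype_val
    set K : Set ↥(f ⁻¹' {y}) := connectedComponentIn F ⟨x, hxy⟩ with hK
    have hKo : IsOpen K := hFo.connectedComponentIn
    have hxK : (⟨x, hxy⟩ : ↥(f ⁻¹' {y})) ∈ K := mem_connectedComponentIn hxO
    obtain ⟨N, hN, hNK⟩ := isOpen_induced_iff.mp hKo
    have hxN : x ∈ N := by
      have : (⟨x, hxy⟩ : ↥(f ⁻¹' {y})) ∈ Subtype.val ⁻¹' N := by rw [hNK]; exact hxK
      exact this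
    rw [eventually_nhdsWithin_iff]
    filter_upwards [hN.mem_nhds hxN] with b hbN hbC
    have hby : b ∈ f ⁻¹' {y} := hCy hbC
    have hbK : (⟨b, hby⟩ : ↥(f ⁻¹' {y})) ∈ K := by
      rw [← hNK]
      exact hbN
    refine ⟨{O}, ?_, Subtype.val '' K, ?_, ?_, ⟨⟨x, hxy⟩, hxK, rfl⟩, ⟨⟨b, hby⟩, hbK, rfl⟩⟩
    · intro O' hO'
      rw [Finset.mem_singleton] at hO'
      rw [hO']
      exact ⟨hO, hOW⟩
    · exact isPreconnected_connectedComponentIn.image _ continuous_subtype_val.continuousOn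
    · rintro _ ⟨t, ht, rfl⟩
      refine ⟨?_, t.2⟩
      rw [Set.mem_iUnion₂]
      have htF : t ∈ F := connectedComponentIn_subset _ _ ht
      exact ⟨O, Finset.mem_singleton_self O, htF⟩
  · rintro x₁ x₂ x₃ - - - ⟨𝒪₁, h𝒪₁, S₁, hS₁, hS₁s, h1a, h1b⟩ ⟨𝒪₂, h𝒪₂, S₂, hS₂, hS₂s, h2a, h2b⟩
    refine ⟨𝒪₁ ∪ 𝒪₂, ?_, S₁ ∪ S₂, hS₁.union x₂ h1b h2a hS₂, ?_, Or.inl h1a, Or.inr h2b⟩
    · intro O hO
      rcases Finset.mem_union.mp hO with h | h
      · exact h𝒪₁ O h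
      · exact h𝒪₂ O h
    · rintro t (ht | ht)
      · obtain ⟨h1, h2⟩ := hS₁s ht
        refine ⟨?_, h2⟩
        rw [Set.mem_iUnion₂] at h1 ⊢
        obtain ⟨O, hO, htO⟩ := h1
        exact ⟨O, Finset.mem_union_left _ hO, htO⟩
      · obtain ⟨h1, h2⟩ := hS₂s ht
        refine ⟨?_, h2⟩
        rw [Set.mem_iUnion₂] at h1 ⊢
        obtain ⟨O, hO, htO⟩ := h1
        exact ⟨O, Finset.mem_union_right _ hO, htO⟩
  · rintro x₁ x₂ - - ⟨𝒪, h𝒪, S, hS, hSs, h1, h2⟩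
    exact ⟨𝒪, h𝒪, S, hS, hSs, h2, h1⟩

end Fin

end Groth.Agent.Lib.helper9.SecSpread
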