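import Mathlib
import Groth.Prelude.Def_MoreMor
import Groth.Agent.Lib.Helper9.SecSpread3
import Groth.Agent.Lib.Helper9.SecSpread4

/-!
# Spreading out connectedness: the general statement (helper9; cf. EGA IV 9.7.12, 15.6.4)

`Y` locally Noetherian, `f : X ⟶ Y` locally of finite type with a section `g`. Every point `ζ` of
`X⁰` (the union of the connected components of the fibres marked by the section) has an open
neighbourhood `G` with `G ∩ closure {ζ} ⊆ X⁰`.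
-/

set_option autoImplicit false
set_option linter.style.haveILetI false
set_option backward.isDefEq.respectTransparency false
universe u
open CategoryTheory AlgebraicGeometry CategoryTheory.Limits Topology TopologicalSpace

namespace Groth.Agent.Lib.helper9.SecSpread

theorem spread {X Y : Scheme.{u}} [IsLocallyNoetherian Y] (f : X ⟶ Y) [LocallyOfFiniteType f]
    (g : Y ⟶ X) (hg : g ≫ f = 𝟙 Y) (ζ : X) (hζ : ζ ∈ MoreMor.sectionComponents f g) :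
    ∃ G : Set X, IsOpen G ∧ ζ ∈ G ∧ G ∩ closure {ζ} ⊆ MoreMor.sectionComponents f g := by
  classical
  have hfg : ∀ y : Y, f (g y) = y := fun y => by
    rw [← Scheme.Hom.comp_apply, hg]; rfl
  set η : Y := f ζ with hη
  obtain ⟨W, hW, hηW, -⟩ := exists_isAffineOpen_mem_and_subset (x := η) (U := ⊤) trivial
  have hgC : g η ∈ connectedComponentIn (f ⁻¹' {η}) (g η) := mem_connectedComponentIn (hfg η)
  obtain ⟨𝒪, h𝒪, S, hS, hSs, hζS, hgS⟩ := exists_finset_affineOpens_isPreconnected f η W hηW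
    (connectedComponentIn (f ⁻¹' {η}) (g η)) isPreconnected_connectedComponentIn
    (connectedComponentIn_subset _ _) ζ (g η) hζ hgC
  -- the open `U`
  set U : X.Opens := ⟨⋃ O ∈ 𝒪, (O : Set X), isOpen_biUnion (fun O _ => O.isOpen)⟩ with hU
  have hmemU : ∀ x : X, x ∈ U ↔ ∃ O ∈ 𝒪, x ∈ O := by
    intro x
    change x ∈ ⋃ O ∈ 𝒪, (O : Set X) ↔ _
    rw [Set.mem_iUnion₂]
    constructor
    · rintro ⟨O, hO, hx⟩
      exact ⟨O, hO, hx⟩
    · rintro ⟨O, hO, hx⟩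
      exact ⟨O, hO, hx⟩
  have hgηU : η ∈ g ⁻¹ᵁ U := (hSs hgS).1
  obtain ⟨s, hsle, hηs⟩ := hW.exists_basicOpen_le (V := g ⁻¹ᵁ U) ⟨η, hgηU⟩ hηW
  set V : Y.Opens := Y.basicOpen s with hVdef
  have hV : IsAffineOpen V := hW.basicOpen s
  have hηV : η ∈ V := hηs
  -- the charts
  set O' : ↥𝒪 → X.Opens := fun j => (j : X.Opens) ⊓ f ⁻¹ᵁ V with hO'def
  have hO' : ∀ j, IsAffineOpen (O' j) := by
    intro j
    have h1 := (h𝒪 j.1 j.2).1.basicOpen (f.appLE W j.1 (h𝒪 j.1 j.2).2 s)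
    rw [Scheme.basicOpen_appLE] at h1
    exact h1
  have e' : ∀ j, O' j ≤ f ⁻¹ᵁ V := fun j => inf_le_right
  set U₁ : X.Opens := ⨆ j, O' j with hU₁
  have hmemU₁ : ∀ x : X, x ∈ U₁ ↔ ∃ j, x ∈ O' j := fun x => Opens.mem_iSup
  have hU₁V : ∀ x : X, x ∈ U₁ → f x ∈ V := by
    intro x hx
    obtain ⟨j, hj⟩ := (hmemU₁ x).mp hx
    exact (e' j) hj
  have hUU₁ : ∀ x : X, x ∈ U → f x ∈ V → x ∈ U₁ := by
    intro x hx hfx
    obtain ⟨O, hO, hxO⟩ := (hmemU x).mp hx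
    exact (hmemU₁ x).mpr ⟨⟨O, hO⟩, ⟨hxO, hfx⟩⟩
  -- the restricted morphisms
  have hr₁ : Set.range (U₁.ι ≫ f) ⊆ Set.range hV.fromSpec := by
    rintro _ ⟨x₁, rfl⟩
    rw [hV.range_fromSpec, Scheme.Hom.comp_apply]
    exact hU₁V _ x₁.2
  set f₁ : U₁.toScheme ⟶ Spec Γ(Y, V) := IsOpenImmersion.lift hV.fromSpec (U₁.ι ≫ f) hr₁ with hf₁
  have hf₁fac : f₁ ≫ hV.fromSpec = U₁.ι ≫ f := IsOpenImmersion.lift_fac _ _ _
  have hr₂ : Set.range (hV.fromSpec ≫ g) ⊆ Set.range U₁.ι := by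
    rintro _ ⟨t, rfl⟩
    rw [Scheme.Opens.range_ι, Scheme.Hom.comp_apply]
    have htV : hV.fromSpec t ∈ V := by
      have : hV.fromSpec t ∈ Set.range hV.fromSpec := ⟨t, rfl⟩
      rw [hV.range_fromSpec] at this
      exact this
    apply hUU₁
    · exact hsle htV
    · rw [hfg]
      exact htV
  set g₁ : Spec Γ(Y, V) ⟶ U₁.toScheme := IsOpenImmersion.lift U₁.ι (hV.fromSpec ≫ g) hr₂ with hg₁
  have hg₁fac : g₁ ≫ U₁.ι = hV.fromSpec ≫ g := IsOpenImmersion.lift_fac _ _ _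
  have hg₁f₁ : g₁ ≫ f₁ = 𝟙 _ := by
    rw [← cancel_mono hV.fromSpec, Category.assoc, hf₁fac, ← Category.assoc, hg₁fac,
      Category.assoc, hg, Category.comp_id, Category.id_comp]
  have hr₃ : ∀ j, Set.range (hO' j).fromSpec ⊆ Set.range U₁.ι := by
    intro j
    rw [(hO' j).range_fromSpec, Scheme.Opens.range_ι]
    intro x hx
    exact (hmemU₁ x).mpr ⟨j, hx⟩
  set c₁ : ∀ j, Spec Γ(X, O' j) ⟶ U₁.toScheme := fun j =>
    IsOpenImmersion.lift U₁.ι (hO' j).fromSpec (hr₃ j) with hc₁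
  have hc₁fac : ∀ j, c₁ j ≫ U₁.ι = (hO' j).fromSpec := fun j => IsOpenImmersion.lift_fac _ _ _
  haveI : ∀ j, IsOpenImmersion (c₁ j) := by
    intro j
    haveI : IsOpenImmersion (c₁ j ≫ U₁.ι) := by
      rw [hc₁fac j]
      infer_instance
    exact IsOpenImmersion.of_comp (c₁ j) U₁.ι
  letI : ∀ j, Algebra Γ(Y, V) Γ(X, O' j) := fun j => (f.appLE V (O' j) (e' j)).hom.toAlgebra
  haveI : IsNoetherianRing Γ(Y, V) := IsLocallyNoetherian.component_noetherian ⟨V, hV⟩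
  haveI : ∀ j, Algebra.FiniteType Γ(Y, V) Γ(X, O' j) := fun j =>
    HasRingHomProperty.appLE (P := @LocallyOfFiniteType) f inferInstance ⟨V, hV⟩
      ⟨O' j, hO' j⟩ (e' j)
  have hc₁f₁ : ∀ j, c₁ j ≫ f₁ =
      Spec.map (CommRingCat.ofHom (algebraMap Γ(Y, V) Γ(X, O' j))) := by
    intro j
    have hofHom : CommRingCat.ofHom (algebraMap Γ(Y, V) Γ(X, O' j)) =
        f.appLE V (O' j) (e' j) := rfl
    rw [hofHom, ← cancel_mono hV.fromSpec, Category.assoc, hf₁fac, ← Category.assoc, hc₁fac,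
      IsAffineOpen.SpecMap_appLE_fromSpec f hV (hO' j) (e' j)]
  have hιinj : Function.Injective U₁.ι := U₁.ι.isOpenEmbedding.injective
  have hcov₁ : ∀ x₁ : U₁.toScheme, ∃ j, x₁ ∈ Set.range (c₁ j) := by
    intro x₁
    obtain ⟨j, hj⟩ := (hmemU₁ _).mp x₁.2
    have h1 : (U₁.ι x₁) ∈ Set.range (hO' j).fromSpec := by
      rw [(hO' j).range_fromSpec]
      exact hj
    obtain ⟨b, hb⟩ := h1
    refine ⟨j, b, ?_⟩
    apply hιinj
    rw [← Scheme.Hom.comp_apply, hc₁fac]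
    exact hb
  -- the point `ζ₁`
  have hζU₁ : ζ ∈ U₁ := hUU₁ ζ (hSs hζS).1 hηV
  set ζ₁ : U₁.toScheme := ⟨ζ, hζU₁⟩ with hζ₁
  have hιζ₁ : U₁.ι ζ₁ = ζ := rfl
  have hjinj : Function.Injective hV.fromSpec := hV.fromSpec.isOpenEmbedding.injective
  have hfp : ∀ t : U₁.toScheme, f (U₁.ι t) = hV.fromSpec (f₁ t) := fun t => by
    rw [← Scheme.Hom.comp_apply, ← Scheme.Hom.comp_apply, hf₁fac]
  have hgp : ∀ t : Spec Γ(Y, V), g (hV.fromSpec t) = U₁.ι (g₁ t) := fun t => by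
    rw [← Scheme.Hom.comp_apply, ← Scheme.Hom.comp_apply, hg₁fac]
  have hζ₁0 : ζ₁ ∈ MoreMor.sectionComponents f₁ g₁ := by
    set S₁ : Set U₁.toScheme := U₁.ι ⁻¹' S with hS₁
    have hSrange : S ⊆ Set.range U₁.ι := by
      intro x hx
      rw [Scheme.Opens.range_ι]
      apply hUU₁ x (hSs hx).1
      have : f x = η := (hSs hx).2
      rw [this]
      exact hηV
    have hS₁pre : _root_.IsPreconnected S₁ := by
      rw [← U₁.ι.isOpenEmbedding.isInducing.isPreconnected_image,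
        Set.image_preimage_eq_of_subset hSrange]
      exact hS
    have hS₁sub : S₁ ⊆ f₁ ⁻¹' {f₁ ζ₁} := by
      intro t ht
      rw [Set.mem_preimage, Set.mem_singleton_iff]
      apply hjinj
      rw [← hfp, ← hfp, hιζ₁]
      exact (hSs ht).2
    have hg₁S₁ : g₁ (f₁ ζ₁) ∈ S₁ := by
      rw [hS₁, Set.mem_preimage, ← hgp, ← hfp, hιζ₁]
      exact hgS
    exact hS₁pre.subset_connectedComponentIn hg₁S₁ hS₁sub hζS
  obtain ⟨G₁, hG₁, hζ₁G₁, HG₁⟩ := spread_finiteType f₁ g₁ hg₁f₁ (fun j => Γ(X, O' j)) c₁ hc₁f₁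
    hcov₁ ζ₁ hζ₁0
  refine ⟨U₁.ι '' G₁, U₁.ι.isOpenEmbedding.isOpenMap _ hG₁, ⟨ζ₁, hζ₁G₁, hιζ₁⟩, ?_⟩
  rintro _ ⟨⟨z₁, hz₁, rfl⟩, hzcl⟩
  have hsp : ζ ⤳ U₁.ι z₁ := specializes_iff_mem_closure.mpr hzcl
  rw [← hιζ₁, U₁.ι.isOpenEmbedding.isInducing.specializes_iff] at hsp
  have hz₁0 : z₁ ∈ MoreMor.sectionComponents f₁ g₁ :=
    HG₁ ⟨hz₁, specializes_iff_mem_closure.mp hsp⟩
  exact image_sectionComponents_subset f g f₁ g₁ U₁.ι hV.fromSpec hf₁fac hg₁fac z₁ hz₁0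

end Groth.Agent.Lib.helper9.SecSpread
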