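/-
Helper library (helper9): section components of a flat morphism of finite presentation over an
affine base, via Noetherian approximation (EGA IV 15.6.6 without Noetherian hypotheses).
-/
import Groth.Agent.Lib.Helper9.SecFlat1
import Groth.Agent.Lib.Helper9.SecFlat2
import Groth.Agent.S3420
import Groth.Agent.S1324
import Groth.Agent.Lib.Helper13.GF3

set_option autoImplicit false
set_option linter.style.haveILetI false
set_option backward.isDefEq.respectTransparency false

namespace Groth.Agent.Lib.helper9.SecFlat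

open AlgebraicGeometry CategoryTheory Limits

universe u

/-- Membership in the section components in terms of the component over a given point. -/
theorem mem_sectionComponents_iff {X Y : Scheme.{u}} (f : X ⟶ Y) (g : Y ⟶ X) (x : X) (y : Y)
    (hxy : f x = y) :
    x ∈ MoreMor.sectionComponents f g ↔ x ∈ connectedComponentIn (f ⁻¹' {y}) (g y) := by
  subst hxy
  rfl

theorem apply_eq_of_mem_component {X Y : Scheme.{u}} (f : X ⟶ Y) (g : Y ⟶ X) {x : X} {y : Y}
    (hx : x ∈ connectedComponentIn (f ⁻¹' {y}) (g y)) : f x = y := by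
  have h : x ∈ f ⁻¹' {y} := connectedComponentIn_subset (f ⁻¹' {y}) (g y) hx
  exact h

/-- Transport of geometric reducedness of a fibre at a point along an equality of base points. -/
theorem isGeomReducedAt_fiber_congr {X Y : Scheme.{u}} (f : X ⟶ Y) {z z' : Y} (e : z = z')
    (p : ↥(f.fiber z)) (p' : ↥(f.fiber z')) (hp : f.fiberι z p = f.fiberι z' p')
    (h : FBase.IsGeomReducedAt (f.fiberToSpecResidueField z) p) :
    FBase.IsGeomReducedAt (f.fiberToSpecResidueField z') p' := by
  subst e
  have : p = p' := (f.fiberι z).isEmbedding.injective hp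
  subst this
  exact h

/-- The fibre comparison map of a cartesian square is compatible with the inclusions of the
fibres. -/
theorem fiberι_fiberMap {P X Y Z : Scheme.{u}} {fst : P ⟶ X} {snd : P ⟶ Y} {f : X ⟶ Z}
    {g : Y ⟶ Z} (h : IsPullback fst snd f g) (y : Y) (p : ↥(snd.fiber y)) :
    f.fiberι (g y) ((pullback.map _ _ _ _ fst (Spec.map (g.residueFieldMap y)) g h.w.symm
      (by simp) : snd.fiber y ⟶ f.fiber (g y)) p) = fst (snd.fiberι y p) := by
  have h1 : (pullback.map _ _ _ _ fst (Spec.map (g.residueFieldMap y)) g h.w.symm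
      (by simp) : snd.fiber y ⟶ f.fiber (g y)) ≫ f.fiberι (g y) = snd.fiberι y ≫ fst :=
    pullback.lift_fst _ _ _
  exact congrArg (fun φ : snd.fiber y ⟶ X ↦ φ p) h1

/-- Geometric reducedness of fibres at corresponding points of a cartesian square, in terms of
points of the total spaces. -/
theorem isGeomReducedAt_asFiber_iff_of_isPullback {P X Y Z : Scheme.{u}} {fst : P ⟶ X}
    {snd : P ⟶ Y} {f : X ⟶ Z} {g : Y ⟶ Z} (h : IsPullback fst snd f g) (p : P) :
    FBase.IsGeomReducedAt (snd.fiberToSpecResidueField (snd p)) (snd.asFiber p) ↔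
      FBase.IsGeomReducedAt (f.fiberToSpecResidueField (f (fst p))) (f.asFiber (fst p)) := by
  rw [isGeomReducedAt_fiber_iff_of_isPullback h (snd p) (snd.asFiber p)]
  have e : g (snd p) = f (fst p) := by
    rw [← Scheme.Hom.comp_apply, ← Scheme.Hom.comp_apply, h.w]
  have hp : f.fiberι (g (snd p)) ((pullback.map _ _ _ _ fst (Spec.map (g.residueFieldMap (snd p)))
      g h.w.symm (by simp) : snd.fiber (snd p) ⟶ f.fiber (g (snd p))) (snd.asFiber p)) =
      f.fiberι (f (fst p)) (f.asFiber (fst p)) := by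
    rw [fiberι_fiberMap h, snd.fiberι_asFiber, f.fiberι_asFiber]
  exact ⟨isGeomReducedAt_fiber_congr f e _ _ hp, isGeomReducedAt_fiber_congr f e.symm _ _ hp.symm⟩

/-- **Core.** If `f : X ⟶ Spec A` with section `g` is the base change of a universally open morphism
`f₀` locally of finite type, with section `g₀`, over a finitely generated subring of `A`, and the
fibre of `f` over `y` is geometrically reduced along the component of `g y`, then the section
components form a neighbourhood of that component. -/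
theorem nhd_of_model {A : Type u} [CommRing A] {X : Scheme.{u}} (f : X ⟶ Spec (CommRingCat.of A))
    (g : Spec (CommRingCat.of A) ⟶ X) (hg : g ≫ f = 𝟙 _) {A₀ : Subalgebra ℤ A} (hfg : A₀.FG)
    {X₀ : Scheme.{u}} (f₀ : X₀ ⟶ Spec (CommRingCat.of ↥A₀)) (gX : X ⟶ X₀)
    (g₀ : Spec (CommRingCat.of ↥A₀) ⟶ X₀) [UniversallyOpen f₀] [LocallyOfFiniteType f₀]
    (hc : IsPullback gX f f₀ (Spec.map (CommRingCat.ofHom (algebraMap (↥A₀) A))))
    (hg₀ : g₀ ≫ f₀ = 𝟙 _)
    (hcompat : g ≫ gX = Spec.map (CommRingCat.ofHom (algebraMap (↥A₀) A)) ≫ g₀)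
    (y : Spec (CommRingCat.of A))
    (hred : ∀ x ∈ connectedComponentIn (f ⁻¹' {y}) (g y),
      FBase.IsGeomReducedAt (f.fiberToSpecResidueField (f x)) (f.asFiber x)) :
    connectedComponentIn (f ⁻¹' {y}) (g y) ⊆ interior (MoreMor.sectionComponents f g) := by
  haveI : Algebra.FiniteType ℤ ↥A₀ := (Subalgebra.fg_iff_finiteType A₀).mp hfg
  haveI : IsNoetherianRing ↥A₀ := Algebra.FiniteType.isNoetherianRing ℤ ↥A₀
  set π := Spec.map (CommRingCat.ofHom (algebraMap (↥A₀) A)) with hπ
  have hsc : MoreMor.sectionComponents f g = gX ⁻¹' MoreMor.sectionComponents f₀ g₀ :=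
    Groth.Agent.S1324.result f₀ g₀ hg₀ f gX π hc g hg hcompat
  have hfp : ∀ x : X, f₀ (gX x) = π (f x) := fun x ↦ by
    rw [← Scheme.Hom.comp_apply, ← Scheme.Hom.comp_apply, hc.w]
  have key := (Groth.Agent.S3420.result f₀ g₀ hg₀).1 (π y) ?_
  · intro x hx
    have hfx : f x = y := apply_eq_of_mem_component f g hx
    have hxsc : x ∈ MoreMor.sectionComponents f g := (mem_sectionComponents_iff f g x y hfx).mpr hx
    rw [hsc] at hxsc
    have h1 : gX x ∈ connectedComponentIn (f₀ ⁻¹' {π y}) (g₀ (π y)) :=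
      (mem_sectionComponents_iff f₀ g₀ (gX x) (π y) (by rw [hfp, hfx])).mp hxsc
    have h2 := key h1
    rw [hsc]
    exact preimage_interior_subset_interior_preimage gX.continuous h2
  · intro x₀ hx₀
    refine ⟨Groth.Agent.Lib.helper13.GF.isUnivOpenAt_of_universallyOpen f₀ x₀, ?_⟩
    have hfx₀ : f₀ x₀ = π y := apply_eq_of_mem_component f₀ g₀ hx₀
    obtain ⟨x, hx1, hx2⟩ := Scheme.exists_preimage_of_isPullback hc x₀ y hfx₀
    have hxsc : x ∈ MoreMor.sectionComponents f g := by
      rw [hsc]
      show gX x ∈ MoreMor.sectionComponents f₀ g₀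
      rw [hx1]
      exact (mem_sectionComponents_iff f₀ g₀ x₀ (π y) hfx₀).mpr hx₀
    have hxc : x ∈ connectedComponentIn (f ⁻¹' {y}) (g y) :=
      (mem_sectionComponents_iff f g x y hx2).mp hxsc
    have h3 := (isGeomReducedAt_asFiber_iff_of_isPullback hc x).mp (hred x hxc)
    rw [hx1] at h3
    exact h3

end Groth.Agent.Lib.helper9.SecFlat
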