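/-
Helper library (helper9): section components of flat / smooth morphisms, general base
(EGA IV 15.6.6, 15.6.5 without Noetherian hypotheses).
-/
import Groth.Agent.Lib.Helper9.SecFlat3
import Groth.Agent.Lib.Helper9.SecSpread4

set_option autoImplicit false
set_option linter.style.haveILetI false
set_option backward.isDefEq.respectTransparency false

namespace Groth.Agent.Lib.helper9.SecFlat

open AlgebraicGeometry CategoryTheory Limits

universe u

/-- Flat case over an affine base. -/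
theorem nhd_of_flat_affine {A : Type u} [CommRing A] {X : Scheme.{u}}
    (f : X ⟶ Spec (CommRingCat.of A)) [Flat f] [LocallyOfFinitePresentation f] [QuasiCompact f]
    [QuasiSeparated f] (g : Spec (CommRingCat.of A) ⟶ X) (hg : g ≫ f = 𝟙 _)
    (y : Spec (CommRingCat.of A))
    (hred : ∀ x ∈ connectedComponentIn (f ⁻¹' {y}) (g y),
      FBase.IsGeomReducedAt (f.fiberToSpecResidueField (f x)) (f.asFiber x)) :
    connectedComponentIn (f ⁻¹' {y}) (g y) ⊆ interior (MoreMor.sectionComponents f g) := by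
  obtain ⟨A₀, hfg, X₀, f₀, gX, g₀, hfl, hlfp, hqc, hqs, hc, hg₀, hcompat⟩ :=
    exists_flat_model_with_section A f g hg
  haveI := hfl
  haveI := hlfp
  exact nhd_of_model f g hg hfg f₀ gX g₀ hc hg₀ hcompat y hred

/-- Passing to an open part of the source mapping to an open part of the base. -/
theorem mem_interior_of_image {X Y X₁ Y₁ : Scheme.{u}} (f : X ⟶ Y) (g : Y ⟶ X)
    (f₁ : X₁ ⟶ Y₁) (g₁ : Y₁ ⟶ X₁) (ι : X₁ ⟶ X) (j : Y₁ ⟶ Y) [IsOpenImmersion ι]
    (hf : f₁ ≫ j = ι ≫ f) (hgj : g₁ ≫ ι = j ≫ g) (x₁ : X₁)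
    (hx₁ : x₁ ∈ interior (MoreMor.sectionComponents f₁ g₁)) :
    ι x₁ ∈ interior (MoreMor.sectionComponents f g) := by
  have hopen : IsOpen (ι '' interior (MoreMor.sectionComponents f₁ g₁)) :=
    ι.isOpenEmbedding.isOpenMap _ isOpen_interior
  have hsub : ι '' interior (MoreMor.sectionComponents f₁ g₁) ⊆ MoreMor.sectionComponents f g := by
    rintro _ ⟨t, ht, rfl⟩
    exact Groth.Agent.Lib.helper9.SecSpread.image_sectionComponents_subset f g f₁ g₁ ι j hf hgj t
      (interior_subset ht)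
  exact interior_maximal hsub hopen ⟨x₁, hx₁, rfl⟩

/-- **EGA IV 15.6.6 without Noetherian hypotheses.** -/
theorem nhd_of_flat {X Y : Scheme.{u}} (f : X ⟶ Y) [Flat f] [LocallyOfFinitePresentation f]
    [QuasiCompact f] [QuasiSeparated f] (g : Y ⟶ X) (hg : g ≫ f = 𝟙 Y) (y : Y)
    (hred : ∀ x' : ↥(f.fiber y), f.fiberι y x' ∈ connectedComponentIn (f ⁻¹' {y}) (g y) →
      FBase.IsGeomReducedAt (f.fiberToSpecResidueField y) x') :
    connectedComponentIn (f ⁻¹' {y}) (g y) ⊆ interior (MoreMor.sectionComponents f g) := by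
  obtain ⟨_, ⟨V, hV, rfl⟩, hyV, -⟩ :=
    Y.isBasis_affineOpens.exists_subset_of_mem_open (Set.mem_univ y) isOpen_univ
  set j : Spec Γ(Y, V) ⟶ Y := hV.fromSpec with hj
  set f₁ : pullback f j ⟶ Spec Γ(Y, V) := pullback.snd f j with hf₁
  set ι : pullback f j ⟶ X := pullback.fst f j with hι
  have hsq : IsPullback ι f₁ f j := IsPullback.of_hasPullback f j
  let g₁ : Spec Γ(Y, V) ⟶ pullback f j := pullback.lift (j ≫ g) (𝟙 _) (by
    rw [Category.assoc, hg, Category.comp_id, Category.id_comp])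
  have hg₁ : g₁ ≫ f₁ = 𝟙 _ := pullback.lift_snd _ _ _
  have hg₁ι : g₁ ≫ ι = j ≫ g := pullback.lift_fst _ _ _
  have hsc : MoreMor.sectionComponents f₁ g₁ = ι ⁻¹' MoreMor.sectionComponents f g :=
    Groth.Agent.S1324.result f g hg f₁ ι j hsq g₁ hg₁ hg₁ι
  obtain ⟨y₁, hy₁⟩ : ∃ y₁, j y₁ = y := by
    have : y ∈ Set.range j := by
      rw [hj, hV.range_fromSpec]
      exact hyV
    exact this
  have hfp : ∀ t : ↥(pullback f j), f (ι t) = j (f₁ t) := fun t ↦ by
    rw [← Scheme.Hom.comp_apply, ← Scheme.Hom.comp_apply, hsq.w]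
  have key := nhd_of_flat_affine (A := Γ(Y, V)) f₁ g₁ hg₁ y₁ ?_
  · intro x hx
    have hfx : f x = y := apply_eq_of_mem_component f g hx
    obtain ⟨x₁, hx₁1, hx₁2⟩ := Scheme.exists_preimage_of_isPullback hsq x y₁ (by rw [hfx, hy₁])
    have hxsc : x ∈ MoreMor.sectionComponents f g := (mem_sectionComponents_iff f g x y hfx).mpr hx
    have hx₁sc : x₁ ∈ MoreMor.sectionComponents f₁ g₁ := by
      rw [hsc]
      show ι x₁ ∈ MoreMor.sectionComponents f g
      rw [hx₁1]
      exact hxsc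
    have hx₁c : x₁ ∈ connectedComponentIn (f₁ ⁻¹' {y₁}) (g₁ y₁) :=
      (mem_sectionComponents_iff f₁ g₁ x₁ y₁ hx₁2).mp hx₁sc
    have := mem_interior_of_image f g f₁ g₁ ι j hsq.w.symm hg₁ι x₁ (key hx₁c)
    rwa [hx₁1] at this
  · intro x₁ hx₁
    have hfx₁ : f₁ x₁ = y₁ := apply_eq_of_mem_component f₁ g₁ hx₁
    rw [isGeomReducedAt_asFiber_iff_of_isPullback hsq x₁]
    have hx₁sc : x₁ ∈ MoreMor.sectionComponents f₁ g₁ :=
      (mem_sectionComponents_iff f₁ g₁ x₁ y₁ hfx₁).mpr hx₁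
    rw [hsc] at hx₁sc
    have hfιx₁ : f (ι x₁) = y := by rw [hfp, hfx₁, hy₁]
    have hιc : ι x₁ ∈ connectedComponentIn (f ⁻¹' {y}) (g y) :=
      (mem_sectionComponents_iff f g (ι x₁) y hfιx₁).mp hx₁sc
    -- the point of the fibre over `y`
    obtain ⟨x', hx'⟩ : ∃ x' : ↥(f.fiber y), f.fiberι y x' = ι x₁ := by
      have : ι x₁ ∈ Set.range (f.fiberι y) := by
        rw [Scheme.Hom.range_fiberι]
        exact hfιx₁
      exact this
    have h1 := hred x' (hx' ▸ hιc)
    exact isGeomReducedAt_fiber_congr f hfιx₁.symm x' (f.asFiber (ι x₁))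
      (by rw [hx', f.fiberι_asFiber]) h1

/-- The version with a geometrically reduced fibre. -/
theorem nhd_of_flat_of_geometricallyReduced {X Y : Scheme.{u}} (f : X ⟶ Y) [Flat f]
    [LocallyOfFinitePresentation f] [QuasiCompact f] [QuasiSeparated f] (g : Y ⟶ X)
    (hg : g ≫ f = 𝟙 Y) (y : Y) (hy : GeometricallyReduced (f.fiberToSpecResidueField y)) :
    connectedComponentIn (f ⁻¹' {y}) (g y) ⊆ interior (MoreMor.sectionComponents f g) := by
  refine nhd_of_flat f g hg y fun x' _ ↦ ?_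
  intro K _ _ z _
  haveI : IsReduced (FBase.bc (f.fiberToSpecResidueField y) K) :=
    GeometricallyReduced.geometrically_isReduced _ _ _ (.of_hasPullback _ _)
  infer_instance

end Groth.Agent.Lib.helper9.SecFlat
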