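/-
Helper library (helper9): `X⁰` is open for a smooth morphism with a section whose source is
quasi-separated (no quasi-compactness).
-/
import Groth.Agent.Lib.Helper9.SecFlat4
import Groth.Agent.Lib.Helper9.SecSpread4

set_option autoImplicit false
set_option linter.style.haveILetI false
set_option backward.isDefEq.respectTransparency false

namespace Groth.Agent.Lib.helper9.SecFlat

open AlgebraicGeometry CategoryTheory Limits TopologicalSpace

universe u

/-- Smooth case over an affine base: every point of `X⁰` is interior. -/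
theorem subset_interior_of_smooth_affine {A : Type u} [CommRing A] {X : Scheme.{u}}
    (f : X ⟶ Spec (CommRingCat.of A)) [Smooth f] [QuasiCompact f] [QuasiSeparated f]
    (g : Spec (CommRingCat.of A) ⟶ X) (hg : g ≫ f = 𝟙 _) :
    MoreMor.sectionComponents f g ⊆ interior (MoreMor.sectionComponents f g) := by
  intro x hx
  have hxc := (mem_sectionComponents_iff f g x (f x) rfl).mp hx
  refine nhd_of_flat_affine f g hg (f x) ?_ hxc
  intro x' _
  haveI : Smooth (f.fiberToSpecResidueField (f x')) :=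
    MorphismProperty.pullback_snd (P := @Smooth) _ _ inferInstance
  exact isGeomReducedAt_of_smooth (k := (Spec (CommRingCat.of A)).residueField (f x'))
    (f.fiberToSpecResidueField (f x')) (f.asFiber x')

/-- **`X⁰` is open for a smooth morphism with quasi-separated source** (no quasi-compactness). -/
theorem isOpen_of_smooth {X Y : Scheme.{u}} [QuasiSeparatedSpace ↥X] (f : X ⟶ Y) [Smooth f]
    (g : Y ⟶ X) (hg : g ≫ f = 𝟙 Y) : IsOpen (MoreMor.sectionComponents f g) := by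
  classical
  rw [← subset_interior_iff_isOpen]
  intro ζ hζ
  have hfg : ∀ y : Y, f (g y) = y := fun y => by
    rw [← Scheme.Hom.comp_apply, hg]; rfl
  set η : Y := f ζ with hη
  obtain ⟨W, hW, hηW, -⟩ := exists_isAffineOpen_mem_and_subset (x := η) (U := ⊤) trivial
  have hgC : g η ∈ connectedComponentIn (f ⁻¹' {η}) (g η) := mem_connectedComponentIn (hfg η)
  obtain ⟨𝒪, h𝒪, S, hS, hSs, hζS, hgS⟩ :=
    Groth.Agent.Lib.helper9.SecSpread.exists_finset_affineOpens_isPreconnected f η W hηW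
      (connectedComponentIn (f ⁻¹' {η}) (g η)) isPreconnected_connectedComponentIn
      (connectedComponentIn_subset _ _) ζ (g η) hζ hgC
  -- the open `U`
  set U : X.Opens := ⟨⋃ O ∈ 𝒪, (O : Set X), isOpen_biUnion (fun O _ => O.isOpen)⟩ with hU
  have hmemU : ∀ x : X, x ∈ U ↔ ∃ O ∈ 𝒪, x ∈ O := by
    intro x
    change x ∈ ⋃ O ∈ 𝒪, (O : Set X) ↔ _
    rw [Set.mem_iUnion₂]
    constructor
    · rintro ⟨O, hO, hx⟩
      exact ⟨O, hO, hx⟩
    · rintro ⟨O, hO, hx⟩
      exact ⟨O, hO, hx⟩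
  have hgηU : η ∈ g ⁻¹ᵁ U := (hSs hgS).1
  obtain ⟨s, hsle, hηs⟩ := hW.exists_basicOpen_le (V := g ⁻¹ᵁ U) ⟨η, hgηU⟩ hηW
  set V : Y.Opens := Y.basicOpen s with hVdef
  have hV : IsAffineOpen V := hW.basicOpen s
  have hηV : η ∈ V := hηs
  -- the charts
  set O' : ↥𝒪 → X.Opens := fun j => (j : X.Opens) ⊓ f ⁻¹ᵁ V with hO'def
  have hO' : ∀ j, IsAffineOpen (O' j) := by
    intro j
    have h1 := (h𝒪 j.1 j.2).1.basicOpen (f.appLE W j.1 (h𝒪 j.1 j.2).2 s)
    rw [Scheme.basicOpen_appLE] at h1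
    exact h1
  have e' : ∀ j, O' j ≤ f ⁻¹ᵁ V := fun j => inf_le_right
  set U₁ : X.Opens := ⨆ j, O' j with hU₁
  have hmemU₁ : ∀ x : X, x ∈ U₁ ↔ ∃ j, x ∈ O' j := fun x => Opens.mem_iSup
  have hU₁V : ∀ x : X, x ∈ U₁ → f x ∈ V := by
    intro x hx
    obtain ⟨j, hj⟩ := (hmemU₁ x).mp hx
    exact (e' j) hj
  have hUU₁ : ∀ x : X, x ∈ U → f x ∈ V → x ∈ U₁ := by
    intro x hx hfx
    obtain ⟨O, hO, hxO⟩ := (hmemU x).mp hx
    exact (hmemU₁ x).mpr ⟨⟨O, hO⟩, ⟨hxO, hfx⟩⟩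
  -- `U₁` is quasi-compact and quasi-separated
  haveI : CompactSpace ↥U₁.toScheme := by
    refine isCompact_iff_compactSpace.mp ?_
    have : (U₁ : Set X) = ⋃ j, (O' j : Set X) := by
      rw [hU₁]
      simp
    rw [this]
    exact isCompact_iUnion fun j => (hO' j).isCompact
  haveI : QuasiSeparatedSpace ↥U₁.toScheme :=
    QuasiSeparatedSpace.of_isOpenEmbedding U₁.ι.isOpenEmbedding
  -- the restricted morphisms
  have hr₁ : Set.range (U₁.ι ≫ f) ⊆ Set.range hV.fromSpec := by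
    rintro _ ⟨x₁, rfl⟩
    rw [hV.range_fromSpec, Scheme.Hom.comp_apply]
    exact hU₁V _ x₁.2
  set f₁ : U₁.toScheme ⟶ Spec Γ(Y, V) := IsOpenImmersion.lift hV.fromSpec (U₁.ι ≫ f) hr₁ with hf₁
  have hf₁fac : f₁ ≫ hV.fromSpec = U₁.ι ≫ f := IsOpenImmersion.lift_fac _ _ _
  have hr₂ : Set.range (hV.fromSpec ≫ g) ⊆ Set.range U₁.ι := by
    rintro _ ⟨t, rfl⟩
    rw [Scheme.Opens.range_ι, Scheme.Hom.comp_apply]
    have htV : hV.fromSpec t ∈ V := by
      have : hV.fromSpec t ∈ Set.range hV.fromSpec := ⟨t, rfl⟩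
      rw [hV.range_fromSpec] at this
      exact this
    apply hUU₁
    · exact hsle htV
    · rw [hfg]
      exact htV
  set g₁ : Spec Γ(Y, V) ⟶ U₁.toScheme := IsOpenImmersion.lift U₁.ι (hV.fromSpec ≫ g) hr₂ with hg₁
  have hg₁fac : g₁ ≫ U₁.ι = hV.fromSpec ≫ g := IsOpenImmersion.lift_fac _ _ _
  have hg₁f₁ : g₁ ≫ f₁ = 𝟙 _ := by
    rw [← cancel_mono hV.fromSpec, Category.assoc, hf₁fac, ← Category.assoc, hg₁fac,
      Category.assoc, hg, Category.comp_id, Category.id_comp]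
  haveI : Smooth f₁ := by
    refine MorphismProperty.of_postcomp (W := @Smooth) (W' := @IsOpenImmersion) f₁ hV.fromSpec
      inferInstance ?_
    rw [hf₁fac]
    infer_instance
  -- the point `ζ₁`
  have hζU₁ : ζ ∈ U₁ := hUU₁ ζ (hSs hζS).1 hηV
  set ζ₁ : U₁.toScheme := ⟨ζ, hζU₁⟩ with hζ₁
  have hιζ₁ : U₁.ι ζ₁ = ζ := rfl
  have hjinj : Function.Injective hV.fromSpec := hV.fromSpec.isOpenEmbedding.injective
  have hfp : ∀ t : U₁.toScheme, f (U₁.ι t) = hV.fromSpec (f₁ t) := fun t => by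
    rw [← Scheme.Hom.comp_apply, ← Scheme.Hom.comp_apply, hf₁fac]
  have hgp : ∀ t : Spec Γ(Y, V), g (hV.fromSpec t) = U₁.ι (g₁ t) := fun t => by
    rw [← Scheme.Hom.comp_apply, ← Scheme.Hom.comp_apply, hg₁fac]
  have hζ₁0 : ζ₁ ∈ MoreMor.sectionComponents f₁ g₁ := by
    set S₁ : Set U₁.toScheme := U₁.ι ⁻¹' S with hS₁
    have hSrange : S ⊆ Set.range U₁.ι := by
      intro x hx
      rw [Scheme.Opens.range_ι]
      apply hUU₁ x (hSs hx).1
      have : f x = η := (hSs hx).2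
      rw [this]
      exact hηV
    have hS₁pre : _root_.IsPreconnected S₁ := by
      rw [← U₁.ι.isOpenEmbedding.isInducing.isPreconnected_image,
        Set.image_preimage_eq_of_subset hSrange]
      exact hS
    have hS₁sub : S₁ ⊆ f₁ ⁻¹' {f₁ ζ₁} := by
      intro t ht
      rw [Set.mem_preimage, Set.mem_singleton_iff]
      apply hjinj
      rw [← hfp, ← hfp, hιζ₁]
      exact (hSs ht).2
    have hg₁S₁ : g₁ (f₁ ζ₁) ∈ S₁ := by
      rw [hS₁, Set.mem_preimage, ← hgp, ← hfp, hιζ₁]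
      exact hgS
    exact hS₁pre.subset_connectedComponentIn hg₁S₁ hS₁sub hζS
  have h1 := subset_interior_of_smooth_affine (A := Γ(Y, V)) f₁ g₁ hg₁f₁ hζ₁0
  have h2 := mem_interior_of_image f g f₁ g₁ U₁.ι hV.fromSpec hf₁fac hg₁fac ζ₁ h1
  rwa [hιζ₁] at h2

end Groth.Agent.Lib.helper9.SecFlat
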