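/-
Helper library (helper9): connected components of spectral spaces.
-/
import Groth.Agent.Lib.Helper9.SpectralCons

set_option autoImplicit false
set_option linter.style.haveILetI false

namespace Groth.Agent.Lib.helper9

open Topology TopologicalSpace Set

universe u

variable {X : Type u} [tX : TopologicalSpace X]

/-- In a quasi-compact space with a basis of quasi-compact opens stable under finite intersection,
the connected component of a point is the intersection of its clopen neighbourhoods. -/
theorem connectedComponent_eq_iInter_isClopen_of_spectral [CompactSpace X] [PrespectralSpace X]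
    [QuasiSeparatedSpace X] (x : X) :
    connectedComponent x = ⋂ s : { s : Set X // IsClopen s ∧ x ∈ s }, s := by
  apply Subset.antisymm connectedComponent_subset_iInter_isClopen
  refine IsPreconnected.subset_connectedComponent ?_ (mem_iInter.2 fun s => s.2.2)
  have hs : @IsClosed X _ (⋂ s : { s : Set X // IsClopen s ∧ x ∈ s }, s) :=
    isClosed_iInter fun s => s.2.1.1
  rw [isPreconnected_iff_subset_of_fully_disjoint_closed hs]
  intro a b ha hb hab ab_disj
  -- separate by compact opens
  obtain ⟨u, huc, hu, hau, hub⟩ := PrespectralSpace.exists_isCompact_and_isOpen_between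
    ha.isCompact hb.isOpen_compl (fun y hy => Set.disjoint_left.mp ab_disj hy)
  obtain ⟨v, hvc, hv, hbv, hva⟩ := PrespectralSpace.exists_isCompact_and_isOpen_between
    hb.isCompact ha.isOpen_compl (fun y hy => Set.disjoint_right.mp ab_disj hy)
  have huvc : IsCompact (u ∩ v) := QuasiSeparatedSpace.inter_isCompact u v hu huc hv hvc
  have hK : IsCompact ((u ∪ v)ᶜ ∪ (u ∩ v)) :=
    (hu.union hv).isClosed_compl.isCompact.union huvc
  have hxS : x ∈ ⋂ s : { s : Set X // IsClopen s ∧ x ∈ s }, (s : Set X) :=
    mem_iInter.2 fun i => i.2.2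
  have hKS : Disjoint ((u ∪ v)ᶜ ∪ (u ∩ v))
      (⋂ s : { s : Set X // IsClopen s ∧ x ∈ s }, (s : Set X)) := by
    rw [Set.disjoint_left]
    rintro y (hy | hy) hyS
    · exact hy ((hab hyS).imp (fun h => hau h) (fun h => hbv h))
    · rcases hab hyS with h | h
      · exact hva hy.2 h
      · exact hub hy.1 h
  obtain ⟨s, hsclopen, hxs, hsK⟩ : ∃ s : Set X, IsClopen s ∧ x ∈ s ∧
      Disjoint ((u ∪ v)ᶜ ∪ (u ∩ v)) s := by
    have H1 := hK.inter_iInter_nonempty
      (fun s : { s : Set X // IsClopen s ∧ x ∈ s } => s) fun s => s.2.1.1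
    rw [← not_disjoint_iff_nonempty_inter, imp_not_comm, not_forall] at H1
    obtain ⟨si, H2⟩ := H1 hKS
    refine ⟨⋂ U ∈ si, Subtype.val U, ?_, ?_, ?_⟩
    · exact isClopen_biInter_finset fun s _ => s.2.1
    · exact mem_iInter₂.2 fun s _ => s.2.2
    · rwa [disjoint_iff_inter_eq_empty, ← not_nonempty_iff_eq_empty]
  have hsuv : s ⊆ u ∪ v := fun y hy => by
    by_contra h
    exact Set.disjoint_left.mp hsK (Or.inl h) hy
  have hsuv' : ∀ y ∈ s, y ∈ u → y ∈ v → False := fun y hy h1 h2 =>
    Set.disjoint_left.mp hsK (Or.inr ⟨h1, h2⟩) hy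
  have H1 : IsClopen (s ∩ u) := by
    refine ⟨?_, hsclopen.2.inter hu⟩
    have : s ∩ u = s ∩ vᶜ := by
      ext y
      constructor
      · rintro ⟨h1, h2⟩
        exact ⟨h1, fun h3 => hsuv' y h1 h2 h3⟩
      · rintro ⟨h1, h2⟩
        exact ⟨h1, (hsuv h1).resolve_right h2⟩
    rw [this]
    exact hsclopen.1.inter hv.isClosed_compl
  have H2 : IsClopen (s ∩ v) := by
    refine ⟨?_, hsclopen.2.inter hv⟩
    have : s ∩ v = s ∩ uᶜ := by
      ext y
      constructor
      · rintro ⟨h1, h2⟩
        exact ⟨h1, fun h3 => hsuv' y h1 h3 h2⟩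
      · rintro ⟨h1, h2⟩
        exact ⟨h1, (hsuv h1).resolve_left h2⟩
    rw [this]
    exact hsclopen.1.inter hu.isClosed_compl
  by_cases hxu : x ∈ u
  · left
    have hsub : ⋂ s : { s : Set X // IsClopen s ∧ x ∈ s }, (s : Set X) ⊆ s ∩ u :=
      iInter_subset (fun s : { s : Set X // IsClopen s ∧ x ∈ s } => s.1) ⟨s ∩ u, H1, hxs, hxu⟩
    intro y hy
    rcases hab hy with h | h
    · exact h
    · exact absurd h (hub (hsub hy).2)
  · right
    have hxv : x ∈ v := (hsuv hxs).resolve_left hxu
    have hsub : ⋂ s : { s : Set X // IsClopen s ∧ x ∈ s }, (s : Set X) ⊆ s ∩ v :=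
      iInter_subset (fun s : { s : Set X // IsClopen s ∧ x ∈ s } => s.1) ⟨s ∩ v, H2, hxs, hxv⟩
    intro y hy
    rcases hab hy with h | h
    · exact absurd h (hva (hsub hy).2)
    · exact h

/-- In a spectral space, an open set containing a connected component contains a clopen
neighbourhood of that component. -/
theorem exists_isClopen_of_connectedComponent_subset [CompactSpace X] [PrespectralSpace X]
    [QuasiSeparatedSpace X] (x : X) {U : Set X} (hU : IsOpen U)
    (hsub : connectedComponent x ⊆ U) :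
    ∃ V : Set X, IsClopen V ∧ x ∈ V ∧ V ⊆ U := by
  rw [connectedComponent_eq_iInter_isClopen_of_spectral x] at hsub
  have H1 := hU.isClosed_compl.isCompact.inter_iInter_nonempty
    (fun s : { s : Set X // IsClopen s ∧ x ∈ s } => s) fun s => s.2.1.1
  rw [← not_disjoint_iff_nonempty_inter, imp_not_comm, not_forall] at H1
  obtain ⟨si, H2⟩ := H1 (disjoint_compl_left_iff_subset.2 hsub)
  refine ⟨⋂ U ∈ si, Subtype.val U, ?_, ?_, ?_⟩
  · exact isClopen_biInter_finset fun s _ => s.2.1
  · exact mem_iInter₂.2 fun s _ => s.2.2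
  · rwa [← disjoint_compl_left_iff_subset, disjoint_iff_inter_eq_empty,
      ← not_nonempty_iff_eq_empty]

end Groth.Agent.Lib.helper9
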