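/-
Helper library (helper9): an integral ring map from an integrally closed domain admitting a
"rational retraction" into its fraction field is bijective; affine morphisms that are bijective
on sections over affine opens are isomorphisms.
-/
import Mathlib

set_option autoImplicit false
set_option linter.style.haveILetI false

namespace Groth.Agent.Lib.helper9

open AlgebraicGeometry CategoryTheory

universe u

/-- Let `φ : A → B` be an integral ring map into a domain, `A` integrally closed with fraction field
`K`, and `σ : B → K` a ring map with `σ ∘ φ` the canonical map. Then `φ` is bijective. -/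
theorem bijective_of_isIntegral_of_retraction {A B K : Type*} [CommRing A] [CommRing B]
    [IsDomain B] [Field K] [Algebra A K] [IsFractionRing A K] [IsIntegrallyClosed A]
    (φ : A →+* B) (hφ : φ.IsIntegral) (σ : B →+* K) (hσ : σ.comp φ = algebraMap A K) :
    Function.Bijective φ := by
  have hσ' : ∀ a, σ (φ a) = algebraMap A K a := fun a => by rw [← hσ]; rfl
  have hinjφ : Function.Injective φ := by
    intro a a' h
    apply IsFractionRing.injective A K
    rw [← hσ' a, ← hσ' a', h]
  letI := φ.toAlgebra
  haveI : Algebra.IsIntegral A B := ⟨hφ⟩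
  haveI : Nontrivial A :=
    ⟨⟨0, 1, fun h => zero_ne_one (α := K) (by rw [← map_zero (algebraMap A K), h, map_one])⟩⟩
  have hker : RingHom.ker σ = ⊥ := by
    apply Ideal.eq_bot_of_comap_eq_bot (R := A)
    ext a
    simp only [Ideal.mem_comap, RingHom.mem_ker, Ideal.mem_bot]
    show σ (φ a) = 0 ↔ a = 0
    rw [hσ' a]
    exact (map_eq_zero_iff _ (IsFractionRing.injective A K))
  have hinjσ : Function.Injective σ := (RingHom.injective_iff_ker_eq_bot σ).mpr hker
  refine ⟨hinjφ, fun b => ?_⟩
  have hb : IsIntegral A (σ b) := by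
    obtain ⟨p, hp, hpb⟩ := hφ b
    refine ⟨p, hp, ?_⟩
    rw [← hσ, ← Polynomial.hom_eval₂, hpb, map_zero]
  obtain ⟨a, ha⟩ := IsIntegrallyClosed.algebraMap_eq_of_integral hb
  exact ⟨a, hinjσ (by rw [hσ' a, ha])⟩

/-- An affine morphism inducing bijections on sections over all affine opens of the target is an
isomorphism. -/
theorem isIso_of_forall_bijective_app {X Y : Scheme.{u}} (f : X ⟶ Y) [IsAffineHom f]
    (h : ∀ U : Y.Opens, IsAffineOpen U → Function.Bijective (f.app U).hom) : IsIso f := by
  have key : ∀ U : Y.affineOpens, MorphismProperty.isomorphisms Scheme (f ∣_ U.1) := by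
    intro U
    have h1 : IsIso (f.app U.1) := (ConcreteCategory.isIso_iff_bijective _).mpr (h U.1 U.2)
    exact (isIso_morphismRestrict_iff_isIso_app f U.2).mpr h1
  exact (IsZariskiLocalAtTarget.iff_of_iSup_eq_top (P := MorphismProperty.isomorphisms Scheme)
    (fun U : Y.affineOpens => U.1) (iSup_affineOpens_eq_top Y)).mpr key

/-- Sections over the empty open form a trivial ring, so any map on them is bijective. -/
theorem bijective_app_of_isEmpty {X Y : Scheme.{u}} (f : X ⟶ Y) (U : Y.Opens)
    (hU : ¬ Nonempty U) : Function.Bijective (f.app U).hom := by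
  have hU' : U = ⊥ := by
    rw [eq_bot_iff]
    intro x hx
    exact (hU ⟨⟨x, hx⟩⟩).elim
  subst hU'
  haveI : Subsingleton Γ(Y, ⊥) := inferInstance
  haveI : Subsingleton Γ(X, f ⁻¹ᵁ ⊥) := by
    rw [Scheme.Hom.preimage_bot]; infer_instance
  exact ⟨fun a b _ => Subsingleton.elim a b, fun b => ⟨0, Subsingleton.elim _ _⟩⟩

end Groth.Agent.Lib.helper9
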