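/-
Helper library (helper9): local form of Zariski's main theorem for birational extensions over a
normal point (commutative algebra core).
-/
import Mathlib

set_option autoImplicit false

namespace Groth.Agent.Lib.helper9

open scoped Pointwise

/-- Let `A → B` be a finite type algebra with `B` a domain, `σ : B → K` an injective ring map
compatible with a map `A → K`, and `q` a prime of `B` at which `B` is quasi-finite over `A`.
Assume that every element of `K` integral over `A` becomes an element of `A` after multiplication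
by some `s ∈ A` not in `q` (normality of `A` at the prime below `q`). Then there is `s ∈ A` not
in `q` with `B[1/s] = A[1/s]`: every `b : B` satisfies `s ^ n * b ∈ A` for some `n`. -/
theorem exists_pow_mul_mem_range_of_quasiFiniteAt
    {A B K : Type*} [CommRing A] [CommRing B] [IsDomain B] [Algebra A B] [Algebra.FiniteType A B]
    [CommRing K] [Algebra A K] (σ : B →+* K) (hσinj : Function.Injective σ)
    (hσ : σ.comp (algebraMap A B) = algebraMap A K)
    (q : Ideal B) [q.IsPrime] [Algebra.QuasiFiniteAt A q]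
    (hnorm : ∀ z : K, IsIntegral A z → ∃ s : A, algebraMap A B s ∉ q ∧
      ∃ a : A, algebraMap A K s * z = algebraMap A K a) :
    ∃ s : A, algebraMap A B s ∉ q ∧
      ∀ b : B, ∃ (n : ℕ) (a : A), algebraMap A B a = algebraMap A B s ^ n * b := by
  classical
  have hσ' : ∀ a, σ (algebraMap A B a) = algebraMap A K a := fun a => by rw [← hσ]; rfl
  obtain ⟨S', hS'fg, r, hrq, hbij⟩ :=
    Algebra.QuasiFiniteAt.exists_fg_and_exists_notMem_and_awayMap_bijective (R := A) q
  -- Step 1: elements of `S'` are in `A` after multiplying by some `s ∉ q`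
  have step1 : ∀ c : B, c ∈ S' → ∃ s : A, algebraMap A B s ∉ q ∧
      ∃ a : A, algebraMap A B a = algebraMap A B s * c := by
    intro c hc
    have hint : IsIntegral A c := IsIntegral.of_mem_of_fg S' hS'fg c hc
    have hint' : IsIntegral A (σ c) := by
      obtain ⟨p, hp, hpc⟩ := hint
      refine ⟨p, hp, ?_⟩
      rw [← hσ, ← Polynomial.hom_eval₂, hpc, map_zero]
    obtain ⟨s, hs, a, ha⟩ := hnorm (σ c) hint'
    refine ⟨s, hs, a, hσinj ?_⟩
    rw [map_mul, hσ' a, hσ' s, ha]
  -- Step 2: a common multiplier for all of `S'`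
  obtain ⟨t, ht⟩ := hS'fg
  have step2 : ∃ s₁ : A, algebraMap A B s₁ ∉ q ∧
      ∀ c : B, c ∈ S' → ∃ a : A, algebraMap A B a = algebraMap A B s₁ * c := by
    have hgen : ∀ c ∈ t, c ∈ S' := by
      intro c hc
      have : c ∈ Subalgebra.toSubmodule S' := by
        rw [← ht]; exact Submodule.subset_span hc
      exact this
    choose! sf hsf af haf using fun c (hc : c ∈ t) => step1 c (hgen c hc)
    refine ⟨∏ c ∈ t, sf c, ?_, ?_⟩
    · rw [map_prod]
      intro hmem
      obtain ⟨c, hc, hcq⟩ := (Ideal.IsPrime.prod_mem_iff).mp hmem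
      exact hsf c hc hcq
    · have key : ∀ c ∈ Submodule.span A (t : Set B),
          ∃ a : A, algebraMap A B a = algebraMap A B (∏ c ∈ t, sf c) * c := by
        intro c hc'
        induction hc' using Submodule.span_induction with
        | mem x hx =>
          refine ⟨(∏ d ∈ t.erase x, sf d) * af x, ?_⟩
          rw [map_mul, haf x hx, ← Finset.mul_prod_erase t sf hx, map_mul, map_prod]
          ring
        | zero => exact ⟨0, by simp⟩
        | add x y _ _ hx hy =>
          obtain ⟨a, ha⟩ := hx
          obtain ⟨a', ha'⟩ := hy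
          exact ⟨a + a', by rw [map_add, ha, ha', mul_add]⟩
        | smul a' x _ hx =>
          obtain ⟨a, ha⟩ := hx
          exact ⟨a' * a, by rw [map_mul, ha, Algebra.smul_def]; ring⟩
      intro c hc
      exact key c (by rw [ht]; exact hc)
  obtain ⟨s₁, hs₁q, hs₁⟩ := step2
  -- Step 3
  obtain ⟨a₀, ha₀⟩ := hs₁ r.1 r.2
  have ha₀q : algebraMap A B a₀ ∉ q := by
    rw [ha₀]
    intro hmem
    rcases (Ideal.IsPrime.mem_or_mem ‹q.IsPrime› hmem) with h | h
    · exact hs₁q h
    · exact hrq h
  have hr0 : (r.1 : B) ≠ 0 := fun h => hrq (h ▸ q.zero_mem)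
  refine ⟨s₁ * a₀, ?_, ?_⟩
  · rw [map_mul]
    intro hmem
    rcases (Ideal.IsPrime.mem_or_mem ‹q.IsPrime› hmem) with h | h
    · exact hs₁q h
    · exact ha₀q h
  -- Step 4
  intro b
  obtain ⟨z, hz⟩ := hbij.2 (algebraMap B (Localization.Away (S'.val.toRingHom r)) b)
  obtain ⟨⟨c, ⟨_, n, rfl⟩⟩, hc⟩ := IsLocalization.surj (Submonoid.powers r) z
  -- `z * r^n = c` in the localization of `S'`
  have h1 : Localization.awayMap S'.val.toRingHom r z *
      algebraMap B (Localization.Away (S'.val.toRingHom r)) ((r.1 : B) ^ n) =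
      algebraMap B (Localization.Away (S'.val.toRingHom r)) (c.1 : B) := by
    have h2 := congrArg (Localization.awayMap S'.val.toRingHom r) hc
    rw [map_mul] at h2
    have h3 : ∀ x : S', Localization.awayMap S'.val.toRingHom r (algebraMap S' _ x) =
        algebraMap B (Localization.Away (S'.val.toRingHom r)) (x.1 : B) := by
      intro x
      exact IsLocalization.map_eq _ x
    rw [h3, h3] at h2
    simpa using h2
  rw [hz, ← map_mul] at h1
  have hr0' : S'.val.toRingHom r ≠ 0 := hr0
  have hinj : Function.Injective (algebraMap B (Localization.Away (S'.val.toRingHom r))) :=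
    IsLocalization.injective (M := Submonoid.powers (S'.val.toRingHom r)) _
      (powers_le_nonZeroDivisors_of_noZeroDivisors hr0')
  have h4 : b * (r.1 : B) ^ n = (c.1 : B) := hinj h1
  obtain ⟨a, ha⟩ := hs₁ c.1 c.2
  refine ⟨n + 1, s₁ ^ n * a₀ * (s₁ ^ n * a), ?_⟩
  have h5 : algebraMap A B a₀ ^ n * b = algebraMap A B s₁ ^ n * (c.1 : B) := by
    rw [ha₀, mul_pow, ← h4]; ring
  calc algebraMap A B (s₁ ^ n * a₀ * (s₁ ^ n * a))
      = algebraMap A B s₁ ^ n * algebraMap A B a₀ *
          (algebraMap A B s₁ ^ n * (algebraMap A B s₁ * (c.1 : B))) := by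
        simp only [map_mul, map_pow, ha]
    _ = algebraMap A B s₁ ^ (n + 1) * algebraMap A B a₀ *
          (algebraMap A B s₁ ^ n * (c.1 : B)) := by ring
    _ = algebraMap A B s₁ ^ (n + 1) * algebraMap A B a₀ * (algebraMap A B a₀ ^ n * b) := by
        rw [h5]
    _ = algebraMap A B (s₁ * a₀) ^ (n + 1) * b := by
        rw [map_mul]; ring

end Groth.Agent.Lib.helper9
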