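/-
Helper library (helper9): local form of Zariski's main theorem for birational morphisms at a
point that is quasi-finite over a normal point (scheme level).
-/
import Groth.Agent.Lib.Helper9.ZMTLocal

set_option autoImplicit false

namespace Groth.Agent.Lib.helper9

open AlgebraicGeometry CategoryTheory TopologicalSpace

universe u

variable {X Y : Scheme.{u}} [IsIntegral X] [IsIntegral Y]

/-- Let `f : X ⟶ Y` be a birational morphism of integral schemes, locally of finite type, and
let `x : X` be a point at which `f` is quasi-finite and such that `𝒪_{Y, f x}` is integrally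
closed. Then there are opens `x ∈ U₁ ⊆ f⁻¹ V₁` such that `U₁ ⟶ V₁` is an isomorphism. -/
theorem exists_isIso_resLE_of_quasiFiniteAt_of_normal_point
    (f : X ⟶ Y) [LocallyOfFiniteType f]
    (hgen : f (genericPoint X) = genericPoint Y) (hbir : IsIso (f.stalkMap (genericPoint X)))
    (x : X) (hN : IsIntegrallyClosed (Y.presheaf.stalk (f x))) (hq : f.QuasiFiniteAt x) :
    ∃ (U₁ : X.Opens) (V₁ : Y.Opens) (e : U₁ ≤ f ⁻¹ᵁ V₁), x ∈ U₁ ∧ IsIso (f.resLE V₁ U₁ e) := by
  obtain ⟨V, hV, hyV⟩ : ∃ V : Y.Opens, IsAffineOpen V ∧ f x ∈ V := by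
    obtain ⟨_, ⟨V, hV, rfl⟩, h, -⟩ :=
      Y.isBasis_affineOpens.exists_subset_of_mem_open (Set.mem_univ (f x)) isOpen_univ
    exact ⟨V, hV, h⟩
  obtain ⟨U, hU, hxU, e₀⟩ : ∃ U : X.Opens, IsAffineOpen U ∧ x ∈ U ∧ U ≤ f ⁻¹ᵁ V := by
    obtain ⟨_, ⟨U, hU, rfl⟩, h, h'⟩ :=
      X.isBasis_affineOpens.exists_subset_of_mem_open
        (show x ∈ ((f ⁻¹ᵁ V : X.Opens) : Set X) from hyV) (f ⁻¹ᵁ V).isOpen
    exact ⟨U, hU, h, h'⟩
  have hUne : Nonempty U := ⟨⟨x, hxU⟩⟩
  have hVne : Nonempty V := ⟨⟨f x, hyV⟩⟩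
  have hηU : genericPoint X ∈ U :=
    ((genericPoint_spec X).mem_open_set_iff U.isOpen).mpr (by simpa using hUne)
  have hsp : genericPoint Y ⤳ f (genericPoint X) := by rw [hgen]
  let σc : Γ(X, U) ⟶ Y.functionField :=
    X.presheaf.germ U (genericPoint X) hηU ≫ inv (f.stalkMap (genericPoint X)) ≫
      Y.presheaf.stalkSpecializes hsp
  have hσc : f.appLE V U e₀ ≫ σc = Y.germToFunctionField V := by
    show (f.app V ≫ X.presheaf.map (homOfLE e₀).op) ≫
      X.presheaf.germ U (genericPoint X) hηU ≫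
      inv (f.stalkMap (genericPoint X)) ≫ Y.presheaf.stalkSpecializes hsp = _
    rw [Category.assoc, ← Category.assoc (X.presheaf.map (homOfLE e₀).op),
      TopCat.Presheaf.germ_res, ← Category.assoc, ← Scheme.Hom.germ_stalkMap, Category.assoc,
      IsIso.hom_inv_id_assoc, TopCat.Presheaf.germ_stalkSpecializes]
  have hσinj : Function.Injective σc.hom := by
    have hsp' : f (genericPoint X) ⤳ genericPoint Y := by rw [hgen]
    have h1 : Y.presheaf.stalkSpecializes hsp ≫ Y.presheaf.stalkSpecializes hsp' = 𝟙 _ := by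
      rw [TopCat.Presheaf.stalkSpecializes_comp, TopCat.Presheaf.stalkSpecializes_refl]
    have h2 : Function.Injective (Y.presheaf.stalkSpecializes hsp).hom := by
      intro a b hab
      have h := congrArg (Y.presheaf.stalkSpecializes hsp').hom hab
      have h' : ∀ c, (Y.presheaf.stalkSpecializes hsp').hom
          ((Y.presheaf.stalkSpecializes hsp).hom c) = c := by
        intro c
        exact congrArg (fun g => g.hom c) h1
      rwa [h', h'] at h
    have h3 : Function.Injective (inv (f.stalkMap (genericPoint X))).hom :=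
      ((ConcreteCategory.isIso_iff_bijective (inv (f.stalkMap (genericPoint X)))).mp
        inferInstance).1
    have h4 : Function.Injective (X.presheaf.germ U (genericPoint X) hηU).hom :=
      germ_injective_of_isIntegral (X := X) (genericPoint X) hηU
    show Function.Injective (X.presheaf.germ U (genericPoint X) hηU ≫
      inv (f.stalkMap (genericPoint X)) ≫ Y.presheaf.stalkSpecializes hsp).hom
    rw [CommRingCat.hom_comp, CommRingCat.hom_comp]
    exact (h2.comp h3).comp h4
  let φ : Γ(Y, V) →+* Γ(X, U) := (f.appLE V U e₀).hom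
  let _ : Algebra Γ(Y, V) Γ(X, U) := φ.toAlgebra
  have hft : Algebra.FiniteType Γ(Y, V) Γ(X, U) := f.finiteType_appLE hV hU e₀
  let q : Ideal Γ(X, U) := (hU.primeIdealOf ⟨x, hxU⟩).asIdeal
  have hqf : Algebra.QuasiFiniteAt Γ(Y, V) q := hq.quasiFiniteAt hU hV e₀ hxU
  have hσ : σc.hom.comp (algebraMap Γ(Y, V) Γ(X, U)) = algebraMap Γ(Y, V) Y.functionField := by
    show σc.hom.comp (f.appLE V U e₀).hom = (Y.germToFunctionField V).hom
    rw [← CommRingCat.hom_comp, hσc]
  have hnorm : ∀ z : Y.functionField, IsIntegral Γ(Y, V) z →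
      ∃ s : Γ(Y, V), algebraMap Γ(Y, V) Γ(X, U) s ∉ q ∧
        ∃ a : Γ(Y, V), algebraMap Γ(Y, V) Y.functionField s * z =
          algebraMap Γ(Y, V) Y.functionField a := by
    intro z hz
    let y' : V := ⟨f x, hyV⟩
    let _ := Y.presheaf.algebra_section_stalk y'
    have hst := functionField_isScalarTower Y V y'
    have hloc := hV.isLocalization_stalk y'
    have hz' : IsIntegral (Y.presheaf.stalk (f x)) z := hz.tower_top
    obtain ⟨r, hr⟩ := IsIntegrallyClosed.isIntegral_iff.mp hz'
    obtain ⟨⟨a, s⟩, has⟩ := IsLocalization.surj (hV.primeIdealOf y').asIdeal.primeCompl r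
    refine ⟨s.1, ?_, a, ?_⟩
    · intro hmem
      have := IsAffineOpen.comap_primeIdealOf_appLE (f := f) V hV U hU e₀ hxU
      have h2 : (s.1 : Γ(Y, V)) ∈
          ((hU.primeIdealOf ⟨x, hxU⟩).comap (f.appLE V U e₀).hom).asIdeal := hmem
      rw [this] at h2
      exact s.2 h2
    · rw [← hr, IsScalarTower.algebraMap_apply Γ(Y, V) (Y.presheaf.stalk (f x)) Y.functionField,
        ← map_mul, mul_comm, has, ← IsScalarTower.algebraMap_apply]
  obtain ⟨s, hsq, hs⟩ := exists_pow_mul_mem_range_of_quasiFiniteAt σc.hom hσinj hσ q hnorm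
  have hφinj : Function.Injective φ := by
    have h1 : Function.Injective (σc.hom.comp φ) := by
      have : σc.hom.comp φ = (Y.germToFunctionField V).hom := hσ
      rw [this]
      exact Y.germToFunctionField_injective V
    exact Function.Injective.of_comp (f := σc.hom) h1
  have e₁ : X.basicOpen (f.appLE V U e₀ s) ≤ f ⁻¹ᵁ Y.basicOpen s := by
    simp [Scheme.Hom.appLE]
  refine ⟨X.basicOpen (f.appLE V U e₀ s), Y.basicOpen s, e₁, ?_, ?_⟩
  · rw [Scheme.mem_basicOpen X _ x hxU]
    let _ := X.presheaf.algebra_section_stalk (⟨x, hxU⟩ : U)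
    have hloc := hU.isLocalization_stalk ⟨x, hxU⟩
    exact IsLocalization.map_units (X.presheaf.stalk x)
      (⟨φ s, hsq⟩ : (hU.primeIdealOf ⟨x, hxU⟩).asIdeal.primeCompl)
  · have hU₁ : IsAffineOpen (X.basicOpen (f.appLE V U e₀ s)) := hU.basicOpen _
    have hV₁ : IsAffineOpen (Y.basicOpen s) := hV.basicOpen _
    have : IsAffine ((X.basicOpen (f.appLE V U e₀ s)) : Scheme) := hU₁
    have : IsAffine ((Y.basicOpen s) : Scheme) := hV₁
    have key : IsIso (f.appLE (Y.basicOpen s) (X.basicOpen (f.appLE V U e₀ s)) e₁) := by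
      rw [IsAffineOpen.appLE_eq_away_map f hV hU e₀ s]
      let _ := hV.isLocalization_basicOpen s
      let _ := hU.isLocalization_basicOpen (f.appLE V U e₀ s)
      rw [ConcreteCategory.isIso_iff_bijective]
      constructor
      · apply (IsLocalization.Away.map_injective_iff _ _ _).mpr
        intro a ha
        exact ⟨0, by rw [pow_zero, one_mul]; exact hφinj (ha.trans (map_zero φ).symm)⟩
      · apply (IsLocalization.Away.map_surjective_iff _ _ _ _).mpr
        intro b
        obtain ⟨n, a, h⟩ := hs b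
        exact ⟨a, n, h⟩
    rw [← MorphismProperty.isomorphisms.iff,
      HasAffineProperty.iff_of_isAffine (P := MorphismProperty.isomorphisms Scheme)]
    refine ⟨inferInstance, ?_⟩
    show IsIso ((f.resLE _ _ e₁).app ⊤)
    rw [Scheme.Hom.resLE_app_top]
    have h1 : IsIso (f.appLE (Y.basicOpen s) (X.basicOpen (f.appLE V U e₀ s)) e₁ ≫
        (X.basicOpen (f.appLE V U e₀ s)).topIso.inv) := by
      have h0 : IsIso (X.basicOpen (f.appLE V U e₀ s)).topIso.inv := inferInstance
      exact @IsIso.comp_isIso _ _ _ _ _ _ _ key h0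
    have h2 : IsIso (Y.basicOpen s).topIso.hom := inferInstance
    exact @IsIso.comp_isIso _ _ _ _ _ _ _ h2 h1

end Groth.Agent.Lib.helper9
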