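/-
Helper library (helper9): a separated birational morphism of integral schemes, locally of finite
type, is an isomorphism over a neighbourhood of every normal point having a point of its fibre
at which the morphism is quasi-finite.
-/
import Groth.Agent.Lib.Helper9.ZMTLocalScheme

set_option autoImplicit false

namespace Groth.Agent.Lib.helper9

open AlgebraicGeometry CategoryTheory TopologicalSpace

universe u

variable {X Y : Scheme.{u}} [IsIntegral X] [IsIntegral Y]

omit [IsIntegral Y] in
/-- If `f : X ⟶ Y` is separated with `X` integral and `U ⟶ V` is an isomorphism for some nonempty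
open `U ⊆ f⁻¹ V`, then `f⁻¹ V ⟶ V` is an isomorphism. -/
theorem isIso_morphismRestrict_of_isIso_resLE (f : X ⟶ Y) [IsSeparated f]
    (V : Y.Opens) (U : X.Opens) (e : U ≤ f ⁻¹ᵁ V) (hU : Nonempty U)
    (hiso : IsIso (f.resLE V U e)) : IsIso (f ∣_ V) := by
  set g := f.resLE V U e with hg
  have hj : X.homOfLE e ≫ f ∣_ V = g := by
    rw [← Scheme.Hom.resLE_eq_morphismRestrict, Scheme.Hom.map_resLE]
  set s : (V : Scheme.{u}) ⟶ (f ⁻¹ᵁ V : X.Opens) := inv g ≫ X.homOfLE e with hs
  have hsf : s ≫ f ∣_ V = 𝟙 _ := by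
    rw [hs, Category.assoc, hj, IsIso.inv_hom_id]
  have h1 : IsClosedImmersion (s ≫ f ∣_ V) := by rw [hsf]; infer_instance
  have h2 : IsClosedImmersion s := IsClosedImmersion.of_comp s (f ∣_ V)
  have h3 : IsOpenImmersion s := by rw [hs]; infer_instance
  have hne : Nonempty (f ⁻¹ᵁ V : X.Opens) := by
    obtain ⟨⟨x, hx⟩⟩ := hU
    exact ⟨⟨x, e hx⟩⟩
  have hint : IsIntegral ((f ⁻¹ᵁ V : X.Opens) : Scheme.{u}) := inferInstance
  have hclopen : IsClopen (Set.range s) :=
    ⟨s.isClosedEmbedding.isClosed_range, s.isOpenEmbedding.isOpen_range⟩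
  have hVne : Nonempty (V : Scheme.{u}) := by
    obtain ⟨⟨x, hx⟩⟩ := hU
    exact ⟨⟨f x, e hx⟩⟩
  have hrange : Set.range s = Set.univ :=
    hclopen.eq_univ (Set.range_nonempty _)
  have hsurj : Surjective s := ⟨Set.range_eq_univ.mp hrange⟩
  have hsiso : IsIso s := (isIso_iff_isOpenImmersion_and_surjective s).mpr ⟨h3, hsurj⟩
  have : f ∣_ V = inv s := by
    rw [← cancel_epi s, hsf, IsIso.hom_inv_id]
  rw [this]
  infer_instance

/-- Local form of Zariski's main theorem: a separated birational morphism `f : X ⟶ Y` of integral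
schemes, locally of finite type, which is quasi-finite at `x` with `𝒪_{Y, f x}` integrally closed,
is an isomorphism over an open neighbourhood of `f x`. -/
theorem exists_isIso_morphismRestrict_of_quasiFiniteAt_of_normal_point
    (f : X ⟶ Y) [IsSeparated f] [LocallyOfFiniteType f]
    (hgen : f (genericPoint X) = genericPoint Y) (hbir : IsIso (f.stalkMap (genericPoint X)))
    (x : X) (hN : IsIntegrallyClosed (Y.presheaf.stalk (f x))) (hq : f.QuasiFiniteAt x) :
    ∃ V : Y.Opens, f x ∈ V ∧ IsIso (f ∣_ V) := by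
  obtain ⟨U₁, V₁, e, hx, hiso⟩ :=
    exists_isIso_resLE_of_quasiFiniteAt_of_normal_point f hgen hbir x hN hq
  exact ⟨V₁, e hx, isIso_morphismRestrict_of_isIso_resLE f V₁ U₁ e ⟨⟨x, hx⟩⟩ hiso⟩

/-- A point of the fibre `f⁻¹(y)` which is isolated in the fibre is a point at which `f` is
quasi-finite. -/
theorem quasiFiniteAt_fiberι_of_isOpen_singleton {X Y : Scheme.{u}} (f : X ⟶ Y)
    [LocallyOfFiniteType f] (y : Y) (x : f.fiber y) (hx : IsOpen ({x} : Set (f.fiber y))) :
    f.QuasiFiniteAt (f.fiberι y x) := by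
  have key : ∀ (x' : X) (y : Y) (_ : f x' = y) (x : f.fiber y) (_ : f.fiberι y x = x'),
      IsOpen ({x} : Set (f.fiber y)) → f.QuasiFiniteAt x' := by
    intro x' y h x hxx' hopen
    subst h
    have hx_eq : x = f.asFiber x' := by
      apply (f.fiberι (f x')).isEmbedding.injective
      rw [hxx', Scheme.Hom.fiberι_asFiber]
    rw [Scheme.Hom.quasiFiniteAt_iff_isOpen_singleton_asFiber, ← hx_eq]
    exact hopen
  have hfx : f (f.fiberι y x) = y := by
    have : f.fiberι y x ∈ f ⁻¹' {y} := by
      rw [← Scheme.Hom.range_fiberι]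
      exact ⟨x, rfl⟩
    exact this
  exact key _ y hfx x rfl hx

end Groth.Agent.Lib.helper9
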