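/-
Helper library (helper9): consequences of Zariski's main theorem for morphisms `f` with
`𝒪_Y ≅ f_* 𝒪_X`, and the largest open over which a morphism is an isomorphism.
-/
import Groth.Agent.Lib.Helper9.ZMTLocalIso
import Groth.Agent.Lib.Helper9.IntegralSection

set_option autoImplicit false

namespace Groth.Agent.Lib.helper9

open AlgebraicGeometry CategoryTheory TopologicalSpace

universe u

variable {X Y : Scheme.{u}}

/-- The union of all opens over which `f` is an isomorphism is such an open. -/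
theorem exists_largest_isIso_morphismRestrict (f : X ⟶ Y) :
    ∃ V : Y.Opens, IsIso (f ∣_ V) ∧ ∀ V' : Y.Opens, IsIso (f ∣_ V') → V' ≤ V := by
  let ι := {V' : Y.Opens // IsIso (f ∣_ V')}
  let V : ι → Y.Opens := fun i => i.1
  let 𝒰 := Scheme.Opens.iSupOpenCover V
  have : IsIso (f ∣_ ⨆ x, V x) := by
    refine (IsZariskiLocalAtTarget.iff_of_openCover (P := .isomorphisms _) 𝒰).mpr fun x ↦ ?_
    refine (MorphismProperty.arrow_mk_iso_iff (.isomorphisms _)
      ((morphismRestrictRestrict ..).symm ≪≫ morphismRestrictOpensRange ..)).mp ?_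
    have : Scheme.Opens.ι _ ''ᵁ (𝒰.f x).opensRange = V x := by
      simp only [Scheme.Opens.iSupOpenCover, 𝒰, ← Scheme.Hom.opensRange_comp, Scheme.homOfLE_ι,
        Scheme.Opens.opensRange_ι]
    convert! x.2
  exact ⟨⨆ x, V x, this, fun V' hV' => le_iSup V ⟨V', hV'⟩⟩

/-- Transport of "isomorphism over an open" along an isomorphism of the targets. -/
theorem isIso_morphismRestrict_of_comp_iso {Z : Scheme.{u}} (g : X ⟶ Z) (h : Z ⟶ Y) [IsIso h]
    (f : X ⟶ Y) (hf : g ≫ h = f) (V' : Z.Opens) (hV' : IsIso (g ∣_ V')) :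
    IsIso (f ∣_ ((inv h) ⁻¹ᵁ V')) := by
  subst hf
  rw [morphismRestrict_comp]
  have heq : h ⁻¹ᵁ ((inv h) ⁻¹ᵁ V') = V' := by
    rw [← Scheme.Hom.comp_preimage, IsIso.hom_inv_id, Scheme.Hom.id_preimage]
  have h1 : IsIso (g ∣_ (h ⁻¹ᵁ ((inv h) ⁻¹ᵁ V'))) := by
    rw [heq]; exact hV'
  have h2 : IsIso (h ∣_ ((inv h) ⁻¹ᵁ V')) := inferInstance
  exact @IsIso.comp_isIso _ _ _ _ _ _ _ h1 h2

/-- If `𝒪_Y ⟶ f_* 𝒪_X` is bijective on affine opens, the relative normalization of `Y` in `X`
is `Y`. -/
theorem isIso_fromNormalization_of_bijective_app (f : X ⟶ Y) [QuasiCompact f] [QuasiSeparated f]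
    (hO : ∀ U : Y.Opens, IsAffineOpen U → Function.Bijective (f.app U).hom) :
    IsIso f.fromNormalization := by
  refine isIso_of_forall_bijective_app f.fromNormalization fun W hW => ?_
  have hinv : Function.Bijective (f.normalizationObjIso hW).inv.hom :=
    (ConcreteCategory.isIso_iff_bijective _).mp inferInstance
  rw [f.fromNormalization_app hW, CommRingCat.hom_comp]
  refine hinv.comp ?_
  let _ := (f.app W).hom.toAlgebra
  show Function.Bijective (algebraMap Γ(Y, W) (integralClosure Γ(Y, W) Γ(X, f ⁻¹ᵁ W)))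
  constructor
  · intro a b hab
    apply (hO W hW).1
    exact congrArg (fun c : integralClosure Γ(Y, W) Γ(X, f ⁻¹ᵁ W) => (c : Γ(X, f ⁻¹ᵁ W))) hab
  · intro c
    obtain ⟨a, ha⟩ := (hO W hW).2 c.1
    exact ⟨a, Subtype.ext ha⟩

/-- Zariski's main theorem for `𝒪_Y ≅ f_* 𝒪_X`: if `f` is separated of finite type, induces
bijections on sections over affine opens, and is quasi-finite at `x`, then `f` is an isomorphism
over an open neighbourhood of `f x`. -/
theorem exists_isIso_morphismRestrict_of_quasiFiniteAt_of_bijective_app (f : X ⟶ Y)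
    [LocallyOfFiniteType f] [IsSeparated f] [QuasiCompact f]
    (hO : ∀ U : Y.Opens, IsAffineOpen U → Function.Bijective (f.app U).hom)
    (x : X) (hx : f.QuasiFiniteAt x) :
    ∃ V : Y.Opens, f x ∈ V ∧ IsIso (f ∣_ V) := by
  have hiso := isIso_fromNormalization_of_bijective_app f hO
  obtain ⟨V', hxV', hV'⟩ := f.exists_mem_and_isIso_morphismRestrict_toNormalization x hx
  refine ⟨(inv f.fromNormalization) ⁻¹ᵁ V', ?_,
    isIso_morphismRestrict_of_comp_iso f.toNormalization f.fromNormalization f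
      f.toNormalization_fromNormalization V' hV'⟩
  show (inv f.fromNormalization) (f x) ∈ V'
  have : f x = f.fromNormalization (f.toNormalization x) := by
    rw [← Scheme.Hom.comp_apply, f.toNormalization_fromNormalization]
  rw [this, ← Scheme.Hom.comp_apply, IsIso.hom_inv_id]
  exact hxV'

end Groth.Agent.Lib.helper9
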