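/-
Helper library (helper9): a proper birational morphism onto a normal locally Noetherian integral
scheme is quasi-finite at every point lying over a point of codimension at most one.
-/
import Groth.Agent.Lib.Helper9.ZMTIso

set_option autoImplicit false

namespace Groth.Agent.Lib.helper9

open AlgebraicGeometry CategoryTheory TopologicalSpace

universe u

/-- A Noetherian local integrally closed domain of Krull dimension at most one is a valuation
ring. -/
theorem valuationRing_of_isIntegrallyClosed_of_ringKrullDim_le_one (R : Type*) [CommRing R]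
    [IsDomain R] [IsLocalRing R] [IsNoetherianRing R] [IsIntegrallyClosed R]
    (h : ringKrullDim R ≤ 1) : ValuationRing R := by
  by_cases hF : IsField R
  · have hpre : PreValuationRing R := by
      refine ⟨fun a b => ?_⟩
      by_cases ha : a = 0
      · exact ⟨0, Or.inr (by rw [ha, mul_zero])⟩
      · obtain ⟨c, hc⟩ := hF.mul_inv_cancel ha
        exact ⟨c * b, Or.inl (by rw [← mul_assoc, hc, one_mul])⟩
    exact { toPreValuationRing := hpre }
  · have hd : Ring.KrullDimLE 1 R := Ring.krullDimLE_iff.mpr h
    have h3 : IsIntegrallyClosed R ∧ ∃! P : Ideal R, P ≠ ⊥ ∧ P.IsPrime := by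
      refine ⟨inferInstance, IsLocalRing.maximalIdeal R, ⟨?_, inferInstance⟩, ?_⟩
      · exact IsLocalRing.isField_iff_maximalIdeal_eq.not.mp hF
      · rintro P ⟨hP0, hP⟩
        exact IsLocalRing.eq_maximalIdeal (hP.isMaximal_of_ne_bot hP0)
    exact ((IsDiscreteValuationRing.TFAE R hF).out 3 1).mp h3

/-- A local ring dominating a valuation ring inside its fraction field is equal to it. -/
theorem surjective_of_valuationRing_of_isLocalHom {R A K : Type*} [CommRing R] [IsDomain R]
    [ValuationRing R] [CommRing A] [Field K] [Algebra R K] [IsFractionRing R K]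
    (ψ : R →+* A) [IsLocalHom ψ] (ι : A →+* K) (hι : Function.Injective ι)
    (hcomp : ι.comp ψ = algebraMap R K) : Function.Surjective ψ := by
  have hc : ∀ r, ι (ψ r) = algebraMap R K r := fun r => by rw [← hcomp]; rfl
  intro a
  rcases ValuationRing.isInteger_or_isInteger R (ι a) with ⟨r, hr⟩ | ⟨r, hr⟩
  · exact ⟨r, hι (by rw [hc, hr])⟩
  · by_cases ha : a = 0
    · exact ⟨0, by rw [ha, map_zero]⟩
    have hιa : ι a ≠ 0 := fun h => ha (hι (by rw [h, map_zero]))
    have h1 : ι (ψ r * a) = 1 := by
      rw [map_mul, hc, hr, inv_mul_cancel₀ hιa]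
    have h2 : ψ r * a = 1 := hι (by rw [h1, map_one])
    have hu : IsUnit (ψ r) := IsUnit.of_mul_eq_one _ h2
    have hur : IsUnit r := (isUnit_map_iff ψ r).mp hu
    obtain ⟨s, hs⟩ := hur
    refine ⟨((s⁻¹ : Rˣ) : R), hι ?_⟩
    have h3 : ι (ψ r) * ι (ψ ((s⁻¹ : Rˣ) : R)) = 1 := by
      rw [← map_mul, ← map_mul, ← hs, Units.mul_inv, map_one, map_one]
    have h4 : ι (ψ r) * ι a = 1 := by rw [← map_mul, h1]
    have h5 : ι (ψ r) ≠ 0 := fun h => by rw [h, zero_mul] at h4; exact zero_ne_one h4
    exact mul_left_cancel₀ h5 (h3.trans h4.symm)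

variable {X Y : Scheme.{u}} [IsIntegral X] [IsIntegral Y]

/-- A birational morphism of integral schemes is quasi-finite (indeed a local isomorphism on
stalks) at every point lying over a point whose local ring is a valuation ring. -/
theorem quasiFiniteAt_of_valuationRing_stalk (f : X ⟶ Y)
    (hgen : f (genericPoint X) = genericPoint Y) (hbir : IsIso (f.stalkMap (genericPoint X)))
    (x : X) [ValuationRing (Y.presheaf.stalk (f x))] : f.QuasiFiniteAt x := by
  have hspX : genericPoint X ⤳ x := (genericPoint_spec X).specializes trivial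
  have hsp : genericPoint Y ⤳ f (genericPoint X) := by rw [hgen]
  have hsp' : f (genericPoint X) ⤳ genericPoint Y := by rw [hgen]
  let ι : X.presheaf.stalk x ⟶ Y.functionField :=
    X.presheaf.stalkSpecializes hspX ≫ inv (f.stalkMap (genericPoint X)) ≫
      Y.presheaf.stalkSpecializes hsp
  have hcomp : f.stalkMap x ≫ ι =
      Y.presheaf.stalkSpecializes ((genericPoint_spec Y).specializes trivial) := by
    show f.stalkMap x ≫ X.presheaf.stalkSpecializes hspX ≫ _ ≫ _ = _
    rw [← Category.assoc, ← Scheme.Hom.stalkSpecializes_stalkMap, Category.assoc,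
      IsIso.hom_inv_id_assoc, TopCat.Presheaf.stalkSpecializes_comp]
  have hιinj : Function.Injective ι.hom := by
    have h1 : Y.presheaf.stalkSpecializes hsp ≫ Y.presheaf.stalkSpecializes hsp' = 𝟙 _ := by
      rw [TopCat.Presheaf.stalkSpecializes_comp, TopCat.Presheaf.stalkSpecializes_refl]
    have h2 : Function.Injective (Y.presheaf.stalkSpecializes hsp).hom := by
      intro a b hab
      have h := congrArg (Y.presheaf.stalkSpecializes hsp').hom hab
      have h' : ∀ c, (Y.presheaf.stalkSpecializes hsp').hom
          ((Y.presheaf.stalkSpecializes hsp).hom c) = c := by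
        intro c
        exact congrArg (fun g => g.hom c) h1
      rwa [h', h'] at h
    have h3 : Function.Injective (inv (f.stalkMap (genericPoint X))).hom :=
      ((ConcreteCategory.isIso_iff_bijective (inv (f.stalkMap (genericPoint X)))).mp
        inferInstance).1
    have h4 : Function.Injective (X.presheaf.stalkSpecializes hspX).hom :=
      IsFractionRing.injective (X.presheaf.stalk x) X.functionField
    show Function.Injective (X.presheaf.stalkSpecializes hspX ≫
      inv (f.stalkMap (genericPoint X)) ≫ Y.presheaf.stalkSpecializes hsp).hom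
    rw [CommRingCat.hom_comp, CommRingCat.hom_comp]
    exact (h2.comp h3).comp h4
  have hsurj : Function.Surjective (f.stalkMap x).hom := by
    refine surjective_of_valuationRing_of_isLocalHom (K := Y.functionField) (f.stalkMap x).hom
      ι.hom hιinj ?_
    rw [← CommRingCat.hom_comp, hcomp]
    rfl
  exact RingHom.QuasiFinite.of_finite (RingHom.Finite.of_surjective _ hsurj)

/-- A proper morphism of integral schemes sending generic point to generic point is
surjective. -/
theorem surjective_of_isProper_of_genericPoint (f : X ⟶ Y) [IsProper f]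
    (hgen : f (genericPoint X) = genericPoint Y) : Function.Surjective f := by
  have hclosed : IsClosed (Set.range f) := f.isClosedMap.isClosed_range
  have hmem : genericPoint Y ∈ Set.range f := ⟨_, hgen⟩
  have h1 : closure {genericPoint Y} ⊆ Set.range f :=
    hclosed.closure_subset_iff.mpr (Set.singleton_subset_iff.mpr hmem)
  rw [(genericPoint_spec Y).def] at h1
  intro y
  exact h1 (Set.mem_univ y)

end Groth.Agent.Lib.helper9
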