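import Mathlib
import Groth.Agent.Lib.Helper9.SmoothExt1

/-!
# Étale charts to affine space: restriction, translation (helper9)

* `smooth_affineSpace_over`: `𝔸(n; S) ⟶ S` is smooth for finite `n`.
* `homOfVector_comp_map`, `isOpenImmersion_map`.
* `etale_homOfVector_of_etale_Spec`: an étale map to `Spec R[x₁..x_m]` gives an étale `homOfVector`.
* `etale_homOfVector_restrict`, `etale_homOfVector_translate`.
-/

set_option autoImplicit false
set_option linter.style.haveILetI false
set_option backward.isDefEq.respectTransparency false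

namespace Groth.Agent.Lib.helper9.EtChartSec

open AlgebraicGeometry CategoryTheory Limits AffineSpace

universe u

/-- Affine space over any base is smooth. -/
theorem smooth_affineSpace_over (n : Type u) [Finite n] (S : Scheme.{u}) :
    Smooth (𝔸(n; S) ↘ S) := by
  have h1 : Smooth (Limits.terminal.from (Spec (CommRingCat.of (MvPolynomial n (ULift.{u} ℤ))))) := by
    have := Limits.isIso_of_isTerminal specULiftZIsTerminal.{u} Limits.terminalIsTerminal
      (Limits.terminal.from _)
    rw [← Limits.terminal.comp_from (Spec.map (CommRingCat.ofHom MvPolynomial.C)),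
      MorphismProperty.cancel_right_of_respectsIso (P := @Smooth),
      HasRingHomProperty.Spec_iff (P := @Smooth)]
    have h2 : Algebra.Smooth (ULift.{u} ℤ) (MvPolynomial n (ULift.{u} ℤ)) :=
      ⟨inferInstance, inferInstance⟩
    exact (RingHom.smooth_algebraMap (R := ULift.{u} ℤ) (S := MvPolynomial n (ULift.{u} ℤ))).2 h2
  exact MorphismProperty.pullback_fst _ _ h1

variable {n : Type u}

lemma homOfVector_comp_map {V S T : Scheme.{u}} (g : V ⟶ S) (v : n → Γ(V, ⊤)) (h : S ⟶ T) :
    homOfVector g v ≫ map n h = homOfVector (g ≫ h) v := by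
  refine AffineSpace.hom_ext ?_ (fun k => ?_)
  · simp
  · rw [Scheme.Hom.comp_appTop, CommRingCat.comp_apply, map_appTop_coord,
      homOfVector_appTop_coord, homOfVector_appTop_coord]

lemma isOpenImmersion_map {S T : Scheme.{u}} (b : S ⟶ T) [IsOpenImmersion b] :
    IsOpenImmersion (map n b) :=
  MorphismProperty.of_isPullback (P := @IsOpenImmersion) (isPullback_map (n := n) b).flip
    inferInstance

/-- restriction of an étale chart to opens. -/
lemma etale_homOfVector_restrict [Finite n] {V U V' U' : Scheme.{u}} (g : V ⟶ U)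
    (v : n → Γ(V, ⊤)) [Etale (homOfVector g v)] (a : V' ⟶ V) [IsOpenImmersion a] (b : U' ⟶ U)
    [IsOpenImmersion b] (g' : V' ⟶ U') (hg : g' ≫ b = a ≫ g) :
    Etale (homOfVector g' (fun k => a.appTop (v k))) := by
  haveI := isOpenImmersion_map (n := n) b
  have h1 : homOfVector g' (fun k => a.appTop (v k)) ≫ map n b = a ≫ homOfVector g v := by
    rw [homOfVector_comp_map, hg, comp_homOfVector]
    rfl
  haveI : Etale (homOfVector g' (fun k => a.appTop (v k)) ≫ map n b) := by
    rw [h1]; infer_instance
  exact Etale.of_comp _ (map n b)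

/-- translation of an étale chart by sections of the base. -/
lemma etale_homOfVector_translate [Finite n] {V U : Scheme.{u}} (g : V ⟶ U)
    (v : n → Γ(V, ⊤)) (c : n → Γ(U, ⊤)) [Etale (homOfVector g v)] :
    Etale (homOfVector g (fun k => v k + g.appTop (c k))) := by
  let τ : (c : n → Γ(U, ⊤)) → (𝔸(n; U) ⟶ 𝔸(n; U)) := fun c =>
    homOfVector (𝔸(n; U) ↘ U) (fun k => coord U k + (𝔸(n; U) ↘ U).appTop (c k))
  have hτ : ∀ (c : n → Γ(U, ⊤)) {V : Scheme.{u}} (g : V ⟶ U) (v : n → Γ(V, ⊤)),
      homOfVector g v ≫ τ c = homOfVector g (fun k => v k + g.appTop (c k)) := by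
    intro c V g v
    rw [comp_homOfVector, homOfVector_over]
    congr 1
    ext k
    simp only [Function.comp_apply, map_add, homOfVector_appTop_coord]
    congr 1
    rw [← CommRingCat.comp_apply, ← Scheme.Hom.comp_appTop, homOfVector_over]
  have hinv : ∀ c : n → Γ(U, ⊤), τ c ≫ τ (fun k => - c k) = 𝟙 _ := by
    intro c
    rw [hτ]
    refine AffineSpace.hom_ext ?_ (fun k => ?_)
    · simp
    · rw [homOfVector_appTop_coord]
      simp
  haveI : IsIso (τ c) := ⟨τ (fun k => - c k), hinv c, by
    have := hinv (fun k => - c k)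
    simpa using this⟩
  rw [← hτ c g v]
  infer_instance

end Groth.Agent.Lib.helper9.EtChartSec
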