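import Mathlib

/-!
# Purity of the branch locus: elementwise algebra (helper9)

Elementwise lemmas used in the inductive step of the Zariski–Nagata purity theorem:

* `smul_mem_pow_of_regular` : if `f` is `M`-regular and `x` is regular on `M/fM` then `x` is regular
  on `M/f^j M`;
* `cech` : for an `M`-regular sequence `g, h`: `h^l x = g^k y → x ∈ g^k M`;
* `exists_smul_eq` / `exists_smul_eq_pow` : lifting of "bijective after inverting `g`" from
  `E/fE` to `E` when `f^{n+1}E = 0` and `E` is flat over `A/f^{n+1}`;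
* `surjective_of_lift` : the final step: `φ₀ : C → E₀` is surjective.
-/

namespace Groth.Agent.Lib.helper9.PurityAlg1

section Pow

variable {A : Type*} [CommRing A] {M : Type*} [AddCommGroup M] [Module A M]

/-- If `f` is `M`-regular and `x` is regular on `M/fM`, then `x` is regular on `M/f^j M`. -/
theorem smul_mem_pow_of_regular {f x : A} (hf : IsSMulRegular M f)
    (hx : ∀ m m' : M, x • m = f • m' → ∃ m'', m = f • m'') (j : ℕ) :
    ∀ m m' : M, x • m = f ^ j • m' → ∃ m'', m = f ^ j • m'' := by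
  induction j with
  | zero => intro m m' _; exact ⟨m, by simp⟩
  | succ j ih =>
    intro m m' h
    obtain ⟨m₁, rfl⟩ := hx m (f ^ j • m') (by rw [h, pow_succ', mul_smul])
    have h2 : x • m₁ = f ^ j • m' := by
      apply hf
      show f • x • m₁ = f • f ^ j • m'
      rw [smul_comm f x, h, pow_succ', mul_smul]
    obtain ⟨m₂, rfl⟩ := ih m₁ m' h2
    exact ⟨m₂, by rw [pow_succ', mul_smul]⟩

/-- If `x` is regular on `M/yM` (elementwise), so is `x^k`. -/
theorem pow_smul_mem_of_regular {x y : A}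
    (hx : ∀ m m' : M, x • m = y • m' → ∃ m'', m = y • m'') (k : ℕ) :
    ∀ m m' : M, x ^ k • m = y • m' → ∃ m'', m = y • m'' := by
  induction k with
  | zero => intro m m' h; exact ⟨m', by simpa using h⟩
  | succ k ih =>
    intro m m' h
    rw [pow_succ', mul_smul] at h
    obtain ⟨m₁, h₁⟩ := hx _ _ h
    exact ih m m₁ h₁

/-- Čech lemma: for an `M`-regular sequence `g, h` (elementwise), `h^l x = g^k y` forces
`x ∈ g^k M`. -/
theorem cech {g h : A} (hg : IsSMulRegular M g)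
    (hh : ∀ m m' : M, h • m = g • m' → ∃ m'', m = g • m'') (k l : ℕ) (x y : M)
    (hxy : h ^ l • x = g ^ k • y) : ∃ z, x = g ^ k • z :=
  pow_smul_mem_of_regular (smul_mem_pow_of_regular hg hh k) l x y hxy

end Pow

section Lift

variable {A : Type*} [CommRing A] (f g : A)
variable {C E E₀ : Type*} [CommRing C] [Algebra A C] [CommRing E] [Algebra A E]
  [CommRing E₀] [Algebra A E₀]
variable (φ : C →ₐ[A] E) (ρ : E →ₐ[A] E₀) (n : ℕ)

include f g in
/-- Surjectivity after inverting `g` lifts from `E/fE` to `E` (`f` nilpotent on `E`). -/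
theorem exists_smul_eq
    (hker : ∀ e : E, ρ e = 0 → ∃ e' : E, e = f • e')
    (hnil : ∀ e : E, f ^ (n + 1) • e = 0)
    (hS : ∀ e₀ : E₀, ∃ (k : ℕ) (c : C), ρ (φ c) = g ^ k • e₀) :
    ∀ e : E, ∃ (k : ℕ) (c : C), φ c = g ^ k • e := by
  have key : ∀ j : ℕ, ∀ e : E, ∃ (k : ℕ) (c : C) (e' : E), φ c = g ^ k • e + f ^ j • e' := by
    intro j
    induction j with
    | zero =>
      intro e
      exact ⟨0, 0, -e, by simp⟩
    | succ j ih =>
      intro e
      obtain ⟨k, c, e', hc⟩ := ih e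
      obtain ⟨k', c', hc'⟩ := hS (ρ e')
      have h0 : ρ (φ c' - g ^ k' • e') = 0 := by
        rw [map_sub, hc', map_smul, sub_self]
      obtain ⟨e'', he''⟩ := hker _ h0
      refine ⟨k + k', g ^ k' • c - f ^ j • c', -e'', ?_⟩
      have h1 : φ c' = g ^ k' • e' + f • e'' := by rw [← he'']; abel
      rw [map_sub, map_smul, map_smul, hc, h1]
      module
  intro e
  obtain ⟨k, c, e', hc⟩ := key (n + 1) e
  exact ⟨k, c, by rw [hc, hnil, add_zero]⟩

include f g in
/-- Injectivity after inverting `g` lifts from `E/fE` to `E`, modulo `f^{n+1}`. -/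
theorem exists_smul_eq_pow
    (hker : ∀ e : E, ρ e = 0 → ∃ e' : E, e = f • e')
    (hnil : ∀ e : E, f ^ (n + 1) • e = 0)
    (hflat : ∀ j : ℕ, j ≤ n + 1 → ∀ e : E, f ^ j • e = 0 → ∃ e' : E, e = f ^ (n + 1 - j) • e')
    (hS : ∀ e₀ : E₀, ∃ (k : ℕ) (c : C), ρ (φ c) = g ^ k • e₀)
    (hJ : ∀ c : C, ρ (φ c) = 0 → ∃ (k : ℕ) (c' : C), g ^ k • c = f • c') :
    ∀ c : C, φ c = 0 → ∃ (k : ℕ) (c' : C), g ^ k • c = f ^ (n + 1) • c' := by
  have hS' := exists_smul_eq f g φ ρ n hker hnil hS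
  have key : ∀ j : ℕ, j ≤ n + 1 → ∀ c : C, φ c = 0 →
      ∃ (k : ℕ) (c' : C), g ^ k • c = f ^ j • c' := by
    intro j
    induction j with
    | zero => intro _ c _; exact ⟨0, c, by simp⟩
    | succ j ih =>
      intro hj c hc
      obtain ⟨k, c', hc'⟩ := ih (by omega) c hc
      have h1 : f ^ j • φ c' = 0 := by
        rw [← map_smul, ← hc', map_smul, hc, smul_zero]
      obtain ⟨e', he'⟩ := hflat j (by omega) _ h1
      obtain ⟨k', c'', hc''⟩ := hS' e'
      obtain ⟨d, hd⟩ : ∃ d : C, d = g ^ k' • c' - f ^ (n + 1 - j) • c'' := ⟨_, rfl⟩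
      have hd0 : φ d = 0 := by
        rw [hd, map_sub, map_smul, map_smul, he', hc'', smul_comm, sub_self]
      obtain ⟨k'', d', hd'⟩ := hJ d (by rw [hd0, map_zero])
      refine ⟨k'' + k' + k, d' + g ^ k'' • f ^ (n - j) • c'', ?_⟩
      have e1 : n + 1 - j = (n - j) + 1 := by omega
      have h2 : g ^ k' • c' = d + f ^ (n + 1 - j) • c'' := by rw [hd]; abel
      rw [e1] at h2
      linear_combination (norm := module) (g ^ k'' * g ^ k') • hc' + (f ^ j * g ^ k'') • h2 + (f ^ j) • hd'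
  intro c hc
  exact key (n + 1) le_rfl c hc

end Lift

section Final

variable {A : Type*} [CommRing A] (f g h : A)
variable {C E E₀ F : Type*} [CommRing C] [Algebra A C] [CommRing E] [Algebra A E]
  [CommRing E₀] [Algebra A E₀] [AddCommGroup F] [Module A F]
variable (φ : C →ₐ[A] E) (ρ : E →ₐ[A] E₀) (n N : ℕ)
variable (π : F →ₗ[A] C) (u : C →ₗ[A] F)

include f g h π u N in
/-- The final step of the induction: `ρ ∘ φ : C → E₀` is surjective. -/
theorem surjective_of_lift (hN : N ≤ n)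
    (hπu : ∀ c : C, π (u c) = f ^ N • c)
    (hρs : Function.Surjective ρ)
    (hker : ∀ e : E, ρ e = 0 → ∃ e' : E, e = f • e')
    (hf0 : ∀ e₀ : E₀, f • e₀ = 0)
    (hnil : ∀ e : E, f ^ (n + 1) • e = 0)
    (hflat : ∀ j : ℕ, j ≤ n + 1 → ∀ e : E, f ^ j • e = 0 → ∃ e' : E, e = f ^ (n + 1 - j) • e')
    (hgE : IsSMulRegular E g)
    (hSg : ∀ e₀ : E₀, ∃ (k : ℕ) (c : C), ρ (φ c) = g ^ k • e₀)
    (hJg : ∀ c : C, ρ (φ c) = 0 → ∃ (k : ℕ) (c' : C), g ^ k • c = f • c')
    (hSh : ∀ e₀ : E₀, ∃ (k : ℕ) (c : C), ρ (φ c) = h ^ k • e₀)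
    (hfC : IsSMulRegular C f)
    (hRC : ∀ c c' : C, g • c = f • c' → ∃ c'', c = f • c'')
    (hRF : ∀ (k l : ℕ) (x y w : F), h ^ l • x - g ^ k • y = f ^ (n + 1) • w →
      ∃ z w' : F, x = g ^ k • z + f ^ (n + 1) • w') :
    Function.Surjective (ρ.comp φ) := by
  have hSg' := exists_smul_eq f g φ ρ n hker hnil hSg
  have hSh' := exists_smul_eq f h φ ρ n hker hnil hSh
  have hJg' := exists_smul_eq_pow f g φ ρ n hker hnil hflat hSg hJg
  -- `g^k` is regular on `C / f^j C`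
  have hRC' : ∀ (j k : ℕ) (c c' : C), g ^ k • c = f ^ j • c' → ∃ c'', c = f ^ j • c'' := by
    intro j k
    exact pow_smul_mem_of_regular (smul_mem_pow_of_regular hfC hRC j) k
  -- step 1: `f^N E ⊆ φ(C)`
  have step1 : ∀ e : E, ∃ c : C, φ c = f ^ N • e := by
    intro e
    obtain ⟨k, b, hb⟩ := hSg' e
    obtain ⟨l, b', hb'⟩ := hSh' e
    have h0 : φ (h ^ l • b - g ^ k • b') = 0 := by
      rw [map_sub, map_smul, map_smul, hb, hb', smul_comm, sub_self]
    obtain ⟨m, c₁, hc₁⟩ := hJg' _ h0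
    obtain ⟨c₂, hc₂⟩ := hRC' (n + 1) m _ _ hc₁
    have h1 : h ^ l • u b - g ^ k • u b' = f ^ (n + 1) • u c₂ := by
      rw [← map_smul, ← map_smul, ← map_sub, hc₂, map_smul]
    obtain ⟨z, w', hz⟩ := hRF k l _ _ _ h1
    refine ⟨π z, ?_⟩
    apply hgE.pow k
    show g ^ k • φ (π z) = g ^ k • f ^ N • e
    have h2 : f ^ N • b = g ^ k • π z + f ^ (n + 1) • π w' := by
      rw [← hπu, hz, map_add, map_smul, map_smul]
    have h3 : f ^ N • φ b = g ^ k • φ (π z) := by
      rw [← map_smul, h2, map_add, map_smul, map_smul, hnil, add_zero]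
    rw [← h3, hb, smul_comm]
  -- step 2: surjectivity
  intro e₀
  obtain ⟨e, rfl⟩ := hρs e₀
  obtain ⟨c, hc⟩ := step1 e
  obtain ⟨k, b, hb⟩ := hSg' e
  have h0 : φ (g ^ k • c - f ^ N • b) = 0 := by
    rw [map_sub, map_smul, map_smul, hc, hb, smul_comm, sub_self]
  obtain ⟨m, c₁, hc₁⟩ := hJg' _ h0
  have e1 : n + 1 = N + (n + 1 - N) := by omega
  have h1 : g ^ (m + k) • c = f ^ N • (g ^ m • b + f ^ (n + 1 - N) • c₁) := by
    have : g ^ m • (g ^ k • c - f ^ N • b) = f ^ (n + 1) • c₁ := hc₁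
    rw [smul_sub, ← mul_smul, ← pow_add, sub_eq_iff_eq_add] at this
    rw [this, smul_add, smul_comm (f ^ N) (g ^ m) b, ← mul_smul (f ^ N), ← pow_add, ← e1]
    abel
  obtain ⟨c₂, hc₂⟩ := hRC' N (m + k) _ _ h1
  have h2 : f ^ N • (φ c₂ - e) = 0 := by
    rw [smul_sub, ← map_smul, ← hc₂, hc, sub_self]
  obtain ⟨e', he'⟩ := hflat N (by omega) _ h2
  have e2 : n + 1 - N = (n - N) + 1 := by omega
  refine ⟨c₂, ?_⟩
  have h3 : φ c₂ = e + f ^ (n + 1 - N) • e' := by rw [← he']; abel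
  show ρ (φ c₂) = ρ e
  rw [h3, map_add, map_smul, e2, pow_succ, mul_smul, hf0, smul_zero, add_zero]

end Final

end Groth.Agent.Lib.helper9.PurityAlg1
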