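import Mathlib
import Groth.Agent.Lib.Helper9.PurityAlg1

/-!
# Purity of the branch locus: glueing a lift (helper9)

`exists_lift` : let `ρ : E → E₀` be a surjection of `A`-algebras with nilpotent kernel `fE`,
`φ₀ : C → E₀` an `A`-algebra map, `g, h ∈ A` such that `C[1/g]`, `C[1/h]` are formally étale over `A`
and `g, h` is an `E`-regular sequence.  Then `φ₀` lifts to an `A`-algebra map `φ : C → E`.
-/

namespace Groth.Agent.Lib.helper9.PurityGlue

open IsLocalization

universe u

section awayLift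

variable {A : Type*} [CommRing A] {R P : Type*} [CommRing R] [Algebra A R] [CommRing P] [Algebra A P]

/-- The `A`-algebra map `R[1/x] → P` induced by `ψ : R → P` with `ψ x` a unit. -/
noncomputable def awayLift (x : R) (ψ : R →ₐ[A] P) (hx : IsUnit (ψ x)) :
    Localization.Away x →ₐ[A] P :=
  IsLocalization.liftAlgHom (M := Submonoid.powers x) (f := ψ) (by
    rintro ⟨_, k, rfl⟩
    simpa using hx.pow k)

@[simp]
theorem awayLift_algebraMap (x : R) (ψ : R →ₐ[A] P) (hx : IsUnit (ψ x)) (r : R) :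
    awayLift x ψ hx (algebraMap R (Localization.Away x) r) = ψ r := by
  simp [awayLift, IsLocalization.lift_eq]

theorem awayLift_mk' (x : R) (ψ : R →ₐ[A] P) (hx : IsUnit (ψ x)) (r : R) (k : ℕ) :
    awayLift x ψ hx (IsLocalization.mk' (Localization.Away x) r
      (⟨x ^ k, (Submonoid.mem_powers_iff _ _).2 ⟨k, rfl⟩⟩ : Submonoid.powers x)) * ψ x ^ k = ψ r := by
  have h1 : IsLocalization.mk' (Localization.Away x) r (⟨x ^ k, (Submonoid.mem_powers_iff _ _).2 ⟨k, rfl⟩⟩ : Submonoid.powers x) *
      algebraMap R (Localization.Away x) (x ^ k) = algebraMap R (Localization.Away x) r :=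
    IsLocalization.mk'_spec _ r ⟨x ^ k, (Submonoid.mem_powers_iff _ _).2 ⟨k, rfl⟩⟩
  have h2 := congrArg (awayLift x ψ hx) h1
  rwa [map_mul, awayLift_algebraMap, awayLift_algebraMap, map_pow] at h2

theorem awayLift_ext (x : R) {ψ₁ ψ₂ : Localization.Away x →ₐ[A] P}
    (h : ∀ r : R, ψ₁ (algebraMap R _ r) = ψ₂ (algebraMap R _ r)) : ψ₁ = ψ₂ := by
  apply IsLocalization.algHom_ext (Submonoid.powers x)
  ext r
  exact h r

end awayLift


section Loc

variable {A : Type u} [CommRing A]

/-- `R[1/t]` for `t : A` and an `A`-algebra `R`. -/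
abbrev Loc (R : Type u) [CommRing R] [Algebra A R] (t : A) : Type u :=
  Localization.Away (algebraMap A R t)

variable {R R' : Type u} [CommRing R] [Algebra A R] [CommRing R'] [Algebra A R']

theorem isUnit_loc (R : Type u) [CommRing R] [Algebra A R] (t : A) :
    IsUnit (algebraMap A (Loc R t) t) := by
  rw [IsScalarTower.algebraMap_apply A R (Loc R t)]
  exact IsLocalization.Away.algebraMap_isUnit _

/-- The induced map on localizations. -/
noncomputable def locMap (ψ : R →ₐ[A] R') (t : A) : Loc R t →ₐ[A] Loc R' t :=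
  awayLift _ ((IsScalarTower.toAlgHom A R' (Loc R' t)).comp ψ) (by
    rw [AlgHom.comp_apply, AlgHom.commutes, AlgHom.commutes]
    exact isUnit_loc R' t)

@[simp]
theorem locMap_algebraMap (ψ : R →ₐ[A] R') (t : A) (r : R) :
    locMap ψ t (algebraMap R (Loc R t) r) = algebraMap R' (Loc R' t) (ψ r) := by
  simp [locMap]

theorem loc_exists_eq (t : A) (x : Loc R t) :
    ∃ (r : R) (k : ℕ), x * algebraMap A (Loc R t) t ^ k = algebraMap R (Loc R t) r := by
  obtain ⟨⟨r, ⟨_, k, rfl⟩⟩, rfl⟩ := IsLocalization.mk'_surjective (Submonoid.powers (algebraMap A R t)) x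
  refine ⟨r, k, ?_⟩
  have := IsLocalization.mk'_spec (Loc R t) r
    (⟨algebraMap A R t ^ k, (Submonoid.mem_powers_iff _ _).2 ⟨k, rfl⟩⟩ :
      Submonoid.powers (algebraMap A R t))
  rw [← this, map_pow, ← IsScalarTower.algebraMap_apply]

theorem loc_algebraMap_eq_zero (t : A) (r : R) (h : algebraMap R (Loc R t) r = 0) :
    ∃ k : ℕ, t ^ k • r = 0 := by
  obtain ⟨⟨_, k, rfl⟩, hk⟩ := (IsLocalization.map_eq_zero_iff
    (Submonoid.powers (algebraMap A R t)) (Loc R t) r).1 h
  refine ⟨k, ?_⟩
  rw [Algebra.smul_def, map_pow]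
  exact hk

theorem locMap_surjective (ψ : R →ₐ[A] R') (hψ : Function.Surjective ψ) (t : A) :
    Function.Surjective (locMap ψ t) := by
  intro y
  obtain ⟨r', k, hr'⟩ := loc_exists_eq t y
  obtain ⟨r, rfl⟩ := hψ r'
  obtain ⟨u, hu⟩ := (isUnit_loc R t).pow k
  refine ⟨algebraMap R (Loc R t) r * ↑u⁻¹, ?_⟩
  have h1 : locMap ψ t (↑u⁻¹ : Loc R t) * algebraMap A (Loc R' t) t ^ k = 1 := by
    have : locMap ψ t (↑u⁻¹ : Loc R t) * locMap ψ t (↑u : Loc R t) = 1 := by
      rw [← map_mul, Units.inv_mul, map_one]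
    rwa [hu, map_pow, AlgHom.commutes] at this
  have h2 : IsUnit (algebraMap A (Loc R' t) t ^ k) := (isUnit_loc R' t).pow k
  apply h2.mul_left_injective
  show locMap ψ t (algebraMap R (Loc R t) r * ↑u⁻¹) * algebraMap A (Loc R' t) t ^ k = y * _
  rw [hr', map_mul, locMap_algebraMap, mul_assoc, h1, mul_one]

end Loc


section LocTo

variable {A : Type u} [CommRing A] (R : Type u) [CommRing R] [Algebra A R]

theorem isUnit_loc_mul_left (t s : A) : IsUnit (algebraMap A (Loc R (t * s)) t) := by
  have h := isUnit_loc R (t * s)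
  rw [map_mul (algebraMap A (Loc R (t * s)))] at h
  exact isUnit_of_mul_isUnit_left h

theorem isUnit_loc_mul_right (t s : A) : IsUnit (algebraMap A (Loc R (t * s)) s) := by
  have h := isUnit_loc R (t * s)
  rw [map_mul (algebraMap A (Loc R (t * s)))] at h
  exact isUnit_of_mul_isUnit_right h

/-- `R[1/t] → R[1/(ts)]`. -/
noncomputable def locToL (t s : A) : Loc R t →ₐ[A] Loc R (t * s) :=
  awayLift _ (IsScalarTower.toAlgHom A R (Loc R (t * s))) (by
    rw [AlgHom.commutes]; exact isUnit_loc_mul_left R t s)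

/-- `R[1/s] → R[1/(ts)]`. -/
noncomputable def locToR (t s : A) : Loc R s →ₐ[A] Loc R (t * s) :=
  awayLift _ (IsScalarTower.toAlgHom A R (Loc R (t * s))) (by
    rw [AlgHom.commutes]; exact isUnit_loc_mul_right R t s)

@[simp]
theorem locToL_algebraMap (t s : A) (r : R) :
    locToL R t s (algebraMap R (Loc R t) r) = algebraMap R (Loc R (t * s)) r := by
  simp [locToL]

@[simp]
theorem locToR_algebraMap (t s : A) (r : R) :
    locToR R t s (algebraMap R (Loc R s) r) = algebraMap R (Loc R (t * s)) r := by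
  simp [locToR]

variable {R}

theorem loc_algebraMap_injective (t : A) (ht : IsSMulRegular R t) :
    Function.Injective (algebraMap R (Loc R t)) := by
  rw [injective_iff_map_eq_zero]
  intro r hr
  obtain ⟨k, hk⟩ := loc_algebraMap_eq_zero t r hr
  apply ht.pow k
  show t ^ k • r = t ^ k • 0
  rw [hk, smul_zero]

theorem loc_map_smul (t a : A) (r : R) :
    algebraMap R (Loc R t) (a • r) = algebraMap A (Loc R t) a * algebraMap R (Loc R t) r := by
  rw [Algebra.smul_def, map_mul, ← IsScalarTower.algebraMap_apply]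

/-- Čech: compatible elements of `R[1/g]` and `R[1/h]` come from `R` if `g, h` is `R`-regular. -/
theorem exists_of_compat {g h : A} (hg : IsSMulRegular R g) (hh0 : IsSMulRegular R h)
    (hh : ∀ m m' : R, h • m = g • m' → ∃ m'', m = g • m'')
    (x : Loc R g) (y : Loc R h) (hxy : locToL R g h x = locToR R g h y) :
    ∃ e : R, algebraMap R (Loc R g) e = x ∧ algebraMap R (Loc R h) e = y := by
  obtain ⟨a, k, ha⟩ := loc_exists_eq g x
  obtain ⟨b, l, hb⟩ := loc_exists_eq h y
  have ha' := congrArg (locToL R g h) ha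
  have hb' := congrArg (locToR R g h) hb
  rw [map_mul (locToL R g h), map_pow (locToL R g h), AlgHom.commutes, locToL_algebraMap] at ha'
  rw [map_mul (locToR R g h), map_pow (locToR R g h), AlgHom.commutes, locToR_algebraMap] at hb'
  have h1 : algebraMap R (Loc R (g * h)) (h ^ l • a - g ^ k • b) = 0 := by
    rw [map_sub, loc_map_smul, loc_map_smul, ← ha', ← hb', hxy,
      map_pow (algebraMap A (Loc R (g * h))), map_pow (algebraMap A (Loc R (g * h)))]
    ring
  obtain ⟨m, hm⟩ := loc_algebraMap_eq_zero (g * h) _ h1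
  have h2 : h ^ l • a = g ^ k • b := by
    rw [mul_pow, mul_smul] at hm
    have := (hh0.pow m) ((hg.pow m) (by rw [hm, smul_zero, smul_zero] :
      g ^ m • h ^ m • (h ^ l • a - g ^ k • b) = g ^ m • h ^ m • 0))
    exact sub_eq_zero.1 this
  obtain ⟨z, hz⟩ := PurityAlg1.cech hg hh k l a b h2
  refine ⟨z, ?_, ?_⟩
  · have hu : IsUnit (algebraMap A (Loc R g) g ^ k) := (isUnit_loc R g).pow k
    apply hu.mul_left_injective
    show algebraMap R (Loc R g) z * _ = x * _
    rw [ha, hz, loc_map_smul, map_pow, mul_comm]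
  · have hb2 : b = h ^ l • z := by
      apply hg.pow k
      show g ^ k • b = g ^ k • h ^ l • z
      rw [← h2, hz, smul_comm]
    have hu : IsUnit (algebraMap A (Loc R h) h ^ l) := (isUnit_loc R h).pow l
    apply hu.mul_left_injective
    show algebraMap R (Loc R h) z * _ = y * _
    rw [hb, hb2, loc_map_smul, map_pow, mul_comm]

theorem locMap_locToL {R' : Type u} [CommRing R'] [Algebra A R'] (ψ : R →ₐ[A] R') (t s : A)
    (x : Loc R t) : locMap ψ (t * s) (locToL R t s x) = locToL R' t s (locMap ψ t x) := by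
  have : (locMap ψ (t * s)).comp (locToL R t s) = (locToL R' t s).comp (locMap ψ t) := by
    apply awayLift_ext
    intro r
    simp
  exact AlgHom.congr_fun this x

theorem locMap_locToR {R' : Type u} [CommRing R'] [Algebra A R'] (ψ : R →ₐ[A] R') (t s : A)
    (x : Loc R s) : locMap ψ (t * s) (locToR R t s x) = locToR R' t s (locMap ψ s x) := by
  have : (locMap ψ (t * s)).comp (locToR R t s) = (locToR R' t s).comp (locMap ψ s) := by
    apply awayLift_ext
    intro r
    simp
  exact AlgHom.congr_fun this x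

end LocTo

section Glue

variable {A : Type u} [CommRing A] (f : A)
variable {C E E₀ : Type u} [CommRing C] [Algebra A C] [CommRing E] [Algebra A E]
  [CommRing E₀] [Algebra A E₀]
variable (φ₀ : C →ₐ[A] E₀) (ρ : E →ₐ[A] E₀) (n : ℕ)

include f n in
theorem isNilpotent_ker_locMap
    (hker : ∀ e : E, ρ e = 0 → ∃ e' : E, e = f • e')
    (hnil : ∀ e : E, f ^ (n + 1) • e = 0) (t : A) :
    IsNilpotent (RingHom.ker ((locMap ρ t : Loc E t →ₐ[A] Loc E₀ t) : Loc E t →+* Loc E₀ t)) := by
  have hle : RingHom.ker ((locMap ρ t : Loc E t →ₐ[A] Loc E₀ t) : Loc E t →+* Loc E₀ t) ≤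
      Ideal.span {algebraMap A (Loc E t) f} := by
    intro x hx
    rw [RingHom.mem_ker] at hx
    obtain ⟨e, k, he⟩ := loc_exists_eq t x
    have h1 : algebraMap E₀ (Loc E₀ t) (ρ e) = 0 := by
      rw [← locMap_algebraMap, ← he]
      show locMap ρ t (x * _) = 0
      rw [map_mul, show locMap ρ t x = 0 from hx, zero_mul]
    obtain ⟨m, hm⟩ := loc_algebraMap_eq_zero t _ h1
    obtain ⟨e', he'⟩ := hker (t ^ m • e) (by rw [map_smul, hm])
    have h2 : IsUnit (algebraMap A (Loc E t) t ^ (k + m)) := (isUnit_loc E t).pow _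
    obtain ⟨u, hu⟩ := h2
    have h3 : x * ↑u = algebraMap A (Loc E t) f * algebraMap E (Loc E t) e' := by
      have e1 : algebraMap E (Loc E t) (t ^ m • e) =
          algebraMap E (Loc E t) e * algebraMap A (Loc E t) t ^ m := by
        rw [Algebra.smul_def, map_mul, mul_comm, ← IsScalarTower.algebraMap_apply, map_pow]
      have e2 : algebraMap E (Loc E t) (f • e') =
          algebraMap A (Loc E t) f * algebraMap E (Loc E t) e' := by
        rw [Algebra.smul_def, map_mul, ← IsScalarTower.algebraMap_apply]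
      rw [hu, pow_add, ← mul_assoc, he, ← e1, he', e2]
    have h4 : x = algebraMap A (Loc E t) f * (algebraMap E (Loc E t) e' * ↑u⁻¹) := by
      rw [← mul_assoc, ← h3, mul_assoc, Units.mul_inv, mul_one]
    rw [h4]
    exact Ideal.mul_mem_right _ _ (Ideal.subset_span rfl)
  refine ⟨n + 1, ?_⟩
  rw [Ideal.zero_eq_bot, eq_bot_iff]
  refine (Ideal.pow_right_mono hle (n + 1)).trans ?_
  rw [Ideal.span_singleton_pow, Ideal.span_le, Set.singleton_subset_iff]
  have h5 : algebraMap A (Loc E t) f ^ (n + 1) = 0 := by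
    have h6 : algebraMap A E (f ^ (n + 1)) = 0 := by
      rw [Algebra.algebraMap_eq_smul_one, hnil]
    rw [← map_pow, IsScalarTower.algebraMap_apply A E (Loc E t), h6, map_zero]
  rw [h5]
  exact Ideal.zero_mem _

variable (g h : A)

/-- The lift `χ_t : C[1/t] → E[1/t]` of `φ₀` given by formal smoothness of `C[1/t]`. -/
noncomputable def chi (hρs : Function.Surjective ρ)
    (hker : ∀ e : E, ρ e = 0 → ∃ e' : E, e = f • e')
    (hnil : ∀ e : E, f ^ (n + 1) • e = 0) (t : A) [Algebra.FormallySmooth A (Loc C t)] :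
    Loc C t →ₐ[A] Loc E t :=
  Algebra.FormallySmooth.liftOfSurjective (locMap φ₀ t) (locMap ρ t)
    (locMap_surjective ρ hρs t) (isNilpotent_ker_locMap f ρ n hker hnil t)

theorem locMap_chi (hρs : Function.Surjective ρ)
    (hker : ∀ e : E, ρ e = 0 → ∃ e' : E, e = f • e')
    (hnil : ∀ e : E, f ^ (n + 1) • e = 0) (t : A) [Algebra.FormallySmooth A (Loc C t)]
    (x : Loc C t) : locMap ρ t (chi f φ₀ ρ n hρs hker hnil t x) = locMap φ₀ t x :=
  Algebra.FormallySmooth.liftOfSurjective_apply _ _ _ _ x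

theorem compat (hρs : Function.Surjective ρ)
    (hker : ∀ e : E, ρ e = 0 → ∃ e' : E, e = f • e')
    (hnil : ∀ e : E, f ^ (n + 1) • e = 0)
    [Algebra.FormallySmooth A (Loc C g)] [Algebra.FormallySmooth A (Loc C h)]
    [Algebra.FormallyUnramified A (Loc C g)] (c : C) :
    locToL E g h (chi f φ₀ ρ n hρs hker hnil g (algebraMap C _ c)) =
      locToR E g h (chi f φ₀ ρ n hρs hker hnil h (algebraMap C _ c)) := by
  let m₁ : Loc C g →ₐ[A] Loc E (g * h) := (locToL E g h).comp (chi f φ₀ ρ n hρs hker hnil g)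
  let m₂ : Loc C g →ₐ[A] Loc E (g * h) :=
    awayLift (algebraMap A C g) (((locToR E g h).comp (chi f φ₀ ρ n hρs hker hnil h)).comp
      (IsScalarTower.toAlgHom A C (Loc C h))) (by
        rw [AlgHom.commutes]
        exact isUnit_loc_mul_left E g h)
  have key : m₁ = m₂ := by
    apply Algebra.FormallyUnramified.lift_unique' (locMap ρ (g * h))
      (isNilpotent_ker_locMap f ρ n hker hnil (g * h))
    apply awayLift_ext
    intro c
    simp only [AlgHom.comp_apply, m₁, m₂, awayLift_algebraMap, IsScalarTower.coe_toAlgHom']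
    rw [locMap_locToL, locMap_locToR, locMap_chi, locMap_chi, locMap_algebraMap, locMap_algebraMap,
      locToL_algebraMap, locToR_algebraMap]
  have := AlgHom.congr_fun key (algebraMap C _ c)
  simpa [m₁, m₂] using this

/-- **Glueing**: `φ₀ : C → E₀ = E/fE` lifts to an `A`-algebra map `φ : C → E`. -/
theorem exists_lift (hρs : Function.Surjective ρ)
    (hker : ∀ e : E, ρ e = 0 → ∃ e' : E, e = f • e')
    (hnil : ∀ e : E, f ^ (n + 1) • e = 0)
    [Algebra.FormallySmooth A (Loc C g)] [Algebra.FormallySmooth A (Loc C h)]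
    [Algebra.FormallyUnramified A (Loc C g)]
    (hgE : IsSMulRegular E g) (hhE : IsSMulRegular E h)
    (hghE : ∀ m m' : E, h • m = g • m' → ∃ m'', m = g • m'')
    (hgE₀ : IsSMulRegular E₀ g) :
    ∃ φ : C →ₐ[A] E, ρ.comp φ = φ₀ := by
  have hex : ∀ c : C, ∃ e : E,
      algebraMap E (Loc E g) e = chi f φ₀ ρ n hρs hker hnil g (algebraMap C _ c) ∧
      algebraMap E (Loc E h) e = chi f φ₀ ρ n hρs hker hnil h (algebraMap C _ c) := fun c =>
    exists_of_compat hgE hhE hghE _ _ (compat f φ₀ ρ n g h hρs hker hnil c)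
  choose φf hφg _ using hex
  have hinj := loc_algebraMap_injective (R := E) g hgE
  let φ : C →ₐ[A] E :=
    { toFun := φf
      map_one' := hinj (by rw [hφg, map_one, map_one, map_one])
      map_mul' := fun x y => hinj (by rw [hφg, map_mul, map_mul, map_mul, hφg, hφg])
      map_zero' := hinj (by rw [hφg, map_zero, map_zero, map_zero])
      map_add' := fun x y => hinj (by rw [hφg, map_add, map_add, map_add, hφg, hφg])
      commutes' := fun a => hinj (by
        rw [hφg, ← IsScalarTower.algebraMap_apply, AlgHom.commutes,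
          ← IsScalarTower.algebraMap_apply]) }
  refine ⟨φ, ?_⟩
  ext c
  apply loc_algebraMap_injective (R := E₀) g hgE₀
  rw [AlgHom.comp_apply, ← locMap_algebraMap ρ g, show φ c = φf c from rfl, hφg, locMap_chi,
    locMap_algebraMap]

end Glue

end Groth.Agent.Lib.helper9.PurityGlue
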