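import Mathlib
import Groth.Agent.Lib.Helper9.PurityGlue
import Groth.Agent.S2195
import Groth.Agent.S0249

/-!
# Purity of the branch locus: finite free + étale in codimension one implies étale (helper9)
-/

namespace Groth.Agent.Lib.helper9.PurityFree

open Groth.Agent.Lib.helper9.PurityGlue

universe u

/-- Let `A` be a noetherian local ring of dimension at least two and `E` a finite free `A`-algebra
which is unramified over `A` after inverting any element of the maximal ideal. Then `E` is étale
over `A`: the discriminant is a non-unit only if it lies in a height one prime. -/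
theorem etale_of_free {A : Type u} [CommRing A] [IsNoetherianRing A] [IsLocalRing A]
    (hA : (2 : WithBot ℕ∞) ≤ ringKrullDim A)
    (E : Type u) [CommRing E] [Algebra A E] [Module.Finite A E] [Module.Free A E]
    (hE : ∀ s ∈ IsLocalRing.maximalIdeal A, Algebra.FormallyUnramified A (Loc E s)) :
    Algebra.Etale A E := by
  classical
  let b := Module.finBasis A E
  rw [Groth.Agent.S2195.result b]
  by_contra hd
  have hdm : Algebra.discr A b ∈ IsLocalRing.maximalIdeal A :=
    (IsLocalRing.mem_maximalIdeal _).2 hd
  obtain ⟨p, hp, hdp, hht⟩ := Groth.Agent.S0249.result A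
    (le_trans (by norm_num) hA) _ hdm
  have hpm : ∃ s ∈ IsLocalRing.maximalIdeal A, s ∉ p := by
    by_contra hcon
    have h1 : IsLocalRing.maximalIdeal A ≤ p := fun s hs => by
      by_contra hsp
      exact hcon ⟨s, hs, hsp⟩
    have h2 : p = IsLocalRing.maximalIdeal A :=
      le_antisymm (IsLocalRing.le_maximalIdeal hp.ne_top) h1
    have h3 := IsLocalRing.maximalIdeal_height_eq_ringKrullDim (R := A)
    rw [← h2, hht] at h3
    rw [← h3] at hA
    exact absurd hA (by decide)
  obtain ⟨s, hs, hsp⟩ := hpm
  have hU := hE s hs
  let M : Submonoid A := Submonoid.powers s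
  have hM : Algebra.algebraMapSubmonoid E M = Submonoid.powers (algebraMap A E s) :=
    Submonoid.map_powers _ _
  have hloc : IsLocalization (Algebra.algebraMapSubmonoid E M) (Loc E s) := by
    rw [hM]
    infer_instance
  let e : Loc E s ≃ₐ[E] Localization (Algebra.algebraMapSubmonoid E M) :=
    IsLocalization.algEquiv (Algebra.algebraMapSubmonoid E M) _ _
  have hU' : Algebra.FormallyUnramified A (Localization (Algebra.algebraMapSubmonoid E M)) :=
    Algebra.FormallyUnramified.of_equiv (e.restrictScalars A)
  have hU'' : Algebra.FormallyUnramified (Localization M)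
      (Localization (Algebra.algebraMapSubmonoid E M)) :=
    Algebra.FormallyUnramified.of_restrictScalars A _ _
  have hu : IsUnit (algebraMap A (Localization M) (Algebra.discr A b)) := by
    rw [← Algebra.discr_localizationLocalization A M
      (Localization (Algebra.algebraMapSubmonoid E M)) b]
    exact Groth.Agent.Lib.helper22.TraceSep.isUnit_discr_of_formallyUnramified _
  obtain ⟨z, hz⟩ := hu.exists_right_inv
  obtain ⟨⟨a, ⟨_, n, rfl⟩⟩, rfl⟩ := IsLocalization.mk'_surjective M z
  rw [IsLocalization.mul_mk'_eq_mk'_of_mul, IsLocalization.mk'_eq_iff_eq_mul, one_mul,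
    IsLocalization.eq_iff_exists M] at hz
  obtain ⟨⟨_, k, rfl⟩, hk⟩ := hz
  have h4 : s ^ k * s ^ n ∈ p := by
    rw [← hk]
    exact p.mul_mem_left _ (p.mul_mem_right _ hdp)
  rw [← pow_add] at h4
  exact hsp (hp.mem_of_pow_mem _ h4)

end Groth.Agent.Lib.helper9.PurityFree
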