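import Mathlib
import Groth.Agent.Lib.Helper15.Regular

/-!
# Purity of the branch locus: regular systems of parameters (helper9)

Elementwise regularity statements for the first three elements of a regular system of parameters
of a regular local ring, extracted from helper15's `Regular` library.
-/

namespace Groth.Agent.Lib.helper9.PurityReg

open IsLocalRing Groth.Agent.Lib.helper15

universe u

variable (R : Type u) [CommRing R] [IsRegularLocalRing R]

/-- A minimal system of generators of the maximal ideal, indexed by `Fin d`. -/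
theorem exists_generators (d : ℕ) (hd : (maximalIdeal R).spanFinrank = d) :
    ∃ x : Fin d → R, Ideal.span (Set.range x) = maximalIdeal R := by
  classical
  have hfg : (maximalIdeal R).FG := IsNoetherian.noetherian _
  obtain ⟨s, hcard, hspan⟩ := Submodule.FG.exists_span_finset_card_eq_spanFinrank hfg
  have hsd : s.card = d := hcard.trans hd
  let e : Fin d ≃ s := (Finset.equivFinOfCardEq hsd).symm
  refine ⟨fun i => (e i : R), ?_⟩
  have : Set.range (fun i => (e i : R)) = (s : Set R) := by
    ext z
    constructor
    · rintro ⟨i, rfl⟩; exact (e i).2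
    · intro hz; exact ⟨e.symm ⟨z, hz⟩, by simp⟩
  rw [this]; exact hspan

variable {R}

/-- Permuting a system of generators. -/
theorem span_range_comp_equiv {d : ℕ} (x : Fin d → R) (σ : Equiv.Perm (Fin d))
    (hx : Ideal.span (Set.range x) = maximalIdeal R) :
    Ideal.span (Set.range (x ∘ σ)) = maximalIdeal R := by
  rw [EquivLike.range_comp]; exact hx

theorem mem_of_mul_mem {d : ℕ} (hd : (maximalIdeal R).spanFinrank = d) (x : Fin d → R)
    (hx : Ideal.span (Set.range x) = maximalIdeal R) (i : Fin d) (a : R)
    (ha : x i * a ∈ Ideal.span (x '' {j | j < i})) : a ∈ Ideal.span (x '' {j | j < i}) := by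
  obtain ⟨hprime, hnot⟩ := isPrime_span_image_lt R d hd x hx i
  exact (hprime.mem_or_mem ha).resolve_left hnot

/-- The first generator is a nonzerodivisor. -/
theorem isSMulRegular_zero {d : ℕ} (hd : (maximalIdeal R).spanFinrank = d + 1) (x : Fin (d + 1) → R)
    (hx : Ideal.span (Set.range x) = maximalIdeal R) : IsSMulRegular R (x 0) := by
  have := isDomain_of_isRegularLocalRing R
  obtain ⟨-, hnot⟩ := isPrime_span_image_lt R (d + 1) hd x hx 0
  have h0 : x 0 ≠ 0 := by
    intro h
    apply hnot
    rw [h]; exact Ideal.zero_mem _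
  exact (IsRegular.of_ne_zero h0).left.isSMulRegular

/-- The second generator is regular modulo the first. -/
theorem reg_one {d : ℕ} (hd : (maximalIdeal R).spanFinrank = d + 2) (x : Fin (d + 2) → R)
    (hx : Ideal.span (Set.range x) = maximalIdeal R) (a b : R) (h : x 1 * a = x 0 * b) :
    ∃ c, a = x 0 * c := by
  have himg : x '' {j | j < (1 : Fin (d + 2))} = {x 0} := by
    ext z
    simp only [Set.mem_image, Set.mem_ofPred_eq, Set.mem_singleton_iff]
    constructor
    · rintro ⟨j, hj, rfl⟩
      have : j = 0 := by
        apply Fin.ext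
        have := Fin.lt_def.mp hj
        simp at this ⊢
        omega
      rw [this]
    · rintro rfl
      exact ⟨0, by simp, rfl⟩
  have h1 := mem_of_mul_mem hd x hx 1 a (by
    rw [himg, h]
    exact Ideal.mul_mem_right _ _ (Ideal.subset_span rfl))
  rw [himg, Ideal.mem_span_singleton'] at h1
  obtain ⟨c, hc⟩ := h1
  exact ⟨c, by rw [← hc, mul_comm]⟩

/-- The third generator is regular modulo the first two. -/
theorem reg_two {d : ℕ} (hd : (maximalIdeal R).spanFinrank = d + 3) (x : Fin (d + 3) → R)
    (hx : Ideal.span (Set.range x) = maximalIdeal R) (a b c : R)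
    (h : x 2 * a = x 0 * b + x 1 * c) : ∃ b' c', a = x 0 * b' + x 1 * c' := by
  have himg : x '' {j | j < (2 : Fin (d + 3))} = {x 0, x 1} := by
    ext z
    simp only [Set.mem_image, Set.mem_ofPred_eq, Set.mem_insert_iff, Set.mem_singleton_iff]
    constructor
    · rintro ⟨j, hj, rfl⟩
      have hj' := Fin.lt_def.mp hj
      have h2 : ((2 : Fin (d + 3)) : ℕ) = 2 := rfl
      rw [h2] at hj'
      rcases Nat.lt_succ_iff_lt_or_eq.mp hj' with h0 | h1
      · left
        have : j = 0 := Fin.ext (by simpa using Nat.lt_one_iff.mp h0)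
        rw [this]
      · right
        have : j = 1 := Fin.ext (by simpa using h1)
        rw [this]
    · have h2 : ((2 : Fin (d + 3)) : ℕ) = 2 := rfl
      rintro (rfl | rfl)
      · exact ⟨0, by rw [Fin.lt_def, h2]; simp, rfl⟩
      · exact ⟨1, by rw [Fin.lt_def, h2]; simp, rfl⟩
  have h1 := mem_of_mul_mem hd x hx 2 a (by
    rw [himg, h]
    exact Ideal.add_mem _ (Ideal.mul_mem_right _ _ (Ideal.subset_span (by simp)))
      (Ideal.mul_mem_right _ _ (Ideal.subset_span (by simp))))
  rw [himg, Ideal.mem_span_pair] at h1
  obtain ⟨b', c', hbc⟩ := h1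
  exact ⟨b', c', by rw [← hbc]; ring⟩

/-- The quotient by the first generator is regular of embedding dimension one less. -/
theorem quotient_regular {d : ℕ} (hd : (maximalIdeal R).spanFinrank = d + 1) (x : Fin (d + 1) → R)
    (hx : Ideal.span (Set.range x) = maximalIdeal R) (J : Ideal R) (hJ : J = Ideal.span {x 0}) :
    ∃ _ : IsRegularLocalRing (R ⧸ J), (maximalIdeal (R ⧸ J)).spanFinrank = d := by
  classical
  let T : Finset R := Finset.univ.image (fun i : Fin d => x i.succ)
  have hm : maximalIdeal R = J ⊔ Ideal.span (T : Set R) := by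
    rw [← hx, hJ, ← Ideal.span_union]
    congr 1
    ext z
    simp only [Set.mem_range, Set.singleton_union, Finset.coe_image, Finset.coe_univ,
      Set.image_univ, Set.mem_insert_iff, T]
    constructor
    · rintro ⟨i, rfl⟩
      refine Fin.cases ?_ (fun j => ?_) i
      · left; rfl
      · right; exact ⟨j, rfl⟩
    · rintro (rfl | ⟨j, rfl⟩)
      · exact ⟨0, rfl⟩
      · exact ⟨j.succ, rfl⟩
  have h1 : J.spanFinrank ≤ 1 := by
    rw [hJ]
    refine (Submodule.spanFinrank_span_le_ncard_of_finite (Set.finite_singleton (x 0))).trans ?_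
    simp
  have h2 : T.card ≤ d := by
    refine Finset.card_image_le.trans ?_
    simp
  obtain ⟨hreg, h3, h4⟩ := isRegularLocalRing_quotient_of_span J T hm (by omega)
  exact ⟨hreg, by omega⟩

/-- In embedding dimension two, the maximal ideal of the quotient by the first generator is
generated by the image of the second one. -/
theorem maximalIdeal_quotient_eq (x : Fin 2 → R)
    (hx : Ideal.span (Set.range x) = maximalIdeal R) (J : Ideal R) (hJ : J = Ideal.span {x 0})
    [IsLocalRing (R ⧸ J)] :
    maximalIdeal (R ⧸ J) = Ideal.span {Ideal.Quotient.mk J (x 1)} := by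
  have hmap : (maximalIdeal R).map (Ideal.Quotient.mk J) = maximalIdeal (R ⧸ J) :=
    map_maximalIdeal_of_surjective _ Ideal.Quotient.mk_surjective
  have hrange : Set.range x = {x 0, x 1} := by
    ext z
    simp only [Set.mem_range, Set.mem_insert_iff, Set.mem_singleton_iff]
    constructor
    · rintro ⟨i, rfl⟩
      fin_cases i
      · left; rfl
      · right; rfl
    · rintro (rfl | rfl)
      · exact ⟨0, rfl⟩
      · exact ⟨1, rfl⟩
  have h0 : Ideal.Quotient.mk J (x 0) = 0 := by
    rw [Ideal.Quotient.eq_zero_iff_mem, hJ]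
    exact Ideal.subset_span rfl
  rw [← hmap, ← hx, hrange, Ideal.map_span, Set.image_pair, h0]
  apply le_antisymm
  · rw [Ideal.span_le]
    rintro z (rfl | rfl)
    · exact Ideal.zero_mem _
    · exact Ideal.subset_span rfl
  · exact Ideal.span_mono (by simp)

end Groth.Agent.Lib.helper9.PurityReg
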