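import Mathlib
import Groth.Agent.Lib.Helper7.SmoothLift

/-!
# Purity of the branch locus: lifting étale algebras along `A/f^{n+1} → A/f` (helper9)

`exists_lift` : a standard smooth algebra `E₀` over `A/f` lifts to a standard smooth (hence flat)
algebra `E` over `A/f^{n+1}` with a surjection `ρ : E → E₀` whose kernel is `fE`.
-/

namespace Groth.Agent.Lib.helper9.PurityLift

universe u

variable (A : Type u) [CommRing A] (f : A)

/-- `A / f^{n+1}`. -/
abbrev Q (n : ℕ) : Type u := A ⧸ Ideal.span {f ^ (n + 1)}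

theorem exists_lift (E₀ : Type u) [CommRing E₀] [Algebra (Q A f 0) E₀]
    [Algebra.IsStandardSmooth (Q A f 0) E₀] (n : ℕ) :
    ∃ (E : Type u) (_ : CommRing E) (_ : Algebra (Q A f n) E) (ρ : E →+* E₀),
      Algebra.IsStandardSmooth (Q A f n) E ∧ Function.Surjective ρ ∧
      (∀ a : A, ρ (algebraMap (Q A f n) E (Ideal.Quotient.mk _ a)) =
        algebraMap (Q A f 0) E₀ (Ideal.Quotient.mk _ a)) ∧
      (∀ e : E, ρ e = 0 →
        ∃ e' : E, e = algebraMap (Q A f n) E (Ideal.Quotient.mk _ f) * e') := by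
  induction n with
  | zero =>
    exact ⟨E₀, _, _, RingHom.id _, inferInstance, Function.surjective_id, fun a => rfl,
      fun e he => ⟨0, by simpa using he⟩⟩
  | succ n ih =>
    obtain ⟨E, _, _, ρ, hsm, hρs, hρa, hρk⟩ := ih
    have hle : Ideal.span {f ^ (n + 1 + 1)} ≤ Ideal.span {f ^ (n + 1)} := by
      rw [Ideal.span_singleton_le_span_singleton]
      exact ⟨f, by ring⟩
    let _ : Algebra (Q A f (n + 1)) (Q A f n) := (Ideal.Quotient.factor hle).toAlgebra
    have halg : ∀ a : A, algebraMap (Q A f (n + 1)) (Q A f n) (Ideal.Quotient.mk _ a) =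
        Ideal.Quotient.mk _ a := fun a => Ideal.Quotient.factor_mk hle a
    have hsurj : Function.Surjective (algebraMap (Q A f (n + 1)) (Q A f n)) :=
      Ideal.Quotient.factor_surjective hle
    have hkerA : RingHom.ker (algebraMap (Q A f (n + 1)) (Q A f n)) =
        Ideal.span {Ideal.Quotient.mk _ (f ^ (n + 1))} := by
      show RingHom.ker (Ideal.Quotient.factor hle) = _
      rw [Ideal.Quotient.factor_ker hle, Ideal.map_span, Set.image_singleton]
    have hsq : RingHom.ker (algebraMap (Q A f (n + 1)) (Q A f n)) ^ 2 = ⊥ := by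
      rw [hkerA, Ideal.span_singleton_pow, ← map_pow, Ideal.span_singleton_eq_bot,
        Ideal.Quotient.eq_zero_iff_mem, Ideal.mem_span_singleton]
      exact ⟨f ^ n, by ring⟩
    obtain ⟨E', _, _, θ, hsm', hθs, hθa, hθk⟩ :=
      Groth.Agent.Lib.helper7.SmoothLift.exists_lift (A' := Q A f (n + 1)) (A := Q A f n) (S := E)
        hsurj hsq
    refine ⟨E', _, _, ρ.comp θ, hsm', hρs.comp hθs, ?_, ?_⟩
    · intro a
      rw [RingHom.comp_apply, hθa, halg, hρa]
    · intro e he
      rw [RingHom.comp_apply] at he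
      obtain ⟨e₁, he₁⟩ := hρk _ he
      obtain ⟨e₁', rfl⟩ := hθs e₁
      have h1 : θ (e - algebraMap (Q A f (n + 1)) E' (Ideal.Quotient.mk _ f) * e₁') = 0 := by
        rw [map_sub, map_mul, hθa, halg, he₁, sub_self]
      have h2 : e - algebraMap (Q A f (n + 1)) E' (Ideal.Quotient.mk _ f) * e₁' ∈
          Ideal.span {algebraMap (Q A f (n + 1)) E' (Ideal.Quotient.mk _ (f ^ (n + 1)))} := by
        have : e - algebraMap (Q A f (n + 1)) E' (Ideal.Quotient.mk _ f) * e₁' ∈ RingHom.ker θ := h1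
        rwa [hθk, hkerA, Ideal.map_span, Set.image_singleton] at this
      obtain ⟨e₂, he₂⟩ := Ideal.mem_span_singleton'.1 h2
      refine ⟨e₁' + algebraMap (Q A f (n + 1)) E' (Ideal.Quotient.mk _ (f ^ n)) * e₂, ?_⟩
      have h3 : e = algebraMap (Q A f (n + 1)) E' (Ideal.Quotient.mk _ f) * e₁' +
          e₂ * algebraMap (Q A f (n + 1)) E' (Ideal.Quotient.mk _ (f ^ (n + 1))) := by
        rw [he₂]; ring
      have h4 : (Ideal.Quotient.mk (Ideal.span {f ^ (n + 1 + 1)})) (f ^ (n + 1)) =
          (Ideal.Quotient.mk (Ideal.span {f ^ (n + 1 + 1)})) (f ^ n) *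
            (Ideal.Quotient.mk (Ideal.span {f ^ (n + 1 + 1)})) f := by
        rw [← map_mul]
        exact congrArg _ (pow_succ f n)
      rw [h3, h4, map_mul]
      ring

end Groth.Agent.Lib.helper9.PurityLift
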