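import Mathlib
import Groth.Agent.Lib.Helper9.PurityAlg1
import Groth.Agent.Lib.Helper9.PurityGlue
import Groth.Agent.Lib.Helper9.PurityLift

/-!
# Purity of the branch locus: the inductive step (helper9)
-/

namespace Groth.Agent.Lib.helper9.PurityStep

open Groth.Agent.Lib.helper9.PurityGlue Groth.Agent.Lib.helper9.PurityLift

universe u

section Flat

variable {Q : Type*} [CommRing Q] {M : Type*} [AddCommGroup M] [Module Q M] [Module.Flat Q M]

/-- For a flat module, `(0 :_M a) = (0 :_Q a) M`, in the principal case. -/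
theorem flat_ann {a b : Q} (hQ : ∀ q : Q, a * q = 0 → ∃ q', q = b * q') (m : M) (hm : a • m = 0) :
    ∃ m', m = b • m' := by
  have h0 : ∑ i : Fin 1, (fun _ => a) i • (fun _ => m) i = 0 := by simpa using hm
  obtain ⟨k, c, y, h1, h2⟩ := Module.Flat.isTrivialRelation_of_sum_smul_eq_zero h0
  have h3 : ∀ j, ∃ q', c 0 j = b * q' := fun j => hQ _ (by simpa using h2 j)
  choose q' hq' using h3
  refine ⟨∑ j, q' j • y j, ?_⟩
  have h4 : m = ∑ j, c 0 j • y j := h1 0
  rw [h4, Finset.smul_sum]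
  refine Finset.sum_congr rfl fun j _ => ?_
  rw [hq' j, mul_smul]

/-- For a flat module, a `Q`-regular sequence `g, h` (elementwise) is `M`-regular. -/
theorem flat_reg2 {g h : Q} (hQ : ∀ q q' : Q, h * q = g * q' → ∃ q'', q = g * q'') (m m' : M)
    (hm : h • m = g • m') : ∃ m'', m = g • m'' := by
  have h0 : ∑ i : Fin 2, (![h, -g]) i • (![m, m']) i = 0 := by
    simp [Fin.sum_univ_two, hm]
  obtain ⟨k, c, y, h1, h2⟩ := Module.Flat.isTrivialRelation_of_sum_smul_eq_zero h0
  have h3 : ∀ j, ∃ q', c 0 j = g * q' := fun j => hQ _ (c 1 j) (by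
    have := h2 j
    simp only [Fin.sum_univ_two, Matrix.cons_val_zero, Matrix.cons_val_one] at this
    linear_combination this)
  choose q' hq' using h3
  refine ⟨∑ j, q' j • y j, ?_⟩
  have := h1 0
  simp only [Matrix.cons_val_zero] at this
  rw [this, Finset.smul_sum]
  refine Finset.sum_congr rfl fun j _ => ?_
  rw [hq' j, mul_smul]

end Flat

section RegA

variable {A : Type*} [CommRing A] {f g h : A}

/-- `h` is regular on `A/(f^j, g)`. -/
theorem reg_pow (hhA : ∀ a b c : A, h * a = f * b + g * c → ∃ b' c', a = f * b' + g * c')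
    (hfgA : ∀ a b : A, f * a = g * b → ∃ c, a = g * c) (j : ℕ) :
    ∀ a b c : A, h * a = f ^ j * b + g * c → ∃ b' c', a = f ^ j * b' + g * c' := by
  induction j with
  | zero => intro a b c _; exact ⟨a, 0, by ring⟩
  | succ j ih =>
    intro a b c habc
    obtain ⟨a₁, c₁, rfl⟩ := hhA a (f ^ j * b) c (by rw [habc]; ring)
    obtain ⟨c₂, hc₂⟩ := hfgA (h * a₁ - f ^ j * b) (c - h * c₁) (by linear_combination habc)
    obtain ⟨b', c', rfl⟩ := ih a₁ b c₂ (by linear_combination hc₂)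
    exact ⟨b', f * c' + c₁, by ring⟩

end RegA

section Section

variable {A : Type u} [CommRing A] [IsNoetherianRing A] (f : A)
variable (C : Type u) [CommRing C] [Algebra A C] [Module.Finite A C]

/-- If `C[1/f]` is flat over `A` and `f` is `C`-regular, multiplication by a power of `f` on `C`
factors through a finite free module. -/
theorem exists_section [Module.Flat A (Loc C f)] (hfC : IsSMulRegular C f) :
    ∃ (k N : ℕ) (π : (Fin k →₀ A) →ₗ[A] C) (u : C →ₗ[A] (Fin k →₀ A)),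
      ∀ c, π (u c) = f ^ N • c := by
  have : Module.FinitePresentation A C := Module.finitePresentation_of_finite A C
  obtain ⟨k, h₂, h₃, hfac⟩ := Module.Flat.exists_factorization_of_finitePresentation
    (R := A) (M := Loc C f) ((IsScalarTower.toAlgHom A C (Loc C f)).toLinearMap)
  have hex : ∀ i : Fin k, ∃ (r : C) (m : ℕ),
      h₃ (Finsupp.single i 1) * algebraMap A (Loc C f) f ^ m = algebraMap C (Loc C f) r :=
    fun i => loc_exists_eq f _
  choose r m hrm using hex
  let N : ℕ := ∑ i, m i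
  have hmN : ∀ i, m i ≤ N := fun i => Finset.single_le_sum (fun _ _ => Nat.zero_le _) (Finset.mem_univ i)
  let π : (Fin k →₀ A) →ₗ[A] C := Finsupp.linearCombination A (fun i => f ^ (N - m i) • r i)
  have hπ : ∀ x : Fin k →₀ A, algebraMap C (Loc C f) (π x) =
      algebraMap A (Loc C f) f ^ N * h₃ x := by
    intro x
    induction x using Finsupp.induction_linear with
    | zero => simp
    | add x y hx hy => rw [map_add, map_add, map_add, hx, hy, mul_add]
    | single i a =>
      have e1 : Finsupp.single i a = a • Finsupp.single i (1 : A) := by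
        rw [Finsupp.smul_single, smul_eq_mul, mul_one]
      have e2 : algebraMap A (Loc C f) f ^ N =
          algebraMap A (Loc C f) f ^ (N - m i) * algebraMap A (Loc C f) f ^ (m i) := by
        rw [← pow_add, Nat.sub_add_cancel (hmN i)]
      have e3 : π (Finsupp.single i a) = a • f ^ (N - m i) • r i := by
        simp [π, Finsupp.linearCombination_single]
      have e4 : h₃ (Finsupp.single i a) =
          algebraMap A (Loc C f) a * h₃ (Finsupp.single i 1) := by
        rw [e1, map_smul, Algebra.smul_def]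
      rw [e3, e4, loc_map_smul, loc_map_smul, map_pow, ← hrm i, e2]
      ring
  refine ⟨k, N, π, h₂, fun c => ?_⟩
  apply loc_algebraMap_injective f hfC
  rw [hπ, loc_map_smul, map_pow]
  congr 1
  have := LinearMap.congr_fun hfac c
  simpa using this.symm

end Section

section RegQ

variable {A : Type u} [CommRing A] {f g h : A}

theorem mk_eq_zero_iff (n : ℕ) (a : A) :
    (Ideal.Quotient.mk (Ideal.span {f ^ (n + 1)}) a = 0) ↔ ∃ b, a = f ^ (n + 1) * b := by
  rw [Ideal.Quotient.eq_zero_iff_mem, Ideal.mem_span_singleton']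
  constructor
  · rintro ⟨b, hb⟩; exact ⟨b, by rw [← hb, mul_comm]⟩
  · rintro ⟨b, hb⟩; exact ⟨b, by rw [hb, mul_comm]⟩

/-- `g` is regular on `A/f^{n+1}`. -/
theorem isSMulRegular_mk (hfA : IsSMulRegular A f)
    (hgA : ∀ a b : A, g * a = f * b → ∃ c, a = f * c) (n : ℕ) :
    IsSMulRegular (Q A f n) (Ideal.Quotient.mk (Ideal.span {f ^ (n + 1)}) g) := by
  rw [isSMulRegular_iff_right_eq_zero_of_smul]
  intro q hq
  obtain ⟨a, rfl⟩ := Ideal.Quotient.mk_surjective q
  rw [smul_eq_mul, ← map_mul, mk_eq_zero_iff] at hq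
  obtain ⟨b, hb⟩ := hq
  obtain ⟨c, hc⟩ := PurityAlg1.smul_mem_pow_of_regular (M := A) hfA
    (fun m m' hm => hgA m m' hm) (n + 1) a b hb
  rw [mk_eq_zero_iff]
  exact ⟨c, hc⟩

/-- `h` is regular on `A/(f^{n+1}, g)`. -/
theorem reg2_mk (hhA : ∀ a b c : A, h * a = f * b + g * c → ∃ b' c', a = f * b' + g * c')
    (hfgA : ∀ a b : A, f * a = g * b → ∃ c, a = g * c) (n : ℕ)
    (q q' : Q A f n)
    (hq : Ideal.Quotient.mk (Ideal.span {f ^ (n + 1)}) h * q =
      Ideal.Quotient.mk (Ideal.span {f ^ (n + 1)}) g * q') :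
    ∃ q'', q = Ideal.Quotient.mk (Ideal.span {f ^ (n + 1)}) g * q'' := by
  obtain ⟨a, rfl⟩ := Ideal.Quotient.mk_surjective q
  obtain ⟨b, rfl⟩ := Ideal.Quotient.mk_surjective q'
  rw [← map_mul, ← map_mul, ← sub_eq_zero, ← map_sub, mk_eq_zero_iff] at hq
  obtain ⟨c, hc⟩ := hq
  obtain ⟨b', c', hbc⟩ := reg_pow hhA hfgA (n + 1) a c b (by linear_combination hc)
  refine ⟨Ideal.Quotient.mk _ c', ?_⟩
  rw [← map_mul, ← sub_eq_zero, ← map_sub, mk_eq_zero_iff]
  exact ⟨b', by linear_combination hbc⟩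

/-- The Čech property of `A/f^{n+1}` w.r.t. `g, h`, in terms of `A`. -/
theorem cechA (hfA : IsSMulRegular A f)
    (hgA : ∀ a b : A, g * a = f * b → ∃ c, a = f * c)
    (hhA : ∀ a b c : A, h * a = f * b + g * c → ∃ b' c', a = f * b' + g * c')
    (hfgA : ∀ a b : A, f * a = g * b → ∃ c, a = g * c) (n k l : ℕ) (a b c : A)
    (habc : h ^ l * a - g ^ k * b = f ^ (n + 1) * c) :
    ∃ z w : A, a = g ^ k * z + f ^ (n + 1) * w := by
  have h1 : (Ideal.Quotient.mk (Ideal.span {f ^ (n + 1)}) h) ^ l •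
      (Ideal.Quotient.mk (Ideal.span {f ^ (n + 1)}) a) =
      (Ideal.Quotient.mk (Ideal.span {f ^ (n + 1)}) g) ^ k •
        (Ideal.Quotient.mk (Ideal.span {f ^ (n + 1)}) b) := by
    rw [smul_eq_mul, smul_eq_mul, ← map_pow, ← map_pow, ← map_mul, ← map_mul, ← sub_eq_zero,
      ← map_sub, mk_eq_zero_iff]
    exact ⟨c, habc⟩
  obtain ⟨z, hz⟩ := PurityAlg1.cech (M := Q A f n) (isSMulRegular_mk hfA hgA n)
    (fun m m' hm => reg2_mk hhA hfgA n m m' hm) k l _ _ h1
  obtain ⟨z, rfl⟩ := Ideal.Quotient.mk_surjective z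
  rw [smul_eq_mul, ← map_pow, ← map_mul, ← sub_eq_zero, ← map_sub, mk_eq_zero_iff] at hz
  obtain ⟨w, hw⟩ := hz
  exact ⟨z, w, by linear_combination hw⟩

end RegQ

section Step

variable {A : Type u} [CommRing A] [IsNoetherianRing A] (f g h : A)
variable (C : Type u) [CommRing C] [Algebra A C] [Module.Finite A C]
variable (E₀ : Type u) [CommRing E₀] [Algebra A E₀] [Algebra (Q A f 0) E₀]
  [IsScalarTower A (Q A f 0) E₀]

/-- **The inductive step**: `φ₀ : C → E₀` is surjective. -/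
theorem step
    (hfA : IsSMulRegular A f)
    (hgA : ∀ a b : A, g * a = f * b → ∃ c, a = f * c)
    (hhA0 : ∀ a b : A, h * a = f * b → ∃ c, a = f * c)
    (hhA : ∀ a b c : A, h * a = f * b + g * c → ∃ b' c', a = f * b' + g * c')
    (hfgA : ∀ a b : A, f * a = g * b → ∃ c, a = g * c)
    [Module.Flat A (Loc C f)] [Algebra.FormallyEtale A (Loc C g)]
    [Algebra.FormallyEtale A (Loc C h)]
    (hfC : IsSMulRegular C f) (hRC : ∀ c c' : C, g • c = f • c' → ∃ c'', c = f • c'')
    [Algebra.Etale (Q A f 0) E₀]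
    (φ₀ : C →ₐ[A] E₀)
    (hSg : ∀ e₀ : E₀, ∃ (k : ℕ) (c : C), φ₀ c = g ^ k • e₀)
    (hJg : ∀ c : C, φ₀ c = 0 → ∃ (k : ℕ) (c' : C), g ^ k • c = f • c')
    (hSh : ∀ e₀ : E₀, ∃ (k : ℕ) (c : C), φ₀ c = h ^ k • e₀) :
    Function.Surjective φ₀ := by
  obtain ⟨K, N, π, u, hπu⟩ := exists_section f C hfC
  have hss : Algebra.IsStandardSmooth (Q A f 0) E₀ :=
    (Algebra.Etale.iff_isStandardSmoothOfRelativeDimension_zero.1 inferInstance).isStandardSmooth
  obtain ⟨E, _, _, ρ, hsm, hρs, hρa, hρk⟩ := PurityLift.exists_lift A f E₀ N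
  let _ : Algebra A E := Algebra.compHom E (algebraMap A (Q A f N))
  have : IsScalarTower A (Q A f N) E := IsScalarTower.of_algebraMap_eq (fun _ => rfl)
  have : Module.Flat (Q A f N) E := inferInstance
  have : Module.Flat (Q A f 0) E₀ := inferInstance
  let ρ' : E →ₐ[A] E₀ :=
    { ρ with
      commutes' := fun a => (hρa a).trans (IsScalarTower.algebraMap_apply A (Q A f 0) E₀ a).symm }
  have hρ' : ∀ e, ρ' e = ρ e := fun _ => rfl
  -- smul conversions
  have hsmulE : ∀ (a : A) (e : E), a • e = (Ideal.Quotient.mk (Ideal.span {f ^ (N + 1)}) a) • e :=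
    fun a e => (IsScalarTower.algebraMap_smul (Q A f N) a e).symm
  have hsmulE₀ : ∀ (a : A) (e : E₀),
      a • e = (Ideal.Quotient.mk (Ideal.span {f ^ (0 + 1)}) a) • e :=
    fun a e => (IsScalarTower.algebraMap_smul (Q A f 0) a e).symm
  have hf0 : ∀ e₀ : E₀, f • e₀ = 0 := by
    intro e₀
    rw [hsmulE₀]
    have : Ideal.Quotient.mk (Ideal.span {f ^ (0 + 1)}) f = 0 := by
      rw [mk_eq_zero_iff]; exact ⟨1, by ring⟩
    rw [this, zero_smul]
  have hnil : ∀ e : E, f ^ (N + 1) • e = 0 := by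
    intro e
    rw [hsmulE]
    have : Ideal.Quotient.mk (Ideal.span {f ^ (N + 1)}) (f ^ (N + 1)) = 0 := by
      rw [mk_eq_zero_iff]; exact ⟨1, by ring⟩
    rw [this, zero_smul]
  have hker' : ∀ e : E, ρ' e = 0 → ∃ e' : E, e = f • e' := by
    intro e he
    obtain ⟨e', he'⟩ := hρk e he
    exact ⟨e', by rw [he', hsmulE, Algebra.smul_def]⟩
  have hflat : ∀ j : ℕ, j ≤ N + 1 → ∀ e : E, f ^ j • e = 0 →
      ∃ e' : E, e = f ^ (N + 1 - j) • e' := by
    intro j hj e he
    rw [hsmulE] at he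
    obtain ⟨e', he'⟩ := flat_ann (Q := Q A f N)
      (a := Ideal.Quotient.mk (Ideal.span {f ^ (N + 1)}) (f ^ j))
      (b := Ideal.Quotient.mk (Ideal.span {f ^ (N + 1)}) (f ^ (N + 1 - j))) (by
        intro q hq
        obtain ⟨a, rfl⟩ := Ideal.Quotient.mk_surjective q
        rw [← map_mul, mk_eq_zero_iff] at hq
        obtain ⟨b, hb⟩ := hq
        have e1 : N + 1 = j + (N + 1 - j) := by omega
        have h1 : f ^ j • a = f ^ j • (f ^ (N + 1 - j) * b) := by
          rw [smul_eq_mul, smul_eq_mul, hb, ← mul_assoc, ← pow_add, ← e1]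
        have h2 := (hfA.pow j) h1
        refine ⟨Ideal.Quotient.mk _ b, ?_⟩
        rw [← map_mul, h2]) e he
    exact ⟨e', by rw [he', hsmulE]⟩
  have hgE : IsSMulRegular E g := by
    have h1 := (isSMulRegular_mk hfA hgA N).of_flat (S := E)
    intro x y hxy
    apply h1
    show algebraMap (Q A f N) E _ • x = algebraMap (Q A f N) E _ • y
    rw [smul_eq_mul, smul_eq_mul, ← Algebra.smul_def, ← Algebra.smul_def, ← hsmulE, ← hsmulE]
    exact hxy
  have hhE : IsSMulRegular E h := by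
    have h1 := (isSMulRegular_mk hfA hhA0 N).of_flat (S := E)
    intro x y hxy
    apply h1
    show algebraMap (Q A f N) E _ • x = algebraMap (Q A f N) E _ • y
    rw [smul_eq_mul, smul_eq_mul, ← Algebra.smul_def, ← Algebra.smul_def, ← hsmulE, ← hsmulE]
    exact hxy
  have hghE : ∀ m m' : E, h • m = g • m' → ∃ m'', m = g • m'' := by
    intro m m' hm
    rw [hsmulE, hsmulE] at hm
    obtain ⟨m'', hm''⟩ := flat_reg2 (Q := Q A f N) (fun q q' hq => reg2_mk hhA hfgA N q q' hq)
      m m' hm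
    exact ⟨m'', by rw [hm'', hsmulE]⟩
  have hgE₀ : IsSMulRegular E₀ g := by
    have h1 := (isSMulRegular_mk hfA hgA 0).of_flat (S := E₀)
    intro x y hxy
    apply h1
    show algebraMap (Q A f 0) E₀ _ • x = algebraMap (Q A f 0) E₀ _ • y
    rw [smul_eq_mul, smul_eq_mul, ← Algebra.smul_def, ← Algebra.smul_def, ← hsmulE₀, ← hsmulE₀]
    exact hxy
  obtain ⟨φ, hφ⟩ := PurityGlue.exists_lift f φ₀ ρ' N g h hρs hker' hnil hgE hhE hghE hgE₀
  have hφ' : ∀ c, ρ' (φ c) = φ₀ c := fun c => AlgHom.congr_fun hφ c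
  have hRF : ∀ (k l : ℕ) (x y w : Fin K →₀ A), h ^ l • x - g ^ k • y = f ^ (N + 1) • w →
      ∃ z w' : Fin K →₀ A, x = g ^ k • z + f ^ (N + 1) • w' := by
    intro k l x y w hxyw
    have hi : ∀ i : Fin K, ∃ z w' : A, x i = g ^ k * z + f ^ (N + 1) * w' := fun i =>
      cechA hfA hgA hhA hfgA N k l (x i) (y i) (w i) (by
        have := DFunLike.congr_fun hxyw i
        simpa using this)
    choose z w' hzw using hi
    refine ⟨Finsupp.equivFunOnFinite.symm z, Finsupp.equivFunOnFinite.symm w', ?_⟩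
    ext i
    simp [hzw i]
  have hsurj := PurityAlg1.surjective_of_lift f g h φ ρ' N N π u le_rfl hπu hρs hker' hf0 hnil hflat
    hgE (fun e₀ => by obtain ⟨k, c, hc⟩ := hSg e₀; exact ⟨k, c, by rw [hφ', hc]⟩)
    (fun c hc => hJg c (by rw [← hφ', hc]))
    (fun e₀ => by obtain ⟨k, c, hc⟩ := hSh e₀; exact ⟨k, c, by rw [hφ', hc]⟩)
    hfC hRC hRF
  rw [hφ] at hsurj
  exact hsurj

end Step

end Groth.Agent.Lib.helper9.PurityStep
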