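import Mathlib
import Groth.Agent.Lib.Helper9.PurityAlg1
import Groth.Agent.Lib.Helper9.PurityGlue
import Groth.Agent.Lib.Helper9.PurityStep

/-!
# Purity of the branch locus: the `S₂`-ification of a finite algebra (helper9)

For a finite algebra `B` over a noetherian ring `A`, elements `f, g` forming a regular sequence
in both orders, and a set `T ∋ f, g` such that `B[1/s]` is flat over `A` for all `s ∈ T`, we
construct the finite `A`-algebra `E ⊆ B[1/f]` of all elements which lie in `B[1/s]` for all `s ∈ T`.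
-/

namespace Groth.Agent.Lib.helper9.PurityS2

open Groth.Agent.Lib.helper9.PurityGlue Groth.Agent.Lib.helper9

universe u

section Section'

variable {A : Type u} [CommRing A] [IsNoetherianRing A] (f : A)

/-- If `L` is flat, `C ⊆ L` is a finite submodule with `L = C[1/f]`, then multiplication by a
power of `f` on `C` factors through a finite free module. -/
theorem exists_section' (C L : Type u) [AddCommGroup C] [Module A C] [Module.Finite A C]
    [AddCommGroup L] [Module A L] [Module.Flat A L] (can : C →ₗ[A] L)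
    (hinj : Function.Injective can) (hex : ∀ l : L, ∃ (m : ℕ) (c : C), f ^ m • l = can c) :
    ∃ (k N : ℕ) (π : (Fin k →₀ A) →ₗ[A] C) (u : C →ₗ[A] (Fin k →₀ A)),
      ∀ c, π (u c) = f ^ N • c := by
  have : Module.FinitePresentation A C := Module.finitePresentation_of_finite A C
  obtain ⟨k, h₂, h₃, hfac⟩ := Module.Flat.exists_factorization_of_finitePresentation
    (R := A) (M := L) can
  have hex' : ∀ i : Fin k, ∃ (m : ℕ) (c : C), f ^ m • h₃ (Finsupp.single i 1) = can c :=
    fun i => hex _
  choose m r hrm using hex'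
  let N : ℕ := ∑ i, m i
  have hmN : ∀ i, m i ≤ N := fun i =>
    Finset.single_le_sum (fun _ _ => Nat.zero_le _) (Finset.mem_univ i)
  let π : (Fin k →₀ A) →ₗ[A] C := Finsupp.linearCombination A (fun i => f ^ (N - m i) • r i)
  have hπ : ∀ x : Fin k →₀ A, can (π x) = f ^ N • h₃ x := by
    intro x
    induction x using Finsupp.induction_linear with
    | zero => simp
    | add x y hx hy => rw [map_add, map_add, map_add, hx, hy, smul_add]
    | single i a =>
      have e1 : Finsupp.single i a = a • Finsupp.single i (1 : A) := by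
        rw [Finsupp.smul_single, smul_eq_mul, mul_one]
      have e3 : π (Finsupp.single i a) = a • f ^ (N - m i) • r i := by
        simp [π, Finsupp.linearCombination_single]
      have e4 : h₃ (Finsupp.single i a) = a • h₃ (Finsupp.single i 1) := by
        rw [e1, map_smul]
      have e2 : f ^ N = f ^ (N - m i) * f ^ (m i) := by
        rw [← pow_add, Nat.sub_add_cancel (hmN i)]
      rw [e3, e4, map_smul, map_smul, ← hrm i, e2]
      module
  refine ⟨k, N, π, h₂, fun c => hinj ?_⟩
  rw [hπ, map_smul]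
  congr 1
  exact (LinearMap.congr_fun hfac c).symm

end Section'

section Aux

theorem isSMulRegular_of_flat {A L : Type*} [CommRing A] [CommRing L] [Algebra A L]
    [Module.Flat A L] {x : A} (hx : IsSMulRegular A x) : IsSMulRegular L x := by
  have h1 := hx.of_flat (S := L)
  intro a b hab
  apply h1
  show algebraMap A L x • a = algebraMap A L x • b
  rw [smul_eq_mul, smul_eq_mul, ← Algebra.smul_def, ← Algebra.smul_def]
  exact hab

end Aux

section S2

variable {A : Type u} [CommRing A] (T : Set A) (f : A)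
variable (B : Type u) [CommRing B] [Algebra A B]

/-- The subalgebra of `B[1/f]` of elements lying in the image of `B[1/s]` for all `s ∈ T`. -/
noncomputable def S2 : Subalgebra A (Loc B f) where
  carrier := {x | ∀ s ∈ T, ∃ (i : ℕ) (b : B), s ^ i • x = algebraMap B (Loc B f) b}
  mul_mem' := by
    intro x y hx hy s hs
    obtain ⟨i, b, hb⟩ := hx s hs
    obtain ⟨j, b', hb'⟩ := hy s hs
    refine ⟨i + j, b * b', ?_⟩
    rw [map_mul, ← hb, ← hb', pow_add, smul_mul_smul_comm]
  add_mem' := by
    intro x y hx hy s hs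
    obtain ⟨i, b, hb⟩ := hx s hs
    obtain ⟨j, b', hb'⟩ := hy s hs
    refine ⟨i + j, s ^ j • b + s ^ i • b', ?_⟩
    rw [map_add, loc_map_smul, loc_map_smul, ← hb, ← hb', ← Algebra.smul_def, ← Algebra.smul_def]
    module
  algebraMap_mem' := fun a s _ =>
    ⟨0, algebraMap A B a, by rw [pow_zero, one_smul, ← IsScalarTower.algebraMap_apply]⟩

theorem mem_S2 (x : Loc B f) :
    x ∈ S2 T f B ↔ ∀ s ∈ T, ∃ (i : ℕ) (b : B), s ^ i • x = algebraMap B (Loc B f) b := Iff.rfl

/-- The canonical map `B → E`. -/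
noncomputable def beta : B →ₐ[A] S2 T f B :=
  (IsScalarTower.toAlgHom A B (Loc B f)).codRestrict (S2 T f B) (fun b s _ =>
    ⟨0, b, by simp⟩)

@[simp]
theorem coe_beta (b : B) : ((beta T f B b : S2 T f B) : Loc B f) = algebraMap B (Loc B f) b := rfl

theorem beta_S (s : A) (hs : s ∈ T) (e : S2 T f B) :
    ∃ (k : ℕ) (b : B), beta T f B b = s ^ k • e := by
  obtain ⟨i, b, hb⟩ := e.2 s hs
  exact ⟨i, b, Subtype.ext (by simp [hb])⟩

theorem beta_J (hfA : IsSMulRegular A f) (s : A) [Module.Flat A (Loc B s)] (b : B)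
    (hb : beta T f B b = 0) : ∃ k : ℕ, s ^ k • b = 0 := by
  have h1 : algebraMap B (Loc B f) b = 0 := by
    have := congrArg (Subtype.val) hb
    simpa using this
  obtain ⟨m, hm⟩ := loc_algebraMap_eq_zero f b h1
  have h2 : f ^ m • algebraMap B (Loc B s) b = f ^ m • 0 := by
    rw [smul_zero, Algebra.smul_def, ← loc_map_smul, hm, map_zero]
  have h3 := isSMulRegular_of_flat (L := Loc B s) (hfA.pow m) h2
  exact loc_algebraMap_eq_zero s b h3

theorem isSMulRegular_S2 : IsSMulRegular (S2 T f B) f := by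
  intro x y hxy
  apply Subtype.ext
  have h1 : f • (x : Loc B f) = f • (y : Loc B f) := congrArg Subtype.val hxy
  rw [Algebra.smul_def, Algebra.smul_def] at h1
  exact (isUnit_loc B f).mul_left_cancel h1

end S2

section Finite

variable {A : Type u} [CommRing A] [IsNoetherianRing A] (T : Set A) (f g : A)
variable (B : Type u) [CommRing B] [Algebra A B] [Module.Finite A B]

theorem finite_S2 [Module.Flat A (Loc B f)] (hgT : g ∈ T) (hgA0 : IsSMulRegular A g)
    (hfgA : ∀ a b : A, f * a = g * b → ∃ c, a = g * c) : Module.Finite A (S2 T f B) := by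
  let can : B →ₗ[A] Loc B f := (IsScalarTower.toAlgHom A B (Loc B f)).toLinearMap
  have hcan : ∀ b, can b = algebraMap B (Loc B f) b := fun _ => rfl
  let C : Submodule A (Loc B f) := LinearMap.range can
  have hex : ∀ l : Loc B f, ∃ (m : ℕ) (c : C), f ^ m • l = C.subtype c := by
    intro l
    obtain ⟨r, k, hr⟩ := loc_exists_eq f l
    refine ⟨k, ⟨can r, LinearMap.mem_range_self _ _⟩, ?_⟩
    rw [Algebra.smul_def, map_pow, mul_comm, hr]
    rfl
  obtain ⟨k, N, π, u, hπu⟩ := exists_section' f C (Loc B f) C.subtype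
    (Submodule.injective_subtype C) hex
  obtain ⟨w, hw⟩ := (isUnit_loc B f).pow N
  let lam : (Fin k →₀ A) →ₗ[A] Loc B f :=
    (LinearMap.mulLeft A ((↑w⁻¹ : (Loc B f)ˣ) : Loc B f)) ∘ₗ C.subtype ∘ₗ π
  have hle : ∀ x : S2 T f B, (x : Loc B f) ∈ LinearMap.range lam := by
    intro x
    obtain ⟨i, b, hb⟩ := x.2 g hgT
    obtain ⟨b', j, hb'⟩ := loc_exists_eq f (x : Loc B f)
    let cB : C := ⟨can b, LinearMap.mem_range_self _ _⟩
    let cB' : C := ⟨can b', LinearMap.mem_range_self _ _⟩
    have h1 : g ^ i • cB' = f ^ j • cB := by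
      apply Subtype.ext
      show g ^ i • can b' = f ^ j • can b
      rw [hcan, hcan, ← hb, ← hb', Algebra.smul_def (f ^ j), map_pow]
      rw [Algebra.smul_def, Algebra.smul_def]
      ring
    have h2 : g ^ i • u cB' = f ^ j • u cB := by rw [← map_smul, ← map_smul, h1]
    have h3 : ∀ t : Fin k, ∃ z : A, u cB t = g ^ i • z := by
      intro t
      refine PurityAlg1.cech (M := A) hgA0 (fun m m' h => hfgA m m' h) i j (u cB t) (u cB' t) ?_
      have := DFunLike.congr_fun h2 t
      simpa using this.symm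
    choose z hz using h3
    let v : Fin k →₀ A := Finsupp.equivFunOnFinite.symm z
    have h4 : u cB = g ^ i • v := by
      ext t
      simp [v, hz t]
    have hgL : IsSMulRegular (Loc B f) (g ^ i) := isSMulRegular_of_flat (hgA0.pow i)
    have h5 : ((π v : C) : Loc B f) = f ^ N • (x : Loc B f) := by
      apply hgL
      show g ^ i • ((π v : C) : Loc B f) = g ^ i • (f ^ N • (x : Loc B f))
      have e1 : g ^ i • ((π v : C) : Loc B f) = ((π (g ^ i • v) : C) : Loc B f) := by
        rw [map_smul]; rfl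
      rw [e1, ← h4, hπu]
      show f ^ N • can b = _
      rw [hcan, ← hb]
      module
    refine ⟨v, ?_⟩
    show ((↑w⁻¹ : (Loc B f)ˣ) : Loc B f) * ((π v : C) : Loc B f) = x
    rw [h5, Algebra.smul_def, map_pow, ← hw, ← mul_assoc, Units.inv_mul, one_mul]
  have : IsNoetherian A (LinearMap.range lam) := inferInstance
  let Θ : S2 T f B →ₗ[A] LinearMap.range lam :=
    LinearMap.codRestrict (LinearMap.range lam) (S2 T f B).val.toLinearMap (fun x => hle x)
  refine Module.Finite.of_injective Θ ?_
  intro x y hxy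
  apply Subtype.ext
  exact congrArg (fun t : LinearMap.range lam => (t : Loc B f)) hxy

end Finite

section Reg

variable {A : Type u} [CommRing A] (T : Set A) (f g : A)
variable (B : Type u) [CommRing B] [Algebra A B]

theorem reg_S2 (hfA : IsSMulRegular A f) (hgA : ∀ a b : A, g * a = f * b → ∃ c, a = f * c)
    (hflat : ∀ s ∈ T, Module.Flat A (Loc B s)) (c c' : S2 T f B) (h : g • c = f • c') :
    ∃ c'' : S2 T f B, c = f • c'' := by
  obtain ⟨w, hw⟩ := isUnit_loc B f
  obtain ⟨y, hydef⟩ : ∃ y : Loc B f, y = ((↑w⁻¹ : (Loc B f)ˣ) : Loc B f) * (c : Loc B f) := ⟨_, rfl⟩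
  have hy : f • y = (c : Loc B f) := by
    rw [hydef, Algebra.smul_def, ← hw, ← mul_assoc, Units.mul_inv, one_mul]
  have hy' : g • y = (c' : Loc B f) := by
    have h0 : g • (c : Loc B f) = f • (c' : Loc B f) := congrArg Subtype.val h
    have h1 : f • (g • y) = f • (c' : Loc B f) := by rw [smul_comm, hy, h0]
    rw [Algebra.smul_def, Algebra.smul_def f] at h1
    exact (isUnit_loc B f).mul_left_cancel h1
  have hyE : y ∈ S2 T f B := by
    intro s hs
    have := hflat s hs
    obtain ⟨i₂, b₂, hb₂⟩ := c.2 s hs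
    obtain ⟨i₁, b₁, hb₁⟩ := c'.2 s hs
    have h1 : algebraMap B (Loc B f) (s ^ i₁ • g • b₂ - s ^ i₂ • f • b₁) = 0 := by
      rw [map_sub, loc_map_smul, loc_map_smul, loc_map_smul, loc_map_smul, ← hb₂, ← hb₁, ← hy,
        ← hy']
      simp only [Algebra.smul_def, map_pow]
      ring
    obtain ⟨m, hm⟩ := loc_algebraMap_eq_zero f _ h1
    have h2 : g • (s ^ i₁ • algebraMap B (Loc B s) b₂) =
        f • (s ^ i₂ • algebraMap B (Loc B s) b₁) := by
      apply isSMulRegular_of_flat (L := Loc B s) (hfA.pow m)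
      show f ^ m • (g • (s ^ i₁ • algebraMap B (Loc B s) b₂)) =
        f ^ m • (f • (s ^ i₂ • algebraMap B (Loc B s) b₁))
      have e0 := congrArg (algebraMap B (Loc B s)) hm
      rw [map_zero] at e0
      simp only [loc_map_smul, map_sub, map_pow] at e0
      simp only [Algebra.smul_def, map_pow]
      linear_combination e0
    obtain ⟨m'', hm''⟩ := PurityStep.flat_reg2 (Q := A) (M := Loc B s) (g := f) (h := g)
      (fun q q' hq => hgA q q' hq) _ _ h2
    obtain ⟨b₃, j, hb₃⟩ := loc_exists_eq s m''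
    have h3 : algebraMap B (Loc B s) (s ^ (j + i₁) • b₂ - f • b₃) = 0 := by
      rw [map_sub, loc_map_smul, loc_map_smul, ← hb₃]
      simp only [Algebra.smul_def, map_pow] at hm''
      rw [pow_add, map_mul, map_pow, map_pow, mul_assoc, hm'']
      ring
    obtain ⟨n, hn⟩ := loc_algebraMap_eq_zero s _ h3
    refine ⟨n + j + i₁ + i₂, s ^ n • b₃, ?_⟩
    have h4 : f • (s ^ (n + j + i₁ + i₂) • y) = f • algebraMap B (Loc B f) (s ^ n • b₃) := by
      have e1 := congrArg (algebraMap B (Loc B f)) hn
      rw [map_zero] at e1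
      simp only [loc_map_smul, map_sub, map_pow] at e1
      rw [smul_comm, hy]
      have e2 : s ^ (n + j + i₁ + i₂) • (c : Loc B f) =
          s ^ (n + j + i₁) • (s ^ i₂ • (c : Loc B f)) := by
        rw [← mul_smul, ← pow_add]
      rw [e2, hb₂, loc_map_smul]
      simp only [Algebra.smul_def, map_pow]
      rw [pow_add, pow_add]
      linear_combination e1
    rw [Algebra.smul_def, Algebra.smul_def f] at h4
    exact (isUnit_loc B f).mul_left_cancel h4
  exact ⟨⟨y, hyE⟩, Subtype.ext hy.symm⟩

end Reg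

section LocIso

variable {A : Type u} [CommRing A] {B E : Type u} [CommRing B] [Algebra A B] [CommRing E]
  [Algebra A E]

theorem locMap_bijective (β : B →ₐ[A] E) (s : A)
    (hS : ∀ e : E, ∃ (k : ℕ) (b : B), β b = s ^ k • e)
    (hJ : ∀ b : B, β b = 0 → ∃ k : ℕ, s ^ k • b = 0) : Function.Bijective (locMap β s) := by
  constructor
  · rw [injective_iff_map_eq_zero]
    intro x hx
    obtain ⟨r, k, hr⟩ := loc_exists_eq s x
    have h1 : algebraMap E (Loc E s) (β r) = 0 := by
      rw [← locMap_algebraMap, ← hr, map_mul, hx, zero_mul]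
    obtain ⟨m, hm⟩ := loc_algebraMap_eq_zero s _ h1
    obtain ⟨n, hn⟩ := hJ (s ^ m • r) (by rw [map_smul, hm])
    have h2 : algebraMap B (Loc B s) r = 0 := by
      have e1 := congrArg (algebraMap B (Loc B s)) hn
      rw [map_zero, loc_map_smul, loc_map_smul, ← mul_assoc, ← map_mul, ← pow_add, map_pow] at e1
      exact ((isUnit_loc B s).pow (n + m)).mul_right_eq_zero.mp e1
    rw [h2] at hr
    exact ((isUnit_loc B s).pow k).mul_left_eq_zero.mp hr
  · intro z
    obtain ⟨e, m, he⟩ := loc_exists_eq s z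
    obtain ⟨k, b, hb⟩ := hS e
    obtain ⟨w, hw⟩ := (isUnit_loc B s).pow (m + k)
    refine ⟨algebraMap B (Loc B s) b * ((↑w⁻¹ : (Loc B s)ˣ) : Loc B s), ?_⟩
    have hu : IsUnit (algebraMap A (Loc E s) s ^ (m + k)) := (isUnit_loc E s).pow (m + k)
    apply hu.mul_left_injective
    show locMap β s _ * algebraMap A (Loc E s) s ^ (m + k) = z * algebraMap A (Loc E s) s ^ (m + k)
    have e1 : algebraMap A (Loc E s) s ^ (m + k) = locMap β s (↑w) := by
      rw [hw, map_pow, AlgHom.commutes]
    have e2 : z * algebraMap A (Loc E s) s ^ (m + k) = algebraMap E (Loc E s) (β b) := by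
      rw [hb, loc_map_smul, ← he, map_pow, pow_add]
      ring
    rw [e2, e1, ← map_mul, mul_assoc, Units.inv_mul, mul_one, locMap_algebraMap]

theorem formallyEtale_loc (β : B →ₐ[A] E) (s : A)
    (hS : ∀ e : E, ∃ (k : ℕ) (b : B), β b = s ^ k • e)
    (hJ : ∀ b : B, β b = 0 → ∃ k : ℕ, s ^ k • b = 0) [Algebra.FormallyEtale A (Loc B s)] :
    Algebra.FormallyEtale A (Loc E s) :=
  Algebra.FormallyEtale.of_equiv (AlgEquiv.ofBijective (locMap β s) (locMap_bijective β s hS hJ))

end LocIso

end Groth.Agent.Lib.helper9.PurityS2
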