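import Mathlib
import Groth.Agent.Lib.Helper9.PurityGlue

/-!
# Purity of the branch locus: reduction modulo an ideal via tensor products (helper9)
-/

namespace Groth.Agent.Lib.helper9.PurityTensor

open Groth.Agent.Lib.helper9.PurityGlue TensorProduct

universe u

section Module

variable {A : Type*} [CommRing A] (I : Ideal A) (E : Type*) [AddCommGroup E] [Module A E]

/-- Every element of `(A/I) ⊗ E` is of the form `1 ⊗ e`. -/
theorem exists_one_tmul (z : (A ⧸ I) ⊗[A] E) : ∃ e : E, z = (1 : A ⧸ I) ⊗ₜ[A] e := by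
  induction z using TensorProduct.induction_on with
  | zero => exact ⟨0, by simp⟩
  | tmul q e =>
    obtain ⟨a, rfl⟩ := Ideal.Quotient.mk_surjective q
    refine ⟨a • e, ?_⟩
    rw [← TensorProduct.smul_tmul, Algebra.smul_def, mul_one]
    rfl
  | add x y hx hy =>
    obtain ⟨e, rfl⟩ := hx
    obtain ⟨e', rfl⟩ := hy
    exact ⟨e + e', by rw [TensorProduct.tmul_add]⟩

variable {E}

theorem mem_smul_top_of_one_tmul_eq_zero (e : E) (h : (1 : A ⧸ I) ⊗ₜ[A] e = 0) :
    e ∈ I • (⊤ : Submodule A E) := by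
  have h1 := congrArg (TensorProduct.quotTensorEquivQuotSMul E I) h
  rw [TensorProduct.quotTensorEquivQuotSMul_mk_one_tmul, map_zero,
    Submodule.Quotient.mk_eq_zero] at h1
  exact h1

theorem exists_smul_of_one_tmul_eq_zero (x : A) (e : E)
    (h : (1 : A ⧸ Ideal.span {x}) ⊗ₜ[A] e = 0) : ∃ e' : E, e = x • e' := by
  have h1 := mem_smul_top_of_one_tmul_eq_zero _ e h
  rw [Submodule.ideal_span_singleton_smul, Submodule.mem_smul_pointwise_iff_exists] at h1
  obtain ⟨e', -, he'⟩ := h1
  exact ⟨e', he'.symm⟩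

end Module

section Algebra

variable {A : Type u} [CommRing A] (I : Ideal A) (E : Type u) [CommRing E] [Algebra A E]

/-- `(A/I) ⊗ E` is formally étale over `A/I` after inverting `s` if `E[1/s]` is so over `A`. -/
theorem formallyEtale_tensor_away (s : A) [Algebra.FormallyEtale A (Loc E s)] :
    Algebra.FormallyEtale (A ⧸ I) (Localization.Away
      (algebraMap (A ⧸ I) ((A ⧸ I) ⊗[A] E) (Ideal.Quotient.mk I s))) := by
  have e := IsLocalization.Away.tensorProductEquivTMulRight A (A ⧸ I) (algebraMap A E s) (Loc E s)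
  have hx : (1 : A ⧸ I) ⊗ₜ[A] algebraMap A E s =
      algebraMap (A ⧸ I) ((A ⧸ I) ⊗[A] E) (Ideal.Quotient.mk I s) := by
    rw [Algebra.TensorProduct.algebraMap_apply, Algebra.algebraMap_eq_smul_one s,
      TensorProduct.tmul_smul, TensorProduct.smul_tmul', Algebra.smul_def, mul_one]
    rfl
  rw [← hx]
  exact Algebra.FormallyEtale.of_equiv e

end Algebra

end Groth.Agent.Lib.helper9.PurityTensor
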