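import Mathlib
import Groth.Agent.Lib.Helper9.PurityS2
import Groth.Agent.Lib.Helper9.PurityFree
import Groth.Agent.Lib.Helper9.PurityReg
import Groth.Agent.Lib.Helper9.PurityTensor
import Groth.Agent.Lib.Helper9.PurityStep

/-!
# Zariski–Nagata purity: the extension theorem for regular local rings (helper9)

`CT A`: for every finite `A`-algebra `B` which is étale over the punctured spectrum of the local
ring `A`, there is a finite étale `A`-algebra `E` and a map `B → E` which is an isomorphism over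
the punctured spectrum. We prove `CT A` for regular local rings of dimension at least two.
-/

namespace Groth.Agent.Lib.helper9.PurityCT

open IsLocalRing TensorProduct Pointwise
open Groth.Agent.Lib.helper9.PurityGlue Groth.Agent.Lib.helper9.PurityLift
open Groth.Agent.Lib.helper9

universe u

/-- The extension property. -/
def CT (A : Type u) [CommRing A] [IsLocalRing A] : Prop :=
  ∀ (B : Type u) [CommRing B] [Algebra A B] [Module.Finite A B],
    (∀ s ∈ maximalIdeal A, Algebra.FormallyEtale A (Loc B s)) →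
    ∃ (E : Type u) (_ : CommRing E) (_ : Algebra A E) (_ : Module.Finite A E)
      (_ : Algebra.Etale A E) (β : B →ₐ[A] E),
      ∀ s ∈ maximalIdeal A, (∀ e : E, ∃ (k : ℕ) (b : B), β b = s ^ k • e) ∧
        (∀ b : B, β b = 0 → ∃ k : ℕ, s ^ k • b = 0)

theorem flat_of_formallyEtale {A : Type u} [CommRing A] [IsNoetherianRing A] (B : Type u)
    [CommRing B] [Algebra A B] [Module.Finite A B] (s : A)
    [Algebra.FormallyEtale A (Loc B s)] : Module.Flat A (Loc B s) := by
  have : Algebra.FinitePresentation A B := Algebra.FinitePresentation.of_finiteType.mp inferInstance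
  have : Algebra.FinitePresentation A (Loc B s) := Algebra.FinitePresentation.trans A B _
  have : Algebra.Etale A (Loc B s) := ⟨inferInstance, inferInstance⟩
  infer_instance

section Core

variable {A : Type u} [CommRing A] [IsRegularLocalRing A] {d : ℕ}
  (hd : (maximalIdeal A).spanFinrank = d + 2) (x : Fin (d + 2) → A)
  (hx : Ideal.span (Set.range x) = maximalIdeal A)
  (B : Type u) [CommRing B] [Algebra A B] [Module.Finite A B]
  (hB : ∀ s ∈ maximalIdeal A, Algebra.FormallyEtale A (Loc B s))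

/-- The `S₂`-ification. -/
noncomputable abbrev EE : Subalgebra A (Loc B (x 0)) := PurityS2.S2 (maximalIdeal A : Set A) (x 0) B

/-- The canonical map. -/
noncomputable abbrev bb : B →ₐ[A] EE x B := PurityS2.beta (maximalIdeal A : Set A) (x 0) B

include hx in
theorem x_mem (i : Fin (d + 2)) : x i ∈ maximalIdeal A := by
  rw [← hx]; exact Ideal.subset_span ⟨i, rfl⟩

include hd hx in
theorem reg_x0 : IsSMulRegular A (x 0) := PurityReg.isSMulRegular_zero (d := d + 1) hd x hx

include hd hx in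
theorem reg_x1 : IsSMulRegular A (x 1) := by
  have hx' := PurityReg.span_range_comp_equiv x (Equiv.swap 0 1) hx
  have := PurityReg.isSMulRegular_zero (d := d + 1) hd (x ∘ Equiv.swap 0 1) hx'
  simpa using this

include hd hx in
theorem reg_x01 (a b : A) (h : x 0 * a = x 1 * b) : ∃ c, a = x 1 * c := by
  have hx' := PurityReg.span_range_comp_equiv x (Equiv.swap 0 1) hx
  have := PurityReg.reg_one hd (x ∘ Equiv.swap 0 1) hx' a b (by simpa using h)
  simpa using this

include hd hx in
theorem reg_x10 (a b : A) (h : x 1 * a = x 0 * b) : ∃ c, a = x 0 * c :=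
  PurityReg.reg_one hd x hx a b h

include hB in
theorem flatB (s : A) (hs : s ∈ maximalIdeal A) : Module.Flat A (Loc B s) := by
  have := hB s hs
  exact flat_of_formallyEtale B s

include hd hx hB in
theorem finiteE : Module.Finite A (EE x B) := by
  have := flatB B hB (x 0) (x_mem x hx 0)
  exact PurityS2.finite_S2 (maximalIdeal A : Set A) (x 0) (x 1) B (x_mem x hx 1)
    (reg_x1 hd x hx) (reg_x01 hd x hx)

include hd hx hB in
theorem SJ (s : A) (hs : s ∈ maximalIdeal A) :
    (∀ e : EE x B, ∃ (k : ℕ) (b : B), bb x B b = s ^ k • e) ∧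
      (∀ b : B, bb x B b = 0 → ∃ k : ℕ, s ^ k • b = 0) := by
  have := flatB B hB s hs
  exact ⟨fun e => PurityS2.beta_S _ _ B s hs e,
    fun b hb => PurityS2.beta_J _ _ B (reg_x0 hd x hx) s b hb⟩

include hd hx hB in
theorem etE (s : A) (hs : s ∈ maximalIdeal A) : Algebra.FormallyEtale A (Loc (EE x B) s) := by
  have := hB s hs
  obtain ⟨h1, h2⟩ := SJ hd x hx B hB s hs
  exact PurityS2.formallyEtale_loc (bb x B) s h1 h2

include hd hx hB in
theorem regE (c c' : EE x B) (h : x 1 • c = x 0 • c') : ∃ c'' : EE x B, c = x 0 • c'' :=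
  PurityS2.reg_S2 _ _ _ B (reg_x0 hd x hx) (reg_x10 hd x hx) (fun s hs => flatB B hB s hs) c c' h

include hd in
theorem two_le_dim : (2 : WithBot ℕ∞) ≤ ringKrullDim A := by
  rw [← IsRegularLocalRing.spanFinrank_maximalIdeal, hd]
  norm_cast
  omega

include hd hx hB in
/-- If the `S₂`-ification is free, then the extension property holds for `B`. -/
theorem ct_of_free (hfree : Module.Free A (EE x B)) :
    ∃ (E : Type u) (_ : CommRing E) (_ : Algebra A E) (_ : Module.Finite A E)
      (_ : Algebra.Etale A E) (β : B →ₐ[A] E),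
      ∀ s ∈ maximalIdeal A, (∀ e : E, ∃ (k : ℕ) (b : B), β b = s ^ k • e) ∧
        (∀ b : B, β b = 0 → ∃ k : ℕ, s ^ k • b = 0) := by
  have hfin := finiteE hd x hx B hB
  have het : Algebra.Etale A (EE x B) := PurityFree.etale_of_free (two_le_dim hd) (EE x B)
    (fun s hs => by
      have := etE hd x hx B hB s hs
      infer_instance)
  exact ⟨EE x B, inferInstance, inferInstance, hfin, het, bb x B, fun s hs => SJ hd x hx B hB s hs⟩

end Core

section Base

variable {A : Type u} [CommRing A] [IsRegularLocalRing A]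
  (hd : (maximalIdeal A).spanFinrank = 0 + 2) (x : Fin (0 + 2) → A)
  (hx : Ideal.span (Set.range x) = maximalIdeal A)
  (B : Type u) [CommRing B] [Algebra A B] [Module.Finite A B]
  (hB : ∀ s ∈ maximalIdeal A, Algebra.FormallyEtale A (Loc B s))

include hd hx hB in
/-- In dimension two, the `S₂`-ification is free. -/
theorem free_base : Module.Free A (EE x B) := by
  have hfin := finiteE hd x hx B hB
  have hfp : Module.FinitePresentation A (EE x B) := Module.finitePresentation_of_finite A _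
  have hjac : x 0 ∈ (⊥ : Ideal A).jacobson := by
    rw [IsLocalRing.jacobson_eq_maximalIdeal ⊥ bot_ne_top]; exact x_mem x hx 0
  have hreg0 : IsSMulRegular (EE x B) (x 0) := PurityS2.isSMulRegular_S2 _ _ B
  rw [← Module.free_quotSMulTop_iff_free A (EE x B) hjac hreg0]
  obtain ⟨hreg, hsf⟩ := PurityReg.quotient_regular (d := 1) hd x hx (Ideal.span {x 0}) rfl
  have hmax : maximalIdeal (A ⧸ Ideal.span {x 0}) =
      Ideal.span {Ideal.Quotient.mk (Ideal.span {x 0}) (x 1)} :=
    PurityReg.maximalIdeal_quotient_eq x hx _ rfl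
  have hjac1 : Ideal.Quotient.mk (Ideal.span {x 0}) (x 1) ∈
      (⊥ : Ideal (A ⧸ Ideal.span {x 0})).jacobson := by
    rw [IsLocalRing.jacobson_eq_maximalIdeal ⊥ bot_ne_top, hmax]
    exact Ideal.subset_span rfl
  have hreg1 : IsSMulRegular (QuotSMulTop (x 0) (EE x B))
      (Ideal.Quotient.mk (Ideal.span {x 0}) (x 1)) := by
    rw [isSMulRegular_iff_right_eq_zero_of_smul]
    intro m hm
    obtain ⟨e, rfl⟩ := Submodule.Quotient.mk_surjective _ m
    have h1 : Ideal.Quotient.mk (Ideal.span {x 0}) (x 1) •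
        (Submodule.Quotient.mk e : QuotSMulTop (x 0) (EE x B)) =
        Submodule.Quotient.mk (x 1 • e) := rfl
    rw [h1, Submodule.Quotient.mk_eq_zero, Submodule.mem_smul_pointwise_iff_exists] at hm
    obtain ⟨e', -, he'⟩ := hm
    obtain ⟨e'', he''⟩ := regE hd x hx B hB e e' he'.symm
    rw [Submodule.Quotient.mk_eq_zero, he'']
    exact Submodule.smul_mem_pointwise_smul _ _ _ trivial
  have hfin1 : Module.Finite (A ⧸ Ideal.span {x 0}) (QuotSMulTop (x 0) (EE x B)) :=
    Module.Finite.of_restrictScalars_finite A _ _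
  have hfp1 : Module.FinitePresentation (A ⧸ Ideal.span {x 0}) (QuotSMulTop (x 0) (EE x B)) :=
    Module.finitePresentation_of_finite _ _
  rw [← Module.free_quotSMulTop_iff_free _ _ hjac1 hreg1]
  have hmaxI : (Ideal.span {Ideal.Quotient.mk (Ideal.span {x 0}) (x 1)}).IsMaximal :=
    hmax ▸ maximalIdeal.isMaximal _
  let _ : Field ((A ⧸ Ideal.span {x 0}) ⧸
      Ideal.span {Ideal.Quotient.mk (Ideal.span {x 0}) (x 1)}) := Ideal.Quotient.field _
  exact Module.Free.of_divisionRing _ _

end Base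

section Ind

variable {A : Type u} [CommRing A] [IsRegularLocalRing A] {d : ℕ}
  (hd : (maximalIdeal A).spanFinrank = (d + 1) + 2) (x : Fin ((d + 1) + 2) → A)
  (hx : Ideal.span (Set.range x) = maximalIdeal A)
  (B : Type u) [CommRing B] [Algebra A B] [Module.Finite A B]
  (hB : ∀ s ∈ maximalIdeal A, Algebra.FormallyEtale A (Loc B s))
  (ih : ∀ (A' : Type u) [CommRing A'] [IsRegularLocalRing A'],
    (maximalIdeal A').spanFinrank = d + 2 → CT A')

include hd hx in
theorem reg_x20 (a b : A) (h : x 2 * a = x 0 * b) : ∃ c, a = x 0 * c := by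
  have hx' := PurityReg.span_range_comp_equiv x (Equiv.swap 1 2) hx
  have h2 : ((2 : Fin (d + 1 + 2)) : ℕ) = 2 := rfl
  have h1 : ((1 : Fin (d + 1 + 2)) : ℕ) = 1 := rfl
  have h0 : (Equiv.swap (1 : Fin (d + 1 + 2)) 2) 0 = 0 :=
    Equiv.swap_apply_of_ne_of_ne
      (fun h => by have := congrArg Fin.val h; rw [h1] at this; simp at this)
      (fun h => by have := congrArg Fin.val h; rw [h2] at this; simp at this)
  have := PurityReg.reg_one hd (x ∘ Equiv.swap 1 2) hx' a b (by simpa [h0] using h)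
  simpa [h0] using this

include hd hx hB ih in
/-- In dimension at least three, the `S₂`-ification is free. -/
theorem free_ind : Module.Free A (EE x B) := by
  have hJ : Ideal.span {x 0 ^ (0 + 1)} = Ideal.span {x 0} := by rw [zero_add, pow_one]
  obtain ⟨hreg, hsf⟩ := PurityReg.quotient_regular (d := d + 2) hd x hx
    (Ideal.span {x 0 ^ (0 + 1)}) hJ
  have hct : CT (Q A (x 0) 0) := ih (Q A (x 0) 0) hsf
  have hfin := finiteE hd x hx B hB
  have hmapm : (maximalIdeal A).map (Ideal.Quotient.mk (Ideal.span {x 0 ^ (0 + 1)})) =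
      maximalIdeal (Q A (x 0) 0) :=
    map_maximalIdeal_of_surjective _ Ideal.Quotient.mk_surjective
  have hmk_mem : ∀ s ∈ maximalIdeal A,
      Ideal.Quotient.mk (Ideal.span {x 0 ^ (0 + 1)}) s ∈ maximalIdeal (Q A (x 0) 0) := by
    intro s hs
    rw [← hmapm]
    exact Ideal.mem_map_of_mem _ hs
  have hB₀ : ∀ s' ∈ maximalIdeal (Q A (x 0) 0),
      Algebra.FormallyEtale (Q A (x 0) 0) (Loc ((Q A (x 0) 0) ⊗[A] (EE x B)) s') := by
    intro s' hs'
    obtain ⟨s, rfl⟩ := Ideal.Quotient.mk_surjective s'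
    have hs : s ∈ maximalIdeal A := by
      by_contra hns
      have hu : IsUnit s := by
        by_contra h
        exact hns ((mem_maximalIdeal s).2 h)
      exact (mem_maximalIdeal _).1 hs' (hu.map _)
    have := etE hd x hx B hB s hs
    exact PurityTensor.formallyEtale_tensor_away (Ideal.span {x 0 ^ (0 + 1)}) (EE x B) s
  obtain ⟨E₀, _, _, hfinE₀, hetE₀, β₀, hSJ₀⟩ := hct ((Q A (x 0) 0) ⊗[A] (EE x B)) hB₀
  let _ : Algebra A E₀ := Algebra.compHom E₀ (algebraMap A (Q A (x 0) 0))
  have : IsScalarTower A (Q A (x 0) 0) E₀ := IsScalarTower.of_algebraMap_eq (fun _ => rfl)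
  let φ₀ : EE x B →ₐ[A] E₀ := (β₀.restrictScalars A).comp Algebra.TensorProduct.includeRight
  have hφ₀ : ∀ c, φ₀ c = β₀ ((1 : Q A (x 0) 0) ⊗ₜ[A] c) := fun _ => rfl
  have hsmulE₀ : ∀ (a : A) (e : E₀),
      a • e = (Ideal.Quotient.mk (Ideal.span {x 0 ^ (0 + 1)}) a) • e :=
    fun a e => (IsScalarTower.algebraMap_smul (Q A (x 0) 0) a e).symm
  have hsmulT : ∀ (a : A) (c : EE x B),
      (Ideal.Quotient.mk (Ideal.span {x 0 ^ (0 + 1)}) a) • ((1 : Q A (x 0) 0) ⊗ₜ[A] c) =
        (1 : Q A (x 0) 0) ⊗ₜ[A] (a • c) := by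
    intro a c
    rw [TensorProduct.tmul_smul, ← IsScalarTower.algebraMap_smul (Q A (x 0) 0) a]
    rfl
  have hS : ∀ s ∈ maximalIdeal A, ∀ e₀ : E₀, ∃ (k : ℕ) (c : EE x B), φ₀ c = s ^ k • e₀ := by
    intro s hs e₀
    obtain ⟨k, b₀, hb₀⟩ := (hSJ₀ _ (hmk_mem s hs)).1 e₀
    obtain ⟨c, rfl⟩ := PurityTensor.exists_one_tmul _ _ b₀
    exact ⟨k, c, by rw [hφ₀, hb₀, hsmulE₀, map_pow]⟩
  have hJ' : ∀ s ∈ maximalIdeal A, ∀ c : EE x B, φ₀ c = 0 →
      ∃ (k : ℕ) (c' : EE x B), s ^ k • c = x 0 • c' := by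
    intro s hs c hc
    have hc1 : β₀ ((1 : Q A (x 0) 0) ⊗ₜ[A] c) = 0 := hc
    obtain ⟨k, hk⟩ := (hSJ₀ _ (hmk_mem s hs)).2 ((1 : Q A (x 0) 0) ⊗ₜ[A] c) hc1
    rw [← map_pow, hsmulT] at hk
    obtain ⟨c', hc'⟩ := PurityTensor.exists_smul_of_one_tmul_eq_zero _ _ hk
    exact ⟨k, c', by rw [hc', zero_add, pow_one]⟩
  have hflat0 : Module.Flat A (Loc (EE x B) (x 0)) := by
    have := etE hd x hx B hB (x 0) (x_mem x hx 0)
    exact flat_of_formallyEtale (EE x B) (x 0)
  have het1 := etE hd x hx B hB (x 1) (x_mem x hx 1)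
  have het2 := etE hd x hx B hB (x 2) (x_mem x hx 2)
  have hfC : IsSMulRegular (EE x B) (x 0) := PurityS2.isSMulRegular_S2 _ _ B
  have hRC := regE hd x hx B hB
  have hsurj : Function.Surjective φ₀ :=
    PurityStep.step (x 0) (x 1) (x 2) (EE x B) E₀ (reg_x0 hd x hx) (reg_x10 hd x hx)
      (reg_x20 hd x hx) (PurityReg.reg_two hd x hx) (reg_x01 hd x hx) hfC hRC φ₀
      (hS _ (x_mem x hx 1)) (hJ' _ (x_mem x hx 1)) (hS _ (x_mem x hx 2))
  -- the kernel of `φ₀`
  have hker : LinearMap.ker φ₀.toLinearMap =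
      (x 0 ^ (0 + 1)) • (⊤ : Submodule A (EE x B)) := by
    ext c
    rw [LinearMap.mem_ker, Submodule.mem_smul_pointwise_iff_exists]
    constructor
    · intro hc
      obtain ⟨k, c', hc'⟩ := hJ' _ (x_mem x hx 1) c hc
      obtain ⟨c'', hc''⟩ := PurityAlg1.pow_smul_mem_of_regular hRC k c c' hc'
      exact ⟨c'', trivial, by rw [hc'', zero_add, pow_one]⟩
    · rintro ⟨c', -, rfl⟩
      show φ₀ ((x 0 ^ (0 + 1)) • c') = 0
      rw [map_smul, hsmulE₀]
      have : Ideal.Quotient.mk (Ideal.span {x 0 ^ (0 + 1)}) (x 0 ^ (0 + 1)) = 0 :=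
        Ideal.Quotient.eq_zero_iff_mem.2 (Ideal.subset_span rfl)
      rw [this, zero_smul]
  have hfp : Module.FinitePresentation A (EE x B) := Module.finitePresentation_of_finite A _
  have hjac : x 0 ^ (0 + 1) ∈ (⊥ : Ideal A).jacobson := by
    rw [IsLocalRing.jacobson_eq_maximalIdeal ⊥ bot_ne_top]
    exact Ideal.pow_mem_of_mem _ (x_mem x hx 0) _ (by omega)
  rw [← Module.free_quotSMulTop_iff_free A (EE x B) hjac (hfC.pow _)]
  have hfreeE₀ : Module.Free (Q A (x 0) 0) E₀ := Module.free_of_flat_of_isLocalRing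
  let ψ : QuotSMulTop (x 0 ^ (0 + 1)) (EE x B) ≃ₗ[A] E₀ :=
    (Submodule.quotEquivOfEq _ _ hker.symm).trans
      (LinearMap.quotKerEquivOfSurjective φ₀.toLinearMap hsurj)
  exact Module.Free.of_equiv
    (ψ.extendScalarsOfSurjective (S := Q A (x 0) 0) Ideal.Quotient.mk_surjective).symm

end Ind

theorem ct_aux (n : ℕ) : ∀ (A : Type u) [CommRing A] [IsRegularLocalRing A],
    (maximalIdeal A).spanFinrank = n + 2 → CT A := by
  induction n with
  | zero =>
    intro A _ _ hd B _ _ _ hB
    obtain ⟨x, hx⟩ := PurityReg.exists_generators A (0 + 2) hd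
    exact ct_of_free hd x hx B hB (free_base hd x hx B hB)
  | succ n ih =>
    intro A _ _ hd B _ _ _ hB
    obtain ⟨x, hx⟩ := PurityReg.exists_generators A (n + 1 + 2) hd
    exact ct_of_free hd x hx B hB (free_ind hd x hx B hB ih)

/-- **Zariski–Nagata purity, algebraic form**: the extension property holds for regular local rings
of dimension at least two. -/
theorem ct (A : Type u) [CommRing A] [IsRegularLocalRing A]
    (hA : (2 : WithBot ℕ∞) ≤ ringKrullDim A) : CT A := by
  have h1 : (2 : WithBot ℕ∞) ≤ ((maximalIdeal A).spanFinrank : WithBot ℕ∞) := by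
    rw [IsRegularLocalRing.spanFinrank_maximalIdeal]; exact hA
  have h2 : 2 ≤ (maximalIdeal A).spanFinrank := by exact_mod_cast h1
  obtain ⟨n, hn⟩ := Nat.exists_eq_add_of_le h2
  exact ct_aux n A (by omega)

end Groth.Agent.Lib.helper9.PurityCT
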