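/-
Helper library (helper9): extending a section of a separated morphism of finite type over a
dense open of an integral scheme across a normal point, when the closure of the section has an
isolated point in the fibre (via the local form of Zariski's main theorem).
-/
import Groth.Agent.Lib.Helper9.ZMTLocalIso

set_option autoImplicit false

namespace Groth.Agent.Lib.helper9

open AlgebraicGeometry CategoryTheory TopologicalSpace

universe u

/-- The scheme-theoretic image of a quasi-compact morphism from an integral scheme is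
integral. -/
theorem isIntegral_image_of_quasiCompact {T P : Scheme.{u}} [IsIntegral T] (g : T ⟶ P)
    [QuasiCompact g] : IsIntegral g.image := by
  have hirr : IrreducibleSpace g.image := by
    have h1 : IsIrreducible (Set.range g.toImage) := by
      rw [← Set.image_univ]
      exact (IrreducibleSpace.isIrreducible_univ T).image _ g.toImage.continuous.continuousOn
    have h2 := h1.closure
    rw [g.toImage.denseRange.closure_range] at h2
    exact (irreducibleSpace_def _).mpr h2
  have hred : IsReduced g.image := by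
    have hcov : IsOpenCover (fun U : P.affineOpens => g.imageι ⁻¹ᵁ U.1) := by
      have := (iSup_affineOpens_eq_top P)
      rw [IsOpenCover, ← Scheme.Hom.preimage_iSup, this]
      rfl
    let 𝒰 := g.image.openCoverOfIsOpenCover _ hcov
    have : ∀ i, IsReduced (𝒰.X i) := by
      intro U
      have haff : IsAffineOpen (g.imageι ⁻¹ᵁ U.1) := U.2.preimage g.imageι
      have h1 : IsAffine (𝒰.X U) := haff
      have h2 : _root_.IsReduced Γ(g.image, g.imageι ⁻¹ᵁ U.1) :=
        isReduced_of_injective (g.toImage.app (g.imageι ⁻¹ᵁ U.1)).hom (g.toImage_app_injective U)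
      have h3 : _root_.IsReduced Γ(𝒰.X U, ⊤) :=
        isReduced_of_injective (Scheme.Opens.topIso (g.imageι ⁻¹ᵁ U.1)).hom.hom
          ((ConcreteCategory.bijective_of_isIso (Scheme.Opens.topIso (g.imageι ⁻¹ᵁ U.1)).hom).1)
      exact isReduced_of_isAffine_isReduced _
    exact IsReduced.of_openCover _ 𝒰
  exact isIntegral_of_irreducibleSpace_of_isReduced _

/-- A morphism locally of finite type is quasi-finite at a point that is cut out in its fibre by
an open set. -/
theorem quasiFiniteAt_of_inter_preimage_eq_singleton {X Y : Scheme.{u}} (f : X ⟶ Y)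
    [LocallyOfFiniteType f] (x : X) (O : X.Opens) (hO : (O : Set X) ∩ f ⁻¹' {f x} = {x}) :
    f.QuasiFiniteAt x := by
  rw [Scheme.Hom.quasiFiniteAt_iff_isOpen_singleton_asFiber,
    ← (f.fiberHomeo (f x)).isOpen_image]
  have h1 : (f.fiberHomeo (f x)) (f.asFiber x) = ⟨x, rfl⟩ :=
    (f.fiberHomeo (f x)).apply_symm_apply ⟨x, rfl⟩
  have h2 : (f.fiberHomeo (f x)) '' {f.asFiber x} = Subtype.val ⁻¹' (O : Set X) := by
    rw [Set.image_singleton, h1]
    ext ⟨w, hw⟩
    simp only [Set.mem_singleton_iff, Set.mem_preimage, Subtype.mk.injEq]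
    constructor
    · intro hwx
      have : x ∈ (O : Set X) ∩ f ⁻¹' {f x} := by rw [hO]; rfl
      rw [hwx]
      exact this.1
    · intro hwO
      have : w ∈ (O : Set X) ∩ f ⁻¹' {f x} := ⟨hwO, hw⟩
      rw [hO] at this
      exact this
  rw [h2]
  exact O.isOpen.preimage continuous_subtype_val

/-- Let `q : P ⟶ W` be separated and locally of finite type over an integral scheme `W`, and `g` a
section of `q` over a nonempty retrocompact open `U`. If `x` is a normal point of `W` and the
closure of the image of `g` has a point over `x` that is isolated in its fibre, then `g` extends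
to a section over a neighbourhood of `x`. -/
theorem exists_section_extension_of_normal_point {W P : Scheme.{u}} [IsIntegral W]
    (q : P ⟶ W) [IsSeparated q] [LocallyOfFiniteType q]
    (U : W.Opens) [Nonempty U] [QuasiCompact U.ι] (g : (U : Scheme.{u}) ⟶ P) (hg : g ≫ q = U.ι)
    (x : W) (hN : IsIntegrallyClosed (W.presheaf.stalk x))
    (z : P) (hz : q z = x) (hzΓ : z ∈ closure (Set.range g))
    (O : P.Opens) (hO : (O : Set P) ∩ closure (Set.range g) ∩ q ⁻¹' {x} = {z}) :
    ∃ (V : W.Opens) (σ : (V : Scheme.{u}) ⟶ P), x ∈ V ∧ σ ≫ q = V.ι ∧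
      W.homOfLE (inf_le_right : U ⊓ V ≤ V) ≫ σ = W.homOfLE (inf_le_left : U ⊓ V ≤ U) ≫ g := by
  have hUint : IsIntegral (U : Scheme.{u}) := inferInstance
  have himm : IsImmersion g := by
    have : IsImmersion (g ≫ q) := by rw [hg]; infer_instance
    exact IsImmersion.of_comp g q
  have hqc : QuasiCompact g := by
    have : QuasiCompact (g ≫ q) := by rw [hg]; infer_instance
    exact QuasiCompact.of_comp g q
  have hΓint : IsIntegral g.image := isIntegral_image_of_quasiCompact g
  have ht : IsOpenImmersion g.toImage := inferInstance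
  have htι : g.toImage ≫ g.imageι = g := g.toImage_imageι
  set p : g.image ⟶ W := g.imageι ≫ q with hp
  have htp : g.toImage ≫ p = U.ι := by rw [hp, ← Category.assoc, htι, hg]
  have hpsep : IsSeparated p := inferInstance
  have hplft : LocallyOfFiniteType p := inferInstance
  have hη1 : g.toImage (genericPoint U) = genericPoint g.image :=
    genericPoint_eq_of_isOpenImmersion g.toImage
  have hη2 : U.ι (genericPoint U) = genericPoint W := genericPoint_eq_of_isOpenImmersion U.ι
  have hgen : p (genericPoint g.image) = genericPoint W := by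
    rw [← hη1, ← Scheme.Hom.comp_apply, htp, hη2]
  have hbir : IsIso (p.stalkMap (genericPoint g.image)) := by
    have h0 : IsOpenImmersion (g.toImage ≫ p) := by rw [htp]; infer_instance
    have h1 : IsIso ((g.toImage ≫ p).stalkMap (genericPoint U)) := inferInstance
    rw [Scheme.Hom.stalkMap_comp] at h1
    have h2 : IsIso (g.toImage.stalkMap (genericPoint U)) := inferInstance
    have h3 : IsIso (p.stalkMap (g.toImage (genericPoint U))) :=
      @IsIso.of_isIso_comp_right _ _ _ _ _ (p.stalkMap (g.toImage (genericPoint U)))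
        (g.toImage.stalkMap (genericPoint U)) h2 h1
    exact hη1 ▸ h3
  have hrange : Set.range g.imageι = closure (Set.range g) := by
    rw [Scheme.IdealSheafData.range_subschemeι, Scheme.Hom.support_ker]
  obtain ⟨z', hz'⟩ : z ∈ Set.range g.imageι := hrange ▸ hzΓ
  have hpz : p z' = x := by
    rw [hp, Scheme.Hom.comp_apply, hz', hz]
  have hzmem : z ∈ (O : Set P) ∩ closure (Set.range g) ∩ q ⁻¹' {x} := by rw [hO]; rfl
  have hq : p.QuasiFiniteAt z' := by
    refine quasiFiniteAt_of_inter_preimage_eq_singleton p z' (g.imageι ⁻¹ᵁ O) ?_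
    apply Set.eq_singleton_iff_unique_mem.mpr
    constructor
    · refine ⟨?_, rfl⟩
      show g.imageι z' ∈ O
      rw [hz']
      exact hzmem.1.1
    · rintro w ⟨hwO, hwp⟩
      apply g.imageι.isEmbedding.injective
      rw [hz']
      have : g.imageι w ∈ (O : Set P) ∩ closure (Set.range g) ∩ q ⁻¹' {x} := by
        refine ⟨⟨hwO, ?_⟩, ?_⟩
        · rw [← hrange]; exact ⟨w, rfl⟩
        · show q (g.imageι w) = x
          rw [← hpz, ← hwp]
          rfl
      rw [hO] at this
      exact this
  have hN' : IsIntegrallyClosed (W.presheaf.stalk (p z')) := by rw [hpz]; exact hN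
  obtain ⟨V, hxV, hiso⟩ :=
    exists_isIso_morphismRestrict_of_quasiFiniteAt_of_normal_point p hgen hbir z' hN' hq
  refine ⟨V, inv (p ∣_ V) ≫ (p ⁻¹ᵁ V).ι ≫ g.imageι, hpz ▸ hxV, ?_, ?_⟩
  · rw [Category.assoc, Category.assoc, ← hp, ← morphismRestrict_ι, IsIso.inv_hom_id_assoc]
  · have hsub : Set.range (W.homOfLE (inf_le_left : U ⊓ V ≤ U) ≫ g.toImage) ⊆
        Set.range (p ⁻¹ᵁ V).ι := by
      rintro _ ⟨u, rfl⟩
      rw [Scheme.Opens.range_ι]
      show p ((W.homOfLE (inf_le_left : U ⊓ V ≤ U) ≫ g.toImage) u) ∈ V
      rw [← Scheme.Hom.comp_apply, Category.assoc, htp, Scheme.homOfLE_ι]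
      exact u.2.2
    set c := IsOpenImmersion.lift (p ⁻¹ᵁ V).ι
      (W.homOfLE (inf_le_left : U ⊓ V ≤ U) ≫ g.toImage) hsub with hc
    have hc' : c ≫ (p ⁻¹ᵁ V).ι = W.homOfLE (inf_le_left : U ⊓ V ≤ U) ≫ g.toImage :=
      IsOpenImmersion.lift_fac _ _ _
    have hac : W.homOfLE (inf_le_right : U ⊓ V ≤ V) ≫ inv (p ∣_ V) = c := by
      rw [IsIso.comp_inv_eq, ← cancel_mono V.ι, Category.assoc, morphismRestrict_ι,
        ← Category.assoc, hc', Category.assoc, htp, Scheme.homOfLE_ι, Scheme.homOfLE_ι]
    rw [← Category.assoc, hac, ← Category.assoc, hc', Category.assoc, htι]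

end Groth.Agent.Lib.helper9
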