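/-
Helper library (helper9): the section-extension theorem of `SectionExtend`, with the extra
information that the extended section takes the prescribed value at the normal point.
-/
import Groth.Agent.Lib.Helper9.SectionExtend

set_option autoImplicit false

namespace Groth.Agent.Lib.helper9

open AlgebraicGeometry CategoryTheory TopologicalSpace

universe u

/-- Let `q : P ⟶ W` be separated and locally of finite type over an integral scheme `W`, and `g` a
section of `q` over a nonempty retrocompact open `U`. If `x` is a normal point of `W` and the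
closure of the image of `g` has a point over `x` that is isolated in its fibre, then `g` extends
to a section over a neighbourhood of `x`. -/
theorem exists_section_extension_of_normal_point_apply {W P : Scheme.{u}} [IsIntegral W]
    (q : P ⟶ W) [IsSeparated q] [LocallyOfFiniteType q]
    (U : W.Opens) [Nonempty U] [QuasiCompact U.ι] (g : (U : Scheme.{u}) ⟶ P) (hg : g ≫ q = U.ι)
    (x : W) (hN : IsIntegrallyClosed (W.presheaf.stalk x))
    (z : P) (hz : q z = x) (hzΓ : z ∈ closure (Set.range g))
    (O : P.Opens) (hO : (O : Set P) ∩ closure (Set.range g) ∩ q ⁻¹' {x} = {z}) :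
    ∃ (V : W.Opens) (σ : (V : Scheme.{u}) ⟶ P) (hxV : x ∈ V), σ ≫ q = V.ι ∧
      W.homOfLE (inf_le_right : U ⊓ V ≤ V) ≫ σ = W.homOfLE (inf_le_left : U ⊓ V ≤ U) ≫ g ∧
      σ ⟨x, hxV⟩ = z := by
  have hUint : IsIntegral (U : Scheme.{u}) := inferInstance
  have himm : IsImmersion g := by
    have : IsImmersion (g ≫ q) := by rw [hg]; infer_instance
    exact IsImmersion.of_comp g q
  have hqc : QuasiCompact g := by
    have : QuasiCompact (g ≫ q) := by rw [hg]; infer_instance
    exact QuasiCompact.of_comp g q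
  have hΓint : IsIntegral g.image := isIntegral_image_of_quasiCompact g
  have ht : IsOpenImmersion g.toImage := inferInstance
  have htι : g.toImage ≫ g.imageι = g := g.toImage_imageι
  set p : g.image ⟶ W := g.imageι ≫ q with hp
  have htp : g.toImage ≫ p = U.ι := by rw [hp, ← Category.assoc, htι, hg]
  have hpsep : IsSeparated p := inferInstance
  have hplft : LocallyOfFiniteType p := inferInstance
  have hη1 : g.toImage (genericPoint U) = genericPoint g.image :=
    genericPoint_eq_of_isOpenImmersion g.toImage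
  have hη2 : U.ι (genericPoint U) = genericPoint W := genericPoint_eq_of_isOpenImmersion U.ι
  have hgen : p (genericPoint g.image) = genericPoint W := by
    rw [← hη1, ← Scheme.Hom.comp_apply, htp, hη2]
  have hbir : IsIso (p.stalkMap (genericPoint g.image)) := by
    have h0 : IsOpenImmersion (g.toImage ≫ p) := by rw [htp]; infer_instance
    have h1 : IsIso ((g.toImage ≫ p).stalkMap (genericPoint U)) := inferInstance
    rw [Scheme.Hom.stalkMap_comp] at h1
    have h2 : IsIso (g.toImage.stalkMap (genericPoint U)) := inferInstance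
    have h3 : IsIso (p.stalkMap (g.toImage (genericPoint U))) :=
      @IsIso.of_isIso_comp_right _ _ _ _ _ (p.stalkMap (g.toImage (genericPoint U)))
        (g.toImage.stalkMap (genericPoint U)) h2 h1
    exact hη1 ▸ h3
  have hrange : Set.range g.imageι = closure (Set.range g) := by
    rw [Scheme.IdealSheafData.range_subschemeι, Scheme.Hom.support_ker]
  obtain ⟨z', hz'⟩ : z ∈ Set.range g.imageι := hrange ▸ hzΓ
  have hpz : p z' = x := by
    rw [hp, Scheme.Hom.comp_apply, hz', hz]
  have hzmem : z ∈ (O : Set P) ∩ closure (Set.range g) ∩ q ⁻¹' {x} := by rw [hO]; rfl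
  have hq : p.QuasiFiniteAt z' := by
    refine quasiFiniteAt_of_inter_preimage_eq_singleton p z' (g.imageι ⁻¹ᵁ O) ?_
    apply Set.eq_singleton_iff_unique_mem.mpr
    constructor
    · refine ⟨?_, rfl⟩
      show g.imageι z' ∈ O
      rw [hz']
      exact hzmem.1.1
    · rintro w ⟨hwO, hwp⟩
      apply g.imageι.isEmbedding.injective
      rw [hz']
      have : g.imageι w ∈ (O : Set P) ∩ closure (Set.range g) ∩ q ⁻¹' {x} := by
        refine ⟨⟨hwO, ?_⟩, ?_⟩
        · rw [← hrange]; exact ⟨w, rfl⟩
        · show q (g.imageι w) = x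
          rw [← hpz, ← hwp]
          rfl
      rw [hO] at this
      exact this
  have hN' : IsIntegrallyClosed (W.presheaf.stalk (p z')) := by rw [hpz]; exact hN
  obtain ⟨V, hxV, hiso⟩ :=
    exists_isIso_morphismRestrict_of_quasiFiniteAt_of_normal_point p hgen hbir z' hN' hq
  refine ⟨V, inv (p ∣_ V) ≫ (p ⁻¹ᵁ V).ι ≫ g.imageι, hpz ▸ hxV, ?_, ?_, ?_⟩
  · rw [Category.assoc, Category.assoc, ← hp, ← morphismRestrict_ι, IsIso.inv_hom_id_assoc]
  · have hsub : Set.range (W.homOfLE (inf_le_left : U ⊓ V ≤ U) ≫ g.toImage) ⊆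
        Set.range (p ⁻¹ᵁ V).ι := by
      rintro _ ⟨u, rfl⟩
      rw [Scheme.Opens.range_ι]
      show p ((W.homOfLE (inf_le_left : U ⊓ V ≤ U) ≫ g.toImage) u) ∈ V
      rw [← Scheme.Hom.comp_apply, Category.assoc, htp, Scheme.homOfLE_ι]
      exact u.2.2
    set c := IsOpenImmersion.lift (p ⁻¹ᵁ V).ι
      (W.homOfLE (inf_le_left : U ⊓ V ≤ U) ≫ g.toImage) hsub with hc
    have hc' : c ≫ (p ⁻¹ᵁ V).ι = W.homOfLE (inf_le_left : U ⊓ V ≤ U) ≫ g.toImage :=
      IsOpenImmersion.lift_fac _ _ _
    have hac : W.homOfLE (inf_le_right : U ⊓ V ≤ V) ≫ inv (p ∣_ V) = c := by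
      rw [IsIso.comp_inv_eq, ← cancel_mono V.ι, Category.assoc, morphismRestrict_ι,
        ← Category.assoc, hc', Category.assoc, htp, Scheme.homOfLE_ι, Scheme.homOfLE_ι]
    rw [← Category.assoc, hac, ← Category.assoc, hc', Category.assoc, htι]
  · have hz'V : z' ∈ p ⁻¹ᵁ V := hxV
    have h1 : (p ∣_ V) ⟨z', hz'V⟩ = (⟨x, hpz ▸ hxV⟩ : V) := by
      apply Subtype.ext
      rw [morphismRestrict_base_coe]
      exact hpz
    have h2 : (inv (p ∣_ V)) (⟨x, hpz ▸ hxV⟩ : V) = ⟨z', hz'V⟩ := by
      rw [← h1, ← Scheme.Hom.comp_apply, IsIso.hom_inv_id]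
      rfl
    rw [Scheme.Hom.comp_apply, Scheme.Hom.comp_apply, h2]
    exact hz'

end Groth.Agent.Lib.helper9
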