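/-
Helper library (helper9): extending a section of a separated morphism locally of finite type over
a locally Noetherian scheme across a normal point, with prescribed value (the closure of the image
of the section has an isolated point in the fibre).
-/
import Groth.Agent.Lib.Helper9.SectionExtendPt
import Groth.Agent.S2260

set_option autoImplicit false

namespace Groth.Agent.Lib.helper9

open AlgebraicGeometry CategoryTheory CategoryTheory.Limits TopologicalSpace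

universe u

/-- Let `q : Y ⟶ X` be separated and locally of finite type over a locally Noetherian scheme, `h` a
section of `q` over an open `U`, `x` a normal point of `X`, and `z` a point over `x` in the closure
of the image of `h` which is isolated in the fibre of that closure. Then `h` extends to a section
`σ` over a neighbourhood of `x` with `σ x = z`. -/
theorem exists_section_extension_of_normal_point_of_isLocallyNoetherian {X Y : Scheme.{u}}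
    [IsLocallyNoetherian X] (q : Y ⟶ X) [IsSeparated q] [LocallyOfFiniteType q]
    (U : X.Opens) (h : (U : Scheme.{u}) ⟶ Y) (hh : h ≫ q = U.ι)
    (x : X) [IsDomain (X.presheaf.stalk x)] (hN : IsIntegrallyClosed (X.presheaf.stalk x))
    (z : Y) (hz : q z = x) (hzΓ : z ∈ closure (Set.range h))
    (O : Y.Opens) (hO : (O : Set Y) ∩ closure (Set.range h) ∩ q ⁻¹' {x} = {z}) :
    ∃ (V : X.Opens) (σ : (V : Scheme.{u}) ⟶ Y) (hxV : x ∈ V), σ ≫ q = V.ι ∧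
      X.homOfLE (inf_le_right : U ⊓ V ≤ V) ≫ σ = X.homOfLE (inf_le_left : U ⊓ V ≤ U) ≫ h ∧
      σ ⟨x, hxV⟩ = z := by
  obtain ⟨W, hxW, hWint⟩ := Groth.Agent.S2260.result X x
  have hWne : Nonempty (W : Scheme.{u}) := ⟨⟨x, hxW⟩⟩
  -- `x` lies in the closure of `U`
  have hxU : x ∈ closure (U : Set X) := by
    have h1 : q z ∈ closure (q '' Set.range h) :=
      image_closure_subset_closure_image q.continuous ⟨z, hzΓ, rfl⟩
    rw [hz] at h1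
    refine closure_mono ?_ h1
    rintro _ ⟨_, ⟨u, rfl⟩, rfl⟩
    rw [← Scheme.Hom.comp_apply, hh]
    exact u.2
  obtain ⟨u₀, hu₀W, hu₀U⟩ : ((W : Set X) ∩ (U : Set X)).Nonempty :=
    mem_closure_iff.mp hxU W W.isOpen hxW
  set U₁ : (W : Scheme.{u}).Opens := W.ι ⁻¹ᵁ U with hU₁
  have hU₁ne : Nonempty U₁ := ⟨⟨⟨u₀, hu₀W⟩, hu₀U⟩⟩
  have hU₁qc : QuasiCompact U₁.ι := inferInstance
  -- the map `k : U₁ ⟶ U`
  have hkrange : Set.range (U₁.ι ≫ W.ι) ⊆ Set.range U.ι := by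
    rintro _ ⟨w, rfl⟩
    rw [Scheme.Opens.range_ι]
    exact w.2
  set k := IsOpenImmersion.lift U.ι (U₁.ι ≫ W.ι) hkrange with hk
  have hk' : k ≫ U.ι = U₁.ι ≫ W.ι := IsOpenImmersion.lift_fac _ _ _
  -- the section `g₁`
  have hg₁range : Set.range (k ≫ h) ⊆ Set.range (q ⁻¹ᵁ W).ι := by
    rintro _ ⟨w, rfl⟩
    rw [Scheme.Opens.range_ι]
    show q ((k ≫ h) w) ∈ W
    rw [← Scheme.Hom.comp_apply, Category.assoc, hh, hk']
    exact (U₁.ι w).2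
  set g₁ := IsOpenImmersion.lift (q ⁻¹ᵁ W).ι (k ≫ h) hg₁range with hg₁
  have hg₁' : g₁ ≫ (q ⁻¹ᵁ W).ι = k ≫ h := IsOpenImmersion.lift_fac _ _ _
  have hg₁q : g₁ ≫ q ∣_ W = U₁.ι := by
    rw [← cancel_mono W.ι, Category.assoc, morphismRestrict_ι, ← Category.assoc, hg₁',
      Category.assoc, hh, hk']
  -- the normal point
  have hN' : IsIntegrallyClosed ((W : Scheme.{u}).presheaf.stalk (⟨x, hxW⟩ : W)) :=
    IsIntegrallyClosed.of_equiv (W.stalkIso ⟨x, hxW⟩).commRingCatIsoToRingEquiv.symm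
  -- the point `z₁`
  have hzW : z ∈ q ⁻¹ᵁ W := by
    show q z ∈ W
    rw [hz]; exact hxW
  have hz₁q : (q ∣_ W) ⟨z, hzW⟩ = (⟨x, hxW⟩ : W) := by
    apply Subtype.ext
    rw [morphismRestrict_base_coe]
    exact hz
  have hιrange : (q ⁻¹ᵁ W).ι '' Set.range g₁ = Set.range (k ≫ h) := by
    rw [← Set.range_comp, ← hg₁']
    rfl
  have hsub : Set.range (k ≫ h) ⊆ Set.range h := by
    rintro _ ⟨a, rfl⟩
    exact ⟨k a, rfl⟩
  have hzΓ₁ : (⟨z, hzW⟩ : (q ⁻¹ᵁ W : Y.Opens)) ∈ closure (Set.range g₁) := by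
    rw [(q ⁻¹ᵁ W).ι.isEmbedding.isInducing.closure_eq_preimage_closure_image, hιrange]
    show z ∈ closure (Set.range (k ≫ h))
    rw [mem_closure_iff]
    intro N hNopen hzN
    obtain ⟨_, ⟨hy1, hy2⟩, ⟨u, rfl⟩⟩ := mem_closure_iff.mp hzΓ (N ∩ (q ⁻¹ᵁ W : Set _))
      (hNopen.inter (q ⁻¹ᵁ W).isOpen) ⟨hzN, hzW⟩
    have huW : (U.ι u) ∈ W := by
      have : q (h u) ∈ W := hy2
      rwa [← Scheme.Hom.comp_apply, hh] at this
    refine ⟨h u, hy1, ⟨⟨⟨U.ι u, huW⟩, u.2⟩, ?_⟩⟩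
    rw [Scheme.Hom.comp_apply]
    congr 1
    apply U.ι.isEmbedding.injective
    rw [← Scheme.Hom.comp_apply, hk']
    rfl
  have hzmem : z ∈ (O : Set _) ∩ closure (Set.range h) ∩ q ⁻¹' {x} := by rw [hO]; rfl
  have hO₁ : ((((q ⁻¹ᵁ W).ι ⁻¹ᵁ O : (q ⁻¹ᵁ W : Y.Opens).toScheme.Opens)) :
      Set (q ⁻¹ᵁ W : Y.Opens)) ∩ closure (Set.range g₁) ∩
      (q ∣_ W) ⁻¹' {(⟨x, hxW⟩ : W)} = {⟨z, hzW⟩} := by
    apply Set.eq_singleton_iff_unique_mem.mpr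
    constructor
    · exact ⟨⟨hzmem.1.1, hzΓ₁⟩, hz₁q⟩
    · rintro w ⟨⟨hwO, hwcl⟩, hwq⟩
      apply (q ⁻¹ᵁ W).ι.isEmbedding.injective
      show (q ⁻¹ᵁ W).ι w = z
      have hw : (q ⁻¹ᵁ W).ι w ∈ (O : Set _) ∩ closure (Set.range h) ∩ q ⁻¹' {x} := by
        refine ⟨⟨hwO, ?_⟩, ?_⟩
        · have h1 : (q ⁻¹ᵁ W).ι w ∈ closure ((q ⁻¹ᵁ W).ι '' Set.range g₁) :=
            image_closure_subset_closure_image (q ⁻¹ᵁ W).ι.continuous ⟨w, hwcl, rfl⟩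
          rw [hιrange] at h1
          exact closure_mono hsub h1
        · show q ((q ⁻¹ᵁ W).ι w) = x
          have h2 : W.ι ((q ∣_ W) w) = W.ι (⟨x, hxW⟩ : W) := congrArg W.ι hwq
          rw [← Scheme.Hom.comp_apply, morphismRestrict_ι, Scheme.Hom.comp_apply] at h2
          exact h2
      rw [hO] at hw
      exact hw
  obtain ⟨V, σ, hxV, hσq, hσU, hσz⟩ := exists_section_extension_of_normal_point_apply (q ∣_ W) U₁ g₁
    hg₁q (⟨x, hxW⟩ : W) hN' ⟨z, hzW⟩ hz₁q hzΓ₁ ((q ⁻¹ᵁ W).ι ⁻¹ᵁ O) hO₁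
  set v : ((W.ι ''ᵁ V : X.Opens) : Scheme.{u}) ⟶ Y :=
    (W.ι.isoImage V).inv ≫ σ ≫ (q ⁻¹ᵁ W).ι with hv
  have hvS : v ≫ q = (W.ι ''ᵁ V).ι := by
    rw [hv]
    simp only [Category.assoc]
    rw [← morphismRestrict_ι, ← Category.assoc σ, hσq, Scheme.Hom.isoImage_inv_ι]
  have hxV' : x ∈ W.ι ''ᵁ V := ⟨⟨x, hxW⟩, hxV, rfl⟩
  refine ⟨W.ι ''ᵁ V, v, hxV', hvS, ?_, ?_⟩
  · have hVW : W.ι ''ᵁ V ≤ W := by
      rintro _ ⟨w, -, rfl⟩
      exact w.2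
    have hAW : U ⊓ W.ι ''ᵁ V ≤ W := inf_le_right.trans hVW
    have hAred : IsReduced ((U ⊓ W.ι ''ᵁ V : X.Opens) : Scheme.{u}) :=
      isReduced_of_isOpenImmersion (X.homOfLE hAW)
    have hTrange : Set.range ((U₁ ⊓ V).ι ≫ W.ι) ⊆ Set.range (U ⊓ W.ι ''ᵁ V).ι := by
      rintro _ ⟨w, rfl⟩
      rw [Scheme.Opens.range_ι]
      exact ⟨w.2.1, ⟨_, w.2.2, rfl⟩⟩
    set ι' := IsOpenImmersion.lift (U ⊓ W.ι ''ᵁ V).ι ((U₁ ⊓ V).ι ≫ W.ι) hTrange with hι'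
    have hι'fac : ι' ≫ (U ⊓ W.ι ''ᵁ V).ι = (U₁ ⊓ V).ι ≫ W.ι := IsOpenImmersion.lift_fac _ _ _
    have hι'open : IsOpenImmersion ι' := by
      have : IsOpenImmersion (ι' ≫ (U ⊓ W.ι ''ᵁ V).ι) := by rw [hι'fac]; infer_instance
      exact IsOpenImmersion.of_comp ι' (U ⊓ W.ι ''ᵁ V).ι
    have hTne : Nonempty ((U₁ ⊓ V : (W : Scheme.{u}).Opens) : Scheme.{u}) := by
      obtain ⟨w, hw1, hw2⟩ := nonempty_preirreducible_inter U₁.isOpen V.isOpen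
        ⟨(⟨u₀, hu₀W⟩ : W), hu₀U⟩ ⟨_, hxV⟩
      exact ⟨⟨w, hw1, hw2⟩⟩
    have hAne : Nonempty ((U ⊓ W.ι ''ᵁ V : X.Opens) : Scheme.{u}) := hTne.map ι'
    have hAint : IsIntegral ((U ⊓ W.ι ''ᵁ V : X.Opens) : Scheme.{u}) :=
      isIntegral_of_isOpenImmersion (X.homOfLE hAW)
    have hdom : IsDominant ι' :=
      ⟨ι'.isOpenEmbedding.isOpen_range.dense (Set.range_nonempty _)⟩
    refine ext_of_isDominant_of_isSeparated q ?_ ι' ?_
    · rw [Category.assoc, hvS, Scheme.homOfLE_ι, Category.assoc, hh, Scheme.homOfLE_ι]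
    · have c1 : ι' ≫ X.homOfLE (inf_le_right : U ⊓ W.ι ''ᵁ V ≤ W.ι ''ᵁ V) ≫ (W.ι.isoImage V).inv =
          (W : Scheme.{u}).homOfLE (inf_le_right : U₁ ⊓ V ≤ V) := by
        rw [← cancel_mono (V.ι ≫ W.ι)]
        simp only [Category.assoc]
        rw [Scheme.Hom.isoImage_inv_ι, Scheme.homOfLE_ι, hι'fac, Scheme.homOfLE_ι_assoc]
      have c2 : ι' ≫ X.homOfLE (inf_le_left : U ⊓ W.ι ''ᵁ V ≤ U) =
          (W : Scheme.{u}).homOfLE (inf_le_left : U₁ ⊓ V ≤ U₁) ≫ k := by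
        rw [← cancel_mono U.ι, Category.assoc, Scheme.homOfLE_ι, hι'fac, Category.assoc, hk',
          Scheme.homOfLE_ι_assoc]
      calc ι' ≫ X.homOfLE (inf_le_right : U ⊓ W.ι ''ᵁ V ≤ W.ι ''ᵁ V) ≫ v
          = (ι' ≫ X.homOfLE (inf_le_right : U ⊓ W.ι ''ᵁ V ≤ W.ι ''ᵁ V) ≫ (W.ι.isoImage V).inv) ≫
              σ ≫ (q ⁻¹ᵁ W).ι := by
            rw [hv]; simp only [Category.assoc]
        _ = ((W : Scheme.{u}).homOfLE (inf_le_right : U₁ ⊓ V ≤ V) ≫ σ) ≫ (q ⁻¹ᵁ W).ι := by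
            rw [c1, Category.assoc]
        _ = ((W : Scheme.{u}).homOfLE (inf_le_left : U₁ ⊓ V ≤ U₁) ≫ g₁) ≫ (q ⁻¹ᵁ W).ι := by
            rw [hσU]
        _ = (W : Scheme.{u}).homOfLE (inf_le_left : U₁ ⊓ V ≤ U₁) ≫ k ≫ h := by
            rw [Category.assoc, hg₁']
        _ = ι' ≫ X.homOfLE (inf_le_left : U ⊓ W.ι ''ᵁ V ≤ U) ≫ h := by
            rw [← Category.assoc, ← c2, Category.assoc]
  · have h1 : (W.ι.isoImage V).inv ⟨x, hxV'⟩ = (⟨⟨x, hxW⟩, hxV⟩ : V) := by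
      apply (V.ι ≫ W.ι).isOpenEmbedding.injective
      rw [← Scheme.Hom.comp_apply, Scheme.Hom.isoImage_inv_ι]
      rfl
    rw [hv, Scheme.Hom.comp_apply, Scheme.Hom.comp_apply, h1, hσz]
    rfl

end Groth.Agent.Lib.helper9
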