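/-
Helper library (helper9): extending a section of a separated morphism locally of finite type
across a point whose local ring is a valuation ring (e.g. a regular point of codimension one), and
gluing of compatible families of morphisms on opens.
-/
import Groth.Agent.Lib.Helper9.DVRExtend
import Groth.Agent.Lib.Helper9.ZMTCodimTwo

set_option autoImplicit false

namespace Groth.Agent.Lib.helper9

open AlgebraicGeometry CategoryTheory CategoryTheory.Limits TopologicalSpace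

universe u

/-- Let `q : P ⟶ W` be separated and locally of finite type over an integral scheme `W`, and `g` a
section of `q` over a nonempty retrocompact open `U`. If `x` is a normal point of `W` and the
closure of the image of `g` has a point `z` over `x`, where the local ring at `x` is a valuation
ring, then `g` extends to a section over a neighbourhood of `x` taking the value `z` at `x`. -/
theorem exists_section_extension_of_valuationRing_point {W P : Scheme.{u}} [IsIntegral W]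
    (q : P ⟶ W) [IsSeparated q] [LocallyOfFiniteType q]
    (U : W.Opens) [Nonempty U] [QuasiCompact U.ι] (g : (U : Scheme.{u}) ⟶ P) (hg : g ≫ q = U.ι)
    (x : W) [ValuationRing (W.presheaf.stalk x)]
    (z : P) (hz : q z = x) (hzΓ : z ∈ closure (Set.range g)) :
    ∃ (V : W.Opens) (σ : (V : Scheme.{u}) ⟶ P) (hxV : x ∈ V), σ ≫ q = V.ι ∧
      W.homOfLE (inf_le_right : U ⊓ V ≤ V) ≫ σ = W.homOfLE (inf_le_left : U ⊓ V ≤ U) ≫ g ∧
      σ ⟨x, hxV⟩ = z := by
  have hUint : IsIntegral (U : Scheme.{u}) := inferInstance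
  have himm : IsImmersion g := by
    have : IsImmersion (g ≫ q) := by rw [hg]; infer_instance
    exact IsImmersion.of_comp g q
  have hqc : QuasiCompact g := by
    have : QuasiCompact (g ≫ q) := by rw [hg]; infer_instance
    exact QuasiCompact.of_comp g q
  have hΓint : IsIntegral g.image := isIntegral_image_of_quasiCompact g
  have ht : IsOpenImmersion g.toImage := inferInstance
  have htι : g.toImage ≫ g.imageι = g := g.toImage_imageι
  set p : g.image ⟶ W := g.imageι ≫ q with hp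
  have htp : g.toImage ≫ p = U.ι := by rw [hp, ← Category.assoc, htι, hg]
  have hpsep : IsSeparated p := inferInstance
  have hplft : LocallyOfFiniteType p := inferInstance
  have hη1 : g.toImage (genericPoint U) = genericPoint g.image :=
    genericPoint_eq_of_isOpenImmersion g.toImage
  have hη2 : U.ι (genericPoint U) = genericPoint W := genericPoint_eq_of_isOpenImmersion U.ι
  have hgen : p (genericPoint g.image) = genericPoint W := by
    rw [← hη1, ← Scheme.Hom.comp_apply, htp, hη2]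
  have hbir : IsIso (p.stalkMap (genericPoint g.image)) := by
    have h0 : IsOpenImmersion (g.toImage ≫ p) := by rw [htp]; infer_instance
    have h1 : IsIso ((g.toImage ≫ p).stalkMap (genericPoint U)) := inferInstance
    rw [Scheme.Hom.stalkMap_comp] at h1
    have h2 : IsIso (g.toImage.stalkMap (genericPoint U)) := inferInstance
    have h3 : IsIso (p.stalkMap (g.toImage (genericPoint U))) :=
      @IsIso.of_isIso_comp_right _ _ _ _ _ (p.stalkMap (g.toImage (genericPoint U)))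
        (g.toImage.stalkMap (genericPoint U)) h2 h1
    exact hη1 ▸ h3
  have hrange : Set.range g.imageι = closure (Set.range g) := by
    rw [Scheme.IdealSheafData.range_subschemeι, Scheme.Hom.support_ker]
  obtain ⟨z', hz'⟩ : z ∈ Set.range g.imageι := hrange ▸ hzΓ
  have hpz : p z' = x := by
    rw [hp, Scheme.Hom.comp_apply, hz', hz]
  have hV' : ValuationRing (W.presheaf.stalk (p z')) := by rw [hpz]; infer_instance
  have hq : p.QuasiFiniteAt z' := quasiFiniteAt_of_valuationRing_stalk p hgen hbir z'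
  have hN' : IsIntegrallyClosed (W.presheaf.stalk (p z')) := inferInstance
  obtain ⟨V, hxV, hiso⟩ :=
    exists_isIso_morphismRestrict_of_quasiFiniteAt_of_normal_point p hgen hbir z' hN' hq
  refine ⟨V, inv (p ∣_ V) ≫ (p ⁻¹ᵁ V).ι ≫ g.imageι, hpz ▸ hxV, ?_, ?_, ?_⟩
  · rw [Category.assoc, Category.assoc, ← hp, ← morphismRestrict_ι, IsIso.inv_hom_id_assoc]
  · have hsub : Set.range (W.homOfLE (inf_le_left : U ⊓ V ≤ U) ≫ g.toImage) ⊆
        Set.range (p ⁻¹ᵁ V).ι := by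
      rintro _ ⟨u, rfl⟩
      rw [Scheme.Opens.range_ι]
      show p ((W.homOfLE (inf_le_left : U ⊓ V ≤ U) ≫ g.toImage) u) ∈ V
      rw [← Scheme.Hom.comp_apply, Category.assoc, htp, Scheme.homOfLE_ι]
      exact u.2.2
    set c := IsOpenImmersion.lift (p ⁻¹ᵁ V).ι
      (W.homOfLE (inf_le_left : U ⊓ V ≤ U) ≫ g.toImage) hsub with hc
    have hc' : c ≫ (p ⁻¹ᵁ V).ι = W.homOfLE (inf_le_left : U ⊓ V ≤ U) ≫ g.toImage :=
      IsOpenImmersion.lift_fac _ _ _
    have hac : W.homOfLE (inf_le_right : U ⊓ V ≤ V) ≫ inv (p ∣_ V) = c := by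
      rw [IsIso.comp_inv_eq, ← cancel_mono V.ι, Category.assoc, morphismRestrict_ι,
        ← Category.assoc, hc', Category.assoc, htp, Scheme.homOfLE_ι, Scheme.homOfLE_ι]
    rw [← Category.assoc, hac, ← Category.assoc, hc', Category.assoc, htι]
  · have hz'V : z' ∈ p ⁻¹ᵁ V := hxV
    have h1 : (p ∣_ V) ⟨z', hz'V⟩ = (⟨x, hpz ▸ hxV⟩ : V) := by
      apply Subtype.ext
      rw [morphismRestrict_base_coe]
      exact hpz
    have h2 : (inv (p ∣_ V)) (⟨x, hpz ▸ hxV⟩ : V) = ⟨z', hz'V⟩ := by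
      rw [← h1, ← Scheme.Hom.comp_apply, IsIso.hom_inv_id]
      rfl
    rw [Scheme.Hom.comp_apply, Scheme.Hom.comp_apply, h2]
    exact hz'

/-- Let `q : Y ⟶ X` be separated and locally of finite type over a locally Noetherian scheme, `h` a
section of `q` over an open `U`, `x` a point of `X` whose local ring is a valuation ring, and `z` a
point over `x` in the closure of the image of `h`. Then `h` extends to a section `σ` over a
neighbourhood of `x` with `σ x = z`. -/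
theorem exists_section_extension_of_valuationRing_point_of_isLocallyNoetherian {X Y : Scheme.{u}}
    [IsLocallyNoetherian X] (q : Y ⟶ X) [IsSeparated q] [LocallyOfFiniteType q]
    (U : X.Opens) (h : (U : Scheme.{u}) ⟶ Y) (hh : h ≫ q = U.ι)
    (x : X) [IsDomain (X.presheaf.stalk x)] [ValuationRing (X.presheaf.stalk x)]
    (z : Y) (hz : q z = x) (hzΓ : z ∈ closure (Set.range h)) :
    ∃ (V : X.Opens) (σ : (V : Scheme.{u}) ⟶ Y) (hxV : x ∈ V), σ ≫ q = V.ι ∧
      X.homOfLE (inf_le_right : U ⊓ V ≤ V) ≫ σ = X.homOfLE (inf_le_left : U ⊓ V ≤ U) ≫ h ∧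
      σ ⟨x, hxV⟩ = z := by
  obtain ⟨W, hxW, hWint⟩ := Groth.Agent.S2260.result X x
  have hWne : Nonempty (W : Scheme.{u}) := ⟨⟨x, hxW⟩⟩
  -- `x` lies in the closure of `U`
  have hxU : x ∈ closure (U : Set X) := by
    have h1 : q z ∈ closure (q '' Set.range h) :=
      image_closure_subset_closure_image q.continuous ⟨z, hzΓ, rfl⟩
    rw [hz] at h1
    refine closure_mono ?_ h1
    rintro _ ⟨_, ⟨u, rfl⟩, rfl⟩
    rw [← Scheme.Hom.comp_apply, hh]
    exact u.2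
  obtain ⟨u₀, hu₀W, hu₀U⟩ : ((W : Set X) ∩ (U : Set X)).Nonempty :=
    mem_closure_iff.mp hxU W W.isOpen hxW
  set U₁ : (W : Scheme.{u}).Opens := W.ι ⁻¹ᵁ U with hU₁
  have hU₁ne : Nonempty U₁ := ⟨⟨⟨u₀, hu₀W⟩, hu₀U⟩⟩
  have hU₁qc : QuasiCompact U₁.ι := inferInstance
  -- the map `k : U₁ ⟶ U`
  have hkrange : Set.range (U₁.ι ≫ W.ι) ⊆ Set.range U.ι := by
    rintro _ ⟨w, rfl⟩
    rw [Scheme.Opens.range_ι]
    exact w.2
  set k := IsOpenImmersion.lift U.ι (U₁.ι ≫ W.ι) hkrange with hk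
  have hk' : k ≫ U.ι = U₁.ι ≫ W.ι := IsOpenImmersion.lift_fac _ _ _
  -- the section `g₁`
  have hg₁range : Set.range (k ≫ h) ⊆ Set.range (q ⁻¹ᵁ W).ι := by
    rintro _ ⟨w, rfl⟩
    rw [Scheme.Opens.range_ι]
    show q ((k ≫ h) w) ∈ W
    rw [← Scheme.Hom.comp_apply, Category.assoc, hh, hk']
    exact (U₁.ι w).2
  set g₁ := IsOpenImmersion.lift (q ⁻¹ᵁ W).ι (k ≫ h) hg₁range with hg₁
  have hg₁' : g₁ ≫ (q ⁻¹ᵁ W).ι = k ≫ h := IsOpenImmersion.lift_fac _ _ _
  have hg₁q : g₁ ≫ q ∣_ W = U₁.ι := by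
    rw [← cancel_mono W.ι, Category.assoc, morphismRestrict_ι, ← Category.assoc, hg₁',
      Category.assoc, hh, hk']
  -- the normal point
  have hdom' : IsDomain ((W : Scheme.{u}).presheaf.stalk (⟨x, hxW⟩ : W)) :=
    MulEquiv.isDomain (X.presheaf.stalk x) (W.stalkIso ⟨x, hxW⟩).commRingCatIsoToRingEquiv.toMulEquiv
  have hV' : ValuationRing ((W : Scheme.{u}).presheaf.stalk (⟨x, hxW⟩ : W)) :=
    Function.Surjective.valuationRing
      (W.stalkIso ⟨x, hxW⟩).commRingCatIsoToRingEquiv.symm.toRingHom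
      (W.stalkIso ⟨x, hxW⟩).commRingCatIsoToRingEquiv.symm.surjective
  -- the point `z₁`
  have hzW : z ∈ q ⁻¹ᵁ W := by
    show q z ∈ W
    rw [hz]; exact hxW
  have hz₁q : (q ∣_ W) ⟨z, hzW⟩ = (⟨x, hxW⟩ : W) := by
    apply Subtype.ext
    rw [morphismRestrict_base_coe]
    exact hz
  have hιrange : (q ⁻¹ᵁ W).ι '' Set.range g₁ = Set.range (k ≫ h) := by
    rw [← Set.range_comp, ← hg₁']
    rfl
  have hsub : Set.range (k ≫ h) ⊆ Set.range h := by
    rintro _ ⟨a, rfl⟩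
    exact ⟨k a, rfl⟩
  have hzΓ₁ : (⟨z, hzW⟩ : (q ⁻¹ᵁ W : Y.Opens)) ∈ closure (Set.range g₁) := by
    rw [(q ⁻¹ᵁ W).ι.isEmbedding.isInducing.closure_eq_preimage_closure_image, hιrange]
    show z ∈ closure (Set.range (k ≫ h))
    rw [mem_closure_iff]
    intro N hNopen hzN
    obtain ⟨_, ⟨hy1, hy2⟩, ⟨u, rfl⟩⟩ := mem_closure_iff.mp hzΓ (N ∩ (q ⁻¹ᵁ W : Set _))
      (hNopen.inter (q ⁻¹ᵁ W).isOpen) ⟨hzN, hzW⟩
    have huW : (U.ι u) ∈ W := by
      have : q (h u) ∈ W := hy2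
      rwa [← Scheme.Hom.comp_apply, hh] at this
    refine ⟨h u, hy1, ⟨⟨⟨U.ι u, huW⟩, u.2⟩, ?_⟩⟩
    rw [Scheme.Hom.comp_apply]
    congr 1
    apply U.ι.isEmbedding.injective
    rw [← Scheme.Hom.comp_apply, hk']
    rfl
  obtain ⟨V, σ, hxV, hσq, hσU, hσz⟩ := exists_section_extension_of_valuationRing_point (q ∣_ W) U₁ g₁
    hg₁q (⟨x, hxW⟩ : W) ⟨z, hzW⟩ hz₁q hzΓ₁
  set v : ((W.ι ''ᵁ V : X.Opens) : Scheme.{u}) ⟶ Y :=
    (W.ι.isoImage V).inv ≫ σ ≫ (q ⁻¹ᵁ W).ι with hv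
  have hvS : v ≫ q = (W.ι ''ᵁ V).ι := by
    rw [hv]
    simp only [Category.assoc]
    rw [← morphismRestrict_ι, ← Category.assoc σ, hσq, Scheme.Hom.isoImage_inv_ι]
  have hxV' : x ∈ W.ι ''ᵁ V := ⟨⟨x, hxW⟩, hxV, rfl⟩
  refine ⟨W.ι ''ᵁ V, v, hxV', hvS, ?_, ?_⟩
  · have hVW : W.ι ''ᵁ V ≤ W := by
      rintro _ ⟨w, -, rfl⟩
      exact w.2
    have hAW : U ⊓ W.ι ''ᵁ V ≤ W := inf_le_right.trans hVW
    have hAred : IsReduced ((U ⊓ W.ι ''ᵁ V : X.Opens) : Scheme.{u}) :=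
      isReduced_of_isOpenImmersion (X.homOfLE hAW)
    have hTrange : Set.range ((U₁ ⊓ V).ι ≫ W.ι) ⊆ Set.range (U ⊓ W.ι ''ᵁ V).ι := by
      rintro _ ⟨w, rfl⟩
      rw [Scheme.Opens.range_ι]
      exact ⟨w.2.1, ⟨_, w.2.2, rfl⟩⟩
    set ι' := IsOpenImmersion.lift (U ⊓ W.ι ''ᵁ V).ι ((U₁ ⊓ V).ι ≫ W.ι) hTrange with hι'
    have hι'fac : ι' ≫ (U ⊓ W.ι ''ᵁ V).ι = (U₁ ⊓ V).ι ≫ W.ι := IsOpenImmersion.lift_fac _ _ _
    have hι'open : IsOpenImmersion ι' := by
      have : IsOpenImmersion (ι' ≫ (U ⊓ W.ι ''ᵁ V).ι) := by rw [hι'fac]; infer_instance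
      exact IsOpenImmersion.of_comp ι' (U ⊓ W.ι ''ᵁ V).ι
    have hTne : Nonempty ((U₁ ⊓ V : (W : Scheme.{u}).Opens) : Scheme.{u}) := by
      obtain ⟨w, hw1, hw2⟩ := nonempty_preirreducible_inter U₁.isOpen V.isOpen
        ⟨(⟨u₀, hu₀W⟩ : W), hu₀U⟩ ⟨_, hxV⟩
      exact ⟨⟨w, hw1, hw2⟩⟩
    have hAne : Nonempty ((U ⊓ W.ι ''ᵁ V : X.Opens) : Scheme.{u}) := hTne.map ι'
    have hAint : IsIntegral ((U ⊓ W.ι ''ᵁ V : X.Opens) : Scheme.{u}) :=
      isIntegral_of_isOpenImmersion (X.homOfLE hAW)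
    have hdom : IsDominant ι' :=
      ⟨ι'.isOpenEmbedding.isOpen_range.dense (Set.range_nonempty _)⟩
    refine ext_of_isDominant_of_isSeparated q ?_ ι' ?_
    · rw [Category.assoc, hvS, Scheme.homOfLE_ι, Category.assoc, hh, Scheme.homOfLE_ι]
    · have c1 : ι' ≫ X.homOfLE (inf_le_right : U ⊓ W.ι ''ᵁ V ≤ W.ι ''ᵁ V) ≫ (W.ι.isoImage V).inv =
          (W : Scheme.{u}).homOfLE (inf_le_right : U₁ ⊓ V ≤ V) := by
        rw [← cancel_mono (V.ι ≫ W.ι)]
        simp only [Category.assoc]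
        rw [Scheme.Hom.isoImage_inv_ι, Scheme.homOfLE_ι, hι'fac, Scheme.homOfLE_ι_assoc]
      have c2 : ι' ≫ X.homOfLE (inf_le_left : U ⊓ W.ι ''ᵁ V ≤ U) =
          (W : Scheme.{u}).homOfLE (inf_le_left : U₁ ⊓ V ≤ U₁) ≫ k := by
        rw [← cancel_mono U.ι, Category.assoc, Scheme.homOfLE_ι, hι'fac, Category.assoc, hk',
          Scheme.homOfLE_ι_assoc]
      calc ι' ≫ X.homOfLE (inf_le_right : U ⊓ W.ι ''ᵁ V ≤ W.ι ''ᵁ V) ≫ v
          = (ι' ≫ X.homOfLE (inf_le_right : U ⊓ W.ι ''ᵁ V ≤ W.ι ''ᵁ V) ≫ (W.ι.isoImage V).inv) ≫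
              σ ≫ (q ⁻¹ᵁ W).ι := by
            rw [hv]; simp only [Category.assoc]
        _ = ((W : Scheme.{u}).homOfLE (inf_le_right : U₁ ⊓ V ≤ V) ≫ σ) ≫ (q ⁻¹ᵁ W).ι := by
            rw [c1, Category.assoc]
        _ = ((W : Scheme.{u}).homOfLE (inf_le_left : U₁ ⊓ V ≤ U₁) ≫ g₁) ≫ (q ⁻¹ᵁ W).ι := by
            rw [hσU]
        _ = (W : Scheme.{u}).homOfLE (inf_le_left : U₁ ⊓ V ≤ U₁) ≫ k ≫ h := by
            rw [Category.assoc, hg₁']
        _ = ι' ≫ X.homOfLE (inf_le_left : U ⊓ W.ι ''ᵁ V ≤ U) ≫ h := by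
            rw [← Category.assoc, ← c2, Category.assoc]
  · have h1 : (W.ι.isoImage V).inv ⟨x, hxV'⟩ = (⟨⟨x, hxW⟩, hxV⟩ : V) := by
      apply (V.ι ≫ W.ι).isOpenEmbedding.injective
      rw [← Scheme.Hom.comp_apply, Scheme.Hom.isoImage_inv_ι]
      rfl
    rw [hv, Scheme.Hom.comp_apply, Scheme.Hom.comp_apply, h1, hσz]
    rfl

/-- A compatible family of morphisms defined on opens glues to a morphism on their union. -/
theorem exists_glue_family {X Y : Scheme.{u}} {ι : Type u} (W : ι → X.Opens)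
    (g : ∀ i, ((W i : X.Opens) : Scheme.{u}) ⟶ Y)
    (compat : ∀ i j, X.homOfLE (inf_le_left : W i ⊓ W j ≤ W i) ≫ g i =
      X.homOfLE (inf_le_right : W i ⊓ W j ≤ W j) ≫ g j) :
    ∃ g' : ((⨆ i, W i : X.Opens) : Scheme.{u}) ⟶ Y,
      (∀ i, X.homOfLE (le_iSup W i) ≫ g' = g i) ∧
      ∀ (Z : Scheme.{u}) (a b : ((⨆ i, W i : X.Opens) : Scheme.{u}) ⟶ Z),
        (∀ i, X.homOfLE (le_iSup W i) ≫ a = X.homOfLE (le_iSup W i) ≫ b) → a = b := by
  let 𝒰 := Scheme.Opens.iSupOpenCover W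
  have compat' : ∀ i j : ι, pullback.fst (𝒰.f i) (𝒰.f j) ≫ g i =
      pullback.snd (𝒰.f i) (𝒰.f j) ≫ g j := by
    intro i j
    refine (cancel_epi (isPullback_opens_inf_le (le_iSup W i) (le_iSup W j)).isoPullback.hom).mp ?_
    simp only [𝒰, Scheme.Opens.iSupOpenCover, IsPullback.isoPullback_hom_fst_assoc,
      IsPullback.isoPullback_hom_snd_assoc]
    exact compat i j
  refine ⟨𝒰.glueMorphisms g compat', fun i => 𝒰.ι_glueMorphisms g compat' i, ?_⟩
  intro Z a b hab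
  exact 𝒰.hom_ext a b hab

end Groth.Agent.Lib.helper9
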