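import Mathlib
import Groth.Agent.Lib.Helper13.Normal2
import Groth.Agent.Lib.Helper13.UR1
import Groth.Agent.S5067

/-!
# Schemes étale over an integral scheme: decomposition into integral open pieces (helper9)

Let `g : U ⟶ X` be étale (more generally flat and locally quasi-finite), `X` integral with generic
point `η`, and suppose all local rings of `U` are domains (e.g. `X` normal).

* `eq_of_specializes_of_apply_eq_genericPoint`: points of the generic fibre have no proper
  generizations.
* `exists_generic_specializes`: every point of `U` is a specialization of a point of the generic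
  fibre; `generic_unique`: that point is unique.
* `isOpen_setOf_specializes`: for `ζ` in the generic fibre, `{u | ζ ⤳ u}` is open; `genOpen`.
* `isIntegral_genOpen`: this open subscheme is integral with generic point `ζ`.
* `bijective_residueFieldMap_of_isSepClosed`, `isOpenImmersion_genOpen_of_isSepClosed`: if the
  function field of `X` is separably closed and `g` is separated, each piece is an open
  subscheme of `X`.
-/

set_option autoImplicit false

namespace Groth.Agent.Lib.helper9

universe u

open AlgebraicGeometry CategoryTheory Limits TopologicalSpace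

namespace EtaleNormal

variable {U X : Scheme.{u}}

/-- Points of the fibre over the generic point have no proper generizations. -/
lemma eq_of_specializes_of_apply_eq_genericPoint [IsIntegral X] (g : U ⟶ X)
    [LocallyQuasiFinite g] {ξ ξ' : U} (hξ : g ξ = genericPoint X) (h : ξ' ⤳ ξ) : ξ' = ξ := by
  have h1 : g ξ' ⤳ g ξ := h.map g.continuous
  have h2 : g ξ' = genericPoint X := by
    rw [hξ] at h1
    exact (h1.antisymm ((genericPoint_spec X).specializes (Set.mem_univ _))).eq
  have hd := (g.isDiscrete_preimage_singleton (genericPoint X)).to_subtype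
  let a : g ⁻¹' {genericPoint X} := ⟨ξ, hξ⟩
  let b : g ⁻¹' {genericPoint X} := ⟨ξ', h2⟩
  have h' : b ⤳ a := Topology.IsInducing.subtypeVal.specializes_iff.1 h
  exact congrArg Subtype.val h'.eq

/-- Every point of a scheme flat over an integral scheme is a specialization of a point over
the generic point. -/
lemma exists_generic_specializes [IsIntegral X] (g : U ⟶ X) [Flat g] (u : U) :
    ∃ ξ : U, g ξ = genericPoint X ∧ ξ ⤳ u := by
  obtain ⟨ξ, hξu, hξ⟩ := Flat.generalizingMap g (a := u) (b := genericPoint X)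
    ((genericPoint_spec X).specializes (Set.mem_univ _))
  exact ⟨ξ, hξ, hξu⟩

/-- If the local ring at `u` is a domain, the generic-fibre point specializing to `u` is unique. -/
lemma generic_unique [IsIntegral X] (g : U ⟶ X) [LocallyQuasiFinite g] (u : U)
    [IsDomain (U.presheaf.stalk u)] {ξ ξ' : U} (hξ : g ξ = genericPoint X)
    (hξ' : g ξ' = genericPoint X) (h : ξ ⤳ u) (h' : ξ' ⤳ u) : ξ = ξ' := by
  let ζ : U := U.fromSpecStalk u (genericPoint (Spec (U.presheaf.stalk u)))
  have key : ∀ y : U, g y = genericPoint X → y ⤳ u → ζ = y := by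
    intro y hy hyu
    have : y ∈ Set.range (U.fromSpecStalk u) := by rw [Scheme.range_fromSpecStalk]; exact hyu
    obtain ⟨z, rfl⟩ := this
    exact eq_of_specializes_of_apply_eq_genericPoint g hy
      ((genericPoint_specializes z).map (U.fromSpecStalk u).continuous)
  exact (key ξ hξ h).symm.trans (key ξ' hξ' h')

/-- For `ζ` in the generic fibre of a flat, locally quasi-finite `g : U ⟶ X` (`X` integral) with
all local rings of `U` domains, the set of specializations of `ζ` is open. -/
lemma isOpen_setOf_specializes [IsIntegral X] (g : U ⟶ X) [LocallyQuasiFinite g] [Flat g]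
    (hU : ∀ u : U, IsDomain (U.presheaf.stalk u)) (ζ : U) (hζ : g ζ = genericPoint X) :
    IsOpen {u : U | ζ ⤳ u} := by
  rw [isOpen_iff_mem_nhds]
  intro u (hu : ζ ⤳ u)
  haveI := hU u
  obtain ⟨V0, hV0, hyV0, -⟩ := exists_isAffineOpen_mem_and_subset (X := X) (x := g u)
    (U := ⊤) trivial
  obtain ⟨W0, hW0, hxW0, hWV⟩ := exists_isAffineOpen_mem_and_subset (X := U) (x := u)
    (U := g ⁻¹ᵁ V0) hyV0
  have hηV0 : genericPoint X ∈ V0 :=
    ((genericPoint_spec X).specializes (Set.mem_univ (g u))).mem_open V0.2 hyV0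
  -- the finite set of generic-fibre points in `W0`
  let F : Set U := {w | w ∈ W0 ∧ g w = genericPoint X}
  have hF : F.Finite := by
    haveI : IsAffine (V0 : Scheme.{u}) := hV0
    haveI : IsAffine (W0 : Scheme.{u}) := hW0
    have hfin := (g.resLE V0 W0 hWV).finite_preimage_singleton ⟨genericPoint X, hηV0⟩
    refine (hfin.image (fun w : (W0 : Scheme.{u}) => (w.1 : U))).subset ?_
    rintro w ⟨hwW, hwη⟩
    refine ⟨⟨w, hwW⟩, ?_, rfl⟩
    show (g.resLE V0 W0 hWV) ⟨w, hwW⟩ = ⟨genericPoint X, hηV0⟩
    apply Subtype.ext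
    have := congrArg (fun φ : (W0 : Scheme.{u}) ⟶ X => φ ⟨w, hwW⟩) (g.resLE_comp_ι (U := V0) (V := W0) hWV)
    simp only [Scheme.Hom.comp_apply] at this
    exact this.trans hwη
  let F' : Set U := {w | w ∈ F ∧ ¬ (w ⤳ u)}
  have hF' : F'.Finite := hF.subset fun w hw => hw.1
  let C : Set U := ⋃ w ∈ F', closure {w}
  have hC : IsClosed C := hF'.isClosed_biUnion fun _ _ => isClosed_closure
  have huC : u ∉ C := by
    intro h
    simp only [C, Set.mem_iUnion] at h
    obtain ⟨w, hw, hwu⟩ := h
    exact hw.2 (specializes_iff_mem_closure.mpr hwu)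
  refine Filter.mem_of_superset (IsOpen.mem_nhds (W0.2.inter hC.isOpen_compl) ⟨hxW0, huC⟩) ?_
  rintro y ⟨hyW, hyC⟩
  obtain ⟨ξ, hξ, hξy⟩ := exists_generic_specializes g y
  have hξW : ξ ∈ W0 := hξy.mem_open W0.2 hyW
  have hξu : ξ ⤳ u := by
    by_contra hne
    apply hyC
    simp only [C, Set.mem_iUnion]
    exact ⟨ξ, ⟨⟨hξW, hξ⟩, hne⟩, specializes_iff_mem_closure.mp hξy⟩
  have : ξ = ζ := generic_unique g u hξ hζ hξu hu
  exact this ▸ hξy

/-- The open subscheme of specializations of a point `ζ` of the generic fibre. -/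
def genOpen [IsIntegral X] (g : U ⟶ X) [LocallyQuasiFinite g] [Flat g]
    (hU : ∀ u : U, IsDomain (U.presheaf.stalk u)) (ζ : U) (hζ : g ζ = genericPoint X) : U.Opens :=
  ⟨{u : U | ζ ⤳ u}, isOpen_setOf_specializes g hU ζ hζ⟩

lemma mem_genOpen [IsIntegral X] (g : U ⟶ X) [LocallyQuasiFinite g] [Flat g]
    (hU : ∀ u : U, IsDomain (U.presheaf.stalk u)) (ζ : U) (hζ : g ζ = genericPoint X) (u : U) :
    u ∈ genOpen g hU ζ hζ ↔ ζ ⤳ u := Iff.rfl

lemma self_mem_genOpen [IsIntegral X] (g : U ⟶ X) [LocallyQuasiFinite g] [Flat g]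
    (hU : ∀ u : U, IsDomain (U.presheaf.stalk u)) (ζ : U) (hζ : g ζ = genericPoint X) :
    ζ ∈ genOpen g hU ζ hζ := specializes_rfl

/-- The pieces cover. -/
lemma exists_mem_genOpen [IsIntegral X] (g : U ⟶ X) [LocallyQuasiFinite g] [Flat g]
    (hU : ∀ u : U, IsDomain (U.presheaf.stalk u)) (u : U) :
    ∃ (ζ : U) (hζ : g ζ = genericPoint X), u ∈ genOpen g hU ζ hζ := by
  obtain ⟨ξ, hξ, hξu⟩ := exists_generic_specializes g u
  exact ⟨ξ, hξ, hξu⟩

/-- The pieces are pairwise disjoint. -/
lemma eq_of_mem_genOpen [IsIntegral X] (g : U ⟶ X) [LocallyQuasiFinite g] [Flat g]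
    (hU : ∀ u : U, IsDomain (U.presheaf.stalk u)) {ζ ζ' : U} (hζ : g ζ = genericPoint X)
    (hζ' : g ζ' = genericPoint X) {u : U} (h : u ∈ genOpen g hU ζ hζ)
    (h' : u ∈ genOpen g hU ζ' hζ') : ζ = ζ' := by
  haveI := hU u
  exact generic_unique g u hζ hζ' h h'

/-- The pieces are integral, with generic point `ζ`. -/
lemma isIntegral_genOpen [IsIntegral X] (g : U ⟶ X) [LocallyQuasiFinite g] [Flat g]
    (hU : ∀ u : U, IsDomain (U.presheaf.stalk u)) (ζ : U) (hζ : g ζ = genericPoint X) :
    IsIntegral (genOpen g hU ζ hζ : Scheme.{u}) := by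
  haveI : IsReduced U := by
    haveI : ∀ x : U, _root_.IsReduced (U.presheaf.stalk x) := fun x => by
      haveI := hU x; infer_instance
    exact isReduced_of_isReduced_stalk U
  have hirr : IsIrreducible ((genOpen g hU ζ hζ : U.Opens) : Set U) := by
    refine ⟨⟨ζ, specializes_rfl⟩, ?_⟩
    refine (isIrreducible_singleton (x := ζ)).closure.isPreirreducible.open_subset
      (genOpen g hU ζ hζ).2 ?_
    intro y hy
    exact specializes_iff_mem_closure.mp hy
  haveI : IrreducibleSpace (genOpen g hU ζ hζ : Scheme.{u}) := Subtype.irreducibleSpace hirr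
  exact isIntegral_of_irreducibleSpace_of_isReduced _

lemma genericPoint_genOpen [IsIntegral X] (g : U ⟶ X) [LocallyQuasiFinite g] [Flat g]
    (hU : ∀ u : U, IsDomain (U.presheaf.stalk u)) (ζ : U) (hζ : g ζ = genericPoint X) :
    haveI := isIntegral_genOpen g hU ζ hζ
    genericPoint (genOpen g hU ζ hζ : Scheme.{u}) = ⟨ζ, self_mem_genOpen g hU ζ hζ⟩ := by
  haveI := isIntegral_genOpen g hU ζ hζ
  symm
  refine ((genericPoint_spec (genOpen g hU ζ hζ : Scheme.{u})).eq ?_).symm
  rw [isGenericPoint_iff_specializes]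
  intro y
  simp only [Set.top_eq_univ, Set.mem_univ, iff_true]
  exact (Topology.IsInducing.subtypeVal.specializes_iff
    (x := (⟨ζ, self_mem_genOpen g hU ζ hζ⟩ : (genOpen g hU ζ hζ : Scheme.{u}))) (y := y)).mp y.2

/-- Separable closedness transfers along ring isomorphisms. -/
theorem isSepClosed_of_ringEquiv {k k' : Type*} [Field k] [Field k'] (e : k ≃+* k')
    [IsSepClosed k] : IsSepClosed k' := by
  refine IsSepClosed.of_exists_root _ fun p _ hirr hsep => ?_
  have hsep' : (p.map (e.symm : k' →+* k)).Separable := hsep.map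
  have hdeg : (p.map (e.symm : k' →+* k)).degree ≠ 0 := by
    rw [Polynomial.degree_map]
    exact (Polynomial.degree_pos_of_irreducible hirr).ne'
  obtain ⟨x, hx⟩ := IsSepClosed.exists_root _ hdeg hsep'
  refine ⟨e x, ?_⟩
  have h1 : Polynomial.eval₂ (e.symm : k' →+* k) x p = 0 := by
    rw [← Polynomial.eval_map]; exact hx
  have h2 := congrArg (e : k →+* k') h1
  rw [Polynomial.hom_eval₂, map_zero] at h2
  have h3 : (e : k →+* k').comp (e.symm : k' →+* k) = RingHom.id k' := by
    ext y; simp
  rw [h3, Polynomial.eval₂_id] at h2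
  exact h2

/-- The residue field at the generic point of an integral scheme with separably closed function
field is separably closed. -/
lemma isSepClosed_residueField_genericPoint [IsIntegral X] [IsSepClosed X.functionField] :
    IsSepClosed (X.residueField (genericPoint X)) := by
  let e : X.functionField ≃+* X.residueField (genericPoint X) :=
    RingEquiv.ofBijective (IsLocalRing.residue (X.presheaf.stalk (genericPoint X)))
      ⟨RingHom.injective _, IsLocalRing.residue_surjective⟩
  exact isSepClosed_of_ringEquiv e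

/-- Over a separably closed function field, the residue field extension of an étale morphism at
a point of the generic fibre is trivial. -/
lemma bijective_residueFieldMap_of_isSepClosed [IsIntegral X] [IsSepClosed X.functionField]
    (g : U ⟶ X) [Etale g] (ξ : U) (hξ : g ξ = genericPoint X) :
    Function.Bijective (g.residueFieldMap ξ).hom := by
  have hqf : LocallyQuasiFinite g := Groth.Agent.S5067.locallyQuasiFinite_of_unramified g
  have hfin := Groth.Agent.Lib.helper13.EL.finite_residueFieldMap_of_quasiFiniteAt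
    (g.quasiFiniteAt ξ)
  have hsep := Groth.Agent.Lib.helper13.UR.isSeparable_residueFieldMap g ξ hfin
  have hsc : ∀ y : X, y = genericPoint X → IsSepClosed (X.residueField y) := by
    rintro _ rfl; exact isSepClosed_residueField_genericPoint
  haveI := hsc _ hξ
  letI := (g.residueFieldMap ξ).hom.toAlgebra
  exact IsSepClosed.algebraMap_bijective _ _

/-- Over an integral base with separably closed function field, each piece of a separated étale
scheme with domain local rings is an open subscheme of the base. -/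
theorem isOpenImmersion_genOpen_ι_comp [IsIntegral X] [IsSepClosed X.functionField]
    (g : U ⟶ X) [Etale g] [IsSeparated g] [LocallyQuasiFinite g]
    (hU : ∀ u : U, IsDomain (U.presheaf.stalk u)) (ζ : U) (hζ : g ζ = genericPoint X) :
    IsOpenImmersion ((genOpen g hU ζ hζ).ι ≫ g) := by
  haveI := isIntegral_genOpen g hU ζ hζ
  have hgp := genericPoint_genOpen g hU ζ hζ
  have hval : ((genOpen g hU ζ hζ).ι ≫ g) ⟨ζ, self_mem_genOpen g hU ζ hζ⟩ = genericPoint X := by
    simp only [Scheme.Hom.comp_apply]
    exact hζ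
  have hbij : ∀ p : (genOpen g hU ζ hζ : Scheme.{u}), p = ⟨ζ, self_mem_genOpen g hU ζ hζ⟩ →
      Function.Bijective (((genOpen g hU ζ hζ).ι ≫ g).residueFieldMap p).hom := by
    rintro _ rfl
    exact bijective_residueFieldMap_of_isSepClosed _ _ hval
  refine Groth.Agent.S5067.result ((genOpen g hU ζ hζ).ι ≫ g) ?_ (hbij _ hgp)
  rw [hgp]
  exact hval

/-- **Decomposition.**  Over an integral base with separably closed function field, a separated
étale scheme all of whose local rings are domains is a disjoint union of open subschemes of the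
base. -/
theorem exists_decomposition [IsIntegral X] [IsSepClosed X.functionField]
    (g : U ⟶ X) [Etale g] [IsSeparated g] (hU : ∀ u : U, IsDomain (U.presheaf.stalk u)) :
    ∃ (ι : Type u) (V : ι → X.Opens) (e : (∐ fun i => (V i : Scheme.{u})) ≅ U),
      ∀ i, Sigma.ι (fun i => (V i : Scheme.{u})) i ≫ e.hom ≫ g = (V i).ι := by
  haveI hqf : LocallyQuasiFinite g := Groth.Agent.S5067.locallyQuasiFinite_of_unramified g
  let ι : Type u := {ζ : U // g ζ = genericPoint X}
  let W : ι → U.Opens := fun ζ => genOpen g hU ζ.1 ζ.2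
  haveI hoi : ∀ ζ : ι, IsOpenImmersion ((W ζ).ι ≫ g) :=
    fun ζ => isOpenImmersion_genOpen_ι_comp g hU ζ.1 ζ.2
  let V : ι → X.Opens := fun ζ => ((W ζ).ι ≫ g).opensRange
  let f : ∀ ζ : ι, (V ζ : Scheme.{u}) ⟶ U :=
    fun ζ => ((W ζ).ι ≫ g).isoOpensRange.inv ≫ (W ζ).ι
  haveI : ∀ ζ, IsOpenImmersion (f ζ) := fun ζ => inferInstance
  have hrange : ∀ ζ, (f ζ).opensRange = W ζ := fun ζ => by
    simp only [f]
    rw [Scheme.Hom.opensRange_comp_of_isIso, Scheme.Opens.opensRange_ι]
  have hcov : ⨆ ζ, (f ζ).opensRange = ⊤ := by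
    rw [eq_top_iff]
    intro u _
    obtain ⟨ζ, hζ, hu⟩ := exists_mem_genOpen g hU u
    simp only [hrange]
    exact TopologicalSpace.Opens.mem_iSup.mpr ⟨⟨ζ, hζ⟩, hu⟩
  have hdisj : Pairwise (Function.onFun Disjoint (fun ζ => (f ζ).opensRange)) := by
    intro ζ ζ' hne
    simp only [Function.onFun, hrange]
    rw [disjoint_iff]
    ext u
    simp only [TopologicalSpace.Opens.coe_inf, Set.mem_inter_iff, SetLike.mem_coe,
      TopologicalSpace.Opens.coe_bot, Set.mem_empty_iff_false, iff_false, not_and]
    intro h h'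
    exact hne (Subtype.ext (eq_of_mem_genOpen g hU ζ.2 ζ'.2 h h'))
  obtain ⟨hc⟩ := nonempty_isColimit_cofanMk_of f hcov hdisj
  let e : (∐ fun i => (V i : Scheme.{u})) ≅ U := colimit.isoColimitCocone ⟨_, hc⟩
  refine ⟨ι, V, e, fun ζ => ?_⟩
  have h1 : Sigma.ι (fun i => (V i : Scheme.{u})) ζ ≫ e.hom = f ζ :=
    colimit.isoColimitCocone_ι_hom (⟨_, hc⟩ : ColimitCocone _) ⟨ζ⟩
  rw [← Category.assoc, h1]
  simp only [f, Category.assoc]
  exact Scheme.Hom.isoOpensRange_inv_comp ((W ζ).ι ≫ g)

end EtaleNormal

end Groth.Agent.Lib.helper9
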