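import Mathlib
import Groth.Agent.Lib.Helper9.EtaleNormal
import Groth.Agent.Lib.Helper9.DVRExtendVal

/-!
# Sections of finite étale covers over schemes étale over an integral scheme (helper9)

Setting: `X` integral, `p : Y ⟶ X` étale, `q : W ⟶ Y` finite étale, all local rings of `Y` and
`W` domains (e.g. `X` normal).  `Y` and `W` decompose into integral clopen pieces `genOpen`.

* `isClosed_genOpen`: the pieces are closed.
* `isIso_resLE_genOpen`: if `ω ∈ W` lies over the generic point and the residue field extension of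
  `q` at `ω` is trivial, then `q` maps the piece of `ω` isomorphically onto the piece of `q ω`.
* `exists_glue_cover`: gluing morphisms along an open cover of the whole scheme.
* `exists_section_of_dense`: a section of `q` over a dense open extends to a section over `Y`.
-/

set_option autoImplicit false

namespace Groth.Agent.Lib.helper9

universe u

open AlgebraicGeometry CategoryTheory Limits TopologicalSpace

namespace EtaleNormal

variable {W Y X U : Scheme.{u}}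

/-- Transport of bijectivity of residue field maps along an equality of morphisms. -/
lemma bijective_residueFieldMap_congr {A B : Scheme.{u}} {a b : A ⟶ B} (h : a = b) (x : A)
    (hb : Function.Bijective (a.residueFieldMap x).hom) :
    Function.Bijective (b.residueFieldMap x).hom := by
  subst h; exact hb

/-- The pieces are closed. -/
lemma isClosed_genOpen [IsIntegral X] (g : U ⟶ X) [LocallyQuasiFinite g] [Flat g]
    (hU : ∀ u : U, IsDomain (U.presheaf.stalk u)) (ζ : U) (hζ : g ζ = genericPoint X) :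
    IsClosed ((genOpen g hU ζ hζ : U.Opens) : Set U) := by
  rw [← isOpen_compl_iff, isOpen_iff_mem_nhds]
  intro u hu
  obtain ⟨ζ', hζ', hu'⟩ := exists_mem_genOpen g hU u
  refine Filter.mem_of_superset ((genOpen g hU ζ' hζ').2.mem_nhds hu') ?_
  intro v hv hvζ
  have : ζ' = ζ := eq_of_mem_genOpen g hU hζ' hζ hv hvζ
  subst this
  exact hu hu'

/-- `q` maps the piece of `ω` into the piece of `q ω`. -/
lemma genOpen_le_preimage [IsIntegral X] (p : Y ⟶ X) [LocallyQuasiFinite p] [Flat p]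
    (q : W ⟶ Y) [LocallyQuasiFinite (q ≫ p)] [Flat (q ≫ p)]
    (hY : ∀ y : Y, IsDomain (Y.presheaf.stalk y)) (hW : ∀ w : W, IsDomain (W.presheaf.stalk w))
    (ω : W) (hω : (q ≫ p) ω = genericPoint X) (hζ : p (q ω) = genericPoint X) :
    genOpen (q ≫ p) hW ω hω ≤ q ⁻¹ᵁ genOpen p hY (q ω) hζ := by
  intro w hw
  exact (hw : ω ⤳ w).map q.continuous

/-- If the residue field extension of the finite étale `q` at a point `ω` over the generic point
is trivial, `q` maps the piece of `ω` isomorphically onto the piece of `q ω`. -/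
theorem isIso_resLE_genOpen [IsIntegral X] (p : Y ⟶ X) [Etale p] [LocallyQuasiFinite p]
    (q : W ⟶ Y) [IsFinite q] [Etale q] [LocallyQuasiFinite (q ≫ p)]
    (hY : ∀ y : Y, IsDomain (Y.presheaf.stalk y)) (hW : ∀ w : W, IsDomain (W.presheaf.stalk w))
    (ω : W) (hω : (q ≫ p) ω = genericPoint X) (hζ : p (q ω) = genericPoint X)
    (hres : Function.Bijective (q.residueFieldMap ω).hom) :
    IsIso (q.resLE (genOpen p hY (q ω) hζ) (genOpen (q ≫ p) hW ω hω)
      (genOpen_le_preimage p q hY hW ω hω hζ)) := by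
  haveI hYint := isIntegral_genOpen p hY (q ω) hζ
  haveI hWint := isIntegral_genOpen (q ≫ p) hW ω hω
  have hgpW := genericPoint_genOpen (q ≫ p) hW ω hω
  have hgpY := genericPoint_genOpen p hY (q ω) hζ
  -- the restriction is finite
  haveI hci : IsClosedImmersion (genOpen (q ≫ p) hW ω hω).ι := by
    refine IsClosedImmersion.of_isPreimmersion _ ?_
    rw [Scheme.Opens.range_ι]
    exact isClosed_genOpen (q ≫ p) hW ω hω
  haveI hfin : IsFinite (q.resLE (genOpen p hY (q ω) hζ) (genOpen (q ≫ p) hW ω hω)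
      (genOpen_le_preimage p q hY hW ω hω hζ)) := by
    haveI : IsFinite (q.resLE (genOpen p hY (q ω) hζ) (genOpen (q ≫ p) hW ω hω)
      (genOpen_le_preimage p q hY hW ω hω hζ) ≫ (genOpen p hY (q ω) hζ).ι) := by
      rw [Scheme.Hom.resLE_comp_ι]; infer_instance
    exact IsFinite.of_comp _ (genOpen p hY (q ω) hζ).ι
  -- value at the generic point
  have hval : (q.resLE (genOpen p hY (q ω) hζ) (genOpen (q ≫ p) hW ω hω)
      (genOpen_le_preimage p q hY hW ω hω hζ)) ⟨ω, self_mem_genOpen (q ≫ p) hW ω hω⟩ =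
      ⟨q ω, self_mem_genOpen p hY (q ω) hζ⟩ := by
    apply Subtype.ext
    have := congrArg (fun φ : ((genOpen (q ≫ p) hW ω hω : W.Opens) : Scheme.{u}) ⟶ Y =>
      φ ⟨ω, self_mem_genOpen (q ≫ p) hW ω hω⟩)
      (q.resLE_comp_ι (U := genOpen p hY (q ω) hζ) (V := genOpen (q ≫ p) hW ω hω)
        (genOpen_le_preimage p q hY hW ω hω hζ))
    simp only [Scheme.Hom.comp_apply] at this
    exact this
  -- the residue field map at the generic point
  have hres' : Function.Bijective ((q.resLE (genOpen p hY (q ω) hζ) (genOpen (q ≫ p) hW ω hω)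
      (genOpen_le_preimage p q hY hW ω hω hζ)).residueFieldMap
        ⟨ω, self_mem_genOpen (q ≫ p) hW ω hω⟩).hom := by
    haveI hqiso : IsIso (q.residueFieldMap ω) :=
      (ConcreteCategory.isIso_iff_bijective _).mpr hres
    have h1 : IsIso (((genOpen (q ≫ p) hW ω hω).ι ≫ q).residueFieldMap
        ⟨ω, self_mem_genOpen (q ≫ p) hW ω hω⟩) := by
      rw [Scheme.residueFieldMap_comp]
      exact IsIso.comp_isIso' hqiso inferInstance
    have h1' : Function.Bijective (((genOpen (q ≫ p) hW ω hω).ι ≫ q).residueFieldMap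
        ⟨ω, self_mem_genOpen (q ≫ p) hW ω hω⟩).hom :=
      (ConcreteCategory.isIso_iff_bijective _).mp h1
    have h2 := bijective_residueFieldMap_congr (q.resLE_comp_ι (U := genOpen p hY (q ω) hζ)
      (V := genOpen (q ≫ p) hW ω hω) (genOpen_le_preimage p q hY hW ω hω hζ)).symm _ h1'
    have h2' : IsIso ((q.resLE (genOpen p hY (q ω) hζ) (genOpen (q ≫ p) hW ω hω)
      (genOpen_le_preimage p q hY hW ω hω hζ) ≫ (genOpen p hY (q ω) hζ).ι).residueFieldMap
        ⟨ω, self_mem_genOpen (q ≫ p) hW ω hω⟩) :=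
      (ConcreteCategory.isIso_iff_bijective _).mpr h2
    rw [Scheme.residueFieldMap_comp] at h2'
    have h3 : IsIso ((q.resLE (genOpen p hY (q ω) hζ) (genOpen (q ≫ p) hW ω hω)
      (genOpen_le_preimage p q hY hW ω hω hζ)).residueFieldMap
        ⟨ω, self_mem_genOpen (q ≫ p) hW ω hω⟩) := by
      exact @IsIso.of_isIso_comp_left _ _ _ _ _
        ((genOpen p hY (q ω) hζ).ι.residueFieldMap _) _ inferInstance h2'
    exact (ConcreteCategory.isIso_iff_bijective _).mp h3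
  have hbij : ∀ w : ((genOpen (q ≫ p) hW ω hω : W.Opens) : Scheme.{u}),
      w = ⟨ω, self_mem_genOpen (q ≫ p) hW ω hω⟩ →
      Function.Bijective ((q.resLE (genOpen p hY (q ω) hζ) (genOpen (q ≫ p) hW ω hω)
        (genOpen_le_preimage p q hY hW ω hω hζ)).residueFieldMap w).hom := by
    rintro _ rfl; exact hres'
  haveI hoi : IsOpenImmersion (q.resLE (genOpen p hY (q ω) hζ) (genOpen (q ≫ p) hW ω hω)
      (genOpen_le_preimage p q hY hW ω hω hζ)) := by
    refine Groth.Agent.S5067.result _ ?_ (hbij _ hgpW)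
    rw [hgpW, hgpY]
    exact hval
  -- surjectivity
  apply isIso_of_isOpenImmersion_of_opensRange_eq_top
  rw [eq_top_iff]
  intro y _
  have hcl : IsClosed (Set.range (q.resLE (genOpen p hY (q ω) hζ) (genOpen (q ≫ p) hW ω hω)
      (genOpen_le_preimage p q hY hW ω hω hζ))) :=
    (q.resLE (genOpen p hY (q ω) hζ) (genOpen (q ≫ p) hW ω hω)
      (genOpen_le_preimage p q hY hW ω hω hζ)).isClosedMap.isClosed_range
  have hmem : genericPoint ((genOpen p hY (q ω) hζ : Y.Opens) : Scheme.{u}) ∈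
      Set.range (q.resLE (genOpen p hY (q ω) hζ) (genOpen (q ≫ p) hW ω hω)
      (genOpen_le_preimage p q hY hW ω hω hζ)) := ⟨_, hval.trans hgpY.symm⟩
  exact ((genericPoint_spec _).specializes (Set.mem_univ y)).mem_closed hcl hmem

/-- Gluing morphisms along an open cover of the whole scheme. -/
theorem exists_glue_cover {X Y : Scheme.{u}} {ι : Type u} (W : ι → X.Opens)
    (hcov : ⨆ i, W i = ⊤) (g : ∀ i, ((W i : X.Opens) : Scheme.{u}) ⟶ Y)
    (compat : ∀ i j, X.homOfLE (inf_le_left : W i ⊓ W j ≤ W i) ≫ g i =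
      X.homOfLE (inf_le_right : W i ⊓ W j ≤ W j) ≫ g j) :
    ∃ g' : X ⟶ Y, (∀ i, (W i).ι ≫ g' = g i) ∧
      ∀ (Z : Scheme.{u}) (a b : X ⟶ Z), (∀ i, (W i).ι ≫ a = (W i).ι ≫ b) → a = b := by
  obtain ⟨g0, hg0, hext⟩ := exists_glue_family W g compat
  haveI : IsIso (⨆ i, W i : X.Opens).ι := by
    apply isIso_of_isOpenImmersion_of_opensRange_eq_top
    rw [Scheme.Opens.opensRange_ι, hcov]
  refine ⟨inv (⨆ i, W i : X.Opens).ι ≫ g0, fun i => ?_, ?_⟩
  · rw [← hg0 i, ← Category.assoc]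
    congr 1
    rw [IsIso.comp_inv_eq, Scheme.homOfLE_ι]
  · intro Z a b hab
    have : (⨆ i, W i : X.Opens).ι ≫ a = (⨆ i, W i : X.Opens).ι ≫ b := by
      apply hext
      intro i
      rw [← Category.assoc, ← Category.assoc, Scheme.homOfLE_ι]
      exact hab i
    exact (cancel_epi _).mp this

/-- The section of the finite étale `q` over the piece of `q ω` determined by a point `ω` over
the generic point with trivial residue field extension, with its uniqueness property. -/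
theorem exists_section_on_piece [IsIntegral X] (p : Y ⟶ X) [Etale p] [LocallyQuasiFinite p]
    (q : W ⟶ Y) [IsFinite q] [Etale q] [LocallyQuasiFinite (q ≫ p)]
    (hY : ∀ y : Y, IsDomain (Y.presheaf.stalk y)) (hW : ∀ w : W, IsDomain (W.presheaf.stalk w))
    (ω : W) (hω : (q ≫ p) ω = genericPoint X) (hζ : p (q ω) = genericPoint X)
    (hres : Function.Bijective (q.residueFieldMap ω).hom) :
    ∃ τ : ((genOpen p hY (q ω) hζ : Y.Opens) : Scheme.{u}) ⟶ W,
      τ ≫ q = (genOpen p hY (q ω) hζ).ι ∧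
      (∀ y, τ y ∈ genOpen (q ≫ p) hW ω hω) ∧
      ∀ (T : Scheme.{u}) (a : T ⟶ ((genOpen p hY (q ω) hζ : Y.Opens) : Scheme.{u})) (s : T ⟶ W),
        s ≫ q = a ≫ (genOpen p hY (q ω) hζ).ι → (∀ t, s t ∈ genOpen (q ≫ p) hW ω hω) →
        a ≫ τ = s := by
  haveI hiso := isIso_resLE_genOpen p q hY hW ω hω hζ hres
  refine ⟨inv (q.resLE (genOpen p hY (q ω) hζ) (genOpen (q ≫ p) hW ω hω)
      (genOpen_le_preimage p q hY hW ω hω hζ)) ≫ (genOpen (q ≫ p) hW ω hω).ι, ?_, ?_, ?_⟩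
  · rw [Category.assoc, ← Scheme.Hom.resLE_comp_ι q (genOpen_le_preimage p q hY hW ω hω hζ),
      IsIso.inv_hom_id_assoc]
  · intro y
    rw [Scheme.Hom.comp_apply]
    exact Subtype.property _
  · intro T a s hs hsW
    have hrange : Set.range s ⊆ Set.range (genOpen (q ≫ p) hW ω hω).ι := by
      rw [Scheme.Opens.range_ι]
      rintro _ ⟨t, rfl⟩
      exact hsW t
    have hs0 : IsOpenImmersion.lift (genOpen (q ≫ p) hW ω hω).ι s hrange ≫
        (genOpen (q ≫ p) hW ω hω).ι = s := IsOpenImmersion.lift_fac _ _ _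
    have hs1 : IsOpenImmersion.lift (genOpen (q ≫ p) hW ω hω).ι s hrange ≫
        q.resLE (genOpen p hY (q ω) hζ) (genOpen (q ≫ p) hW ω hω)
          (genOpen_le_preimage p q hY hW ω hω hζ) = a := by
      rw [← cancel_mono (genOpen p hY (q ω) hζ).ι, Category.assoc, Scheme.Hom.resLE_comp_ι,
        ← Category.assoc, hs0, hs]
    rw [← hs1, Category.assoc, IsIso.hom_inv_id_assoc, hs0]

/-- **Sections from generic data.**  Let `q : W ⟶ Y` be finite étale, `Y` étale over the integral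
scheme `X`, all local rings of `Y` and `W` domains.  A choice, for every point `ζ` of the generic
fibre of `Y`, of a point `ω ζ` of `W` over `ζ` with trivial residue field extension determines a
unique section `σ` of `q` with `σ ζ = ω ζ`. -/
theorem exists_section_of_generic [IsIntegral X] (p : Y ⟶ X) [Etale p] (q : W ⟶ Y) [IsFinite q]
    [Etale q] (hY : ∀ y : Y, IsDomain (Y.presheaf.stalk y))
    (hW : ∀ w : W, IsDomain (W.presheaf.stalk w))
    (ω : ∀ ζ : Y, p ζ = genericPoint X → W) (hqω : ∀ ζ h, q (ω ζ h) = ζ)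
    (hres : ∀ ζ h, Function.Bijective (q.residueFieldMap (ω ζ h)).hom) :
    ∃ σ : Y ⟶ W, σ ≫ q = 𝟙 Y ∧ (∀ ζ h, σ ζ = ω ζ h) ∧
      ∀ (T : Y.Opens) (s : (T : Scheme.{u}) ⟶ W), s ≫ q = T.ι →
        (∀ ζ (h : p ζ = genericPoint X) (hT : ζ ∈ T), s ⟨ζ, hT⟩ = ω ζ h) → T.ι ≫ σ = s := by
  haveI : LocallyQuasiFinite p := Groth.Agent.S5067.locallyQuasiFinite_of_unramified p
  haveI : LocallyQuasiFinite (q ≫ p) :=
    Groth.Agent.S5067.locallyQuasiFinite_of_unramified (q ≫ p)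
  let ι : Type u := {ζ : Y // p ζ = genericPoint X}
  have hω : ∀ ζ : ι, (q ≫ p) (ω ζ.1 ζ.2) = genericPoint X := fun ζ => by
    rw [Scheme.Hom.comp_apply, hqω]; exact ζ.2
  have hζ' : ∀ ζ : ι, p (q (ω ζ.1 ζ.2)) = genericPoint X := fun ζ => by rw [hqω]; exact ζ.2
  let Yp : ι → Y.Opens := fun ζ => genOpen p hY (q (ω ζ.1 ζ.2)) (hζ' ζ)
  let Wp : ι → W.Opens := fun ζ => genOpen (q ≫ p) hW (ω ζ.1 ζ.2) (hω ζ)
  have hmemYp : ∀ (ζ : ι) (y : Y), y ∈ Yp ζ ↔ ζ.1 ⤳ y := fun ζ y => by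
    show q (ω ζ.1 ζ.2) ⤳ y ↔ ζ.1 ⤳ y
    rw [hqω]
  choose τ hτq hτW hτu using fun ζ : ι =>
    exists_section_on_piece p q hY hW (ω ζ.1 ζ.2) (hω ζ) (hζ' ζ) (hres ζ.1 ζ.2)
  have hcov : ⨆ ζ, Yp ζ = ⊤ := by
    rw [eq_top_iff]
    intro y _
    obtain ⟨ζ, hζ, hy⟩ := exists_generic_specializes p y
    exact TopologicalSpace.Opens.mem_iSup.mpr ⟨⟨ζ, hζ⟩, (hmemYp ⟨ζ, hζ⟩ y).mpr hy⟩
  have hdisj : ∀ ζ ζ' : ι, ζ ≠ ζ' → IsEmpty ((Yp ζ ⊓ Yp ζ' : Y.Opens) : Scheme.{u}) := by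
    intro ζ ζ' hne
    refine ⟨fun y => hne (Subtype.ext ?_)⟩
    haveI := hY y.1
    exact generic_unique p y.1 ζ.2 ζ'.2 ((hmemYp ζ y.1).mp y.2.1) ((hmemYp ζ' y.1).mp y.2.2)
  have compat : ∀ ζ ζ' : ι, Y.homOfLE (inf_le_left : Yp ζ ⊓ Yp ζ' ≤ Yp ζ) ≫ τ ζ =
      Y.homOfLE (inf_le_right : Yp ζ ⊓ Yp ζ' ≤ Yp ζ') ≫ τ ζ' := by
    intro ζ ζ'
    by_cases h : ζ = ζ'
    · subst h; rfl
    · haveI := hdisj ζ ζ' h
      exact (isInitialOfIsEmpty).hom_ext _ _
  obtain ⟨σ, hσ, hext⟩ := exists_glue_cover Yp hcov τ compat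
  refine ⟨σ, ?_, ?_, ?_⟩
  · apply hext
    intro ζ
    rw [← Category.assoc, hσ, hτq, Category.comp_id]
  · intro ζ h
    have hmem : ζ ∈ Yp ⟨ζ, h⟩ := (hmemYp ⟨ζ, h⟩ ζ).mpr specializes_rfl
    have h1 : σ ζ = τ ⟨ζ, h⟩ ⟨ζ, hmem⟩ := by
      rw [← hσ ⟨ζ, h⟩, Scheme.Hom.comp_apply]; rfl
    rw [h1]
    have h2 : (q ≫ p) (τ ⟨ζ, h⟩ ⟨ζ, hmem⟩) = genericPoint X := by
      have := congrArg (fun φ : ((Yp ⟨ζ, h⟩ : Y.Opens) : Scheme.{u}) ⟶ Y => φ ⟨ζ, hmem⟩)
        (hτq ⟨ζ, h⟩)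
      simp only [Scheme.Hom.comp_apply] at this
      rw [Scheme.Hom.comp_apply, this]
      exact h
    exact (eq_of_specializes_of_apply_eq_genericPoint (q ≫ p) h2 (hτW ⟨ζ, h⟩ ⟨ζ, hmem⟩)).symm
  · intro T s hs hsω
    have hTcov : IsOpenCover (fun ζ : ι => T.ι ⁻¹ᵁ Yp ζ) := by
      show ⨆ ζ : ι, T.ι ⁻¹ᵁ Yp ζ = ⊤
      rw [eq_top_iff]
      intro t _
      obtain ⟨ζ, hζ, hy⟩ := exists_generic_specializes p t.1
      exact TopologicalSpace.Opens.mem_iSup.mpr ⟨⟨ζ, hζ⟩, (hmemYp ⟨ζ, hζ⟩ t.1).mpr hy⟩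
    refine Scheme.Cover.hom_ext ((T : Scheme.{u}).openCoverOfIsOpenCover _ hTcov) _ _ fun ζ => ?_
    show (T.ι ⁻¹ᵁ Yp ζ).ι ≫ T.ι ≫ σ = (T.ι ⁻¹ᵁ Yp ζ).ι ≫ s
    rw [← Category.assoc, ← morphismRestrict_ι, Category.assoc, hσ]
    apply hτu
    · rw [Category.assoc, hs, morphismRestrict_ι]
    · intro t
      have htY : ζ.1 ⤳ t.1.1 := (hmemYp ζ t.1.1).mp t.2
      have hζT : ζ.1 ∈ T := htY.mem_open T.2 t.1.2
      have h1 : (⟨ζ.1, hζT⟩ : (T : Scheme.{u})) ⤳ t.1 :=
        (Topology.IsInducing.subtypeVal.specializes_iff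
          (x := (⟨ζ.1, hζT⟩ : (T : Scheme.{u}))) (y := t.1)).mp htY
      have h2 : s ⟨ζ.1, hζT⟩ ⤳ s t.1 := h1.map s.continuous
      rw [hsω ζ.1 ζ.2 hζT] at h2
      rw [Scheme.Hom.comp_apply]
      exact h2

/-- **Extension of sections.**  A section of the finite étale `q : W ⟶ Y` over a dense open
subscheme of `Y` extends (uniquely) to a section over `Y`, when `Y` is étale over an integral
scheme and all local rings of `Y` and `W` are domains. -/
theorem exists_section_of_dense [IsIntegral X] (p : Y ⟶ X) [Etale p] (q : W ⟶ Y) [IsFinite q]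
    [Etale q] (hY : ∀ y : Y, IsDomain (Y.presheaf.stalk y))
    (hW : ∀ w : W, IsDomain (W.presheaf.stalk w))
    (Y0 : Y.Opens) (hY0 : Dense (Y0 : Set Y)) (σ0 : (Y0 : Scheme.{u}) ⟶ W)
    (hσ0 : σ0 ≫ q = Y0.ι) :
    ∃ σ : Y ⟶ W, σ ≫ q = 𝟙 Y ∧ Y0.ι ≫ σ = σ0 := by
  haveI : LocallyQuasiFinite p := Groth.Agent.S5067.locallyQuasiFinite_of_unramified p
  have hζ0 : ∀ ζ : Y, p ζ = genericPoint X → ζ ∈ Y0 := fun ζ hζ => by
    obtain ⟨y, hyζ, hy0⟩ := hY0.inter_open_nonempty _ (genOpen p hY ζ hζ).2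
      ⟨ζ, self_mem_genOpen p hY ζ hζ⟩
    exact (hyζ : ζ ⤳ y).mem_open Y0.2 hy0
  have hq0 : ∀ y : (Y0 : Scheme.{u}), q (σ0 y) = y.1 := fun y => by
    have := congrArg (fun φ : (Y0 : Scheme.{u}) ⟶ Y => φ y) hσ0
    simp only [Scheme.Hom.comp_apply] at this
    exact this
  have hres0 : ∀ y : (Y0 : Scheme.{u}), Function.Bijective (q.residueFieldMap (σ0 y)).hom := by
    intro y
    have h1 : IsIso ((σ0 ≫ q).residueFieldMap y) := by
      have : ∀ (φ : (Y0 : Scheme.{u}) ⟶ Y), φ = Y0.ι → IsIso (φ.residueFieldMap y) := by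
        rintro _ rfl; infer_instance
      exact this _ hσ0
    rw [Scheme.residueFieldMap_comp] at h1
    have hb := (ConcreteCategory.isIso_iff_bijective _).mp h1
    have hinj : Function.Injective (σ0.residueFieldMap y).hom := RingHom.injective _
    have hsurj : Function.Surjective (σ0.residueFieldMap y).hom := by
      intro z
      obtain ⟨x, hx⟩ := hb.2 z
      exact ⟨(q.residueFieldMap (σ0 y)).hom x, hx⟩
    haveI h2 : IsIso (σ0.residueFieldMap y) :=
      (ConcreteCategory.isIso_iff_bijective _).mpr ⟨hinj, hsurj⟩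
    have h3 : IsIso (q.residueFieldMap (σ0 y)) :=
      @IsIso.of_isIso_comp_right _ _ _ _ _ _ (σ0.residueFieldMap y) h2 h1
    exact (ConcreteCategory.isIso_iff_bijective _).mp h3
  obtain ⟨σ, hσq, -, hσu⟩ := exists_section_of_generic p q hY hW
    (fun ζ hζ => σ0 ⟨ζ, hζ0 ζ hζ⟩) (fun ζ hζ => hq0 ⟨ζ, hζ0 ζ hζ⟩)
    (fun ζ hζ => hres0 ⟨ζ, hζ0 ζ hζ⟩)
  exact ⟨σ, hσq, hσu Y0 σ0 hσ0 fun ζ h hT => rfl⟩

end EtaleNormal

end Groth.Agent.Lib.helper9
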