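import Mathlib
import Groth.Agent.Lib.Helper9.PurityGlue
import Groth.Agent.Lib.Helper9.PurityS2

/-!
# Purity of the branch locus: finite models of algebras which are finite after localization (helper9)
-/

namespace Groth.Agent.Lib.helper9.PurityFin

open Groth.Agent.Lib.helper9.PurityGlue Groth.Agent.Lib.helper9

universe u

section Integral

variable {A R A' R' : Type*} [CommRing A] [CommRing R] [CommRing A'] [CommRing R']
  [Algebra A R] (s : A) [Algebra A A'] [IsLocalization.Away s A'] [Algebra R R']
  [IsLocalization.Away (algebraMap A R s) R'] [Algebra A' R'] [Algebra A R']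
  [IsScalarTower A A' R'] [IsScalarTower A R R']

include A' in
/-- If `R[1/s]` is integral over `A[1/s]`, then every element of `R` has an `A`-integral multiple
by a power of `s`. -/
theorem exists_isIntegral_smul [Algebra.IsIntegral A' R'] (r : R) :
    ∃ N : ℕ, IsIntegral A (s ^ N • r) := by
  have h1 : IsIntegral A' (algebraMap R R' r) := Algebra.IsIntegral.isIntegral _
  obtain ⟨⟨_, a, rfl⟩, ha⟩ :=
    IsIntegral.exists_multiple_integral_of_isLocalization (Submonoid.powers s) _ h1
  have h2 : IsIntegral A (algebraMap R R' (s ^ a • r)) := by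
    rw [Algebra.smul_def, map_mul, ← IsScalarTower.algebraMap_apply, ← Algebra.smul_def]
    exact ha
  obtain ⟨b, hb⟩ := IsLocalization.Away.exists_isIntegral_mul_of_isIntegral_algebraMap
    (R := A) (S := R) (Sₘ := R') (r := algebraMap A R s) isIntegral_algebraMap h2
  refine ⟨b + a, ?_⟩
  rw [pow_add, mul_smul, Algebra.smul_def (s ^ b), map_pow]
  exact hb

include A' in
/-- If `R[1/s]` is finite over `A[1/s]`, there is a finite set of `A`-integral elements of `R`
whose `A`-span contains a multiple of every element of `R` by a power of `s`. -/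
theorem exists_finset_integral [Module.Finite A' R'] :
    ∃ G : Finset R, (∀ x ∈ G, IsIntegral A x) ∧
      ∀ r : R, ∃ N : ℕ, s ^ N • r ∈ Submodule.span A (G : Set R) := by
  classical
  have hint : Algebra.IsIntegral A' R' := inferInstance
  obtain ⟨T, hT⟩ := (Module.Finite.fg_top : (⊤ : Submodule A' R').FG)
  -- numerators
  have hnum : ∀ y : R', ∃ (r : R) (n : ℕ), y * algebraMap R R' (algebraMap A R s) ^ n =
      algebraMap R R' r := by
    intro y
    obtain ⟨n, r, hr⟩ := IsLocalization.Away.surj (algebraMap A R s) y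
    exact ⟨r, n, hr⟩
  choose num den hnd using hnum
  have hint2 : ∀ y : R', ∃ N : ℕ, IsIntegral A (s ^ N • num y) :=
    fun y => exists_isIntegral_smul (A' := A') (R' := R') s (num y)
  choose e he using hint2
  let G : Finset R := T.image (fun y => s ^ e y • num y)
  refine ⟨G, ?_, ?_⟩
  · intro x hx
    obtain ⟨y, -, rfl⟩ := Finset.mem_image.mp hx
    exact he y
  · -- the key property, for elements of `R'`
    have hsA' : ∀ (k : ℕ) (z : R'), (s ^ k • z : R') = algebraMap A A' (s ^ k) • z := by
      intro k z
      rw [algebraMap_smul]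
    have key : ∀ z : R', z ∈ Submodule.span A' (T : Set R') →
        ∃ (N : ℕ) (x : R), x ∈ Submodule.span A (G : Set R) ∧ s ^ N • z = algebraMap R R' x := by
      intro z hz
      induction hz using Submodule.span_induction with
      | mem y hy =>
        refine ⟨e y + den y, s ^ e y • num y, Submodule.subset_span
          (Finset.mem_coe.mpr (Finset.mem_image.mpr ⟨y, hy, rfl⟩)), ?_⟩
        rw [Algebra.smul_def (s ^ e y) (num y), map_mul, ← hnd y, pow_add, mul_smul,
          Algebra.smul_def (s ^ den y) y, Algebra.smul_def (s ^ e y),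
          IsScalarTower.algebraMap_apply A R R', IsScalarTower.algebraMap_apply A R R', map_pow,
          map_pow, map_pow, map_pow]
        ring
      | zero => exact ⟨0, 0, Submodule.zero_mem _, by simp⟩
      | add z z' _ _ hz hz' =>
        obtain ⟨N, x, hx, hxz⟩ := hz
        obtain ⟨N', x', hx', hxz'⟩ := hz'
        refine ⟨N + N', s ^ N' • x + s ^ N • x', Submodule.add_mem _
          (Submodule.smul_mem _ _ hx) (Submodule.smul_mem _ _ hx'), ?_⟩
        rw [smul_add, map_add, Algebra.smul_def (s ^ N') x, Algebra.smul_def (s ^ N) x', map_mul,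
          map_mul, ← hxz, ← hxz', ← IsScalarTower.algebraMap_apply,
          ← IsScalarTower.algebraMap_apply, ← Algebra.smul_def, ← Algebra.smul_def, ← mul_smul,
          ← mul_smul, ← pow_add, ← pow_add, add_comm N' N]
      | smul c z _ hz =>
        obtain ⟨N, x, hx, hxz⟩ := hz
        obtain ⟨k, a, ha⟩ := IsLocalization.Away.surj s c
        refine ⟨N + k, a • x, Submodule.smul_mem _ _ hx, ?_⟩
        have ha' : algebraMap A' R' c * algebraMap A R' s ^ k = algebraMap A R' a := by
          rw [IsScalarTower.algebraMap_apply A A' R', IsScalarTower.algebraMap_apply A A' R',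
            ← ha, map_mul, map_pow]
        have hxz' : algebraMap A R' s ^ N * z = algebraMap R R' x := by
          rw [← hxz, Algebra.smul_def, map_pow]
        rw [Algebra.smul_def a x, map_mul, ← IsScalarTower.algebraMap_apply, ← hxz', ← ha',
          Algebra.smul_def, Algebra.smul_def c z, map_pow, pow_add]
        ring
    intro r
    obtain ⟨N, x, hx, hxr⟩ := key (algebraMap R R' r) (by rw [hT]; trivial)
    have h3 : algebraMap R R' (s ^ N • r) = algebraMap R R' x := by
      rw [← hxr, Algebra.smul_def, map_mul, ← IsScalarTower.algebraMap_apply, ← Algebra.smul_def]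
    obtain ⟨⟨_, t, rfl⟩, ht⟩ :=
      (IsLocalization.eq_iff_exists (Submonoid.powers (algebraMap A R s)) R').mp h3
    refine ⟨t + N, ?_⟩
    have h4 : s ^ (t + N) • r = s ^ t • x := by
      rw [pow_add, mul_smul, Algebra.smul_def (s ^ t), Algebra.smul_def (s ^ t), map_pow]
      exact ht
    rw [h4]
    exact Submodule.smul_mem _ _ hx

end Integral

section Subalg

variable {A R : Type*} [CommRing A] [CommRing R] [Algebra A R]

/-- A finite subalgebra containing multiples of all elements by powers of the `σ i`. -/
theorem exists_finite_subalgebra {ι : Type*} [Finite ι] (σ : ι → A)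
    (h : ∀ i, ∃ G : Finset R, (∀ x ∈ G, IsIntegral A x) ∧
      ∀ r : R, ∃ N : ℕ, σ i ^ N • r ∈ Submodule.span A (G : Set R)) :
    ∃ B : Subalgebra A R, Module.Finite A B ∧ ∀ i, ∀ r : R, ∃ N : ℕ, σ i ^ N • r ∈ B := by
  choose G hG1 hG2 using h
  refine ⟨Algebra.adjoin A (⋃ i, (G i : Set R)), ?_, ?_⟩
  · refine Algebra.finite_adjoin_of_finite_of_isIntegral
      (Set.finite_iUnion fun i => (G i).finite_toSet) ?_
    intro x hx
    obtain ⟨i, hi⟩ := Set.mem_iUnion.mp hx
    exact hG1 i x hi
  · intro i r
    obtain ⟨N, hN⟩ := hG2 i r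
    refine ⟨N, ?_⟩
    have hle : Submodule.span A (G i : Set R) ≤
        Subalgebra.toSubmodule (Algebra.adjoin A (⋃ i, (G i : Set R))) :=
      Submodule.span_le.mpr (fun x hx => Algebra.subset_adjoin (Set.mem_iUnion.mpr ⟨i, hx⟩))
    exact hle hN

end Subalg

section Etale

variable {A : Type u} [CommRing A]

/-- Being étale after inverting `s` can be checked on generators of an ideal containing `s`. -/
theorem formallyEtale_of_span (B : Type u) [CommRing B] [Algebra A B] {ι : Type*} (σ : ι → A)
    (h : ∀ i, Algebra.FormallyEtale A (Loc B (σ i))) (s : A)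
    (hs : s ∈ Ideal.span (Set.range σ)) : Algebra.FormallyEtale A (Loc B s) := by
  rw [← Algebra.basicOpen_subset_etaleLocus_iff]
  intro p hp
  have hex : ∃ i, algebraMap A B (σ i) ∉ p.asIdeal := by
    by_contra hcon
    have hle : Ideal.span (Set.range σ) ≤ p.asIdeal.comap (algebraMap A B) := by
      rw [Ideal.span_le]
      rintro _ ⟨i, rfl⟩
      by_contra hi
      exact hcon ⟨i, hi⟩
    exact hp (hle hs)
  obtain ⟨i, hi⟩ := hex
  exact (Algebra.basicOpen_subset_etaleLocus_iff.mpr (h i)) hi

/-- A subalgebra which agrees with `R` after inverting `s` is étale after inverting `s`. -/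
theorem formallyEtale_loc_subalgebra {R : Type u} [CommRing R] [Algebra A R] (B : Subalgebra A R)
    (s : A) (hS : ∀ r : R, ∃ N : ℕ, s ^ N • r ∈ B) [Algebra.FormallyEtale A (Loc R s)] :
    Algebra.FormallyEtale A (Loc B s) := by
  have hbij := PurityS2.locMap_bijective B.val s
    (fun r => by
      obtain ⟨N, hN⟩ := hS r
      exact ⟨N, ⟨_, hN⟩, rfl⟩)
    (fun b hb => ⟨0, by
      rw [pow_zero, one_smul]
      exact Subtype.ext hb⟩)
  exact Algebra.FormallyEtale.of_equiv (AlgEquiv.ofBijective (locMap B.val s) hbij).symm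

end Etale

section AwayBij

variable {B R B' R' : Type*} [CommRing B] [CommRing R] [CommRing B'] [CommRing R']

/-- A map between localizations away from `t` and `φ t`, compatible with `φ`, is bijective as soon as
`φ` is "bijective up to powers of `t`". -/
theorem bijective_of_SJ (φ : B →+* R) (t : B) [Algebra B B'] [IsLocalization.Away t B']
    [Algebra R R'] [IsLocalization.Away (φ t) R'] (ψ : B' →+* R')
    (hψ : ∀ b, ψ (algebraMap B B' b) = algebraMap R R' (φ b))
    (hS : ∀ r : R, ∃ (N : ℕ) (b : B), φ b = φ t ^ N * r)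
    (hJ : ∀ b : B, φ b = 0 → ∃ N : ℕ, t ^ N * b = 0) : Function.Bijective ψ := by
  have hut : IsUnit (algebraMap B B' t) := IsLocalization.Away.algebraMap_isUnit t
  have hur : IsUnit (algebraMap R R' (φ t)) := IsLocalization.Away.algebraMap_isUnit (φ t)
  constructor
  · rw [injective_iff_map_eq_zero]
    intro x hx
    obtain ⟨n, b, hb⟩ := IsLocalization.Away.surj t x
    have h1 : algebraMap R R' (φ b) = 0 := by
      rw [← hψ, ← hb, map_mul, hx, zero_mul]
    obtain ⟨⟨_, m, rfl⟩, hm⟩ := (IsLocalization.map_eq_zero_iff (Submonoid.powers (φ t)) R' _).mp h1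
    obtain ⟨N, hN⟩ := hJ (t ^ m * b) (by rw [map_mul, map_pow]; exact hm)
    have h2 : algebraMap B B' b = 0 := by
      have e1 := congrArg (algebraMap B B') hN
      rw [map_zero, ← mul_assoc, ← pow_add, map_mul, map_pow] at e1
      exact (hut.pow (N + m)).mul_right_eq_zero.mp e1
    rw [h2] at hb
    exact (hut.pow n).mul_left_eq_zero.mp hb
  · intro y
    obtain ⟨n, r, hr⟩ := IsLocalization.Away.surj (φ t) y
    obtain ⟨N, b, hb⟩ := hS r
    obtain ⟨w, hw⟩ := hut.pow (N + n)
    refine ⟨algebraMap B B' b * ((↑w⁻¹ : B'ˣ) : B'), ?_⟩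
    have hu : IsUnit (algebraMap R R' (φ t) ^ (N + n)) := hur.pow (N + n)
    apply hu.mul_left_injective
    show ψ _ * algebraMap R R' (φ t) ^ (N + n) = y * algebraMap R R' (φ t) ^ (N + n)
    have e1 : algebraMap R R' (φ t) ^ (N + n) = ψ ↑w := by
      rw [hw, map_pow, hψ]
    have e2 : y * algebraMap R R' (φ t) ^ (N + n) = algebraMap R R' (φ b) := by
      rw [hb, map_mul, ← hr, map_pow, pow_add]
      ring
    rw [e2, e1, ← map_mul, mul_assoc, Units.inv_mul, mul_one, hψ]

end AwayBij

end Groth.Agent.Lib.helper9.PurityFin
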