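import Mathlib
import Groth.Agent.Lib.Helper9.PurityFin

/-!
# Purity of the branch locus: checking isomorphisms over an open of an affine scheme (helper9)
-/

namespace Groth.Agent.Lib.helper9.PurityLIC

open AlgebraicGeometry CategoryTheory CategoryTheory.Limits TopologicalSpace

universe u

set_option backward.isDefEq.respectTransparency false in
theorem isIso_morphismRestrict_of_isIso_app {X Y : Scheme.{u}} (f : X ⟶ Y) {U : Y.Opens}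
    (hU : IsAffineOpen U) (hV : IsAffineOpen (f ⁻¹ᵁ U)) (h : IsIso (f.app U)) : IsIso (f ∣_ U) := by
  have : IsAffine U := hU
  have hV' : IsAffine (f ⁻¹ᵁ U) := hV
  refine ((HasAffineProperty.iff_of_isAffine (P := .isomorphisms _)).trans <|
    (and_iff_right hV').trans ?_).mpr h
  rw [Scheme.Hom.app_eq_appLE]
  simp only [morphismRestrict_app', TopologicalSpace.Opens.map_top]
  congr! <;> simp [Scheme.Opens.toScheme_presheaf_obj]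

/-- A morphism from a qcqs scheme to an affine scheme is an isomorphism over a basic open `D(t)`
if its preimage is affine and the map on global sections is bijective up to powers of `t`. -/
theorem isIso_morphismRestrict_basicOpen {X Y : Scheme.{u}} [IsAffine Y] [CompactSpace X]
    [QuasiSeparatedSpace X] (θ : X ⟶ Y) (t : Γ(Y, ⊤))
    (haff : IsAffineOpen (X.basicOpen (θ.appTop t)))
    (hS : ∀ r : Γ(X, ⊤), ∃ (N : ℕ) (b : Γ(Y, ⊤)), θ.appTop b = θ.appTop t ^ N * r)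
    (hJ : ∀ b : Γ(Y, ⊤), θ.appTop b = 0 → ∃ N : ℕ, t ^ N * b = 0) :
    IsIso (θ ∣_ Y.basicOpen t) := by
  have hpre : θ ⁻¹ᵁ Y.basicOpen t = X.basicOpen (θ.appTop t) := Scheme.preimage_basicOpen_top θ t
  refine isIso_morphismRestrict_of_isIso_app θ ((isAffineOpen_top Y).basicOpen t)
    (hpre ▸ haff) ?_
  rw [ConcreteCategory.isIso_iff_bijective, Scheme.Hom.app_eq_appLE]
  rw [Scheme.Hom.appLE_congr θ le_rfl rfl hpre (fun φ => Function.Bijective φ.hom)]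
  have hqc : IsLocalization.Away (θ.appTop t) Γ(X, X.basicOpen (θ.appTop t)) :=
    isLocalization_basicOpen_of_qcqs (X := X) (U := ⊤) isCompact_univ isQuasiSeparated_univ
      (θ.appTop t)
  refine PurityFin.bijective_of_SJ (B := Γ(Y, ⊤)) (R := Γ(X, ⊤)) (θ.appTop).hom t _ ?_ hS hJ
  intro b
  have h1 : Y.presheaf.map (homOfLE (Y.basicOpen_le t)).op ≫
      θ.appLE (Y.basicOpen t) (X.basicOpen (θ.appTop t)) (le_of_eq hpre.symm) =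
      θ.appTop ≫ X.presheaf.map (homOfLE (X.basicOpen_le (θ.appTop t))).op := by
    rw [Scheme.Hom.map_appLE]
    rfl
  exact congrArg (fun φ => φ.hom b) h1

/-- Being an isomorphism over an open can be checked on an open cover of that open. -/
theorem isIso_morphismRestrict_of_cover {X Y : Scheme.{u}} (θ : X ⟶ Y) (O : Y.Opens) {ι : Type*}
    (D : ι → Y.Opens) (hcov : O = ⨆ i, D i) (h : ∀ i, IsIso (θ ∣_ D i)) : IsIso (θ ∣_ O) := by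
  have hle : ∀ i, D i ≤ O := fun i => hcov ▸ le_iSup D i
  rw [← MorphismProperty.isomorphisms.iff]
  apply IsZariskiLocalAtTarget.of_iSup_eq_top (P := MorphismProperty.isomorphisms Scheme)
    (fun i => O.ι ⁻¹ᵁ D i)
  · rw [← Scheme.Hom.preimage_iSup, ← hcov, Scheme.Opens.ι_preimage_self]
  · intro i
    have e : O.ι ''ᵁ (O.ι ⁻¹ᵁ D i) = D i := by
      rw [Scheme.Hom.image_preimage_eq_opensRange_inf, Scheme.Opens.opensRange_ι]
      exact inf_eq_right.mpr (hle i)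
    rw [(MorphismProperty.isomorphisms Scheme).arrow_mk_iso_iff (morphismRestrictRestrict θ O _),
      (MorphismProperty.isomorphisms Scheme).arrow_mk_iso_iff (morphismRestrictEq θ e)]
    exact h i

/-- Assembling an isomorphism over `U` from a zigzag `X₁ → Y ← X₂` of morphisms which are
isomorphisms over `U`. -/
theorem exists_iso_of_zigzag {S Y X₁ X₂ : Scheme.{u}} (U : S.Opens) (y : Y ⟶ S) (θ₁ : X₁ ⟶ Y)
    (θ₂ : X₂ ⟶ Y) (h₁ : IsIso (θ₁ ∣_ y ⁻¹ᵁ U)) (h₂ : IsIso (θ₂ ∣_ y ⁻¹ᵁ U))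
    (p : X₁ ⟶ U.toScheme) (hp : p ≫ U.ι = θ₁ ≫ y) :
    ∃ e : pullback (θ₂ ≫ y) U.ι ≅ X₁, e.hom ≫ p = pullback.snd (θ₂ ≫ y) U.ι := by
  have htop : θ₁ ⁻¹ᵁ (y ⁻¹ᵁ U) = ⊤ := by
    have h1 : (θ₁ ≫ y) ⁻¹ᵁ U = ⊤ := by
      rw [← hp, Scheme.Hom.comp_preimage, Scheme.Opens.ι_preimage_self]
      rfl
    exact h1
  have h3 : IsIso (θ₁ ⁻¹ᵁ (y ⁻¹ᵁ U)).ι := by
    rw [htop]
    exact (Scheme.topIso X₁).isIso_hom
  have := h₁
  have := h₂
  have h4 : (θ₁ ⁻¹ᵁ (y ⁻¹ᵁ U)).ι ≫ p = (θ₁ ∣_ y ⁻¹ᵁ U) ≫ (y ∣_ U) := by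
    rw [← cancel_mono U.ι, Category.assoc, Category.assoc, hp, morphismRestrict_ι,
      morphismRestrict_ι_assoc]
  let i₂ : ((θ₂ ≫ y) ⁻¹ᵁ U).toScheme ≅ (y ⁻¹ᵁ U).toScheme :=
    @asIso _ _ _ _ (θ₂ ∣_ y ⁻¹ᵁ U) h₂
  let i₁ : (θ₁ ⁻¹ᵁ (y ⁻¹ᵁ U)).toScheme ≅ (y ⁻¹ᵁ U).toScheme :=
    @asIso _ _ _ _ (θ₁ ∣_ y ⁻¹ᵁ U) h₁
  let i₃ : (θ₁ ⁻¹ᵁ (y ⁻¹ᵁ U)).toScheme ≅ X₁ := @asIso _ _ _ _ (θ₁ ⁻¹ᵁ (y ⁻¹ᵁ U)).ι h3
  have hi₁ : i₁.hom = θ₁ ∣_ y ⁻¹ᵁ U := rfl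
  have hi₂ : i₂.hom = θ₂ ∣_ y ⁻¹ᵁ U := rfl
  have hi₃ : i₃.hom = (θ₁ ⁻¹ᵁ (y ⁻¹ᵁ U)).ι := rfl
  refine ⟨pullbackRestrictIsoRestrict (θ₂ ≫ y) U ≪≫ i₂ ≪≫ i₁.symm ≪≫ i₃, ?_⟩
  simp only [Iso.trans_hom, Iso.symm_hom, Category.assoc]
  rw [hi₃, h4, ← hi₁, Iso.inv_hom_id_assoc, hi₂]
  have h6 := pullbackRestrictIsoRestrict_hom_morphismRestrict (θ₂ ≫ y) U
  rw [morphismRestrict_comp θ₂ y U] at h6
  exact h6

end Groth.Agent.Lib.helper9.PurityLIC
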