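import Mathlib
import Groth.Agent.Lib.Helper9.PurityFin
import Groth.Agent.Lib.Helper9.PurityLIC
import Groth.Agent.Lib.Helper9.PurityCT

/-!
# Zariski–Nagata purity: from algebra to schemes (helper9)
-/

namespace Groth.Agent.Lib.helper9.PurityGeom

open AlgebraicGeometry CategoryTheory CategoryTheory.Limits TopologicalSpace
open Groth.Agent.Lib.helper9.PurityGlue Groth.Agent.Lib.helper9

universe u

section Local

variable {S X : Scheme.{u}} [IsAffine S] (U : S.Opens) (p : X ⟶ U.toScheme)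
  (t : Γ(S, ⊤)) (ht : S.basicOpen t ≤ U)

include ht in
theorem isAffineOpen_ι_preimage : IsAffineOpen (U.ι ⁻¹ᵁ S.basicOpen t) :=
  ((isAffineOpen_top S).basicOpen t).preimage_of_isOpenImmersion U.ι
    (by rw [Scheme.Opens.opensRange_ι]; exact ht)

include ht in
theorem isAffineOpen_basicOpen [IsAffineHom p] :
    IsAffineOpen (X.basicOpen ((p ≫ U.ι).appTop t)) := by
  rw [← Scheme.preimage_basicOpen_top, Scheme.Hom.comp_preimage]
  exact (isAffineOpen_ι_preimage U t ht).preimage p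

omit [IsAffine S] in
theorem le_preimage :
    X.basicOpen ((p ≫ U.ι).appTop t) ≤ (p ≫ U.ι) ⁻¹ᵁ S.basicOpen t :=
  le_of_eq (Scheme.preimage_basicOpen_top _ t).symm

include ht in
theorem finite_appLE [IsFinite p] :
    ((p ≫ U.ι).appLE (S.basicOpen t) (X.basicOpen ((p ≫ U.ι).appTop t))
      (le_preimage U p t)).hom.Finite := by
  rw [← Scheme.Hom.appLE_congr (p ≫ U.ι) le_rfl rfl (Scheme.preimage_basicOpen_top _ t)
    (fun φ => φ.hom.Finite), Scheme.Hom.appLE_eq_app]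
  have h1 : IsIso (U.ι.app (S.basicOpen t)) :=
    U.ι.isIso_app _ (by rw [Scheme.Opens.opensRange_ι]; exact ht)
  have h2 : (U.ι.app (S.basicOpen t)).hom.Finite :=
    RingHom.Finite.of_surjective _ (ConcreteCategory.bijective_of_isIso _).2
  have h3 : ((U.ι.app (S.basicOpen t)) ≫ p.app (U.ι ⁻¹ᵁ S.basicOpen t)).hom.Finite := by
    rw [CommRingCat.hom_comp]
    exact (IsFinite.finite_app p _ (isAffineOpen_ι_preimage U t ht)).comp h2
  exact h3

include ht in
theorem etale_appLE [IsAffineHom p] [Etale p] :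
    ((p ≫ U.ι).appLE (S.basicOpen t) (X.basicOpen ((p ≫ U.ι).appTop t))
      (le_preimage U p t)).hom.Etale :=
  HasRingHomProperty.appLE (P := @Etale) (p ≫ U.ι) inferInstance
    ⟨S.basicOpen t, (isAffineOpen_top S).basicOpen t⟩
    ⟨X.basicOpen ((p ≫ U.ι).appTop t), isAffineOpen_basicOpen U p t ht⟩ _

end Local

section Local2

variable {S X : Scheme.{u}} [IsAffine S] (U : S.Opens) (p : X ⟶ U.toScheme)
  [CompactSpace X] [QuasiSeparatedSpace X]
  [Algebra Γ(S, ⊤) Γ(X, ⊤)] (halg : algebraMap Γ(S, ⊤) Γ(X, ⊤) = (p ≫ U.ι).appTop.hom)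
  (t : Γ(S, ⊤)) (ht : S.basicOpen t ≤ U)

include halg ht in
/-- Integral elements of `Γ(X, ⊤)` generating `Γ(X, D(t))` up to powers of `t`. -/
theorem exists_finset_integral [IsFinite p] :
    ∃ G : Finset Γ(X, ⊤), (∀ x ∈ G, IsIntegral Γ(S, ⊤) x) ∧
      ∀ r : Γ(X, ⊤), ∃ N : ℕ, t ^ N • r ∈ Submodule.span Γ(S, ⊤) (G : Set Γ(X, ⊤)) := by
  have hqc : IsLocalization.Away (algebraMap Γ(S, ⊤) Γ(X, ⊤) t)
      Γ(X, X.basicOpen ((p ≫ U.ι).appTop t)) := by
    rw [halg]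
    exact isLocalization_basicOpen_of_qcqs (X := X) (U := ⊤) isCompact_univ
      isQuasiSeparated_univ ((p ≫ U.ι).appTop t)
  let _ : Algebra Γ(S, S.basicOpen t) Γ(X, X.basicOpen ((p ≫ U.ι).appTop t)) :=
    ((p ≫ U.ι).appLE (S.basicOpen t) (X.basicOpen ((p ≫ U.ι).appTop t))
      (le_preimage U p t)).hom.toAlgebra
  let _ : Algebra Γ(S, ⊤) Γ(X, X.basicOpen ((p ≫ U.ι).appTop t)) :=
    ((algebraMap Γ(X, ⊤) Γ(X, X.basicOpen ((p ≫ U.ι).appTop t))).comp
      (algebraMap Γ(S, ⊤) Γ(X, ⊤))).toAlgebra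
  have : IsScalarTower Γ(S, ⊤) Γ(X, ⊤) Γ(X, X.basicOpen ((p ≫ U.ι).appTop t)) :=
    IsScalarTower.of_algebraMap_eq (fun _ => rfl)
  have : IsScalarTower Γ(S, ⊤) Γ(S, S.basicOpen t) Γ(X, X.basicOpen ((p ≫ U.ι).appTop t)) := by
    refine IsScalarTower.of_algebraMap_eq (fun a => ?_)
    have h1 : S.presheaf.map (homOfLE (S.basicOpen_le t)).op ≫
        (p ≫ U.ι).appLE (S.basicOpen t) (X.basicOpen ((p ≫ U.ι).appTop t))
          (le_preimage U p t) =
        (p ≫ U.ι).appTop ≫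
          X.presheaf.map (homOfLE (X.basicOpen_le ((p ≫ U.ι).appTop t))).op := by
      rw [Scheme.Hom.map_appLE]
      rfl
    have h2 := congrArg (fun φ => φ.hom a) h1
    show algebraMap Γ(X, ⊤) _ (algebraMap Γ(S, ⊤) Γ(X, ⊤) a) = _
    rw [halg]
    exact h2.symm
  have : Module.Finite Γ(S, S.basicOpen t) Γ(X, X.basicOpen ((p ≫ U.ι).appTop t)) :=
    finite_appLE U p t ht
  exact PurityFin.exists_finset_integral (A' := Γ(S, S.basicOpen t))
    (R' := Γ(X, X.basicOpen ((p ≫ U.ι).appTop t))) t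

include halg ht in
/-- `Γ(X, ⊤)[1/t]` is formally étale over `Γ(S, ⊤)`. -/
theorem formallyEtale_loc [IsAffineHom p] [Etale p] :
    Algebra.FormallyEtale Γ(S, ⊤) (Loc Γ(X, ⊤) t) := by
  have hqc : IsLocalization.Away (algebraMap Γ(S, ⊤) Γ(X, ⊤) t)
      Γ(X, X.basicOpen ((p ≫ U.ι).appTop t)) := by
    rw [halg]
    exact isLocalization_basicOpen_of_qcqs (X := X) (U := ⊤) isCompact_univ
      isQuasiSeparated_univ ((p ≫ U.ι).appTop t)
  let _ : Algebra Γ(S, S.basicOpen t) Γ(X, X.basicOpen ((p ≫ U.ι).appTop t)) :=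
    ((p ≫ U.ι).appLE (S.basicOpen t) (X.basicOpen ((p ≫ U.ι).appTop t))
      (le_preimage U p t)).hom.toAlgebra
  let _ : Algebra Γ(S, ⊤) Γ(X, X.basicOpen ((p ≫ U.ι).appTop t)) :=
    ((algebraMap Γ(X, ⊤) Γ(X, X.basicOpen ((p ≫ U.ι).appTop t))).comp
      (algebraMap Γ(S, ⊤) Γ(X, ⊤))).toAlgebra
  have : IsScalarTower Γ(S, ⊤) Γ(X, ⊤) Γ(X, X.basicOpen ((p ≫ U.ι).appTop t)) :=
    IsScalarTower.of_algebraMap_eq (fun _ => rfl)
  have : IsScalarTower Γ(S, ⊤) Γ(S, S.basicOpen t) Γ(X, X.basicOpen ((p ≫ U.ι).appTop t)) := by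
    refine IsScalarTower.of_algebraMap_eq (fun a => ?_)
    have h1 : S.presheaf.map (homOfLE (S.basicOpen_le t)).op ≫
        (p ≫ U.ι).appLE (S.basicOpen t) (X.basicOpen ((p ≫ U.ι).appTop t))
          (le_preimage U p t) =
        (p ≫ U.ι).appTop ≫
          X.presheaf.map (homOfLE (X.basicOpen_le ((p ≫ U.ι).appTop t))).op := by
      rw [Scheme.Hom.map_appLE]
      rfl
    have h2 := congrArg (fun φ => φ.hom a) h1
    show algebraMap Γ(X, ⊤) _ (algebraMap Γ(S, ⊤) Γ(X, ⊤) a) = _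
    rw [halg]
    exact h2.symm
  have het : Algebra.Etale Γ(S, S.basicOpen t) Γ(X, X.basicOpen ((p ≫ U.ι).appTop t)) :=
    etale_appLE U p t ht
  have h1 : Algebra.FormallyEtale Γ(S, ⊤) Γ(S, S.basicOpen t) :=
    Algebra.FormallyEtale.of_isLocalization (Submonoid.powers t)
  have h2 : Algebra.FormallyEtale Γ(S, ⊤) Γ(X, X.basicOpen ((p ≫ U.ι).appTop t)) :=
    Algebra.FormallyEtale.comp Γ(S, ⊤) Γ(S, S.basicOpen t) _
  let e : Γ(X, X.basicOpen ((p ≫ U.ι).appTop t)) ≃ₐ[Γ(X, ⊤)] Loc Γ(X, ⊤) t :=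
    IsLocalization.algEquiv (Submonoid.powers (algebraMap Γ(S, ⊤) Γ(X, ⊤) t)) _ _
  exact Algebra.FormallyEtale.of_equiv (e.restrictScalars Γ(S, ⊤))

end Local2

section Cover

/-- Basic opens of elements of an ideal are covered by the basic opens of generators. -/
theorem basicOpen_le_iSup {S : Scheme.{u}} {ι : Type*} (σ : ι → Γ(S, ⊤)) (t : Γ(S, ⊤))
    (ht : t ∈ Ideal.span (Set.range σ)) : S.basicOpen t ≤ ⨆ i, S.basicOpen (σ i) := by
  intro x hx
  by_contra hcon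
  have hnot : ∀ i, x ∉ S.basicOpen (σ i) := by
    intro i hi
    exact hcon (Opens.mem_iSup.mpr ⟨i, hi⟩)
  have hle : Ideal.span (Set.range σ) ≤
      (IsLocalRing.maximalIdeal (S.presheaf.stalk x)).comap (S.presheaf.germ ⊤ x trivial).hom := by
    rw [Ideal.span_le]
    rintro _ ⟨i, rfl⟩
    show (S.presheaf.germ ⊤ x trivial).hom (σ i) ∈ IsLocalRing.maximalIdeal _
    rw [IsLocalRing.mem_maximalIdeal, mem_nonunits_iff]
    intro hu
    exact hnot i ((Scheme.mem_basicOpen_top _ (σ i) x).mpr hu)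
  have h1 := hle ht
  have h2 : (S.presheaf.germ ⊤ x trivial).hom t ∈ IsLocalRing.maximalIdeal _ := h1
  rw [IsLocalRing.mem_maximalIdeal, mem_nonunits_iff] at h2
  exact h2 ((Scheme.mem_basicOpen_top _ t x).mp hx)

end Cover

section Main

variable {S X : Scheme.{u}} [IsAffine S] [IsRegularLocalRing Γ(S, ⊤)]

/-- **Zariski–Nagata purity** for an affine scheme `S` whose ring of global sections is a regular
local ring of dimension at least two and `U` its punctured spectrum: a finite étale cover of `U`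
extends to a finite étale cover of `S`. -/
theorem exists_extension (hdim : (2 : WithBot ℕ∞) ≤ ringKrullDim Γ(S, ⊤))
    (U : S.Opens)
    (hU : U = ⨆ t : IsLocalRing.maximalIdeal Γ(S, ⊤), S.basicOpen (t : Γ(S, ⊤)))
    (p : X ⟶ U.toScheme) [IsFinite p] [Etale p] :
    ∃ (W : Scheme.{u}) (q : W ⟶ S), IsFinite q ∧ Etale q ∧
      ∃ e : pullback q U.ι ≅ X, e.hom ≫ p = pullback.snd q U.ι := by
  classical
  -- topological finiteness
  have : NoetherianSpace S := noetherianSpace_of_isAffine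
  have : NoetherianSpace U.toScheme := inferInstanceAs (NoetherianSpace (U : Set S))
  have : CompactSpace X := QuasiCompact.compactSpace_of_compactSpace p
  have : QuasiSeparatedSpace X := quasiSeparatedSpace_of_quasiSeparated p
  -- the algebra structure
  let _ : Algebra Γ(S, ⊤) Γ(X, ⊤) := (p ≫ U.ι).appTop.hom.toAlgebra
  have halg : algebraMap Γ(S, ⊤) Γ(X, ⊤) = (p ≫ U.ι).appTop.hom := rfl
  have hle : ∀ t ∈ IsLocalRing.maximalIdeal Γ(S, ⊤), S.basicOpen t ≤ U := by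
    intro t ht
    rw [hU]
    exact le_iSup (fun t : IsLocalRing.maximalIdeal Γ(S, ⊤) => S.basicOpen (t : Γ(S, ⊤))) ⟨t, ht⟩
  -- generators of the maximal ideal
  obtain ⟨τ, hτ⟩ := (IsNoetherian.noetherian (IsLocalRing.maximalIdeal Γ(S, ⊤)) :
    (IsLocalRing.maximalIdeal Γ(S, ⊤)).FG)
  have hτm : ∀ i : τ, (i : Γ(S, ⊤)) ∈ IsLocalRing.maximalIdeal Γ(S, ⊤) := by
    intro i
    rw [← hτ]
    exact Ideal.subset_span i.2
  have hrange : Ideal.span (Set.range (fun i : τ => (i : Γ(S, ⊤)))) =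
      IsLocalRing.maximalIdeal Γ(S, ⊤) := by
    have h0 : (Set.range fun i : τ => (i : Γ(S, ⊤))) = (τ : Set Γ(S, ⊤)) := Subtype.range_coe
    rw [h0]; exact hτ
  -- the finite subalgebra
  obtain ⟨B, hBfin, hBS⟩ := PurityFin.exists_finite_subalgebra (ι := τ)
    (fun i => (i : Γ(S, ⊤)))
    (fun i => exists_finset_integral U p halg (i : Γ(S, ⊤)) (hle _ (hτm i)))
  have hPE : ∀ s ∈ IsLocalRing.maximalIdeal Γ(S, ⊤),
      Algebra.FormallyEtale Γ(S, ⊤) (Loc B s) := by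
    intro s hs
    refine PurityFin.formallyEtale_of_span B (fun i : τ => (i : Γ(S, ⊤))) (fun i => ?_) s ?_
    · have := formallyEtale_loc U p halg (i : Γ(S, ⊤)) (hle _ (hτm i))
      exact PurityFin.formallyEtale_loc_subalgebra B (i : Γ(S, ⊤)) (hBS i)
    · rw [hrange]; exact hs
  obtain ⟨E, _, _, hfinE, hetE, β, hSJ⟩ := PurityCT.ct Γ(S, ⊤) hdim B hPE
  -- the schemes
  let y : Spec (CommRingCat.of B) ⟶ S :=
    Spec.map (CommRingCat.ofHom (algebraMap Γ(S, ⊤) B)) ≫ S.isoSpec.inv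
  let θ₁ : X ⟶ Spec (CommRingCat.of B) :=
    X.toSpecΓ ≫ Spec.map (CommRingCat.ofHom B.val.toRingHom)
  let θ₂ : Spec (CommRingCat.of E) ⟶ Spec (CommRingCat.of B) :=
    Spec.map (CommRingCat.ofHom β.toRingHom)
  have hp : p ≫ U.ι = θ₁ ≫ y := by
    have h1 : CommRingCat.ofHom (algebraMap Γ(S, ⊤) B) ≫ CommRingCat.ofHom B.val.toRingHom =
        (p ≫ U.ι).appTop := by
      ext a
      rfl
    show _ = (X.toSpecΓ ≫ Spec.map (CommRingCat.ofHom B.val.toRingHom)) ≫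
      Spec.map (CommRingCat.ofHom (algebraMap Γ(S, ⊤) B)) ≫ S.isoSpec.inv
    rw [Category.assoc, ← Spec.map_comp_assoc, h1, ← Scheme.toSpecΓ_naturality_assoc,
      Scheme.toSpecΓ_isoSpec_inv, Category.comp_id]
  -- sections
  have hθ₁ : ∀ b' : Γ(Spec (CommRingCat.of B), ⊤),
      θ₁.appTop b' = ((Scheme.ΓSpecIso (CommRingCat.of B)).hom b' : B).1 := by
    intro b'
    have h1 : θ₁.appTop = (Scheme.ΓSpecIso (CommRingCat.of B)).hom ≫
        CommRingCat.ofHom B.val.toRingHom := by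
      show (X.toSpecΓ ≫ Spec.map (CommRingCat.ofHom B.val.toRingHom)).appTop = _
      rw [Scheme.Hom.comp_appTop, Scheme.toSpecΓ_appTop, Scheme.ΓSpecIso_naturality]
    rw [h1]
    rfl
  have hθ₂ : ∀ b' : Γ(Spec (CommRingCat.of B), ⊤),
      (Scheme.ΓSpecIso (CommRingCat.of E)).hom (θ₂.appTop b') =
        β ((Scheme.ΓSpecIso (CommRingCat.of B)).hom b') := by
    intro b'
    have h1 := Scheme.ΓSpecIso_naturality (CommRingCat.ofHom β.toRingHom)
    exact congrArg (fun φ => φ.hom b') h1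
  have hy : ∀ s : Γ(S, ⊤), (Scheme.ΓSpecIso (CommRingCat.of B)).hom (y.appTop s) =
      algebraMap Γ(S, ⊤) B s := by
    intro s
    have h1 : y.appTop ≫ (Scheme.ΓSpecIso (CommRingCat.of B)).hom =
        CommRingCat.ofHom (algebraMap Γ(S, ⊤) B) := by
      show (Spec.map (CommRingCat.ofHom (algebraMap Γ(S, ⊤) B)) ≫ S.isoSpec.inv).appTop ≫ _ = _
      have h2 : S.isoSpec.inv.appTop ≫ S.toSpecΓ.appTop = 𝟙 _ := by
        rw [← Scheme.Hom.comp_appTop, Scheme.toSpecΓ_isoSpec_inv]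
        rfl
      rw [Scheme.toSpecΓ_appTop] at h2
      rw [Scheme.Hom.comp_appTop, Category.assoc, Scheme.ΓSpecIso_naturality,
        ← Category.assoc]
      show (S.isoSpec.inv.appTop ≫ (Scheme.ΓSpecIso Γ(S, ⊤)).hom) ≫ _ = _
      rw [h2, Category.id_comp]
    exact congrArg (fun φ => φ.hom s) h1
  have hθy : ∀ s : Γ(S, ⊤), θ₁.appTop (y.appTop s) = (p ≫ U.ι).appTop s := by
    intro s
    rw [hp, Scheme.Hom.comp_appTop]
    rfl
  -- the cover
  have hcov : y ⁻¹ᵁ U = ⨆ i : τ, (Spec (CommRingCat.of B)).basicOpen (y.appTop (i : Γ(S, ⊤))) := by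
    have hU' : U = ⨆ i : τ, S.basicOpen (i : Γ(S, ⊤)) := by
      apply le_antisymm
      · rw [hU]
        refine iSup_le (fun t => ?_)
        exact basicOpen_le_iSup (fun i : τ => (i : Γ(S, ⊤))) t (by rw [hrange]; exact t.2)
      · exact iSup_le (fun i => hle _ (hτm i))
    conv_lhs => rw [hU']
    rw [Scheme.Hom.preimage_iSup]
    congr 1
    ext i : 1
    exact Scheme.preimage_basicOpen_top y _
  have h₁ : IsIso (θ₁ ∣_ y ⁻¹ᵁ U) := by
    refine PurityLIC.isIso_morphismRestrict_of_cover θ₁ _ _ hcov (fun i => ?_)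
    refine PurityLIC.isIso_morphismRestrict_basicOpen θ₁ _ ?_ ?_ ?_
    · rw [hθy]
      exact isAffineOpen_basicOpen U p _ (hle _ (hτm i))
    · intro r
      obtain ⟨N, hN⟩ := hBS i r
      refine ⟨N, (Scheme.ΓSpecIso (CommRingCat.of B)).inv ⟨_, hN⟩, ?_⟩
      rw [hθ₁, hθy]
      have h1 : (Scheme.ΓSpecIso (CommRingCat.of B)).hom
          ((Scheme.ΓSpecIso (CommRingCat.of B)).inv ⟨_, hN⟩) = ⟨_, hN⟩ :=
        Iso.inv_hom_id_apply (C := CommRingCat) _ _
      rw [h1]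
      show (i : Γ(S, ⊤)) ^ N • r = _
      rw [Algebra.smul_def, map_pow, halg]
    · intro b hb
      refine ⟨0, ?_⟩
      rw [pow_zero, one_mul]
      rw [hθ₁] at hb
      have h1 : (Scheme.ΓSpecIso (CommRingCat.of B)).hom b = 0 := Subtype.ext hb
      have h2 := congrArg (Scheme.ΓSpecIso (CommRingCat.of B)).inv h1
      rw [Iso.hom_inv_id_apply (C := CommRingCat), map_zero] at h2
      exact h2
  have h₂ : IsIso (θ₂ ∣_ y ⁻¹ᵁ U) := by
    refine PurityLIC.isIso_morphismRestrict_of_cover θ₂ _ _ hcov (fun i => ?_)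
    obtain ⟨hS, hJ⟩ := hSJ (i : Γ(S, ⊤)) (hτm i)
    have hinjE : Function.Injective (Scheme.ΓSpecIso (CommRingCat.of E)).hom :=
      (ConcreteCategory.bijective_of_isIso (Scheme.ΓSpecIso (CommRingCat.of E)).hom).1
    have hinjB : Function.Injective (Scheme.ΓSpecIso (CommRingCat.of B)).hom :=
      (ConcreteCategory.bijective_of_isIso (Scheme.ΓSpecIso (CommRingCat.of B)).hom).1
    refine PurityLIC.isIso_morphismRestrict_basicOpen θ₂ _ ?_ ?_ ?_
    · exact (isAffineOpen_top _).basicOpen _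
    · intro r
      obtain ⟨k, b₀, hb₀⟩ := hS ((Scheme.ΓSpecIso (CommRingCat.of E)).hom r)
      refine ⟨k, (Scheme.ΓSpecIso (CommRingCat.of B)).inv b₀, hinjE ?_⟩
      rw [map_mul, map_pow, hθ₂, hθ₂, hy, Iso.inv_hom_id_apply (C := CommRingCat), hb₀,
        Algebra.smul_def, map_pow, AlgHom.commutes]
    · intro b hb
      have h1 : β ((Scheme.ΓSpecIso (CommRingCat.of B)).hom b) = 0 := by
        rw [← hθ₂, hb, map_zero]
      obtain ⟨k, hk⟩ := hJ _ h1
      refine ⟨k, hinjB ?_⟩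
      rw [map_mul, map_pow, hy, map_zero, ← map_pow, ← Algebra.smul_def]
      exact hk
  obtain ⟨e, he⟩ := PurityLIC.exists_iso_of_zigzag U y θ₁ θ₂ h₁ h₂ p hp
  -- the structure morphism of the extension
  have hq : θ₂ ≫ y = Spec.map (CommRingCat.ofHom (algebraMap Γ(S, ⊤) E)) ≫ S.isoSpec.inv := by
    show Spec.map (CommRingCat.ofHom β.toRingHom) ≫
      Spec.map (CommRingCat.ofHom (algebraMap Γ(S, ⊤) B)) ≫ S.isoSpec.inv = _
    rw [← Spec.map_comp_assoc]
    congr 2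
    ext a
    exact β.commutes a
  refine ⟨Spec (CommRingCat.of E), θ₂ ≫ y, ?_, ?_, e, he⟩
  · rw [hq]
    have : IsFinite (Spec.map (CommRingCat.ofHom (algebraMap Γ(S, ⊤) E))) := by
      rw [IsFinite.SpecMap_iff]
      exact RingHom.finite_algebraMap.mpr hfinE
    infer_instance
  · rw [hq]
    have : Etale (Spec.map (CommRingCat.ofHom (algebraMap Γ(S, ⊤) E))) := by
      rw [HasRingHomProperty.Spec_iff (P := @Etale)]
      exact RingHom.etale_algebraMap.mpr hetE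
    infer_instance

end Main

end Groth.Agent.Lib.helper9.PurityGeom
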