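import Mathlib
import Groth.Prelude.Def_FEt

/-!
# Gluing two schemes over an open cover by two opens (helper9)

Pushouts of open immersions exist in schemes.  We use this to glue a scheme `V₁` over `Y₁` and a
scheme `V₂` over `Y₂` (where `Y₁`, `Y₂` form an open cover of `Y`) along an identification over the
intersection, keeping track of properties which are local on the target.
-/

open AlgebraicGeometry CategoryTheory CategoryTheory.Limits TopologicalSpace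

universe u

namespace Groth.Agent.Lib.helper9.FEtGlue

/-- The span of two open immersions consists of open immersions. -/
instance spanOpenImm {V₀ V₁ V₂ : Scheme.{u}} (a : V₀ ⟶ V₁) (b : V₀ ⟶ V₂) [IsOpenImmersion a]
    [IsOpenImmersion b] : ∀ {i j : WalkingSpan} (f : i ⟶ j), IsOpenImmersion ((span a b).map f) := by
  rintro i j (_ | k)
  · simp only [WidePushoutShape.hom_id, CategoryTheory.Functor.map_id]; infer_instance
  · cases k with
    | left => exact inferInstanceAs (IsOpenImmersion a)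
    | right => exact inferInstanceAs (IsOpenImmersion b)

theorem isOpenImmersion_inl {V₀ V₁ V₂ : Scheme.{u}} (a : V₀ ⟶ V₁) (b : V₀ ⟶ V₂) [IsOpenImmersion a]
    [IsOpenImmersion b] : IsOpenImmersion (pushout.inl a b) :=
  inferInstanceAs (IsOpenImmersion (colimit.ι (span a b) WalkingSpan.left))

theorem isOpenImmersion_inr {V₀ V₁ V₂ : Scheme.{u}} (a : V₀ ⟶ V₁) (b : V₀ ⟶ V₂) [IsOpenImmersion a]
    [IsOpenImmersion b] : IsOpenImmersion (pushout.inr a b) :=
  inferInstanceAs (IsOpenImmersion (colimit.ι (span a b) WalkingSpan.right))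

theorem inl_inr_jointly_surjective {V₀ V₁ V₂ : Scheme.{u}} (a : V₀ ⟶ V₁) (b : V₀ ⟶ V₂)
    [IsOpenImmersion a] [IsOpenImmersion b] (v : ↑(pushout a b)) :
    v ∈ Set.range (pushout.inl a b) ∨ v ∈ Set.range (pushout.inr a b) := by
  obtain ⟨i, x, hx⟩ := Scheme.IsLocallyDirected.ι_jointly_surjective (span a b) v
  rcases i with _ | i
  · left
    change ↥V₀ at x
    have h1 : a ≫ pushout.inl a b = colimit.ι (span a b) WalkingSpan.zero :=
      colimit.w (span a b) WalkingSpan.Hom.fst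
    refine ⟨a x, ?_⟩
    have h2 : (a ≫ pushout.inl a b) x = v := by rw [h1]; exact hx
    exact h2
  · cases i with
    | left => exact Or.inl ⟨x, hx⟩
    | right => exact Or.inr ⟨x, hx⟩

/-- The key pullback square for a glued scheme. -/
theorem isPullback_of_glue {V₀ V₁ V₂ V Y Y₁ : Scheme.{u}} {a : V₀ ⟶ V₁} {b : V₀ ⟶ V₂}
    {i₁ : V₁ ⟶ V} {i₂ : V₂ ⟶ V} (hpo : a ≫ i₁ = b ≫ i₂) [IsOpenImmersion i₁]
    (hsurj : ∀ v : V, v ∈ Set.range i₁ ∨ v ∈ Set.range i₂)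
    (j₁ : Y₁ ⟶ Y) [IsOpenImmersion j₁] (q₁ : V₁ ⟶ Y₁) (q : V ⟶ Y) (hq : i₁ ≫ q = q₁ ≫ j₁)
    (H : ∀ v₂ : V₂, q (i₂ v₂) ∈ Set.range j₁ → v₂ ∈ Set.range b) :
    IsPullback i₁ q₁ q j₁ := by
  have key : ∀ v : V, q v ∈ Set.range j₁ → v ∈ Set.range i₁ := by
    intro v hv
    rcases hsurj v with h | ⟨v₂, rfl⟩
    · exact h
    · obtain ⟨w, rfl⟩ := H v₂ hv
      refine ⟨a w, ?_⟩
      rw [← Scheme.Hom.comp_apply, ← Scheme.Hom.comp_apply, hpo]
  have hrange : ∀ s : PullbackCone q j₁, Set.range s.fst ⊆ Set.range i₁ := by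
    intro s v hv
    obtain ⟨x, hx⟩ := hv
    apply key
    refine ⟨s.snd x, ?_⟩
    rw [← hx, ← Scheme.Hom.comp_apply, ← Scheme.Hom.comp_apply, s.condition]
  refine ⟨⟨hq⟩, ⟨PullbackCone.IsLimit.mk _ (fun s => IsOpenImmersion.lift i₁ s.fst (hrange s))
    ?_ ?_ ?_⟩⟩
  · intro s
    exact IsOpenImmersion.lift_fac _ _ _
  · intro s
    rw [← cancel_mono j₁, Category.assoc, ← hq, IsOpenImmersion.lift_fac_assoc, s.condition]
  · intro s m h1 _
    rw [← cancel_mono i₁, h1, IsOpenImmersion.lift_fac]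

/-- **Gluing over a cover by two opens.** -/
theorem exists_glue {Y Y₁ Y₂ Y₁₂ V₁ V₂ V₁₂ : Scheme.{u}} (j₁ : Y₁ ⟶ Y) (j₂ : Y₂ ⟶ Y)
    [IsOpenImmersion j₁] [IsOpenImmersion j₂]
    (hcov : ∀ y : Y, y ∈ Set.range j₁ ∨ y ∈ Set.range j₂)
    (k₁ : Y₁₂ ⟶ Y₁) (k₂ : Y₁₂ ⟶ Y₂) (hpb : IsPullback k₁ k₂ j₁ j₂)
    (q₁ : V₁ ⟶ Y₁) (q₂ : V₂ ⟶ Y₂)
    (a : V₁₂ ⟶ V₁) (b : V₁₂ ⟶ V₂) (r : V₁₂ ⟶ Y₁₂)
    (ha : IsPullback a r q₁ k₁) (hb : IsPullback b r q₂ k₂) :
    ∃ (V : Scheme.{u}) (q : V ⟶ Y) (i₁ : V₁ ⟶ V), IsPullback i₁ q₁ q j₁ ∧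
      ∀ (P : MorphismProperty Scheme.{u}) [IsZariskiLocalAtTarget P], P q₁ → P q₂ → P q := by
  have hk₁ : IsOpenImmersion k₁ := MorphismProperty.of_isPullback hpb.flip inferInstance
  have hk₂ : IsOpenImmersion k₂ := MorphismProperty.of_isPullback hpb inferInstance
  have hoa : IsOpenImmersion a := MorphismProperty.of_isPullback ha.flip hk₁
  have hob : IsOpenImmersion b := MorphismProperty.of_isPullback hb.flip hk₂
  have hi₁ := isOpenImmersion_inl a b
  have hi₂ := isOpenImmersion_inr a b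
  have hw : a ≫ q₁ ≫ j₁ = b ≫ q₂ ≫ j₂ := by
    rw [← Category.assoc, ha.w, ← Category.assoc, hb.w, Category.assoc, Category.assoc, hpb.w]
  let q : pushout a b ⟶ Y := pushout.desc (q₁ ≫ j₁) (q₂ ≫ j₂) hw
  have hq₁ : pushout.inl a b ≫ q = q₁ ≫ j₁ := pushout.inl_desc _ _ _
  have hq₂ : pushout.inr a b ≫ q = q₂ ≫ j₂ := pushout.inr_desc _ _ _
  have hsurj := inl_inr_jointly_surjective a b
  have hP₁ : IsPullback (pushout.inl a b) q₁ q j₁ := by
    refine isPullback_of_glue pushout.condition hsurj j₁ q₁ q hq₁ ?_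
    rintro v₂ ⟨y₁, hy₁⟩
    have h1 : q (pushout.inr a b v₂) = j₂ (q₂ v₂) := by
      rw [← Scheme.Hom.comp_apply, hq₂, Scheme.Hom.comp_apply]
    obtain ⟨z, -, hz₂⟩ := Scheme.exists_preimage_of_isPullback hpb y₁ (q₂ v₂)
      (by rw [hy₁, h1])
    obtain ⟨w, hw₁, -⟩ := Scheme.exists_preimage_of_isPullback hb v₂ z hz₂.symm
    exact ⟨w, hw₁⟩
  have hP₂ : IsPullback (pushout.inr a b) q₂ q j₂ := by
    refine isPullback_of_glue pushout.condition.symm (fun v => (hsurj v).symm) j₂ q₂ q hq₂ ?_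
    rintro v₁ ⟨y₂, hy₂⟩
    have h1 : q (pushout.inl a b v₁) = j₁ (q₁ v₁) := by
      rw [← Scheme.Hom.comp_apply, hq₁, Scheme.Hom.comp_apply]
    obtain ⟨z, hz₁, -⟩ := Scheme.exists_preimage_of_isPullback hpb (q₁ v₁) y₂
      (by rw [hy₂, h1])
    obtain ⟨w, hw₁, -⟩ := Scheme.exists_preimage_of_isPullback ha v₁ z hz₁.symm
    exact ⟨w, hw₁⟩
  refine ⟨pushout a b, q, pushout.inl a b, hP₁, ?_⟩
  intro P _ h₁ h₂
  let 𝒰 : Y.OpenCover := Scheme.Cover.mkOfCovers Bool (fun i => cond i Y₁ Y₂)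
    (fun i => match i with | true => j₁ | false => j₂)
    (by
      intro y
      rcases hcov y with ⟨y₁, h⟩ | ⟨y₂, h⟩
      · exact ⟨true, y₁, h⟩
      · exact ⟨false, y₂, h⟩)
    (by
      intro i
      cases i
      · exact inferInstanceAs (IsOpenImmersion j₂)
      · exact inferInstanceAs (IsOpenImmersion j₁))
  refine IsZariskiLocalAtTarget.of_openCover (P := P) 𝒰 ?_
  intro i
  cases i
  · show P (pullback.snd q j₂)
    have h3 : hP₂.isoPullback.hom ≫ pullback.snd q j₂ = q₂ := hP₂.isoPullback_hom_snd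
    rw [← h3] at h₂
    exact (MorphismProperty.cancel_left_of_respectsIso P _ _).mp h₂
  · show P (pullback.snd q j₁)
    have h3 : hP₁.isoPullback.hom ≫ pullback.snd q j₁ = q₁ := hP₁.isoPullback_hom_snd
    rw [← h3] at h₁
    exact (MorphismProperty.cancel_left_of_respectsIso P _ _).mp h₁

end Groth.Agent.Lib.helper9.FEtGlue
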