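import Mathlib

/-!
# Spreading out a finite étale algebra from a localization at a prime (helper9)

Let `R` be a Noetherian ring, `𝔭` a prime, `A = R_𝔭`.  Let `Λ` be an `R`-algebra (typically the
global sections of a finite étale cover `V` of a quasi-compact open `U = ⋃ D(σ i)` of `Spec R`) and
`𝕃 = Λ_𝔭`.  Given a finite étale `A`-algebra `C` and an `A`-algebra map `γ : C → 𝕃` which is an
isomorphism after inverting each `σ i`, we construct a finite `R`-algebra `E` (a subalgebra of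
`C × Λ`) and `f ∉ 𝔭` such that `E_f` is étale over `R` and the projection `E → Λ` is an isomorphism
after inverting each `f * σ i`.
-/

namespace Groth.Agent.Lib.helper9.SpreadAlg

universe u

open Polynomial

set_option linter.unusedSectionVars false

/-- Uniformization of a monotone existential statement over a finite set. -/
theorem exists_uniform {R : Type*} [CommMonoid R] (M : Submonoid R) {α : Type*} (G : Finset α)
    (P : α → R → ℕ → Prop)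
    (hmono : ∀ a s k s' k', s' ∈ M → P a s k → P a (s' * s) (k' + k))
    (h : ∀ a ∈ G, ∃ s ∈ M, ∃ k, P a s k) : ∃ s ∈ M, ∃ k, ∀ a ∈ G, P a s k := by
  classical
  induction G using Finset.induction_on with
  | empty => exact ⟨1, M.one_mem, 0, by simp⟩
  | insert a G ha ih =>
    obtain ⟨s₁, hs₁, k₁, h₁⟩ := ih (fun b hb => h b (Finset.mem_insert_of_mem hb))
    obtain ⟨s₂, hs₂, k₂, h₂⟩ := h a (Finset.mem_insert_self a G)
    refine ⟨s₂ * s₁, M.mul_mem hs₂ hs₁, k₂ + k₁, ?_⟩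
    intro b hb
    rcases Finset.mem_insert.mp hb with rfl | hb
    · have := hmono b s₂ k₂ s₁ k₁ hs₁ h₂
      rwa [mul_comm, add_comm] at this
    · exact hmono b s₁ k₁ s₂ k₂ hs₂ (h₁ b hb)

section Main

variable {R : Type u} [CommRing R] (𝔭 : Ideal R) [𝔭.IsPrime]
  {A : Type u} [CommRing A] [Algebra R A] [IsLocalization.AtPrime A 𝔭]
  {Λ : Type u} [CommRing Λ] [Algebra R Λ]
  {𝕃 : Type u} [CommRing 𝕃] [Algebra R 𝕃] [Algebra A 𝕃] [IsScalarTower R A 𝕃]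
  (ℓ : Λ →ₐ[R] 𝕃)
  {C : Type u} [CommRing C] [Algebra A C] [Algebra R C] [IsScalarTower R A C]
  (γ : C →ₐ[A] 𝕃)

/-- The subalgebra of compatible pairs. -/
def pairs : Subalgebra R (C × Λ) :=
  AlgHom.equalizer ((γ.restrictScalars R).comp (AlgHom.fst R C Λ)) (ℓ.comp (AlgHom.snd R C Λ))

theorem mem_pairs (x : C × Λ) : x ∈ pairs ℓ γ ↔ γ x.1 = ℓ x.2 := Iff.rfl

omit [IsLocalization.AtPrime A 𝔭] in
theorem γ_smul (s : R) (c : C) : γ (s • c) = s • γ c :=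
  map_smul (γ.restrictScalars R) s c

include 𝔭 in
theorem nontrivial_R : Nontrivial R :=
  ⟨⟨0, 1, fun h => (‹𝔭.IsPrime›).ne_top ((Ideal.eq_top_iff_one _).mpr (h ▸ 𝔭.zero_mem))⟩⟩

theorem exists_pair [Algebra.IsIntegral A C]
    (hLs : ∀ l : 𝕃, ∃ s : R, s ∉ 𝔭 ∧ ∃ r : Λ, s • l = ℓ r)
    (hLi : ∀ r : Λ, ℓ r = 0 → ∃ s : R, s ∉ 𝔭 ∧ s • r = 0) (c : C) :
    ∃ s : R, s ∉ 𝔭 ∧ ∃ x : C × Λ, x ∈ pairs ℓ γ ∧ IsIntegral R x ∧ x.1 = s • c := by
  have := nontrivial_R 𝔭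
  have hc : IsIntegral A c := Algebra.IsIntegral.isIntegral c
  obtain ⟨⟨s₁, hs₁⟩, hint⟩ :=
    IsIntegral.exists_multiple_integral_of_isLocalization 𝔭.primeCompl c hc
  rw [Submonoid.smul_def] at hint
  change IsIntegral R (s₁ • c) at hint
  obtain ⟨s₂, hs₂, r, hr⟩ := hLs (γ (s₁ • c))
  have hc' : IsIntegral R (s₂ • s₁ • c) := hint.smul s₂
  obtain ⟨P, hPm, hP⟩ := hc'
  have hP'm : (P * X).Monic := hPm.mul monic_X
  have hP' : aeval (s₂ • s₁ • c) (P * X) = 0 := by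
    rw [aeval_mul, aeval_def, hP, zero_mul]
  have hdeg : (P * X).natDegree = P.natDegree + 1 := by
    rw [hPm.natDegree_mul monic_X, natDegree_X]
  have h1 : ℓ (aeval r (P * X)) = 0 := by
    rw [← aeval_algHom_apply, ← hr, ← γ_smul, ← AlgHom.restrictScalars_apply R γ,
      aeval_algHom_apply, hP', map_zero]
  obtain ⟨s₃, hs₃, h3⟩ := hLi _ h1
  refine ⟨s₃ * s₂ * s₁, ?_, (s₃ • s₂ • s₁ • c, s₃ • r), ?_, ?_, ?_⟩
  · exact 𝔭.primeCompl.mul_mem (𝔭.primeCompl.mul_mem hs₃ hs₂) hs₁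
  · rw [mem_pairs]
    show γ (s₃ • s₂ • s₁ • c) = ℓ (s₃ • r)
    rw [γ_smul, γ_smul, hr, map_smul]
  · apply IsIntegral.pair
    · exact (IsIntegral.smul s₃ ⟨P, hPm, hP⟩ : IsIntegral R (s₃ • s₂ • s₁ • c))
    · refine ⟨(P * X).scaleRoots s₃, (monic_scaleRoots_iff s₃).mpr hP'm, ?_⟩
      show eval₂ (algebraMap R Λ) (s₃ • r) ((P * X).scaleRoots s₃) = 0
      rw [Algebra.smul_def, scaleRoots_eval₂_mul, ← aeval_def, hdeg, pow_succ, mul_assoc,
        ← Algebra.smul_def, h3, mul_zero]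
  · show s₃ • s₂ • s₁ • c = (s₃ * s₂ * s₁) • c
    rw [mul_smul, mul_smul]

/-- A finite model of `C` inside the algebra of compatible pairs. -/
theorem exists_model [Module.Finite A C]
    (hLs : ∀ l : 𝕃, ∃ s : R, s ∉ 𝔭 ∧ ∃ r : Λ, s • l = ℓ r)
    (hLi : ∀ r : Λ, ℓ r = 0 → ∃ s : R, s ∉ 𝔭 ∧ s • r = 0) :
    ∃ E : Subalgebra R (C × Λ), E ≤ pairs ℓ γ ∧ Module.Finite R E ∧
      ∀ c : C, ∃ s : R, s ∉ 𝔭 ∧ ∃ e ∈ E, (e : C × Λ).1 = s • c := by
  classical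
  obtain ⟨G, hG⟩ := (Module.Finite.fg_top : (⊤ : Submodule A C).FG)
  choose s hs x hxp hxint hx1 using exists_pair 𝔭 ℓ γ hLs hLi
  refine ⟨Algebra.adjoin R (x '' (G : Set C)), ?_, ?_, ?_⟩
  · refine Algebra.adjoin_le ?_
    rintro _ ⟨g, -, rfl⟩
    exact hxp g
  · refine Algebra.finite_adjoin_of_finite_of_isIntegral (G.finite_toSet.image x) ?_
    rintro _ ⟨g, -, rfl⟩
    exact hxint g
  · intro c
    have hc : c ∈ Submodule.span A (G : Set C) := hG ▸ Submodule.mem_top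
    induction hc using Submodule.span_induction with
    | mem g hg =>
      exact ⟨s g, hs g, x g, Algebra.subset_adjoin ⟨g, hg, rfl⟩, hx1 g⟩
    | zero => exact ⟨1, 𝔭.primeCompl.one_mem, 0, zero_mem _, by simp⟩
    | add c₁ c₂ _ _ h₁ h₂ =>
      obtain ⟨s₁, hs₁, e₁, he₁, h₁⟩ := h₁
      obtain ⟨s₂, hs₂, e₂, he₂, h₂⟩ := h₂
      refine ⟨s₁ * s₂, 𝔭.primeCompl.mul_mem hs₁ hs₂, s₂ • e₁ + s₁ • e₂,
        add_mem (Subalgebra.smul_mem _ he₁ _) (Subalgebra.smul_mem _ he₂ _), ?_⟩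
      show s₂ • e₁.1 + s₁ • e₂.1 = (s₁ * s₂) • (c₁ + c₂)
      rw [h₁, h₂, smul_add, mul_smul, mul_smul, smul_comm s₂ s₁ c₁]
    | smul a c _ h =>
      obtain ⟨s₁, hs₁, e₁, he₁, h₁⟩ := h
      obtain ⟨⟨r, u⟩, hru⟩ := IsLocalization.surj 𝔭.primeCompl a
      refine ⟨s₁ * u, 𝔭.primeCompl.mul_mem hs₁ u.2, r • e₁, Subalgebra.smul_mem _ he₁ _, ?_⟩
      show r • e₁.1 = (s₁ * (u : R)) • a • c
      have h2 : (u : R) • a • c = r • c := by
        rw [← algebraMap_smul A (u : R) (a • c), ← algebraMap_smul A r c, smul_smul,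
          mul_comm, hru]
      rw [h₁, mul_smul, h2, smul_comm]

omit [IsLocalization.AtPrime A 𝔭] in
/-- Elements of a model which vanish in `C` are killed by an element outside `𝔭`. -/
theorem exists_smul_eq_zero (hLi : ∀ r : Λ, ℓ r = 0 → ∃ s : R, s ∉ 𝔭 ∧ s • r = 0)
    {E : Subalgebra R (C × Λ)} (hE : E ≤ pairs ℓ γ) (e : E) (he : (e : C × Λ).1 = 0) :
    ∃ s : R, s ∉ 𝔭 ∧ s • e = 0 := by
  have h1 : γ (e : C × Λ).1 = ℓ (e : C × Λ).2 := (mem_pairs ℓ γ _).mp (hE e.2)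
  rw [he, map_zero] at h1
  obtain ⟨s, hs, h2⟩ := hLi _ h1.symm
  refine ⟨s, hs, Subtype.ext (Prod.ext ?_ ?_)⟩
  · show s • (e : C × Λ).1 = 0
    rw [he, smul_zero]
  · exact h2

section Etale

variable [IsNoetherianRing R] [Module.Finite A C] [Algebra.Etale A C]

/-- The model `E` is étale over `R` after inverting some `f ∉ 𝔭`. -/
theorem exists_etale (hLi : ∀ r : Λ, ℓ r = 0 → ∃ s : R, s ∉ 𝔭 ∧ s • r = 0)
    (E : Subalgebra R (C × Λ)) (hE : E ≤ pairs ℓ γ) [Module.Finite R E]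
    (hF1 : ∀ c : C, ∃ s : R, s ∉ 𝔭 ∧ ∃ e ∈ E, (e : C × Λ).1 = s • c) :
    ∃ f : R, f ∉ 𝔭 ∧ Algebra.Etale R (Localization.Away (algebraMap R E f)) := by
  let φ : E →ₐ[R] C := (AlgHom.fst R C Λ).comp E.val
  let _ : Algebra E C := φ.toRingHom.toAlgebra
  have hφ : ∀ e : E, algebraMap E C e = (e : C × Λ).1 := fun _ => rfl
  have : IsScalarTower R E C := IsScalarTower.of_algebraMap_eq (fun r => (φ.commutes r).symm)
  let M : Submonoid E := Algebra.algebraMapSubmonoid E 𝔭.primeCompl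
  have hloc : IsLocalization M C := by
    refine ⟨?_, ?_, ?_⟩
    · rintro ⟨_, s, hs, rfl⟩
      show IsUnit (algebraMap E C (algebraMap R E s))
      rw [← IsScalarTower.algebraMap_apply, IsScalarTower.algebraMap_apply R A C]
      exact (IsLocalization.map_units A (⟨s, hs⟩ : 𝔭.primeCompl)).map _
    · intro c
      obtain ⟨s, hs, e, he, h1⟩ := hF1 c
      refine ⟨(⟨e, he⟩, ⟨algebraMap R E s, s, hs, rfl⟩), ?_⟩
      show c * algebraMap E C (algebraMap R E s) = algebraMap E C ⟨e, he⟩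
      rw [← IsScalarTower.algebraMap_apply, hφ, mul_comm, ← Algebra.smul_def]
      exact h1.symm
    · intro e₁ e₂ h
      have h1 : ((e₁ - e₂ : E) : C × Λ).1 = 0 := by
        rw [hφ, hφ] at h
        show (e₁ : C × Λ).1 - (e₂ : C × Λ).1 = 0
        rw [h, sub_self]
      obtain ⟨s, hs, h2⟩ := exists_smul_eq_zero 𝔭 ℓ γ hLi hE (e₁ - e₂) h1
      refine ⟨⟨algebraMap R E s, s, hs, rfl⟩, ?_⟩
      show algebraMap R E s * e₁ = algebraMap R E s * e₂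
      rw [← Algebra.smul_def, ← Algebra.smul_def, ← sub_eq_zero, ← smul_sub]
      exact h2
  have hRA : Algebra.FormallyEtale R A := Algebra.FormallyEtale.of_isLocalization 𝔭.primeCompl
  have hRC : Algebra.FormallyEtale R C := Algebra.FormallyEtale.comp R A C
  have hfp : Algebra.FinitePresentation R E := Algebra.FinitePresentation.of_finiteType.mp inferInstance
  -- primes over `𝔭` are in the étale locus
  have key : ∀ 𝔮 : PrimeSpectrum E, 𝔮.asIdeal.comap (algebraMap R E) = 𝔭 →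
      𝔮 ∈ Algebra.etaleLocus R E := by
    intro 𝔮 h𝔮
    have hdisj : Disjoint (M : Set E) (𝔮.asIdeal : Set E) := by
      rw [Set.disjoint_left]
      rintro _ ⟨s, hs, rfl⟩ hmem
      have : s ∈ 𝔮.asIdeal.comap (algebraMap R E) := hmem
      rw [h𝔮] at this
      exact hs this
    have hprime : (Ideal.map (algebraMap E C) 𝔮.asIdeal).IsPrime :=
      IsLocalization.isPrime_of_isPrime_disjoint M C 𝔮.asIdeal 𝔮.2 hdisj
    have hcomap : (Ideal.map (algebraMap E C) 𝔮.asIdeal).comap (algebraMap E C) = 𝔮.asIdeal :=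
      IsLocalization.comap_map_of_isPrime_disjoint M C 𝔮.2 hdisj
    have h1 := IsLocalization.isLocalization_isLocalization_atPrime_isLocalization M
      (Localization.AtPrime (Ideal.map (algebraMap E C) 𝔮.asIdeal))
      (Ideal.map (algebraMap E C) 𝔮.asIdeal)
    have h2 : IsLocalization.AtPrime (Localization.AtPrime (Ideal.map (algebraMap E C) 𝔮.asIdeal))
        𝔮.asIdeal := by
      convert h1 using 2
      exact hcomap.symm
    have h3 : Algebra.FormallyEtale R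
        (Localization.AtPrime (Ideal.map (algebraMap E C) 𝔮.asIdeal)) := by
      have : Algebra.FormallyEtale C
          (Localization.AtPrime (Ideal.map (algebraMap E C) 𝔮.asIdeal)) :=
        Algebra.FormallyEtale.of_isLocalization
          (Ideal.map (algebraMap E C) 𝔮.asIdeal).primeCompl
      exact Algebra.FormallyEtale.comp R C _
    let ε := IsLocalization.algEquiv 𝔮.asIdeal.primeCompl
      (Localization.AtPrime (Ideal.map (algebraMap E C) 𝔮.asIdeal))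
      (Localization.AtPrime 𝔮.asIdeal)
    exact Algebra.FormallyEtale.of_equiv (ε.restrictScalars R)
  have hopen : IsOpen (Algebra.etaleLocus R E) := Algebra.isOpen_etaleLocus
  have hcl : IsClosed (PrimeSpectrum.comap (algebraMap R E) '' (Algebra.etaleLocus R E)ᶜ) :=
    PrimeSpectrum.isClosedMap_comap_of_isIntegral _
      (algebraMap_isIntegral_iff.mpr inferInstance) _ hopen.isClosed_compl
  have hp : (⟨𝔭, inferInstance⟩ : PrimeSpectrum R) ∈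
      (PrimeSpectrum.comap (algebraMap R E) '' (Algebra.etaleLocus R E)ᶜ)ᶜ := by
    rintro ⟨𝔮, h𝔮Z, h𝔮⟩
    exact h𝔮Z (key 𝔮 (congrArg PrimeSpectrum.asIdeal h𝔮))
  obtain ⟨_, ⟨_, ⟨f, rfl⟩, rfl⟩, hpf, hf⟩ :=
    PrimeSpectrum.isBasis_basic_opens.exists_subset_of_mem_open hp hcl.isOpen_compl
  refine ⟨f, hpf, Algebra.basicOpen_subset_etaleLocus_iff_etale.mp ?_⟩
  intro 𝔮' h𝔮'
  by_contra hcon
  have h1 : PrimeSpectrum.comap (algebraMap R E) 𝔮' ∈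
      PrimeSpectrum.comap (algebraMap R E) '' (Algebra.etaleLocus R E)ᶜ := ⟨𝔮', hcon, rfl⟩
  exact hf (show PrimeSpectrum.comap (algebraMap R E) 𝔮' ∈ PrimeSpectrum.basicOpen f from h𝔮') h1

end Etale

/-- "`E → Λ` is an isomorphism after inverting `f * t`", in elementary terms. -/
def SJ (E : Subalgebra R (C × Λ)) (f t : R) : Prop :=
  (∀ r : Λ, ∃ (k : ℕ) (e : E), (e : C × Λ).2 = (f * t) ^ k • r) ∧
    ∀ e : E, (e : C × Λ).2 = 0 → ∃ k : ℕ, (f * t) ^ k • e = 0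

omit [𝔭.IsPrime] [IsLocalization.AtPrime A 𝔭] in
theorem S_mono {E : Subalgebra R (C × Λ)} {f t : R}
    (h : ∀ r : Λ, ∃ (k : ℕ) (e : E), (e : C × Λ).2 = (f * t) ^ k • r) (g : R) :
    ∀ r : Λ, ∃ (k : ℕ) (e : E), (e : C × Λ).2 = (g * f * t) ^ k • r := by
  intro r
  obtain ⟨k, e, he⟩ := h r
  refine ⟨k, g ^ k • e, ?_⟩
  show g ^ k • (e : C × Λ).2 = _
  rw [he, smul_smul]
  congr 1
  ring

omit [𝔭.IsPrime] [IsLocalization.AtPrime A 𝔭] in
theorem J_mono {E : Subalgebra R (C × Λ)} {f t : R}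
    (h : ∀ e : E, (e : C × Λ).2 = 0 → ∃ k : ℕ, (f * t) ^ k • e = 0) (g : R) :
    ∀ e : E, (e : C × Λ).2 = 0 → ∃ k : ℕ, (g * f * t) ^ k • e = 0 := by
  intro e he
  obtain ⟨k, hk⟩ := h e he
  refine ⟨k, ?_⟩
  rw [mul_assoc, mul_pow, mul_smul, hk, smul_zero]

omit [𝔭.IsPrime] [IsLocalization.AtPrime A 𝔭] in
theorem SJ.mono {E : Subalgebra R (C × Λ)} {f t : R} (h : SJ E f t) (g : R) : SJ E (g * f) t :=
  ⟨S_mono h.1 g, J_mono h.2 g⟩

/-- Surjectivity up to `f * t`-powers. -/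
theorem exists_S [Module.Finite A C]
    (hLi : ∀ r : Λ, ℓ r = 0 → ∃ s : R, s ∉ 𝔭 ∧ s • r = 0)
    (E : Subalgebra R (C × Λ)) (hE : E ≤ pairs ℓ γ)
    (hF1 : ∀ c : C, ∃ s : R, s ∉ 𝔭 ∧ ∃ e ∈ E, (e : C × Λ).1 = s • c)
    (t : R) (G : Finset Λ) (hG : ∀ r : Λ, ∃ N : ℕ, t ^ N • r ∈ Submodule.span R (G : Set Λ))
    (hS : ∀ l : 𝕃, ∃ (k : ℕ) (c : C), γ c = t ^ k • l) :
    ∃ f : R, f ∉ 𝔭 ∧ ∀ r : Λ, ∃ (k : ℕ) (e : E), (e : C × Λ).2 = (f * t) ^ k • r := by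
  have h1 : ∀ g ∈ G, ∃ s ∈ 𝔭.primeCompl, ∃ k : ℕ, ∃ e : E, (e : C × Λ).2 = (s * t ^ k) • g := by
    intro g _
    obtain ⟨k, c, hc⟩ := hS (ℓ g)
    obtain ⟨s, hs, e, he, h1⟩ := hF1 c
    have h2 : γ (e : C × Λ).1 = ℓ (e : C × Λ).2 := (mem_pairs ℓ γ _).mp (hE he)
    have h3 : ℓ ((e : C × Λ).2 - (s * t ^ k) • g) = 0 := by
      rw [map_sub, ← h2, h1, γ_smul, hc, map_smul, mul_smul, sub_self]
    obtain ⟨s', hs', h4⟩ := hLi _ h3
    refine ⟨s' * s, 𝔭.primeCompl.mul_mem hs' hs, k, ⟨s' • e, Subalgebra.smul_mem _ he _⟩, ?_⟩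
    show s' • (e : C × Λ).2 = (s' * s * t ^ k) • g
    rw [smul_sub, sub_eq_zero] at h4
    rw [h4, smul_smul, mul_assoc]
  obtain ⟨s, hs, k, h2⟩ := exists_uniform 𝔭.primeCompl G
    (fun g s k => ∃ e : E, (e : C × Λ).2 = (s * t ^ k) • g) (by
      rintro g s k s' k' - ⟨e, he⟩
      refine ⟨(s' * t ^ k') • e, ?_⟩
      show (s' * t ^ k') • (e : C × Λ).2 = _
      rw [he, smul_smul]
      congr 1
      ring) h1
  have h3 : ∀ m ∈ Submodule.span R (G : Set Λ), ∃ e : E, (e : C × Λ).2 = (s * t ^ k) • m := by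
    intro m hm
    induction hm using Submodule.span_induction with
    | mem g hg => exact h2 g hg
    | zero => exact ⟨0, by simp⟩
    | add m₁ m₂ _ _ h₁ h₂ =>
      obtain ⟨e₁, he₁⟩ := h₁
      obtain ⟨e₂, he₂⟩ := h₂
      refine ⟨e₁ + e₂, ?_⟩
      show (e₁ : C × Λ).2 + (e₂ : C × Λ).2 = _
      rw [he₁, he₂, smul_add]
    | smul a m _ h =>
      obtain ⟨e, he⟩ := h
      refine ⟨a • e, ?_⟩
      show a • (e : C × Λ).2 = _
      rw [he, smul_comm]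
  refine ⟨s, hs, fun r => ?_⟩
  obtain ⟨N, hN⟩ := hG r
  obtain ⟨e, he⟩ := h3 _ hN
  refine ⟨k + N + 1, (s ^ (k + N) * t) • e, ?_⟩
  show (s ^ (k + N) * t) • (e : C × Λ).2 = _
  rw [he, smul_smul, smul_smul]
  congr 1
  ring

/-- Injectivity up to `f * t`-powers. -/
theorem exists_J [IsNoetherianRing R]
    (hLi : ∀ r : Λ, ℓ r = 0 → ∃ s : R, s ∉ 𝔭 ∧ s • r = 0)
    (E : Subalgebra R (C × Λ)) (hE : E ≤ pairs ℓ γ) [Module.Finite R E]
    (t : R) (hJ : ∀ c : C, γ c = 0 → ∃ k : ℕ, t ^ k • c = 0) :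
    ∃ f : R, f ∉ 𝔭 ∧ ∀ e : E, (e : C × Λ).2 = 0 → ∃ k : ℕ, (f * t) ^ k • e = 0 := by
  classical
  let ψ : E →ₗ[R] Λ := ((AlgHom.snd R C Λ).comp E.val).toLinearMap
  have hψ : ∀ e : E, ψ e = (e : C × Λ).2 := fun _ => rfl
  have hN : IsNoetherian R E := isNoetherian_of_isNoetherianRing_of_finite R E
  obtain ⟨T, hT⟩ := (IsNoetherian.noetherian (LinearMap.ker ψ) : (LinearMap.ker ψ).FG)
  have h1 : ∀ κ ∈ T, ∃ s ∈ 𝔭.primeCompl, ∃ k : ℕ, (s * t ^ k) • κ = 0 := by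
    intro κ hκ
    have hκ' : ψ κ = 0 := by
      have : κ ∈ LinearMap.ker ψ := hT ▸ Submodule.subset_span hκ
      exact this
    have h2 : γ (κ : C × Λ).1 = ℓ (κ : C × Λ).2 := (mem_pairs ℓ γ _).mp (hE κ.2)
    rw [← hψ, hκ', map_zero] at h2
    obtain ⟨k, hk⟩ := hJ _ h2
    obtain ⟨s, hs, h3⟩ := exists_smul_eq_zero 𝔭 ℓ γ hLi hE (t ^ k • κ) (by
      show t ^ k • (κ : C × Λ).1 = 0
      exact hk)
    exact ⟨s, hs, k, by rw [mul_smul]; exact h3⟩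
  obtain ⟨s, hs, k, h2⟩ := exists_uniform 𝔭.primeCompl T
    (fun κ s k => (s * t ^ k) • κ = 0) (by
      intro κ s k s' k' _ h
      show (s' * s * t ^ (k' + k)) • κ = 0
      have : s' * s * t ^ (k' + k) = (s' * t ^ k') * (s * t ^ k) := by ring
      rw [this, mul_smul, h, smul_zero]) h1
  have h3 : ∀ e ∈ LinearMap.ker ψ, (s * t ^ k) • e = 0 := by
    intro e he
    rw [← hT] at he
    induction he using Submodule.span_induction with
    | mem κ hκ => exact h2 κ hκ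
    | zero => exact smul_zero _
    | add m₁ m₂ _ _ h₁ h₂ => rw [smul_add, h₁, h₂, add_zero]
    | smul a m _ h => rw [smul_comm, h, smul_zero]
  refine ⟨s, hs, fun e he => ⟨k + 1, ?_⟩⟩
  have h4 : (s * t) ^ (k + 1) = (s ^ k * t) * (s * t ^ k) := by ring
  rw [h4, mul_smul, h3 e (by rw [LinearMap.mem_ker, hψ]; exact he), smul_zero]

/-- **Spreading out.** -/
theorem spread [IsNoetherianRing R] [Module.Finite A C] [Algebra.Etale A C]
    (hLs : ∀ l : 𝕃, ∃ s : R, s ∉ 𝔭 ∧ ∃ r : Λ, s • l = ℓ r)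
    (hLi : ∀ r : Λ, ℓ r = 0 → ∃ s : R, s ∉ 𝔭 ∧ s • r = 0)
    {τ : Type*} [Finite τ] (σ : τ → R)
    (hfin : ∀ i, ∃ G : Finset Λ, ∀ r : Λ, ∃ N : ℕ, σ i ^ N • r ∈ Submodule.span R (G : Set Λ))
    (hS : ∀ i, ∀ l : 𝕃, ∃ (k : ℕ) (c : C), γ c = σ i ^ k • l)
    (hJ : ∀ i, ∀ c : C, γ c = 0 → ∃ k : ℕ, σ i ^ k • c = 0) :
    ∃ (f : R) (E : Subalgebra R (C × Λ)), f ∉ 𝔭 ∧ Module.Finite R E ∧
      Algebra.Etale R (Localization.Away (algebraMap R E f)) ∧ ∀ i, SJ E f (σ i) := by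
  classical
  have := Fintype.ofFinite τ
  obtain ⟨E, hE, hEfin, hF1⟩ := exists_model 𝔭 ℓ γ hLs hLi
  obtain ⟨f₀, hf₀, het⟩ := exists_etale 𝔭 ℓ γ hLi E hE hF1
  have h1 : ∀ i ∈ (Finset.univ : Finset τ), ∃ s ∈ 𝔭.primeCompl, ∃ _ : ℕ, SJ E s (σ i) := by
    intro i _
    obtain ⟨G, hG⟩ := hfin i
    obtain ⟨f₁, hf₁, h₁⟩ := exists_S 𝔭 ℓ γ hLi E hE hF1 (σ i) G hG (hS i)
    obtain ⟨f₂, hf₂, h₂⟩ := exists_J 𝔭 ℓ γ hLi E hE (σ i) (hJ i)
    refine ⟨f₁ * f₂, 𝔭.primeCompl.mul_mem hf₁ hf₂, 0, ?_, ?_⟩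
    · have := S_mono h₁ f₂
      rwa [mul_comm f₂ f₁] at this
    · exact J_mono h₂ f₁
  obtain ⟨s, hs, -, h2⟩ := exists_uniform 𝔭.primeCompl (Finset.univ : Finset τ)
    (fun i s _ => SJ E s (σ i)) (fun i s _ s' _ _ h => h.mono s') h1
  refine ⟨s * f₀, E, 𝔭.primeCompl.mul_mem hs hf₀, hEfin, ?_, fun i => ?_⟩
  · have hfp : Algebra.FinitePresentation R E :=
      Algebra.FinitePresentation.of_finiteType.mp inferInstance
    rw [← Algebra.basicOpen_subset_etaleLocus_iff_etale] at het ⊢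
    refine le_trans ?_ het
    rw [map_mul]
    exact PrimeSpectrum.basicOpen_mul_le_right _ _
  · have := (h2 i (Finset.mem_univ i)).mono f₀
    rwa [mul_comm f₀ s] at this

end Main

end Groth.Agent.Lib.helper9.SpreadAlg
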