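import Mathlib
import Groth.Prelude.Def_FEt

/-!
# Spreading out finite étale covers: geometric preliminaries (helper9)
-/

open AlgebraicGeometry CategoryTheory CategoryTheory.Limits TopologicalSpace

universe u

namespace Groth.Agent.Lib.helper9.SpreadGeomA

section Cat

variable {C : Type*} [Category C]

theorem isPullback_of_comp_mono {W X Y Z Z' : C} {fst : W ⟶ X} {snd : W ⟶ Y} {f : X ⟶ Z}
    {g : Y ⟶ Z} (m : Z ⟶ Z') [Mono m] (h : IsPullback fst snd (f ≫ m) (g ≫ m)) :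
    IsPullback fst snd f g := by
  have hw : fst ≫ f = snd ≫ g := by
    rw [← cancel_mono m, Category.assoc, Category.assoc, h.w]
  refine ⟨⟨hw⟩, ⟨PullbackCone.IsLimit.mk _
    (fun s => h.lift s.fst s.snd (by rw [← Category.assoc, s.condition, Category.assoc]))
    (fun s => h.lift_fst _ _ _) (fun s => h.lift_snd _ _ _) ?_⟩⟩
  intro s l h1 h2
  apply h.hom_ext
  · rw [h1, h.lift_fst]
  · rw [h2, h.lift_snd]

theorem isPullback_comp_mono {W X Y Z Z' : C} {fst : W ⟶ X} {snd : W ⟶ Y} {f : X ⟶ Z}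
    {g : Y ⟶ Z} (m : Z ⟶ Z') [Mono m] (h : IsPullback fst snd f g) :
    IsPullback fst snd (f ≫ m) (g ≫ m) := by
  have hw : fst ≫ f ≫ m = snd ≫ g ≫ m := by
    rw [← Category.assoc, h.w, Category.assoc]
  refine ⟨⟨hw⟩, ⟨PullbackCone.IsLimit.mk _
    (fun s => h.lift s.fst s.snd (by
      rw [← cancel_mono m, Category.assoc, Category.assoc, s.condition]))
    (fun s => h.lift_fst _ _ _) (fun s => h.lift_snd _ _ _) ?_⟩⟩
  intro s l h1 h2
  apply h.hom_ext
  · rw [h1, h.lift_fst]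
  · rw [h2, h.lift_snd]

theorem isPullback_of_comp_mono_left {W X' X Y Z : C} {fst' : W ⟶ X'} {snd : W ⟶ Y}
    (m' : X' ⟶ X) [Mono m'] {f : X ⟶ Z} {g : Y ⟶ Z} (h : IsPullback (fst' ≫ m') snd f g) :
    IsPullback fst' snd (m' ≫ f) g := by
  have hw : fst' ≫ m' ≫ f = snd ≫ g := by
    rw [← Category.assoc, h.w]
  refine ⟨⟨hw⟩, ⟨PullbackCone.IsLimit.mk _
    (fun s => h.lift (s.fst ≫ m') s.snd (by rw [Category.assoc, s.condition]))
    (fun s => by rw [← cancel_mono m', Category.assoc, h.lift_fst])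
    (fun s => h.lift_snd _ _ _) ?_⟩⟩
  intro s l h1 h2
  apply h.hom_ext
  · rw [h.lift_fst, ← h1, Category.assoc]
  · rw [h2, h.lift_snd]

end Cat

section Affine

variable {S : Scheme.{u}} [IsAffine S]

/-- The morphism `Spec B ⟶ S` attached to a ring map `Γ(S, ⊤) ⟶ B`, on global sections. -/
theorem appTop_specMap_isoSpec_inv {B : CommRingCat.{u}} (ψ : Γ(S, ⊤) ⟶ B) :
    (Spec.map ψ ≫ S.isoSpec.inv).appTop ≫ (Scheme.ΓSpecIso B).hom = ψ := by
  have h2 : S.isoSpec.inv.appTop ≫ S.toSpecΓ.appTop = 𝟙 _ := by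
    rw [← Scheme.Hom.comp_appTop, Scheme.toSpecΓ_isoSpec_inv]
    rfl
  rw [Scheme.toSpecΓ_appTop] at h2
  rw [Scheme.Hom.comp_appTop, Category.assoc, Scheme.ΓSpecIso_naturality, ← Category.assoc]
  show (S.isoSpec.inv.appTop ≫ (Scheme.ΓSpecIso Γ(S, ⊤)).hom) ≫ _ = _
  rw [h2, Category.id_comp]

theorem appTop_specMap_isoSpec_inv_apply {B : CommRingCat.{u}} (ψ : Γ(S, ⊤) ⟶ B) (s : Γ(S, ⊤)) :
    (Scheme.ΓSpecIso B).hom ((Spec.map ψ ≫ S.isoSpec.inv).appTop s) = ψ s :=
  congrArg (fun φ => φ.hom s) (appTop_specMap_isoSpec_inv ψ)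

end Affine

section AwayBij

variable {B R B' R' : Type*} [CommRing B] [CommRing R] [CommRing B'] [CommRing R']

/-- Converse of `PurityFin.bijective_of_SJ`. -/
theorem SJ_of_bijective (φ : B →+* R) (t : B) [Algebra B B'] [IsLocalization.Away t B']
    [Algebra R R'] [IsLocalization.Away (φ t) R'] (ψ : B' →+* R')
    (hψ : ∀ b, ψ (algebraMap B B' b) = algebraMap R R' (φ b)) (hbij : Function.Bijective ψ) :
    (∀ r : R, ∃ (N : ℕ) (b : B), φ b = φ t ^ N * r) ∧
      (∀ b : B, φ b = 0 → ∃ N : ℕ, t ^ N * b = 0) := by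
  constructor
  · intro r
    obtain ⟨x, hx⟩ := hbij.2 (algebraMap R R' r)
    obtain ⟨n, b, hb⟩ := IsLocalization.Away.surj t x
    have h1 : algebraMap R R' (r * φ t ^ n) = algebraMap R R' (φ b) := by
      rw [← hψ b, ← hb, map_mul, map_mul, hx, map_pow, map_pow, hψ]
    obtain ⟨⟨_, m, rfl⟩, hm⟩ := (IsLocalization.eq_iff_exists (Submonoid.powers (φ t)) R').mp h1
    refine ⟨m + n, t ^ m * b, ?_⟩
    rw [map_mul, map_pow, ← hm, pow_add]
    ring
  · intro b hb
    have h1 : ψ (algebraMap B B' b) = 0 := by rw [hψ, hb, map_zero]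
    have h2 : algebraMap B B' b = 0 := by
      apply hbij.1
      rw [h1, map_zero]
    obtain ⟨⟨_, m, rfl⟩, hm⟩ := (IsLocalization.map_eq_zero_iff (Submonoid.powers t) B' _).mp h2
    exact ⟨m, hm⟩

end AwayBij

section OpenImm

/-- For an open immersion `ι' : T' ⟶ T` of qcqs schemes whose range contains `D(t)`, pullback of
global sections is bijective up to powers of `t`. -/
theorem SJ_appTop_of_isOpenImmersion {T' T : Scheme.{u}} (ι' : T' ⟶ T) [IsOpenImmersion ι']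
    [CompactSpace T] [QuasiSeparatedSpace T] [CompactSpace T'] [QuasiSeparatedSpace T']
    (t : Γ(T, ⊤)) (ht : T.basicOpen t ≤ ι'.opensRange) :
    (∀ r : Γ(T', ⊤), ∃ (N : ℕ) (b : Γ(T, ⊤)), ι'.appTop b = ι'.appTop t ^ N * r) ∧
      (∀ b : Γ(T, ⊤), ι'.appTop b = 0 → ∃ N : ℕ, t ^ N * b = 0) := by
  have hpre : ι' ⁻¹ᵁ T.basicOpen t = T'.basicOpen (ι'.appTop t) := Scheme.preimage_basicOpen_top ι' t
  have hqc : IsLocalization.Away (ι'.appTop t) Γ(T', T'.basicOpen (ι'.appTop t)) :=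
    isLocalization_basicOpen_of_qcqs (X := T') (U := ⊤) isCompact_univ isQuasiSeparated_univ
      (ι'.appTop t)
  have hqc' : IsLocalization.Away t Γ(T, T.basicOpen t) :=
    isLocalization_basicOpen_of_qcqs (X := T) (U := ⊤) isCompact_univ isQuasiSeparated_univ t
  have hiso : IsIso (ι'.app (T.basicOpen t)) := ι'.isIso_app _ ht
  have hbij : Function.Bijective
      (ι'.appLE (T.basicOpen t) (T'.basicOpen (ι'.appTop t)) (le_of_eq hpre.symm)).hom := by
    rw [← Scheme.Hom.appLE_congr ι' le_rfl rfl hpre (fun φ => Function.Bijective φ.hom),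
      ← Scheme.Hom.app_eq_appLE]
    exact (ConcreteCategory.isIso_iff_bijective _).mp hiso
  refine SJ_of_bijective (B := Γ(T, ⊤)) (R := Γ(T', ⊤)) (ι'.appTop).hom t _ ?_ hbij
  intro b
  have h1 : T.presheaf.map (homOfLE (T.basicOpen_le t)).op ≫
      ι'.appLE (T.basicOpen t) (T'.basicOpen (ι'.appTop t)) (le_of_eq hpre.symm) =
      ι'.appTop ≫ T'.presheaf.map (homOfLE (T'.basicOpen_le (ι'.appTop t))).op := by
    rw [Scheme.Hom.map_appLE]
    rfl
  exact congrArg (fun φ => φ.hom b) h1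

end OpenImm

section FiniteEtale

/-- A finite étale morphism to `Spec B` gives a finite étale `B`-algebra. -/
theorem finite_etale_of_morphism {T : Scheme.{u}} {B : CommRingCat.{u}} (w : T ⟶ Spec B)
    [IsFinite w] [Etale w] :
    IsAffine T ∧ ((Scheme.ΓSpecIso B).inv ≫ w.appTop).hom.Finite ∧
      ((Scheme.ΓSpecIso B).inv ≫ w.appTop).hom.Etale := by
  have haff : IsAffine T := isAffine_of_isAffineHom w
  refine ⟨haff, ?_, ?_⟩
  · have h1 : w.appTop.hom.Finite := w.finite_appTop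
    rw [CommRingCat.hom_comp]
    exact h1.comp (RingHom.Finite.of_surjective _
      (ConcreteCategory.bijective_of_isIso (Scheme.ΓSpecIso B).inv).2)
  · have h1 : w.appTop.hom.Etale :=
      (HasRingHomProperty.iff_of_isAffine (P := @Etale)).mp inferInstance
    rw [CommRingCat.hom_comp]
    exact (RingHom.Etale.respectsIso.cancel_left_isIso (Scheme.ΓSpecIso B).inv w.appTop).mpr h1

end FiniteEtale

section EtRestr

variable {S : Scheme.{u}} [IsAffine S]

/-- If `E_f` is étale over `Γ(S, ⊤)`, then `Spec E ⟶ S` is étale over `D(f)`. -/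
theorem etale_morphismRestrict_basicOpen {E : Type u} [CommRing E] [Algebra Γ(S, ⊤) E]
    (f : Γ(S, ⊤))
    (het : Algebra.Etale Γ(S, ⊤) (Localization.Away (algebraMap Γ(S, ⊤) E f))) :
    Etale ((Spec.map (CommRingCat.ofHom (algebraMap Γ(S, ⊤) E)) ≫ S.isoSpec.inv) ∣_
      S.basicOpen f) := by
  set y : Spec (CommRingCat.of E) ⟶ S :=
    Spec.map (CommRingCat.ofHom (algebraMap Γ(S, ⊤) E)) ≫ S.isoSpec.inv with hy
  have hpre : y ⁻¹ᵁ S.basicOpen f =
      (PrimeSpectrum.basicOpen (algebraMap Γ(S, ⊤) E f) : (Spec (CommRingCat.of E)).Opens) := by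
    rw [Scheme.preimage_basicOpen_top, basicOpen_eq_of_affine']
    congr 1
    exact appTop_specMap_isoSpec_inv_apply (CommRingCat.ofHom (algebraMap Γ(S, ⊤) E)) f
  have key : ∀ O : (Spec (CommRingCat.of E)).Opens,
      O = PrimeSpectrum.basicOpen (algebraMap Γ(S, ⊤) E f) → Etale (O.ι ≫ y) := by
    rintro _ rfl
    have h1 : Etale (Spec.map (CommRingCat.ofHom
        (algebraMap Γ(S, ⊤) (Localization.Away (algebraMap Γ(S, ⊤) E f))))) := by
      rw [HasRingHomProperty.Spec_iff (P := @Etale)]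
      exact RingHom.etale_algebraMap.mpr het
    have e : Spec.map (CommRingCat.ofHom
        (algebraMap E (Localization.Away (algebraMap Γ(S, ⊤) E f)))) ≫
        Spec.map (CommRingCat.ofHom (algebraMap Γ(S, ⊤) E)) =
        Spec.map (CommRingCat.ofHom
          (algebraMap Γ(S, ⊤) (Localization.Away (algebraMap Γ(S, ⊤) E f)))) := by
      rw [← Spec.map_comp]
      congr 1
    rw [← basicOpenIsoSpecAway_hom_SpecMap (R := CommRingCat.of E) (algebraMap Γ(S, ⊤) E f), hy,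
      Category.assoc, ← Category.assoc (Spec.map _), e]
    infer_instance
  have h1 : Etale ((y ⁻¹ᵁ S.basicOpen f).ι ≫ y) := key _ hpre
  have h2 : Etale ((y ∣_ S.basicOpen f) ≫ (S.basicOpen f).ι) := by
    rw [morphismRestrict_ι]
    exact h1
  exact MorphismProperty.of_postcomp (W := @Etale) (W' := @Etale) (y ∣_ S.basicOpen f)
    (S.basicOpen f).ι inferInstance h2

end EtRestr

section FlatBC

variable {S V Y : Scheme.{u}} [IsAffine S] [CompactSpace V] [QuasiSeparatedSpace V]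

set_option backward.isDefEq.respectTransparency false in
/-- Flat base change for global sections along a localization. -/
theorem isLocalization_sections {B : CommRingCat.{u}} (ψ : Γ(S, ⊤) ⟶ B) (M : Submonoid Γ(S, ⊤))
    (hloc : @IsLocalization _ _ M B _ ψ.hom.toAlgebra)
    (iX : V ⟶ S) (g : Y ⟶ V) (iY : Y ⟶ Spec B)
    (H : IsPullback g iY iX (Spec.map ψ ≫ S.isoSpec.inv)) :
    @IsLocalization _ _ (M.map iX.appTop.hom) Γ(Y, ⊤) _ g.appTop.hom.toAlgebra := by
  set j : Spec B ⟶ S := Spec.map ψ ≫ S.isoSpec.inv with hj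
  have hflat : Flat j := by
    have : Flat (Spec.map ψ) := by
      rw [Flat.SpecMap_iff]
      let _ := ψ.hom.toAlgebra
      exact IsLocalization.flat B M
    infer_instance
  have hiso := isIso_pushoutSection_of_isQuasiSeparated_of_flat_right H (US := ⊤) (UT := ⊤)
    (UX := ⊤) (UY := ⊤) le_top le_top (by simp) (isAffineOpen_top S) (isAffineOpen_top _)
    isCompact_univ isQuasiSeparated_univ
  have hpo := (isIso_pushoutSection_iff ..).mp hiso
  have e1 : ∀ {X' Y' : Scheme.{u}} (φ : X' ⟶ Y') (e : (⊤ : X'.Opens) ≤ φ ⁻¹ᵁ ⊤),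
      φ.appLE ⊤ ⊤ e = φ.appTop := fun φ e => Scheme.Hom.appLE_eq_app φ
  rw [e1, e1, e1, e1] at hpo
  let _ : Algebra Γ(S, ⊤) Γ(V, ⊤) := iX.appTop.hom.toAlgebra
  let _ : Algebra Γ(S, ⊤) Γ(Spec B, ⊤) := j.appTop.hom.toAlgebra
  let _ : Algebra Γ(V, ⊤) Γ(Y, ⊤) := g.appTop.hom.toAlgebra
  let _ : Algebra Γ(Spec B, ⊤) Γ(Y, ⊤) := iY.appTop.hom.toAlgebra
  let _ : Algebra Γ(S, ⊤) Γ(Y, ⊤) := (g.appTop.hom.comp iX.appTop.hom).toAlgebra
  have : IsScalarTower Γ(S, ⊤) Γ(V, ⊤) Γ(Y, ⊤) := IsScalarTower.of_algebraMap_eq (fun _ => rfl)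
  have hw : iX.appTop ≫ g.appTop = j.appTop ≫ iY.appTop := by
    rw [← Scheme.Hom.comp_appTop, ← Scheme.Hom.comp_appTop, H.w]
  have : IsScalarTower Γ(S, ⊤) Γ(Spec B, ⊤) Γ(Y, ⊤) :=
    IsScalarTower.of_algebraMap_eq (fun r => congrArg (fun φ => φ.hom r) hw)
  have hpush : Algebra.IsPushout Γ(S, ⊤) Γ(V, ⊤) Γ(Spec B, ⊤) Γ(Y, ⊤) :=
    CommRingCat.isPushout_iff_isPushout.mp hpo
  let _ : Algebra Γ(S, ⊤) B := ψ.hom.toAlgebra
  have hloc' : IsLocalization M B := hloc
  let e : B ≃ₐ[Γ(S, ⊤)] Γ(Spec B, ⊤) :=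
    AlgEquiv.ofRingEquiv (f := (Scheme.ΓSpecIso B).symm.commRingCatIsoToRingEquiv) (by
      intro r
      show (Scheme.ΓSpecIso B).inv (ψ.hom r) = j.appTop.hom r
      have h1 := appTop_specMap_isoSpec_inv_apply ψ r
      rw [← h1]
      exact Iso.hom_inv_id_apply (C := CommRingCat) _ _)
  have hloc'' : IsLocalization M Γ(Spec B, ⊤) := IsLocalization.isLocalization_of_algEquiv M e
  exact (Algebra.isLocalization_iff_isPushout M Γ(Spec B, ⊤)).mpr hpush

end FlatBC

end Groth.Agent.Lib.helper9.SpreadGeomA
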