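import Mathlib
import Groth.Prelude.Def_FEt
import Groth.Agent.Lib.Helper9.SpreadAlg
import Groth.Agent.Lib.Helper9.SpreadGeomA
import Groth.Agent.Lib.Helper9.PurityGeom

/-!
# Spreading out finite étale covers: from the algebraic model to schemes (helper9)
-/

open AlgebraicGeometry CategoryTheory CategoryTheory.Limits TopologicalSpace
open Groth.Agent.Lib.helper9

universe u

namespace Groth.Agent.Lib.helper9.SpreadGeomB

theorem isPullback_iso_comp {C : Type*} [Category C] {W' W X Y Z : C} {fst : W ⟶ X} {snd : W ⟶ Y}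
    {f : X ⟶ Z} {g : Y ⟶ Z} (e : W' ⟶ W) [IsIso e] (h : IsPullback fst snd f g) :
    IsPullback (e ≫ fst) (e ≫ snd) f g :=
  IsPullback.of_iso h (asIso e).symm (Iso.refl _) (Iso.refl _) (Iso.refl _)
    (by simp) (by simp) (by simp) (by simp)

variable {S : Scheme.{u}} [IsAffine S] [IsNoetherianRing Γ(S, ⊤)]

/-- From an algebraic model `E` of `V` near a point to a finite étale extension over `D(f)`. -/
theorem exists_of_model (U : S.Opens) {V : Scheme.{u}} (p : V ⟶ U.toScheme) [IsFinite p] [Etale p]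
    {τ : Type*} (σ : τ → Γ(S, ⊤)) (hcov : U = ⨆ i, S.basicOpen (σ i))
    (f : Γ(S, ⊤)) (E : Type u) [CommRing E] [Algebra Γ(S, ⊤) E] [Module.Finite Γ(S, ⊤) E]
    (het : Algebra.Etale Γ(S, ⊤) (Localization.Away (algebraMap Γ(S, ⊤) E f)))
    (ε : E →+* Γ(V, ⊤)) (hε : ∀ r, ε (algebraMap Γ(S, ⊤) E r) = (p ≫ U.ι).appTop r)
    (hS : ∀ i, ∀ r : Γ(V, ⊤), ∃ (N : ℕ) (e : E), ε e = (p ≫ U.ι).appTop (f * σ i) ^ N * r)
    (hJ : ∀ i, ∀ e : E, ε e = 0 → ∃ N : ℕ, algebraMap Γ(S, ⊤) E (f * σ i) ^ N * e = 0) :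
    ∃ (W : Scheme.{u}) (q : W ⟶ (S.basicOpen f).toScheme), IsFinite q ∧ Etale q ∧
      ∃ (W₀ : Scheme.{u}) (a : W₀ ⟶ V) (b : W₀ ⟶ W) (r : W₀ ⟶ (U ⊓ S.basicOpen f).toScheme),
        IsPullback a r p (S.homOfLE inf_le_left) ∧ IsPullback b r q (S.homOfLE inf_le_right) := by
  classical
  have : NoetherianSpace S := noetherianSpace_of_isAffine
  have : NoetherianSpace U.toScheme := inferInstanceAs (NoetherianSpace (U : Set S))
  have : CompactSpace V := QuasiCompact.compactSpace_of_compactSpace p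
  have : QuasiSeparatedSpace V := quasiSeparatedSpace_of_quasiSeparated p
  have hle : ∀ i, S.basicOpen (f * σ i) ≤ U := by
    intro i
    rw [Scheme.basicOpen_mul, hcov]
    exact le_trans inf_le_right (le_iSup (fun i => S.basicOpen (σ i)) i)
  let y : Spec (CommRingCat.of E) ⟶ S :=
    Spec.map (CommRingCat.ofHom (algebraMap Γ(S, ⊤) E)) ≫ S.isoSpec.inv
  let θ : V ⟶ Spec (CommRingCat.of E) := V.toSpecΓ ≫ Spec.map (CommRingCat.ofHom ε)
  have hp : p ≫ U.ι = θ ≫ y := by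
    have h1 : CommRingCat.ofHom (algebraMap Γ(S, ⊤) E) ≫ CommRingCat.ofHom ε =
        (p ≫ U.ι).appTop := by
      ext a
      exact hε a
    show _ = (V.toSpecΓ ≫ Spec.map (CommRingCat.ofHom ε)) ≫
      Spec.map (CommRingCat.ofHom (algebraMap Γ(S, ⊤) E)) ≫ S.isoSpec.inv
    rw [Category.assoc, ← Spec.map_comp_assoc, h1, ← Scheme.toSpecΓ_naturality_assoc,
      Scheme.toSpecΓ_isoSpec_inv, Category.comp_id]
  have hθ : ∀ b' : Γ(Spec (CommRingCat.of E), ⊤),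
      θ.appTop b' = ε ((Scheme.ΓSpecIso (CommRingCat.of E)).hom b') := by
    intro b'
    have h1 : θ.appTop = (Scheme.ΓSpecIso (CommRingCat.of E)).hom ≫ CommRingCat.ofHom ε := by
      show (V.toSpecΓ ≫ Spec.map (CommRingCat.ofHom ε)).appTop = _
      rw [Scheme.Hom.comp_appTop, Scheme.toSpecΓ_appTop, Scheme.ΓSpecIso_naturality]
    rw [h1]
    rfl
  have hy : ∀ s : Γ(S, ⊤), (Scheme.ΓSpecIso (CommRingCat.of E)).hom (y.appTop s) =
      algebraMap Γ(S, ⊤) E s :=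
    fun s => SpreadGeomA.appTop_specMap_isoSpec_inv_apply
      (CommRingCat.ofHom (algebraMap Γ(S, ⊤) E)) s
  have hθy : ∀ s : Γ(S, ⊤), θ.appTop (y.appTop s) = (p ≫ U.ι).appTop s := by
    intro s
    rw [hp, Scheme.Hom.comp_appTop]
    rfl
  have hinjE : Function.Injective (Scheme.ΓSpecIso (CommRingCat.of E)).hom :=
    (ConcreteCategory.bijective_of_isIso (Scheme.ΓSpecIso (CommRingCat.of E)).hom).1
  -- the cover of `U ⊓ D(f)`
  have hcovO : y ⁻¹ᵁ (U ⊓ S.basicOpen f) =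
      ⨆ i, (Spec (CommRingCat.of E)).basicOpen (y.appTop (f * σ i)) := by
    have h1 : U ⊓ S.basicOpen f = ⨆ i, S.basicOpen (f * σ i) := by
      conv_lhs => rw [hcov]
      rw [iSup_inf_eq]
      congr 1
      ext i : 1
      rw [Scheme.basicOpen_mul, inf_comm]
    rw [h1, Scheme.Hom.preimage_iSup]
    congr 1
    ext i : 1
    exact Scheme.preimage_basicOpen_top y _
  have h₁ : IsIso (θ ∣_ y ⁻¹ᵁ (U ⊓ S.basicOpen f)) := by
    refine PurityLIC.isIso_morphismRestrict_of_cover θ _ _ hcovO (fun i => ?_)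
    refine PurityLIC.isIso_morphismRestrict_basicOpen θ _ ?_ ?_ ?_
    · rw [hθy]
      exact PurityGeom.isAffineOpen_basicOpen U p _ (hle i)
    · intro r
      obtain ⟨N, e, he⟩ := hS i r
      refine ⟨N, (Scheme.ΓSpecIso (CommRingCat.of E)).inv e, ?_⟩
      rw [hθ, hθy, Iso.inv_hom_id_apply (C := CommRingCat)]
      exact he
    · intro b hb
      rw [hθ] at hb
      obtain ⟨N, hN⟩ := hJ i _ hb
      refine ⟨N, hinjE ?_⟩
      rw [map_mul, map_pow, hy, map_zero]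
      exact hN
  -- the extension
  have hyfin : IsFinite y := by
    have : IsFinite (Spec.map (CommRingCat.ofHom (algebraMap Γ(S, ⊤) E))) := by
      rw [IsFinite.SpecMap_iff]
      exact RingHom.finite_algebraMap.mpr inferInstance
    infer_instance
  have hqet : Etale (y ∣_ S.basicOpen f) := SpreadGeomA.etale_morphismRestrict_basicOpen f het
  have hleO : y ⁻¹ᵁ (U ⊓ S.basicOpen f) ≤ y ⁻¹ᵁ S.basicOpen f :=
    Scheme.Hom.preimage_mono y inf_le_right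
  have s1 := isPullback_morphismRestrict θ (y ⁻¹ᵁ (U ⊓ S.basicOpen f))
  have s2 := isPullback_morphismRestrict y (U ⊓ S.basicOpen f)
  refine ⟨_, y ∣_ S.basicOpen f, inferInstance, hqet, _, (θ ⁻¹ᵁ (y ⁻¹ᵁ (U ⊓ S.basicOpen f))).ι,
    (θ ∣_ y ⁻¹ᵁ (U ⊓ S.basicOpen f)) ≫ (Spec (CommRingCat.of E)).homOfLE hleO,
    (θ ∣_ y ⁻¹ᵁ (U ⊓ S.basicOpen f)) ≫ (y ∣_ (U ⊓ S.basicOpen f)), ?_, ?_⟩
  · have s3 := s1.flip.paste_vert s2.flip
    rw [← hp] at s3
    have h2 : (U ⊓ S.basicOpen f).ι = S.homOfLE inf_le_left ≫ U.ι := (Scheme.homOfLE_ι _ _).symm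
    rw [h2] at s3
    exact SpreadGeomA.isPullback_of_comp_mono U.ι s3
  · have s3 : IsPullback ((Spec (CommRingCat.of E)).homOfLE hleO) (y ∣_ (U ⊓ S.basicOpen f))
        (y ∣_ S.basicOpen f) (S.homOfLE inf_le_right) := by
      apply SpreadGeomA.isPullback_of_comp_mono (S.basicOpen f).ι
      rw [morphismRestrict_ι, Scheme.homOfLE_ι]
      apply SpreadGeomA.isPullback_of_comp_mono_left
      rw [Scheme.homOfLE_ι]
      exact s2.flip
    exact isPullback_iso_comp _ s3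


/-- Unpacking `FEt.PurityHolds`. -/
theorem exists_purity_data (A : Type u) [CommRing A] [IsLocalRing A] (hpur : FEt.PurityHolds A)
    (P : (Spec (CommRingCat.of A)).Opens) (hP : P = FEt.puncturedSpec A) {Q : Scheme.{u}}
    (qP : Q ⟶ P.toScheme) [IsFinite qP] [Etale qP] :
    ∃ (T : Scheme.{u}) (w : T ⟶ Spec (CommRingCat.of A)) (_ : IsFinite w) (_ : Etale w)
      (e : Q ⟶ pullback w P.ι), IsIso e ∧ e ≫ pullback.snd w P.ι = qP := by
  subst hP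
  let Vx : FEt.Cat (FEt.puncturedSpec A).toScheme :=
    MorphismProperty.Over.mk ⊤ qP ⟨inferInstance, inferInstance⟩
  obtain ⟨Wx, ⟨iso⟩⟩ := hpur.mem_essImage Vx
  have hWx : FEt.prop Wx.hom := Wx.prop
  have hisoL : IsIso iso.inv.left :=
    ⟨iso.hom.left, by rw [← MorphismProperty.Comma.comp_left, iso.inv_hom_id]; rfl,
      by rw [← MorphismProperty.Comma.comp_left, iso.hom_inv_id]; rfl⟩
  exact ⟨Wx.left, Wx.hom, hWx.1, hWx.2, iso.inv.left, hisoL, MorphismProperty.Over.w iso.inv⟩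




set_option maxHeartbeats 1000000 in
theorem exists_model (U : S.Opens) {V : Scheme.{u}} (p : V ⟶ U.toScheme) [IsFinite p] [Etale p]
    {τ : Type*} [Finite τ] (σ : τ → Γ(S, ⊤)) (hcov : U = ⨆ i, S.basicOpen (σ i))
    (A : Type u) [CommRing A] [IsLocalRing A] (hpur : FEt.PurityHolds A)
    (ψ : Γ(S, ⊤) ⟶ CommRingCat.of A)
    (hloc : @IsLocalization _ _ ((IsLocalRing.maximalIdeal A).comap ψ.hom).primeCompl A _
      ψ.hom.toAlgebra)
    (hU : (Spec.map ψ ≫ S.isoSpec.inv) ⁻¹ᵁ U = FEt.puncturedSpec A) :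
    ∃ (f : Γ(S, ⊤)) (E : Type u) (_ : CommRing E) (_ : Algebra Γ(S, ⊤) E) (ε : E →+* Γ(V, ⊤)),
      IsUnit (ψ.hom f) ∧ Module.Finite Γ(S, ⊤) E ∧
      Algebra.Etale Γ(S, ⊤) (Localization.Away (algebraMap Γ(S, ⊤) E f)) ∧
      (∀ r, ε (algebraMap Γ(S, ⊤) E r) = (p ≫ U.ι).appTop r) ∧
      (∀ i, ∀ r : Γ(V, ⊤), ∃ (N : ℕ) (e : E), ε e = (p ≫ U.ι).appTop (f * σ i) ^ N * r) ∧
      (∀ i, ∀ e : E, ε e = 0 → ∃ N : ℕ, algebraMap Γ(S, ⊤) E (f * σ i) ^ N * e = 0) := by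
  classical
  have : NoetherianSpace S := noetherianSpace_of_isAffine
  have : NoetherianSpace U.toScheme := inferInstanceAs (NoetherianSpace (U : Set S))
  have : CompactSpace V := QuasiCompact.compactSpace_of_compactSpace p
  have : QuasiSeparatedSpace V := quasiSeparatedSpace_of_quasiSeparated p
  have hle : ∀ i, S.basicOpen (σ i) ≤ U := fun i => hcov ▸ le_iSup (fun i => S.basicOpen (σ i)) i
  -- the base rings
  let 𝔭 : Ideal Γ(S, ⊤) := (IsLocalRing.maximalIdeal A).comap ψ.hom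
  let _ : Algebra Γ(S, ⊤) A := ψ.hom.toAlgebra
  have hlocA : IsLocalization.AtPrime A 𝔭 := hloc
  have hAnoeth : IsNoetherianRing A := IsLocalization.isNoetherianRing 𝔭.primeCompl A inferInstance
  -- the morphism from the local scheme
  set j : Spec (CommRingCat.of A) ⟶ S := Spec.map ψ ≫ S.isoSpec.inv with hj
  have hjψ : ∀ s : Γ(S, ⊤), (Scheme.ΓSpecIso (CommRingCat.of A)).hom (j.appTop s) = ψ s :=
    fun s => SpreadGeomA.appTop_specMap_isoSpec_inv_apply ψ s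
  have hjψ' : ∀ s : Γ(S, ⊤), (Scheme.ΓSpecIso (CommRingCat.of A)).inv (ψ s) = j.appTop s := by
    intro s
    rw [← hjψ s]
    exact Iso.hom_inv_id_apply (C := CommRingCat) _ _
  have : NoetherianSpace (Spec (CommRingCat.of A)) := inferInstance
  have : NoetherianSpace (j ⁻¹ᵁ U).toScheme :=
    inferInstanceAs (NoetherianSpace ((j ⁻¹ᵁ U : (Spec (CommRingCat.of A)).Opens) :
      Set (Spec (CommRingCat.of A))))
  have : CompactSpace ↥(pullback p (j ∣_ U)) :=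
    QuasiCompact.compactSpace_of_compactSpace (pullback.snd p (j ∣_ U))
  have : QuasiSeparatedSpace ↥(pullback p (j ∣_ U)) :=
    quasiSeparatedSpace_of_quasiSeparated (pullback.snd p (j ∣_ U))
  -- purity
  obtain ⟨T, w, hwf, hwe, e, he, hew⟩ :=
    exists_purity_data A hpur (j ⁻¹ᵁ U) hU (pullback.snd p (j ∣_ U))
  obtain ⟨hTaff, hCfin, hCet⟩ := SpreadGeomA.finite_etale_of_morphism w
  let κ : pullback p (j ∣_ U) ⟶ T := e ≫ pullback.fst w (j ⁻¹ᵁ U).ι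
  have hκw : κ ≫ w = pullback.snd p (j ∣_ U) ≫ (j ⁻¹ᵁ U).ι := by
    show (e ≫ pullback.fst w (j ⁻¹ᵁ U).ι) ≫ w = _
    rw [Category.assoc, pullback.condition, ← Category.assoc, hew]
  have hκoi : IsOpenImmersion κ := inferInstance
  have hκrange : ∀ x : T, w x ∈ j ⁻¹ᵁ U → x ∈ κ.opensRange := by
    intro x hx
    obtain ⟨z, hz, -⟩ := Scheme.Pullback.exists_preimage_pullback (f := w)
      (g := (j ⁻¹ᵁ U).ι) x ⟨w x, hx⟩ rfl
    refine ⟨inv e z, ?_⟩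
    show (e ≫ pullback.fst w (j ⁻¹ᵁ U).ι) (inv e z) = x
    rw [← Scheme.Hom.comp_apply, ← Category.assoc, IsIso.inv_hom_id, Category.id_comp]
    exact hz
  -- the algebras
  let _ : Algebra Γ(S, ⊤) Γ(V, ⊤) := (p ≫ U.ι).appTop.hom.toAlgebra
  have halg : algebraMap Γ(S, ⊤) Γ(V, ⊤) = (p ≫ U.ι).appTop.hom := rfl
  let _ : Algebra A Γ(T, ⊤) :=
    ((Scheme.ΓSpecIso (CommRingCat.of A)).inv ≫ w.appTop).hom.toAlgebra
  let _ : Algebra A Γ(pullback p (j ∣_ U), ⊤) :=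
    ((Scheme.ΓSpecIso (CommRingCat.of A)).inv ≫
      (pullback.snd p (j ∣_ U) ≫ (j ⁻¹ᵁ U).ι).appTop).hom.toAlgebra
  let _ : Algebra Γ(S, ⊤) Γ(T, ⊤) :=
    ((algebraMap A Γ(T, ⊤)).comp (algebraMap Γ(S, ⊤) A)).toAlgebra
  let _ : Algebra Γ(S, ⊤) Γ(pullback p (j ∣_ U), ⊤) :=
    ((algebraMap A Γ(pullback p (j ∣_ U), ⊤)).comp (algebraMap Γ(S, ⊤) A)).toAlgebra
  have : IsScalarTower Γ(S, ⊤) A Γ(T, ⊤) := IsScalarTower.of_algebraMap_eq (fun _ => rfl)
  have : IsScalarTower Γ(S, ⊤) A Γ(pullback p (j ∣_ U), ⊤) :=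
    IsScalarTower.of_algebraMap_eq (fun _ => rfl)
  have hCfin' : Module.Finite A Γ(T, ⊤) := RingHom.finite_algebraMap.mp hCfin
  have hCet' : Algebra.Etale A Γ(T, ⊤) := RingHom.etale_algebraMap.mp hCet
  have hAT : ∀ a : A, algebraMap A Γ(T, ⊤) a =
      w.appTop ((Scheme.ΓSpecIso (CommRingCat.of A)).inv a) := fun _ => rfl
  have hAQ : ∀ a : A, algebraMap A Γ(pullback p (j ∣_ U), ⊤) a =
      (pullback.snd p (j ∣_ U) ≫ (j ⁻¹ᵁ U).ι).appTop
        ((Scheme.ΓSpecIso (CommRingCat.of A)).inv a) := fun _ => rfl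
  have hST : ∀ s : Γ(S, ⊤), algebraMap Γ(S, ⊤) Γ(T, ⊤) s = w.appTop (j.appTop s) := by
    intro s
    show algebraMap A Γ(T, ⊤) (ψ s) = _
    rw [hAT, hjψ']
  have hSQ : ∀ s : Γ(S, ⊤), algebraMap Γ(S, ⊤) Γ(pullback p (j ∣_ U), ⊤) s =
      (pullback.fst p (j ∣_ U)).appTop ((p ≫ U.ι).appTop s) := by
    intro s
    show algebraMap A Γ(pullback p (j ∣_ U), ⊤) (ψ s) = _
    rw [hAQ, hjψ']
    have h1 : pullback.fst p (j ∣_ U) ≫ p ≫ U.ι =
        (pullback.snd p (j ∣_ U) ≫ (j ⁻¹ᵁ U).ι) ≫ j := by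
      rw [← Category.assoc, pullback.condition, Category.assoc, morphismRestrict_ι,
        Category.assoc]
    have h2 := congrArg (fun φ => φ.appTop.hom s) h1
    simp only [Scheme.Hom.comp_appTop, CommRingCat.hom_comp, RingHom.coe_comp,
      Function.comp_apply] at h2 ⊢
    exact h2.symm
  have hAQκ : ∀ a : A, algebraMap A Γ(pullback p (j ∣_ U), ⊤) a =
      κ.appTop (algebraMap A Γ(T, ⊤) a) := by
    intro a
    rw [hAQ, hAT, ← hκw, Scheme.Hom.comp_appTop]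
    rfl
  -- the two maps
  let ℓ : Γ(V, ⊤) →ₐ[Γ(S, ⊤)] Γ(pullback p (j ∣_ U), ⊤) :=
    { toRingHom := (pullback.fst p (j ∣_ U)).appTop.hom
      commutes' := fun s => (hSQ s).symm }
  let γ : Γ(T, ⊤) →ₐ[A] Γ(pullback p (j ∣_ U), ⊤) :=
    { toRingHom := κ.appTop.hom
      commutes' := fun a => (hAQκ a).symm }
  have hℓ : ∀ r, ℓ r = (pullback.fst p (j ∣_ U)).appTop r := fun _ => rfl
  have hγ : ∀ c, γ c = κ.appTop c := fun _ => rfl
  -- flat base change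
  have H : IsPullback (pullback.fst p (j ∣_ U)) (pullback.snd p (j ∣_ U) ≫ (j ⁻¹ᵁ U).ι)
      (p ≫ U.ι) j :=
    (IsPullback.of_hasPullback p (j ∣_ U)).paste_vert (isPullback_morphismRestrict j U)
  have hL := SpreadGeomA.isLocalization_sections ψ 𝔭.primeCompl hloc (p ≫ U.ι)
    (pullback.fst p (j ∣_ U)) (pullback.snd p (j ∣_ U) ≫ (j ⁻¹ᵁ U).ι) H
  have hLs : ∀ l : Γ(pullback p (j ∣_ U), ⊤), ∃ s : Γ(S, ⊤), s ∉ 𝔭 ∧ ∃ r : Γ(V, ⊤),
      s • l = ℓ r := by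
    intro l
    obtain ⟨⟨r, ⟨m, s, hs, rfl⟩⟩, hx⟩ :=
      @IsLocalization.surj _ _ _ _ _ (pullback.fst p (j ∣_ U)).appTop.hom.toAlgebra hL l
    refine ⟨s, hs, r, ?_⟩
    rw [Algebra.smul_def, hSQ, mul_comm]
    exact hx
  have hLi : ∀ r : Γ(V, ⊤), ℓ r = 0 → ∃ s : Γ(S, ⊤), s ∉ 𝔭 ∧ s • r = 0 := by
    intro r hr
    obtain ⟨⟨m, s, hs, rfl⟩, hm⟩ :=
      (@IsLocalization.map_eq_zero_iff _ _ _ _ _ (pullback.fst p (j ∣_ U)).appTop.hom.toAlgebra
        hL r).mp hr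
    exact ⟨s, hs, by rw [Algebra.smul_def]; exact hm⟩
  -- finiteness over the basic opens
  have hfin : ∀ i, ∃ G : Finset Γ(V, ⊤), ∀ r : Γ(V, ⊤), ∃ N : ℕ,
      σ i ^ N • r ∈ Submodule.span Γ(S, ⊤) (G : Set Γ(V, ⊤)) := by
    intro i
    obtain ⟨G, -, hG⟩ := PurityGeom.exists_finset_integral U p halg (σ i) (hle i)
    exact ⟨G, hG⟩
  -- bijectivity up to powers
  have hSJ : ∀ i, (∀ r : Γ(pullback p (j ∣_ U), ⊤), ∃ (N : ℕ) (b : Γ(T, ⊤)),
      κ.appTop b = κ.appTop (algebraMap Γ(S, ⊤) Γ(T, ⊤) (σ i)) ^ N * r) ∧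
      (∀ b : Γ(T, ⊤), κ.appTop b = 0 → ∃ N : ℕ,
        algebraMap Γ(S, ⊤) Γ(T, ⊤) (σ i) ^ N * b = 0) := by
    intro i
    refine SpreadGeomA.SJ_appTop_of_isOpenImmersion κ _ ?_
    intro x hx
    apply hκrange
    rw [hST, ← Scheme.preimage_basicOpen_top, ← Scheme.preimage_basicOpen_top] at hx
    exact Scheme.Hom.preimage_mono j (hle i) hx
  have hκS : ∀ s : Γ(S, ⊤), κ.appTop (algebraMap Γ(S, ⊤) Γ(T, ⊤) s) =
      algebraMap Γ(S, ⊤) Γ(pullback p (j ∣_ U), ⊤) s := by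
    intro s
    show κ.appTop (algebraMap A Γ(T, ⊤) (ψ s)) = algebraMap A _ (ψ s)
    rw [hAQκ]
  have hS : ∀ i, ∀ l : Γ(pullback p (j ∣_ U), ⊤), ∃ (k : ℕ) (c : Γ(T, ⊤)),
      γ c = σ i ^ k • l := by
    intro i l
    obtain ⟨N, b, hb⟩ := (hSJ i).1 l
    refine ⟨N, b, ?_⟩
    rw [hγ, hb, hκS, Algebra.smul_def, map_pow]
  have hJ : ∀ i, ∀ c : Γ(T, ⊤), γ c = 0 → ∃ k : ℕ, σ i ^ k • c = 0 := by
    intro i c hc
    obtain ⟨N, hN⟩ := (hSJ i).2 c hc
    exact ⟨N, by rw [Algebra.smul_def, map_pow]; exact hN⟩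
  obtain ⟨f, E, hf, hEfin, hEet, hE⟩ := SpreadAlg.spread 𝔭 ℓ γ hLs hLi σ hfin hS hJ
  refine ⟨f, E, inferInstance, inferInstance,
    (RingHom.snd Γ(T, ⊤) Γ(V, ⊤)).comp E.val.toRingHom, ?_, hEfin, hEet, ?_, ?_, ?_⟩
  · by_contra hcon
    exact hf ((IsLocalRing.mem_maximalIdeal _).mpr hcon)
  · intro r
    rfl
  · intro i r
    obtain ⟨k, e, he⟩ := (hE i).1 r
    refine ⟨k, e, ?_⟩
    show (e : Γ(T, ⊤) × Γ(V, ⊤)).2 = _
    rw [he, Algebra.smul_def, map_pow]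
    rfl
  · intro i e he
    obtain ⟨k, hk⟩ := (hE i).2 e he
    exact ⟨k, by rw [← map_pow, ← Algebra.smul_def]; exact hk⟩


/-- **Local extension, affine case.**  Let `S` be an affine Noetherian scheme, `U` an open, `V` a
finite étale cover of `U`, and `Spec A ⟶ S` the localization at a point `x` such that the preimage
of `U` is the punctured spectrum.  If purity holds for `A`, then `V` extends to a finite étale cover
of a basic open neighbourhood `D(f)` of `x` (compatibly over `U ⊓ D(f)`). -/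
theorem exists_extension_affine (U : S.Opens) {V : Scheme.{u}} (p : V ⟶ U.toScheme)
    [IsFinite p] [Etale p]
    (A : Type u) [CommRing A] [IsLocalRing A] (hpur : FEt.PurityHolds A)
    (ψ : Γ(S, ⊤) ⟶ CommRingCat.of A)
    (hloc : @IsLocalization _ _ ((IsLocalRing.maximalIdeal A).comap ψ.hom).primeCompl A _
      ψ.hom.toAlgebra)
    (hU : (Spec.map ψ ≫ S.isoSpec.inv) ⁻¹ᵁ U = FEt.puncturedSpec A) :
    ∃ f : Γ(S, ⊤), IsUnit (ψ.hom f) ∧ ∃ (W : Scheme.{u}) (q : W ⟶ (S.basicOpen f).toScheme),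
      IsFinite q ∧ Etale q ∧
      ∃ (W₀ : Scheme.{u}) (a : W₀ ⟶ V) (b : W₀ ⟶ W) (r : W₀ ⟶ (U ⊓ S.basicOpen f).toScheme),
        IsPullback a r p (S.homOfLE inf_le_left) ∧ IsPullback b r q (S.homOfLE inf_le_right) := by
  have : NoetherianSpace S := noetherianSpace_of_isAffine
  have hUc : IsCompact (U : Set S) := NoetherianSpace.isCompact _
  obtain ⟨s, hs, hsU⟩ :=
    (isCompact_and_isOpen_iff_finite_and_eq_biUnion_basicOpen (X := S)).mp ⟨hUc, U.2⟩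
  have : Finite s := hs.to_subtype
  have hcov : U = ⨆ i : s, S.basicOpen (i : Γ(S, ⊤)) := by
    ext x
    rw [SetLike.mem_coe, SetLike.mem_coe, Opens.mem_iSup, ← SetLike.mem_coe, hsU]
    simp only [Set.mem_iUnion, SetLike.mem_coe, Subtype.exists, exists_prop]
  obtain ⟨f, E, _, _, ε, hf, hEfin, hEet, hε, hS, hJ⟩ :=
    exists_model U p (fun i : s => (i : Γ(S, ⊤))) hcov A hpur ψ hloc hU
  exact ⟨f, hf, exists_of_model U p (fun i : s => (i : Γ(S, ⊤))) hcov f E hEet ε hε hS hJ⟩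

end Groth.Agent.Lib.helper9.SpreadGeomB
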