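import Mathlib
import Groth.Prelude.Def_FEt
import Groth.Agent.Lib.Helper9.SpreadGeomB

/-!
# Local extension of finite étale covers on a locally Noetherian scheme (helper9)
-/

open AlgebraicGeometry CategoryTheory CategoryTheory.Limits TopologicalSpace
open Groth.Agent.Lib.helper9

universe u

namespace Groth.Agent.Lib.helper9.SpreadGeomC

/-- A nonempty closed subset of a quasi-sober T0 space has a point without proper generizations
inside the subset (the generic point of an irreducible component). -/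
theorem exists_maximal_point {X : Type*} [TopologicalSpace X] [QuasiSober X] [T0Space X]
    (Z : Set X) (hZ : IsClosed Z) (hne : Z.Nonempty) :
    ∃ x ∈ Z, ∀ y ∈ Z, y ⤳ x → y = x := by
  obtain ⟨z₀, hz₀⟩ := hne
  have hqs : QuasiSober Z := hZ.isClosedEmbedding_subtypeVal.quasiSober
  let T : Set Z := irreducibleComponent (⟨z₀, hz₀⟩ : Z)
  have hTirr : IsIrreducible T := isIrreducible_irreducibleComponent
  have hTcl : IsClosed T := isClosed_irreducibleComponent
  have hgen : IsGenericPoint hTirr.genericPoint T := hTirr.isGenericPoint_genericPoint hTcl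
  refine ⟨hTirr.genericPoint.1, hTirr.genericPoint.2, ?_⟩
  intro y hy hyx
  have h1 : (⟨y, hy⟩ : Z) ⤳ hTirr.genericPoint :=
    Topology.IsInducing.subtypeVal.specializes_iff.mp hyx
  -- closure {y'} ⊇ T and is irreducible, so equal to T
  have h2 : T ⊆ closure {(⟨y, hy⟩ : Z)} := by
    rw [← hgen.def]
    exact closure_minimal (Set.singleton_subset_iff.mpr h1.mem_closure) isClosed_closure
  have h3 : IsPreirreducible (closure {(⟨y, hy⟩ : Z)}) := isIrreducible_singleton.closure.2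
  have h4 : closure {(⟨y, hy⟩ : Z)} = T :=
    (irreducibleComponent_property (⟨z₀, hz₀⟩ : Z)).2.2 _ h3 h2
  have h5 : IsGenericPoint (⟨y, hy⟩ : Z) T := h4
  have h6 := h5.eq hgen
  exact congrArg Subtype.val h6

/-- Transfer of a localization at a prime along a ring isomorphism of the base, with the prime
expressed as the preimage of the maximal ideal. -/
theorem isLocalization_comap_of_ringEquiv {R R' A : Type*} [CommRing R] [CommRing R'] [CommRing A]
    [IsLocalRing A] (φ : R →+* A) (e : R' ≃+* R) (𝔮 : Ideal R) [𝔮.IsPrime]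
    (h : @IsLocalization _ _ 𝔮.primeCompl A _ φ.toAlgebra) :
    @IsLocalization _ _ ((IsLocalRing.maximalIdeal A).comap (φ.comp e.toRingHom)).primeCompl A _
      (φ.comp e.toRingHom).toAlgebra := by
  let _ : Algebra R A := φ.toAlgebra
  have h' : IsLocalization 𝔮.primeCompl A := h
  let _ : Algebra R' A := (φ.comp e.toRingHom).toAlgebra
  have hR' : ∀ r' : R', algebraMap R' A r' = φ (e r') := fun _ => rfl
  have hR : ∀ r : R, algebraMap R A r = φ r := fun _ => rfl
  have hmem : ∀ r' : R', r' ∈ ((IsLocalRing.maximalIdeal A).comap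
      (φ.comp e.toRingHom)).primeCompl ↔ IsUnit (φ (e r')) := by
    intro r'
    show ¬ (φ (e r') ∈ IsLocalRing.maximalIdeal A) ↔ _
    rw [IsLocalRing.mem_maximalIdeal, mem_nonunits_iff, not_not]
  refine ⟨?_, ?_, ?_⟩
  · rintro ⟨r', hr'⟩
    exact (hmem r').mp hr'
  · intro a
    obtain ⟨⟨r, s⟩, hrs⟩ := IsLocalization.surj 𝔮.primeCompl a
    refine ⟨(e.symm r, ⟨e.symm s, (hmem _).mpr ?_⟩), ?_⟩
    · rw [RingEquiv.apply_symm_apply]
      exact IsLocalization.map_units A s
    · show a * φ (e (e.symm s)) = φ (e (e.symm r))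
      rw [RingEquiv.apply_symm_apply, RingEquiv.apply_symm_apply]
      exact hrs
  · intro x y hxy
    have hxy' : algebraMap R A (e x) = algebraMap R A (e y) := hxy
    obtain ⟨c, hc⟩ := IsLocalization.exists_of_eq (M := 𝔮.primeCompl) hxy'
    refine ⟨⟨e.symm c, (hmem _).mpr ?_⟩, ?_⟩
    · rw [RingEquiv.apply_symm_apply]
      exact IsLocalization.map_units A c
    · apply e.injective
      show e (e.symm (c : R) * x) = e (e.symm (c : R) * y)
      rw [map_mul, map_mul, RingEquiv.apply_symm_apply]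
      exact hc

/-- **Local extension of a finite étale cover near a maximal point of the complement.** -/
theorem exists_local_extension {X : Scheme.{u}} [IsLocallyNoetherian X] (U : X.Opens)
    {V : Scheme.{u}} (p : V ⟶ U.toScheme) [IsFinite p] [Etale p] (x : X) (hxU : x ∉ U)
    (hgen : ∀ y : X, y ⤳ x → y ≠ x → y ∈ U)
    (hpur : FEt.PurityHolds (X.presheaf.stalk x)) :
    ∃ (Y₂ Y₁₂ : Scheme.{u}) (j₂ : Y₂ ⟶ X) (_ : IsOpenImmersion j₂) (_ : x ∈ Set.range j₂)
      (k₁ : Y₁₂ ⟶ U.toScheme) (k₂ : Y₁₂ ⟶ Y₂) (_ : IsPullback k₁ k₂ U.ι j₂)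
      (W W₀ : Scheme.{u}) (q : W ⟶ Y₂) (_ : IsFinite q) (_ : Etale q)
      (a : W₀ ⟶ V) (b : W₀ ⟶ W) (r : W₀ ⟶ Y₁₂), IsPullback a r p k₁ ∧ IsPullback b r q k₂ := by
  obtain ⟨_, ⟨(N : X.Opens), hN, rfl⟩, hxN, -⟩ :=
    X.isBasis_affineOpens.exists_subset_of_mem_open (Set.mem_univ x) isOpen_univ
  have hNaff : IsAffine N.toScheme := hN
  have hnoeth : IsNoetherianRing Γ(X, N) := IsLocallyNoetherian.component_noetherian ⟨N, hN⟩
  have : IsNoetherianRing Γ(N.toScheme, ⊤) := isNoetherianRing_of_ringEquiv _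
    (Scheme.restrictFunctorΓ.app (Opposite.op N)).symm.commRingCatIsoToRingEquiv
  let j₀ : Spec (X.presheaf.stalk x) ⟶ N.toScheme := N.fromSpecStalkOfMem x hxN
  let ψ : Γ(N.toScheme, ⊤) ⟶ CommRingCat.of (X.presheaf.stalk x) :=
    (N.topIso).hom ≫ X.presheaf.germ N x hxN
  have hj₀ : Spec.map ψ ≫ N.toScheme.isoSpec.inv = j₀ := by
    rw [Iso.comp_inv_eq, Scheme.isoSpec_hom]
    show Spec.map ((N.topIso).hom ≫ X.presheaf.germ N x hxN) = _
    rw [Spec.map_comp, ← Scheme.Opens.fromSpecStalkOfMem_toSpecΓ, Scheme.Opens.toSpecΓ,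
      Category.assoc, Category.assoc, ← Spec.map_comp, Iso.hom_inv_id, Spec.map_id,
      Category.comp_id]
  -- the localization property
  have hloc : @IsLocalization _ _
      ((IsLocalRing.maximalIdeal (X.presheaf.stalk x)).comap ψ.hom).primeCompl
      (X.presheaf.stalk x) _ ψ.hom.toAlgebra :=
    isLocalization_comap_of_ringEquiv (X.presheaf.germ N x hxN).hom
      (N.topIso).commRingCatIsoToRingEquiv (hN.primeIdealOf ⟨x, hxN⟩).asIdeal
      (hN.isLocalization_stalk ⟨x, hxN⟩)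
  -- the punctured spectrum
  have hU : (Spec.map ψ ≫ N.toScheme.isoSpec.inv) ⁻¹ᵁ (N.ι ⁻¹ᵁ U) =
      FEt.puncturedSpec (X.presheaf.stalk x) := by
    rw [hj₀]
    ext z
    have h1 : N.ι (j₀ z) = X.fromSpecStalk x z := by
      rw [← Scheme.Hom.comp_apply, Scheme.Opens.fromSpecStalkOfMem_ι]
    show N.ι (j₀ z) ∈ U ↔ z ≠ IsLocalRing.closedPoint _
    rw [h1]
    constructor
    · intro hz hcon
      rw [hcon, Scheme.fromSpecStalk_closedPoint] at hz
      exact hxU hz
    · intro hz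
      apply hgen
      · have h2 : X.fromSpecStalk x z ∈ Set.range (X.fromSpecStalk x) := ⟨z, rfl⟩
        rw [Scheme.range_fromSpecStalk] at h2
        exact h2
      · intro hcon
        apply hz
        apply (X.fromSpecStalk x).isEmbedding.injective
        rw [hcon, Scheme.fromSpecStalk_closedPoint]
  obtain ⟨f, hf, W, q, hqf, hqe, W₀, a, b, r, sq1, sq2⟩ :=
    SpreadGeomB.exists_extension_affine (N.ι ⁻¹ᵁ U) (pullback.snd p (N.ι ∣_ U))
      (X.presheaf.stalk x) hpur ψ hloc hU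
  -- `x` lies in `D(f)`
  have hxf : j₀ (IsLocalRing.closedPoint (X.presheaf.stalk x)) ∈ N.toScheme.basicOpen f := by
    show IsLocalRing.closedPoint (X.presheaf.stalk x) ∈ j₀ ⁻¹ᵁ N.toScheme.basicOpen f
    rw [Scheme.preimage_basicOpen_top, basicOpen_eq_of_affine']
    show (Scheme.ΓSpecIso (X.presheaf.stalk x)).hom (j₀.appTop f) ∉
      IsLocalRing.maximalIdeal (X.presheaf.stalk x)
    rw [IsLocalRing.mem_maximalIdeal, mem_nonunits_iff, not_not]
    have h1 := SpreadGeomA.appTop_specMap_isoSpec_inv_apply ψ f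
    rw [hj₀] at h1
    have h2 : (Scheme.ΓSpecIso (X.presheaf.stalk x)).hom (j₀.appTop f) = ψ f := h1
    rw [h2]
    exact hf
  have hx : (j₀ ≫ N.ι) (IsLocalRing.closedPoint (X.presheaf.stalk x)) = x := by
    rw [Scheme.Opens.fromSpecStalkOfMem_ι]
    exact Scheme.fromSpecStalk_closedPoint
  have sqA := isPullback_opens_inf (N.ι ⁻¹ᵁ U) (N.toScheme.basicOpen f)
  have sqB := isPullback_morphismRestrict N.ι U
  have sqC := IsPullback.of_hasPullback p (N.ι ∣_ U)
  refine ⟨(N.toScheme.basicOpen f).toScheme, (N.ι ⁻¹ᵁ U ⊓ N.toScheme.basicOpen f).toScheme,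
    (N.toScheme.basicOpen f).ι ≫ N.ι, inferInstance, ?_,
    N.toScheme.homOfLE inf_le_left ≫ (N.ι ∣_ U), N.toScheme.homOfLE inf_le_right,
    sqA.paste_horiz sqB, W, W₀, q, hqf, hqe, a ≫ pullback.fst p (N.ι ∣_ U), b, r,
    sq1.paste_horiz sqC, sq2⟩
  exact ⟨⟨j₀ (IsLocalRing.closedPoint (X.presheaf.stalk x)), hxf⟩, hx⟩

end Groth.Agent.Lib.helper9.SpreadGeomC
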