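import Mathlib
import Groth.Prelude.Def_FEt
import Groth.Agent.Lib.Helper9.SpreadGeomC
import Groth.Agent.Lib.Helper9.FEtGlue

/-!
# Essential surjectivity of restriction of finite étale covers under purity (helper9)
-/

open AlgebraicGeometry CategoryTheory CategoryTheory.Limits TopologicalSpace

universe u

namespace Groth.Agent.Lib.helper9.SpreadFinal

set_option backward.isDefEq.respectTransparency.types false in
/-- Let `X` be a Noetherian scheme and `U ⊆ X` an open subscheme such that purity holds for the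
local ring at every point outside `U`.  Then restriction of finite étale covers from `X` to `U` is
essentially surjective. -/
theorem essSurj_restrict {X : Scheme.{u}} [IsNoetherian X] (U : X.Opens)
    (h : ∀ x : X, x ∉ U → FEt.PurityHolds (X.presheaf.stalk x)) : (FEt.restrict U.ι).EssSurj := by
  constructor
  intro V₀
  have hV₀ : FEt.prop V₀.hom := V₀.prop
  -- the set of opens to which `V₀` extends
  let 𝒮 : Set X.Opens := {U' | ∃ (hle : U ≤ U') (V' : Scheme.{u}) (p' : V' ⟶ U'.toScheme)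
    (g : V₀.left ⟶ V'), IsFinite p' ∧ Etale p' ∧ IsPullback g V₀.hom p' (X.homOfLE hle)}
  have hU𝒮 : U ∈ 𝒮 := by
    refine ⟨le_rfl, V₀.left, V₀.hom, 𝟙 _, hV₀.1, hV₀.2, ?_⟩
    have h1 : X.homOfLE (le_refl U) = 𝟙 _ := Scheme.homOfLE_rfl X U
    rw [h1]
    exact IsPullback.of_id_fst
  obtain ⟨U', hU'𝒮, hmax⟩ := (wellFounded_gt : WellFounded (α := X.Opens) (· > ·)).has_min 𝒮
    ⟨U, hU𝒮⟩
  obtain ⟨hle, V', p', g, hp'f, hp'e, hpb⟩ := hU'𝒮
  have htop : U' = ⊤ := by
    by_contra hne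
    have hZne : ((U' : Set X)ᶜ).Nonempty := by
      rw [Set.nonempty_compl]
      intro hcon
      apply hne
      ext y
      simp [hcon]
    obtain ⟨x, hxZ, hxmax⟩ := Groth.Agent.Lib.helper9.SpreadGeomC.exists_maximal_point
      ((U' : Set X)ᶜ) U'.isOpen.isClosed_compl hZne
    have hxU' : x ∉ U' := hxZ
    have hgen : ∀ y : X, y ⤳ x → y ≠ x → y ∈ U' := by
      intro y hy hyx
      by_contra hc
      exact hyx (hxmax y hc hy)
    have hxU : x ∉ U := fun hc => hxU' (hle hc)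
    obtain ⟨Y₂, Y₁₂, j₂, hj₂, hxj₂, k₁, k₂, hk, W, W₀, q, hqf, hqe, a, b, r, sq1, sq2⟩ :=
      Groth.Agent.Lib.helper9.SpreadGeomC.exists_local_extension U' p' x hxU' hgen (h x hxU)
    -- glue over `U' ⊔ range j₂`
    have hle' : U' ≤ U' ⊔ j₂.opensRange := le_sup_left
    have hj₂le : Set.range j₂ ⊆ Set.range (U' ⊔ j₂.opensRange).ι := by
      rw [Scheme.Opens.range_ι]
      exact fun y hy => Or.inr hy
    have hj₂' : IsOpenImmersion.lift (U' ⊔ j₂.opensRange).ι j₂ hj₂le ≫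
        (U' ⊔ j₂.opensRange).ι = j₂ := IsOpenImmersion.lift_fac _ _ _
    have hoi : IsOpenImmersion (IsOpenImmersion.lift (U' ⊔ j₂.opensRange).ι j₂ hj₂le) := by
      have h1 : IsOpenImmersion (IsOpenImmersion.lift (U' ⊔ j₂.opensRange).ι j₂ hj₂le ≫
          (U' ⊔ j₂.opensRange).ι) := by rw [hj₂']; exact hj₂
      exact IsOpenImmersion.of_comp _ (U' ⊔ j₂.opensRange).ι
    have hcov : ∀ y : (U' ⊔ j₂.opensRange).toScheme, y ∈ Set.range (X.homOfLE hle') ∨
        y ∈ Set.range (IsOpenImmersion.lift (U' ⊔ j₂.opensRange).ι j₂ hj₂le) := by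
      intro y
      have hinj : Function.Injective (U' ⊔ j₂.opensRange).ι :=
        (U' ⊔ j₂.opensRange).ι.isOpenEmbedding.injective
      rcases y.2 with hy | ⟨w, hw⟩
      · left
        refine ⟨⟨y.1, hy⟩, hinj ?_⟩
        have e1 : (X.homOfLE hle' ≫ (U' ⊔ j₂.opensRange).ι) ⟨y.1, hy⟩ =
            (U' ⊔ j₂.opensRange).ι y := by
          rw [Scheme.homOfLE_ι]
          rfl
        exact e1
      · right
        refine ⟨w, hinj ?_⟩
        have e1 : (IsOpenImmersion.lift (U' ⊔ j₂.opensRange).ι j₂ hj₂le ≫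
            (U' ⊔ j₂.opensRange).ι) w = (U' ⊔ j₂.opensRange).ι y := by
          rw [hj₂']
          exact hw
        exact e1
    have hk' : IsPullback k₁ k₂ (X.homOfLE hle')
        (IsOpenImmersion.lift (U' ⊔ j₂.opensRange).ι j₂ hj₂le) := by
      apply Groth.Agent.Lib.helper9.SpreadGeomA.isPullback_of_comp_mono (U' ⊔ j₂.opensRange).ι
      rw [Scheme.homOfLE_ι, hj₂']
      exact hk
    obtain ⟨V'', q'', i₁, hi₁, hP⟩ := Groth.Agent.Lib.helper9.FEtGlue.exists_glue
      (X.homOfLE hle') (IsOpenImmersion.lift (U' ⊔ j₂.opensRange).ι j₂ hj₂le) hcov k₁ k₂ hk'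
      p' q a b r sq1 sq2
    have hq''f : IsFinite q'' := hP @IsFinite hp'f hqf
    have hq''e : Etale q'' := hP @Etale hp'e hqe
    have hU''𝒮 : (U' ⊔ j₂.opensRange) ∈ 𝒮 := by
      refine ⟨hle.trans hle', V'', q'', g ≫ i₁, hq''f, hq''e, ?_⟩
      have h1 := hpb.paste_horiz hi₁
      rw [Scheme.homOfLE_homOfLE] at h1
      exact h1
    have hlt : U' < U' ⊔ j₂.opensRange := by
      refine lt_of_le_of_ne hle' (fun heq => hxU' ?_)
      rw [heq]
      exact Or.inr hxj₂
    exact hmax _ hU''𝒮 hlt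
  subst htop
  -- conclude
  have hisotop : IsIso (⊤ : X.Opens).ι := (Scheme.topIso X).isIso_hom
  have hfin : IsFinite (p' ≫ (⊤ : X.Opens).ι) := inferInstance
  have het : Etale (p' ≫ (⊤ : X.Opens).ι) := inferInstance
  have hpb' : IsPullback g V₀.hom (p' ≫ (⊤ : X.Opens).ι) U.ι := by
    have h1 := Groth.Agent.Lib.helper9.SpreadGeomA.isPullback_comp_mono (⊤ : X.Opens).ι hpb
    rw [Scheme.homOfLE_ι] at h1
    exact h1
  refine ⟨MorphismProperty.Over.mk ⊤ (p' ≫ (⊤ : X.Opens).ι) ⟨hfin, het⟩, ⟨?_⟩⟩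
  exact MorphismProperty.Over.isoMk hpb'.isoPullback.symm hpb'.isoPullback_inv_snd

end Groth.Agent.Lib.helper9.SpreadFinal
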