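import Mathlib
import Groth.Agent.Lib.Helper24.SmoothReduced

/-!
# Generic geometric reducedness: algebraic preliminaries (helper9)

* `isReduced_tensor_of_smooth_away`: if `B_h` is smooth over `A` and `1 ⊗ h` is a nonzerodivisor of
  `C ⊗[A] B` for a field `C`, then `C ⊗[A] B` is reduced.
* `injective_lTensor_of_flat_away`: an injective endomorphism `φ` of an `A`-module `B` whose
  cokernel becomes flat over `A_a` stays injective after tensoring with any `A`-algebra in which
  `a` is invertible.
-/

set_option autoImplicit false
set_option linter.style.haveILetI false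
universe u

open TensorProduct

namespace Groth.Agent.Lib.helper9.GRGen

/-- If `B_h` is smooth over `A` and `1 ⊗ h` is a nonzerodivisor on `C ⊗[A] B` (`C` a field), then
`C ⊗[A] B` is reduced. -/
theorem isReduced_tensor_of_smooth_away {A B : Type u} [CommRing A] [CommRing B] [Algebra A B]
    (h : B) [Algebra.Smooth A (Localization.Away h)] (C : Type u) [Field C] [Algebra A C]
    (hinj : ∀ x : C ⊗[A] B, ((1 : C) ⊗ₜ[A] h) * x = 0 → x = 0) : IsReduced (C ⊗[A] B) := by
  haveI : Algebra.Smooth C (C ⊗[A] Localization.Away h) := inferInstance
  haveI h1 : IsReduced (C ⊗[A] Localization.Away h) :=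
    Groth.Agent.Lib.Helper24.SmoothReduced.isReduced_of_smooth C _
  let e := IsLocalization.Away.tensorProductEquivTMulRight A C h (Localization.Away h)
  haveI h2 : IsReduced (Localization.Away ((1 : C) ⊗ₜ[A] h)) :=
    isReduced_of_injective e.symm e.symm.injective
  have hle : Submonoid.powers ((1 : C) ⊗ₜ[A] h) ≤ nonZeroDivisors (C ⊗[A] B) := by
    rw [Submonoid.powers_le]
    rw [mem_nonZeroDivisors_iff_right]
    intro x hx
    exact hinj x (by rw [mul_comm]; exact hx)
  have h3 : Function.Injective (algebraMap (C ⊗[A] B) (Localization.Away ((1 : C) ⊗ₜ[A] h))) :=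
    IsLocalization.injective _ hle
  exact isReduced_of_injective _ h3

/-- An injective endomorphism `φ` of an `A`-module `B` whose cokernel `M` becomes flat over `A_a`
stays injective after tensoring with any `A`-algebra `C` in which `a` is invertible. -/
theorem injective_lTensor_of_flat_away {A : Type u} [CommRing A] {B M : Type u} [AddCommGroup B]
    [Module A B] [AddCommGroup M] [Module A M] (φ : B →ₗ[A] B) (hφ : Function.Injective φ)
    (π : B →ₗ[A] M) (hπ : Function.Surjective π) (hex : Function.Exact φ π) (a : A)
    [Module.Flat (Localization.Away a) (Localization.Away a ⊗[A] M)]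
    (C : Type u) [CommRing C] [Algebra A C] (ha : IsUnit (algebraMap A C a)) :
    Function.Injective (φ.lTensor C) := by
  letI : Algebra (Localization.Away a) C := (IsLocalization.Away.lift a ha).toAlgebra
  haveI : IsScalarTower A (Localization.Away a) C :=
    IsScalarTower.of_algebraMap_eq (fun x => (IsLocalization.Away.lift_eq a ha x).symm)
  set φ' : Localization.Away a ⊗[A] B →ₗ[Localization.Away a] Localization.Away a ⊗[A] B :=
    φ.baseChange (Localization.Away a) with hφ'
  set π' : Localization.Away a ⊗[A] B →ₗ[Localization.Away a] Localization.Away a ⊗[A] M :=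
    π.baseChange (Localization.Away a) with hπ'
  have hφ'inj : Function.Injective φ' :=
    Module.Flat.lTensor_preserves_injective_linearMap (M := Localization.Away a) φ hφ
  have hπ'surj : Function.Surjective π' := LinearMap.lTensor_surjective _ hπ
  have hex' : Function.Exact φ' π' := lTensor_exact (Localization.Away a) hex hπ
  have key := LinearMap.lTensor_injective_of_exact_of_flat π' hπ'surj φ' hφ'inj hex' C
  let e := TensorProduct.AlgebraTensorModule.cancelBaseChange A (Localization.Away a)
    (Localization.Away a) C B
  have hcomm : ∀ z, e ((φ'.lTensor C) z) = (φ.lTensor C) (e z) := by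
    intro z
    induction z using TensorProduct.induction_on with
    | zero => simp
    | add x y hx hy => simp only [map_add, hx, hy]
    | tmul c w =>
      induction w using TensorProduct.induction_on with
      | zero => simp
      | add x y hx hy => simp only [tmul_add, map_add, hx, hy]
      | tmul r b =>
        simp [e, φ', LinearMap.baseChange_tmul]
  rw [injective_iff_map_eq_zero]
  intro x hx
  have h1 : (φ'.lTensor C) (e.symm x) = 0 := by
    apply e.injective
    rw [hcomm, LinearEquiv.apply_symm_apply, hx, map_zero]
  have h2 := (injective_iff_map_eq_zero _).mp key _ h1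
  have := congrArg e h2
  rwa [LinearEquiv.apply_symm_apply, map_zero] at this

end Groth.Agent.Lib.helper9.GRGen
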