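import Mathlib
import Groth.Agent.Lib.Helper9.GRGen1
import Groth.Agent.Lib.Helper3.GeomRed2
import Groth.Agent.Lib.Helper17.FieldLift
import Groth.Agent.Lib.Helper11.GenFree9

/-!
# Generic geometric reducedness: the algebraic core (helper9)

`A` a domain with fraction field `K`, `B` an `A`-algebra of finite type with `K ⊗[A] B` geometrically
reduced over `K`.  Then there is `a ≠ 0` in `A` such that `C ⊗[A] B` is reduced for every field `C`
over `A` in which `a` is invertible (`exists_reduced_fibres`).
-/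

set_option autoImplicit false
set_option linter.style.haveILetI false
universe u

open TensorProduct

namespace Groth.Agent.Lib.helper9.GRGen

/-- For a minimal prime `q` of a reduced ring `R`, the fraction field of `R ⧸ q` is the
localization of `R` at `q`. (copied from `Groth.Agent.S2714`.) -/
theorem isLocalization_fractionRing_quotient {R : Type u} [CommRing R] [IsReduced R]
    (q : Ideal R) [q.IsPrime] (hq : q ∈ minimalPrimes R) :
    IsLocalization q.primeCompl (FractionRing (R ⧸ q)) := by
  haveI : Ring.KrullDimLE 0 (Localization.AtPrime q) := .of_isLocalization _ hq _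
  have hfield : IsField (Localization.AtPrime q) := Ring.KrullDimLE.isField_of_isReduced
  have hmax : IsLocalRing.maximalIdeal (Localization.AtPrime q) = ⊥ :=
    IsLocalRing.isField_iff_maximalIdeal_eq.mp hfield
  have hker : ∀ x : R, x ∈ q → ∃ c : q.primeCompl, (c : R) * x = 0 := by
    intro x hx
    have h1 : algebraMap R (Localization.AtPrime q) x ∈
        IsLocalRing.maximalIdeal (Localization.AtPrime q) := by
      rw [← Localization.AtPrime.map_eq_maximalIdeal]
      exact Ideal.mem_map_of_mem _ hx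
    rw [hmax, Ideal.mem_bot] at h1
    exact (IsLocalization.map_eq_zero_iff q.primeCompl (Localization.AtPrime q) x).mp h1
  have hmapeq : ∀ x : R, algebraMap R (FractionRing (R ⧸ q)) x = 0 ↔ x ∈ q := by
    intro x
    rw [IsScalarTower.algebraMap_apply R (R ⧸ q) (FractionRing (R ⧸ q)),
      map_eq_zero_iff _ (IsFractionRing.injective (R ⧸ q) (FractionRing (R ⧸ q))),
      Ideal.Quotient.algebraMap_eq, Ideal.Quotient.eq_zero_iff_mem]
  rw [isLocalization_iff]
  refine ⟨?_, ?_, ?_⟩
  · rintro ⟨s, hs⟩
    refine IsUnit.mk0 _ ?_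
    intro h0
    exact hs ((hmapeq s).mp h0)
  · intro z
    obtain ⟨⟨a, ⟨s, hs⟩⟩, hz⟩ := IsLocalization.surj (nonZeroDivisors (R ⧸ q)) z
    obtain ⟨a', rfl⟩ := Ideal.Quotient.mk_surjective a
    obtain ⟨s', rfl⟩ := Ideal.Quotient.mk_surjective s
    have hs' : s' ∉ q := by
      intro hmem
      have : (Ideal.Quotient.mk q s') = 0 := Ideal.Quotient.eq_zero_iff_mem.mpr hmem
      exact nonZeroDivisors.ne_zero hs this
    refine ⟨⟨a', ⟨s', hs'⟩⟩, ?_⟩
    simpa [IsScalarTower.algebraMap_apply R (R ⧸ q) (FractionRing (R ⧸ q))] using hz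
  · intro x y hxy
    have h1 : x - y ∈ q := by
      rw [← hmapeq, map_sub, hxy, sub_self]
    obtain ⟨c, hc⟩ := hker _ h1
    refine ⟨c, ?_⟩
    rw [mul_sub] at hc
    exact sub_eq_zero.mp hc

/-- Reducedness of `Ω ⊗ R` passes to `Ω ⊗ L` for a localization `L` of `R`.
(copied from `Groth.Agent.S2714`.) -/
theorem isReduced_tensor_of_isLocalization {A : Type u} [CommRing A] (Ω R L : Type u)
    [CommRing Ω] [CommRing R] [CommRing L] [Algebra A Ω] [Algebra A R] [Algebra R L] [Algebra A L]
    [IsScalarTower A R L] (M : Submonoid R) [IsLocalization M L] (h : IsReduced (Ω ⊗[A] R)) :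
    IsReduced (Ω ⊗[A] L) := by
  have h1 : IsReduced (R ⊗[A] Ω) := Groth.Agent.Lib.helper3.GeomRed.isReduced_comm _ _ h
  letI : Algebra (R ⊗[A] Ω) (L ⊗[R] (R ⊗[A] Ω)) := Algebra.TensorProduct.rightAlgebra
  haveI : IsLocalization (Algebra.algebraMapSubmonoid (R ⊗[A] Ω) M) (L ⊗[R] (R ⊗[A] Ω)) :=
    IsLocalization.tensorRight _ M
  have h2 : IsReduced (L ⊗[R] (R ⊗[A] Ω)) :=
    isReduced_localizationPreserves (Algebra.algebraMapSubmonoid (R ⊗[A] Ω) M) _ h1
  have h3 : IsReduced (L ⊗[A] Ω) :=
    isReduced_of_injective (Algebra.TensorProduct.cancelBaseChange A R R L Ω).symm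
      (Algebra.TensorProduct.cancelBaseChange A R R L Ω).symm.injective
  exact Groth.Agent.Lib.helper3.GeomRed.isReduced_comm _ _ h3

/-- Geometric reducedness of a base change `k ⊗[A] F` over a field `k`, in terms of `A`.
(copied from `Groth.Agent.S2714`.) -/
theorem isGeometricallyReduced_tensor_iff {A : Type u} [CommRing A] (k F : Type u) [Field k]
    [CommRing F] [Algebra A k] [Algebra A F] :
    Algebra.IsGeometricallyReduced k (k ⊗[A] F) ↔ IsReduced (AlgebraicClosure k ⊗[A] F) := by
  rw [Algebra.isGeometricallyReduced_field_iff]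
  constructor
  · intro h
    exact isReduced_of_injective
      (Algebra.TensorProduct.cancelBaseChange A k k (AlgebraicClosure k) F).symm
      (Algebra.TensorProduct.cancelBaseChange A k k (AlgebraicClosure k) F).symm.injective
  · intro h
    exact isReduced_of_injective
      (Algebra.TensorProduct.cancelBaseChange A k k (AlgebraicClosure k) F)
      (Algebra.TensorProduct.cancelBaseChange A k k (AlgebraicClosure k) F).injective

section Core

variable (A : Type u) [CommRing A] [IsDomain A] (K : Type u) [Field K] [Algebra A K]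
  [IsFractionRing A K] (B : Type u) [CommRing B] [Algebra A B]

attribute [local instance] Algebra.TensorProduct.rightAlgebra

/-- The primes of `B` lying under the minimal primes of the geometrically reduced generic fibre
`K ⊗[A] B` are in the smooth locus of `B` over `A`. -/
theorem isSmoothAt_comap_of_mem_minimalPrimes [Algebra.IsGeometricallyReduced K (K ⊗[A] B)]
    (Q : Ideal (K ⊗[A] B)) [Q.IsPrime] (hQ : Q ∈ minimalPrimes (K ⊗[A] B)) :
    Algebra.IsSmoothAt A (Q.comap (algebraMap B (K ⊗[A] B))) := by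
  haveI : IsReduced (K ⊗[A] B) := Algebra.isReduced_of_isGeometricallyReduced K
  haveI hloc : IsLocalization Q.primeCompl (FractionRing ((K ⊗[A] B) ⧸ Q)) :=
    isLocalization_fractionRing_quotient Q hQ
  haveI hloc' : IsLocalization.AtPrime (FractionRing ((K ⊗[A] B) ⧸ Q)) Q := hloc
  haveI : IsLocalization (Algebra.algebraMapSubmonoid B (nonZeroDivisors A)) (K ⊗[A] B) :=
    IsLocalization.tensorRight K (nonZeroDivisors A)
  haveI : IsScalarTower B (K ⊗[A] B) (FractionRing ((K ⊗[A] B) ⧸ Q)) :=
    IsScalarTower.of_algebraMap_eq (fun x => rfl)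
  haveI hat : IsLocalization.AtPrime (FractionRing ((K ⊗[A] B) ⧸ Q))
      (Q.comap (algebraMap B (K ⊗[A] B))) :=
    IsLocalization.isLocalization_isLocalization_atPrime_isLocalization
      (Algebra.algebraMapSubmonoid B (nonZeroDivisors A)) (FractionRing ((K ⊗[A] B) ⧸ Q)) Q
  -- geometric reducedness of the residue field
  have hred : IsReduced (AlgebraicClosure K ⊗[K] (K ⊗[A] B)) :=
    (Algebra.isGeometricallyReduced_field_iff K (K ⊗[A] B)).mp inferInstance
  haveI : IsScalarTower K (K ⊗[A] B) (FractionRing ((K ⊗[A] B) ⧸ Q)) :=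
    IsScalarTower.of_algebraMap_eq (fun x => rfl)
  haveI : Algebra.IsGeometricallyReduced K (FractionRing ((K ⊗[A] B) ⧸ Q)) :=
    (Algebra.isGeometricallyReduced_field_iff K _).mpr
      (isReduced_tensor_of_isLocalization (A := K) (AlgebraicClosure K) (K ⊗[A] B)
        (FractionRing ((K ⊗[A] B) ⧸ Q)) Q.primeCompl hred)
  haveI : Algebra.FormallySmooth K (FractionRing ((K ⊗[A] B) ⧸ Q)) :=
    Groth.Agent.Lib.helper17.FieldLift.formallySmooth_of_isGeometricallyReduced
  haveI : Algebra.FormallySmooth A K := Algebra.FormallySmooth.of_isLocalization (nonZeroDivisors A)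
  haveI : IsScalarTower A K (FractionRing ((K ⊗[A] B) ⧸ Q)) :=
    IsScalarTower.of_algebraMap_eq (fun x => rfl)
  haveI : Algebra.FormallySmooth A (FractionRing ((K ⊗[A] B) ⧸ Q)) :=
    Algebra.FormallySmooth.comp A K _
  let e : Localization.AtPrime (Q.comap (algebraMap B (K ⊗[A] B))) ≃ₐ[B]
      FractionRing ((K ⊗[A] B) ⧸ Q) :=
    IsLocalization.algEquiv (Q.comap (algebraMap B (K ⊗[A] B))).primeCompl _ _
  haveI : IsScalarTower A B (FractionRing ((K ⊗[A] B) ⧸ Q)) := by
    refine IsScalarTower.of_algebraMap_eq (fun x => ?_)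
    have h1 : algebraMap A (FractionRing ((K ⊗[A] B) ⧸ Q)) x =
        algebraMap (K ⊗[A] B) (FractionRing ((K ⊗[A] B) ⧸ Q)) (algebraMap A (K ⊗[A] B) x) := rfl
    have h2 : algebraMap B (FractionRing ((K ⊗[A] B) ⧸ Q)) (algebraMap A B x) =
        algebraMap (K ⊗[A] B) (FractionRing ((K ⊗[A] B) ⧸ Q))
          (algebraMap B (K ⊗[A] B) (algebraMap A B x)) := rfl
    rw [h1, h2, ← IsScalarTower.algebraMap_apply A B (K ⊗[A] B)]
  exact Algebra.FormallySmooth.of_equiv (e.restrictScalars A).symm

/-- **Flat, finitely presented case.** -/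
theorem exists_reduced_fibres_of_flat [Algebra.FinitePresentation A B] [Module.Flat A B]
    [Algebra.IsGeometricallyReduced K (K ⊗[A] B)] :
    ∃ a : A, a ≠ 0 ∧ ∀ (C : Type u) [Field C] [Algebra A C], algebraMap A C a ≠ 0 →
      IsReduced (C ⊗[A] B) := by
  classical
  by_cases hB : Subsingleton B
  · refine ⟨1, one_ne_zero, fun C _ _ _ => ?_⟩
    haveI : Subsingleton (C ⊗[A] B) := by
      refine ⟨fun x y => ?_⟩
      have h0 : ∀ z : C ⊗[A] B, z = 0 := by
        intro z
        induction z using TensorProduct.induction_on with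
        | zero => rfl
        | tmul c b => rw [Subsingleton.elim b 0, tmul_zero]
        | add x y hx hy => rw [hx, hy, add_zero]
      rw [h0 x, h0 y]
    infer_instance
  rw [not_subsingleton_iff_nontrivial] at hB
  haveI : IsReduced (K ⊗[A] B) := Algebra.isReduced_of_isGeometricallyReduced K
  haveI : Algebra.FiniteType A B := inferInstance
  haveI : Algebra.FiniteType K (K ⊗[A] B) := inferInstance
  haveI : IsNoetherianRing (K ⊗[A] B) := Algebra.FiniteType.isNoetherianRing K (K ⊗[A] B)
  have hfin : (minimalPrimes (K ⊗[A] B)).Finite :=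
    minimalPrimes.finite_of_isNoetherianRing (K ⊗[A] B)
  haveI : Fintype ↥(minimalPrimes (K ⊗[A] B)) := hfin.fintype
  have hιinj : Function.Injective (algebraMap B (K ⊗[A] B)) :=
    Algebra.TensorProduct.includeRight_injective (IsFractionRing.injective A K)
  haveI : Nontrivial (K ⊗[A] B) := hιinj.nontrivial
  haveI hprime : ∀ i : ↥(minimalPrimes (K ⊗[A] B)), (i.1).IsPrime := fun i => i.2.1.1
  set P : ↥(minimalPrimes (K ⊗[A] B)) → Ideal B :=
    fun i => (i.1).comap (algebraMap B (K ⊗[A] B)) with hP
  haveI hPprime : ∀ i, (P i).IsPrime := fun i => Ideal.comap_isPrime _ _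
  have hPU : ∀ i, (⟨P i, hPprime i⟩ : PrimeSpectrum B) ∈ Algebra.smoothLocus A B := fun i =>
    isSmoothAt_comap_of_mem_minimalPrimes A K B i.1 i.2
  have hopen : IsOpen (Algebra.smoothLocus A B) := Algebra.isOpen_smoothLocus
  set I : Ideal B := PrimeSpectrum.vanishingIdeal (Algebra.smoothLocus A B)ᶜ with hI
  obtain ⟨i₀⟩ : Nonempty ↥(minimalPrimes (K ⊗[A] B)) := by
    obtain ⟨q, hq⟩ := Ideal.nonempty_minimalPrimes (I := (⊥ : Ideal (K ⊗[A] B))) bot_ne_top
    exact ⟨⟨q, hq⟩⟩
  have hnot : ¬ ((I : Set B) ⊆ ⋃ i ∈ ((Finset.univ : Finset ↥(minimalPrimes (K ⊗[A] B))) :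
      Set ↥(minimalPrimes (K ⊗[A] B))), (P i : Set B)) := by
    rw [Ideal.subset_union_prime i₀ i₀ (fun i _ _ _ => hPprime i)]
    rintro ⟨i, -, hi⟩
    have h1 : (⟨P i, hPprime i⟩ : PrimeSpectrum B) ∈
        PrimeSpectrum.zeroLocus (I : Set B) := hi
    rw [hI, PrimeSpectrum.zeroLocus_vanishingIdeal_eq_closure,
      hopen.isClosed_compl.closure_eq] at h1
    exact h1 (hPU i)
  obtain ⟨h, hhI, hhP⟩ := Set.not_subset.mp hnot
  have hhP' : ∀ i, h ∉ P i := by
    intro i hi
    apply hhP
    simp only [Finset.coe_univ, Set.mem_univ, Set.iUnion_true, Set.mem_iUnion]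
    exact ⟨i, hi⟩
  have hDh : (PrimeSpectrum.basicOpen h : Set (PrimeSpectrum B)) ⊆ Algebra.smoothLocus A B := by
    intro p hp
    by_contra hpU
    exact hp ((PrimeSpectrum.mem_vanishingIdeal _ _).mp hhI p hpU)
  haveI : Algebra.Smooth A (Localization.Away h) :=
    Algebra.basicOpen_subset_smoothLocus_iff_smooth.mp hDh
  -- `h` is a nonzerodivisor
  have hnzd : ∀ x : K ⊗[A] B, algebraMap B (K ⊗[A] B) h * x = 0 → x = 0 := by
    intro x hx
    have hmem : x ∈ sInf (minimalPrimes (K ⊗[A] B)) := by
      rw [Ideal.mem_sInf]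
      intro Q hQ
      haveI : Ideal.IsPrime Q := hQ.1.1
      have h0 : algebraMap B (K ⊗[A] B) h * x ∈ Q := by rw [hx]; exact Q.zero_mem
      rcases Ideal.IsPrime.mem_or_mem inferInstance h0 with h1 | h1
      · exact absurd (show h ∈ P ⟨Q, hQ⟩ from h1) (hhP' ⟨Q, hQ⟩)
      · exact h1
    have hrad : sInf (minimalPrimes (K ⊗[A] B)) = (⊥ : Ideal (K ⊗[A] B)) := by
      have := Ideal.sInf_minimalPrimes (I := (⊥ : Ideal (K ⊗[A] B)))
      rw [minimalPrimes, this]
      exact (nilradical_eq_zero (K ⊗[A] B))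
    rw [hrad] at hmem
    exact hmem
  have hhinj : ∀ b : B, h * b = 0 → b = 0 := by
    intro b hb
    apply hιinj
    rw [map_zero]
    apply hnzd
    rw [← map_mul, hb, map_zero]
  -- generic flatness of `B ⧸ (h)`
  haveI : Algebra.FiniteType A (B ⧸ Ideal.span {h}) :=
    Algebra.FiniteType.of_surjective (Ideal.Quotient.mkₐ A (Ideal.span {h}))
      (Ideal.Quotient.mkₐ_surjective A _)
  obtain ⟨a, ha, hfree, -⟩ := Groth.Agent.Lib.helper11.GenFree.generic_freeness_full (R := A)
    (B ⧸ Ideal.span {h}) (B ⧸ Ideal.span {h})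
  haveI : Module.Flat (Localization.Away a) (Localization.Away a ⊗[A] (B ⧸ Ideal.span {h})) :=
    @Module.Flat.of_free _ _ _ _ _ hfree
  refine ⟨a, ha, fun C _ _ haC => ?_⟩
  set φ : B →ₗ[A] B := LinearMap.mulLeft A h with hφ
  set π : B →ₗ[A] (B ⧸ Ideal.span {h}) := (Ideal.Quotient.mkₐ A (Ideal.span {h})).toLinearMap
    with hπ
  have hφinj : Function.Injective φ := by
    rw [injective_iff_map_eq_zero]
    intro b hb
    exact hhinj b hb
  have hπsurj : Function.Surjective π := Ideal.Quotient.mkₐ_surjective A _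
  have hex : Function.Exact φ π := by
    intro b
    constructor
    · intro hb
      have h1 : b ∈ Ideal.span {h} := Ideal.Quotient.eq_zero_iff_mem.mp hb
      obtain ⟨c, hc⟩ := Ideal.mem_span_singleton'.mp h1
      exact ⟨c, by rw [← hc, mul_comm]; rfl⟩
    · rintro ⟨c, rfl⟩
      apply Ideal.Quotient.eq_zero_iff_mem.mpr
      exact Ideal.mem_span_singleton'.mpr ⟨c, by rw [mul_comm]; rfl⟩
  have hinj' := injective_lTensor_of_flat_away φ hφinj π hπsurj hex a C (IsUnit.mk0 _ haC)
  apply isReduced_tensor_of_smooth_away h C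
  intro x hx
  have hcomp : ∀ z : C ⊗[A] B, (φ.lTensor C) z = ((1 : C) ⊗ₜ[A] h) * z := by
    intro z
    induction z using TensorProduct.induction_on with
    | zero => simp
    | tmul c b => simp [φ]
    | add x y hx hy => rw [map_add, hx, hy, mul_add]
  exact (injective_iff_map_eq_zero _).mp hinj' x (by rw [hcomp]; exact hx)

/-- **Generic geometric reducedness, algebraic form.**  `A` a domain with fraction field `K`, `B` of
finite type over `A` with geometrically reduced generic fibre.  Then for some `a ≠ 0`, every fibre of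
`B` over a field-valued point of `D(a)` is reduced. -/
theorem exists_reduced_fibres [Algebra.FiniteType A B]
    [Algebra.IsGeometricallyReduced K (K ⊗[A] B)] :
    ∃ a : A, a ≠ 0 ∧ ∀ (C : Type u) [Field C] [Algebra A C], algebraMap A C a ≠ 0 →
      IsReduced (C ⊗[A] B) := by
  obtain ⟨f, hf, -, hfree, hfp, -⟩ :=
    Groth.Agent.Lib.helper11.GenFree.generic_freeness_full (R := A) B B
  haveI : IsDomain (Localization.Away f) :=
    IsLocalization.isDomain_localization (powers_le_nonZeroDivisors_of_noZeroDivisors hf)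
  have hfK : IsUnit (algebraMap A K f) :=
    IsUnit.mk0 _ (by rwa [Ne, map_eq_zero_iff _ (IsFractionRing.injective A K)])
  letI : Algebra (Localization.Away f) K := (IsLocalization.Away.lift f hfK).toAlgebra
  haveI : IsScalarTower A (Localization.Away f) K :=
    IsScalarTower.of_algebraMap_eq (fun x => (IsLocalization.Away.lift_eq f hfK x).symm)
  haveI : IsFractionRing (Localization.Away f) K :=
    IsFractionRing.isFractionRing_of_isDomain_of_isLocalization (Submonoid.powers f) _ _
  haveI : Module.Flat (Localization.Away f) (Localization.Away f ⊗[A] B) :=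
    @Module.Flat.of_free _ _ _ _ _ hfree
  haveI := hfp
  let e := Algebra.TensorProduct.cancelBaseChange A (Localization.Away f) K K B
  haveI : Algebra.IsGeometricallyReduced K
      (K ⊗[Localization.Away f] (Localization.Away f ⊗[A] B)) :=
    Algebra.IsGeometricallyReduced.of_injective e.toAlgHom e.injective
  obtain ⟨a', ha', H⟩ :=
    exists_reduced_fibres_of_flat (Localization.Away f) K (Localization.Away f ⊗[A] B)
  obtain ⟨n, x, hx⟩ := IsLocalization.Away.surj f a'
  have hx0 : x ≠ 0 := by
    rintro rfl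
    rw [map_zero] at hx
    have hu : IsUnit (algebraMap A (Localization.Away f) f ^ n) :=
      (IsLocalization.Away.algebraMap_isUnit f).pow n
    exact ha' (hu.mul_left_eq_zero.mp hx)
  refine ⟨f * x, mul_ne_zero hf hx0, fun C _ _ hC => ?_⟩
  rw [map_mul] at hC
  have hfC : algebraMap A C f ≠ 0 := left_ne_zero_of_mul hC
  have hxC : algebraMap A C x ≠ 0 := right_ne_zero_of_mul hC
  letI : Algebra (Localization.Away f) C :=
    (IsLocalization.Away.lift f (IsUnit.mk0 _ hfC)).toAlgebra
  haveI : IsScalarTower A (Localization.Away f) C :=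
    IsScalarTower.of_algebraMap_eq
      (fun x => (IsLocalization.Away.lift_eq f (IsUnit.mk0 _ hfC) x).symm)
  have ha'C : algebraMap (Localization.Away f) C a' ≠ 0 := by
    intro h0
    have h1 := congrArg (algebraMap (Localization.Away f) C) hx
    rw [map_mul, h0, zero_mul, ← IsScalarTower.algebraMap_apply] at h1
    exact hxC h1.symm
  have h1 := H C ha'C
  exact isReduced_of_injective
    (Algebra.TensorProduct.cancelBaseChange A (Localization.Away f) C C B).symm
    (Algebra.TensorProduct.cancelBaseChange A (Localization.Away f) C C B).symm.injective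

end Core

end Groth.Agent.Lib.helper9.GRGen
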