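import Mathlib

/-!
# Geometric reducedness of fibres and base change (helper9)

* `geometricallyReduced_fiber_iff`: the fibre of `f` at `y` is geometrically reduced iff
  `X ×_Y Spec L` is reduced for every field-valued point `Spec L ⟶ Y` with image `y`.
* `isReduced_of_isReduced_pullback_field`: reducedness descends along field extensions.
* `geometricallyReduced_fiber_iff_of_isPullback`: for a pullback square, the fibre of `f'` at `y'`
  is geometrically reduced iff the fibre of `f` at `g y'` is.
* `geometricallyReduced_iff_forall_fiber`.
-/

set_option autoImplicit false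
set_option linter.style.haveILetI false
set_option backward.isDefEq.respectTransparency false
universe u

open CategoryTheory CategoryTheory.Limits AlgebraicGeometry

namespace Groth.Agent.Lib.helper9.GRGen

/-- the fibre of `f` at `y` is geometrically reduced iff `X ×_Y Spec L` is reduced for every
field-valued point `Spec L ⟶ Y` with image `y`. -/
theorem geometricallyReduced_fiber_iff {X Y : Scheme.{u}} (f : X ⟶ Y) (y : Y) :
    GeometricallyReduced (f.fiberToSpecResidueField y) ↔
      ∀ (L : Type u) [Field L] (t : Spec (CommRingCat.of L) ⟶ Y),
        t (IsLocalRing.closedPoint L) = y → AlgebraicGeometry.IsReduced (pullback f t) := by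
  constructor
  · intro h L _ t ht
    obtain ⟨⟨y', φ⟩, rfl⟩ := (Scheme.SpecToEquivOfField L Y).symm.surjective t
    have hy' : y' = y := by
      rw [← ht]
      simp [Scheme.SpecToEquivOfField]
    subst hy'
    have h1 : AlgebraicGeometry.IsReduced
        (pullback (f.fiberToSpecResidueField y') (Spec.map φ)) :=
      pullback_of_geometrically (P := @AlgebraicGeometry.IsReduced)
        (GeometricallyReduced.geometrically_isReduced (f := f.fiberToSpecResidueField y')) L
        (Spec.map φ)
    exact @isReduced_of_isOpenImmersion _ _
      (pullbackLeftPullbackSndIso f (Y.fromSpecResidueField y') (Spec.map φ)).inv inferInstance h1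
  · intro h
    refine ⟨(geometrically_iff_of_isClosedUnderIsomorphisms).mpr fun L _ t' => ?_⟩
    have h1 : AlgebraicGeometry.IsReduced (pullback f (t' ≫ Y.fromSpecResidueField y)) := by
      apply h L
      rw [Scheme.Hom.comp_apply]
      exact Scheme.fromSpecResidueField_apply _ _
    exact @isReduced_of_isOpenImmersion _ _
      (pullbackLeftPullbackSndIso f (Y.fromSpecResidueField y) t').hom inferInstance h1

/-- reducedness descends along field extensions. -/
theorem isReduced_of_isReduced_pullback_field {W : Scheme.{u}} {L Ω : Type u} [Field L] [Field Ω]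
    (w : W ⟶ Spec (CommRingCat.of L)) (e : Spec (CommRingCat.of Ω) ⟶ Spec (CommRingCat.of L))
    (h : AlgebraicGeometry.IsReduced (pullback w e)) : AlgebraicGeometry.IsReduced W := by
  haveI : Surjective e := ⟨fun x => ⟨IsLocalRing.closedPoint Ω, Subsingleton.elim _ _⟩⟩
  haveI : IsSchemeTheoreticallyDominant e := IsSchemeTheoreticallyDominant.of_isDominant e
  haveI : Flat w := inferInstance
  haveI : IsSchemeTheoreticallyDominant (pullback.fst w e) := inferInstance
  exact IsSchemeTheoreticallyDominant.isReduced (pullback.fst w e)

/-- for a pullback square, the fibre of `f'` at `y'` is geometrically reduced iff the fibre of `f`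
at `g y'` is. -/
theorem geometricallyReduced_fiber_iff_of_isPullback {X Y X' Y' : Scheme.{u}} {f : X ⟶ Y}
    {f' : X' ⟶ Y'} {g' : X' ⟶ X} {g : Y' ⟶ Y} (hc : IsPullback g' f' f g) (y' : Y') :
    GeometricallyReduced (f'.fiberToSpecResidueField y') ↔
      GeometricallyReduced (f.fiberToSpecResidueField (g y')) := by
  constructor
  · intro h
    rw [geometricallyReduced_fiber_iff] at h ⊢
    intro L _ t ht
    -- a common field extension
    set r : Spec (Y'.residueField y') ⟶ Y := Y'.fromSpecResidueField y' ≫ g with hr
    have hpt : t (IsLocalRing.closedPoint L) = r (IsLocalRing.closedPoint (Y'.residueField y')) := by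
      rw [ht, hr, Scheme.Hom.comp_apply, Scheme.fromSpecResidueField_apply]
    obtain ⟨z, -, -⟩ := Scheme.Pullback.exists_preimage_pullback (f := t) (g := r) _ _ hpt
    set T := pullback t r with hT
    set s : Spec (T.residueField z) ⟶ T := T.fromSpecResidueField z with hs
    set s₁ : Spec (T.residueField z) ⟶ Spec (CommRingCat.of L) := s ≫ pullback.fst t r with hs₁
    set s₂ : Spec (T.residueField z) ⟶ Y' :=
      s ≫ pullback.snd t r ≫ Y'.fromSpecResidueField y' with hs₂
    have hcomm : s₁ ≫ t = s₂ ≫ g := by
      rw [hs₁, hs₂, Category.assoc, pullback.condition]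
      simp only [Category.assoc]
      rfl
    have hs₂pt : s₂ (IsLocalRing.closedPoint (T.residueField z)) = y' := by
      rw [hs₂, Scheme.Hom.comp_apply, Scheme.Hom.comp_apply, Scheme.fromSpecResidueField_apply]
    have h1 : AlgebraicGeometry.IsReduced (pullback f' s₂) := h (T.residueField z) s₂ hs₂pt
    have hp : IsPullback (pullback.fst f' s₂ ≫ g') (pullback.snd f' s₂) f (s₂ ≫ g) :=
      (IsPullback.of_hasPullback f' s₂).paste_horiz hc
    have h2 : AlgebraicGeometry.IsReduced (pullback f (s₂ ≫ g)) :=
      @isReduced_of_isOpenImmersion _ _ hp.isoPullback.inv inferInstance h1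
    have h3 : AlgebraicGeometry.IsReduced (pullback f (s₁ ≫ t)) :=
      @isReduced_of_isOpenImmersion _ _ (pullback.congrHom rfl hcomm).hom inferInstance h2
    have h4 : AlgebraicGeometry.IsReduced (pullback (pullback.snd f t) s₁) :=
      @isReduced_of_isOpenImmersion _ _ (pullbackLeftPullbackSndIso f t s₁).hom inferInstance h3
    exact isReduced_of_isReduced_pullback_field (pullback.snd f t) s₁ h4
  · intro h
    exact MorphismProperty.of_isPullback (isPullback_fiberToSpecResidueField_of_isPullback hc y') h

/-- a morphism is geometrically reduced iff all its fibres are. -/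
theorem geometricallyReduced_iff_forall_fiber {X Y : Scheme.{u}} (f : X ⟶ Y) :
    GeometricallyReduced f ↔ ∀ y : Y, GeometricallyReduced (f.fiberToSpecResidueField y) := by
  simp only [geometricallyReduced_iff]
  exact geometrically_iff_forall_fiberToSpecResidueField

end Groth.Agent.Lib.helper9.GRGen
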