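/-
Helper library (helper9): counting irreducible and connected components of a space covered by
finitely many closed irreducible subsets.
-/
import Mathlib

set_option autoImplicit false
set_option linter.style.haveILetI false

namespace Groth.Agent.Lib.helper9.NGeom

open Topology TopologicalSpace Set

universe u v

section Irr

variable {T : Type u} [TopologicalSpace T] {ι : Type v} [Finite ι] (C : ι → Set T)

/-- An irreducible subset of a finite union of closed sets lies in one of them. -/
theorem exists_subset_of_isIrreducible (hclosed : ∀ i, IsClosed (C i)) {S : Set T}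
    (hS : IsIrreducible S) (hSC : S ⊆ ⋃ i, C i) : ∃ i, S ⊆ C i := by
  classical
  haveI : Fintype ι := Fintype.ofFinite ι
  obtain ⟨z, hz, hSz⟩ := (isIrreducible_iff_sUnion_isClosed.mp hS) (Finset.univ.image C)
    (by
      intro z hz
      obtain ⟨i, -, rfl⟩ := Finset.mem_image.mp hz
      exact hclosed i)
    (by
      intro x hx
      obtain ⟨i, hi⟩ := Set.mem_iUnion.mp (hSC hx)
      exact Set.mem_sUnion.mpr ⟨C i, Finset.mem_coe.mpr (Finset.mem_image_of_mem _ (Finset.mem_univ i)), hi⟩)
  obtain ⟨i, -, rfl⟩ := Finset.mem_image.mp hz
  exact ⟨i, hSz⟩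

/-- The irreducible components of a space covered by finitely many pairwise incomparable closed
irreducible subsets are exactly these subsets. -/
theorem irreducibleComponents_eq_range (hclosed : ∀ i, IsClosed (C i))
    (hirr : ∀ i, IsIrreducible (C i)) (hcov : ⋃ i, C i = Set.univ)
    (hinc : ∀ i j, C i ⊆ C j → i = j) : irreducibleComponents T = Set.range C := by
  ext S
  constructor
  · intro hS
    obtain ⟨i, hi⟩ := exists_subset_of_isIrreducible C hclosed hS.1 (by rw [hcov]; exact subset_univ _)
    exact ⟨i, Set.Subset.antisymm (hS.2 (hirr i) hi) hi⟩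
  · rintro ⟨i, rfl⟩
    obtain ⟨S, hS, hCS⟩ := exists_mem_irreducibleComponents_subset_of_isIrreducible (C i) (hirr i)
    obtain ⟨j, hj⟩ := exists_subset_of_isIrreducible C hclosed hS.1
      (by rw [hcov]; exact subset_univ _)
    have hij : i = j := hinc i j (hCS.trans hj)
    subst hij
    have : S = C i := Set.Subset.antisymm hj hCS
    rw [← this]
    exact hS

theorem encard_irreducibleComponents_eq (hclosed : ∀ i, IsClosed (C i))
    (hirr : ∀ i, IsIrreducible (C i)) (hcov : ⋃ i, C i = Set.univ)
    (hinc : ∀ i j, C i ⊆ C j → i = j) :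
    (irreducibleComponents T).encard = ENat.card ι := by
  rw [irreducibleComponents_eq_range C hclosed hirr hcov hinc]
  have hinj : Function.Injective C := fun i j h => hinc i j h.le
  rw [← Set.image_univ, hinj.encard_image, Set.encard_univ]

end Irr

section Conn

variable {T : Type u} [TopologicalSpace T] {ι : Type v} [Finite ι] (C : ι → Set T)

/-- The connected components of a space covered by finitely many closed connected subsets
correspond to the classes of the equivalence relation generated by "the subsets meet". -/
theorem card_connectedComponents_eq (hclosed : ∀ i, IsClosed (C i))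
    (hconn : ∀ i, IsConnected (C i)) (hcov : ⋃ i, C i = Set.univ) :
    ENat.card (ConnectedComponents T) =
      ENat.card (Quot (fun i j : ι => (C i ∩ C j).Nonempty)) := by
  classical
  set r : ι → ι → Prop := fun i j => (C i ∩ C j).Nonempty with hr
  choose t ht using fun i => (hconn i).nonempty
  -- two members of the cover that meet lie in one connected component
  have hmk : ∀ i, ∀ x ∈ C i, ConnectedComponents.mk x = ConnectedComponents.mk (t i) := by
    intro i x hx
    rw [ConnectedComponents.coe_eq_coe']
    exact (hconn i).isPreconnected.subset_connectedComponent (ht i) hx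
  have hΦwd : ∀ i j, r i j → ConnectedComponents.mk (t i) = ConnectedComponents.mk (t j) := by
    rintro i j ⟨x, hxi, hxj⟩
    rw [← hmk i x hxi, ← hmk j x hxj]
  let Φ : Quot r → ConnectedComponents T := Quot.lift (fun i => ConnectedComponents.mk (t i)) hΦwd
  have hsurj : Function.Surjective Φ := by
    intro c
    obtain ⟨x, rfl⟩ := ConnectedComponents.surjective_coe c
    have hx : x ∈ ⋃ i, C i := by rw [hcov]; exact mem_univ x
    obtain ⟨i, hi⟩ := Set.mem_iUnion.mp hx
    exact ⟨Quot.mk r i, (hmk i x hi).symm⟩
  have hinj : Function.Injective Φ := by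
    intro a b hab
    induction a using Quot.inductionOn with | _ i => ?_
    induction b using Quot.inductionOn with | _ j => ?_
    change ConnectedComponents.mk (t i) = ConnectedComponents.mk (t j) at hab
    set U : Set T := ⋃ (k : ι) (_ : Quot.mk r k = Quot.mk r i), C k with hU
    set U' : Set T := ⋃ (k : ι) (_ : Quot.mk r k ≠ Quot.mk r i), C k with hU'
    have hUc : IsClosed U := isClosed_iUnion_of_finite fun k => isClosed_iUnion_of_finite
      fun _ => hclosed k
    have hU'c : IsClosed U' := isClosed_iUnion_of_finite fun k => isClosed_iUnion_of_finite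
      fun _ => hclosed k
    have hdisj : U ∩ U' = ∅ := by
      apply Set.eq_empty_of_forall_notMem
      rintro x ⟨hx, hx'⟩
      obtain ⟨k, hk, hxk⟩ := Set.mem_iUnion₂.mp hx
      obtain ⟨k', hk', hxk'⟩ := Set.mem_iUnion₂.mp hx'
      apply hk'
      rw [← hk]
      exact (Quot.sound (⟨x, hxk, hxk'⟩ : r k k')).symm
    have hunion : U ∪ U' = Set.univ := by
      rw [Set.eq_univ_iff_forall]
      intro x
      have hx : x ∈ ⋃ i, C i := by rw [hcov]; exact mem_univ x
      obtain ⟨k, hk⟩ := Set.mem_iUnion.mp hx
      by_cases h : Quot.mk r k = Quot.mk r i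
      · exact Or.inl (Set.mem_iUnion₂.mpr ⟨k, h, hk⟩)
      · exact Or.inr (Set.mem_iUnion₂.mpr ⟨k, h, hk⟩)
    have hUeq : U = U'ᶜ := by
      ext x
      constructor
      · intro hx hx'
        have : x ∈ U ∩ U' := ⟨hx, hx'⟩
        rw [hdisj] at this
        exact this
      · intro hx
        have : x ∈ U ∪ U' := by rw [hunion]; exact mem_univ x
        exact this.resolve_right hx
    have hUclopen : IsClopen U := ⟨hUc, by rw [hUeq]; exact hU'c.isOpen_compl⟩
    have htiU : t i ∈ U := Set.mem_iUnion₂.mpr ⟨i, rfl, ht i⟩
    have htjU : t j ∈ U := by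
      have h1 : connectedComponent (t i) ⊆ U := hUclopen.connectedComponent_subset htiU
      apply h1
      rw [ConnectedComponents.coe_eq_coe'] at hab
      rw [← connectedComponent_eq hab]
      exact mem_connectedComponent
    obtain ⟨k, hk, htjk⟩ := Set.mem_iUnion₂.mp htjU
    rw [← hk]
    exact (Quot.sound (⟨t j, ht j, htjk⟩ : r j k)).symm
  exact (ENat.card_congr (Equiv.ofBijective Φ ⟨hinj, hsurj⟩)).symm

/-- Two spaces with covers by closed connected subsets having the same intersection pattern have
the same number of connected components. -/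
theorem card_connectedComponents_eq_of_pattern {T' : Type u} [TopologicalSpace T']
    (C' : ι → Set T') (hclosed : ∀ i, IsClosed (C i)) (hconn : ∀ i, IsConnected (C i))
    (hcov : ⋃ i, C i = Set.univ) (hclosed' : ∀ i, IsClosed (C' i))
    (hconn' : ∀ i, IsConnected (C' i)) (hcov' : ⋃ i, C' i = Set.univ)
    (hpat : ∀ i j, (C i ∩ C j).Nonempty ↔ (C' i ∩ C' j).Nonempty) :
    ENat.card (ConnectedComponents T) = ENat.card (ConnectedComponents T') := by
  rw [card_connectedComponents_eq C hclosed hconn hcov,
    card_connectedComponents_eq C' hclosed' hconn' hcov']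
  have : (fun i j : ι => (C i ∩ C j).Nonempty) = (fun i j : ι => (C' i ∩ C' j).Nonempty) := by
    funext i j
    exact propext (hpat i j)
  rw [this]

end Conn

end Groth.Agent.Lib.helper9.NGeom
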