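/-
Helper library (helper9): generic geometric irreducibility of the fibres, Noetherian domain base,
ring form (EGA IV 9.7.7 (i)).
-/
import Mathlib
import Groth.Agent.S7594
import Groth.Agent.Lib.Helper3.GeomIrr
import Groth.Agent.Lib.Helper9.GenIrr7
import Groth.Agent.Lib.Helper9.GeomInt1

set_option autoImplicit false
set_option linter.style.haveILetI false
set_option backward.isDefEq.respectTransparency false

namespace Groth.Agent.Lib.helper9.NGeom

open TensorProduct PrimeSpectrum AlgebraicGeometry CategoryTheory Limits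

universe u

/-- Ring form of `S7594`: if `Spec (R ⊗[k] R)` is irreducible then `R` is geometrically
irreducible over the field `k`. -/
theorem irreducibleSpace_tensor_of_prod {k R : Type u} [Field k] [CommRing R] [Algebra k R]
    (h : IrreducibleSpace (PrimeSpectrum (R ⊗[k] R))) (k' : Type u) [Field k'] [Algebra k k'] :
    IrreducibleSpace (PrimeSpectrum (k' ⊗[k] R)) := by
  letI : (Spec (CommRingCat.of R)).Over (Spec (CommRingCat.of k)) :=
    ⟨Spec.map (CommRingCat.ofHom (algebraMap k R))⟩
  have h1 : GeometricallyIrreducible (Spec.map (CommRingCat.ofHom (algebraMap k R))) := by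
    refine (Groth.Agent.S7594.result k (Spec (CommRingCat.of R))).mpr ?_
    change IrreducibleSpace ↥(pullback (Spec.map (CommRingCat.ofHom (algebraMap k R)))
      (Spec.map (CommRingCat.ofHom (algebraMap k R))))
    rw [(pullbackSpecIso k R R).hom.homeomorph.irreducibleSpace_iff]
    exact h
  exact Groth.Agent.Lib.helper3.GeomIrr.geomIrr_specMap_iff.mp h1 k'

section Top

variable {A B : Type u} [CommRing A] [IsDomain A] [IsNoetherianRing A] [CommRing B]
  [Algebra A B] [Algebra.FiniteType A B]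

/-- Generic irreducibility of the topological fibres for an algebra (possibly with torsion) whose
generic fibre is geometrically integral. -/
theorem fibres_irreducible_noeth
    (GI : ∀ (Ω : Type u) [Field Ω] [Algebra A Ω], Function.Injective (algebraMap A Ω) →
      IsDomain (Ω ⊗[A] B)) :
    ∃ a : A, a ≠ 0 ∧ ∀ p : PrimeSpectrum A, a ∉ p.asIdeal →
      IsIrreducible (comap (algebraMap A B) ⁻¹' {p}) := by
  classical
  set K := FractionRing A with hK
  haveI : IsDomain (K ⊗[A] B) := GI K (IsFractionRing.injective A K)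
  haveI : Module.Flat A K := IsLocalization.flat K (nonZeroDivisors A)
  set inc : B →ₐ[A] K ⊗[A] B := Algebra.TensorProduct.includeRight with hinc
  set q : Ideal B := RingHom.ker (inc : B →+* K ⊗[A] B) with hq
  haveI hqp : q.IsPrime := RingHom.ker_isPrime _
  haveI : IsNoetherianRing B := Algebra.FiniteType.isNoetherianRing A B
  -- elements of `q` are torsion
  have htors : ∀ b ∈ q, ∃ a : A, a ≠ 0 ∧ a • b = 0 := by
    intro b hb
    have h1 : (1 : K) ⊗ₜ[A] b = 0 := hb
    exact Groth.Agent.Lib.helper9.GeomInt.exists_ne_zero_smul_eq_zero b h1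
  have hunder : q.under A = ⊥ := by
    rw [eq_bot_iff]
    intro a ha
    rw [Ideal.under_def, Ideal.mem_comap, hq, RingHom.mem_ker] at ha
    have h1 : inc (algebraMap A B a) = 0 := ha
    rw [AlgHom.commutes, Algebra.TensorProduct.algebraMap_apply] at h1
    have hleft : Function.Injective
        (Algebra.TensorProduct.includeLeft : K →ₐ[A] K ⊗[A] B) :=
      (Algebra.TensorProduct.includeLeft : K →ₐ[A] K ⊗[A] B).toRingHom.injective
    have h2 : algebraMap A K a = 0 := hleft (by rw [map_zero]; exact h1)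
    exact (map_eq_zero_iff _ (IsFractionRing.injective A K)).mp h2
  haveI : q.LiesOver (⊥ : Ideal A) := ⟨hunder.symm⟩
  have H1 : ∀ Q : Ideal B, Q.IsPrime → Q.under A = ⊥ → q ≤ Q := by
    intro Q hQ hQu b hb
    obtain ⟨a, ha, hab⟩ := htors b hb
    have h1 : algebraMap A B a * b ∈ Q := by
      rw [← Algebra.smul_def, hab]
      exact Q.zero_mem
    rcases hQ.mem_or_mem h1 with h | h
    · exfalso
      apply ha
      have : a ∈ Q.under A := h
      rw [hQu] at this
      exact this
    · exact h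
  have H2 : ∀ (Ω : Type u) [Field Ω] [Algebra A Ω], RingHom.ker (algebraMap A Ω) = ⊥ →
      IsDomain (Ω ⊗[A] B) := fun Ω _ _ hker =>
    GI Ω ((RingHom.injective_iff_ker_eq_bot _).mpr hker)
  obtain ⟨a₁, ha₁, hirr⟩ := Groth.Agent.Lib.helper9.GenIrr.quotient_main q (⊥ : Ideal A) H1 H2
  -- a single element killing `q`
  obtain ⟨s, hs⟩ := (isNoetherianRing_iff_ideal_fg B).mp inferInstance q
  have hex : ∀ b : B, ∃ a : A, a ≠ 0 ∧ (b ∈ q → a • b = 0) := by
    intro b
    by_cases hb : b ∈ q
    · obtain ⟨a, ha, hab⟩ := htors b hb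
      exact ⟨a, ha, fun _ => hab⟩
    · exact ⟨1, one_ne_zero, fun h => (hb h).elim⟩
  choose α hα0 hα using hex
  set a₂ : A := ∏ b ∈ s, α b with ha₂
  have ha₂0 : a₂ ≠ 0 := Finset.prod_ne_zero_iff.mpr fun b _ => hα0 b
  have hkill : ∀ b ∈ q, a₂ • b = 0 := by
    intro b hb
    rw [← hs] at hb
    refine Submodule.span_induction (p := fun x _ => a₂ • x = 0) ?_ ?_ ?_ ?_ hb
    · intro x hx
      have hxq : x ∈ q := by
        rw [← hs]
        exact Ideal.subset_span hx
      have hdvd : α x ∣ a₂ := Finset.dvd_prod_of_mem α hx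
      obtain ⟨c, hc⟩ := hdvd
      rw [hc, mul_comm, mul_smul, hα x hxq, smul_zero]
    · exact smul_zero _
    · intro x y _ _ hx hy
      rw [smul_add, hx, hy, add_zero]
    · intro r x _ hx
      rw [smul_comm, hx, smul_zero]
  refine ⟨a₁ * a₂, mul_ne_zero (fun h => ha₁ (by rw [h]; exact Ideal.zero_mem _)) ha₂0,
    fun p hp => ?_⟩
  have hp₁ : a₁ ∉ p.asIdeal := fun h => hp (p.asIdeal.mul_mem_right _ h)
  have hp₂ : a₂ ∉ p.asIdeal := fun h => hp (p.asIdeal.mul_mem_left _ h)
  have h1 := hirr p bot_le hp₁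
  have hsub : comap (algebraMap A B) ⁻¹' {p} ⊆ zeroLocus (q : Set B) := by
    intro Q hQ b hb
    have hQ' : comap (algebraMap A B) Q = p := hQ
    have h2 : algebraMap A B a₂ * b ∈ Q.asIdeal := by
      rw [← Algebra.smul_def, hkill b hb]
      exact Q.asIdeal.zero_mem
    rcases Q.isPrime.mem_or_mem h2 with h | h
    · exfalso
      apply hp₂
      rw [← hQ']
      exact h
    · exact h
  rwa [Set.inter_eq_right.mpr hsub] at h1

end Top

section Prod

variable {A B : Type u} [CommRing A] [CommRing B] [Algebra A B]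

/-- Tensoring an injective linear map of vector spaces over a field `Ω` with any `A`-module, over a
ring `A` mapping to `Ω`, stays injective. -/
theorem injective_map_of_field (Ω : Type u) [Field Ω] [Algebra A Ω] {V W : Type u}
    [AddCommGroup V] [AddCommGroup W] [Module Ω V] [Module Ω W] [Module A V] [Module A W]
    [IsScalarTower A Ω V] [IsScalarTower A Ω W] (g : V →ₗ[Ω] W) (hg : Function.Injective g)
    (D : Type u) [AddCommGroup D] [Module A D] :
    Function.Injective (TensorProduct.map (g.restrictScalars A) (LinearMap.id : D →ₗ[A] D)) := by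
  obtain ⟨r, hr⟩ := LinearMap.exists_leftInverse_of_injective g (LinearMap.ker_eq_bot.mpr hg)
  have hcomp : (TensorProduct.map (r.restrictScalars A) (LinearMap.id : D →ₗ[A] D)).comp
      (TensorProduct.map (g.restrictScalars A) (LinearMap.id : D →ₗ[A] D)) = LinearMap.id := by
    rw [← TensorProduct.map_comp]
    have : (r.restrictScalars A).comp (g.restrictScalars A) = LinearMap.id := by
      ext v
      exact LinearMap.congr_fun hr v
    rw [this, LinearMap.id_comp, TensorProduct.map_id]
  exact Function.LeftInverse.injective (fun x => LinearMap.congr_fun hcomp x)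

/-- If `B` has geometrically integral generic fibre over `A`, so has `B ⊗[A] B`. -/
theorem isDomain_tensor_prod
    (GI : ∀ (Ω : Type u) [Field Ω] [Algebra A Ω], Function.Injective (algebraMap A Ω) →
      IsDomain (Ω ⊗[A] B))
    (Ω : Type u) [Field Ω] [Algebra A Ω] (hΩ : Function.Injective (algebraMap A Ω)) :
    IsDomain (Ω ⊗[A] (B ⊗[A] B)) := by
  haveI hR : IsDomain (Ω ⊗[A] B) := GI Ω hΩ
  set R := Ω ⊗[A] B with hRdef
  set F := FractionRing R with hF
  have hinjF : Function.Injective (algebraMap A F) := by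
    rw [IsScalarTower.algebraMap_eq A R F, IsScalarTower.algebraMap_eq A Ω R]
    refine (IsFractionRing.injective R F).comp (Function.Injective.comp ?_ hΩ)
    exact (algebraMap Ω R).injective
  haveI : IsDomain (F ⊗[A] B) := GI F hinjF
  -- the composite `Ω ⊗ (B ⊗ B) ≃ R ⊗ B → F ⊗ B`
  let e1 : Ω ⊗[A] (B ⊗[A] B) ≃ₐ[A] R ⊗[A] B := (Algebra.TensorProduct.assoc A A A Ω B B).symm
  let e2 : R ⊗[A] B →ₐ[A] F ⊗[A] B :=
    Algebra.TensorProduct.map (IsScalarTower.toAlgHom A R F) (AlgHom.id A B)
  have he2 : Function.Injective e2 := by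
    have h1 := injective_map_of_field (A := A) Ω (IsScalarTower.toAlgHom Ω R F).toLinearMap
      (IsFractionRing.injective R F) B
    intro x y hxy
    apply h1
    exact hxy
  exact Function.Injective.isDomain ((e2 : R ⊗[A] B →+* F ⊗[A] B).comp
    (e1 : Ω ⊗[A] (B ⊗[A] B) →+* R ⊗[A] B)) (he2.comp e1.injective)

end Prod

section Main

variable {A B : Type u} [CommRing A] [IsDomain A] [IsNoetherianRing A] [CommRing B]
  [Algebra A B] [Algebra.FiniteType A B]

/-- **Generic geometric irreducibility of the fibres** (Noetherian domain base, ring form). -/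
theorem geomIrr_noeth
    (GI : ∀ (Ω : Type u) [Field Ω] [Algebra A Ω], Function.Injective (algebraMap A Ω) →
      IsDomain (Ω ⊗[A] B)) :
    ∃ a : A, a ≠ 0 ∧ ∀ (Ω : Type u) [Field Ω] [Algebra A Ω], algebraMap A Ω a ≠ 0 →
      IrreducibleSpace (PrimeSpectrum (Ω ⊗[A] B)) := by
  haveI : Algebra.FiniteType A (B ⊗[A] B) :=
    Algebra.FiniteType.trans (inferInstance : Algebra.FiniteType A B)
      (inferInstance : Algebra.FiniteType B (B ⊗[A] B))
  obtain ⟨a, ha, hirr⟩ := fibres_irreducible_noeth (A := A) (B := B ⊗[A] B)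
    (fun Ω _ _ hΩ => isDomain_tensor_prod GI Ω hΩ)
  refine ⟨a, ha, fun Ω _ _ hΩa => ?_⟩
  set p : PrimeSpectrum A := ⟨RingHom.ker (algebraMap A Ω), RingHom.ker_isPrime _⟩ with hp
  have hap : a ∉ p.asIdeal := fun h => hΩa h
  haveI : p.asIdeal.IsPrime := p.isPrime
  set κ := p.asIdeal.ResidueField with hκ
  -- the fibre of `B ⊗ B` over `p`
  have h1 : IrreducibleSpace ↥(comap (algebraMap A (B ⊗[A] B)) ⁻¹' {p}) :=
    (isIrreducible_iff_irreducibleSpace).mp (hirr p hap)
  have h2 : IrreducibleSpace (PrimeSpectrum (κ ⊗[A] (B ⊗[A] B))) :=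
    (PrimeSpectrum.preimageHomeomorphFiber A (B ⊗[A] B) p).irreducibleSpace_iff.mp h1
  -- rewrite as a self product over `κ`
  let e1 : (κ ⊗[A] B) ⊗[κ] (κ ⊗[A] B) ≃ₐ[κ] (κ ⊗[A] B) ⊗[A] B :=
    Algebra.TensorProduct.cancelBaseChange A κ κ (κ ⊗[A] B) B
  let e2 : (κ ⊗[A] B) ⊗[A] B ≃ₐ[A] κ ⊗[A] (B ⊗[A] B) := Algebra.TensorProduct.assoc A A A κ B B
  have h3 : IrreducibleSpace (PrimeSpectrum ((κ ⊗[A] B) ⊗[κ] (κ ⊗[A] B))) :=
    (PrimeSpectrum.homeomorphOfRingEquiv
      (e1.toRingEquiv.trans e2.toRingEquiv)).irreducibleSpace_iff.mpr h2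
  -- `Ω` as an extension of `κ`
  letI : Algebra κ Ω := (Ideal.ResidueField.lift p.asIdeal (algebraMap A Ω) le_rfl (by
    intro r hr
    change IsUnit (algebraMap A Ω r)
    exact isUnit_iff_ne_zero.mpr fun h => hr h)).toAlgebra
  haveI : IsScalarTower A κ Ω := IsScalarTower.of_algebraMap_eq (fun r => by
    change algebraMap A Ω r = Ideal.ResidueField.lift p.asIdeal (algebraMap A Ω) _ _
      (algebraMap A κ r)
    rw [Ideal.ResidueField.lift_algebraMap])
  have h4 : IrreducibleSpace (PrimeSpectrum (Ω ⊗[κ] (κ ⊗[A] B))) :=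
    irreducibleSpace_tensor_of_prod h3 Ω
  let e3 : Ω ⊗[κ] (κ ⊗[A] B) ≃ₐ[κ] Ω ⊗[A] B := Algebra.TensorProduct.cancelBaseChange A κ κ Ω B
  exact (PrimeSpectrum.homeomorphOfRingEquiv e3.toRingEquiv).irreducibleSpace_iff.mp h4

end Main

end Groth.Agent.Lib.helper9.NGeom
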