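/-
Helper library (helper9): generic geometric irreducibility of the fibres over an arbitrary domain
(finite type algebras), by reduction to the Noetherian case.
-/
import Mathlib
import Groth.Agent.Lib.Helper9.NGeom2
import Groth.Agent.Lib.Helper11.GenFree9
import Groth.Agent.Lib.Helper3.CompCard

set_option autoImplicit false
set_option linter.style.haveILetI false
set_option backward.isDefEq.respectTransparency false

namespace Groth.Agent.Lib.helper9.NGeom

open TensorProduct PrimeSpectrum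

universe u

/-- `B` has geometrically integral generic fibre over the domain `A`. -/
def GenGeomInt (A B : Type u) [CommRing A] [CommRing B] [Algebra A B] : Prop :=
  ∀ (Ω : Type u) [Field Ω] [Algebra A Ω], Function.Injective (algebraMap A Ω) →
    IsDomain (Ω ⊗[A] B)

/-- The fibres of `B` over field valued points of `A` not killing `a` are irreducible. -/
def GeomIrrAway (A B : Type u) [CommRing A] [CommRing B] [Algebra A B] (a : A) : Prop :=
  ∀ (Ω : Type u) [Field Ω] [Algebra A Ω], algebraMap A Ω a ≠ 0 →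
    IrreducibleSpace (PrimeSpectrum (Ω ⊗[A] B))

section Equiv

variable {A B B' : Type u} [CommRing A] [CommRing B] [CommRing B'] [Algebra A B] [Algebra A B']

theorem GenGeomInt.of_algEquiv (e : B ≃ₐ[A] B') (h : GenGeomInt A B) : GenGeomInt A B' := by
  intro Ω _ _ hΩ
  haveI := h Ω hΩ
  exact (Algebra.TensorProduct.congr (AlgEquiv.refl (R := A) (A₁ := Ω))
    e).symm.toMulEquiv.isDomain

theorem GeomIrrAway.of_algEquiv (e : B ≃ₐ[A] B') {a : A} (h : GeomIrrAway A B a) :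
    GeomIrrAway A B' a := by
  intro Ω _ _ hΩ
  haveI := h Ω hΩ
  exact (PrimeSpectrum.homeomorphOfRingEquiv (Algebra.TensorProduct.congr
    (AlgEquiv.refl (R := A) (A₁ := Ω)) e).toRingEquiv).irreducibleSpace_iff.mp inferInstance

end Equiv

section BaseChange

variable {A₀ A₁ B₀ : Type u} [CommRing A₀] [CommRing A₁] [Algebra A₀ A₁] [CommRing B₀]
  [Algebra A₀ B₀]

theorem GeomIrrAway.baseChange {a₀ : A₀} (h : GeomIrrAway A₀ B₀ a₀) :
    GeomIrrAway A₁ (A₁ ⊗[A₀] B₀) (algebraMap A₀ A₁ a₀) := by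
  intro Ω _ _ hΩ
  letI : Algebra A₀ Ω := ((algebraMap A₁ Ω).comp (algebraMap A₀ A₁)).toAlgebra
  haveI : IsScalarTower A₀ A₁ Ω := IsScalarTower.of_algebraMap_eq (fun _ => rfl)
  haveI := h Ω hΩ
  let e : Ω ⊗[A₁] (A₁ ⊗[A₀] B₀) ≃ₐ[A₁] Ω ⊗[A₀] B₀ :=
    Algebra.TensorProduct.cancelBaseChange A₀ A₁ A₁ Ω B₀
  exact (PrimeSpectrum.homeomorphOfRingEquiv e.toRingEquiv).irreducibleSpace_iff.mpr inferInstance

theorem GenGeomInt.baseChange (hinj : Function.Injective (algebraMap A₀ A₁))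
    (h : GenGeomInt A₀ B₀) : GenGeomInt A₁ (A₁ ⊗[A₀] B₀) := by
  intro Ω _ _ hΩ
  letI : Algebra A₀ Ω := ((algebraMap A₁ Ω).comp (algebraMap A₀ A₁)).toAlgebra
  haveI : IsScalarTower A₀ A₁ Ω := IsScalarTower.of_algebraMap_eq (fun _ => rfl)
  haveI := h Ω (hΩ.comp hinj)
  let e : Ω ⊗[A₁] (A₁ ⊗[A₀] B₀) ≃ₐ[A₁] Ω ⊗[A₀] B₀ :=
    Algebra.TensorProduct.cancelBaseChange A₀ A₁ A₁ Ω B₀
  exact e.toMulEquiv.isDomain

theorem GenGeomInt.descend [IsDomain A₀] [IsDomain A₁]
    (hinj : Function.Injective (algebraMap A₀ A₁)) (h : GenGeomInt A₁ (A₁ ⊗[A₀] B₀)) :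
    GenGeomInt A₀ B₀ := by
  intro Ω _ _ hΩ
  set K₀ := FractionRing A₀ with hK₀
  set K₁ := FractionRing A₁ with hK₁
  have hinj₁ : Function.Injective (algebraMap A₀ K₁) := by
    rw [IsScalarTower.algebraMap_eq A₀ A₁ K₁]
    exact (IsFractionRing.injective A₁ K₁).comp hinj
  letI : Algebra K₀ K₁ := (IsFractionRing.lift (K := K₀) (g := algebraMap A₀ K₁) hinj₁).toAlgebra
  haveI : IsScalarTower A₀ K₀ K₁ := IsScalarTower.of_algebraMap_eq (fun a => by
    change algebraMap A₀ K₁ a = IsFractionRing.lift hinj₁ (algebraMap A₀ K₀ a)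
    rw [IsFractionRing.lift_algebraMap])
  letI : Algebra K₀ Ω := (IsFractionRing.lift (K := K₀) (g := algebraMap A₀ Ω) hΩ).toAlgebra
  haveI : IsScalarTower A₀ K₀ Ω := IsScalarTower.of_algebraMap_eq (fun a => by
    change algebraMap A₀ Ω a = IsFractionRing.lift hΩ (algebraMap A₀ K₀ a)
    rw [IsFractionRing.lift_algebraMap])
  obtain ⟨L, _, _, _, _, hT₁, hT₂⟩ :=
    Groth.Agent.Lib.helper3.CompCard.exists_common_extension K₀ K₁ Ω
  letI : Algebra A₀ L := ((algebraMap K₀ L).comp (algebraMap A₀ K₀)).toAlgebra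
  haveI : IsScalarTower A₀ K₀ L := IsScalarTower.of_algebraMap_eq (fun _ => rfl)
  letI : Algebra A₁ L := ((algebraMap K₁ L).comp (algebraMap A₁ K₁)).toAlgebra
  haveI : IsScalarTower A₁ K₁ L := IsScalarTower.of_algebraMap_eq (fun _ => rfl)
  haveI : IsScalarTower A₀ A₁ L := IsScalarTower.of_algebraMap_eq (fun a => by
    change algebraMap K₀ L (algebraMap A₀ K₀ a) = algebraMap K₁ L (algebraMap A₁ K₁ (algebraMap A₀ A₁ a))
    rw [← IsScalarTower.algebraMap_apply A₀ A₁ K₁, IsScalarTower.algebraMap_apply A₀ K₀ K₁,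
      ← IsScalarTower.algebraMap_apply K₀ K₁ L])
  haveI : IsScalarTower A₀ Ω L := IsScalarTower.of_algebraMap_eq (fun a => by
    change algebraMap K₀ L (algebraMap A₀ K₀ a) = algebraMap Ω L (algebraMap A₀ Ω a)
    rw [IsScalarTower.algebraMap_apply A₀ K₀ Ω, ← IsScalarTower.algebraMap_apply K₀ Ω L])
  have hL₁ : Function.Injective (algebraMap A₁ L) :=
    (algebraMap K₁ L).injective.comp (IsFractionRing.injective A₁ K₁)
  haveI : IsDomain (L ⊗[A₁] (A₁ ⊗[A₀] B₀)) := h L hL₁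
  haveI : IsDomain (L ⊗[A₀] B₀) :=
    (Algebra.TensorProduct.cancelBaseChange A₀ A₁ A₁ L B₀).symm.toMulEquiv.isDomain
  exact Function.Injective.isDomain (Algebra.TensorProduct.map (IsScalarTower.toAlgHom A₀ Ω L)
    (AlgHom.id A₀ B₀)).toRingHom
      (Groth.Agent.Lib.helper9.GeomInt.injective_map_of_field_ext Ω L B₀)

end BaseChange

section Away

variable {A B : Type u} [CommRing A] [IsDomain A] [CommRing B] [Algebra A B]

theorem GeomIrrAway.of_away (f : A) (A₁ : Type u) [CommRing A₁] [Algebra A A₁]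
    [IsLocalization.Away f A₁] (hf : f ≠ 0) {a₁ : A₁} (ha₁ : a₁ ≠ 0)
    (h : GeomIrrAway A₁ (A₁ ⊗[A] B) a₁) : ∃ a : A, a ≠ 0 ∧ GeomIrrAway A B a := by
  obtain ⟨⟨b, ⟨_, n, rfl⟩⟩, hb⟩ := IsLocalization.surj (Submonoid.powers f) a₁
  have hb' : a₁ * algebraMap A A₁ (f ^ n) = algebraMap A A₁ b := hb
  have hinj : Function.Injective (algebraMap A A₁) :=
    IsLocalization.injective A₁ (powers_le_nonZeroDivisors_of_noZeroDivisors hf)
  have hb0 : b ≠ 0 := by
    rintro rfl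
    rw [map_zero] at hb'
    have hu : IsUnit (algebraMap A A₁ (f ^ n)) :=
      IsLocalization.map_units A₁ (⟨f ^ n, n, rfl⟩ : Submonoid.powers f)
    exact ha₁ ((hu.mul_left_eq_zero).mp hb')
  refine ⟨f * b, mul_ne_zero hf hb0, fun Ω _ _ hΩ => ?_⟩
  have hΩf : algebraMap A Ω f ≠ 0 := fun h0 => hΩ (by rw [map_mul, h0, zero_mul])
  have hΩb : algebraMap A Ω b ≠ 0 := fun h0 => hΩ (by rw [map_mul, h0, mul_zero])
  have hu : IsUnit (algebraMap A Ω f) := isUnit_iff_ne_zero.mpr hΩf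
  letI : Algebra A₁ Ω := (IsLocalization.Away.lift f hu).toAlgebra
  haveI : IsScalarTower A A₁ Ω := IsScalarTower.of_algebraMap_eq (fun a => by
    change algebraMap A Ω a = IsLocalization.Away.lift f hu (algebraMap A A₁ a)
    rw [IsLocalization.Away.lift_eq])
  have ha₁Ω : algebraMap A₁ Ω a₁ ≠ 0 := by
    intro h0
    have := congrArg (algebraMap A₁ Ω) hb'
    rw [map_mul, h0, zero_mul, ← IsScalarTower.algebraMap_apply A A₁ Ω] at this
    exact hΩb this.symm
  haveI := h Ω ha₁Ω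
  let e : Ω ⊗[A₁] (A₁ ⊗[A] B) ≃ₐ[A₁] Ω ⊗[A] B :=
    Algebra.TensorProduct.cancelBaseChange A A₁ A₁ Ω B
  exact (PrimeSpectrum.homeomorphOfRingEquiv e.toRingEquiv).irreducibleSpace_iff.mp inferInstance

end Away

section Main

variable {A B : Type u} [CommRing A] [IsDomain A] [CommRing B] [Algebra A B]
  [Algebra.FiniteType A B]

/-- **Generic geometric irreducibility of the fibres** over an arbitrary domain. -/
theorem geomIrr_domain (GI : GenGeomInt A B) : ∃ a : A, a ≠ 0 ∧ GeomIrrAway A B a := by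
  obtain ⟨f, hf, -, -, hfp, -⟩ :=
    Groth.Agent.Lib.helper11.GenFree.generic_freeness_full (R := A) B B
  set A₁ := Localization.Away f with hA₁
  have hinj : Function.Injective (algebraMap A A₁) :=
    IsLocalization.injective A₁ (powers_le_nonZeroDivisors_of_noZeroDivisors hf)
  haveI : IsDomain A₁ :=
    IsLocalization.isDomain_localization (powers_le_nonZeroDivisors_of_noZeroDivisors hf)
  have GI₁ : GenGeomInt A₁ (A₁ ⊗[A] B) := GI.baseChange hinj
  haveI : Algebra.FinitePresentation A₁ (A₁ ⊗[A] B) := hfp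
  -- the Noetherian model
  let P := Algebra.Presentation.ofFinitePresentation A₁ (A₁ ⊗[A] B)
  let A₀ := P.Core
  let B₀ := P.ModelOfHasCoeffs A₀
  let e : A₁ ⊗[A₀] B₀ ≃ₐ[A₁] A₁ ⊗[A] B := P.tensorModelOfHasCoeffsEquiv A₀
  have hinj₀ : Function.Injective (algebraMap A₀ A₁) := FaithfulSMul.algebraMap_injective _ _
  haveI : IsDomain A₀ := Function.Injective.isDomain (algebraMap A₀ A₁) hinj₀
  haveI : IsNoetherianRing A₀ := Algebra.FiniteType.isNoetherianRing ℤ A₀
  haveI : Algebra.FinitePresentation A₀ B₀ := inferInstance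
  haveI : Algebra.FiniteType A₀ B₀ := inferInstance
  have GI₀ : GenGeomInt A₀ B₀ := GenGeomInt.descend hinj₀ (GI₁.of_algEquiv e.symm)
  obtain ⟨a₀, ha₀, hirr₀⟩ := geomIrr_noeth (A := A₀) (B := B₀) GI₀
  have h1 : GeomIrrAway A₁ (A₁ ⊗[A₀] B₀) (algebraMap A₀ A₁ a₀) :=
    GeomIrrAway.baseChange (A₁ := A₁) hirr₀
  have h2 : GeomIrrAway A₁ (A₁ ⊗[A] B) (algebraMap A₀ A₁ a₀) := h1.of_algEquiv e
  exact GeomIrrAway.of_away f A₁ hf
    (fun h0 => ha₀ (hinj₀ (by rw [h0, map_zero]))) h2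

end Main

end Groth.Agent.Lib.helper9.NGeom
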