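/-
Helper library (helper9): finite type morphisms to the spectrum of a domain, basic generic
statements in terms of principal opens of the base.
-/
import Mathlib
import Groth.Agent.Lib.Helper3.GenComps
import Groth.Agent.Lib.Helper5.ConsFibre

set_option autoImplicit false
set_option linter.style.haveILetI false
set_option backward.isDefEq.respectTransparency false

namespace Groth.Agent.Lib.helper9.NGeom

open AlgebraicGeometry CategoryTheory Limits TopologicalSpace

universe u

section Base

variable (A : Type u) [CommRing A] [IsDomain A]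

/-- The generic point of `Spec A`. -/
def gen : Spec (CommRingCat.of A) := (⟨⊥, Ideal.isPrime_bot⟩ : PrimeSpectrum A)

instance : IrreducibleSpace ↥(Spec (CommRingCat.of A)) :=
  (inferInstance : IrreducibleSpace (PrimeSpectrum A))

theorem genericPoint_eq_gen : genericPoint ↥(Spec (CommRingCat.of A)) = gen A := by
  haveI : IsDomain ↑(CommRingCat.of A) := (inferInstance : IsDomain A)
  exact genericPoint_eq_bot_of_affine (CommRingCat.of A)

theorem gen_specializes (p : Spec (CommRingCat.of A)) : gen A ⤳ p := by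
  rw [← genericPoint_eq_gen]
  exact genericPoint_specializes p

variable {A}

theorem exists_ne_zero_of_mem_opens (V : (Spec (CommRingCat.of A)).Opens) (hV : gen A ∈ V) :
    ∃ s : A, s ≠ 0 ∧ ∀ p : Spec (CommRingCat.of A), s ∉ p.asIdeal → p ∈ V := by
  obtain ⟨_, ⟨s, rfl⟩, hηs, hsV⟩ :=
    PrimeSpectrum.isTopologicalBasis_basic_opens.exists_subset_of_mem_open
      (a := (gen A : PrimeSpectrum A)) hV V.2
  refine ⟨s, ?_, fun p hp => hsV hp⟩
  rintro rfl
  exact hηs (Ideal.zero_mem _)

theorem exists_ne_zero_of_nonempty_opens (V : (Spec (CommRingCat.of A)).Opens)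
    (hV : (V : Set ↥(Spec (CommRingCat.of A))).Nonempty) :
    ∃ s : A, s ≠ 0 ∧ ∀ p : Spec (CommRingCat.of A), s ∉ p.asIdeal → p ∈ V := by
  obtain ⟨y, hy⟩ := hV
  exact exists_ne_zero_of_mem_opens V ((gen_specializes A y).mem_open V.2 hy)

end Base

section Chev

variable {A : Type u} [CommRing A] [IsDomain A] {X : Scheme.{u}}
  (f : X ⟶ Spec (CommRingCat.of A)) [LocallyOfFiniteType f]

/-- Chevalley-type statement: near the generic point, every fibre meets the closure of a point
of the generic fibre inside a given open neighbourhood of that point. -/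
theorem exists_ne_zero_forall_exists_specializes (w : X) (hw : f w = gen A) (G : X.Opens)
    (hwG : w ∈ G) :
    ∃ s : A, s ≠ 0 ∧ ∀ p : Spec (CommRingCat.of A), s ∉ p.asIdeal →
      ∃ z ∈ G, w ⤳ z ∧ f z = p := by
  have h1 : (G.ι ≫ f) (⟨w, hwG⟩ : G.toScheme) = genericPoint ↥(Spec (CommRingCat.of A)) := by
    rw [genericPoint_eq_gen, Scheme.Hom.comp_apply]
    exact hw
  obtain ⟨V, hVne, hV⟩ :=
    Groth.Agent.Lib.helper3.GenImage.exists_open_subset_image_closure (G.ι ≫ f) _ h1
  obtain ⟨s, hs, hsV⟩ := exists_ne_zero_of_nonempty_opens V hVne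
  refine ⟨s, hs, fun p hp => ?_⟩
  obtain ⟨z', hz', hfz'⟩ := hV (hsV p hp)
  refine ⟨G.ι z', z'.2, ?_, ?_⟩
  · have : (⟨w, hwG⟩ : G.toScheme) ⤳ z' := specializes_iff_mem_closure.mpr hz'
    exact this.map G.ι.continuous
  · rw [← Scheme.Hom.comp_apply]
    exact hfz'

/-- A closed subset without points over the generic point lies over a proper principal closed
subset. -/
theorem exists_ne_zero_forall_mem_of_isClosed [QuasiCompact f] (E : Set X) (hE : IsClosed E)
    (hEη : ∀ x ∈ E, f x ≠ gen A) :
    ∃ s : A, s ≠ 0 ∧ ∀ x ∈ E, s ∈ (f x).asIdeal := by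
  set I := Scheme.IdealSheafData.vanishingIdeal (⟨E, hE⟩ : Closeds X) with hI
  have hrange : Set.range I.subschemeι = E := by
    rw [Scheme.IdealSheafData.range_subschemeι, hI, Scheme.IdealSheafData.coe_support_vanishingIdeal]
    rfl
  obtain ⟨V, hηV, hV⟩ :=
    Groth.Agent.Lib.helper3.GenPts.exists_open_forall_generization (I.subschemeι ≫ f)
  rw [genericPoint_eq_gen] at hηV
  obtain ⟨s, hs, hsV⟩ := exists_ne_zero_of_mem_opens V hηV
  refine ⟨s, hs, fun x hx => ?_⟩
  by_contra hcon
  have hxr : x ∈ Set.range I.subschemeι := by rw [hrange]; exact hx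
  obtain ⟨z, rfl⟩ := hxr
  obtain ⟨z', -, hz'⟩ := hV z (by
    rw [Scheme.Hom.comp_apply]
    exact hsV _ hcon)
  rw [genericPoint_eq_gen, Scheme.Hom.comp_apply] at hz'
  exact hEη (I.subschemeι z') (by rw [← hrange]; exact ⟨z', rfl⟩) hz'

end Chev

end Groth.Agent.Lib.helper9.NGeom
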