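/-
Helper library (helper9): the generic points of the components of the generic fibre of a finite
type morphism to the spectrum of a domain, and their specializations in nearby fibres.
-/
import Mathlib
import Groth.Agent.Lib.Helper9.NGeom4

set_option autoImplicit false
set_option linter.style.haveILetI false
set_option backward.isDefEq.respectTransparency false

namespace Groth.Agent.Lib.helper9.NGeom

open AlgebraicGeometry CategoryTheory Limits TopologicalSpace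

universe u

/-- A set covered by relatively open irreducible subsets which pairwise meet is irreducible. -/
theorem isIrreducible_of_cover {T : Type*} [TopologicalSpace T] (Z : Set T) {ι : Type*}
    [Nonempty ι] (O : ι → Set T) (hO : ∀ j, IsOpen (O j)) (hirr : ∀ j, IsIrreducible (Z ∩ O j))
    (hcov : Z ⊆ ⋃ j, O j) (hmeet : ∀ j j', (Z ∩ O j ∩ O j').Nonempty) : IsIrreducible Z := by
  refine ⟨?_, ?_⟩
  · obtain ⟨j⟩ := ‹Nonempty ι›
    obtain ⟨z, hz⟩ := (hirr j).nonempty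
    exact ⟨z, hz.1⟩
  · intro W₁ W₂ hW₁ hW₂ h₁ h₂
    obtain ⟨z₁, hz₁Z, hz₁⟩ := h₁
    obtain ⟨z₂, hz₂Z, hz₂⟩ := h₂
    obtain ⟨i, hi⟩ := Set.mem_iUnion.mp (hcov hz₁Z)
    obtain ⟨j, hj⟩ := Set.mem_iUnion.mp (hcov hz₂Z)
    obtain ⟨y, ⟨hyZ, hyOi⟩, hyW₁, hyOj⟩ : ((Z ∩ O i) ∩ (W₁ ∩ O j)).Nonempty := by
      refine (hirr i).isPreirreducible W₁ (O j) hW₁ (hO j) ⟨z₁, ⟨hz₁Z, hi⟩, hz₁⟩ ?_
      obtain ⟨x, ⟨hxZ, hxi⟩, hxj⟩ := hmeet i j
      exact ⟨x, ⟨hxZ, hxi⟩, hxj⟩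
    obtain ⟨x, ⟨hxZ, -⟩, hxW₁, hxW₂⟩ : ((Z ∩ O j) ∩ (W₁ ∩ W₂)).Nonempty :=
      (hirr j).isPreirreducible W₁ W₂ hW₁ hW₂ ⟨y, ⟨hyZ, hyOj⟩, hyW₁⟩ ⟨z₂, ⟨hz₂Z, hj⟩, hz₂⟩
    exact ⟨x, hxZ, hxW₁, hxW₂⟩

section Data

variable {A : Type u} [CommRing A] [IsDomain A] {X : Scheme.{u}}
  (f : X ⟶ Spec (CommRingCat.of A)) [LocallyOfFiniteType f] [QuasiCompact f]

/-- The generic points of the irreducible components of the generic fibre. -/
theorem exists_generic_points :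
    ∃ (ι : Type u) (_ : Finite ι) (ξ : ι → X), (∀ i, f (ξ i) = gen A) ∧
      (∀ w : X, f w = gen A → ∃ i, ξ i ⤳ w) ∧ (∀ i j, ξ j ⤳ ξ i → i = j) ∧
      (∀ i, ∀ x : X, f x = gen A → x ⤳ ξ i → x = ξ i) := by
  set η := gen A with hη
  set F := f.fiber η with hF
  haveI : LocallyOfFiniteType (f.fiberToSpecResidueField η) :=
    MorphismProperty.pullback_snd (P := @LocallyOfFiniteType) _ _ inferInstance
  haveI : QuasiCompact (f.fiberToSpecResidueField η) :=
    MorphismProperty.pullback_snd (P := @QuasiCompact) _ _ inferInstance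
  haveI : IsNoetherian F :=
    Groth.Agent.Lib.helper5.ConsFibre.isNoetherian_of_lft (f.fiberToSpecResidueField η)
  have hfin : (irreducibleComponents F).Finite :=
    TopologicalSpace.NoetherianSpace.finite_irreducibleComponents
  haveI : Finite ↥(irreducibleComponents F) := hfin
  have hζ : ∀ C : ↥(irreducibleComponents F), ∃ ζ : F, IsGenericPoint ζ (C : Set F) := fun C =>
    QuasiSober.sober C.2.1 (isClosed_of_mem_irreducibleComponents C.1 C.2)
  choose ζ hζgen using hζ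
  have hmem : ∀ z : F, ∃ C : ↥(irreducibleComponents F), ζ C ⤳ z := by
    intro z
    obtain ⟨C, hCmem, hC⟩ := exists_mem_irreducibleComponents_subset_of_isIrreducible
      ({z} : Set F) isIrreducible_singleton
    exact ⟨⟨C, hCmem⟩, (hζgen ⟨C, hCmem⟩).specializes (hC rfl)⟩
  have hA : ∀ C C' : ↥(irreducibleComponents F), ζ C' ⤳ ζ C → C = C' := by
    intro C C' h1
    have h2 : (C : Set F) ⊆ C' := by
      rw [← (hζgen C).def, ← (hζgen C').def]
      exact closure_minimal (Set.singleton_subset_iff.mpr h1.mem_closure) isClosed_closure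
    exact Subtype.ext (Set.Subset.antisymm h2 (C.2.2 C'.2.1 h2))
  refine ⟨↥(irreducibleComponents F), inferInstance, fun C => f.fiberι η (ζ C), ?_, ?_, ?_, ?_⟩
  · intro C
    exact Groth.Agent.Lib.helper3.QFinTop.fiberι_mem f η (ζ C)
  · intro w hw
    obtain ⟨z, rfl⟩ : w ∈ Set.range (f.fiberι η) := by
      rw [f.range_fiberι η]; exact hw
    obtain ⟨C, hC⟩ := hmem z
    exact ⟨C, (Groth.Agent.Lib.helper3.QFinTop.fiberι_specializes_iff f η _ _).mpr hC⟩
  · intro C C' h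
    exact hA C C' ((Groth.Agent.Lib.helper3.QFinTop.fiberι_specializes_iff f η _ _).mp h)
  · intro C x hx hsp
    obtain ⟨z, rfl⟩ : x ∈ Set.range (f.fiberι η) := by
      rw [f.range_fiberι η]; exact hx
    have h1 : z ⤳ ζ C := (Groth.Agent.Lib.helper3.QFinTop.fiberι_specializes_iff f η _ _).mp hsp
    obtain ⟨C', hC'⟩ := hmem z
    have h2 : C = C' := hA C C' (hC'.trans h1)
    subst h2
    have : z = ζ C := (h1.antisymm hC').eq
    rw [this]

end Data

section Common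

variable {A : Type u} [CommRing A] [IsDomain A]

/-- Finitely many generic statements hold simultaneously on a common principal open. -/
theorem exists_common {κ : Type*} [Finite κ] (P : κ → Spec (CommRingCat.of A) → Prop)
    (h : ∀ k, ∃ s : A, s ≠ 0 ∧ ∀ p : Spec (CommRingCat.of A), s ∉ p.asIdeal → P k p) :
    ∃ s : A, s ≠ 0 ∧ ∀ p : Spec (CommRingCat.of A), s ∉ p.asIdeal → ∀ k, P k p := by
  classical
  haveI : Fintype κ := Fintype.ofFinite κ
  choose s hs0 hs using h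
  refine ⟨∏ k, s k, Finset.prod_ne_zero_iff.mpr fun k _ => hs0 k, fun p hp k => hs k p ?_⟩
  intro hk
  exact hp (Ideal.mem_of_dvd _ (Finset.dvd_prod_of_mem s (Finset.mem_univ k)) hk)

end Common

section Nearby

variable {A : Type u} [CommRing A] [IsDomain A] {X : Scheme.{u}}
  (f : X ⟶ Spec (CommRingCat.of A)) [LocallyOfFiniteType f] [QuasiCompact f]
  {ι : Type u} (ξ : ι → X)

include f in
theorem nearby_generization (h2 : ∀ w : X, f w = gen A → ∃ i, ξ i ⤳ w) :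
    ∃ s : A, s ≠ 0 ∧ ∀ x : X, s ∉ (f x).asIdeal → ∃ i, ξ i ⤳ x := by
  obtain ⟨V, hηV, hV⟩ := Groth.Agent.Lib.helper3.GenPts.exists_open_forall_generization f
  rw [genericPoint_eq_gen] at hηV
  obtain ⟨s, hs, hsV⟩ := exists_ne_zero_of_mem_opens V hηV
  refine ⟨s, hs, fun x hx => ?_⟩
  obtain ⟨x', hx'sp, hfx'⟩ := hV x (hsV _ hx)
  rw [genericPoint_eq_gen] at hfx'
  obtain ⟨i, hi⟩ := h2 x' hfx'
  exact ⟨i, hi.trans hx'sp⟩

omit [QuasiCompact f] in
theorem nearby_not_subset (h1 : ∀ i, f (ξ i) = gen A) (h3 : ∀ i j, ξ j ⤳ ξ i → i = j)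
    (i j : ι) (hij : i ≠ j) :
    ∃ s : A, s ≠ 0 ∧ ∀ p : Spec (CommRingCat.of A), s ∉ p.asIdeal →
      ∃ x : X, f x = p ∧ ξ i ⤳ x ∧ ¬ ξ j ⤳ x := by
  set G : X.Opens := ⟨(closure {ξ j})ᶜ, isClosed_closure.isOpen_compl⟩ with hG
  have hiG : ξ i ∈ G := by
    intro hcl
    exact hij (h3 i j (specializes_iff_mem_closure.mpr hcl))
  obtain ⟨s, hs, H⟩ := exists_ne_zero_forall_exists_specializes f (ξ i) (h1 i) G hiG
  refine ⟨s, hs, fun p hp => ?_⟩
  obtain ⟨z, hzG, hiz, hfz⟩ := H p hp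
  exact ⟨z, hfz, hiz, fun hjz => hzG (specializes_iff_mem_closure.mp hjz)⟩

theorem nearby_meet (i j : ι) :
    ∃ s : A, s ≠ 0 ∧ ∀ p : Spec (CommRingCat.of A), s ∉ p.asIdeal →
      ((∃ x : X, f x = p ∧ ξ i ⤳ x ∧ ξ j ⤳ x) ↔
        (∃ w : X, f w = gen A ∧ ξ i ⤳ w ∧ ξ j ⤳ w)) := by
  by_cases hw : ∃ w : X, f w = gen A ∧ ξ i ⤳ w ∧ ξ j ⤳ w
  · obtain ⟨w, hfw, hiw, hjw⟩ := hw
    obtain ⟨s, hs, H⟩ := exists_ne_zero_forall_exists_specializes f w hfw ⊤ trivial
    refine ⟨s, hs, fun p hp => ⟨fun _ => ⟨w, hfw, hiw, hjw⟩, fun _ => ?_⟩⟩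
    obtain ⟨z, -, hwz, hfz⟩ := H p hp
    exact ⟨z, hfz, hiw.trans hwz, hjw.trans hwz⟩
  · have hE : IsClosed (closure {ξ i} ∩ closure {ξ j}) := isClosed_closure.inter isClosed_closure
    obtain ⟨s, hs, H⟩ := exists_ne_zero_forall_mem_of_isClosed f _ hE (by
      rintro x ⟨hxi, hxj⟩ hfx
      exact hw ⟨x, hfx, specializes_iff_mem_closure.mpr hxi, specializes_iff_mem_closure.mpr hxj⟩)
    refine ⟨s, hs, fun p hp => ⟨fun h => ?_, fun h => (hw h).elim⟩⟩
    obtain ⟨x, hfx, hix, hjx⟩ := h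
    exfalso
    apply hp
    rw [← hfx]
    exact H x ⟨specializes_iff_mem_closure.mp hix, specializes_iff_mem_closure.mp hjx⟩

end Nearby

end Groth.Agent.Lib.helper9.NGeom
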