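/-
Helper library (helper9): geometric irreducibility of the nearby fibres of the closure of a
generic point of the generic fibre (finite type morphisms to the spectrum of a domain given
with finitely many affine charts).
-/
import Mathlib
import Groth.Agent.Lib.Helper9.NGeom3
import Groth.Agent.Lib.Helper9.NGeom5

set_option autoImplicit false
set_option linter.style.haveILetI false
set_option backward.isDefEq.respectTransparency false

namespace Groth.Agent.Lib.helper9.NGeom

open AlgebraicGeometry CategoryTheory Limits TopologicalSpace TensorProduct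

universe u

section Charts

variable {A : Type u} [CommRing A] {X : Scheme.{u}}
  (f : X ⟶ Spec (CommRingCat.of A))
  {J : Type*} (R : J → Type u) [∀ j, CommRing (R j)] [∀ j, Algebra A (R j)]
  (c : ∀ j, Spec (CommRingCat.of (R j)) ⟶ X) [∀ j, IsOpenImmersion (c j)]
  (hc : ∀ j, c j ≫ f = Spec.map (CommRingCat.ofHom (algebraMap A (R j))))

omit [∀ j, Algebra A (R j)] in
/-- The trace on a chart of the closure of a point of the chart. -/
theorem range_chart_quotient (j : J) (Q : Spec (CommRingCat.of (R j))) :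
    Set.range (Spec.map (CommRingCat.ofHom (Ideal.Quotient.mk Q.asIdeal)) ≫ c j) =
      closure {c j Q} ∩ Set.range (c j) := by
  have h1 : Set.range (Spec.map (CommRingCat.ofHom (Ideal.Quotient.mk Q.asIdeal))) =
      closure ({Q} : Set (Spec (CommRingCat.of (R j)))) := by
    have := _root_.range_comap_of_surjective _ (Ideal.Quotient.mk Q.asIdeal)
      Ideal.Quotient.mk_surjective
    rw [Ideal.mk_ker] at this
    rw [PrimeSpectrum.closure_singleton]
    exact this
  have h2 : closure ({Q} : Set (Spec (CommRingCat.of (R j)))) =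
      (c j) ⁻¹' closure ((c j) '' {Q}) :=
    (c j).isOpenEmbedding.isInducing.closure_eq_preimage_closure_image _
  rw [Scheme.Hom.comp_base, TopCat.coe_comp, Set.range_comp, h1, h2, Set.image_singleton,
    Set.image_preimage_eq_inter_range]

include hc in
/-- The preimage, in a base change to a field, of the trace on a chart of the closure of a point
is irreducible as soon as the corresponding quotient algebra has irreducible fibre. -/
theorem isIrreducible_preimage_chart (j : J) (Q : Spec (CommRingCat.of (R j)))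
    (Ω : Type u) [Field Ω] [Algebra A Ω]
    (hirr : IrreducibleSpace (PrimeSpectrum (Ω ⊗[A] (R j ⧸ Q.asIdeal))))
    {T : Scheme.{u}} (π : T ⟶ X) (τ : T ⟶ Spec (CommRingCat.of Ω))
    (hpb : IsPullback π τ f (Spec.map (CommRingCat.ofHom (algebraMap A Ω)))) :
    IsIrreducible (π ⁻¹' (closure {c j Q} ∩ Set.range (c j))) := by
  set β : Spec (CommRingCat.of (R j ⧸ Q.asIdeal)) ⟶ X :=
    Spec.map (CommRingCat.ofHom (Ideal.Quotient.mk Q.asIdeal)) ≫ c j with hβ
  have hβf : β ≫ f = Spec.map (CommRingCat.ofHom (algebraMap A (R j ⧸ Q.asIdeal))) := by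
    rw [hβ, Category.assoc, hc j, ← Spec.map_comp]
    rfl
  have sq1 : IsPullback (pullback.snd β π) (pullback.fst β π) π β :=
    (IsPullback.of_hasPullback β π).flip
  have big := sq1.paste_horiz hpb.flip
  rw [hβf] at big
  let e : pullback β π ≅ Spec (CommRingCat.of (Ω ⊗[A] (R j ⧸ Q.asIdeal))) :=
    big.isoPullback ≪≫ pullbackSpecIso A Ω (R j ⧸ Q.asIdeal)
  haveI : IrreducibleSpace ↥(pullback β π) :=
    e.hom.homeomorph.irreducibleSpace_iff.mpr hirr
  have hr : Set.range (pullback.snd β π) = π ⁻¹' Set.range β := Scheme.Pullback.range_snd β π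
  rw [← range_chart_quotient, ← hr, ← Set.image_univ]
  exact (IrreducibleSpace.isIrreducible_univ _).image _ (pullback.snd β π).continuous.continuousOn

end Charts

section Main

variable {A : Type u} [CommRing A] [IsDomain A] {X : Scheme.{u}}
  (f : X ⟶ Spec (CommRingCat.of A)) [LocallyOfFiniteType f]
  {J : Type*} [Finite J] (R : J → Type u) [∀ j, CommRing (R j)] [∀ j, Algebra A (R j)]
  [∀ j, Algebra.FiniteType A (R j)]
  (c : ∀ j, Spec (CommRingCat.of (R j)) ⟶ X) [∀ j, IsOpenImmersion (c j)]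
  (hc : ∀ j, c j ≫ f = Spec.map (CommRingCat.ofHom (algebraMap A (R j))))
  (hcov : ∀ x : X, ∃ j, x ∈ Set.range (c j))
  (GI : ∀ j, ∀ 𝔮 ∈ minimalPrimes (R j), 𝔮.comap (algebraMap A (R j)) = ⊥ →
    GenGeomInt A (R j ⧸ 𝔮))

include hc hcov GI in
/-- **Geometric irreducibility of the nearby fibres of a component.** -/
theorem geomIrr_closure (ξ₀ : X) (hξ₀ : f ξ₀ = gen A)
    (hmax : ∀ x : X, f x = gen A → x ⤳ ξ₀ → x = ξ₀) :
    ∃ s : A, s ≠ 0 ∧ ∀ (Ω : Type u) [Field Ω] [Algebra A Ω], algebraMap A Ω s ≠ 0 →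
      ∀ {T : Scheme.{u}} (π : T ⟶ X) (τ : T ⟶ Spec (CommRingCat.of Ω)),
        IsPullback π τ f (Spec.map (CommRingCat.ofHom (algebraMap A Ω))) →
        IsIrreducible (π ⁻¹' closure {ξ₀}) := by
  classical
  have phi_chart : ∀ (j : J) (Q : Spec (CommRingCat.of (R j))),
      f (c j Q) = PrimeSpectrum.comap (algebraMap A (R j)) Q := by
    intro j Q
    have h1 : (c j ≫ f) Q = (Spec.map (CommRingCat.ofHom (algebraMap A (R j)))) Q := by
      rw [hc j]
    rw [Scheme.Hom.comp_apply] at h1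
    exact h1
  -- Step A: the charts
  have hA : ∀ j : J, ∃ a : A, a ≠ 0 ∧ ∀ p : Spec (CommRingCat.of A), a ∉ p.asIdeal →
      ∀ Q : Spec (CommRingCat.of (R j)), c j Q = ξ₀ → ∀ (Ω : Type u) [Field Ω] [Algebra A Ω],
        RingHom.ker (algebraMap A Ω) = p.asIdeal →
        IrreducibleSpace (PrimeSpectrum (Ω ⊗[A] (R j ⧸ Q.asIdeal))) := by
    intro j
    by_cases h : ∃ Q : Spec (CommRingCat.of (R j)), c j Q = ξ₀
    · obtain ⟨Q, hQ⟩ := h
      have hQbot : Q.asIdeal.comap (algebraMap A (R j)) = ⊥ := by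
        have h1 := phi_chart j Q
        rw [hQ, hξ₀] at h1
        have h2 := congrArg PrimeSpectrum.asIdeal h1
        exact h2.symm
      have hQmin : Q.asIdeal ∈ minimalPrimes (R j) := by
        refine ⟨⟨Q.isPrime, bot_le⟩, ?_⟩
        rintro 𝔮' ⟨h𝔮', -⟩ hle
        set Q' : Spec (CommRingCat.of (R j)) := (⟨𝔮', h𝔮'⟩ : PrimeSpectrum (R j)) with hQ'
        have hsp : c j Q' ⤳ c j Q := by
          rw [(c j).isOpenEmbedding.isInducing.specializes_iff]
          exact (PrimeSpectrum.le_iff_specializes Q' Q).mp hle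
        have hfQ' : f (c j Q') = gen A := by
          rw [phi_chart]
          apply PrimeSpectrum.ext
          change Ideal.comap (algebraMap A (R j)) 𝔮' = ⊥
          rw [eq_bot_iff, ← hQbot]
          exact Ideal.comap_mono hle
        have heq := hmax (c j Q') hfQ' (hQ ▸ hsp)
        have : Q' = Q := (c j).isOpenEmbedding.injective (heq.trans hQ.symm)
        rw [← this]
      haveI : Algebra.FiniteType A (R j ⧸ Q.asIdeal) :=
        Algebra.FiniteType.of_surjective (Ideal.Quotient.mkₐ A Q.asIdeal)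
          (Ideal.Quotient.mkₐ_surjective A Q.asIdeal)
      obtain ⟨a, ha, hirr⟩ := geomIrr_domain (GI j Q.asIdeal hQmin hQbot)
      refine ⟨a, ha, fun p hp Q' hQ' Ω _ _ hker => ?_⟩
      have : Q' = Q := (c j).isOpenEmbedding.injective (hQ'.trans hQ.symm)
      subst this
      apply hirr Ω
      intro h0
      apply hp
      rw [← hker]
      exact h0
    · exact ⟨1, one_ne_zero, fun p _ Q hQ => (h ⟨Q, hQ⟩).elim⟩
  -- Step B: pairs of charts
  have hB : ∀ jj : J × J, ∃ s : A, s ≠ 0 ∧ ∀ p : Spec (CommRingCat.of A), s ∉ p.asIdeal →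
      ξ₀ ∈ Set.range (c jj.1) → ξ₀ ∈ Set.range (c jj.2) →
        ∃ z : X, z ∈ Set.range (c jj.1) ∧ z ∈ Set.range (c jj.2) ∧ ξ₀ ⤳ z ∧ f z = p := by
    rintro ⟨j, j'⟩
    by_cases h : ξ₀ ∈ Set.range (c j) ∧ ξ₀ ∈ Set.range (c j')
    · obtain ⟨s, hs, H⟩ := exists_ne_zero_forall_exists_specializes f ξ₀ hξ₀
        ((c j).opensRange ⊓ (c j').opensRange) ⟨h.1, h.2⟩
      refine ⟨s, hs, fun p hp _ _ => ?_⟩
      obtain ⟨z, ⟨hz1, hz2⟩, hsp, hfz⟩ := H p hp
      exact ⟨z, hz1, hz2, hsp, hfz⟩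
    · exact ⟨1, one_ne_zero, fun p _ h1 h2 => (h ⟨h1, h2⟩).elim⟩
  obtain ⟨sA, hsA, HA⟩ := exists_common _ hA
  obtain ⟨sB, hsB, HB⟩ := exists_common _ hB
  refine ⟨sA * sB, mul_ne_zero hsA hsB, ?_⟩
  intro Ω _ _ hΩ T π τ hpb
  have hΩA : algebraMap A Ω sA ≠ 0 := fun h0 => hΩ (by rw [map_mul, h0, zero_mul])
  have hΩB : algebraMap A Ω sB ≠ 0 := fun h0 => hΩ (by rw [map_mul, h0, mul_zero])
  set p₀ : Spec (CommRingCat.of A) :=
    (⟨RingHom.ker (algebraMap A Ω), RingHom.ker_isPrime _⟩ : PrimeSpectrum A) with hp₀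
  have hA₀ : sA ∉ p₀.asIdeal := fun h => hΩA h
  have hB₀ : sB ∉ p₀.asIdeal := fun h => hΩB h
  set y₀ : Spec (CommRingCat.of Ω) := (⟨⊥, Ideal.isPrime_bot⟩ : PrimeSpectrum Ω) with hy₀
  have hσ : (Spec.map (CommRingCat.ofHom (algebraMap A Ω))) y₀ = p₀ := by
    apply PrimeSpectrum.ext
    rfl
  have hlift : ∀ x : X, f x = p₀ → ∃ t : T, π t = x := by
    intro x hx
    obtain ⟨t, ht, -⟩ := Scheme.exists_preimage_of_isPullback hpb x y₀ (hx.trans hσ.symm)
    exact ⟨t, ht⟩
  haveI : Nonempty {j : J // ξ₀ ∈ Set.range (c j)} := by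
    obtain ⟨j, hj⟩ := hcov ξ₀
    exact ⟨⟨j, hj⟩⟩
  refine isIrreducible_of_cover (π ⁻¹' closure {ξ₀})
    (fun j : {j : J // ξ₀ ∈ Set.range (c j)} => π ⁻¹' Set.range (c j.1)) ?_ ?_ ?_ ?_
  · intro j
    exact (c j.1).isOpenEmbedding.isOpen_range.preimage π.continuous
  · rintro ⟨j, Q, hQ⟩
    rw [← Set.preimage_inter]
    have hirr := HA p₀ hA₀ j Q hQ Ω rfl
    have := isIrreducible_preimage_chart f R c hc j Q Ω hirr π τ hpb
    rwa [hQ] at this
  · intro t ht
    obtain ⟨j, hj⟩ := hcov (π t)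
    have hsp : ξ₀ ⤳ π t := specializes_iff_mem_closure.mpr ht
    have hξj : ξ₀ ∈ Set.range (c j) := hsp.mem_open (c j).isOpenEmbedding.isOpen_range hj
    exact Set.mem_iUnion.mpr ⟨⟨j, hξj⟩, hj⟩
  · rintro ⟨j, hj⟩ ⟨j', hj'⟩
    obtain ⟨z, hz1, hz2, hsp, hfz⟩ := HB p₀ hB₀ (j, j') hj hj'
    obtain ⟨t, ht⟩ := hlift z hfz
    refine ⟨t, ⟨?_, ?_⟩, ?_⟩
    · change π t ∈ closure {ξ₀}
      rw [ht]
      exact specializes_iff_mem_closure.mp hsp
    · change π t ∈ Set.range (c j)
      rw [ht]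
      exact hz1
    · change π t ∈ Set.range (c j')
      rw [ht]
      exact hz2

end Main

end Groth.Agent.Lib.helper9.NGeom
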