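/-
Helper library (helper9): the geometric numbers of irreducible and connected components of the
fibres are generically constant (finite type morphisms to the spectrum of a domain with charts
whose generic components are geometrically integral).
-/
import Mathlib
import Groth.Prelude.Def_MoreMor
import Groth.Agent.Lib.Helper9.NGeom1
import Groth.Agent.Lib.Helper9.NGeom6

set_option autoImplicit false
set_option linter.style.haveILetI false
set_option backward.isDefEq.respectTransparency false

namespace Groth.Agent.Lib.helper9.NGeom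

open AlgebraicGeometry CategoryTheory Limits TopologicalSpace TensorProduct

universe u

section Squares

variable {X Y : Scheme.{u}} (f : X ⟶ Y) (y : Y)

/-- The projection of the geometric fibre to the total space. -/
noncomputable def geomFiberπ : MoreMor.geomFiber f y ⟶ X :=
  pullback.fst (f.fiberToSpecResidueField y)
    (Spec.map (CommRingCat.ofHom
      (algebraMap (Y.residueField y) (SeparableClosure (Y.residueField y))))) ≫ f.fiberι y

/-- The geometric fibre is a base change of `f` to a field. -/
theorem geomFiber_isPullback :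
    IsPullback (geomFiberπ f y)
      (pullback.snd (f.fiberToSpecResidueField y)
        (Spec.map (CommRingCat.ofHom
          (algebraMap (Y.residueField y) (SeparableClosure (Y.residueField y))))))
      f
      (Spec.map (CommRingCat.ofHom
          (algebraMap (Y.residueField y) (SeparableClosure (Y.residueField y)))) ≫
        Y.fromSpecResidueField y) := by
  have h1 := IsPullback.of_hasPullback (f.fiberToSpecResidueField y)
    (Spec.map (CommRingCat.ofHom
      (algebraMap (Y.residueField y) (SeparableClosure (Y.residueField y)))))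
  have h2 : IsPullback (f.fiberι y) (f.fiberToSpecResidueField y) f (Y.fromSpecResidueField y) :=
    IsPullback.of_hasPullback f (Y.fromSpecResidueField y)
  exact h1.paste_horiz h2

/-- The topological fibre is a base change of `f` to a field. -/
theorem fiber_isPullback :
    IsPullback (f.fiberι y) (f.fiberToSpecResidueField y) f (Y.fromSpecResidueField y) :=
  IsPullback.of_hasPullback f (Y.fromSpecResidueField y)

end Squares

section FieldPoint

variable {A : Type u} [CommRing A] {X : Scheme.{u}} (f : X ⟶ Spec (CommRingCat.of A))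

/-- Transfer of the irreducibility statement to a base change to a field given by an arbitrary
morphism from the spectrum of the field. -/
theorem isIrreducible_of_fieldPoint {ξ₀ : X} {s : A}
    (hs : ∀ (Ω : Type u) [Field Ω] [Algebra A Ω], algebraMap A Ω s ≠ 0 →
      ∀ {T : Scheme.{u}} (π : T ⟶ X) (τ : T ⟶ Spec (CommRingCat.of Ω)),
        IsPullback π τ f (Spec.map (CommRingCat.ofHom (algebraMap A Ω))) →
        IsIrreducible (π ⁻¹' closure {ξ₀}))
    (L : Type u) [Field L] (σ : Spec (CommRingCat.of L) ⟶ Spec (CommRingCat.of A))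
    (p : Spec (CommRingCat.of A)) (hσ : ∀ y, σ y = p) (hp : s ∉ p.asIdeal)
    {T : Scheme.{u}} (π : T ⟶ X) (τ : T ⟶ Spec (CommRingCat.of L)) (hpb : IsPullback π τ f σ) :
    IsIrreducible (π ⁻¹' closure {ξ₀}) := by
  letI : Algebra A L := (Spec.preimage σ).hom.toAlgebra
  have e : Spec.map (CommRingCat.ofHom (algebraMap A L)) = σ := by
    change Spec.map (CommRingCat.ofHom (Spec.preimage σ).hom) = σ
    rw [CommRingCat.ofHom_hom]
    exact Spec.map_preimage σ
  have h : algebraMap A L s ≠ 0 := by
    intro h0
    apply hp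
    set y₀ : Spec (CommRingCat.of L) := (⟨⊥, Ideal.isPrime_bot⟩ : PrimeSpectrum L) with hy₀
    have h1 : (Spec.map (CommRingCat.ofHom (algebraMap A L))) y₀ = p := by rw [e]; exact hσ y₀
    rw [← h1]
    exact h0
  exact hs L h π τ (e ▸ hpb)

end FieldPoint

section Good

variable {A : Type u} [CommRing A] [IsDomain A] {X : Scheme.{u}}

/-- The output of the generic analysis of a finite type morphism `f : X ⟶ Spec A`: the generic
points `ξ i` of the components of the generic fibre, and a nonzero `a` such that over `D(a)` the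
closures of the `ξ i` cut out geometrically irreducible closed subsets of the fibres which cover
the fibres, are pairwise incomparable and meet exactly as they do in the generic fibre. -/
structure Good (f : X ⟶ Spec (CommRingCat.of A)) (a : A) where
  ι : Type u
  fin : Finite ι
  ξ : ι → X
  hover : ∀ i, f (ξ i) = gen A
  gener : ∀ x : X, a ∉ (f x).asIdeal → ∃ i, ξ i ⤳ x
  irr : ∀ (i : ι) (Ω : Type u) [Field Ω] [Algebra A Ω], algebraMap A Ω a ≠ 0 →
    ∀ {T : Scheme.{u}} (π : T ⟶ X) (τ : T ⟶ Spec (CommRingCat.of Ω)),
      IsPullback π τ f (Spec.map (CommRingCat.ofHom (algebraMap A Ω))) →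
      IsIrreducible (π ⁻¹' closure {ξ i})
  notsub : ∀ i j, i ≠ j → ∀ p : Spec (CommRingCat.of A), a ∉ p.asIdeal →
    ∃ x : X, f x = p ∧ ξ i ⤳ x ∧ ¬ ξ j ⤳ x
  meet : ∀ i j (p : Spec (CommRingCat.of A)), a ∉ p.asIdeal →
    ((∃ x : X, f x = p ∧ ξ i ⤳ x ∧ ξ j ⤳ x) ↔ (∃ w : X, f w = gen A ∧ ξ i ⤳ w ∧ ξ j ⤳ w))

/-- A base change of `f` to a field lying over the point `p`. -/
structure FieldPt (f : X ⟶ Spec (CommRingCat.of A)) (p : Spec (CommRingCat.of A)) where
  L : Type u
  [field : Field L]
  σ : Spec (CommRingCat.of L) ⟶ Spec (CommRingCat.of A)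
  hσ : ∀ y, σ y = p
  T : Scheme.{u}
  π : T ⟶ X
  τ : T ⟶ Spec (CommRingCat.of L)
  pb : IsPullback π τ f σ

attribute [instance] FieldPt.field

namespace FieldPt

variable {f : X ⟶ Spec (CommRingCat.of A)} {p : Spec (CommRingCat.of A)} (P : FieldPt f p)

theorem apply_π (t : P.T) : f (P.π t) = p := by
  rw [← Scheme.Hom.comp_apply, P.pb.w, Scheme.Hom.comp_apply]
  exact P.hσ _

theorem exists_lift (x : X) (hx : f x = p) : ∃ t : P.T, P.π t = x := by
  set y₀ : Spec (CommRingCat.of P.L) := (⟨⊥, Ideal.isPrime_bot⟩ : PrimeSpectrum P.L) with hy₀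
  obtain ⟨t, ht, -⟩ := Scheme.exists_preimage_of_isPullback P.pb x y₀ (hx.trans (P.hσ y₀).symm)
  exact ⟨t, ht⟩

end FieldPt

namespace Good

variable {f : X ⟶ Spec (CommRingCat.of A)} {a : A} (G : Good f a)

/-- The closed subsets of a base change to a field cut out by the closures of the `ξ i`. -/
def C {p : Spec (CommRingCat.of A)} (P : FieldPt f p) (i : G.ι) : Set P.T :=
  P.π ⁻¹' closure {G.ξ i}

variable {p : Spec (CommRingCat.of A)} (hp : a ∉ p.asIdeal) (P : FieldPt f p)

theorem isClosed_C (i : G.ι) : IsClosed (G.C P i) :=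
  isClosed_closure.preimage P.π.continuous

include hp in
theorem isIrreducible_C (i : G.ι) : IsIrreducible (G.C P i) :=
  isIrreducible_of_fieldPoint f (G.irr i) P.L P.σ p P.hσ hp P.π P.τ P.pb

include hp in
theorem iUnion_C : ⋃ i, G.C P i = Set.univ := by
  rw [Set.eq_univ_iff_forall]
  intro t
  obtain ⟨i, hi⟩ := G.gener (P.π t) (by rw [P.apply_π]; exact hp)
  exact Set.mem_iUnion.mpr ⟨i, specializes_iff_mem_closure.mp hi⟩

include hp in
theorem C_subset (i j : G.ι) (h : G.C P i ⊆ G.C P j) : i = j := by
  by_contra hij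
  obtain ⟨x, hx, hix, hjx⟩ := G.notsub i j hij p hp
  obtain ⟨t, rfl⟩ := P.exists_lift x hx
  exact hjx (specializes_iff_mem_closure.mpr (h (specializes_iff_mem_closure.mp hix)))

include hp in
theorem C_meet (i j : G.ι) :
    (G.C P i ∩ G.C P j).Nonempty ↔ ∃ w : X, f w = gen A ∧ G.ξ i ⤳ w ∧ G.ξ j ⤳ w := by
  rw [← G.meet i j p hp]
  constructor
  · rintro ⟨t, hti, htj⟩
    exact ⟨P.π t, P.apply_π t, specializes_iff_mem_closure.mpr hti,
      specializes_iff_mem_closure.mpr htj⟩
  · rintro ⟨x, hx, hix, hjx⟩
    obtain ⟨t, rfl⟩ := P.exists_lift x hx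
    exact ⟨t, specializes_iff_mem_closure.mp hix, specializes_iff_mem_closure.mp hjx⟩

include hp in
theorem encard_irreducibleComponents :
    (irreducibleComponents P.T).encard = ENat.card G.ι := by
  haveI := G.fin
  exact encard_irreducibleComponents_eq (G.C P) (G.isClosed_C P) (G.isIrreducible_C hp P)
    (G.iUnion_C hp P) (G.C_subset hp P)

include G hp in
theorem card_connectedComponents {p' : Spec (CommRingCat.of A)} (hp' : a ∉ p'.asIdeal)
    (P' : FieldPt f p') :
    ENat.card (_root_.ConnectedComponents P.T) =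
      ENat.card (_root_.ConnectedComponents P'.T) := by
  haveI := G.fin
  refine card_connectedComponents_eq_of_pattern (G.C P) (G.C P') (G.isClosed_C P)
    (fun i => (G.isIrreducible_C hp P i).isConnected) (G.iUnion_C hp P) (G.isClosed_C P')
    (fun i => (G.isIrreducible_C hp' P' i).isConnected) (G.iUnion_C hp' P') ?_
  intro i j
  rw [G.C_meet hp P, G.C_meet hp' P']

end Good

end Good

end Groth.Agent.Lib.helper9.NGeom
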