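/-
Helper library (helper9): existence of the generic analysis `Good f a` for finite type morphisms
to the spectrum of a domain with charts whose generic components are geometrically integral, and
the resulting constancy of the geometric numbers of components on a principal open.
-/
import Mathlib
import Groth.Prelude.Def_MoreMor
import Groth.Agent.Lib.Helper9.NGeom7

set_option autoImplicit false
set_option linter.style.haveILetI false
set_option backward.isDefEq.respectTransparency false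

namespace Groth.Agent.Lib.helper9.NGeom

open AlgebraicGeometry CategoryTheory Limits TopologicalSpace TensorProduct

universe u

section CoreGI

variable {A : Type u} [CommRing A] [IsDomain A] {X : Scheme.{u}}
  (f : X ⟶ Spec (CommRingCat.of A)) [LocallyOfFiniteType f] [QuasiCompact f]
  {J : Type*} [Finite J] (R : J → Type u) [∀ j, CommRing (R j)] [∀ j, Algebra A (R j)]
  [∀ j, Algebra.FiniteType A (R j)]
  (c : ∀ j, Spec (CommRingCat.of (R j)) ⟶ X) [∀ j, IsOpenImmersion (c j)]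
  (hc : ∀ j, c j ≫ f = Spec.map (CommRingCat.ofHom (algebraMap A (R j))))
  (hcov : ∀ x : X, ∃ j, x ∈ Set.range (c j))
  (GI : ∀ j, ∀ 𝔮 ∈ minimalPrimes (R j), 𝔮.comap (algebraMap A (R j)) = ⊥ →
    GenGeomInt A (R j ⧸ 𝔮))

include hc hcov GI in
/-- **Generic analysis.** -/
theorem exists_good : ∃ a : A, a ≠ 0 ∧ Nonempty (Good f a) := by
  classical
  obtain ⟨ι, hfin, ξ, h1, h2, h3, h4⟩ := exists_generic_points f
  haveI := hfin
  haveI : Fintype ι := Fintype.ofFinite ι
  obtain ⟨s1, hs1, H1⟩ := nearby_generization f ξ h2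
  have hirr := fun i => geomIrr_closure f R c hc hcov GI (ξ i) (h1 i) (h4 i)
  choose s2 hs2 H2 using hirr
  have hns : ∀ ij : ι × ι, ∃ s : A, s ≠ 0 ∧ ∀ p : Spec (CommRingCat.of A), s ∉ p.asIdeal →
      (ij.1 ≠ ij.2 → ∃ x : X, f x = p ∧ ξ ij.1 ⤳ x ∧ ¬ ξ ij.2 ⤳ x) := by
    rintro ⟨i, j⟩
    by_cases hij : i = j
    · exact ⟨1, one_ne_zero, fun p _ h => (h hij).elim⟩
    · obtain ⟨s, hs, H⟩ := nearby_not_subset f ξ h1 h3 i j hij
      exact ⟨s, hs, fun p hp _ => H p hp⟩
  obtain ⟨s3, hs3, H3⟩ := exists_common _ hns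
  have hmt : ∀ ij : ι × ι, ∃ s : A, s ≠ 0 ∧ ∀ p : Spec (CommRingCat.of A), s ∉ p.asIdeal →
      ((∃ x : X, f x = p ∧ ξ ij.1 ⤳ x ∧ ξ ij.2 ⤳ x) ↔
        (∃ w : X, f w = gen A ∧ ξ ij.1 ⤳ w ∧ ξ ij.2 ⤳ w)) := fun ij => nearby_meet f ξ ij.1 ij.2
  obtain ⟨s4, hs4, H4⟩ := exists_common _ hmt
  refine ⟨s1 * (∏ i, s2 i) * s3 * s4, mul_ne_zero (mul_ne_zero (mul_ne_zero hs1
    (Finset.prod_ne_zero_iff.mpr fun i _ => hs2 i)) hs3) hs4, ⟨?_⟩⟩
  have d1 : ∀ q : Ideal A, s1 * (∏ i, s2 i) * s3 * s4 ∉ q → s1 ∉ q := fun q hq h =>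
    hq (Ideal.mul_mem_right _ _ (Ideal.mul_mem_right _ _ (Ideal.mul_mem_right _ _ h)))
  have d3 : ∀ q : Ideal A, s1 * (∏ i, s2 i) * s3 * s4 ∉ q → s3 ∉ q := fun q hq h =>
    hq (Ideal.mul_mem_right _ _ (Ideal.mul_mem_left _ _ h))
  have d4 : ∀ q : Ideal A, s1 * (∏ i, s2 i) * s3 * s4 ∉ q → s4 ∉ q := fun q hq h =>
    hq (Ideal.mul_mem_left _ _ h)
  refine
    { ι := ι
      fin := hfin
      ξ := ξ
      hover := h1
      gener := fun x hx => H1 x (d1 _ hx)
      irr := ?_
      notsub := fun i j hij p hp => H3 p (d3 _ hp) (i, j) hij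
      meet := fun i j p hp => H4 p (d4 _ hp) (i, j) }
  intro i Ω _ _ hΩ T π τ hpb
  refine H2 i Ω ?_ π τ hpb
  intro h0
  apply hΩ
  have hdvd : s2 i ∣ s1 * (∏ i, s2 i) * s3 * s4 :=
    Dvd.dvd.mul_right (Dvd.dvd.mul_right (Dvd.dvd.mul_left
      (Finset.dvd_prod_of_mem s2 (Finset.mem_univ i)) _) _) _
  obtain ⟨r, hr⟩ := hdvd
  rw [hr, map_mul, h0, zero_mul]

end CoreGI

section Numbers

variable {A : Type u} [CommRing A] [IsDomain A] {X : Scheme.{u}}
  (f : X ⟶ Spec (CommRingCat.of A))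

/-- The geometric fibre as a field valued point. -/
noncomputable def FieldPt.geom (p : Spec (CommRingCat.of A)) : FieldPt f p where
  L := SeparableClosure ((Spec (CommRingCat.of A)).residueField p)
  σ := Spec.map (CommRingCat.ofHom (algebraMap ((Spec (CommRingCat.of A)).residueField p)
      (SeparableClosure ((Spec (CommRingCat.of A)).residueField p)))) ≫
    (Spec (CommRingCat.of A)).fromSpecResidueField p
  hσ := fun y => by
    rw [Scheme.Hom.comp_apply]
    exact Scheme.fromSpecResidueField_apply _ _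
  T := MoreMor.geomFiber f p
  π := geomFiberπ f p
  τ := pullback.snd (f.fiberToSpecResidueField p)
    (Spec.map (CommRingCat.ofHom (algebraMap ((Spec (CommRingCat.of A)).residueField p)
      (SeparableClosure ((Spec (CommRingCat.of A)).residueField p)))))
  pb := geomFiber_isPullback f p

variable {f}

theorem Good.nGeomIrredComp_eq {a : A} (G : Good f a) (p : Spec (CommRingCat.of A))
    (hp : a ∉ p.asIdeal) : MoreMor.nGeomIrredComp f p = ENat.card G.ι :=
  G.encard_irreducibleComponents hp (FieldPt.geom f p)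

theorem Good.nGeomConnComp_eq {a : A} (G : Good f a) (p p' : Spec (CommRingCat.of A))
    (hp : a ∉ p.asIdeal) (hp' : a ∉ p'.asIdeal) :
    MoreMor.nGeomConnComp f p = MoreMor.nGeomConnComp f p' :=
  G.card_connectedComponents hp (FieldPt.geom f p) hp' (FieldPt.geom f p')

end Numbers

end Groth.Agent.Lib.helper9.NGeom
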