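/-
Helper library (helper9): the section components over the good principal open of the generic
analysis `Good f a` are cut out by closed subsets, as is their complement.
-/
import Mathlib
import Groth.Prelude.Def_MoreMor
import Groth.Agent.Lib.Helper9.NGeom8

set_option autoImplicit false
set_option linter.style.haveILetI false
set_option backward.isDefEq.respectTransparency false

namespace Groth.Agent.Lib.helper9.NGeom

open AlgebraicGeometry CategoryTheory Limits TopologicalSpace

universe u v

section Top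

variable {T : Type u} [TopologicalSpace T] {ι : Type v} [Finite ι] (C : ι → Set T)

/-- The connected component of a point of a space covered by finitely many closed connected
subsets is the union of the members of the class of any member containing the point. -/
theorem connectedComponent_eq_iUnion (hclosed : ∀ i, IsClosed (C i))
    (hconn : ∀ i, IsConnected (C i)) (hcov : ⋃ i, C i = Set.univ) (i : ι) (x : T)
    (hx : x ∈ C i) :
    connectedComponent x = ⋃ (k : ι) (_ : Quot.mk (fun i j : ι => (C i ∩ C j).Nonempty) k =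
      Quot.mk (fun i j : ι => (C i ∩ C j).Nonempty) i), C k := by
  classical
  set r : ι → ι → Prop := fun i j => (C i ∩ C j).Nonempty with hr
  choose t ht using fun i => (hconn i).nonempty
  have hmk : ∀ i, ∀ x ∈ C i, ConnectedComponents.mk x = ConnectedComponents.mk (t i) := by
    intro i x hx
    rw [ConnectedComponents.coe_eq_coe']
    exact (hconn i).isPreconnected.subset_connectedComponent (ht i) hx
  have hΦwd : ∀ i j, r i j → ConnectedComponents.mk (t i) = ConnectedComponents.mk (t j) := by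
    rintro i j ⟨x, hxi, hxj⟩
    rw [← hmk i x hxi, ← hmk j x hxj]
  let Φ : Quot r → _root_.ConnectedComponents T :=
    Quot.lift (fun i => ConnectedComponents.mk (t i)) hΦwd
  set U : Set T := ⋃ (k : ι) (_ : Quot.mk r k = Quot.mk r i), C k with hU
  set U' : Set T := ⋃ (k : ι) (_ : Quot.mk r k ≠ Quot.mk r i), C k with hU'
  apply Set.Subset.antisymm
  · have hUc : IsClosed U := isClosed_iUnion_of_finite fun k => isClosed_iUnion_of_finite
      fun _ => hclosed k
    have hU'c : IsClosed U' := isClosed_iUnion_of_finite fun k => isClosed_iUnion_of_finite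
      fun _ => hclosed k
    have hdisj : U ∩ U' = ∅ := by
      apply Set.eq_empty_of_forall_notMem
      rintro x ⟨hx, hx'⟩
      obtain ⟨k, hk, hxk⟩ := Set.mem_iUnion₂.mp hx
      obtain ⟨k', hk', hxk'⟩ := Set.mem_iUnion₂.mp hx'
      apply hk'
      rw [← hk]
      exact (Quot.sound (⟨x, hxk, hxk'⟩ : r k k')).symm
    have hunion : U ∪ U' = Set.univ := by
      rw [Set.eq_univ_iff_forall]
      intro x
      have hx : x ∈ ⋃ i, C i := by rw [hcov]; exact Set.mem_univ x
      obtain ⟨k, hk⟩ := Set.mem_iUnion.mp hx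
      by_cases h : Quot.mk r k = Quot.mk r i
      · exact Or.inl (Set.mem_iUnion₂.mpr ⟨k, h, hk⟩)
      · exact Or.inr (Set.mem_iUnion₂.mpr ⟨k, h, hk⟩)
    have hUeq : U = U'ᶜ := by
      ext x
      constructor
      · intro hx hx'
        have : x ∈ U ∩ U' := ⟨hx, hx'⟩
        rw [hdisj] at this
        exact this
      · intro hx
        have : x ∈ U ∪ U' := by rw [hunion]; exact Set.mem_univ x
        exact this.resolve_right hx
    have hUclopen : IsClopen U := ⟨hUc, by rw [hUeq]; exact hU'c.isOpen_compl⟩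
    exact hUclopen.connectedComponent_subset (Set.mem_iUnion₂.mpr ⟨i, rfl, hx⟩)
  · intro z hz
    obtain ⟨k, hk, hzk⟩ := Set.mem_iUnion₂.mp hz
    have h1 : ConnectedComponents.mk (t k) = ConnectedComponents.mk (t i) :=
      congrArg Φ hk
    have h2 : ConnectedComponents.mk z = ConnectedComponents.mk x := by
      rw [hmk k z hzk, hmk i x hx, h1]
    rw [ConnectedComponents.coe_eq_coe'] at h2
    exact h2

end Top

section Sections

variable {A : Type u} [CommRing A] [IsDomain A] {X : Scheme.{u}}
  {f : X ⟶ Spec (CommRingCat.of A)}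

/-- The topological fibre as a field valued point. -/
noncomputable def FieldPt.top (f : X ⟶ Spec (CommRingCat.of A)) (p : Spec (CommRingCat.of A)) :
    FieldPt f p where
  L := (Spec (CommRingCat.of A)).residueField p
  σ := (Spec (CommRingCat.of A)).fromSpecResidueField p
  hσ := fun _ => Scheme.fromSpecResidueField_apply _ _
  T := f.fiber p
  π := f.fiberι p
  τ := f.fiberToSpecResidueField p
  pb := fiber_isPullback f p

variable {a : A} (G : Good f a)

/-- The generic incidence relation of the components. -/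
def Good.rel (i j : G.ι) : Prop := ∃ w : X, f w = gen A ∧ G.ξ i ⤳ w ∧ G.ξ j ⤳ w

/-- The traces of the closures of the generic points on a topological fibre. -/
def Good.D (p : Spec (CommRingCat.of A)) (i : G.ι) : Set ↥(f ⁻¹' {p}) :=
  Subtype.val ⁻¹' closure {G.ξ i}

variable {p : Spec (CommRingCat.of A)} (hp : a ∉ p.asIdeal)

theorem Good.isClosed_D (i : G.ι) : IsClosed (G.D p i) :=
  isClosed_closure.preimage continuous_subtype_val

include hp in
theorem Good.isIrreducible_D (i : G.ι) : IsIrreducible (G.D p i) := by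
  have h1 := G.isIrreducible_C hp (FieldPt.top f p) i
  let φ : ↥(f.fiber p) → ↥(f ⁻¹' {p}) := fun t => ⟨f.fiberι p t, by
    have : f.fiberι p t ∈ Set.range (f.fiberι p) := ⟨t, rfl⟩
    rw [f.range_fiberι] at this
    exact this⟩
  have hφ : Continuous φ := (f.fiberι p).continuous.subtype_mk _
  have h2 : G.D p i = φ '' (G.C (FieldPt.top f p) i) := by
    ext ⟨z, hz⟩
    constructor
    · intro hzc
      have : z ∈ Set.range (f.fiberι p) := by rw [f.range_fiberι]; exact hz
      obtain ⟨t, rfl⟩ := this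
      exact ⟨t, hzc, rfl⟩
    · rintro ⟨t, ht, heq⟩
      have : f.fiberι p t = z := congrArg Subtype.val heq
      change z ∈ closure {G.ξ i}
      rw [← this]
      exact ht
  rw [h2]
  exact h1.image φ hφ.continuousOn

include hp in
theorem Good.iUnion_D : ⋃ i, G.D p i = Set.univ := by
  rw [Set.eq_univ_iff_forall]
  rintro ⟨z, hz⟩
  obtain ⟨i, hi⟩ := G.gener z (by rw [hz]; exact hp)
  exact Set.mem_iUnion.mpr ⟨i, specializes_iff_mem_closure.mp hi⟩

include hp in
theorem Good.D_meet (i j : G.ι) : (G.D p i ∩ G.D p j).Nonempty ↔ G.rel i j := by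
  unfold Good.rel
  rw [← G.meet i j p hp]
  constructor
  · rintro ⟨⟨z, hz⟩, hzi, hzj⟩
    exact ⟨z, hz, specializes_iff_mem_closure.mpr hzi, specializes_iff_mem_closure.mpr hzj⟩
  · rintro ⟨x, hx, hix, hjx⟩
    exact ⟨⟨x, hx⟩, specializes_iff_mem_closure.mp hix, specializes_iff_mem_closure.mp hjx⟩

include hp in
/-- The connected component of a point of a good fibre. -/
theorem Good.connectedComponentIn_eq (x : X) (hx : f x = p) (i : G.ι) (hi : G.ξ i ⤳ x) (z : X) :
    z ∈ connectedComponentIn (f ⁻¹' {p}) x ↔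
      f z = p ∧ ∃ k, Quot.mk G.rel k = Quot.mk G.rel i ∧ G.ξ k ⤳ z := by
  haveI := G.fin
  have hxF : x ∈ f ⁻¹' {p} := hx
  have hrel : (fun i j : G.ι => (G.D p i ∩ G.D p j).Nonempty) = G.rel := by
    funext i j
    exact propext (G.D_meet hp i j)
  have key := connectedComponent_eq_iUnion (G.D p) (G.isClosed_D) (fun i =>
    (G.isIrreducible_D hp i).isConnected) (G.iUnion_D hp) i (⟨x, hxF⟩ : ↥(f ⁻¹' {p}))
    (specializes_iff_mem_closure.mp hi)
  rw [hrel] at key
  rw [connectedComponentIn, dif_pos hxF, key]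
  constructor
  · rintro ⟨⟨z', hz'⟩, hmem, rfl⟩
    obtain ⟨k, hk, hzk⟩ := Set.mem_iUnion₂.mp hmem
    exact ⟨hz', k, hk, specializes_iff_mem_closure.mpr hzk⟩
  · rintro ⟨hz, k, hk, hzk⟩
    exact ⟨⟨z, hz⟩, Set.mem_iUnion₂.mpr ⟨k, hk, specializes_iff_mem_closure.mp hzk⟩, rfl⟩

include G in
/-- **Section components over the good open.** -/
theorem Good.sectionComponents_closed (ha : a ≠ 0) (g : Spec (CommRingCat.of A) ⟶ X)
    (hg : g ≫ f = 𝟙 _) :
    ∃ Z₁ Z₂ : Set X, IsClosed Z₁ ∧ IsClosed Z₂ ∧ ∀ x : X, a ∉ (f x).asIdeal →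
      ((x ∈ MoreMor.sectionComponents f g ↔ x ∈ Z₁) ∧
        (x ∉ MoreMor.sectionComponents f g ↔ x ∈ Z₂)) := by
  classical
  haveI := G.fin
  have hfg : ∀ q, f (g q) = q := fun q => by
    rw [← Scheme.Hom.comp_apply, hg]; rfl
  obtain ⟨i₀, hi₀⟩ := G.gener (g (gen A)) (by rw [hfg]; exact fun h => ha h)
  have hi₀' : ∀ q, G.ξ i₀ ⤳ g q := fun q =>
    hi₀.trans ((gen_specializes A q).map g.continuous)
  refine ⟨⋃ (k : G.ι) (_ : Quot.mk G.rel k = Quot.mk G.rel i₀), closure {G.ξ k},
    ⋃ (k : G.ι) (_ : Quot.mk G.rel k ≠ Quot.mk G.rel i₀), closure {G.ξ k},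
    isClosed_iUnion_of_finite fun k => isClosed_iUnion_of_finite fun _ => isClosed_closure,
    isClosed_iUnion_of_finite fun k => isClosed_iUnion_of_finite fun _ => isClosed_closure, ?_⟩
  intro x hx
  have h1 : x ∈ MoreMor.sectionComponents f g ↔
      ∃ k, Quot.mk G.rel k = Quot.mk G.rel i₀ ∧ G.ξ k ⤳ x := by
    change x ∈ connectedComponentIn (f ⁻¹' {f x}) (g (f x)) ↔ _
    rw [G.connectedComponentIn_eq hx (g (f x)) (hfg _) i₀ (hi₀' _) x]
    exact ⟨fun h => h.2, fun h => ⟨rfl, h⟩⟩
  refine ⟨?_, ?_⟩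
  · rw [h1]
    constructor
    · rintro ⟨k, hk, hkx⟩
      exact Set.mem_iUnion₂.mpr ⟨k, hk, specializes_iff_mem_closure.mp hkx⟩
    · intro h
      obtain ⟨k, hk, hkx⟩ := Set.mem_iUnion₂.mp h
      exact ⟨k, hk, specializes_iff_mem_closure.mpr hkx⟩
  · rw [h1]
    constructor
    · intro hnot
      obtain ⟨k, hk⟩ := G.gener x hx
      refine Set.mem_iUnion₂.mpr ⟨k, fun hk0 => hnot ⟨k, hk0, hk⟩, specializes_iff_mem_closure.mp hk⟩
    · intro h
      obtain ⟨k, hk, hkx⟩ := Set.mem_iUnion₂.mp h
      rintro ⟨k', hk', hk'x⟩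
      apply hk
      rw [← hk']
      have hr : G.rel k k' := by
        rw [← G.D_meet hx k k']
        exact ⟨⟨x, rfl⟩, hkx, specializes_iff_mem_closure.mp hk'x⟩
      exact Quot.sound hr

end Sections

end Groth.Agent.Lib.helper9.NGeom
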