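/-
Helper library (helper9): the geometric numbers of irreducible and of connected components of the
fibres of a finite type morphism to the spectrum of a domain are constant on a nonempty principal
open (EGA IV 9.7.8), and the same along an arbitrary morphism from the spectrum of a domain.
-/
import Mathlib
import Groth.Prelude.Def_MoreMor
import Groth.Agent.Lib.Helper3.GeomFiberBC
import Groth.Agent.Lib.Helper9.GeomInt3
import Groth.Agent.Lib.Helper9.NGeom8

set_option autoImplicit false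
set_option linter.style.haveILetI false
set_option backward.isDefEq.respectTransparency false

namespace Groth.Agent.Lib.helper9.NGeom

open AlgebraicGeometry CategoryTheory Limits TopologicalSpace TensorProduct

universe u

/-- Finitely many affine charts of finite type of a finite type scheme over an affine base. -/
theorem exists_charts {A : Type u} [CommRing A] {X : Scheme.{u}} (f : X ⟶ Spec (CommRingCat.of A))
    [LocallyOfFiniteType f] [QuasiCompact f] :
    ∃ (J : Type u) (_ : Finite J) (R : J → Type u) (_ : ∀ j, CommRing (R j))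
      (_ : ∀ j, Algebra A (R j)) (_ : ∀ j, Algebra.FiniteType A (R j))
      (c : ∀ j, Spec (CommRingCat.of (R j)) ⟶ X) (_ : ∀ j, IsOpenImmersion (c j)),
      (∀ j, c j ≫ f = Spec.map (CommRingCat.ofHom (algebraMap A (R j)))) ∧
        ∀ x : X, ∃ j, x ∈ Set.range (c j) := by
  haveI : CompactSpace X := QuasiCompact.compactSpace_of_compactSpace f
  let 𝒰 := X.affineCover.finiteSubcover
  let c : ∀ j : 𝒰.I₀, Spec (CommRingCat.of Γ(𝒰.X j, ⊤)) ⟶ X := fun j =>
    (𝒰.X j).isoSpec.inv ≫ 𝒰.f j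
  haveI hoi : ∀ j, IsOpenImmersion (c j) := fun j => by
    dsimp only [c]; infer_instance
  let φ : ∀ j : 𝒰.I₀, CommRingCat.of A ⟶ CommRingCat.of Γ(𝒰.X j, ⊤) := fun j =>
    Spec.preimage (c j ≫ f)
  have hφ : ∀ j, Spec.map (φ j) = c j ≫ f := fun j => Spec.map_preimage _
  letI alg : ∀ j : 𝒰.I₀, Algebra A Γ(𝒰.X j, ⊤) := fun j => (φ j).hom.toAlgebra
  have hft : ∀ j : 𝒰.I₀, Algebra.FiniteType A Γ(𝒰.X j, ⊤) := by
    intro j
    haveI : LocallyOfFiniteType (Spec.map (φ j)) := by
      rw [hφ j]; infer_instance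
    exact (HasRingHomProperty.Spec_iff (P := @LocallyOfFiniteType)).mp this
  refine ⟨𝒰.I₀, inferInstance, fun j => Γ(𝒰.X j, ⊤), inferInstance, alg, hft, c, hoi, ?_, ?_⟩
  · intro j
    exact (hφ j).symm
  · intro x
    obtain ⟨j, z, hz⟩ := 𝒰.exists_eq x
    refine ⟨j, (𝒰.X j).isoSpec.hom z, ?_⟩
    change ((𝒰.X j).isoSpec.inv ≫ 𝒰.f j) ((𝒰.X j).isoSpec.hom z) = x
    rw [← Scheme.Hom.comp_apply, Iso.hom_inv_id_assoc]
    exact hz

/-- **Generic constancy of the geometric numbers of components** over a domain. -/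
theorem generic_const {A : Type u} [CommRing A] [IsDomain A] {X : Scheme.{u}}
    (f : X ⟶ Spec (CommRingCat.of A)) [LocallyOfFiniteType f] [QuasiCompact f] :
    ∃ a : A, a ≠ 0 ∧ ∀ p p' : Spec (CommRingCat.of A), a ∉ p.asIdeal → a ∉ p'.asIdeal →
      MoreMor.nGeomIrredComp f p = MoreMor.nGeomIrredComp f p' ∧
      MoreMor.nGeomConnComp f p = MoreMor.nGeomConnComp f p' := by
  classical
  obtain ⟨J, hJ, R, _, _, _, c₀, _, hc₀, hcov⟩ := exists_charts f
  haveI : (⊥ : Ideal A).IsPrime := Ideal.isPrime_bot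
  obtain ⟨A', _, _, _, hfin, hker, GI⟩ := GeomInt.exists_finite_ext A (⊥ : Ideal A) R
  set m : Spec (CommRingCat.of A') ⟶ Spec (CommRingCat.of A) :=
    Spec.map (CommRingCat.ofHom (algebraMap A A')) with hm
  set p : pullback f m ⟶ X := pullback.fst f m with hp
  set φ : pullback f m ⟶ Spec (CommRingCat.of A') := pullback.snd f m with hφ
  have hsq : IsPullback p φ f m := IsPullback.of_hasPullback f m
  -- the charts upstairs
  have hpush : ∀ j, IsPullback
      (Spec.map (CommRingCat.ofHom (algebraMap A' (A' ⊗[A] R j))))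
      (Spec.map (CommRingCat.ofHom
        (Algebra.TensorProduct.includeRight : R j →ₐ[A] A' ⊗[A] R j).toRingHom))
      m (c₀ j ≫ f) := by
    intro j
    rw [hc₀ j]
    exact isPullback_SpecMap_of_isPushout _ _ _ _ (CommRingCat.isPushout_tensorProduct A A' (R j))
  set c' : ∀ j, Spec (CommRingCat.of (A' ⊗[A] R j)) ⟶ pullback f m := fun j =>
    hsq.flip.lift (Spec.map (CommRingCat.ofHom (algebraMap A' (A' ⊗[A] R j))))
      (Spec.map (CommRingCat.ofHom
        (Algebra.TensorProduct.includeRight : R j →ₐ[A] A' ⊗[A] R j).toRingHom) ≫ c₀ j)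
      (by rw [(hpush j).w, Category.assoc]) with hc'def
  have hc'pb : ∀ j, IsPullback (c' j) (Spec.map (CommRingCat.ofHom
        (Algebra.TensorProduct.includeRight : R j →ₐ[A] A' ⊗[A] R j).toRingHom)) p (c₀ j) :=
    fun j => IsPullback.of_right' (hpush j) hsq.flip
  have hc'φ : ∀ j, c' j ≫ φ =
      Spec.map (CommRingCat.ofHom (algebraMap A' (A' ⊗[A] R j))) :=
    fun j => hsq.flip.lift_fst _ _ _
  haveI hc'oi : ∀ j, IsOpenImmersion (c' j) := fun j =>
    MorphismProperty.of_isPullback (P := @IsOpenImmersion) (hc'pb j).flip inferInstance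
  have hcov' : ∀ x' : ↥(pullback f m), ∃ j, x' ∈ Set.range (c' j) := by
    intro x'
    obtain ⟨j, b, hb⟩ := hcov (p x')
    obtain ⟨z, hz1, -⟩ := Scheme.Pullback.exists_preimage_pullback (f := p) (g := c₀ j) x' b hb.symm
    refine ⟨j, (hc'pb j).isoPullback.inv z, ?_⟩
    rw [← Scheme.Hom.comp_apply, (hc'pb j).isoPullback_inv_fst]
    exact hz1
  haveI : LocallyOfFiniteType φ :=
    MorphismProperty.pullback_snd (P := @LocallyOfFiniteType) _ _ inferInstance
  haveI : QuasiCompact φ :=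
    MorphismProperty.pullback_snd (P := @QuasiCompact) _ _ inferInstance
  obtain ⟨a', ha', ⟨G⟩⟩ := exists_good φ (fun j => A' ⊗[A] R j) c' hc'φ hcov'
    (fun j 𝔮 h𝔮 h𝔮' => GI j 𝔮 h𝔮 h𝔮')
  -- a nonzero element of `A` in `a' A'`
  haveI : Algebra.IsIntegral A A' := Algebra.IsIntegral.of_finite A A'
  have hne : (Ideal.span {a'}).comap (algebraMap A A') ≠ ⊥ :=
    Ideal.comap_ne_bot_of_integral_mem ha' (Ideal.mem_span_singleton_self a')
      (Algebra.IsIntegral.isIntegral a')
  obtain ⟨a, ha_mem, ha0⟩ := Submodule.exists_mem_ne_zero_of_ne_bot hne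
  refine ⟨a, ha0, ?_⟩
  have key : ∀ P : Spec (CommRingCat.of A), a ∉ P.asIdeal →
      ∃ q : Spec (CommRingCat.of A'), m q = P ∧ a' ∉ q.asIdeal := by
    intro P hP
    haveI : P.asIdeal.IsPrime := P.isPrime
    obtain ⟨Q, -, hQprime, hQ⟩ := Ideal.exists_ideal_over_prime_of_isIntegral P.asIdeal
      (⊥ : Ideal A') (by
        change RingHom.ker (algebraMap A A') ≤ P.asIdeal
        rw [hker]
        exact bot_le)
    refine ⟨(⟨Q, hQprime⟩ : PrimeSpectrum A'), PrimeSpectrum.ext hQ, ?_⟩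
    intro ha'Q
    apply hP
    rw [← hQ]
    have : Ideal.span {a'} ≤ Q := (Ideal.span_singleton_le_iff_mem Q).mpr ha'Q
    exact Ideal.comap_mono this ha_mem
  have hI : ∀ P : Spec (CommRingCat.of A), a ∉ P.asIdeal →
      MoreMor.nGeomIrredComp f P = ENat.card G.ι := by
    intro P hP
    obtain ⟨q, hq, hq'⟩ := key P hP
    rw [← hq, ← Groth.Agent.Lib.helper3.GeomFiberBC.nGeomIrredComp_baseChange f φ p m hsq q]
    exact G.nGeomIrredComp_eq q hq'
  intro P P' hP hP'
  refine ⟨(hI P hP).trans (hI P' hP').symm, ?_⟩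
  obtain ⟨q, hq, hqa⟩ := key P hP
  obtain ⟨q', hq', hqa'⟩ := key P' hP'
  rw [← hq, ← hq', ← Groth.Agent.Lib.helper3.GeomFiberBC.nGeomConnComp_baseChange f φ p m hsq q,
    ← Groth.Agent.Lib.helper3.GeomFiberBC.nGeomConnComp_baseChange f φ p m hsq q']
  exact G.nGeomConnComp_eq q q' hqa hqa'

end Groth.Agent.Lib.helper9.NGeom
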