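/-
Helper library (helper9): over a domain, the section components of a finite type morphism with a
section are cut out over a nonempty principal open by a closed subset, as is their complement.
-/
import Mathlib
import Groth.Prelude.Def_MoreMor
import Groth.Agent.S1324
import Groth.Agent.Lib.Helper9.GeomInt3
import Groth.Agent.Lib.Helper9.NGeom9
import Groth.Agent.Lib.Helper9.NGeom12

set_option autoImplicit false
set_option linter.style.haveILetI false
set_option backward.isDefEq.respectTransparency false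

namespace Groth.Agent.Lib.helper9.NGeom

open AlgebraicGeometry CategoryTheory Limits TopologicalSpace TensorProduct

universe u

/-- After a finite extension of the base domain the generic analysis is available. -/
theorem exists_finite_good {A : Type u} [CommRing A] [IsDomain A] {X : Scheme.{u}}
    (f : X ⟶ Spec (CommRingCat.of A)) [LocallyOfFiniteType f] [QuasiCompact f] :
    ∃ (A' : Type u) (_ : CommRing A') (_ : IsDomain A') (_ : Algebra A A'),
      Module.Finite A A' ∧ Function.Injective (algebraMap A A') ∧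
      ∃ (a : A) (a' : A'), a ≠ 0 ∧ a' ≠ 0 ∧ algebraMap A A' a ∈ Ideal.span {a'} ∧
        Nonempty (Good (pullback.snd f (Spec.map (CommRingCat.ofHom (algebraMap A A')))) a') := by
  classical
  obtain ⟨J, hJ, R, _, _, _, c₀, _, hc₀, hcov⟩ := exists_charts f
  haveI : (⊥ : Ideal A).IsPrime := Ideal.isPrime_bot
  obtain ⟨A', _, _, _, hfin, hker, GI⟩ := GeomInt.exists_finite_ext A (⊥ : Ideal A) R
  refine ⟨A', inferInstance, inferInstance, inferInstance, hfin,
    (RingHom.injective_iff_ker_eq_bot _).mpr hker, ?_⟩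
  set m : Spec (CommRingCat.of A') ⟶ Spec (CommRingCat.of A) :=
    Spec.map (CommRingCat.ofHom (algebraMap A A')) with hm
  set p : pullback f m ⟶ X := pullback.fst f m with hp
  set φ : pullback f m ⟶ Spec (CommRingCat.of A') := pullback.snd f m with hφ
  have hsq : IsPullback p φ f m := IsPullback.of_hasPullback f m
  have hpush : ∀ j, IsPullback
      (Spec.map (CommRingCat.ofHom (algebraMap A' (A' ⊗[A] R j))))
      (Spec.map (CommRingCat.ofHom
        (Algebra.TensorProduct.includeRight : R j →ₐ[A] A' ⊗[A] R j).toRingHom))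
      m (c₀ j ≫ f) := by
    intro j
    rw [hc₀ j]
    exact isPullback_SpecMap_of_isPushout _ _ _ _ (CommRingCat.isPushout_tensorProduct A A' (R j))
  set c' : ∀ j, Spec (CommRingCat.of (A' ⊗[A] R j)) ⟶ pullback f m := fun j =>
    hsq.flip.lift (Spec.map (CommRingCat.ofHom (algebraMap A' (A' ⊗[A] R j))))
      (Spec.map (CommRingCat.ofHom
        (Algebra.TensorProduct.includeRight : R j →ₐ[A] A' ⊗[A] R j).toRingHom) ≫ c₀ j)
      (by rw [(hpush j).w, Category.assoc]) with hc'def
  have hc'pb : ∀ j, IsPullback (c' j) (Spec.map (CommRingCat.ofHom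
        (Algebra.TensorProduct.includeRight : R j →ₐ[A] A' ⊗[A] R j).toRingHom)) p (c₀ j) :=
    fun j => IsPullback.of_right' (hpush j) hsq.flip
  have hc'φ : ∀ j, c' j ≫ φ =
      Spec.map (CommRingCat.ofHom (algebraMap A' (A' ⊗[A] R j))) :=
    fun j => hsq.flip.lift_fst _ _ _
  haveI hc'oi : ∀ j, IsOpenImmersion (c' j) := fun j =>
    MorphismProperty.of_isPullback (P := @IsOpenImmersion) (hc'pb j).flip inferInstance
  have hcov' : ∀ x' : ↥(pullback f m), ∃ j, x' ∈ Set.range (c' j) := by
    intro x'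
    obtain ⟨j, b, hb⟩ := hcov (p x')
    obtain ⟨z, hz1, -⟩ := Scheme.Pullback.exists_preimage_pullback (f := p) (g := c₀ j) x' b hb.symm
    refine ⟨j, (hc'pb j).isoPullback.inv z, ?_⟩
    rw [← Scheme.Hom.comp_apply, (hc'pb j).isoPullback_inv_fst]
    exact hz1
  haveI : LocallyOfFiniteType φ :=
    MorphismProperty.pullback_snd (P := @LocallyOfFiniteType) _ _ inferInstance
  haveI : QuasiCompact φ :=
    MorphismProperty.pullback_snd (P := @QuasiCompact) _ _ inferInstance
  obtain ⟨a', ha', hG⟩ := exists_good φ (fun j => A' ⊗[A] R j) c' hc'φ hcov'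
    (fun j 𝔮 h𝔮 h𝔮' => GI j 𝔮 h𝔮 h𝔮')
  haveI : Algebra.IsIntegral A A' := Algebra.IsIntegral.of_finite A A'
  have hne : (Ideal.span {a'}).comap (algebraMap A A') ≠ ⊥ :=
    Ideal.comap_ne_bot_of_integral_mem ha' (Ideal.mem_span_singleton_self a')
      (Algebra.IsIntegral.isIntegral a')
  obtain ⟨a, ha_mem, ha0⟩ := Submodule.exists_mem_ne_zero_of_ne_bot hne
  exact ⟨a, a', ha0, ha', ha_mem, hG⟩

/-- **Section components over a nonempty principal open of a domain.** -/
theorem sectionComponents_closed_domain {A : Type u} [CommRing A] [IsDomain A] {X : Scheme.{u}}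
    (f : X ⟶ Spec (CommRingCat.of A)) [LocallyOfFiniteType f] [QuasiCompact f]
    (g : Spec (CommRingCat.of A) ⟶ X) (hg : g ≫ f = 𝟙 _) :
    ∃ a : A, a ≠ 0 ∧ ∃ Z₁ Z₂ : Set X, IsClosed Z₁ ∧ IsClosed Z₂ ∧
      ∀ x : X, a ∉ (f x).asIdeal →
        ((x ∈ MoreMor.sectionComponents f g ↔ x ∈ Z₁) ∧
          (x ∉ MoreMor.sectionComponents f g ↔ x ∈ Z₂)) := by
  obtain ⟨A', _, _, _, hfin, hinj, a, a', ha, ha', hmem, ⟨G⟩⟩ := exists_finite_good f
  set m : Spec (CommRingCat.of A') ⟶ Spec (CommRingCat.of A) :=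
    Spec.map (CommRingCat.ofHom (algebraMap A A')) with hm
  set p : pullback f m ⟶ X := pullback.fst f m with hp
  set φ : pullback f m ⟶ Spec (CommRingCat.of A') := pullback.snd f m with hφ
  have hsq : IsPullback p φ f m := IsPullback.of_hasPullback f m
  set g' : Spec (CommRingCat.of A') ⟶ pullback f m :=
    pullback.lift (m ≫ g) (𝟙 _) (by rw [Category.assoc, hg, Category.comp_id, Category.id_comp])
    with hg'def
  have hg' : g' ≫ φ = 𝟙 _ := pullback.lift_snd _ _ _
  have hg'p : g' ≫ p = m ≫ g := pullback.lift_fst _ _ _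
  have hS : ∀ x', x' ∈ MoreMor.sectionComponents φ g' ↔ p x' ∈ MoreMor.sectionComponents f g :=
    fun x' => Groth.Agent.S1324.mem_iff f g hg φ p m hsq g' hg' hg'p x'
  haveI : IsFinite m := by
    rw [hm, IsFinite.SpecMap_iff]
    exact RingHom.finite_algebraMap.mpr inferInstance
  haveI : IsFinite p := MorphismProperty.pullback_fst (P := @IsFinite) _ _ inferInstance
  have hpcl : IsClosedMap p := p.isClosedMap
  haveI : Algebra.IsIntegral A A' := Algebra.IsIntegral.of_finite A A'
  have hmsurj : Function.Surjective m := by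
    intro P
    haveI : P.asIdeal.IsPrime := P.isPrime
    obtain ⟨Q, -, hQprime, hQ⟩ := Ideal.exists_ideal_over_prime_of_isIntegral P.asIdeal
      (⊥ : Ideal A') (by
        change RingHom.ker (algebraMap A A') ≤ P.asIdeal
        rw [(RingHom.injective_iff_ker_eq_bot _).mp hinj]
        exact bot_le)
    exact ⟨(⟨Q, hQprime⟩ : PrimeSpectrum A'), PrimeSpectrum.ext hQ⟩
  have hpsurj : Function.Surjective p := by
    intro x
    obtain ⟨q, hq⟩ := hmsurj (f x)
    obtain ⟨z, hz1, -⟩ := Scheme.Pullback.exists_preimage_pullback (f := f) (g := m) x q hq.symm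
    exact ⟨z, hz1⟩
  obtain ⟨Z₁', Z₂', hZ₁', hZ₂', H⟩ := G.sectionComponents_closed ha' g' hg'
  have hF : ∀ x' : ↥(pullback f m), a ∉ (f (p x')).asIdeal → a' ∉ (φ x').asIdeal := by
    intro x' hx' ha'x
    apply hx'
    have h1 : f (p x') = m (φ x') := by
      rw [← Scheme.Hom.comp_apply, ← Scheme.Hom.comp_apply, hsq.w]
    rw [h1]
    change algebraMap A A' a ∈ (φ x').asIdeal
    exact (Ideal.span_singleton_le_iff_mem _).mpr ha'x hmem
  refine ⟨a, ha, p '' Z₁', p '' Z₂', hpcl _ hZ₁', hpcl _ hZ₂', fun x hx => ⟨?_, ?_⟩⟩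
  · constructor
    · intro hxs
      obtain ⟨x', rfl⟩ := hpsurj x
      exact ⟨x', ((H x' (hF x' hx)).1).mp ((hS x').mpr hxs), rfl⟩
    · rintro ⟨x', hx', rfl⟩
      exact (hS x').mp (((H x' (hF x' hx)).1).mpr hx')
  · constructor
    · intro hxs
      obtain ⟨x', rfl⟩ := hpsurj x
      exact ⟨x', ((H x' (hF x' hx)).2).mp (fun h => hxs ((hS x').mp h)), rfl⟩
    · rintro ⟨x', hx', rfl⟩ hxs
      exact ((H x' (hF x' hx)).2).mpr hx' ((hS x').mpr hxs)

end Groth.Agent.Lib.helper9.NGeom
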