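/-
Helper library (helper9): the section components of a finite type morphism with a section are
open and closed over a neighbourhood of `y` in the closure of `y` (EGA IV 9.7.12 (i)).
-/
import Mathlib
import Groth.Prelude.Def_MoreMor
import Groth.Agent.Lib.Helper9.NGeom13

set_option autoImplicit false
set_option linter.style.haveILetI false
set_option backward.isDefEq.respectTransparency false

namespace Groth.Agent.Lib.helper9.NGeom

open AlgebraicGeometry CategoryTheory Limits TopologicalSpace TensorProduct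

universe u

/-- The closure of a point, near the point, as the spectrum of a domain. -/
theorem exists_domain_chart {Y : Scheme.{u}} (y : Y) :
    ∃ (A : Type u) (_ : CommRing A) (_ : IsDomain A) (j : Spec (CommRingCat.of A) ⟶ Y),
      IsPreimmersion j ∧ j (gen A) = y ∧
      ∃ W : Y.Opens, Set.range j = closure {y} ∩ (W : Set Y) := by
  obtain ⟨W, hW, hyW, -⟩ := exists_isAffineOpen_mem_and_subset (x := y) (U := ⊤) trivial
  set Q : Spec Γ(Y, W) := hW.primeIdealOf ⟨y, hyW⟩ with hQ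
  have hQy : hW.fromSpec Q = y := hW.fromSpec_primeIdealOf ⟨y, hyW⟩
  haveI : Q.asIdeal.IsPrime := Q.isPrime
  set q : Spec (CommRingCat.of (Γ(Y, W) ⧸ Q.asIdeal)) ⟶ Spec Γ(Y, W) :=
    Spec.map (CommRingCat.ofHom (Ideal.Quotient.mk Q.asIdeal)) with hq
  haveI : IsClosedImmersion q :=
    IsClosedImmersion.spec_of_surjective _ Ideal.Quotient.mk_surjective
  refine ⟨Γ(Y, W) ⧸ Q.asIdeal, inferInstance, inferInstance, q ≫ hW.fromSpec, inferInstance,
    ?_, W, ?_⟩
  · rw [Scheme.Hom.comp_apply, ← hQy]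
    congr 1
    apply PrimeSpectrum.ext
    change Ideal.comap (Ideal.Quotient.mk Q.asIdeal) ⊥ = Q.asIdeal
    rw [← RingHom.ker_eq_comap_bot, Ideal.mk_ker]
  · have := range_chart_quotient (J := Unit) (fun _ => Γ(Y, W)) (fun _ => hW.fromSpec) () Q
    rw [hQy, hW.range_fromSpec] at this
    exact this

/-- The image of a principal open under a chart of the closure of a point. -/
theorem image_basicOpen_chart {Y : Scheme.{u}} (y : Y) {A : Type u} [CommRing A] [IsDomain A]
    (j : Spec (CommRingCat.of A) ⟶ Y) [IsPreimmersion j] (hj : j (gen A) = y)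
    (W : Y.Opens) (hW : Set.range j = closure {y} ∩ (W : Set Y)) (a : A) (ha : a ≠ 0) :
    j '' {p | a ∉ p.asIdeal} ⊆ closure {y} ∧ y ∈ j '' {p | a ∉ p.asIdeal} ∧
      IsOpen (Subtype.val ⁻¹' (j '' {p | a ∉ p.asIdeal}) : Set ↑(closure ({y} : Set ↑Y))) := by
  set D : Set (Spec (CommRingCat.of A)) := {p | a ∉ p.asIdeal} with hD
  have hDopen : IsOpen D := (PrimeSpectrum.basicOpen a).2
  have hgenD : gen A ∈ D := fun h => ha h
  refine ⟨?_, ⟨gen A, hgenD, hj⟩, ?_⟩
  · rintro _ ⟨p, -, rfl⟩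
    have : j p ∈ Set.range j := ⟨p, rfl⟩
    rw [hW] at this
    exact this.1
  · obtain ⟨U, hU, hUD⟩ := j.isEmbedding.isInducing.isOpen_iff.mp hDopen
    have : (Subtype.val ⁻¹' (j '' D) : Set ↑(closure ({y} : Set ↑Y))) =
        Subtype.val ⁻¹' (U ∩ (W : Set Y)) := by
      ext ⟨z, hz⟩
      simp only [Set.mem_preimage, Set.mem_image, Set.mem_inter_iff]
      constructor
      · rintro ⟨p, hp, rfl⟩
        refine ⟨?_, ?_⟩
        · have : p ∈ j ⁻¹' U := by rw [hUD]; exact hp
          exact this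
        · have : j p ∈ Set.range j := ⟨p, rfl⟩
          rw [hW] at this
          exact this.2
      · rintro ⟨hzU, hzW⟩
        have : z ∈ Set.range j := by
          rw [hW]
          exact ⟨hz, hzW⟩
        obtain ⟨p, rfl⟩ := this
        refine ⟨p, ?_, rfl⟩
        rw [← hUD]
        exact hzU
    rw [this]
    exact (hU.inter W.2).preimage continuous_subtype_val

/-- **EGA IV 9.7.12 (i)**: the section components are open and closed above a neighbourhood of
`y` in the closure of `y`. -/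
theorem sectionComponents_clopen {X Y : Scheme.{u}} (f : X ⟶ Y) (s : Y ⟶ X) (hs : s ≫ f = 𝟙 Y)
    [LocallyOfFiniteType f] [QuasiCompact f] (y : Y) :
    ∃ V : Set ↑Y, V ⊆ closure {y} ∧ y ∈ V ∧
      IsOpen (Subtype.val ⁻¹' V : Set ↑(closure ({y} : Set ↑Y))) ∧
      IsClopen (Subtype.val ⁻¹' MoreMor.sectionComponents f s : Set ↑(f ⁻¹' V)) := by
  obtain ⟨A, _, _, j, hjpre, hjgen, W, hW⟩ := exists_domain_chart y
  haveI := hjpre
  set fA : pullback f j ⟶ Spec (CommRingCat.of A) := pullback.snd f j with hfA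
  set pA : pullback f j ⟶ X := pullback.fst f j with hpA
  have hsq : IsPullback pA fA f j := IsPullback.of_hasPullback f j
  haveI : LocallyOfFiniteType fA :=
    MorphismProperty.pullback_snd (P := @LocallyOfFiniteType) _ _ inferInstance
  haveI : QuasiCompact fA :=
    MorphismProperty.pullback_snd (P := @QuasiCompact) _ _ inferInstance
  set sA : Spec (CommRingCat.of A) ⟶ pullback f j :=
    pullback.lift (j ≫ s) (𝟙 _) (by rw [Category.assoc, hs, Category.comp_id, Category.id_comp])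
    with hsAdef
  have hsA : sA ≫ fA = 𝟙 _ := pullback.lift_snd _ _ _
  have hsAp : sA ≫ pA = j ≫ s := pullback.lift_fst _ _ _
  have hS : ∀ x', x' ∈ MoreMor.sectionComponents fA sA ↔ pA x' ∈ MoreMor.sectionComponents f s :=
    fun x' => Groth.Agent.S1324.mem_iff f s hs fA pA j hsq sA hsA hsAp x'
  obtain ⟨a, ha, Z₁, Z₂, hZ₁, hZ₂, H⟩ := sectionComponents_closed_domain fA sA hsA
  obtain ⟨hV1, hV2, hV3⟩ := image_basicOpen_chart y j hjgen W hW a ha
  refine ⟨j '' {p | a ∉ p.asIdeal}, hV1, hV2, hV3, ?_⟩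
  haveI : IsPreimmersion pA := by rw [hpA]; infer_instance
  obtain ⟨K₁, hK₁, hK₁Z⟩ := pA.isEmbedding.isInducing.isClosed_iff.mp hZ₁
  obtain ⟨K₂, hK₂, hK₂Z⟩ := pA.isEmbedding.isInducing.isClosed_iff.mp hZ₂
  have hlift : ∀ t : ↑(f ⁻¹' (j '' {p | a ∉ p.asIdeal})),
      ∃ x' : ↥(pullback f j), pA x' = t.1 ∧ a ∉ (fA x').asIdeal := by
    rintro ⟨t, p₀, hp₀, hp₀t⟩
    obtain ⟨x', hx'1, hx'2⟩ := Scheme.Pullback.exists_preimage_pullback (f := f) (g := j) t p₀
      hp₀t.symm
    exact ⟨x', hx'1, by rw [hx'2]; exact hp₀⟩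
  have e1 : (Subtype.val ⁻¹' MoreMor.sectionComponents f s :
      Set ↑(f ⁻¹' (j '' {p | a ∉ p.asIdeal}))) = Subtype.val ⁻¹' K₁ := by
    ext t
    obtain ⟨x', hx't, hx'a⟩ := hlift t
    simp only [Set.mem_preimage]
    rw [← hx't, ← hS x', (H x' hx'a).1, ← hK₁Z]
    rfl
  have e2 : (Subtype.val ⁻¹' MoreMor.sectionComponents f s :
      Set ↑(f ⁻¹' (j '' {p | a ∉ p.asIdeal})))ᶜ = Subtype.val ⁻¹' K₂ := by
    ext t
    obtain ⟨x', hx't, hx'a⟩ := hlift t
    simp only [Set.mem_preimage, Set.mem_compl_iff]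
    rw [← hx't, ← hS x', (H x' hx'a).2, ← hK₂Z]
    rfl
  refine ⟨?_, ?_⟩
  · rw [e1]
    exact hK₁.preimage continuous_subtype_val
  · rw [← isClosed_compl_iff, e2]
    exact hK₂.preimage continuous_subtype_val

end Groth.Agent.Lib.helper9.NGeom
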