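import Mathlib
import Groth.Agent.Lib.Helper9.GRGen2
import Groth.Agent.Lib.Helper9.GRGen3
import Groth.Agent.Lib.Helper9.NGeom9
import Groth.Agent.Lib.Helper9.NGeom14
import Groth.Agent.Lib.Helper3.GeomRedSch

/-!
# Geometrically reduced fibres near the generic point (EGA IV 9.7.7 (iii), helper9)

* `exists_basicOpen_geometricallyReduced`: over the spectrum of a domain.
* `exists_opens_geometricallyReduced` (= S0434): `f` of finite type to an irreducible scheme with
  geometrically reduced generic fibre; then `f ∣_ V` is geometrically reduced for some nonempty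
  open `V`.
-/

set_option autoImplicit false
set_option linter.style.haveILetI false
set_option backward.isDefEq.respectTransparency false
universe u

open CategoryTheory CategoryTheory.Limits AlgebraicGeometry TensorProduct

namespace Groth.Agent.Lib.helper9.GRGen

open Groth.Agent.Lib.helper9.NGeom

/-- over the spectrum of a domain: geometrically reduced generic fibre implies geometrically reduced
fibres over a nonempty basic open. -/
theorem exists_basicOpen_geometricallyReduced {A : Type u} [CommRing A] [IsDomain A]
    {X : Scheme.{u}} (f : X ⟶ Spec (CommRingCat.of A)) [LocallyOfFiniteType f] [QuasiCompact f]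
    (h : GeometricallyReduced (f.fiberToSpecResidueField (gen A))) :
    ∃ a : A, a ≠ 0 ∧ ∀ p : Spec (CommRingCat.of A), a ∉ p.asIdeal →
      GeometricallyReduced (f.fiberToSpecResidueField p) := by
  classical
  obtain ⟨J, hJ, R, _, _, _, c, hoi, hc, hcov⟩ := exists_charts f
  haveI := hoi
  haveI := Fintype.ofFinite J
  have hgeom : ∀ j, Algebra.IsGeometricallyReduced (FractionRing A) (FractionRing A ⊗[A] R j) := by
    intro j
    rw [isGeometricallyReduced_tensor_iff]
    set t : Spec (CommRingCat.of (AlgebraicClosure (FractionRing A))) ⟶ Spec (CommRingCat.of A) :=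
      Spec.map (CommRingCat.ofHom (algebraMap A (AlgebraicClosure (FractionRing A)))) with ht
    have htpt : t (IsLocalRing.closedPoint (AlgebraicClosure (FractionRing A))) = gen A := by
      apply PrimeSpectrum.ext
      have h1 : (t (IsLocalRing.closedPoint (AlgebraicClosure (FractionRing A))) :
          PrimeSpectrum A).asIdeal =
          (IsLocalRing.closedPoint (AlgebraicClosure (FractionRing A))).asIdeal.comap
            (algebraMap A (AlgebraicClosure (FractionRing A))) := rfl
      rw [h1]
      have h2 : (IsLocalRing.closedPoint (AlgebraicClosure (FractionRing A))).asIdeal = ⊥ :=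
        IsLocalRing.maximalIdeal_eq_bot
      rw [h2, ← RingHom.ker_eq_comap_bot]
      refine (RingHom.injective_iff_ker_eq_bot _).mp ?_
      rw [IsScalarTower.algebraMap_eq A (FractionRing A) (AlgebraicClosure (FractionRing A))]
      exact (algebraMap (FractionRing A) (AlgebraicClosure (FractionRing A))).injective.comp
        (IsFractionRing.injective A (FractionRing A))
    have h1 := (geometricallyReduced_fiber_iff f (gen A)).mp h
      (AlgebraicClosure (FractionRing A)) t htpt
    have h2 : AlgebraicGeometry.IsReduced (pullback (c j ≫ f) t) :=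
      isReduced_of_isOpenImmersion
        (pullback.map (c j ≫ f) t f t (c j) (𝟙 _) (𝟙 _) (by simp) (by simp))
    rw [hc j] at h2
    have h3 := (Groth.Agent.Lib.helper3.GeomRed.isReduced_pullback_specMap_iff A (R j)
      (AlgebraicClosure (FractionRing A))).mp h2
    exact Groth.Agent.Lib.helper3.GeomRed.isReduced_comm _ _ h3
  choose a ha Ha using fun j =>
    @exists_reduced_fibres A _ _ (FractionRing A) _ _ _ (R j) _ _ _ (hgeom j)
  refine ⟨∏ j, a j, Finset.prod_ne_zero_iff.mpr (fun j _ => ha j), fun p hp => ?_⟩
  rw [geometricallyReduced_fiber_iff]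
  intro L _ t ht
  obtain ⟨φ, rfl⟩ := Spec.map_surjective t
  letI : Algebra A L := φ.hom.toAlgebra
  have hne : ∀ j, algebraMap A L (a j) ≠ 0 := by
    intro j h0
    apply hp
    have h1 : a j ∈ p.asIdeal := by
      rw [← ht]
      change a j ∈ (IsLocalRing.closedPoint L).asIdeal.comap φ.hom
      rw [Ideal.mem_comap]
      change algebraMap A L (a j) ∈ _
      rw [h0]
      exact Ideal.zero_mem _
    exact Ideal.mem_of_dvd _ (Finset.dvd_prod_of_mem a (Finset.mem_univ j)) h1
  let 𝒰 : X.OpenCover := Scheme.Cover.mkOfCovers J (fun j => Spec (CommRingCat.of (R j))) c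
    (fun x => by obtain ⟨j, y, hy⟩ := hcov x; exact ⟨j, y, hy⟩)
  rw [Groth.Agent.Lib.helper3.GeomRed.isReduced_pullback_iff_cover f _ 𝒰]
  intro j
  change AlgebraicGeometry.IsReduced (pullback (c j ≫ f) (Spec.map φ))
  rw [hc j]
  have h1 : IsReduced (L ⊗[A] R j) := Ha j L (hne j)
  have h2 : IsReduced (R j ⊗[A] L) := Groth.Agent.Lib.helper3.GeomRed.isReduced_comm _ _ h1
  exact (Groth.Agent.Lib.helper3.GeomRed.isReduced_pullback_specMap_iff A (R j) L).mpr h2

/-- **EGA IV 9.7.7 (iii)** (= S0434). -/
theorem exists_opens_geometricallyReduced {X Y : Scheme.{u}} (f : X ⟶ Y) [IrreducibleSpace ↑Y]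
    [LocallyOfFiniteType f] [QuasiCompact f]
    (h : GeometricallyReduced (f.fiberToSpecResidueField (genericPoint ↑Y))) :
    ∃ V : Y.Opens, (V : Set ↑Y).Nonempty ∧ GeometricallyReduced (f ∣_ V) := by
  set η := genericPoint ↑Y with hη
  obtain ⟨A, _, _, j, hjpre, hjgen, W, hW⟩ := exists_domain_chart η
  haveI := hjpre
  set fA : pullback f j ⟶ Spec (CommRingCat.of A) := pullback.snd f j with hfA
  have hsq : IsPullback (pullback.fst f j) fA f j := IsPullback.of_hasPullback f j
  haveI : LocallyOfFiniteType fA :=
    MorphismProperty.pullback_snd (P := @LocallyOfFiniteType) _ _ inferInstance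
  haveI : QuasiCompact fA :=
    MorphismProperty.pullback_snd (P := @QuasiCompact) _ _ inferInstance
  have hgenA : GeometricallyReduced (fA.fiberToSpecResidueField (gen A)) := by
    rw [geometricallyReduced_fiber_iff_of_isPullback hsq (gen A), hjgen]
    exact h
  obtain ⟨a, ha, Ha⟩ := exists_basicOpen_geometricallyReduced fA hgenA
  obtain ⟨hsub, hηmem, hopen⟩ := image_basicOpen_chart η j hjgen W hW a ha
  have hcl : closure ({η} : Set Y) = Set.univ := (genericPoint_spec ↑Y).def
  have hclopen : IsOpen (closure ({η} : Set Y)) := hcl ▸ isOpen_univ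
  have hVo : IsOpen (j '' {p | a ∉ p.asIdeal}) := by
    have h1 := hclopen.isOpenMap_subtype_val _ hopen
    rwa [Subtype.image_preimage_coe, Set.inter_eq_right.mpr hsub] at h1
  refine ⟨⟨j '' {p | a ∉ p.asIdeal}, hVo⟩, ⟨η, hηmem⟩, ?_⟩
  rw [geometricallyReduced_iff_forall_fiber]
  intro s
  rw [geometricallyReduced_fiber_iff_of_isPullback (isPullback_morphismRestrict f _).flip s]
  obtain ⟨p, hp, hps⟩ := s.2
  have hps' : j p = (Scheme.Opens.ι _) s := hps
  rw [← hps']
  exact (geometricallyReduced_fiber_iff_of_isPullback hsq p).mp (Ha p hp)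

end Groth.Agent.Lib.helper9.GRGen
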