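/-
Helper library (helper9): the geometric numbers of components of the fibres of a finite type
morphism are constant on a relatively open neighbourhood of `y` in the closure of `y`
(EGA IV 9.7.8), and on a nonempty open of an integral base.
-/
import Mathlib
import Groth.Prelude.Def_MoreMor
import Groth.Agent.Lib.Helper9.NGeom9

set_option autoImplicit false
set_option linter.style.haveILetI false
set_option backward.isDefEq.respectTransparency false

namespace Groth.Agent.Lib.helper9.NGeom

open AlgebraicGeometry CategoryTheory Limits TopologicalSpace TensorProduct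

universe u

/-- Generic constancy along an arbitrary morphism from the spectrum of a domain. -/
theorem const_along {X Y : Scheme.{u}} (f : X ⟶ Y) [LocallyOfFiniteType f] [QuasiCompact f]
    {A : Type u} [CommRing A] [IsDomain A] (j : Spec (CommRingCat.of A) ⟶ Y) :
    ∃ a : A, a ≠ 0 ∧ ∀ p p' : Spec (CommRingCat.of A), a ∉ p.asIdeal → a ∉ p'.asIdeal →
      MoreMor.nGeomIrredComp f (j p) = MoreMor.nGeomIrredComp f (j p') ∧
      MoreMor.nGeomConnComp f (j p) = MoreMor.nGeomConnComp f (j p') := by
  set f' : pullback f j ⟶ Spec (CommRingCat.of A) := pullback.snd f j with hf'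
  have hsq : IsPullback (pullback.fst f j) f' f j := IsPullback.of_hasPullback f j
  haveI : LocallyOfFiniteType f' :=
    MorphismProperty.pullback_snd (P := @LocallyOfFiniteType) _ _ inferInstance
  haveI : QuasiCompact f' :=
    MorphismProperty.pullback_snd (P := @QuasiCompact) _ _ inferInstance
  obtain ⟨a, ha, H⟩ := generic_const f'
  refine ⟨a, ha, fun p p' hp hp' => ?_⟩
  rw [← Groth.Agent.Lib.helper3.GeomFiberBC.nGeomIrredComp_baseChange f f' _ j hsq p,
    ← Groth.Agent.Lib.helper3.GeomFiberBC.nGeomIrredComp_baseChange f f' _ j hsq p',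
    ← Groth.Agent.Lib.helper3.GeomFiberBC.nGeomConnComp_baseChange f f' _ j hsq p,
    ← Groth.Agent.Lib.helper3.GeomFiberBC.nGeomConnComp_baseChange f f' _ j hsq p']
  exact H p p' hp hp'

/-- **EGA IV 9.7.8**: the geometric numbers of irreducible and of connected components of the
fibres are constant on a neighbourhood of `y` in the closure of `y`. -/
theorem exists_open_in_closure {X Y : Scheme.{u}} (f : X ⟶ Y) [LocallyOfFiniteType f]
    [QuasiCompact f] (y : Y) :
    ∃ V : Set ↑Y, V ⊆ closure {y} ∧ y ∈ V ∧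
      IsOpen (Subtype.val ⁻¹' V : Set ↑(closure ({y} : Set ↑Y))) ∧
      ∀ y' ∈ V, MoreMor.nGeomIrredComp f y' = MoreMor.nGeomIrredComp f y ∧
        MoreMor.nGeomConnComp f y' = MoreMor.nGeomConnComp f y := by
  obtain ⟨W, hW, hyW, -⟩ := exists_isAffineOpen_mem_and_subset (x := y) (U := ⊤) trivial
  set Q : Spec Γ(Y, W) := hW.primeIdealOf ⟨y, hyW⟩ with hQ
  have hQy : hW.fromSpec Q = y := hW.fromSpec_primeIdealOf ⟨y, hyW⟩
  haveI : Q.asIdeal.IsPrime := Q.isPrime
  set A := Γ(Y, W) ⧸ Q.asIdeal with hA
  set q : Spec (CommRingCat.of A) ⟶ Spec Γ(Y, W) :=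
    Spec.map (CommRingCat.ofHom (Ideal.Quotient.mk Q.asIdeal)) with hq
  set j : Spec (CommRingCat.of A) ⟶ Y := q ≫ hW.fromSpec with hj
  haveI : IsClosedImmersion q :=
    IsClosedImmersion.spec_of_surjective _ Ideal.Quotient.mk_surjective
  have hjemb : Topology.IsEmbedding j := by
    rw [hj, Scheme.Hom.comp_base, TopCat.coe_comp]
    exact hW.fromSpec.isOpenEmbedding.isEmbedding.comp q.isClosedEmbedding.isEmbedding
  have hrange : Set.range j = closure {y} ∩ Set.range hW.fromSpec := by
    have := range_chart_quotient (J := Unit) (fun _ => Γ(Y, W)) (fun _ => hW.fromSpec) () Q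
    rw [hQy] at this
    exact this
  obtain ⟨a, ha, H⟩ := const_along f j
  set D : Set (Spec (CommRingCat.of A)) := {p | a ∉ p.asIdeal} with hD
  have hDopen : IsOpen D := (PrimeSpectrum.basicOpen a).2
  have hgenD : gen A ∈ D := fun h => ha h
  have hjgen : j (gen A) = y := by
    rw [hj, Scheme.Hom.comp_apply, ← hQy]
    congr 1
    apply PrimeSpectrum.ext
    change Ideal.comap (Ideal.Quotient.mk Q.asIdeal) ⊥ = Q.asIdeal
    rw [← RingHom.ker_eq_comap_bot, Ideal.mk_ker]
  refine ⟨j '' D, ?_, ⟨gen A, hgenD, hjgen⟩, ?_, ?_⟩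
  · rintro _ ⟨p, -, rfl⟩
    have : j p ∈ Set.range j := ⟨p, rfl⟩
    rw [hrange] at this
    exact this.1
  · obtain ⟨U, hU, hUD⟩ := hjemb.isInducing.isOpen_iff.mp hDopen
    have : (Subtype.val ⁻¹' (j '' D) : Set ↑(closure ({y} : Set ↑Y))) =
        Subtype.val ⁻¹' (U ∩ (W : Set Y)) := by
      ext ⟨z, hz⟩
      simp only [Set.mem_preimage, Set.mem_image, Set.mem_inter_iff]
      constructor
      · rintro ⟨p, hp, rfl⟩
        refine ⟨?_, ?_⟩
        · have : p ∈ j ⁻¹' U := by rw [hUD]; exact hp
          exact this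
        · have : j p ∈ Set.range j := ⟨p, rfl⟩
          rw [hrange, hW.range_fromSpec] at this
          exact this.2
      · rintro ⟨hzU, hzW⟩
        have : z ∈ Set.range j := by
          rw [hrange, hW.range_fromSpec]
          exact ⟨hz, hzW⟩
        obtain ⟨p, rfl⟩ := this
        refine ⟨p, ?_, rfl⟩
        rw [← hUD]
        exact hzU
    rw [this]
    exact (hU.inter W.2).preimage continuous_subtype_val
  · rintro _ ⟨p, hp, rfl⟩
    rw [← hjgen]
    exact H p (gen A) hp hgenD

/-- On an integral base, the geometric numbers of components of the fibres of a finite type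
morphism are constant on a nonempty open subset. -/
theorem exists_open_const {Y S : Scheme.{u}} [IsIntegral S] (g : Y ⟶ S) [LocallyOfFiniteType g]
    [QuasiCompact g] :
    ∃ U : Set ↑S, IsOpen U ∧ U.Nonempty ∧ ∀ s ∈ U, ∀ s' ∈ U,
      MoreMor.nGeomIrredComp g s = MoreMor.nGeomIrredComp g s' ∧
        MoreMor.nGeomConnComp g s = MoreMor.nGeomConnComp g s' := by
  obtain ⟨V, hVsub, hηV, hVopen, H⟩ := exists_open_in_closure g (genericPoint S)
  have hcl : closure ({genericPoint S} : Set S) = Set.univ := (genericPoint_spec S).def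
  have hclopen : IsOpen (closure ({genericPoint S} : Set S)) := hcl ▸ isOpen_univ
  refine ⟨V, ?_, ⟨_, hηV⟩, fun s hs s' hs' => ?_⟩
  · have h1 := hclopen.isOpenMap_subtype_val _ hVopen
    rwa [Subtype.image_preimage_coe, Set.inter_eq_right.mpr hVsub] at h1
  · exact ⟨(H s hs).1.trans (H s' hs').1.symm, (H s hs).2.trans (H s' hs').2.symm⟩

end Groth.Agent.Lib.helper9.NGeom
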