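/-
Helper library (helper9): for a morphism of finite presentation the level sets of the geometric
numbers of irreducible and of connected components of the fibres are locally constructible
(EGA IV 9.7.9).
-/
import Mathlib
import Groth.Prelude.Def_MoreMor
import Groth.Prelude.Def_EGA4Misc
import Groth.Agent.Lib.Helper5.ConsApprox4
import Groth.Agent.Lib.Helper9.NGeom10

set_option autoImplicit false
set_option linter.style.haveILetI false
set_option backward.isDefEq.respectTransparency false

namespace Groth.Agent.Lib.helper9.NGeom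

open AlgebraicGeometry CategoryTheory Limits TopologicalSpace

universe u

section Abstract

variable (N : ∀ ⦃Y T : Scheme.{u}⦄, (Y ⟶ T) → T → ℕ∞)

/-- A fibrewise numerical invariant which is invariant under base change and generically constant
over integral bases gives constructible properties of morphisms. -/
theorem isConsMor_of_invariant
    (hbc : ∀ ⦃X Y X' Y' : Scheme.{u}⦄ (f : X ⟶ Y) (f' : X' ⟶ Y') (g' : X' ⟶ X) (g : Y' ⟶ Y),
      IsPullback g' f' f g → ∀ y' : Y', N f' y' = N f (g y'))
    (hgen : ∀ ⦃Y S : Scheme.{u}⦄ [IsIntegral S] (g : Y ⟶ S) [LocallyOfFiniteType g]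
      [QuasiCompact g], ∃ U : Set ↑S, IsOpen U ∧ U.Nonempty ∧ ∀ s ∈ U, ∀ s' ∈ U, N g s = N g s')
    (n : ℕ∞) :
    ConsProp.IsConsMor (fun X Y T f g => ∀ t : ↥T, N g t = n) := by
  have hloc : ∀ ⦃X Y S : Scheme.{u}⦄ (f : X ⟶ Y) (g : Y ⟶ S),
      ConsProp.locusMor (fun X Y T f g => ∀ t : ↥T, N g t = n) f g = {s | N g s = n} := by
    intro X Y S f g
    ext s
    change (∀ t : ↥(Spec (S.residueField s)), N (g.fiberToSpecResidueField s) t = n) ↔ N g s = n
    have sq : IsPullback (g.fiberι s) (g.fiberToSpecResidueField s) g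
        (S.fromSpecResidueField s) := IsPullback.of_hasPullback _ _
    have key : ∀ t : ↥(Spec (S.residueField s)), N (g.fiberToSpecResidueField s) t = N g s := by
      intro t
      rw [hbc g (g.fiberToSpecResidueField s) (g.fiberι s) (S.fromSpecResidueField s) sq t,
        Scheme.fromSpecResidueField_apply]
    constructor
    · intro H
      have t : ↥(Spec (S.residueField s)) := (⟨⊥, Ideal.isPrime_bot⟩ : PrimeSpectrum _)
      rw [← key t]
      exact H t
    · intro H t
      rw [key t]
      exact H
  refine ⟨?_, ?_⟩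
  · intro X X' Y Y' T T' f g f' g' eX eY h _ _ _ _ _ _ _ _ sqY sqX
    constructor
    · intro H t'
      rw [hbc g g' eY h sqY t']
      exact H (h t')
    · intro H t
      obtain ⟨t'⟩ := (inferInstance : Nonempty ↥T')
      have := H t'
      rw [hbc g g' eY h sqY t', Subsingleton.elim (h t') t] at this
      exact this
  · intro X Y S f g _ _ _ _ _ _
    rw [hloc f g]
    obtain ⟨U, hU, ⟨s₀, hs₀⟩, H⟩ := hgen g
    by_cases h0 : N g s₀ = n
    · left
      refine ⟨s₀, ?_⟩
      rw [mem_interior]
      exact ⟨U, fun s hs => (H s hs s₀ hs₀).trans h0, hU, hs₀⟩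
    · right
      refine ⟨s₀, ?_⟩
      rw [mem_interior]
      exact ⟨U, fun s hs hsn => h0 ((H s₀ hs₀ s hs).trans hsn), hU, hs₀⟩

/-- The level sets of such an invariant are locally constructible for morphisms of finite
presentation. -/
theorem isLocallyConstructible_levelSet
    (hbc : ∀ ⦃X Y X' Y' : Scheme.{u}⦄ (f : X ⟶ Y) (f' : X' ⟶ Y') (g' : X' ⟶ X) (g : Y' ⟶ Y),
      IsPullback g' f' f g → ∀ y' : Y', N f' y' = N f (g y'))
    (hgen : ∀ ⦃Y S : Scheme.{u}⦄ [IsIntegral S] (g : Y ⟶ S) [LocallyOfFiniteType g]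
      [QuasiCompact g], ∃ U : Set ↑S, IsOpen U ∧ U.Nonempty ∧ ∀ s ∈ U, ∀ s' ∈ U, N g s = N g s')
    {X Y : Scheme.{u}} (f : X ⟶ Y) [LocallyOfFinitePresentation f] [QuasiCompact f]
    [QuasiSeparated f] (n : ℕ∞) :
    Topology.IsLocallyConstructible {y : ↑Y | N f y = n} := by
  have hP := isConsMor_of_invariant N hbc hgen n
  haveI : LocallyOfFinitePresentation (𝟙 X ≫ f) := by rw [Category.id_comp]; infer_instance
  haveI : QuasiCompact (𝟙 X ≫ f) := by rw [Category.id_comp]; infer_instance
  haveI : QuasiSeparated (𝟙 X ≫ f) := by rw [Category.id_comp]; infer_instance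
  have h1 := Groth.Agent.Lib.helper5.ConsApprox.isLocallyConstructible_locusMor hP (𝟙 X) f
  have hloc : ConsProp.locusMor (fun X Y T f g => ∀ t : ↥T, N g t = n) (𝟙 X) f =
      {s | N f s = n} := by
    ext s
    change (∀ t : ↥(Spec (Y.residueField s)), N (f.fiberToSpecResidueField s) t = n) ↔ N f s = n
    have sq : IsPullback (f.fiberι s) (f.fiberToSpecResidueField s) f
        (Y.fromSpecResidueField s) := IsPullback.of_hasPullback _ _
    have key : ∀ t : ↥(Spec (Y.residueField s)), N (f.fiberToSpecResidueField s) t = N f s := by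
      intro t
      rw [hbc f (f.fiberToSpecResidueField s) (f.fiberι s) (Y.fromSpecResidueField s) sq t,
        Scheme.fromSpecResidueField_apply]
    constructor
    · intro H
      have t : ↥(Spec (Y.residueField s)) := (⟨⊥, Ideal.isPrime_bot⟩ : PrimeSpectrum _)
      rw [← key t]
      exact H t
    · intro H t
      rw [key t]
      exact H
  rw [hloc] at h1
  exact h1

end Abstract

/-- **EGA IV 9.7.9** (irreducible components). -/
theorem isLocallyConstructible_nGeomIrredComp {X Y : Scheme.{u}} (f : X ⟶ Y)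
    [LocallyOfFinitePresentation f] [QuasiCompact f] [QuasiSeparated f] (n : ℕ∞) :
    Topology.IsLocallyConstructible {y : ↑Y | MoreMor.nGeomIrredComp f y = n} := by
  refine isLocallyConstructible_levelSet (fun Y T g t => MoreMor.nGeomIrredComp g t) ?_ ?_ f n
  · intro X Y X' Y' f f' g' g hc y'
    exact Groth.Agent.Lib.helper3.GeomFiberBC.nGeomIrredComp_baseChange f f' g' g hc y'
  · intro Y S _ g _ _
    obtain ⟨U, hU, hne, H⟩ := exists_open_const g
    exact ⟨U, hU, hne, fun s hs s' hs' => (H s hs s' hs').1⟩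

/-- **EGA IV 9.7.9** (connected components). -/
theorem isLocallyConstructible_nGeomConnComp {X Y : Scheme.{u}} (f : X ⟶ Y)
    [LocallyOfFinitePresentation f] [QuasiCompact f] [QuasiSeparated f] (n : ℕ∞) :
    Topology.IsLocallyConstructible {y : ↑Y | MoreMor.nGeomConnComp f y = n} := by
  refine isLocallyConstructible_levelSet (fun Y T g t => MoreMor.nGeomConnComp g t) ?_ ?_ f n
  · intro X Y X' Y' f f' g' g hc y'
    exact Groth.Agent.Lib.helper3.GeomFiberBC.nGeomConnComp_baseChange f f' g' g hc y'
  · intro Y S _ g _ _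
    obtain ⟨U, hU, hne, H⟩ := exists_open_const g
    exact ⟨U, hU, hne, fun s hs s' hs' => (H s hs s' hs').2⟩

end Groth.Agent.Lib.helper9.NGeom
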