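import Mathlib
import Groth.Agent.Lib.Helper9.GRGen4
import Groth.Agent.Lib.Helper9.NGeom11
import Groth.Agent.Lib.Helper3.GenNonGeomReduced

/-!
# Local constructibility of the locus of geometrically reduced fibres (EGA IV 9.7.7, helper9)

* `geometricallyReduced_fiber_iff_cover`: geometric reducedness of a fibre is local on the source.
* `isLocallyConstructible_geometricallyReduced` (= S1301).
-/

set_option autoImplicit false
set_option linter.style.haveILetI false
set_option backward.isDefEq.respectTransparency false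
universe u

open CategoryTheory CategoryTheory.Limits AlgebraicGeometry Topology

namespace Groth.Agent.Lib.helper9.GRGen

open Groth.Agent.Lib.helper9.NGeom

/-- geometric reducedness of a fibre is local on the source. -/
theorem geometricallyReduced_fiber_iff_cover {X Y : Scheme.{u}} (f : X ⟶ Y) (𝒰 : X.OpenCover)
    (y : Y) :
    GeometricallyReduced (f.fiberToSpecResidueField y) ↔
      ∀ i, GeometricallyReduced ((𝒰.f i ≫ f).fiberToSpecResidueField y) := by
  simp only [geometricallyReduced_fiber_iff]
  constructor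
  · intro h i L _ t ht
    exact (Groth.Agent.Lib.helper3.GeomRed.isReduced_pullback_iff_cover f t 𝒰).mp (h L t ht) i
  · intro h L _ t ht
    exact (Groth.Agent.Lib.helper3.GeomRed.isReduced_pullback_iff_cover f t 𝒰).mpr
      (fun i => h i L t ht)

open Classical in
/-- the indicator of geometric reducedness of the fibre. -/
noncomputable def grN : ∀ ⦃Y T : Scheme.{u}⦄, (Y ⟶ T) → T → ℕ∞ :=
  fun _ _ g t => if GeometricallyReduced (g.fiberToSpecResidueField t) then 1 else 0

theorem grN_eq_one_iff {Y T : Scheme.{u}} (g : Y ⟶ T) (t : T) :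
    grN g t = 1 ↔ GeometricallyReduced (g.fiberToSpecResidueField t) := by
  unfold grN
  split_ifs with h
  · simp [h]
  · simp [h]

theorem grN_baseChange ⦃X Y X' Y' : Scheme.{u}⦄ (f : X ⟶ Y) (f' : X' ⟶ Y') (g' : X' ⟶ X)
    (g : Y' ⟶ Y) (hc : IsPullback g' f' f g) (y' : Y') : grN f' y' = grN f (g y') := by
  unfold grN
  rw [geometricallyReduced_fiber_iff_of_isPullback hc y']

theorem geometricallyReduced_fiber_of_morphismRestrict {X Y : Scheme.{u}} (f : X ⟶ Y)
    (V : Y.Opens) (v : V) :
    GeometricallyReduced ((f ∣_ V).fiberToSpecResidueField v) ↔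
      GeometricallyReduced (f.fiberToSpecResidueField (V.ι v)) :=
  geometricallyReduced_fiber_iff_of_isPullback (isPullback_morphismRestrict f V).flip v

theorem grN_generic ⦃Y S : Scheme.{u}⦄ [IsIntegral S] (g : Y ⟶ S) [LocallyOfFiniteType g]
    [QuasiCompact g] :
    ∃ U : Set ↑S, IsOpen U ∧ U.Nonempty ∧ ∀ s ∈ U, ∀ s' ∈ U, grN g s = grN g s' := by
  by_cases h : GeometricallyReduced (g.fiberToSpecResidueField (genericPoint ↑S))
  · obtain ⟨V, hne, hV⟩ := exists_opens_geometricallyReduced g h
    have H : ∀ s ∈ V, grN g s = 1 := by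
      intro s hs
      rw [grN_eq_one_iff]
      have h1 := (geometricallyReduced_iff_forall_fiber (g ∣_ V)).mp hV ⟨s, hs⟩
      exact (geometricallyReduced_fiber_of_morphismRestrict g V ⟨s, hs⟩).mp h1
    exact ⟨V, V.2, hne, fun s hs s' hs' => by rw [H s hs, H s' hs']⟩
  · obtain ⟨V, hne, hV⟩ :=
      Groth.Agent.Lib.helper3.GenNonGeomReduced.not_geometricallyReduced_fibre_near_generic g h
    have H : ∀ s ∈ V, grN g s = 0 := by
      intro s hs
      unfold grN
      rw [if_neg (hV s hs)]
    exact ⟨V, V.2, hne, fun s hs s' hs' => by rw [H s hs, H s' hs']⟩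

/-- quasi-separated case. -/
theorem isLocallyConstructible_geometricallyReduced_of_qs {X Y : Scheme.{u}} (f : X ⟶ Y)
    [LocallyOfFinitePresentation f] [QuasiCompact f] [QuasiSeparated f] :
    IsLocallyConstructible {y : ↑Y | GeometricallyReduced (f.fiberToSpecResidueField y)} := by
  have h := isLocallyConstructible_levelSet grN grN_baseChange grN_generic f 1
  have heq : {y : ↑Y | grN f y = 1} =
      {y : ↑Y | GeometricallyReduced (f.fiberToSpecResidueField y)} := by
    ext y
    exact grN_eq_one_iff f y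
  rwa [heq] at h

/-- **EGA IV 9.7.7** (= S1301). -/
theorem isLocallyConstructible_geometricallyReduced {X Y : Scheme.{u}} (f : X ⟶ Y)
    [QuasiCompact f] [LocallyOfFinitePresentation f] :
    IsLocallyConstructible {y : ↑Y | GeometricallyReduced (f.fiberToSpecResidueField y)} := by
  refine IsLocallyConstructible.of_isOpenCover (U := fun i : Y.affineOpens => (i.1 : Y.Opens))
    (iSup_affineOpens_eq_top Y) fun i => ?_
  obtain ⟨U, hU⟩ := i
  haveI : IsAffine (U : Scheme.{u}) := hU
  haveI : CompactSpace ↥(f ⁻¹ᵁ U).toScheme := QuasiCompact.compactSpace_of_compactSpace (f ∣_ U)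
  let 𝒰 := (f ⁻¹ᵁ U).toScheme.affineCover.finiteSubcover
  haveI : Finite 𝒰.I₀ := inferInstance
  have hk : ∀ k : 𝒰.I₀, IsLocallyConstructible
      {u : ↥U | GeometricallyReduced ((𝒰.f k ≫ f ∣_ U).fiberToSpecResidueField u)} := by
    intro k
    haveI : IsAffine (𝒰.X k) := by dsimp only [𝒰]; infer_instance
    haveI : IsAffineHom (𝒰.f k ≫ f ∣_ U) := isAffineHom_of_isAffine _
    exact isLocallyConstructible_geometricallyReduced_of_qs (𝒰.f k ≫ f ∣_ U)
  have h1 := IsLocallyConstructible.iInter hk
  have heq : (⋂ k : 𝒰.I₀,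
      {u : ↥U | GeometricallyReduced ((𝒰.f k ≫ f ∣_ U).fiberToSpecResidueField u)}) =
      U.ι ⁻¹' {y : ↑Y | GeometricallyReduced (f.fiberToSpecResidueField y)} := by
    ext u
    simp only [Set.mem_iInter, Set.mem_ofPred_eq, Set.mem_preimage]
    rw [← geometricallyReduced_fiber_of_morphismRestrict f U u,
      geometricallyReduced_fiber_iff_cover (f ∣_ U) 𝒰 u]
  rw [heq] at h1
  exact h1

end Groth.Agent.Lib.helper9.GRGen
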