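import Mathlib

/-!
# DVR lifting criterion for universal openness (helper9), part 1: ring theory

* `isDomain_of_maximalIdeal_eq_span`: a Noetherian local ring whose maximal ideal is generated by a
  non-zero-divisor is a domain;
* `isDiscreteValuationRing_of_maximalIdeal_eq_span`: ... and a discrete valuation ring.
-/

set_option autoImplicit false
set_option linter.style.haveILetI false

namespace Groth.Agent.Lib.helper9.DvrLift

open IsLocalRing

universe u

theorem exists_unit_mul_pow {B : Type u} [CommRing B] [IsLocalRing B] [IsNoetherianRing B]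
    (ϖ : B) (hmax : maximalIdeal B = Ideal.span {ϖ}) (b : B) (hb : b ≠ 0) :
    ∃ (n : ℕ) (v : B), IsUnit v ∧ b = v * ϖ ^ n := by
  classical
  have hinf : ⨅ i : ℕ, maximalIdeal B ^ i = ⊥ :=
    Ideal.iInf_pow_eq_bot_of_isLocalRing (maximalIdeal B) (maximalIdeal.isMaximal B).ne_top
  have hex : ∃ n : ℕ, b ∉ maximalIdeal B ^ n := by
    by_contra hcon
    push Not at hcon
    have : b ∈ ⨅ i : ℕ, maximalIdeal B ^ i := by
      rw [Ideal.mem_iInf]
      exact hcon
    rw [hinf] at this
    exact hb this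
  set n := Nat.find hex with hn
  have hn1 : b ∉ maximalIdeal B ^ n := Nat.find_spec hex
  have hnpos : n ≠ 0 := by
    intro h0
    rw [h0, pow_zero, Ideal.one_eq_top] at hn1
    exact hn1 trivial
  obtain ⟨m, hm⟩ := Nat.exists_eq_succ_of_ne_zero hnpos
  have hbm : b ∈ maximalIdeal B ^ m := by
    by_contra hcon
    have := Nat.find_min' hex hcon
    omega
  rw [hmax, Ideal.span_singleton_pow, Ideal.mem_span_singleton'] at hbm
  obtain ⟨v, hv⟩ := hbm
  refine ⟨m, v, ?_, hv.symm⟩
  by_contra hvu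
  have hvm : v ∈ maximalIdeal B := (mem_maximalIdeal v).mpr hvu
  rw [hmax, Ideal.mem_span_singleton'] at hvm
  obtain ⟨c, hc⟩ := hvm
  apply hn1
  rw [hm, hmax, Ideal.span_singleton_pow, Ideal.mem_span_singleton']
  refine ⟨c, ?_⟩
  rw [← hv, ← hc, pow_succ]
  ring

theorem isDomain_of_maximalIdeal_eq_span (B : Type u) [CommRing B] [IsLocalRing B]
    [IsNoetherianRing B] (ϖ : B) (hϖ : ϖ ∈ nonZeroDivisors B)
    (hmax : maximalIdeal B = Ideal.span {ϖ}) : IsDomain B := by
  haveI : NoZeroDivisors B := by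
    constructor
    intro a b hab
    by_contra hcon
    push Not at hcon
    obtain ⟨n, v, hv, rfl⟩ := exists_unit_mul_pow ϖ hmax a hcon.1
    obtain ⟨m, w, hw, rfl⟩ := exists_unit_mul_pow ϖ hmax b hcon.2
    have h1 : ϖ ^ (n + m) ∈ nonZeroDivisors B := pow_mem hϖ _
    have h2 : (v * w) * ϖ ^ (n + m) = 0 := by
      rw [← hab, pow_add]; ring
    have h3 : v * w = 0 := (mul_right_mem_nonZeroDivisors_eq_zero_iff h1).mp h2
    have h4 : IsUnit (v * w) := hv.mul hw
    rw [h3] at h4
    exact not_isUnit_zero h4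
  exact NoZeroDivisors.to_isDomain B

theorem isDiscreteValuationRing_of_maximalIdeal_eq_span (B : Type u) [CommRing B] [IsLocalRing B]
    [IsNoetherianRing B] [IsDomain B] (ϖ : B) (hϖ : ϖ ≠ 0)
    (hmax : maximalIdeal B = Ideal.span {ϖ}) : IsDiscreteValuationRing B := by
  have hnf : ¬ IsField B := by
    rw [IsLocalRing.isField_iff_maximalIdeal_eq, hmax]
    intro h0
    apply hϖ
    have : ϖ ∈ Ideal.span ({ϖ} : Set B) := Ideal.subset_span rfl
    rw [h0] at this
    exact this
  have hp : (maximalIdeal B).IsPrincipal := ⟨⟨ϖ, hmax⟩⟩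
  exact ((IsDiscreteValuationRing.TFAE B hnf).out 0 4).mpr hp

end Groth.Agent.Lib.helper9.DvrLift
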