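import Mathlib
import Groth.Agent.Lib.Helper9.DvrLift1
import Groth.Agent.Lib.Helper24.Tower7

/-!
# DVR lifting criterion for universal openness (helper9), part 2: complete DVR extensions with
prescribed residue field (EGA 0_III 10.3.1 for discrete valuation rings)
-/

set_option autoImplicit false
set_option linter.style.haveILetI false

namespace Groth.Agent.Lib.helper9.DvrLift

open IsLocalRing

universe u

theorem exists_complete_dvr_extension (A : Type u) [CommRing A] [IsDomain A]
    [IsDiscreteValuationRing A] (K : Type u) [Field K] [Algebra (ResidueField A) K] :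
    ∃ (B : Type u) (_ : CommRing B) (_ : IsDomain B) (_ : IsDiscreteValuationRing B)
      (_ : Algebra A B),
      IsLocalHom (algebraMap A B) ∧ Function.Injective (algebraMap A B) ∧
      IsAdicComplete (maximalIdeal B) B ∧
      ∃ e : ResidueField B ≃+* K, ∀ a : A,
        e (residue B (algebraMap A B a)) = algebraMap (ResidueField A) K (residue A a) := by
  obtain ⟨B, _, _, _, hN, hloc, hflat, hmax, hcomp, e, he⟩ :=
    Groth.Agent.Lib.Helper24.Tower.exists_flat_complete_local A K
  haveI := hN
  haveI := hflat
  obtain ⟨π, hπ⟩ := IsDiscreteValuationRing.exists_irreducible A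
  have hmA : maximalIdeal A = Ideal.span {π} := hπ.maximalIdeal_eq
  have hmB : maximalIdeal B = Ideal.span {algebraMap A B π} := by
    rw [← hmax, hmA, Ideal.map_span, Set.image_singleton]
  have hπ0 : π ∈ nonZeroDivisors A := mem_nonZeroDivisors_of_ne_zero hπ.ne_zero
  have hreg : IsSMulRegular B π := Module.Flat.isSMulRegular_of_nonZeroDivisors hπ0
  have hϖ : algebraMap A B π ∈ nonZeroDivisors B := by
    rw [mem_nonZeroDivisors_iff_right]
    intro x hx
    apply hreg
    change π • x = π • (0 : B)
    rw [smul_zero, Algebra.smul_def, mul_comm]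
    exact hx
  haveI hdom : IsDomain B := isDomain_of_maximalIdeal_eq_span B (algebraMap A B π) hϖ hmB
  have hϖ0 : algebraMap A B π ≠ 0 := nonZeroDivisors.ne_zero hϖ
  have hdvr : IsDiscreteValuationRing B :=
    isDiscreteValuationRing_of_maximalIdeal_eq_span B (algebraMap A B π) hϖ0 hmB
  refine ⟨B, inferInstance, hdom, hdvr, inferInstance, hloc, ?_, hcomp, e, he⟩
  rw [injective_iff_map_eq_zero]
  intro a ha
  by_contra ha0
  obtain ⟨n, u, rfl⟩ := IsDiscreteValuationRing.eq_unit_mul_pow_irreducible ha0 hπ
  rw [map_mul, map_pow] at ha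
  have hu : IsUnit (algebraMap A B (u : A)) := (u.isUnit).map _
  have h1 : (algebraMap A B π) ^ n = 0 := by
    rcases mul_eq_zero.mp ha with h | h
    · exact absurd h hu.ne_zero
    · exact h
  exact hϖ0 (eq_zero_of_pow_eq_zero h1)

end Groth.Agent.Lib.helper9.DvrLift
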