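import Mathlib
import Groth.Agent.Lib.Helper4.UnivOpenDvr2
import Groth.Agent.Lib.Helper9.DvrLift2

/-!
# helper9: discrete valuation rings dominating a Noetherian domain, with prescribed finite extension
of the fraction field and algebraically closed residue field
-/

set_option autoImplicit false
set_option linter.style.haveILetI false

namespace Groth.Agent.Lib.helper9.NGeomDvr

open IsLocalRing

universe u

/-- A finitely generated subalgebra of a finite extension `N` of the fraction field of `D`, integral
over `D`, with fraction field `N`. -/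
theorem exists_integral_subalgebra (D : Type u) [CommRing D] [IsDomain D]
    (k' : Type u) [Field k'] [Algebra D k'] [IsFractionRing D k']
    (N : Type u) [Field N] [Algebra k' N] [FiniteDimensional k' N] [Algebra D N]
    [IsScalarTower D k' N] :
    ∃ A₁ : Subalgebra D N, A₁.FG ∧ Algebra.IsIntegral D A₁ ∧
      ∀ z : N, ∃ e : D, e ≠ 0 ∧ e • z ∈ A₁ := by
  classical
  obtain ⟨s, hs⟩ := (Module.finite_def (R := k') (M := N)).mp inferInstance
  have hmult : ∀ b : N, ∃ d : D, d ≠ 0 ∧ IsIntegral D (d • b) := by
    intro b
    obtain ⟨m, hm⟩ := IsIntegral.exists_multiple_integral_of_isLocalization (nonZeroDivisors D)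
      (Rₘ := k') b (Algebra.IsIntegral.isIntegral b)
    exact ⟨m.1, nonZeroDivisors.ne_zero m.2, hm⟩
  choose d hd0 hdint using hmult
  let G : Finset N := s.image (fun b ↦ d b • b)
  refine ⟨Algebra.adjoin D (G : Set N), ⟨G, rfl⟩, ?_, ?_⟩
  · have : ∀ x ∈ (G : Set N), IsIntegral D x := by
      intro x hx
      obtain ⟨b, -, rfl⟩ := Finset.mem_image.mp hx
      exact hdint b
    exact Algebra.IsIntegral.adjoin this
  · -- the set of `z` with a multiple in `A₁` is a `k'`-subspace containing `s`
    let S : Submodule k' N :=
      { carrier := {z | ∃ e : D, e ≠ 0 ∧ e • z ∈ Algebra.adjoin D (G : Set N)}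
        add_mem' := by
          rintro z₁ z₂ ⟨e₁, he₁, h₁⟩ ⟨e₂, he₂, h₂⟩
          refine ⟨e₁ * e₂, mul_ne_zero he₁ he₂, ?_⟩
          have : (e₁ * e₂) • (z₁ + z₂) = e₂ • (e₁ • z₁) + e₁ • (e₂ • z₂) := by
            rw [smul_add, mul_smul, mul_comm, mul_smul, smul_comm e₁ e₂ z₁, smul_comm e₂ e₁ z₂]
          rw [this]
          exact add_mem (Subalgebra.smul_mem _ h₁ _) (Subalgebra.smul_mem _ h₂ _)
        zero_mem' := ⟨1, one_ne_zero, by rw [smul_zero]; exact zero_mem _⟩
        smul_mem' := by
          rintro c z ⟨e, he, h⟩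
          obtain ⟨n, e', he', hc⟩ := IsFractionRing.div_surjective (A := D) c
          have he'0 : e' ≠ 0 := nonZeroDivisors.ne_zero he'
          refine ⟨e' * e, mul_ne_zero he'0 he, ?_⟩
          have hc' : algebraMap D k' e' * c = algebraMap D k' n := by
            rw [← hc]
            have : algebraMap D k' e' ≠ 0 := by
              rw [Ne, map_eq_zero_iff _ (IsFractionRing.injective D k')]
              exact he'0
            field_simp
          have : (e' * e) • (c • z) = n • (e • z) := by
            rw [mul_smul, smul_comm e c z, ← smul_assoc e' c, Algebra.smul_def e' c, hc',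
              algebraMap_smul]
          rw [this]
          exact Subalgebra.smul_mem _ h _ }
    have hsS : (s : Set N) ⊆ S := by
      intro b hb
      refine ⟨d b, hd0 b, Algebra.subset_adjoin ?_⟩
      exact Finset.mem_coe.mpr (Finset.mem_image.mpr ⟨b, hb, rfl⟩)
    have hS : S = ⊤ := by
      rw [eq_top_iff, ← hs]
      exact Submodule.span_le.mpr hsS
    intro z
    have : z ∈ S := hS ▸ Submodule.mem_top
    exact this

/-- **A discrete valuation ring with prescribed fraction field extension and algebraically closed
residue field.** `D` a Noetherian domain with fraction field `k'`, `m` a nonzero prime of `D`, `N` a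
finite extension of `k'`. There is a discrete valuation ring `A` with an injective homomorphism
`φ : D → A` such that the maximal ideal of `A` contracts to `m`, the residue field of `A` is
algebraically closed, and every field `K` containing `A` receives `N` compatibly. -/
theorem exists_dvr_of_finite_extension (D : Type u) [CommRing D] [IsDomain D] [IsNoetherianRing D]
    (k' : Type u) [Field k'] [Algebra D k'] [IsFractionRing D k']
    (m : Ideal D) [m.IsPrime] (hm : m ≠ ⊥)
    (N : Type u) [Field N] [Algebra k' N] [FiniteDimensional k' N] [Algebra D N]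
    [IsScalarTower D k' N] :
    ∃ (A : Type u) (_ : CommRing A) (_ : IsDomain A) (_ : IsDiscreteValuationRing A)
      (φ : D →+* A), Function.Injective φ ∧ (maximalIdeal A).comap φ = m ∧
      IsAlgClosed (ResidueField A) ∧
      ∀ (K : Type u) [Field K] (j : A →+* K), Function.Injective j →
        ∃ ψ : N →+* K, ψ.comp (algebraMap D N) = j.comp φ := by
  obtain ⟨A₁, hfg, hint, hfrac⟩ := exists_integral_subalgebra D k' N
  haveI : Algebra.FiniteType D A₁ := (Subalgebra.fg_iff_finiteType A₁).mp hfg
  have hinjDN : Function.Injective (algebraMap D N) := by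
    rw [IsScalarTower.algebraMap_eq D k' N]
    exact (algebraMap k' N).injective.comp (IsFractionRing.injective D k')
  have hinjDA₁ : Function.Injective (algebraMap D A₁) := by
    intro a b hab
    apply hinjDN
    have := congrArg (algebraMap A₁ N) hab
    rwa [← IsScalarTower.algebraMap_apply, ← IsScalarTower.algebraMap_apply] at this
  obtain ⟨p₁, -, hp₁, hp₁m⟩ := Ideal.exists_ideal_over_prime_of_isIntegral m (⊥ : Ideal A₁) (by
    rw [← RingHom.ker_eq_comap_bot, (RingHom.injective_iff_ker_eq_bot _).mp hinjDA₁]
    exact bot_le)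
  haveI := hp₁
  obtain ⟨t, htm, ht0⟩ := Submodule.exists_mem_ne_zero_of_ne_bot hm
  have ht₁ : algebraMap D A₁ t ∈ p₁ := by
    have : t ∈ p₁.comap (algebraMap D A₁) := hp₁m ▸ htm
    exact this
  have ht₁0 : algebraMap D A₁ t ≠ 0 := fun h ↦ ht0 (hinjDA₁ (h.trans (map_zero _).symm))
  obtain ⟨R, _, _, _, ι, hι, hιm⟩ :=
    Groth.Agent.Lib.helper4.UnivOpenDvr2.exists_dvr_dominating (A₀ := D) (A₁ := A₁) p₁
      (algebraMap D A₁ t) ht₁ ht₁0
  obtain ⟨A, _, _, _, _, hloc, hinjRA, -, e, -⟩ :=
    Groth.Agent.Lib.helper9.DvrLift.exists_complete_dvr_extension R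
      (AlgebraicClosure (ResidueField R))
  haveI := hloc
  refine ⟨A, inferInstance, inferInstance, inferInstance,
    (algebraMap R A).comp (ι.comp (algebraMap D A₁)), ?_, ?_, ?_, ?_⟩
  · exact hinjRA.comp (hι.comp hinjDA₁)
  · have hRA : (maximalIdeal A).comap (algebraMap R A) = maximalIdeal R :=
      IsLocalRing.maximalIdeal_comap (algebraMap R A)
    rw [← Ideal.comap_comap, ← Ideal.comap_comap, hRA, hιm, hp₁m]
  · exact IsAlgClosed.of_ringEquiv _ _ e.symm
  · intro K _ j hj
    -- `N` is the fraction field of `A₁`
    haveI : IsFractionRing A₁ N := by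
      haveI : FaithfulSMul A₁ N :=
        (faithfulSMul_iff_algebraMap_injective A₁ N).mpr Subtype.val_injective
      refine IsFractionRing.of_field A₁ N fun z ↦ ?_
      obtain ⟨e', he', hz⟩ := hfrac z
      refine ⟨⟨e' • z, hz⟩, algebraMap D A₁ e', ?_⟩
      have h1 : algebraMap A₁ N (algebraMap D A₁ e') = algebraMap D N e' :=
        (IsScalarTower.algebraMap_apply D A₁ N e').symm
      have h2 : algebraMap D N e' ≠ 0 := fun h ↦ he' (hinjDN (h.trans (map_zero _).symm))
      rw [h1]
      show z = (e' • z) / algebraMap D N e'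
      rw [Algebra.smul_def, mul_div_cancel_left₀ _ h2]
    have hg : Function.Injective ((j.comp (algebraMap R A)).comp ι) :=
      (hj.comp hinjRA).comp hι
    refine ⟨IsFractionRing.lift hg, ?_⟩
    ext a
    show IsFractionRing.lift hg (algebraMap D N a) = _
    rw [IsScalarTower.algebraMap_apply D A₁ N, IsFractionRing.lift_algebraMap]
    rfl

end Groth.Agent.Lib.helper9.NGeomDvr
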