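import Mathlib
import Groth.Agent.Lib.Helper9.NGeomDvr2

/-!
# helper9: the dominating discrete valuation ring, for a ring with a homomorphism to a field
-/

set_option autoImplicit false
set_option linter.style.haveILetI false

namespace Groth.Agent.Lib.helper9.NGeomDvr

open IsLocalRing

universe u

/-- Version of `exists_dvr_of_finite_extension` for a Noetherian ring `O`, a prime `m` of `O` and a
homomorphism `ρ : O → k'` to a field which is the fraction field of the image of `ρ`, whose kernel is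
strictly contained in `m`. -/
theorem exists_dvr_of_ringHom (O : Type u) [CommRing O] [IsNoetherianRing O]
    (m : Ideal O) [m.IsPrime] (k' : Type u) [Field k'] (ρ : O →+* k')
    (hfrac : ∀ z : k', ∃ a b : O, ρ b ≠ 0 ∧ z * ρ b = ρ a)
    (hker : RingHom.ker ρ ≤ m) (t : O) (htm : t ∈ m) (ht : ρ t ≠ 0)
    (N : Type u) [Field N] [Algebra k' N] [FiniteDimensional k' N] :
    ∃ (A : Type u) (_ : CommRing A) (_ : IsDomain A) (_ : IsDiscreteValuationRing A)
      (φ : O →+* A), (maximalIdeal A).comap φ = m ∧ IsAlgClosed (ResidueField A) ∧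
      ∀ (K : Type u) [Field K] (j : A →+* K), Function.Injective j →
        ∃ ψ : N →+* K, ψ.comp ((algebraMap k' N).comp ρ) = j.comp φ := by
  haveI : (RingHom.ker ρ).IsPrime := RingHom.ker_isPrime ρ
  let D := O ⧸ RingHom.ker ρ
  let ρ' : D →+* k' := RingHom.kerLift ρ
  have hρ'inj : Function.Injective ρ' := RingHom.kerLift_injective ρ
  have hρ'mk : ∀ a : O, ρ' (Ideal.Quotient.mk _ a) = ρ a := fun a ↦ RingHom.kerLift_mk ρ a
  letI : Algebra D k' := ρ'.toAlgebra
  haveI : FaithfulSMul D k' := (faithfulSMul_iff_algebraMap_injective D k').mpr hρ'inj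
  haveI : IsFractionRing D k' := by
    refine IsFractionRing.of_field D k' fun z ↦ ?_
    obtain ⟨a, b, hb, hab⟩ := hfrac z
    refine ⟨Ideal.Quotient.mk _ a, Ideal.Quotient.mk _ b, ?_⟩
    show z = ρ' (Ideal.Quotient.mk _ a) / ρ' (Ideal.Quotient.mk _ b)
    rw [hρ'mk, hρ'mk, ← hab, mul_div_cancel_right₀ _ hb]
  letI : Algebra D N := ((algebraMap k' N).comp ρ').toAlgebra
  haveI : IsScalarTower D k' N := IsScalarTower.of_algebraMap_eq (fun _ ↦ rfl)
  have hmksurj : Function.Surjective (Ideal.Quotient.mk (RingHom.ker ρ)) :=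
    Ideal.Quotient.mk_surjective
  let m' : Ideal D := m.map (Ideal.Quotient.mk (RingHom.ker ρ))
  haveI : m'.IsPrime := Ideal.map_isPrime_of_surjective hmksurj (by rw [Ideal.mk_ker]; exact hker)
  have hm'comap : m'.comap (Ideal.Quotient.mk (RingHom.ker ρ)) = m := by
    rw [Ideal.comap_map_of_surjective _ hmksurj, ← RingHom.ker_eq_comap_bot, Ideal.mk_ker]
    exact sup_eq_left.mpr hker
  have hm' : m' ≠ ⊥ := by
    intro h
    have h1 : Ideal.Quotient.mk (RingHom.ker ρ) t ∈ m' := Ideal.mem_map_of_mem _ htm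
    rw [h, Ideal.mem_bot] at h1
    apply ht
    rw [← hρ'mk, h1, map_zero]
  obtain ⟨A, _, _, _, φ', -, hφ'm, hac, hK⟩ := exists_dvr_of_finite_extension D k' m' hm' N
  refine ⟨A, inferInstance, inferInstance, inferInstance,
    φ'.comp (Ideal.Quotient.mk (RingHom.ker ρ)), ?_, hac, ?_⟩
  · rw [← Ideal.comap_comap, hφ'm, hm'comap]
  · intro K _ j hj
    obtain ⟨ψ, hψ⟩ := hK K j hj
    refine ⟨ψ, ?_⟩
    ext a
    have := congrArg (fun h : D →+* K ↦ h (Ideal.Quotient.mk _ a)) hψ
    simp only [RingHom.comp_apply] at this ⊢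
    rw [← this]
    show ψ (algebraMap k' N (ρ a)) = ψ (algebraMap k' N (ρ' (Ideal.Quotient.mk _ a)))
    rw [hρ'mk]

end Groth.Agent.Lib.helper9.NGeomDvr
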