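import Mathlib
import Groth.Agent.Lib.Helper22.ResFieldExt

/-!
# Quasi-sections through a point (helper9), part 3: a finite free cover realizing algebraic elements

`φ : R₀ →+* K` a ring map to a field and `c₁, …, cₙ ∈ K` algebraic over (the fraction field of the
image of) `R₀`. Then there are a finite free `R₀`-algebra `S`, an element `t ∈ S` and a ring map
`ψ : S[1/t] → K` extending `φ` whose image contains the `cᵢ` (helper22's `ResFieldExt`).
-/

set_option autoImplicit false
set_option linter.style.haveILetI false
universe u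

namespace Groth.Agent.Lib.helper9.QSec

open Polynomial

theorem exists_finite_free_cover {R₀ : Type u} [CommRing R₀] {K : Type u} [Field K]
    (φ : R₀ →+* K) {n : ℕ} (c : Fin n → K)
    (halg : ∀ i, ∃ P : R₀[X], P.map φ ≠ 0 ∧ eval₂ φ (c i) P = 0) :
    ∃ (S : Type u) (_ : CommRing S) (_ : Algebra R₀ S) (_ : Module.Finite R₀ S)
      (_ : Module.Free R₀ S) (t : S) (ψ : Localization.Away t →+* K)
      (s : Fin n → Localization.Away t),
      ψ.comp (algebraMap R₀ (Localization.Away t)) = φ ∧ ∀ i, ψ (s i) = c i := by
  classical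
  set p : Ideal R₀ := RingHom.ker φ with hp
  haveI : p.IsPrime := RingHom.ker_isPrime φ
  letI : Algebra R₀ K := φ.toAlgebra
  have hf₂ : p.primeCompl ≤ (IsUnit.submonoid K).comap φ := by
    intro r hr
    change IsUnit (φ r)
    rw [isUnit_iff_ne_zero]
    exact hr
  letI : Algebra p.ResidueField K := (Ideal.ResidueField.lift p φ le_rfl hf₂).toAlgebra
  haveI : IsScalarTower R₀ p.ResidueField K := IsScalarTower.of_algebraMap_eq (fun r => by
    change φ r = Ideal.ResidueField.lift p φ le_rfl hf₂ (algebraMap R₀ p.ResidueField r)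
    rw [Ideal.ResidueField.lift_algebraMap])
  -- the `cᵢ` are integral over `κ(p)`
  have hint : ∀ i, IsIntegral p.ResidueField (c i) := by
    intro i
    obtain ⟨P, hP, hPc⟩ := halg i
    rw [← isAlgebraic_iff_isIntegral]
    refine ⟨P.map (algebraMap R₀ p.ResidueField), ?_, ?_⟩
    · intro h0
      apply hP
      have h1 : P.map φ = (P.map (algebraMap R₀ p.ResidueField)).map
          (algebraMap p.ResidueField K) := by
        rw [Polynomial.map_map]
        congr 1
        exact IsScalarTower.algebraMap_eq R₀ p.ResidueField K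
      rw [h1, h0, Polynomial.map_zero]
    · rw [Polynomial.aeval_def, Polynomial.eval₂_map]
      have h2 : (algebraMap p.ResidueField K).comp (algebraMap R₀ p.ResidueField) = φ :=
        (IsScalarTower.algebraMap_eq R₀ p.ResidueField K).symm
      rw [h2]
      exact hPc
  set L : IntermediateField p.ResidueField K :=
    IntermediateField.adjoin p.ResidueField (Set.range c) with hL
  haveI : FiniteDimensional p.ResidueField L :=
    IntermediateField.finiteDimensional_adjoin (fun x hx => by
      obtain ⟨i, rfl⟩ := hx
      exact hint i)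
  have hcL : ∀ i, c i ∈ L := fun i => IntermediateField.subset_adjoin _ _ ⟨i, rfl⟩
  obtain ⟨D⟩ := Groth.Agent.Lib.helper22.ResFieldExt.exists_datum_top (R := R₀) (p := p) (L := L)
  set k : ℕ → L := fun i => if h : i < n then ⟨c ⟨i, h⟩, hcL _⟩ else 0 with hk
  obtain ⟨t, ht, hden⟩ := Groth.Agent.Lib.helper22.ResFieldExt.exists_common_denom D k
    (fun _ => IntermediateField.mem_top) n
  choose! a ha using hden
  set ψ₀ : D.S →+* K := (algebraMap L K).comp (D.ψ : D.S →+* L) with hψ₀
  have hψ₀t : IsUnit (ψ₀ t) := by
    rw [isUnit_iff_ne_zero]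
    intro h0
    apply ht
    have : (algebraMap L K) (D.ψ t) = 0 := h0
    exact (map_eq_zero_iff _ (algebraMap L K).injective).mp this
  set ψ : Localization.Away t →+* K := IsLocalization.Away.lift t hψ₀t with hψ
  have hψalg : ∀ y : D.S, ψ (algebraMap D.S (Localization.Away t) y) = ψ₀ y :=
    fun y => IsLocalization.Away.lift_eq t hψ₀t y
  refine ⟨D.S, inferInstance, inferInstance, inferInstance, inferInstance, t, ψ,
    fun i => algebraMap D.S (Localization.Away t) (a i.1) * IsLocalization.Away.invSelf t, ?_, ?_⟩
  · ext r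
    rw [RingHom.comp_apply, IsScalarTower.algebraMap_apply R₀ D.S (Localization.Away t), hψalg,
      hψ₀, RingHom.comp_apply]
    have h1 : (D.ψ : D.S →+* L) (algebraMap R₀ D.S r) = algebraMap R₀ L r := D.ψ.commutes r
    rw [h1]
    rfl
  · intro i
    have h1 := ha i.1 i.2
    have h2 : k i.1 = ⟨c i, hcL i⟩ := by
      rw [hk]
      simp only [i.2, dite_true]
    rw [h2] at h1
    have h3 : ψ₀ (a i.1) = c i * ψ₀ t := by
      rw [hψ₀, RingHom.comp_apply, RingHom.comp_apply]
      have := congrArg (algebraMap L K) h1
      rw [map_mul] at this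
      exact this
    have h4 : ψ (IsLocalization.Away.invSelf t) * ψ₀ t = 1 := by
      rw [← hψalg, ← map_mul, mul_comm, IsLocalization.Away.mul_invSelf, map_one]
    rw [map_mul, hψalg, h3, mul_assoc, mul_comm (ψ₀ t), h4, mul_one]

end Groth.Agent.Lib.helper9.QSec
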