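import Mathlib
import Groth.Agent.Lib.Helper9.QSec3
import Groth.Agent.Lib.Helper3.DimIneqSch

/-!
# Quasi-sections through a point (helper9), part 4: slicing data

`g : W ⟶ Y` with `Y` affine, `π : W ⟶ 𝔸ⁿ_Y` over `Y`, and `x : W` with `κ(x)` algebraic over
`κ(g x)`. Then there are a flat, quasi-finite, finitely presented `θ : T ⟶ Y`, a morphism
`σ : T ⟶ 𝔸ⁿ_Y` over `Y` and `β : Spec κ(x) ⟶ T` with `β ≫ σ = (Spec κ(x) ⟶ W) ≫ π`.
-/

set_option autoImplicit false
set_option linter.style.haveILetI false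
set_option backward.isDefEq.respectTransparency false

namespace Groth.Agent.Lib.helper9.QSec

open AlgebraicGeometry CategoryTheory Limits Polynomial
open Groth.Agent.Lib.helper3.DimIneq

universe u

lemma fromSpecResidueField_appTop (X : Scheme.{u}) (x : X) :
    (X.fromSpecResidueField x).appTop ≫ (Scheme.ΓSpecIso (X.residueField x)).hom =
      X.Γevaluation x := by
  have h1 : (Spec.map (X.residue x)).appTop ≫ (Scheme.ΓSpecIso (X.residueField x)).hom =
      (Scheme.ΓSpecIso (X.presheaf.stalk x)).hom ≫ X.residue x :=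
    Scheme.ΓSpecIso_naturality (X.residue x)
  have h2 : (X.fromSpecStalk x).appTop ≫ (Scheme.ΓSpecIso (X.presheaf.stalk x)).hom =
      X.presheaf.germ ⊤ x trivial := by
    rw [Scheme.fromSpecStalk_appTop]
    simp
  rw [Scheme.fromSpecResidueField, Scheme.Hom.comp_appTop, Category.assoc, h1, ← Category.assoc, h2]
  rfl

/-- A morphism from an affine spectrum to an affine scheme in terms of global sections. -/
lemma eq_SpecMap_comp_isoSpec_inv {Y : Scheme.{u}} [IsAffine Y] (K : CommRingCat.{u})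
    (a : Spec K ⟶ Y) :
    a = Spec.map (a.appTop ≫ (Scheme.ΓSpecIso K).hom) ≫ Y.isoSpec.inv := by
  rw [Spec.map_comp, Category.assoc, Scheme.isoSpec_inv_naturality, Scheme.isoSpec_Spec_inv,
    ← Category.assoc, ← Spec.map_comp, Iso.inv_hom_id, Spec.map_id, Category.id_comp]

/-- Algebraicity of the residue field extension in terms of polynomials over global sections. -/
theorem exists_polynomial_of_td_eq_zero {W Y : Scheme.{u}} [IsAffine Y] (g : W ⟶ Y) (x : W)
    (htd : td (g.residueFieldMap x).hom = 0) (c : W.residueField x) :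
    ∃ P : (Γ(Y, ⊤))[X], P.map ((Y.Γevaluation (g x) ≫ g.residueFieldMap x).hom) ≠ 0 ∧
      eval₂ ((Y.Γevaluation (g x) ≫ g.residueFieldMap x).hom) c P = 0 := by
  have hU := isAffineOpen_top Y
  set I : Ideal Γ(Y, ⊤) := (hU.primeIdealOf ⟨g x, trivial⟩).asIdeal with hI
  haveI : I.IsPrime := (hU.primeIdealOf ⟨g x, trivial⟩).isPrime
  set ε : Γ(Y, ⊤) ⧸ I →+* Y.residueField (g x) := evLift hU (g x) trivial I rfl with hε
  have hεinj : Function.Injective ε := evLift_injective hU (g x) trivial I rfl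
  have hεalg := evLift_isAlgebraic hU (g x) trivial I rfl
  set ρ : Y.residueField (g x) →+* W.residueField x := (g.residueFieldMap x).hom with hρ
  letI a1 : Algebra (Γ(Y, ⊤) ⧸ I) (Y.residueField (g x)) := ε.toAlgebra
  letI a2 : Algebra (Y.residueField (g x)) (W.residueField x) := ρ.toAlgebra
  letI a3 : Algebra (Γ(Y, ⊤) ⧸ I) (W.residueField x) := (ρ.comp ε).toAlgebra
  haveI : IsScalarTower (Γ(Y, ⊤) ⧸ I) (Y.residueField (g x)) (W.residueField x) :=
    IsScalarTower.of_algebraMap_eq (fun _ => rfl)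
  haveI h1 : Algebra.IsAlgebraic (Γ(Y, ⊤) ⧸ I) (Y.residueField (g x)) := hεalg
  haveI h2 : Algebra.IsAlgebraic (Y.residueField (g x)) (W.residueField x) :=
    _root_.trdeg_eq_zero_iff.mp htd
  haveI : IsDomain (Γ(Y, ⊤) ⧸ I) := Ideal.Quotient.isDomain I
  haveI h3 : Algebra.IsAlgebraic (Γ(Y, ⊤) ⧸ I) (W.residueField x) :=
    Algebra.IsAlgebraic.trans (Γ(Y, ⊤) ⧸ I) (Y.residueField (g x)) (W.residueField x)
  obtain ⟨Pbar, hPbar, hPc⟩ := h3.isAlgebraic c
  obtain ⟨P, rfl⟩ := Polynomial.map_surjective (Ideal.Quotient.mk I) Ideal.Quotient.mk_surjective Pbar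
  have hcomp : (Y.Γevaluation (g x) ≫ g.residueFieldMap x).hom = (ρ.comp ε).comp (Ideal.Quotient.mk I) := by
    ext r
    rfl
  refine ⟨P, ?_, ?_⟩
  · rw [hcomp, ← Polynomial.map_map]
    intro h0
    apply hPbar
    have hinj : Function.Injective (ρ.comp ε) := ρ.injective.comp hεinj
    exact Polynomial.map_injective _ hinj (h0.trans (Polynomial.map_zero _).symm)
  · rw [hcomp, ← Polynomial.eval₂_map]
    exact hPc

/-- **Slicing data.** -/
theorem exists_slice {W Y : Scheme.{u}} [IsAffine Y] (n : ℕ) (g : W ⟶ Y)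
    (π : W ⟶ 𝔸(ULift.{u} (Fin n); Y)) (hπ : π ≫ (𝔸(ULift.{u} (Fin n); Y) ↘ Y) = g) (x : W)
    (htd : td (g.residueFieldMap x).hom = 0) :
    ∃ (T : Scheme.{u}) (θ : T ⟶ Y) (σ : T ⟶ 𝔸(ULift.{u} (Fin n); Y))
      (β : Spec (W.residueField x) ⟶ T),
      Flat θ ∧ LocallyOfFinitePresentation θ ∧ LocallyQuasiFinite θ ∧
      σ ≫ (𝔸(ULift.{u} (Fin n); Y) ↘ Y) = θ ∧ β ≫ σ = W.fromSpecResidueField x ≫ π := by
  classical
  set K := W.residueField x with hK
  set ξ := W.fromSpecResidueField x with hξ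
  set φc : Γ(Y, ⊤) ⟶ K := (ξ ≫ g).appTop ≫ (Scheme.ΓSpecIso K).hom with hφc
  have hφc' : φc = Y.Γevaluation (g x) ≫ g.residueFieldMap x := by
    rw [Scheme.Γevaluation_naturality, ← fromSpecResidueField_appTop, hφc, Scheme.Hom.comp_appTop,
      Category.assoc]
  set c : Fin n → K := fun i =>
    (Scheme.ΓSpecIso K).hom ((ξ ≫ π).appTop (AffineSpace.coord Y (ULift.up i))) with hc
  obtain ⟨S, _, _, _, _, t, ψ, s, hψ, hs⟩ := exists_finite_free_cover φc.hom c (fun i => by
    rw [hφc']
    exact exists_polynomial_of_td_eq_zero g x htd (c i))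
  set St : CommRingCat.{u} := CommRingCat.of (Localization.Away t) with hSt
  set αc : Γ(Y, ⊤) ⟶ St := CommRingCat.ofHom (algebraMap Γ(Y, ⊤) (Localization.Away t)) with hαc
  set ψc : St ⟶ K := CommRingCat.ofHom ψ with hψc
  have hαψ : αc ≫ ψc = φc := by
    ext r
    exact congrArg (fun h : Γ(Y, ⊤) →+* K => h r) hψ
  set θ : Spec St ⟶ Y := Spec.map αc ≫ Y.isoSpec.inv with hθ
  set v : ULift.{u} (Fin n) → Γ(Spec St, ⊤) := fun i => (Scheme.ΓSpecIso St).inv (s i.down) with hv
  set σ := AffineSpace.homOfVector θ v with hσ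
  set β : Spec K ⟶ Spec St := Spec.map ψc with hβ
  have hflat : Module.Flat Γ(Y, ⊤) (Localization.Away t) :=
    Module.Flat.trans Γ(Y, ⊤) S (Localization.Away t)
  have hfp : Algebra.FinitePresentation Γ(Y, ⊤) (Localization.Away t) := by
    haveI : Module.FinitePresentation Γ(Y, ⊤) S := Module.finitePresentation_of_projective _ _
    haveI : Algebra.FinitePresentation Γ(Y, ⊤) S := inferInstance
    infer_instance
  have hqf : Algebra.QuasiFinite Γ(Y, ⊤) (Localization.Away t) := by
    haveI : Algebra.QuasiFinite Γ(Y, ⊤) S := inferInstance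
    haveI : Algebra.QuasiFinite S (Localization.Away t) := inferInstance
    exact Algebra.QuasiFinite.trans Γ(Y, ⊤) S (Localization.Away t)
  refine ⟨Spec St, θ, σ, β, ?_, ?_, ?_, AffineSpace.homOfVector_over θ v, ?_⟩
  · haveI : Flat (Spec.map αc) := by
      rw [HasRingHomProperty.Spec_iff (P := @Flat), hαc]
      exact RingHom.flat_algebraMap_iff.mpr hflat
    rw [hθ]; infer_instance
  · haveI : LocallyOfFinitePresentation (Spec.map αc) := by
      rw [HasRingHomProperty.Spec_iff (P := @LocallyOfFinitePresentation), hαc]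
      exact RingHom.finitePresentation_algebraMap.mpr hfp
    rw [hθ]; infer_instance
  · haveI : LocallyQuasiFinite (Spec.map αc) := by
      rw [HasRingHomProperty.Spec_iff (P := @LocallyQuasiFinite), hαc]
      exact RingHom.quasiFinite_algebraMap.mpr hqf
    rw [hθ]; infer_instance
  · apply AffineSpace.hom_ext
    · rw [Category.assoc, AffineSpace.homOfVector_over, Category.assoc, hπ,
        eq_SpecMap_comp_isoSpec_inv K (ξ ≫ g), ← hφc, ← hαψ, hθ, hβ, Spec.map_comp, Category.assoc]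
    · intro i
      rw [Scheme.Hom.comp_appTop, CommRingCat.comp_apply, AffineSpace.homOfVector_appTop_coord, hv]
      have h1 := Scheme.ΓSpecIso_inv_naturality ψc
      have h2 : (Spec.map ψc).appTop ((Scheme.ΓSpecIso St).inv (s i.down)) =
          (Scheme.ΓSpecIso K).inv (ψc (s i.down)) := by
        have := congrArg (fun h : St ⟶ Γ(Spec K, ⊤) => h (s i.down)) h1
        exact this.symm
      rw [hβ]
      refine h2.trans ?_
      have h3 : ψc (s i.down) = c i.down := hs i.down
      rw [h3, hc]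
      change (Scheme.ΓSpecIso K).inv ((Scheme.ΓSpecIso K).hom _) = _
      have h4 : ∀ z : Γ(Spec K, ⊤), (Scheme.ΓSpecIso K).inv ((Scheme.ΓSpecIso K).hom z) = z := by
        intro z
        rw [← CommRingCat.comp_apply, Iso.hom_inv_id]
        rfl
      rw [h4]

end Groth.Agent.Lib.helper9.QSec
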