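import Mathlib
import Groth.Agent.Lib.Helper9.QSec4

/-!
# helper9: the canonical map from a ring to the residue field of a point of its spectrum
-/

set_option autoImplicit false
set_option linter.style.haveILetI false
set_option backward.isDefEq.respectTransparency false

namespace Groth.Agent.Lib.helper9.NGeomDvr

open AlgebraicGeometry CategoryTheory Limits IsLocalRing

universe u

/-- The canonical map from a ring to the residue field of a point of its spectrum. -/
noncomputable def toResidueField (A : CommRingCat.{u}) (x : Spec A) :
    A ⟶ (Spec A).residueField x :=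
  (Scheme.ΓSpecIso A).inv ≫ (Spec A).Γevaluation x

lemma SpecMap_toResidueField (A : CommRingCat.{u}) (x : Spec A) :
    Spec.map (toResidueField A x) = (Spec A).fromSpecResidueField x := by
  rw [Groth.Agent.Lib.helper9.QSec.eq_SpecMap_comp_isoSpec_inv _
    ((Spec A).fromSpecResidueField x),
    Groth.Agent.Lib.helper9.QSec.fromSpecResidueField_appTop, Scheme.isoSpec_Spec_inv,
    ← Spec.map_comp]
  rfl

lemma toResidueField_eq_zero_iff (A : CommRingCat.{u}) (x : Spec A) (a : A) :
    toResidueField A x a = 0 ↔ a ∈ x.asIdeal := by
  show (Spec A).Γevaluation x ((Scheme.ΓSpecIso A).inv a) = 0 ↔ _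
  rw [Scheme.evaluation_eq_zero_iff_notMem_basicOpen, basicOpen_eq_of_affine]
  show ¬ (x ∈ (PrimeSpectrum.basicOpen a : Set (PrimeSpectrum A))) ↔ _
  rw [PrimeSpectrum.basicOpen_eq_zeroLocus_compl]
  simp only [Set.mem_compl_iff, not_not]
  exact (PrimeSpectrum.mem_zeroLocus x {a}).trans Set.singleton_subset_iff

lemma toResidueField_injective_of_eq_bot (A : CommRingCat.{u}) (x : Spec A)
    (hx : x.asIdeal = ⊥) : Function.Injective (toResidueField A x).hom := by
  rw [injective_iff_map_eq_zero]
  intro a ha
  have := (toResidueField_eq_zero_iff A x a).mp ha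
  rwa [hx, Ideal.mem_bot] at this

/-- For a maximal ideal, the canonical map to the residue field is surjective. -/
lemma toResidueField_surjective_of_isMaximal (A : CommRingCat.{u}) (x : Spec A)
    (hx : x.asIdeal.IsMaximal) : Function.Surjective (toResidueField A x).hom := by
  have h1 : Function.Surjective (algebraMap A x.asIdeal.ResidueField) :=
    Ideal.algebraMap_residueField_surjective x.asIdeal
  have h2 : Function.Surjective (Scheme.Spec.residueFieldIso A x).inv :=
    (ConcreteCategory.bijective_of_isIso _).surjective
  have key : toResidueField A x = CommRingCat.ofHom (algebraMap A x.asIdeal.ResidueField) ≫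
      (Scheme.Spec.residueFieldIso A x).inv := by
    apply Spec.map_injective
    rw [SpecMap_toResidueField, Spec.map_comp,
      Scheme.Spec.map_residueFieldIso_inv_eq_fromSpecResidueField]
  rw [key]
  exact h2.comp h1

end Groth.Agent.Lib.helper9.NGeomDvr
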