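import Mathlib
import Groth.Prelude.Def_MoreMor
import Groth.Agent.Lib.Helper9.NGeomDvr5

/-!
# helper9: the local ring of a specialization maps to the residue field of the generization
-/

set_option autoImplicit false
set_option linter.style.haveILetI false
set_option backward.isDefEq.respectTransparency false

namespace Groth.Agent.Lib.helper9.NGeomDvr

open AlgebraicGeometry CategoryTheory Limits IsLocalRing

universe u

variable {Y : Scheme.{u}} {y y' : Y} (hgen : y' ⤳ y)

/-- The canonical homomorphism `O_{Y,y} → κ(y')` for a generization `y'` of `y`. -/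
noncomputable def specResidue : Y.presheaf.stalk y ⟶ Y.residueField y' :=
  Y.presheaf.stalkSpecializes hgen ≫ Y.residue y'

lemma SpecMap_specResidue :
    Spec.map (specResidue hgen) ≫ Y.fromSpecStalk y = Y.fromSpecResidueField y' := by
  rw [specResidue, Spec.map_comp, Category.assoc, Scheme.SpecMap_stalkSpecializes_fromSpecStalk]
  rfl

lemma specResidue_frac (z : Y.residueField y') :
    ∃ a b : Y.presheaf.stalk y, (specResidue hgen).hom b ≠ 0 ∧
      z * (specResidue hgen).hom b = (specResidue hgen).hom a := by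
  obtain ⟨_, ⟨V, hV, rfl⟩, hyV, -⟩ :=
    Y.isBasis_affineOpens.exists_subset_of_mem_open (Set.mem_univ y) isOpen_univ
  have hy'V : y' ∈ V := hgen.mem_open V.2 hyV
  letI := TopCat.Presheaf.algebra_section_stalk Y.presheaf ⟨y', hy'V⟩
  haveI hloc := hV.isLocalization_stalk ⟨y', hy'V⟩
  obtain ⟨z', rfl⟩ : ∃ z' : Y.presheaf.stalk y', (Y.residue y').hom z' = z :=
    IsLocalRing.residue_surjective z
  obtain ⟨⟨c, d⟩, hcd⟩ := IsLocalization.surj (hV.primeIdealOf ⟨y', hy'V⟩).asIdeal.primeCompl z'
  have hgerm : ∀ r : Γ(Y, V), (specResidue hgen).hom (Y.presheaf.germ V y hyV r) =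
      (Y.residue y').hom (Y.presheaf.germ V y' hy'V r) := by
    intro r
    have h := TopCat.Presheaf.germ_stalkSpecializes Y.presheaf hyV hgen
    have h2 := congrArg (fun φ : Γ(Y, V) ⟶ Y.presheaf.stalk y' ↦ φ.hom r) h
    show (Y.residue y').hom ((Y.presheaf.stalkSpecializes hgen).hom
      ((Y.presheaf.germ V y hyV).hom r)) = _
    exact congrArg (Y.residue y').hom h2
  refine ⟨Y.presheaf.germ V y hyV c, Y.presheaf.germ V y hyV d.1, ?_, ?_⟩
  · rw [hgerm]
    have hu : IsUnit (Y.presheaf.germ V y' hy'V d.1) :=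
      IsLocalization.map_units (Y.presheaf.stalk y') d
    exact (IsLocalRing.residue_ne_zero_iff_isUnit _).mpr hu
  · rw [hgerm, hgerm, ← map_mul]
    exact congrArg (Y.residue y').hom hcd

lemma ker_specResidue_le :
    RingHom.ker (specResidue hgen).hom ≤ maximalIdeal (Y.presheaf.stalk y) := by
  intro a ha
  rw [RingHom.mem_ker] at ha
  rw [mem_maximalIdeal, mem_nonunits_iff]
  intro hu
  have := hu.map (specResidue hgen).hom
  rw [ha] at this
  exact not_isUnit_zero this

lemma exists_mem_maximalIdeal_specResidue_ne_zero (hne : y' ≠ y) :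
    ∃ t ∈ maximalIdeal (Y.presheaf.stalk y), (specResidue hgen).hom t ≠ 0 := by
  by_contra hcon
  push Not at hcon
  have hker : RingHom.ker (specResidue hgen).hom = maximalIdeal (Y.presheaf.stalk y) :=
    le_antisymm (ker_specResidue_le hgen) (fun t ht ↦ hcon t ht)
  apply hne
  let pt : Spec (Y.residueField y') := closedPoint _
  have h1 := congrArg (fun φ : Spec (Y.residueField y') ⟶ Y ↦ φ pt) (SpecMap_specResidue hgen)
  simp only [Scheme.Hom.comp_apply] at h1
  rw [Scheme.fromSpecResidueField_apply] at h1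
  rw [← h1]
  have h2 : Spec.map (specResidue hgen) pt = closedPoint (Y.presheaf.stalk y) := by
    apply PrimeSpectrum.ext
    show Ideal.comap (specResidue hgen).hom pt.asIdeal = maximalIdeal _
    have : pt.asIdeal = ⊥ := Ideal.eq_bot_of_prime pt.asIdeal
    rw [this, ← RingHom.ker_eq_comap_bot, hker]
  rw [h2]
  exact Scheme.fromSpecStalk_closedPoint

end Groth.Agent.Lib.helper9.NGeomDvr
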