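import Mathlib
import Groth.Agent.Lib.Helper9.NGeomDvr3
import Groth.Agent.Lib.Helper9.NGeomDvr5
import Groth.Agent.Lib.Helper9.NGeomDvr6

/-!
# helper9: a discrete valuation ring through a specialization, whose fraction field contains a
prescribed finite extension of the residue field of the generic point

`exists_dvr_with_extension`: `Y` locally Noetherian, `y' ⤳ y`, `y' ≠ y`, `N` a finite extension
of `κ(y')`. There are a discrete valuation ring `A` and `g : Spec A ⟶ Y` mapping the closed point
to `y`, such that the generic point `Spec Frac(A) ⟶ Spec A ⟶ Y` factors through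
`Spec N ⟶ Spec κ(y') ⟶ Y`.
-/

set_option autoImplicit false
set_option linter.style.haveILetI false
set_option backward.isDefEq.respectTransparency false

namespace Groth.Agent.Lib.helper9.GROpen

open AlgebraicGeometry CategoryTheory Limits IsLocalRing
open Groth.Agent.Lib.helper9.NGeomDvr

universe u

theorem exists_dvr_with_extension {Y : Scheme.{u}} [IsLocallyNoetherian Y] (y y' : Y)
    (hne : y' ≠ y) (hgen : y' ⤳ y) (N : Type u) [Field N] [Algebra (Y.residueField y') N]
    [FiniteDimensional (Y.residueField y') N] :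
    ∃ (A : Type u) (_ : CommRing A) (_ : IsDomain A) (_ : IsDiscreteValuationRing A)
      (g : Spec (CommRingCat.of A) ⟶ Y),
      g.base (IsLocalRing.closedPoint A) = y ∧
      ∃ ψ : N →+* (Spec (CommRingCat.of A)).residueField
          (⟨⊥, Ideal.isPrime_bot⟩ : PrimeSpectrum A),
        (Spec (CommRingCat.of A)).fromSpecResidueField
          (⟨⊥, Ideal.isPrime_bot⟩ : PrimeSpectrum A) ≫ g =
        Spec.map (CommRingCat.ofHom ψ) ≫
          Spec.map (CommRingCat.ofHom (algebraMap (Y.residueField y') N)) ≫
            Y.fromSpecResidueField y' := by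
  obtain ⟨t, htm, ht⟩ := exists_mem_maximalIdeal_specResidue_ne_zero hgen hne
  obtain ⟨A, _, _, _, φ, hφm, hac, hK⟩ :=
    exists_dvr_of_ringHom (Y.presheaf.stalk y) (maximalIdeal (Y.presheaf.stalk y))
      (Y.residueField y') (specResidue hgen).hom (specResidue_frac hgen) (ker_specResidue_le hgen)
      t htm ht N
  let g : Spec (CommRingCat.of A) ⟶ Y := Spec.map (CommRingCat.ofHom φ) ≫ Y.fromSpecStalk y
  have hclosed : g (closedPoint A) = y := by
    have h1 : Spec.map (CommRingCat.ofHom φ) (closedPoint A) =
        closedPoint (Y.presheaf.stalk y) := by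
      apply PrimeSpectrum.ext
      exact hφm
    show (Spec.map (CommRingCat.ofHom φ) ≫ Y.fromSpecStalk y) (closedPoint A) = y
    rw [Scheme.Hom.comp_apply, h1]
    exact Scheme.fromSpecStalk_closedPoint
  set η : Spec (CommRingCat.of A) := (⟨⊥, Ideal.isPrime_bot⟩ : PrimeSpectrum A) with hη
  have hj : Function.Injective (toResidueField (CommRingCat.of A) η).hom :=
    toResidueField_injective_of_eq_bot _ η rfl
  obtain ⟨ψ, hψ⟩ := hK ((Spec (CommRingCat.of A)).residueField η)
    (toResidueField (CommRingCat.of A) η).hom hj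
  refine ⟨A, inferInstance, inferInstance, inferInstance, g, hclosed, ψ, ?_⟩
  rw [← SpecMap_toResidueField, ← SpecMap_specResidue hgen]
  show Spec.map _ ≫ Spec.map (CommRingCat.ofHom φ) ≫ Y.fromSpecStalk y = _
  rw [← Category.assoc, ← Spec.map_comp, ← Category.assoc, ← Category.assoc, ← Spec.map_comp,
    ← Spec.map_comp]
  congr 2
  ext a
  exact (congrArg (fun h : Y.presheaf.stalk y →+* _ ↦ h a) hψ).symm

end Groth.Agent.Lib.helper9.GROpen
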