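import Mathlib
import Groth.Agent.Lib.Helper9.GROpen1
import Groth.Agent.Lib.Helper9.GRGen5
import Groth.Agent.Lib.Helper3.GeomRed3
import Groth.Agent.S0436

/-!
# helper9: for a proper flat morphism to a locally Noetherian scheme, the locus of points with
geometrically reduced fibre is stable under generization (EGA IV 12.2.4 (v), via S0436)
-/

set_option autoImplicit false
set_option linter.style.haveILetI false
set_option backward.isDefEq.respectTransparency false

namespace Groth.Agent.Lib.helper9.GROpen

open AlgebraicGeometry CategoryTheory Limits IsLocalRing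
open Groth.Agent.Lib.helper9.GRGen

universe u

theorem geometricallyReduced_fiber_of_specializes {X Y : Scheme.{u}} [IsLocallyNoetherian Y]
    (f : X ⟶ Y) [IsProper f] [Flat f] {y y' : Y} (hgen : y' ⤳ y)
    (hy : GeometricallyReduced (f.fiberToSpecResidueField y)) :
    GeometricallyReduced (f.fiberToSpecResidueField y') := by
  by_cases hne : y' = y
  · subst hne; exact hy
  apply Groth.Agent.Lib.helper3.GeomRed.geometricallyReduced_of_finite_purelyInseparable
    (k := Y.residueField y') (f.fiberToSpecResidueField y')
  intro N _ _ _ _
  let tN : Spec (CommRingCat.of N) ⟶ Y :=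
    Spec.map (CommRingCat.ofHom (algebraMap (Y.residueField y') N)) ≫ Y.fromSpecResidueField y'
  suffices h : AlgebraicGeometry.IsReduced (pullback f tN) by
    exact isReduced_of_isOpenImmersion (pullbackLeftPullbackSndIso f (Y.fromSpecResidueField y')
      (Spec.map (CommRingCat.ofHom (algebraMap (Y.residueField y') N)))).hom
  obtain ⟨A, _, _, _, g, hclosed, ψ, hψ⟩ := exists_dvr_with_extension y y' hne hgen N
  let F : pullback f g ⟶ Spec (CommRingCat.of A) := pullback.snd f g
  have hred : AlgebraicGeometry.IsReduced (F.fiber (closedPoint A)) := by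
    let c : Spec (CommRingCat.of A) := closedPoint A
    have h1 := (geometricallyReduced_fiber_iff f y).mp hy
      ((Spec (CommRingCat.of A)).residueField c)
      ((Spec (CommRingCat.of A)).fromSpecResidueField c ≫ g) (by
        have e := Scheme.fromSpecResidueField_apply (X := Spec (CommRingCat.of A)) c
          (IsLocalRing.closedPoint _)
        exact (congrArg g e).trans hclosed)
    exact isReduced_of_isOpenImmersion (pullbackLeftPullbackSndIso f g
      ((Spec (CommRingCat.of A)).fromSpecResidueField c)).hom
  obtain ⟨-, hgenred⟩ := Groth.Agent.S0436.result F hred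
  let η : Spec (CommRingCat.of A) := (⟨⊥, Ideal.isPrime_bot⟩ : PrimeSpectrum A)
  haveI : AlgebraicGeometry.IsReduced
      (pullback (pullback.snd f g) ((Spec (CommRingCat.of A)).fromSpecResidueField η)) := hgenred
  have h2 : AlgebraicGeometry.IsReduced
      (pullback f ((Spec (CommRingCat.of A)).fromSpecResidueField η ≫ g)) :=
    isReduced_of_isOpenImmersion (pullbackLeftPullbackSndIso f g
      ((Spec (CommRingCat.of A)).fromSpecResidueField η)).inv
  have hψ' : (Spec (CommRingCat.of A)).fromSpecResidueField η ≫ g =
      Spec.map (CommRingCat.ofHom ψ) ≫ tN := hψ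
  rw [hψ'] at h2
  haveI : AlgebraicGeometry.IsReduced (pullback f (Spec.map (CommRingCat.ofHom ψ) ≫ tN)) := h2
  have h3 : AlgebraicGeometry.IsReduced
      (pullback (pullback.snd f tN) (Spec.map (CommRingCat.ofHom ψ))) :=
    isReduced_of_isOpenImmersion (pullbackLeftPullbackSndIso f tN
      (Spec.map (CommRingCat.ofHom ψ))).hom
  exact isReduced_of_isReduced_pullback_field (pullback.snd f tN)
    (Spec.map (CommRingCat.ofHom ψ)) h3

end Groth.Agent.Lib.helper9.GROpen
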