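import Mathlib
import Groth.Agent.Lib.Helper9.GROpen2
import Groth.Agent.Lib.Helper9.FPModelFG
import Groth.Agent.Lib.Helper5.ProperDescend
import Groth.Agent.S2075

/-!
# helper9: openness of the locus of geometrically reduced fibres of a flat proper morphism of
finite presentation (EGA IV 12.2.4 (v))
-/

set_option autoImplicit false
set_option linter.style.haveILetI false
set_option backward.isDefEq.respectTransparency false

namespace Groth.Agent.Lib.helper9.GROpen

open AlgebraicGeometry CategoryTheory Limits IsLocalRing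
open Groth.Agent.Lib.helper9 Groth.Agent.Lib.helper9.GRGen Groth.Agent.Lib.helper9.FGLimitZ

universe u

/-- the Noetherian affine case -/
theorem isOpen_geometricallyReduced_of_isNoetherianRing (A : Type u) [CommRing A]
    [IsNoetherianRing A] {X : Scheme.{u}} (f : X ⟶ Spec (CommRingCat.of A)) [IsProper f] [Flat f]
    [LocallyOfFinitePresentation f] :
    IsOpen {y : ↑(Spec (CommRingCat.of A)) |
      GeometricallyReduced (f.fiberToSpecResidueField y)} := by
  have h1 := isLocallyConstructible_geometricallyReduced f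
  have h2 : Topology.IsConstructible {y : ↑(Spec (CommRingCat.of A)) |
      GeometricallyReduced (f.fiberToSpecResidueField y)} := h1.isConstructible
  refine PrimeSpectrum.isOpen_of_stableUnderGeneralization_of_isConstructible (R := A) ?_ h2
  intro y y' hgen hy
  exact geometricallyReduced_fiber_of_specializes f hgen hy

/-- a flat proper model over a finitely generated `ℤ`-subalgebra -/
theorem exists_flat_proper_model (A : Type u) [CommRing A] {X : Scheme.{u}}
    (f : X ⟶ Spec (CommRingCat.of A)) [Flat f] [IsProper f] [LocallyOfFinitePresentation f] :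
    ∃ A₀ : Subalgebra ℤ A, A₀.FG ∧
      ∃ (X₀ : Scheme.{u}) (f₀ : X₀ ⟶ Spec (CommRingCat.of ↥A₀)) (g : X ⟶ X₀),
        Flat f₀ ∧ IsProper f₀ ∧ LocallyOfFinitePresentation f₀ ∧
          IsPullback g f f₀ (Spec.map (CommRingCat.ofHom (algebraMap (↥A₀) A))) := by
  have hlim := isLimitSpecCone A
  let f' : X ⟶ (specCone A).pt := f
  have h1 : LocallyOfFinitePresentation f' := (inferInstance : LocallyOfFinitePresentation f)
  have h2 : QuasiCompact f' := (inferInstance : QuasiCompact f)
  have h3 : QuasiSeparated f' := (inferInstance : QuasiSeparated f)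
  have h4 : Flat f' := (inferInstance : Flat f)
  have h5 : IsProper f' := (inferInstance : IsProper f)
  obtain ⟨s, ⟨M⟩⟩ := FPModel.exists_model (D := specDiagram A) (c := specCone A) hlim f'
  haveI : CompactSpace M.X₀ := M.compactSpace_X₀
  haveI : QuasiSeparatedSpace ↥((specDiagram A).obj s) :=
    inferInstanceAs (QuasiSeparatedSpace ↥(Spec (CommRingCat.of (adj A s.unop))))
  haveI : QuasiSeparatedSpace M.X₀ := M.quasiSeparatedSpace_X₀
  -- flatness at a stage
  obtain ⟨i, φ, Xi, Yi, fi, gi, pY, pX, hY, hX, hfl⟩ :=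
    Groth.Agent.S2075.result (specDiagram A) (specCone A) hlim s M.f₀ (𝟙 _) f' (𝟙 _)
      ((specCone A).π.app s) M.g (IsPullback.id_vert ((specCone A).π.app s)) M.pb
  have h6 : Flat (stageMap ((specDiagram A).map φ) M.f₀ (𝟙 _)) :=
    (stageMap_iff_of_isPullback @Flat hY hX).mpr hfl
  have hY' : IsPullback ((specDiagram A).map φ) (𝟙 ((specDiagram A).obj i))
      (𝟙 ((specDiagram A).obj s)) ((specDiagram A).map φ) :=
    IsPullback.id_vert ((specDiagram A).map φ)
  have h7 : Flat (M.rebase φ).f₀ := (stageMap_iff_of_isPullback @Flat hY'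
    (IsPullback.of_hasPullback ((specDiagram A).map φ) M.f₀).flip).mp h6
  -- properness at a stage
  let M₁ := M.rebase φ
  haveI : CompactSpace M₁.X₀ := M₁.compactSpace_X₀
  haveI : QuasiSeparatedSpace ↥((specDiagram A).obj i) :=
    inferInstanceAs (QuasiSeparatedSpace ↥(Spec (CommRingCat.of (adj A i.unop))))
  haveI : QuasiSeparatedSpace M₁.X₀ := M₁.quasiSeparatedSpace_X₀
  obtain ⟨i₂, a₂, h₂⟩ := M₁.exists_rebase_of_descent @IsProper (fun h => by
    haveI := h
    exact Groth.Agent.Lib.helper5.ProperDescend.exists_isProper_stageMap (specDiagram A)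
      (specCone A) hlim i M₁.f₀ (𝟙 _)) h5
  let M₂ := M₁.rebase a₂
  have h8 : Flat M₂.f₀ := MorphismProperty.pullback_fst (P := @Flat) _ _ h7
  exact ⟨adj A i₂.unop, Subalgebra.fg_adjoin_finset _, M₂.X₀, M₂.f₀, M₂.g, h8, h₂, M₂.lfp, M₂.pb⟩

/-- the affine case -/
theorem isOpen_geometricallyReduced_of_spec (A : Type u) [CommRing A] {X : Scheme.{u}}
    (f : X ⟶ Spec (CommRingCat.of A)) [IsProper f] [Flat f] [LocallyOfFinitePresentation f] :
    IsOpen {y : ↑(Spec (CommRingCat.of A)) |
      GeometricallyReduced (f.fiberToSpecResidueField y)} := by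
  obtain ⟨A₀, hfg, X₀, f₀, g, hflat, hproper, hlfp, hpb⟩ := exists_flat_proper_model A f
  haveI : Algebra.FiniteType ℤ ↥A₀ := (Subalgebra.fg_iff_finiteType _).mp hfg
  haveI : IsNoetherianRing ↥A₀ := Algebra.FiniteType.isNoetherianRing ℤ ↥A₀
  have h0 := isOpen_geometricallyReduced_of_isNoetherianRing ↥A₀ f₀
  have heq : {y : ↑(Spec (CommRingCat.of A)) |
      GeometricallyReduced (f.fiberToSpecResidueField y)} =
      (Spec.map (CommRingCat.ofHom (algebraMap (↥A₀) A))).base ⁻¹'
        {y : ↑(Spec (CommRingCat.of ↥A₀)) |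
          GeometricallyReduced (f₀.fiberToSpecResidueField y)} := by
    ext y
    exact geometricallyReduced_fiber_iff_of_isPullback hpb y
  rw [heq]
  exact h0.preimage (Spec.map (CommRingCat.ofHom (algebraMap (↥A₀) A))).continuous

/-- **EGA IV 12.2.4 (v)**: openness of the locus of geometrically reduced fibres. -/
theorem isOpen_geometricallyReduced {X Y : Scheme.{u}} (f : X ⟶ Y) [Flat f] [IsProper f]
    [LocallyOfFinitePresentation f] :
    IsOpen {y : ↑Y | GeometricallyReduced (f.fiberToSpecResidueField y)} := by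
  rw [isOpen_iff_forall_mem_open]
  intro y hy
  obtain ⟨_, ⟨V', hV', rfl⟩, hyV', -⟩ :=
    Y.isBasis_affineOpens.exists_subset_of_mem_open (Set.mem_univ y) isOpen_univ
  obtain ⟨V, hV, hyV⟩ : ∃ V : Y.Opens, IsAffineOpen V ∧ y ∈ V := ⟨V', hV', hyV'⟩
  clear hyV' hV' V'
  let f' : ↑(f ⁻¹ᵁ V) ⟶ Spec (CommRingCat.of ↑Γ(Y, V)) := (f ∣_ V) ≫ hV.isoSpec.hom
  have h := isOpen_geometricallyReduced_of_spec ↑Γ(Y, V) f'
  have hiff : ∀ v : V, GeometricallyReduced (f'.fiberToSpecResidueField (hV.isoSpec.hom v)) ↔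
      GeometricallyReduced (f.fiberToSpecResidueField (V.ι v)) := by
    intro v
    have hsq : IsPullback (𝟙 _) (f ∣_ V) f' hV.isoSpec.hom :=
      IsPullback.of_horiz_isIso ⟨by simp [f']⟩
    exact (geometricallyReduced_fiber_iff_of_isPullback hsq v).symm.trans
      (geometricallyReduced_fiber_of_morphismRestrict f V v)
  refine ⟨V.ι '' (hV.isoSpec.hom.base ⁻¹' {y | GeometricallyReduced
    (f'.fiberToSpecResidueField y)}), ?_, ?_, ?_⟩
  · rintro _ ⟨v, hv, rfl⟩
    exact (hiff v).mp hv
  · exact V.ι.isOpenEmbedding.isOpenMap _ (h.preimage hV.isoSpec.hom.continuous)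
  · exact ⟨⟨y, hyV⟩, (hiff ⟨y, hyV⟩).mpr hy, rfl⟩

end Groth.Agent.Lib.helper9.GROpen
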