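/-
Helper library (helper9): Stein factorization without Noetherian hypotheses, part 1.

* `exists_geomConn_factor`: a proper morphism of finite presentation `f₁ : X₁ ⟶ Y` to an affine
  scheme factors as `X₁ ⟶ Y' ⟶ Y` with `Y' ⟶ Y` affine and `X₁ ⟶ Y'` geometrically connected
  (base change of the Stein factorization of a Noetherian model).
* `exists_geomConn_through`: if moreover `ι : X ⟶ X₁` is a morphism over `Y` and
  `Γ(Y, ⊤) ⟶ Γ(X, ⊤)` is an isomorphism, then `ι` factors through some `p₁ : P ⟶ X₁` with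
  `P ⟶ Y` geometrically connected (the section trick).
-/
import Mathlib
import Groth.Agent.Lib.Helper8.ZConn6
import Groth.Agent.Lib.Helper11.FibreVanQC2

set_option autoImplicit false
set_option linter.style.haveILetI false
set_option backward.isDefEq.respectTransparency false

universe u

open CategoryTheory CategoryTheory.Limits AlgebraicGeometry

namespace Groth.Agent.Lib.helper9.SteinGen

/-- A proper morphism of finite presentation to an affine scheme factors through an affine
morphism such that the first factor is geometrically connected. -/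
theorem exists_geomConn_factor {X₁ Y : Scheme.{u}} [IsAffine Y] (f₁ : X₁ ⟶ Y) [IsProper f₁]
    [LocallyOfFinitePresentation f₁] :
    ∃ (Y' : Scheme.{u}) (g : X₁ ⟶ Y') (π : Y' ⟶ Y), IsAffineHom π ∧ g ≫ π = f₁ ∧
      GeometricallyConnected g := by
  obtain ⟨S₀, X₀, hS₀, b, f₀, e, hf₀, sq⟩ :=
    Groth.Agent.Lib.helper11.FibreVanQC.exists_noetherian_proper_model₀ f₁
  haveI := hS₀
  haveI := hf₀
  haveI : GeometricallyConnected f₀.toNormalization :=
    Groth.Agent.Lib.helper8.ZConn.geometricallyConnected_toNormalization f₀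
  have hw : (e ≫ f₀.toNormalization) ≫ f₀.fromNormalization = f₁ ≫ b := by
    rw [Category.assoc, f₀.toNormalization_fromNormalization, sq.w]
  refine ⟨pullback f₀.fromNormalization b, pullback.lift (e ≫ f₀.toNormalization) f₁ hw,
    pullback.snd _ _, inferInstance, pullback.lift_snd _ _ _, ?_⟩
  have h1 : IsPullback (pullback.lift (e ≫ f₀.toNormalization) f₁ hw) e
      (pullback.fst f₀.fromNormalization b) f₀.toNormalization := by
    refine IsPullback.of_right ?_ (pullback.lift_fst _ _ _)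
      (IsPullback.of_hasPullback f₀.fromNormalization b).flip
    rw [pullback.lift_snd, f₀.toNormalization_fromNormalization]
    exact sq.flip
  exact MorphismProperty.of_isPullback h1.flip inferInstance

/-- The section trick. -/
theorem exists_geomConn_through {X X₁ Y : Scheme.{u}} [IsAffine Y] (f : X ⟶ Y)
    [IsIso f.appTop] (f₁ : X₁ ⟶ Y) [IsProper f₁] [LocallyOfFinitePresentation f₁] (ι : X ⟶ X₁)
    (hι : ι ≫ f₁ = f) :
    ∃ (P : Scheme.{u}) (p₁ : P ⟶ X₁) (p₂ : P ⟶ Y) (ι' : X ⟶ P),
      p₁ ≫ f₁ = p₂ ∧ ι' ≫ p₁ = ι ∧ GeometricallyConnected p₂ := by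
  obtain ⟨Y', g, π, hπ, hgπ, hg⟩ := exists_geomConn_factor f₁
  haveI : IsAffine Y' := isAffine_of_isAffineHom π
  obtain ⟨h, hh⟩ : ∃ h : X ⟶ Y', h = ι ≫ g := ⟨_, rfl⟩
  have hhπ : h ≫ π = f := by rw [hh, Category.assoc, hgπ, hι]
  obtain ⟨φ, hφ⟩ : ∃ φ : Γ(Y', ⊤) ⟶ Γ(Y, ⊤), φ = h.appTop ≫ inv f.appTop := ⟨_, rfl⟩
  have hφ1 : φ ≫ f.appTop = h.appTop := by
    rw [hφ, Category.assoc, IsIso.inv_hom_id, Category.comp_id]
  have hφ2 : π.appTop ≫ φ = 𝟙 _ := by
    rw [hφ, ← Category.assoc, ← Scheme.Hom.comp_appTop, hhπ, IsIso.hom_inv_id]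
  obtain ⟨s, hs⟩ : ∃ s : Y ⟶ Y', s = Y.toSpecΓ ≫ Spec.map φ ≫ inv Y'.toSpecΓ := ⟨_, rfl⟩
  have hs0 : s ≫ Y'.toSpecΓ = Y.toSpecΓ ≫ Spec.map φ := by
    rw [hs, Category.assoc, Category.assoc, IsIso.inv_hom_id, Category.comp_id]
  have hs1 : f ≫ s = h := by
    rw [← cancel_mono Y'.toSpecΓ, Category.assoc, hs0, Scheme.toSpecΓ_naturality_assoc,
      ← Spec.map_comp, hφ1, Scheme.toSpecΓ_naturality]
  have hs2 : s ≫ π = 𝟙 Y := by
    rw [← cancel_mono Y.toSpecΓ, Category.assoc, Scheme.toSpecΓ_naturality π,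
      reassoc_of% hs0, ← Spec.map_comp, hφ2, Spec.map_id, Category.comp_id, Category.id_comp]
  refine ⟨pullback g s, pullback.fst g s, pullback.snd g s,
    pullback.lift ι f (by rw [hs1, hh]), ?_, pullback.lift_fst _ _ _, inferInstance⟩
  rw [← hgπ, ← Category.assoc, pullback.condition, Category.assoc, hs2, Category.comp_id]

/-- A point in the range of a closed immersion lifts (as a point with values in its residue
field). -/
theorem exists_lift_fromSpecResidueField {A B : Scheme.{u}} (g : A ⟶ B) [IsClosedImmersion g]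
    (b : B) (hb : b ∈ Set.range g) :
    ∃ ψ : Spec (B.residueField b) ⟶ A, ψ ≫ g = B.fromSpecResidueField b := by
  obtain ⟨a, rfl⟩ := hb
  have hsurj : Function.Surjective (g.residueFieldMap a).hom := by
    intro x
    obtain ⟨y, rfl⟩ := A.residue_surjective a x
    obtain ⟨z, rfl⟩ := g.stalkMap_surjective a y
    refine ⟨B.residue (g a) z, ?_⟩
    exact congr($(Scheme.residue_residueFieldMap g a).hom z)
  haveI : IsIso (g.residueFieldMap a) := by
    rw [ConcreteCategory.isIso_iff_bijective]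
    exact ⟨(g.residueFieldMap a).hom.injective, hsurj⟩
  refine ⟨Spec.map (inv (g.residueFieldMap a)) ≫ A.fromSpecResidueField a, ?_⟩
  rw [Category.assoc, ← Scheme.Hom.SpecMap_residueFieldMap_fromSpecResidueField,
    ← Category.assoc, ← Spec.map_comp, IsIso.hom_inv_id, Spec.map_id, Category.id_comp]

end Groth.Agent.Lib.helper9.SteinGen
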