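/-
Helper library (helper9): Stein factorization without Noetherian hypotheses, part 2.

A directed inverse system `D` of schemes of finite type over `Y` with closed immersions as
transition maps, with limit `c`; `σ : Spec K ⟶ Y` a field-valued point.  Then for some index `i`
the closed immersion `c.pt ×_Y Spec K ⟶ D_i ×_Y Spec K` is surjective
(`exists_surjective_pullbackMap`).
-/
import Mathlib
import Groth.Agent.Lib.Helper9.AbsApprox26
import Groth.Agent.Lib.Helper9.SteinGen1

set_option autoImplicit false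
set_option linter.style.haveILetI false
set_option backward.isDefEq.respectTransparency false

universe u

open CategoryTheory CategoryTheory.Limits AlgebraicGeometry Opposite

namespace Groth.Agent.Lib.helper9.SteinGen

open Groth.Agent.Lib.helper9.AbsApprox

/-- naturality of a natural transformation to a constant functor -/
lemma natTrans_const_comp {J : Type u} [Category J] {Y : Scheme.{u}} (D : J ⥤ Scheme.{u})
    (t : D ⟶ (Functor.const J).obj Y) {i j : J} (a : i ⟶ j) : D.map a ≫ t.app j = t.app i := by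
  have := t.naturality a
  rw [Functor.const_obj_map] at this
  exact this.trans (Category.comp_id _)

/-- the map induced on fibre products over a fixed `σ` -/
noncomputable abbrev bcMap {A B Y T : Scheme.{u}} (u : A ⟶ Y) (v : B ⟶ Y) (σ : T ⟶ Y) (k : A ⟶ B)
    (hk : k ≫ v = u) : pullback u σ ⟶ pullback v σ :=
  pullback.map u σ v σ k (𝟙 _) (𝟙 _) (by rw [Category.comp_id, hk]) (by simp)

lemma isPullback_bcMap {A B Y T : Scheme.{u}} (u : A ⟶ Y) (v : B ⟶ Y) (σ : T ⟶ Y) (k : A ⟶ B)
    (hk : k ≫ v = u) :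
    IsPullback (bcMap u v σ k hk) (pullback.fst u σ) (pullback.fst v σ) k := by
  refine IsPullback.of_right ?_ (pullback.lift_fst _ _ _) (IsPullback.of_hasPullback v σ).flip
  have h1 : bcMap u v σ k hk ≫ pullback.snd v σ = pullback.snd u σ := by
    simp [bcMap]
  rw [h1, hk]
  exact (IsPullback.of_hasPullback u σ).flip

lemma isClosedImmersion_bcMap {A B Y T : Scheme.{u}} (u : A ⟶ Y) (v : B ⟶ Y) (σ : T ⟶ Y)
    (k : A ⟶ B) (hk : k ≫ v = u) [IsClosedImmersion k] : IsClosedImmersion (bcMap u v σ k hk) :=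
  MorphismProperty.of_isPullback (isPullback_bcMap u v σ k hk).flip inferInstance

lemma bcMap_comp {A B C Y T : Scheme.{u}} (u : A ⟶ Y) (v : B ⟶ Y) (w : C ⟶ Y) (σ : T ⟶ Y)
    (k : A ⟶ B) (hk : k ≫ v = u) (l : B ⟶ C) (hl : l ≫ w = v) :
    bcMap u v σ k hk ≫ bcMap v w σ l hl =
      bcMap u w σ (k ≫ l) (by rw [Category.assoc, hl, hk]) := by
  apply pullback.hom_ext <;> simp [bcMap]

section Limit

variable {I : Type u} [Preorder I] [IsDirected I (· ≤ ·)] {Y : Scheme.{u}}
  (D : Iᵒᵖ ⥤ Scheme.{u}) (t : D ⟶ (Functor.const Iᵒᵖ).obj Y)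
  {K : Type u} [Field K] (σ : Spec (CommRingCat.of K) ⟶ Y)

/-- transition maps of the base-changed system -/
noncomputable abbrev mm {i j : I} (h : i ≤ j) :
    pullback (t.app (op j)) σ ⟶ pullback (t.app (op i)) σ :=
  bcMap (t.app (op j)) (t.app (op i)) σ (D.map (homOfLE h).op) (natTrans_const_comp D t _)

omit [IsDirected I (· ≤ ·)] in
lemma mm_trans {i j k : I} (h₁ : i ≤ j) (h₂ : j ≤ k) :
    mm D t σ h₂ ≫ mm D t σ h₁ = mm D t σ (h₁.trans h₂) := by
  rw [mm, mm, bcMap_comp]
  congr 1
  rw [← D.map_comp]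
  rfl

/-- the map from the base change of the limit -/
noncomputable abbrev mInf (c : Cone D) (i : I) :
    pullback (c.π.app (op i) ≫ t.app (op i)) σ ⟶ pullback (t.app (op i)) σ :=
  bcMap (c.π.app (op i) ≫ t.app (op i)) (t.app (op i)) σ (c.π.app (op i)) rfl

theorem exists_surjective_mInf [Nonempty I] (c : Cone D) (hc : IsLimit c)
    (h2 : ∀ i, LocallyOfFiniteType (t.app i) ∧ QuasiCompact (t.app i))
    (h3 : ∀ (i j : Iᵒᵖ) (a : i ⟶ j), IsClosedImmersion (D.map a)) :
    ∃ i : I, Function.Surjective (mInf D t σ c i) := by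
  classical
  obtain ⟨i₀⟩ := ‹Nonempty I›
  haveI : ∀ {i j : I} (h : i ≤ j), IsClosedImmersion (mm D t σ h) := fun h => by
    haveI := h3 _ _ (homOfLE h).op
    exact isClosedImmersion_bcMap _ _ _ _ _
  -- the base change of `D i₀` is a Noetherian space
  haveI : TopologicalSpace.NoetherianSpace ↥(pullback (t.app (op i₀)) σ) := by
    haveI := (h2 (op i₀)).1
    haveI := (h2 (op i₀)).2
    haveI : IsLocallyNoetherian (pullback (t.app (op i₀)) σ) :=
      LocallyOfFiniteType.isLocallyNoetherian (pullback.snd (t.app (op i₀)) σ)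
    haveI : CompactSpace ↥(pullback (t.app (op i₀)) σ) :=
      QuasiCompact.compactSpace_of_compactSpace (pullback.snd (t.app (op i₀)) σ)
    haveI : IsNoetherian (pullback (t.app (op i₀)) σ) := {}
    infer_instance
  -- the closed images
  let C : Ge i₀ → TopologicalSpace.Closeds ↥(pullback (t.app (op i₀)) σ) := fun j =>
    ⟨Set.range (mm D t σ j.2), (mm D t σ j.2).isClosedEmbedding.isClosed_range⟩
  obtain ⟨_, ⟨j₁, rfl⟩, hmin⟩ := wellFounded_lt.has_min (Set.range C) ⟨_, ⟨⟨i₀, le_rfl⟩, rfl⟩⟩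
  refine ⟨j₁.1, ?_⟩
  intro w
  -- `w` lies in the image of every later stage
  have hw : ∀ k : Ge j₁.1, w ∈ Set.range (mm D t σ k.2) := by
    intro k
    have hle : C ⟨k.1, j₁.2.trans k.2⟩ ≤ C j₁ := by
      rintro _ ⟨x, rfl⟩
      refine ⟨mm D t σ k.2 x, ?_⟩
      rw [← Scheme.Hom.comp_apply, mm_trans]
    have heq : C ⟨k.1, j₁.2.trans k.2⟩ = C j₁ :=
      eq_of_le_of_not_lt hle (hmin _ ⟨_, rfl⟩)
    have h1 : mm D t σ j₁.2 w ∈ (C j₁ : Set _) := ⟨w, rfl⟩
    rw [← heq] at h1
    obtain ⟨x, hx⟩ := h1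
    refine ⟨x, ?_⟩
    apply (mm D t σ j₁.2).isClosedEmbedding.injective
    rw [← hx, ← Scheme.Hom.comp_apply, mm_trans]
  -- lift the residue field point to all later stages
  have hψ : ∀ k : Ge j₁.1, ∃ ψ : Spec ((pullback (t.app (op j₁.1)) σ).residueField w) ⟶
      pullback (t.app (op k.1)) σ,
      ψ ≫ mm D t σ k.2 = (pullback (t.app (op j₁.1)) σ).fromSpecResidueField w :=
    fun k => exists_lift_fromSpecResidueField (mm D t σ k.2) w (hw k)
  choose ψ hψ using hψ
  have hψ_comp : ∀ (k k' : Ge j₁.1) (h : k'.1 ≤ k.1), ψ k ≫ mm D t σ h = ψ k' := by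
    intro k k' h
    rw [← cancel_mono (mm D t σ k'.2), Category.assoc, mm_trans, hψ, hψ]
  -- the cone
  let s : Cone ((geIncl j₁.1).op ⋙ D) :=
    { pt := Spec ((pullback (t.app (op j₁.1)) σ).residueField w)
      π :=
        { app := fun k => ψ k.unop ≫ pullback.fst (t.app (op k.unop.1)) σ
          naturality := fun k k' a => by
            have hle : k'.unop.1 ≤ k.unop.1 := a.unop.le
            have h1 : ((geIncl j₁.1).op ⋙ D).map a = D.map (homOfLE hle).op := by
              show D.map _ = D.map _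
              congr 1
            simp only [Functor.const_obj_obj, Functor.const_obj_map, Category.id_comp]
            rw [h1, ← hψ_comp k.unop k'.unop hle, Category.assoc, Category.assoc]
            congr 1
            simp [mm, bcMap] } }
  let l := (isLimitWhiskerGe j₁.1 c hc).lift s
  have hl : ∀ k : Ge j₁.1, l ≫ c.π.app (op k.1) = ψ k ≫ pullback.fst (t.app (op k.1)) σ :=
    fun k => (isLimitWhiskerGe j₁.1 c hc).fac s (op k)
  -- at the stage `j₁`
  have hψ₁ : ψ ⟨j₁.1, le_rfl⟩ = (pullback (t.app (op j₁.1)) σ).fromSpecResidueField w := by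
    have h1 := hψ ⟨j₁.1, le_rfl⟩
    have h2 : mm D t σ (le_refl j₁.1) = 𝟙 _ := by
      apply pullback.hom_ext
      · have : D.map (homOfLE (le_refl j₁.1)).op = 𝟙 _ := by
          rw [← D.map_id]
          rfl
        simp [mm, bcMap]
      · simp [mm, bcMap]
    rwa [h2, Category.comp_id] at h1
  have hl₁ := hl ⟨j₁.1, le_rfl⟩
  rw [hψ₁] at hl₁
  let q : Spec ((pullback (t.app (op j₁.1)) σ).residueField w) ⟶
      pullback (c.π.app (op j₁.1) ≫ t.app (op j₁.1)) σ :=
    pullback.lift l ((pullback (t.app (op j₁.1)) σ).fromSpecResidueField w ≫ pullback.snd _ _)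
      (by rw [reassoc_of% hl₁, Category.assoc, pullback.condition])
  have hq : q ≫ mInf D t σ c j₁.1 = (pullback (t.app (op j₁.1)) σ).fromSpecResidueField w := by
    apply pullback.hom_ext
    · simp only [mInf, bcMap, q, Category.assoc, pullback.lift_fst, pullback.lift_fst_assoc]
      exact hl₁
    · simp only [mInf, bcMap, q, Category.assoc, pullback.lift_snd,
        Category.comp_id]
  refine ⟨q (default : Spec _), ?_⟩
  rw [← Scheme.Hom.comp_apply, hq, Scheme.fromSpecResidueField_apply]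

end Limit

end Groth.Agent.Lib.helper9.SteinGen
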