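/-
Helper library (helper9): Stein factorization without Noetherian hypotheses, part 3.

* `connectedSpace_pullback_of_isAffine`: `f : X ⟶ Y` proper, `Y` affine, `Γ(Y) ≅ Γ(X)`: all
  field-valued fibres of `f` are connected.
* `geometricallyConnected_of_isIso_app`: **Zariski's connectedness theorem without Noetherian
  hypotheses**: a proper morphism `f` with `O_Y ≅ f_* O_X` is geometrically connected.
* `geometricallyConnected_toNormalization`: the first factor of the Stein factorization of a
  proper morphism is geometrically connected.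
-/
import Mathlib
import Groth.Agent.Lib.Helper9.AbsApprox32
import Groth.Agent.Lib.Helper9.SteinGen2
import Groth.Agent.Lib.Lead.SteinUC

set_option autoImplicit false
set_option linter.style.haveILetI false
set_option backward.isDefEq.respectTransparency false

universe u

open CategoryTheory CategoryTheory.Limits AlgebraicGeometry Opposite

namespace Groth.Agent.Lib.helper9.SteinGen

open Groth.Agent.Lib.helper9.AbsApprox

theorem connectedSpace_pullback_of_isAffine {X Y : Scheme.{u}} [IsAffine Y] (f : X ⟶ Y)
    [IsProper f] [IsIso f.appTop] {K : Type u} [Field K] (σ : Spec (CommRingCat.of K) ⟶ Y) :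
    ConnectedSpace ↥(pullback f σ) := by
  obtain ⟨I, hI1, hI2, hI3, D, t, c, hc, e, h1, h2, h3, h4⟩ := exists_proper_approx f
  obtain ⟨i, hi⟩ := exists_surjective_mInf D t σ c hc
    (fun i => by haveI := (h2 i).1; exact ⟨inferInstance, inferInstance⟩) h3
  have hf' : c.π.app (op i) ≫ t.app (op i) = e.hom ≫ f := h1 (op i)
  haveI : IsIso (c.π.app (op i) ≫ t.app (op i)).appTop := by
    rw [hf', Scheme.Hom.comp_appTop]
    infer_instance
  haveI := (h2 (op i)).1
  haveI := (h2 (op i)).2
  obtain ⟨P, p₁, p₂, ι', hp, hι', hgc⟩ := exists_geomConn_through (Y := Y)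
    (c.π.app (op i) ≫ t.app (op i)) (t.app (op i)) (c.π.app (op i)) rfl
  haveI : ConnectedSpace ↥(pullback p₂ σ) :=
    pullback_of_geometrically hgc.geometrically_connectedSpace K σ
  have hι'' : ι' ≫ p₂ = c.π.app (op i) ≫ t.app (op i) := by
    rw [← hp, reassoc_of% hι']
  have hfac : bcMap (c.π.app (op i) ≫ t.app (op i)) p₂ σ ι' hι'' ≫
      bcMap p₂ (t.app (op i)) σ p₁ hp = mInf D t σ c i := by
    rw [bcMap_comp]
    apply pullback.hom_ext <;> simp [bcMap, mInf, hι']
  have hsurj2 : Function.Surjective (bcMap p₂ (t.app (op i)) σ p₁ hp) := by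
    intro w
    obtain ⟨x, hx⟩ := hi w
    refine ⟨bcMap (c.π.app (op i) ≫ t.app (op i)) p₂ σ ι' hι'' x, ?_⟩
    rw [← Scheme.Hom.comp_apply, hfac, hx]
  haveI : ConnectedSpace ↥(pullback (t.app (op i)) σ) :=
    hsurj2.connectedSpace (bcMap p₂ (t.app (op i)) σ p₁ hp).continuous
  haveI := h4 (op i)
  haveI : IsClosedImmersion (mInf D t σ c i) := isClosedImmersion_bcMap _ _ _ _ _
  let hom := (mInf D t σ c i).isClosedEmbedding.toIsEmbedding.toHomeomorphOfSurjective hi
  have hconn : ConnectedSpace ↥(pullback (c.π.app (op i) ≫ t.app (op i)) σ) :=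
    hom.symm.surjective.connectedSpace hom.symm.continuous
  rw [hf'] at hconn
  haveI : IsIso (bcMap (e.hom ≫ f) f σ e.hom rfl) :=
    (isPullback_bcMap (e.hom ≫ f) f σ e.hom rfl).isIso_fst_of_isIso
  exact (Scheme.homeoOfIso (asIso (bcMap (e.hom ≫ f) f σ e.hom rfl))).surjective.connectedSpace
    (Scheme.homeoOfIso (asIso (bcMap (e.hom ≫ f) f σ e.hom rfl))).continuous

instance : IsZariskiLocalAtTarget @GeometricallyConnected :=
  GeometricallyConnected.eq_geometrically ▸ inferInstance

/-- **Zariski's connectedness theorem without Noetherian hypotheses.** -/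
theorem geometricallyConnected_of_isIso_app {X Y : Scheme.{u}} (f : X ⟶ Y) [IsProper f]
    (hf : ∀ U : Y.Opens, IsIso (f.app U)) : GeometricallyConnected f := by
  rw [IsZariskiLocalAtTarget.iff_of_iSup_eq_top (P := @GeometricallyConnected) _
    (iSup_affineOpens_eq_top Y)]
  intro U
  haveI : IsAffine U.1.toScheme := U.2
  haveI : IsProper (f ∣_ U.1) :=
    MorphismProperty.of_isPullback (isPullback_morphismRestrict f U.1).flip inferInstance
  haveI : IsIso (f ∣_ U.1).appTop := by
    rw [Groth.Agent.Lib.Lead.SteinUC.restrict_appTop_eq]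
    haveI := hf U.1
    infer_instance
  rw [geometricallyConnected_iff, geometrically_iff_of_isClosedUnderIsomorphisms]
  intro K _ σ
  exact connectedSpace_pullback_of_isAffine (f ∣_ U.1) σ

/-- **Stein factorization**: the first factor is geometrically connected. -/
theorem geometricallyConnected_toNormalization {X S : Scheme.{u}} (f : X ⟶ S) [IsProper f] :
    GeometricallyConnected f.toNormalization := by
  haveI := Groth.Agent.Lib.helper8.ZConn.isProper_toNormalization f
  exact geometricallyConnected_of_isIso_app f.toNormalization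
    (Groth.Agent.Lib.Lead.SteinUC.isIso_toNormalization_app f)

end Groth.Agent.Lib.helper9.SteinGen
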