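/-
Helper library (helper9): Stein factorization without Noetherian hypotheses, part 4.

`exists_pow_evaluation_eq`: let `g : X ⟶ S` be proper and `x` a point of `X` such that the fibre
of `g` through `x` is geometrically connected.  Then every function `a` on the preimage of an
open neighbourhood of `g x` has a `q^n`-th power whose value at `x` comes from `κ(g x)`
(`q` the characteristic exponent).
-/
import Mathlib
import Groth.Agent.S7856

set_option autoImplicit false
set_option linter.style.haveILetI false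
set_option backward.isDefEq.respectTransparency false

universe u

open CategoryTheory CategoryTheory.Limits AlgebraicGeometry Opposite

namespace Groth.Agent.Lib.helper9.SteinGen

/-- evaluating a section through the canonical `κ(x)`-valued point -/
theorem fromSpecResidueField_appLE_ΓSpecIso {X : Scheme.{u}} (x : X) (V : X.Opens) (hx : x ∈ V)
    (hle : (⊤ : (Spec (X.residueField x)).Opens) ≤ (X.fromSpecResidueField x) ⁻¹ᵁ V) :
    (X.fromSpecResidueField x).appLE V ⊤ hle ≫ (Scheme.ΓSpecIso (X.residueField x)).hom =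
      X.evaluation V x hx := by
  have h1 : (X.fromSpecResidueField x).appLE V ⊤ hle =
      (X.fromSpecStalk x).app V ≫ (Spec.map (X.residue x)).appLE
        ((X.fromSpecStalk x) ⁻¹ᵁ V) ⊤ hle := by
    simp only [Scheme.fromSpecResidueField]
    rw [Scheme.Hom.app_eq_appLE, Scheme.Hom.appLE_comp_appLE]
  rw [h1, Scheme.fromSpecStalk_app hx, Category.assoc, Category.assoc, Category.assoc,
    Scheme.Hom.map_appLE_assoc]
  have h2 : (Spec.map (X.residue x)).appLE ⊤ ⊤ (by simp) = (Spec.map (X.residue x)).appTop := by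
    rw [Scheme.Hom.appTop, Scheme.Hom.app_eq_appLE]
    rfl
  rw [h2, Scheme.ΓSpecIso_naturality, Iso.inv_hom_id_assoc]
  rfl

theorem exists_pow_evaluation_eq {X S : Scheme.{u}} (g : X ⟶ S) [IsProper g] (x : X)
    (hx : GeometricallyConnected (g.fiberToSpecResidueField (g x))) (U : S.Opens)
    (hU : g x ∈ U) (a : Γ(X, g ⁻¹ᵁ U)) :
    ∃ (n : ℕ) (c : S.residueField (g x)),
      (X.evaluation (g ⁻¹ᵁ U) x hU a) ^ (ringExpChar (S.residueField (g x)) ^ n) =
        (g.residueFieldMap x).hom c := by
  haveI : IsProper (g.fiberToSpecResidueField (g x)) :=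
    inferInstanceAs (IsProper (pullback.snd g (S.fromSpecResidueField (g x))))
  obtain ⟨-, -, hpow⟩ := (Groth.Agent.S7856.result (S.residueField (g x))
    (g.fiberToSpecResidueField (g x))).mp hx
  -- the `κ(x)`-valued point of the fibre
  let xy : Spec (X.residueField x) ⟶ g.fiber (g x) :=
    pullback.lift (X.fromSpecResidueField x) (Spec.map (g.residueFieldMap x))
      (Scheme.Hom.SpecMap_residueFieldMap_fromSpecResidueField g x).symm
  have hxy1 : xy ≫ g.fiberι (g x) = X.fromSpecResidueField x := pullback.lift_fst _ _ _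
  have hxy2 : xy ≫ g.fiberToSpecResidueField (g x) = Spec.map (g.residueFieldMap x) :=
    pullback.lift_snd _ _ _
  -- the restriction of `a` to the fibre
  have hle : (⊤ : (g.fiber (g x)).Opens) ≤ (g.fiberι (g x)) ⁻¹ᵁ (g ⁻¹ᵁ U) := by
    intro z _
    show g (g.fiberι (g x) z) ∈ U
    have hc : g.fiberι (g x) ≫ g =
        g.fiberToSpecResidueField (g x) ≫ S.fromSpecResidueField (g x) := pullback.condition
    have h1 : g (g.fiberι (g x) z) =
        S.fromSpecResidueField (g x) (g.fiberToSpecResidueField (g x) z) := by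
      rw [← Scheme.Hom.comp_apply, hc, Scheme.Hom.comp_apply]
    rw [h1, Scheme.fromSpecResidueField_apply]
    exact hU
  obtain ⟨n, c, hnil⟩ := hpow ((g.fiberι (g x)).appLE (g ⁻¹ᵁ U) ⊤ hle a)
  refine ⟨n, c, ?_⟩
  -- evaluate at the `κ(x)`-point
  let ρ : Γ(g.fiber (g x), ⊤) →+* X.residueField x :=
    (Scheme.ΓSpecIso (X.residueField x)).hom.hom.comp xy.appTop.hom
  have hρ0 := hnil.map ρ
  rw [isNilpotent_iff_eq_zero, map_sub, map_pow, sub_eq_zero] at hρ0
  have hle' : (⊤ : (Spec (X.residueField x)).Opens) ≤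
      (X.fromSpecResidueField x) ⁻¹ᵁ (g ⁻¹ᵁ U) := by
    intro z _
    show g (X.fromSpecResidueField x z) ∈ U
    rw [Scheme.fromSpecResidueField_apply]
    exact hU
  have hρ1 : ρ ((g.fiberι (g x)).appLE (g ⁻¹ᵁ U) ⊤ hle a) = X.evaluation (g ⁻¹ᵁ U) x hU a := by
    have h1 : (g.fiberι (g x)).appLE (g ⁻¹ᵁ U) ⊤ hle ≫ xy.appTop =
        (X.fromSpecResidueField x).appLE (g ⁻¹ᵁ U) ⊤ hle' := by
      rw [Scheme.Hom.appTop, Scheme.Hom.app_eq_appLE, Scheme.Hom.appLE_comp_appLE]
      congr 1
    have h2 := fromSpecResidueField_appLE_ΓSpecIso x (g ⁻¹ᵁ U) hU hle'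
    rw [← h1, Category.assoc] at h2
    exact congr($(h2).hom a)
  have hρ2 : ρ ((g.fiberToSpecResidueField (g x)).appTop.hom
      ((Scheme.ΓSpecIso (CommRingCat.of (S.residueField (g x)))).inv.hom c)) =
      (g.residueFieldMap x).hom c := by
    have h1 : (g.fiberToSpecResidueField (g x)).appTop ≫ xy.appTop =
        (Spec.map (g.residueFieldMap x)).appTop := by
      rw [← Scheme.Hom.comp_appTop, hxy2]
    have h2 : (Scheme.ΓSpecIso (S.residueField (g x))).inv ≫
        (Spec.map (g.residueFieldMap x)).appTop ≫ (Scheme.ΓSpecIso (X.residueField x)).hom =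
        g.residueFieldMap x := by
      rw [Scheme.ΓSpecIso_naturality, Iso.inv_hom_id_assoc]
    rw [← h1, Category.assoc] at h2
    exact congr($(h2).hom c)
  rw [hρ1] at hρ0
  exact hρ0.trans hρ2

end Groth.Agent.Lib.helper9.SteinGen
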