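/-
Helper library (helper9): Stein factorization without Noetherian hypotheses, part 9.

`isIso_app_of_normal`: `f : X ⟶ S` proper, `S` integral and normal, `X` reduced with all generic
points over the generic point `η` of `S`, and `κ(η) ≅ Γ(X_η, O)`: then `O_S ≅ f_* O_X`.
-/
import Mathlib
import Groth.Prelude.Def_Pi1
import Groth.Agent.Lib.Helper9.SteinGen4
import Groth.Agent.Lib.Helper13.Normal1
import Groth.Agent.Lib.Lead.SteinUC

set_option autoImplicit false
set_option linter.style.haveILetI false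
set_option backward.isDefEq.respectTransparency false

universe u

open CategoryTheory CategoryTheory.Limits AlgebraicGeometry Opposite

namespace Groth.Agent.Lib.helper9.SteinGen

lemma appLE_congr_hom {A B : Scheme.{u}} {φ ψ : A ⟶ B} (e : φ = ψ) (U : B.Opens) (V : A.Opens)
    (h1 : V ≤ φ ⁻¹ᵁ U) (h2 : V ≤ ψ ⁻¹ᵁ U) : φ.appLE U V h1 = ψ.appLE U V h2 := by
  subst e
  rfl

/-- the fibre over `y` maps to `y` -/
lemma fiberι_mem {X S : Scheme.{u}} (f : X ⟶ S) (y : S) (U : S.Opens) (hU : y ∈ U) :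
    (⊤ : (f.fiber y).Opens) ≤ (f.fiberι y) ⁻¹ᵁ (f ⁻¹ᵁ U) := by
  intro z _
  show f (f.fiberι y z) ∈ U
  have hc : f.fiberι y ≫ f = f.fiberToSpecResidueField y ≫ S.fromSpecResidueField y :=
    pullback.condition
  have h1 : f (f.fiberι y z) = S.fromSpecResidueField y (f.fiberToSpecResidueField y z) := by
    rw [← Scheme.Hom.comp_apply, hc, Scheme.Hom.comp_apply]
  rw [h1, Scheme.fromSpecResidueField_apply]
  exact hU

/-- a function vanishing on the fibre through `x` vanishes at `x` -/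
theorem evaluation_eq_zero_of_fiber {X S : Scheme.{u}} (f : X ⟶ S) (x : X) (y : S) (hxy : f x = y)
    (U : S.Opens) (hU : y ∈ U) (c : Γ(X, f ⁻¹ᵁ U))
    (hc : (f.fiberι y).appLE (f ⁻¹ᵁ U) ⊤ (fiberι_mem f y U hU) c = 0) :
    X.evaluation (f ⁻¹ᵁ U) x (show f x ∈ U from hxy ▸ hU) c = 0 := by
  subst hxy
  let xy : Spec (X.residueField x) ⟶ f.fiber (f x) :=
    pullback.lift (X.fromSpecResidueField x) (Spec.map (f.residueFieldMap x))
      (Scheme.Hom.SpecMap_residueFieldMap_fromSpecResidueField f x).symm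
  have hxy1 : xy ≫ f.fiberι (f x) = X.fromSpecResidueField x := pullback.lift_fst _ _ _
  have hle' : (⊤ : (Spec (X.residueField x)).Opens) ≤
      (X.fromSpecResidueField x) ⁻¹ᵁ (f ⁻¹ᵁ U) := by
    intro z _
    show f (X.fromSpecResidueField x z) ∈ U
    rw [Scheme.fromSpecResidueField_apply]
    exact hU
  have h1 : (f.fiberι (f x)).appLE (f ⁻¹ᵁ U) ⊤ (fiberι_mem f (f x) U hU) ≫ xy.appTop =
      (X.fromSpecResidueField x).appLE (f ⁻¹ᵁ U) ⊤ hle' := by
    rw [Scheme.Hom.appTop, Scheme.Hom.app_eq_appLE, Scheme.Hom.appLE_comp_appLE]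
    exact appLE_congr_hom hxy1 _ _ _ _
  have h2 := fromSpecResidueField_appLE_ΓSpecIso x (f ⁻¹ᵁ U) hU hle'
  rw [← h1, Category.assoc] at h2
  have h3 := congr($(h2).hom c)
  rw [← h3]
  show (xy.appTop ≫ (Scheme.ΓSpecIso (X.residueField x)).hom).hom
    (((f.fiberι (f x)).appLE (f ⁻¹ᵁ U) ⊤ (fiberι_mem f (f x) U hU)).hom c) = 0
  rw [hc, map_zero]

/-- compatibility of the restriction to the fibre with the structure maps -/
theorem app_comp_fiberι_appLE {X S : Scheme.{u}} (f : X ⟶ S) (y : S) (U : S.Opens) (hU : y ∈ U) :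
    f.app U ≫ (f.fiberι y).appLE (f ⁻¹ᵁ U) ⊤ (fiberι_mem f y U hU) =
      S.evaluation U y hU ≫ (Scheme.ΓSpecIso (S.residueField y)).inv ≫
        (f.fiberToSpecResidueField y).appTop := by
  have hc : f.fiberι y ≫ f = f.fiberToSpecResidueField y ≫ S.fromSpecResidueField y :=
    pullback.condition
  have hle' : (⊤ : (Spec (S.residueField y)).Opens) ≤ (S.fromSpecResidueField y) ⁻¹ᵁ U := by
    intro z _
    show S.fromSpecResidueField y z ∈ U
    rw [Scheme.fromSpecResidueField_apply]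
    exact hU
  have h1 : (S.fromSpecResidueField y).appLE U ⊤ hle' =
      S.evaluation U y hU ≫ (Scheme.ΓSpecIso (S.residueField y)).inv := by
    rw [← fromSpecResidueField_appLE_ΓSpecIso y U hU hle', Category.assoc, Iso.hom_inv_id,
      Category.comp_id]
  rw [Scheme.Hom.app_eq_appLE, Scheme.Hom.appLE_comp_appLE,
    appLE_congr_hom hc U ⊤ _ (show (⊤ : (f.fiber y).Opens) ≤
      (f.fiberToSpecResidueField y ≫ S.fromSpecResidueField y) ⁻¹ᵁ U from fun z _ => by
        show S.fromSpecResidueField y (f.fiberToSpecResidueField y z) ∈ U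
        rw [Scheme.fromSpecResidueField_apply]
        exact hU),
    ← Category.assoc, ← h1, Scheme.Hom.appTop, Scheme.Hom.app_eq_appLE,
    Scheme.Hom.appLE_comp_appLE]
  rfl

end Groth.Agent.Lib.helper9.SteinGen
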