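/-
Helper library (helper9): Stein factorization without Noetherian hypotheses, part 10.

`isIso_app_of_normal`: `f : X ⟶ S` proper, `S` integral and normal, `X` reduced with all generic
points over the generic point `η` of `S`, and `κ(η) ≅ Γ(X_η, O)`: then `O_S ≅ f_* O_X`; hence
`f` is geometrically connected (`geometricallyConnected_of_normal`).
-/
import Mathlib
import Groth.Agent.Lib.Helper9.SteinGen3
import Groth.Agent.Lib.Helper9.SteinGen9

set_option autoImplicit false
set_option linter.style.haveILetI false
set_option backward.isDefEq.respectTransparency false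

universe u

open CategoryTheory CategoryTheory.Limits AlgebraicGeometry Opposite

namespace Groth.Agent.Lib.helper9.SteinGen

/-- sections of a normal integral scheme over a nonempty affine open are integrally closed -/
theorem isIntegrallyClosed_of_isNormalScheme {S : Scheme.{u}} [IsIntegral S]
    (hS : Pi1.IsNormalScheme S) (U : S.Opens) (hU : IsAffineOpen U) [Nonempty U] :
    IsIntegrallyClosed Γ(S, U) := by
  have h := (Groth.Agent.Lib.helper13.Normal.iff_affineOpens S).mp hS U hU
  exact IsIntegrallyClosed.of_localization_maximal fun p _ _ => (h p).2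

section

variable {X S : Scheme.{u}} (f : X ⟶ S) [IsProper f] [IsIntegral S]
  (hS : Pi1.IsNormalScheme S) [IsReduced X]
  (hgen : ∀ Z ∈ irreducibleComponents ↑X, ∀ x : X, IsGenericPoint x Z → f x = genericPoint ↑S)
  (h0 : Function.Bijective ((f.fiberToSpecResidueField (genericPoint ↑S)).appTop).hom)

include h0 in
theorem exists_apply_eq_genericPoint : ∃ x₀ : X, f x₀ = genericPoint S := by
  by_contra hne
  push Not at hne
  have hempty : IsEmpty ↥(f.fiber (genericPoint S)) := by
    constructor
    intro z
    have : f.fiberι (genericPoint S) z ∈ Set.range (f.fiberι (genericPoint S)) := ⟨z, rfl⟩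
    rw [f.range_fiberι] at this
    exact hne _ this
  have htop : (⊤ : (f.fiber (genericPoint S)).Opens) = ⊥ := by
    ext z
    exact (hempty.false z).elim
  haveI : Subsingleton Γ(f.fiber (genericPoint S), ⊤) := by
    rw [htop]
    infer_instance
  haveI : Subsingleton Γ(Spec (S.residueField (genericPoint S)), ⊤) := h0.1.subsingleton
  haveI : Subsingleton (S.residueField (genericPoint S)) :=
    (Scheme.ΓSpecIso (S.residueField (genericPoint S))).commRingCatIsoToRingEquiv.symm.injective.subsingleton
  exact not_subsingleton (S.residueField (genericPoint S)) inferInstance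

include h0 in
theorem app_injective_of_normal (U : S.Opens) : Function.Injective (f.app U).hom := by
  obtain ⟨x₀, hx₀⟩ := exists_apply_eq_genericPoint f h0
  rw [injective_iff_map_eq_zero]
  intro a ha
  rw [← basicOpen_eq_bot_iff]
  by_contra hne
  have hne' : ((S.basicOpen a : S.Opens) : Set S).Nonempty := by
    rw [Set.nonempty_iff_ne_empty]
    intro h
    exact hne (TopologicalSpace.Opens.ext h)
  have hη : genericPoint S ∈ S.basicOpen a :=
    ((genericPoint_spec S).mem_open_set_iff (S.basicOpen a).isOpen).mpr (by simpa using hne')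
  have hηU : genericPoint S ∈ U := S.basicOpen_le a hη
  have hx₀U : f x₀ ∈ U := hx₀ ▸ hηU
  have h1 := Scheme.evaluation_naturality_apply f x₀ hx₀U a
  rw [ha, map_zero] at h1
  have h2 : (S.evaluation U (f x₀) hx₀U) a = 0 :=
    (f.residueFieldMap x₀).hom.injective (by rw [h1, map_zero])
  rw [Scheme.evaluation_eq_zero_iff_notMem_basicOpen] at h2
  exact h2 (hx₀ ▸ hη)

include hS hgen h0 in
theorem app_surjective_of_normal (U : S.Opens) (hU : IsAffineOpen U)
    (hηU : genericPoint S ∈ U) : Function.Surjective (f.app U).hom := by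
  haveI : Nonempty U := ⟨⟨_, hηU⟩⟩
  intro b
  obtain ⟨P, hPm, hP⟩ := Groth.Agent.Lib.Lead.SteinUC.isIntegral_app f U hU b
  set η := genericPoint S with hη
  let r : Γ(X, f ⁻¹ᵁ U) →+* Γ(f.fiber η, ⊤) :=
    ((f.fiberι η).appLE (f ⁻¹ᵁ U) ⊤ (fiberι_mem f η U hηU)).hom
  let e : S.residueField η →+* Γ(f.fiber η, ⊤) :=
    (f.fiberToSpecResidueField η).appTop.hom.comp (Scheme.ΓSpecIso (S.residueField η)).inv.hom
  have he : Function.Bijective e :=
    h0.comp (Scheme.ΓSpecIso (S.residueField η)).commRingCatIsoToRingEquiv.symm.bijective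
  let ev : Γ(S, U) →+* S.residueField η := (S.evaluation U η hηU).hom
  have hcompat : r.comp (f.app U).hom = e.comp ev :=
    congrArg CommRingCat.Hom.hom (app_comp_fiberι_appLE f η U hηU)
  obtain ⟨k, hk⟩ := he.2 (r b)
  have hk0 : Polynomial.eval₂ ev k P = 0 := by
    apply he.1
    rw [map_zero, Polynomial.hom_eval₂, hk, ← hcompat, ← Polynomial.hom_eval₂, hP, map_zero]
  -- pass to the function field
  obtain ⟨k', rfl⟩ := S.residue_surjective η k
  have hres : Function.Injective (S.residue η).hom :=
    RingHom.injective ((S.residue η).hom : S.functionField →+* S.residueField η)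
  have hev : ∀ a : Γ(S, U), ev a = (S.residue η).hom (algebraMap Γ(S, U) S.functionField a) :=
    fun a => rfl
  have hk0' : Polynomial.eval₂ (algebraMap Γ(S, U) S.functionField) k' P = 0 := by
    apply hres
    rw [map_zero, Polynomial.hom_eval₂]
    exact hk0
  haveI := functionField_isFractionRing_of_isAffineOpen S U hU
  haveI := isIntegrallyClosed_of_isNormalScheme hS U hU
  obtain ⟨a, ha⟩ := IsIntegrallyClosed.isIntegral_iff.mp
    (⟨P, hPm, hk0'⟩ : IsIntegral Γ(S, U) k')
  refine ⟨a, ?_⟩
  -- the difference vanishes on the generic fibre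
  have hrc : r (b - (f.app U).hom a) = 0 := by
    rw [map_sub, sub_eq_zero, ← hk]
    have : r ((f.app U).hom a) = (r.comp (f.app U).hom) a := rfl
    rw [this, hcompat]
    show e ((S.residue η).hom k') = e (ev a)
    rw [hev, ha]
  have hzero : b - (f.app U).hom a = 0 := by
    rw [← basicOpen_eq_bot_iff]
    by_contra hne
    have hne' : ((X.basicOpen (b - (f.app U).hom a) : X.Opens) : Set X).Nonempty := by
      rw [Set.nonempty_iff_ne_empty]
      intro h
      exact hne (TopologicalSpace.Opens.ext h)
    obtain ⟨x', hx'⟩ := hne'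
    have hirr : IsIrreducible (irreducibleComponent x') := isIrreducible_irreducibleComponent
    have hζ := hirr.isGenericPoint_genericPoint isClosed_irreducibleComponent
    set ζ := hirr.genericPoint with hζdef
    have hspec : ζ ⤳ x' := hζ.specializes mem_irreducibleComponent
    have hζmem : ζ ∈ X.basicOpen (b - (f.app U).hom a) :=
      hspec.mem_open (X.basicOpen _).isOpen hx'
    have hfζ : f ζ = η := hgen _ (irreducibleComponent_mem_irreducibleComponents x') ζ hζ
    have hev0 := evaluation_eq_zero_of_fiber f ζ η hfζ U hηU (b - (f.app U).hom a) hrc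
    rw [Scheme.evaluation_eq_zero_iff_notMem_basicOpen] at hev0
    exact hev0 hζmem
  exact (sub_eq_zero.mp hzero).symm

include hS hgen h0 in
theorem isIso_app_of_normal (V : S.Opens) : IsIso (f.app V) := by
  refine Groth.Agent.Lib.Lead.SteinUC.isIso_app_of_locally_surjective f
    (app_injective_of_normal f h0) ?_ V
  intro U x hx
  obtain ⟨_, ⟨B, hB, rfl⟩, hxB, hBU⟩ :=
    S.isBasis_affineOpens.exists_subset_of_mem_open hx U.isOpen
  refine ⟨B, hxB, hBU, ?_⟩
  have hηB : genericPoint S ∈ B :=
    ((genericPoint_spec S).mem_open_set_iff B.isOpen).mpr ⟨x, Set.mem_univ _, hxB⟩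
  exact app_surjective_of_normal f hS hgen h0 B hB hηB

include hS hgen h0 in
theorem geometricallyConnected_of_normal : GeometricallyConnected f :=
  geometricallyConnected_of_isIso_app f (isIso_app_of_normal f hS hgen h0)

end

end Groth.Agent.Lib.helper9.SteinGen
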