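import Mathlib
import Groth.Prelude.Def_Hensel
import Groth.Prelude.Def_EssEt
import Groth.Agent.Lib.Helper24.HenselEss
import Groth.Agent.Lib.Helper24.HensStage
import Groth.Agent.Lib.Helper17.FFMin

/-!
# Strict henselizations and essentially étale algebras; minimal primes of stages (helper9)

* `isStrictHenselization_of_essEtale`: a strict henselization of an essentially étale local
  `A`-algebra `A'` is a strict henselization of `A`.
* `exists_sidx_le_encard`: finitely many minimal primes of the strict henselization are already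
  separated at a finite stage.
-/

set_option autoImplicit false
set_option linter.style.haveILetI false
set_option backward.isDefEq.respectTransparency false

universe u

namespace Groth.Agent.Lib.helper9.GeomBranchCount

open IsLocalRing

section StrictEss

open Hensel in
/-- A strict henselization of an essentially étale local algebra `A'` of `A` is a strict
henselization of `A`. -/
theorem isStrictHenselization_of_essEtale (A A' R : Type u) [CommRing A] [IsLocalRing A]
    [CommRing A'] [IsLocalRing A'] [Algebra A A'] [IsLocalHom (algebraMap A A')]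
    (hA' : EGA4loc.IsEssentiallyEtale A A')
    [CommRing R] [IsLocalRing R] [Algebra A' R] [IsLocalHom (algebraMap A' R)]
    [IsStrictHenselization A' R] :
    letI : Algebra A R := ((algebraMap A' R).comp (algebraMap A A')).toAlgebra
    ∃ (_ : IsLocalHom (algebraMap A R)), IsStrictHenselization A R := by
  letI : Algebra A R := ((algebraMap A' R).comp (algebraMap A A')).toAlgebra
  haveI : IsScalarTower A A' R := IsScalarTower.of_algebraMap_eq (fun _ => rfl)
  have hloc : IsLocalHom (algebraMap A R) := by
    show IsLocalHom ((algebraMap A' R).comp (algebraMap A A'))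
    infer_instance
  refine ⟨hloc, ?_⟩
  -- separability of the residue field extension of `A → A'`
  have hsepAA' : Algebra.IsSeparable (ResidueField A) (ResidueField A') := by
    obtain ⟨C, _, _, q, _, hC, hq, ⟨e⟩⟩ := hA'
    have : Algebra.Etale A C := hC
    have h1 : Algebra.FormallyUnramified C (Localization.AtPrime q) :=
      Algebra.FormallyUnramified.of_isLocalization q.primeCompl
    have h2 : Algebra.FormallyUnramified A (Localization.AtPrime q) :=
      Algebra.FormallyUnramified.comp A C _
    have h3 : Algebra.EssFiniteType C (Localization.AtPrime q) :=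
      Algebra.EssFiniteType.of_isLocalization _ q.primeCompl
    have h4 : Algebra.EssFiniteType A (Localization.AtPrime q) :=
      Algebra.EssFiniteType.comp A C _
    have h5 : Algebra.FormallyUnramified A A' := Algebra.FormallyUnramified.of_equiv e.symm
    have h6 : Algebra.EssFiniteType A A' := (Algebra.EssFiniteType.iff_of_algEquiv e).2 h4
    infer_instance
  have hsc : IsSepClosure (ResidueField A') (ResidueField R) :=
    IsStrictHenselization.isSepClosure (R := A') (S := R)
  have hsepcl : IsSepClosed (ResidueField R) := hsc.sep_closed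
  have hsepA'R : Algebra.IsSeparable (ResidueField A') (ResidueField R) := hsc.separable
  have hsepAR : Algebra.IsSeparable (ResidueField A) (ResidueField R) :=
    Algebra.IsSeparable.trans (ResidueField A) (ResidueField A') (ResidueField R)
  refine
    { henselian := IsStrictHenselization.henselian (R := A') (S := R)
      isSepClosure := ⟨hsepcl, hsepAR⟩
      universal := ?_ }
  intro T _ _ f _ τ hτ
  -- the induced map on the residue field of `A'`
  let α : ResidueField A' →+* ResidueField T := τ.comp (ResidueField.map (algebraMap A' R))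
  have hmapcomp : (ResidueField.map (algebraMap A' R)).comp (ResidueField.map (algebraMap A A')) =
      ResidueField.map (algebraMap A R) := by
    ext x
    obtain ⟨a, rfl⟩ := residue_surjective x
    simp only [RingHom.comp_apply, ResidueField.map_residue]
    rfl
  have hα : α.comp (ResidueField.map (algebraMap A A')) = ResidueField.map f := by
    show (τ.comp (ResidueField.map (algebraMap A' R))).comp
      (ResidueField.map (algebraMap A A')) = _
    rw [RingHom.comp_assoc, hmapcomp, hτ]
  obtain ⟨ψ', ⟨hψ'loc, hψ', hψ'res⟩, hψ'uniq⟩ :=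
    Groth.Agent.Lib.helper24.HenselEss.existsUnique_lift_essEtale A A' hA' T f α hα
  haveI : IsLocalHom ψ' := hψ'loc
  have hτ' : τ.comp (ResidueField.map (algebraMap A' R)) = ResidueField.map ψ' := by
    ext x
    obtain ⟨a, rfl⟩ := residue_surjective x
    rw [ResidueField.map_residue, hψ'res]
  obtain ⟨g, ⟨hg1, hg2⟩, hguniq⟩ :=
    IsStrictHenselization.universal (R := A') (S := R) T ψ' τ hτ'
  refine ⟨g, ⟨?_, hg2⟩, ?_⟩
  · show g.comp ((algebraMap A' R).comp (algebraMap A A')) = f
    rw [← RingHom.comp_assoc, hg1, hψ']
  · rintro g₂ ⟨hg₂1, hg₂2⟩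
    have hres₂ : ∀ x : A', residue T ((g₂.comp (algebraMap A' R)) x) = α (residue A' x) := by
      intro x
      show residue T (g₂ (algebraMap A' R x)) = τ (ResidueField.map (algebraMap A' R) (residue A' x))
      rw [hg₂2, ResidueField.map_residue]
    have hloc₂ : IsLocalHom (g₂.comp (algebraMap A' R)) := by
      constructor
      intro a ha
      by_contra hna
      have h1 : residue A' a = 0 := (residue_eq_zero_iff a).2 ((mem_maximalIdeal a).2 hna)
      have h2 : residue T ((g₂.comp (algebraMap A' R)) a) = 0 := by rw [hres₂, h1, map_zero]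
      rw [residue_eq_zero_iff, mem_maximalIdeal, mem_nonunits_iff] at h2
      exact h2 ha
    have h3 : g₂.comp (algebraMap A' R) = ψ' := by
      apply hψ'uniq
      refine ⟨hloc₂, ?_, hres₂⟩
      rw [RingHom.comp_assoc]
      exact hg₂1
    exact hguniq g₂ ⟨h3, hg₂2⟩

end StrictEss

section Stage

open Groth.Agent.Lib.Helper24.StrictHens Groth.Agent.Lib.Helper24.StrictHens.SIdx
  Groth.Agent.Lib.Helper24.HensStage

variable {A : Type u} [CommRing A] [IsLocalRing A] {Ω : Type u} [Field Ω] [Algebra A Ω]
  [Algebra (ResidueField A) Ω] [IsScalarTower A (ResidueField A) Ω]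

theorem exists_ofS_finset (F : Finset (SHens A Ω)) :
    ∃ k : SIdx A Ω, ∀ z ∈ F, ∃ y : k.G, ofS k y = z := by
  classical
  induction F using Finset.induction_on with
  | empty => exact ⟨Classical.arbitrary _, fun z hz => absurd hz (Finset.notMem_empty z)⟩
  | insert a s ha ih =>
    obtain ⟨k, hk⟩ := ih
    obtain ⟨j, y, hy⟩ := exists_ofS a
    obtain ⟨m, hkm, hjm⟩ := exists_ge_ge k j
    refine ⟨m, ?_⟩
    intro z hz
    rcases Finset.mem_insert.1 hz with rfl | hz
    · exact ⟨tr j m hjm y, by rw [ofS_tr, hy]⟩
    · obtain ⟨y', hy'⟩ := hk z hz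
      exact ⟨tr k m hkm y', by rw [ofS_tr, hy']⟩

/-- Finitely many minimal primes of the strict henselization are already separated at a finite
stage. -/
theorem exists_sidx_le_encard [IsSepClosure (ResidueField A) Ω] (j : ℕ)
    (hj : (j : ℕ∞) ≤ (minimalPrimes (SHens A Ω)).encard) :
    ∃ i : SIdx A Ω, (j : ℕ∞) ≤ (minimalPrimes i.G).encard := by
  classical
  obtain ⟨t, ht, htj⟩ := Set.exists_subset_encard_eq hj
  have htfin : t.Finite := Set.finite_of_encard_eq_coe htj
  have hsep : ∀ Q ∈ t, ∀ Q' ∈ t, Q ≠ Q' → ∃ f : SHens A Ω, f ∈ Q ∧ f ∉ Q' := by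
    intro Q hQ Q' hQ' hne
    by_contra hcon
    push Not at hcon
    have hle : Q ≤ Q' := fun f hf => hcon f hf
    have hQm := ht hQ
    have hQ'm := ht hQ'
    exact hne (le_antisymm hle (hQ'm.2 ⟨hQm.1.1, bot_le⟩ hle))
  choose! f hf using hsep
  let F : Finset (SHens A Ω) :=
    (htfin.toFinset ×ˢ htfin.toFinset).image (fun p => f p.1 p.2)
  obtain ⟨k, hk⟩ := exists_ofS_finset F
  refine ⟨k, ?_⟩
  letI : Algebra k.G (SHens A Ω) := stageAlgebra k
  haveI : Module.FaithfullyFlat k.G (SHens A Ω) := faithfullyFlat_stage k
  have hmaps := Groth.Agent.Lib.helper17.FFMin.mapsTo_minimalPrimes_of_flat k.G (SHens A Ω)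
  have hinj : Set.InjOn (Ideal.comap (algebraMap k.G (SHens A Ω))) t := by
    intro Q hQ Q' hQ' heq
    by_contra hne
    obtain ⟨h1, h2⟩ := hf Q hQ Q' hQ' hne
    have hmem : f Q Q' ∈ F := by
      refine Finset.mem_image.2 ⟨(Q, Q'), ?_, rfl⟩
      exact Finset.mem_product.2 ⟨htfin.mem_toFinset.2 hQ, htfin.mem_toFinset.2 hQ'⟩
    obtain ⟨y, hy⟩ := hk _ hmem
    have h3 : y ∈ Ideal.comap (algebraMap k.G (SHens A Ω)) Q := by
      rw [Ideal.mem_comap]
      show ofS k y ∈ Q
      rw [hy]; exact h1
    rw [heq, Ideal.mem_comap] at h3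
    apply h2
    have : algebraMap k.G (SHens A Ω) y = ofS k y := rfl
    rw [this, hy] at h3
    exact h3
  calc (j : ℕ∞) = t.encard := htj.symm
    _ = (Ideal.comap (algebraMap k.G (SHens A Ω)) '' t).encard := hinj.encard_image.symm
    _ ≤ (minimalPrimes k.G).encard := by
        apply Set.encard_le_encard
        rintro _ ⟨Q, hQ, rfl⟩
        exact hmaps (ht hQ)

end Stage

end Groth.Agent.Lib.helper9.GeomBranchCount
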