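import Mathlib
import Groth.Agent.Lib.Helper9.PurityFree

/-!
# Purity for finite flat algebras: unramified in codimension one implies unramified (helper9)
-/

namespace Groth.Agent.Lib.helper9.PurityFlat

open Groth.Agent.Lib.helper9.PurityGlue

universe u

/-- The support over `B` of a `B`-module maps into the support over `R`. -/
theorem comap_mem_support {R B M : Type*} [CommRing R] [CommRing B] [Algebra R B]
    [AddCommGroup M] [Module R M] [Module B M] [IsScalarTower R B M]
    (q : PrimeSpectrum B) (hq : q ∈ Module.support B M) :
    PrimeSpectrum.comap (algebraMap R B) q ∈ Module.support R M := by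
  rw [Module.mem_support_iff'] at hq ⊢
  obtain ⟨m, hm⟩ := hq
  refine ⟨m, fun r hr => ?_⟩
  rw [← algebraMap_smul B r m]
  exact hm _ hr

/-- Let `R` be a noetherian ring and `B` a finite flat `R`-algebra which is unramified over a
neighbourhood of every prime of height at most one. Then `B` is unramified over `R`. -/
theorem formallyUnramified_of_codim_two {R B : Type u} [CommRing R] [CommRing B] [Algebra R B]
    [IsNoetherianRing R] [Module.Finite R B] [Module.Flat R B]
    (H : ∀ p : Ideal R, p.IsPrime → p.height ≤ 1 → ∃ s : R, s ∉ p ∧
      Algebra.FormallyUnramified R (Localization.Away (algebraMap R B s))) :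
    Algebra.FormallyUnramified R B := by
  classical
  by_contra hnot
  have hfinB : Module.Finite B Ω[B⁄R] := inferInstance
  have hfinR : Module.Finite R Ω[B⁄R] := Module.Finite.trans B _
  have hI : Module.annihilator R Ω[B⁄R] ≠ ⊤ := by
    intro h
    apply hnot
    rw [Algebra.formallyUnramified_iff]
    exact Module.annihilator_eq_top_iff.mp h
  obtain ⟨⟨p, hp⟩⟩ := Ideal.nonempty_minimalPrimes hI
  have hpp : p.IsPrime := hp.1.1
  have hIp : Module.annihilator R Ω[B⁄R] ≤ p := hp.1.2
  have hpsupp : (⟨p, hpp⟩ : PrimeSpectrum R) ∈ Module.support R Ω[B⁄R] :=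
    Module.mem_support_iff_of_finite.mpr hIp
  -- Step 1: the height of `p` is at least two
  have hht : ¬ p.height ≤ 1 := by
    intro hle
    obtain ⟨s, hsp, hs⟩ := H p hpp hle
    rw [Algebra.formallyUnramified_iff] at hs
    have h1 : ∀ ω : Ω[B⁄R], ∃ r ∈ Submonoid.powers (algebraMap R B s), r • ω = 0 :=
      (IsLocalizedModule.subsingleton_iff (Submonoid.powers (algebraMap R B s))
        (KaehlerDifferential.map R R B (Localization.Away (algebraMap R B s)))).mp hs
    have h2 : Subsingleton (LocalizedModule.Away s Ω[B⁄R]) := by
      rw [LocalizedModule.subsingleton_iff]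
      intro ω
      obtain ⟨_, ⟨n, rfl⟩, hn⟩ := h1 ω
      refine ⟨s ^ n, ⟨n, rfl⟩, ?_⟩
      rw [← algebraMap_smul B, map_pow]
      exact hn
    rw [LocalizedModule.subsingleton_iff_support_subset] at h2
    exact hsp (by simpa using h2 hpsupp)
  have hht2 : (2 : ℕ∞) ≤ p.height := by
    rw [not_le] at hht
    have := Order.add_one_le_of_lt hht
    rwa [one_add_one_eq_two] at this
  -- Step 2: localize at `p`
  let A := Localization.AtPrime p
  let E := Localization (Algebra.algebraMapSubmonoid B p.primeCompl)
  have hA : (2 : WithBot ℕ∞) ≤ ringKrullDim A := by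
    rw [IsLocalization.AtPrime.ringKrullDim_eq_height p A]
    exact WithBot.coe_le_coe.mpr hht2
  have hfree : Module.Free A E := Module.free_of_flat_of_isLocalRing
  have hE : ∀ t ∈ IsLocalRing.maximalIdeal A, Algebra.FormallyUnramified A (Loc E t) := by
    intro t ht
    rw [← Algebra.basicOpen_subset_unramifiedLocus_iff]
    intro Q hQ
    have hQt : algebraMap A E t ∉ Q.asIdeal := hQ
    show Algebra.FormallyUnramified A (Localization.AtPrime Q.asIdeal)
    let q' : Ideal B := Q.asIdeal.comap (algebraMap B E)
    have hloc : IsLocalization.AtPrime (Localization.AtPrime Q.asIdeal) q' :=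
      IsLocalization.isLocalization_isLocalization_atPrime_isLocalization
        (Algebra.algebraMapSubmonoid B p.primeCompl) (Localization.AtPrime Q.asIdeal) Q.asIdeal
    have hq'supp : (⟨q', inferInstance⟩ : PrimeSpectrum B) ∉ Module.support B Ω[B⁄R] := by
      intro hmem
      have h1 := comap_mem_support (R := R) _ hmem
      have h2 := Module.annihilator_le_of_mem_support h1
      -- the contraction of `q'` to `R`
      have h3 : (PrimeSpectrum.comap (algebraMap R B) ⟨q', inferInstance⟩).asIdeal =
          (Q.asIdeal.comap (algebraMap A E)).comap (algebraMap R A) := by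
        show (Q.asIdeal.comap (algebraMap B E)).comap (algebraMap R B) = _
        rw [Ideal.comap_comap, Ideal.comap_comap, ← IsScalarTower.algebraMap_eq,
          ← IsScalarTower.algebraMap_eq]
      have h4 : (Q.asIdeal.comap (algebraMap A E)).comap (algebraMap R A) ≤ p := by
        intro r hr
        by_contra hrp
        have hu : IsUnit (algebraMap R A r) := IsLocalization.map_units A (⟨r, hrp⟩ : p.primeCompl)
        exact (Ideal.IsPrime.comap (algebraMap A E) (K := Q.asIdeal)).ne_top
          (Ideal.eq_top_of_isUnit_mem _ hr hu)
      have h5 : p ≤ (Q.asIdeal.comap (algebraMap A E)).comap (algebraMap R A) :=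
        hp.2 ⟨inferInstance, h3 ▸ h2⟩ h4
      have h6 : IsLocalRing.maximalIdeal A ≤ Q.asIdeal.comap (algebraMap A E) := by
        rw [← Localization.AtPrime.map_eq_maximalIdeal, Ideal.map_le_iff_le_comap]
        exact h5
      exact hQt (h6 ht)
    have hun : Algebra.FormallyUnramified R (Localization.AtPrime q') := by
      have := Algebra.unramifiedLocus_eq_compl_support (R := R) (A := B)
      have h1 : (⟨q', inferInstance⟩ : PrimeSpectrum B) ∈ Algebra.unramifiedLocus R B := by
        rw [this]
        exact hq'supp
      exact h1
    let e : Localization.AtPrime q' ≃ₐ[B] Localization.AtPrime Q.asIdeal :=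
      IsLocalization.algEquiv q'.primeCompl _ _
    have hun2 : Algebra.FormallyUnramified R (Localization.AtPrime Q.asIdeal) :=
      Algebra.FormallyUnramified.of_equiv (e.restrictScalars R)
    exact Algebra.FormallyUnramified.of_restrictScalars R _ _
  have het : Algebra.Etale A E := PurityFree.etale_of_free hA E hE
  -- Step 3: conclude
  have hsub : Subsingleton Ω[E⁄A] := (Algebra.formallyUnramified_iff A E).mp inferInstance
  have hloc : IsLocalizedModule p.primeCompl
      ((KaehlerDifferential.map R A B E).restrictScalars R) := inferInstance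
  have h1 : ∀ ω : Ω[B⁄R], ∃ r ∈ p.primeCompl, r • ω = 0 :=
    (IsLocalizedModule.subsingleton_iff p.primeCompl
      ((KaehlerDifferential.map R A B E).restrictScalars R)).mp hsub
  exact (Module.notMem_support_iff'.mpr h1) hpsupp

end Groth.Agent.Lib.helper9.PurityFlat
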