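/-
Helper library (helper9): Noetherian approximation of finitely presented morphisms of affine
schemes with geometrically irreducible / geometrically connected fibres.
-/
import Mathlib
import Groth.Prelude.Def_MoreMor
import Groth.Agent.Lib.Helper9.FPModelFG
import Groth.Agent.Lib.Helper9.ClosedImmDescend
import Groth.Agent.Lib.Helper9.LimProCons
import Groth.Agent.Lib.Helper9.LimEmbDense
import Groth.Agent.Lib.Helper9.ProConsLoc
import Groth.Agent.Lib.Helper9.NGeom11
import Groth.Agent.Lib.Helper9.NGeom16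

set_option autoImplicit false
set_option linter.style.haveILetI false
set_option backward.isDefEq.respectTransparency false

namespace Groth.Agent.Lib.helper9.NGeom

open AlgebraicGeometry CategoryTheory Limits TopologicalSpace Topology
open Groth.Agent.Lib.helper9 Groth.Agent.Lib.helper9.FGLimitZ

universe u

section Descent

variable {I : Type u} [SmallCategory I] [IsCofiltered I] (D : I ⥤ Scheme.{u})
  (c : Cone D) (hc : IsLimit c) [hD : ∀ (i j : I) (f : i ⟶ j), IsAffineHom (D.map f)]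

include hc in
/-- A base change invariant fibrewise invariant with locally constructible level set: if it takes
the value `n` at all points of the limit, it does so already at a finite stage. -/
theorem exists_stageMap_of_levelSet (N : ∀ ⦃Y T : Scheme.{u}⦄, (Y ⟶ T) → T → ℕ∞)
    (hbc : ∀ ⦃X Y X' Y' : Scheme.{u}⦄ (f : X ⟶ Y) (f' : X' ⟶ Y') (g' : X' ⟶ X) (g : Y' ⟶ Y),
      IsPullback g' f' f g → ∀ y' : Y', N f' y' = N f (g y'))
    (i₀ : I) [CompactSpace (D.obj i₀)] {X₀ : Scheme.{u}} (f₀ : X₀ ⟶ D.obj i₀) (n : ℕ∞)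
    (hlc : IsLocallyConstructible {t : ↑(D.obj i₀) | N f₀ t = n})
    (h : ∀ w, N (stageMap (c.π.app i₀) f₀ (𝟙 _)) w = n) :
    ∃ l : Over i₀, ∀ w, N (stageMap (D.map l.hom) f₀ (𝟙 _)) w = n := by
  have key : ∀ {S' : Scheme.{u}} (φ : S' ⟶ D.obj i₀) (w : ↥(pullback φ (𝟙 (D.obj i₀)))),
      N (stageMap φ f₀ (𝟙 _)) w = N f₀ (φ (pullback.fst φ (𝟙 (D.obj i₀)) w)) := by
    intro S' φ w
    rw [hbc f₀ (stageMap φ f₀ (𝟙 _)) _ _ (isPullback_stageMap φ f₀ (𝟙 _)) w]
    congr 1
    have := congrArg (fun m : pullback φ (𝟙 (D.obj i₀)) ⟶ D.obj i₀ => m w)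
      (pullback.condition (f := φ) (g := 𝟙 (D.obj i₀)))
    simp only [Category.comp_id] at this
    exact this.symm
  have hsurj : ∀ {S' : Scheme.{u}} (φ : S' ⟶ D.obj i₀) (x : S'),
      ∃ w : ↥(pullback φ (𝟙 (D.obj i₀))), pullback.fst φ (𝟙 (D.obj i₀)) w = x := by
    intro S' φ x
    obtain ⟨w, hw, -⟩ := Scheme.Pullback.exists_preimage_pullback (f := φ) (g := 𝟙 (D.obj i₀)) x
      (φ x) rfl
    exact ⟨w, hw⟩
  set Z : Set ↑(D.obj i₀) := {t | N f₀ t = n}ᶜ with hZ
  have hZpro : ProCons.IsProConstructible Z :=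
    isProConstructible_of_isLocallyConstructible (isLocallyConstructible_compl hlc)
  have hempty : ⇑(c.π.app i₀) ⁻¹' Z = ∅ := by
    rw [Set.eq_empty_iff_forall_notMem]
    intro x hx
    obtain ⟨w, rfl⟩ := hsurj (c.π.app i₀) x
    apply hx
    change N f₀ _ = n
    rw [← key (c.π.app i₀) w]
    exact h w
  obtain ⟨l, ψ, hl⟩ := exists_preimage_map_eq_empty D c hc i₀ Z hZpro hempty
  refine ⟨Over.mk ψ, fun w => ?_⟩
  rw [key]
  by_contra hne
  have : (pullback.fst (D.map (Over.mk ψ).hom) (𝟙 (D.obj i₀)) w) ∈ ⇑(D.map ψ) ⁻¹' Z := hne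
  rw [hl] at this
  exact this

include hc in
theorem exists_geometricallyIrreducible_stageMap (i₀ : I) [CompactSpace (D.obj i₀)]
    {X₀ : Scheme.{u}} (f₀ : X₀ ⟶ D.obj i₀) [LocallyOfFinitePresentation f₀] [QuasiCompact f₀]
    [QuasiSeparated f₀]
    (h : GeometricallyIrreducible (stageMap (c.π.app i₀) f₀ (𝟙 _))) :
    ∃ l : Over i₀, GeometricallyIrreducible (stageMap (D.map l.hom) f₀ (𝟙 _)) := by
  obtain ⟨l, hl⟩ := exists_stageMap_of_levelSet D c hc
    (fun Y T g t => MoreMor.nGeomIrredComp g t)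
    (fun _ _ _ _ f f' g' g hsq y' =>
      Groth.Agent.Lib.helper3.GeomFiberBC.nGeomIrredComp_baseChange f f' g' g hsq y')
    i₀ f₀ 1 (isLocallyConstructible_nGeomIrredComp f₀ 1)
    ((geometricallyIrreducible_iff _).mp h)
  exact ⟨l, (geometricallyIrreducible_iff _).mpr hl⟩

include hc in
theorem exists_geometricallyConnected_stageMap (i₀ : I) [CompactSpace (D.obj i₀)]
    {X₀ : Scheme.{u}} (f₀ : X₀ ⟶ D.obj i₀) [LocallyOfFinitePresentation f₀] [QuasiCompact f₀]
    [QuasiSeparated f₀]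
    (h : GeometricallyConnected (stageMap (c.π.app i₀) f₀ (𝟙 _))) :
    ∃ l : Over i₀, GeometricallyConnected (stageMap (D.map l.hom) f₀ (𝟙 _)) := by
  obtain ⟨l, hl⟩ := exists_stageMap_of_levelSet D c hc
    (fun Y T g t => MoreMor.nGeomConnComp g t)
    (fun _ _ _ _ f f' g' g hsq y' =>
      Groth.Agent.Lib.helper3.GeomFiberBC.nGeomConnComp_baseChange f f' g' g hsq y')
    i₀ f₀ 1 (isLocallyConstructible_nGeomConnComp f₀ 1)
    ((geometricallyConnected_iff _).mp h)
  exact ⟨l, (geometricallyConnected_iff _).mpr hl⟩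

end Descent

end Groth.Agent.Lib.helper9.NGeom
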