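/-
Helper library (helper9): Noetherian approximation of a finitely presented morphism of affine
schemes together with a property that descends along the system of finitely generated subrings
(EGA IV 9.7.7 + 8.10.5 type statements), applied to geometric irreducibility / connectedness.
-/
import Mathlib
import Groth.Prelude.Def_MoreMor
import Groth.Agent.Lib.Helper9.NGeom17

set_option autoImplicit false
set_option linter.style.haveILetI false
set_option backward.isDefEq.respectTransparency false

namespace Groth.Agent.Lib.helper9.NGeom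

open AlgebraicGeometry CategoryTheory Limits TopologicalSpace Topology
open Groth.Agent.Lib.helper9 Groth.Agent.Lib.helper9.FGLimitZ

universe u

/-- Affine Noetherian models with a property descending along finitely generated subrings. -/
theorem exists_affine_model (P : MorphismProperty Scheme.{u}) [P.RespectsIso]
    (hdesc : ∀ (A : Type u) [CommRing A] (s : (Finset A)ᵒᵖ) {X₀ : Scheme.{u}}
      (f₀ : X₀ ⟶ (specDiagram A).obj s) [LocallyOfFinitePresentation f₀] [QuasiCompact f₀]
      [QuasiSeparated f₀], P (stageMap ((specCone A).π.app s) f₀ (𝟙 _)) →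
        ∃ l : Over s, P (stageMap ((specDiagram A).map l.hom) f₀ (𝟙 _)))
    {X S : Scheme.{u}} (f : X ⟶ S) [IsAffine X] [IsAffine S] [LocallyOfFinitePresentation f]
    (hf : P f) :
    ∃ (X₀ S₀ : Scheme.{u}) (f₀ : X₀ ⟶ S₀) (g : S ⟶ S₀) (g' : X ⟶ X₀), IsAffine X₀ ∧
      IsAffine S₀ ∧ IsPullback g' f f₀ g ∧ Algebra.FiniteType ℤ Γ(S₀, ⊤) ∧
      LocallyOfFiniteType f₀ ∧ P f₀ := by
  set A : Type u := Γ(S, ⊤) with hA
  let e : S ≅ Spec (CommRingCat.of A) := S.isoSpec
  let f' : X ⟶ Spec (CommRingCat.of A) := f ≫ e.hom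
  haveI : LocallyOfFinitePresentation f' := by dsimp only [f']; infer_instance
  haveI : IsAffineHom f' := inferInstance
  have hf' : P f' := (P.cancel_right_of_respectsIso f e.hom).mpr hf
  have hlim := isLimitSpecCone A
  let f'' : X ⟶ (specCone A).pt := f'
  have h1 : LocallyOfFinitePresentation f'' := (inferInstance : LocallyOfFinitePresentation f')
  have h2 : QuasiCompact f'' := (inferInstance : QuasiCompact f')
  have h3 : QuasiSeparated f'' := (inferInstance : QuasiSeparated f')
  have h4 : IsAffineHom f'' := (inferInstance : IsAffineHom f')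
  have h5 : P f'' := hf'
  obtain ⟨s, ⟨M⟩⟩ := FPModel.exists_model (D := specDiagram A) (c := specCone A) hlim f''
  haveI : CompactSpace M.X₀ := M.compactSpace_X₀
  haveI : QuasiSeparatedSpace M.X₀ := M.quasiSeparatedSpace_X₀
  obtain ⟨i₁, a₁, h₁⟩ := M.exists_rebase_of_descent @IsAffineHom (fun h => by
    haveI := h
    exact exists_isAffineHom_stageMap (specDiagram A) (specCone A) hlim s M.f₀ (𝟙 _)) h4
  obtain ⟨i₂, a₂, h₂⟩ := (M.rebase a₁).exists_rebase_of_descent P
    (fun h => hdesc A i₁ (M.rebase a₁).f₀ h) h5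
  let M₂ := (M.rebase a₁).rebase a₂
  haveI hM₂aff : IsAffineHom M₂.f₀ := MorphismProperty.pullback_fst (P := @IsAffineHom) _ _ h₁
  haveI : IsAffine ((specDiagram A).obj i₂) :=
    inferInstanceAs (IsAffine (Spec (CommRingCat.of (adj A i₂.unop))))
  refine ⟨M₂.X₀, (specDiagram A).obj i₂, M₂.f₀, e.hom ≫ (specCone A).π.app i₂, M₂.g, ?_,
    inferInstance, ?_, ?_, ?_, h₂⟩
  · exact isAffine_of_isAffineHom M₂.f₀
  · have hleft : IsPullback (𝟙 X) f f'' e.hom := IsPullback.of_horiz_isIso ⟨by simp [f'', f']⟩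
    have := hleft.paste_horiz M₂.pb
    rwa [Category.id_comp] at this
  · haveI : Algebra.FiniteType ℤ ↥(adj A i₂.unop) :=
      (Subalgebra.fg_iff_finiteType _).mp (Subalgebra.fg_adjoin_finset _)
    let r : ↥(adj A i₂.unop) ≃+* Γ(Spec (CommRingCat.of ↥(adj A i₂.unop)), ⊤) :=
      (Scheme.ΓSpecIso (CommRingCat.of ↥(adj A i₂.unop))).symm.commRingCatIsoToRingEquiv
    exact Algebra.FiniteType.equiv (inferInstance : Algebra.FiniteType ℤ ↥(adj A i₂.unop))
      r.toIntAlgEquiv
  · exact (inferInstance : LocallyOfFiniteType M₂.f₀)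

/-- **Noetherian approximation with geometrically irreducible fibres.** -/
theorem exists_affine_model_geometricallyIrreducible {X S : Scheme.{u}} (f : X ⟶ S) [IsAffine X]
    [IsAffine S] [LocallyOfFinitePresentation f] [GeometricallyIrreducible f] :
    ∃ (X₀ S₀ : Scheme.{u}) (f₀ : X₀ ⟶ S₀) (g : S ⟶ S₀) (g' : X ⟶ X₀), IsAffine X₀ ∧
      IsAffine S₀ ∧ IsPullback g' f f₀ g ∧ Algebra.FiniteType ℤ Γ(S₀, ⊤) ∧
      LocallyOfFiniteType f₀ ∧ GeometricallyIrreducible f₀ :=
  exists_affine_model @GeometricallyIrreducible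
    (fun A _ s _ f₀ _ _ _ h =>
      exists_geometricallyIrreducible_stageMap (specDiagram A) (specCone A) (isLimitSpecCone A)
        s f₀ h) f inferInstance

/-- **Noetherian approximation with geometrically connected fibres.** -/
theorem exists_affine_model_geometricallyConnected {X S : Scheme.{u}} (f : X ⟶ S) [IsAffine X]
    [IsAffine S] [LocallyOfFinitePresentation f] [GeometricallyConnected f] :
    ∃ (X₀ S₀ : Scheme.{u}) (f₀ : X₀ ⟶ S₀) (g : S ⟶ S₀) (g' : X ⟶ X₀), IsAffine X₀ ∧
      IsAffine S₀ ∧ IsPullback g' f f₀ g ∧ Algebra.FiniteType ℤ Γ(S₀, ⊤) ∧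
      LocallyOfFiniteType f₀ ∧ GeometricallyConnected f₀ :=
  exists_affine_model @GeometricallyConnected
    (fun A _ s _ f₀ _ _ _ h =>
      exists_geometricallyConnected_stageMap (specDiagram A) (specCone A) (isLimitSpecCone A)
        s f₀ h) f inferInstance

end Groth.Agent.Lib.helper9.NGeom
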