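import Mathlib
import Groth.Agent.Lib.Helper9.GRGen5
import Groth.Agent.Lib.Helper9.NGeom18

/-!
# Noetherian approximation with geometrically reduced fibres (helper9)

* `exists_geometricallyReduced_stageMap`
* `exists_affine_model_geometricallyReduced` (= S1461)
-/

set_option autoImplicit false
set_option linter.style.haveILetI false
set_option backward.isDefEq.respectTransparency false

namespace Groth.Agent.Lib.helper9.GRGen

open AlgebraicGeometry CategoryTheory Limits TopologicalSpace Topology
open Groth.Agent.Lib.helper9 Groth.Agent.Lib.helper9.FGLimitZ Groth.Agent.Lib.helper9.NGeom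

universe u

theorem geometricallyReduced_iff_grN {X Y : Scheme.{u}} (f : X ⟶ Y) :
    GeometricallyReduced f ↔ ∀ y, grN f y = 1 := by
  rw [geometricallyReduced_iff_forall_fiber]
  exact forall_congr' fun y => (grN_eq_one_iff f y).symm

section Descent

variable {I : Type u} [SmallCategory I] [IsCofiltered I] (D : I ⥤ Scheme.{u})
  (c : Cone D) (hc : IsLimit c) [hD : ∀ (i j : I) (f : i ⟶ j), IsAffineHom (D.map f)]

include hc in
theorem exists_geometricallyReduced_stageMap (i₀ : I) [CompactSpace (D.obj i₀)]
    {X₀ : Scheme.{u}} (f₀ : X₀ ⟶ D.obj i₀) [LocallyOfFinitePresentation f₀] [QuasiCompact f₀]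
    (h : GeometricallyReduced (stageMap (c.π.app i₀) f₀ (𝟙 _))) :
    ∃ l : Over i₀, GeometricallyReduced (stageMap (D.map l.hom) f₀ (𝟙 _)) := by
  have hlc : IsLocallyConstructible {t : ↑(D.obj i₀) | grN f₀ t = 1} := by
    have h1 := isLocallyConstructible_geometricallyReduced f₀
    have heq : {t : ↑(D.obj i₀) | grN f₀ t = 1} =
        {y : ↑(D.obj i₀) | GeometricallyReduced (f₀.fiberToSpecResidueField y)} := by
      ext y
      exact grN_eq_one_iff f₀ y
    rwa [heq]
  obtain ⟨l, hl⟩ := exists_stageMap_of_levelSet D c hc grN grN_baseChange i₀ f₀ 1 hlc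
    ((geometricallyReduced_iff_grN _).mp h)
  exact ⟨l, (geometricallyReduced_iff_grN _).mpr hl⟩

end Descent

/-- **Noetherian approximation with geometrically reduced fibres** (= S1461). -/
theorem exists_affine_model_geometricallyReduced {X S : Scheme.{u}} (f : X ⟶ S) [IsAffine X]
    [IsAffine S] [LocallyOfFinitePresentation f] [GeometricallyReduced f] :
    ∃ (X₀ S₀ : Scheme.{u}) (f₀ : X₀ ⟶ S₀) (g : S ⟶ S₀) (g' : X ⟶ X₀), IsAffine X₀ ∧
      IsAffine S₀ ∧ IsPullback g' f f₀ g ∧ Algebra.FiniteType ℤ Γ(S₀, ⊤) ∧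
      LocallyOfFiniteType f₀ ∧ GeometricallyReduced f₀ :=
  exists_affine_model @GeometricallyReduced
    (fun A _ s _ f₀ _ _ _ h =>
      exists_geometricallyReduced_stageMap (specDiagram A) (specCone A) (isLimitSpecCone A)
        s f₀ h) f inferInstance

end Groth.Agent.Lib.helper9.GRGen
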