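import Mathlib
import Groth.Prelude.Def_ClSub2
import Groth.Agent.Lib.Helper18.HHZero

/-!
# Global sections of `O/I` for an ideal supported in an affine open (helper9)

* `finrank_H0_quotMod_eq_of_support_le`: if the support of the ideal sheaf `I` lies in the affine open `V`, then
  `h⁰(O/I) = dim_K Γ(X, V)/I(V)`.
-/

set_option autoImplicit false
set_option linter.style.haveILetI false
set_option backward.isDefEq.respectTransparency false
universe u
open CategoryTheory CategoryTheory.Limits AlgebraicGeometry Opposite TopologicalSpace Module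

namespace Groth.Agent.Lib.helper9.VAKey1

open Groth.Agent.Lib.Helper18

variable (K : Type u) [Field K] {X : Scheme.{u}} [X.Over (Spec (CommRingCat.of K))]

/-- if the support of the ideal sheaf `I` lies in the affine open `V`, then `h⁰(O/I) = dim_K Γ(X, V)/I(V)` -/
theorem finrank_H0_quotMod_eq_of_support_le (I : X.IdealSheafData) {V : X.Opens} (hV : IsAffineOpen V)
    (hsupp : ((I.support : Closeds X) : Set X) ⊆ V) [Algebra K Γ(X, V)]
    (halg : ∀ a : K, algebraMap K Γ(X, V) a =
      (X.presheaf.map (homOfLE (le_top : V ≤ ⊤)).op).hom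
        (Coh.toGlobal (X ↘ Spec (CommRingCat.of K)) a)) :
    finrank K (Coh.HH X (ClSub.quotMod I) 0) = finrank K (Γ(X, V) ⧸ I.ideal ⟨V, hV⟩) := by
  let R : Type u := Γ(I.subscheme, I.subschemeι ⁻¹ᵁ (⊤ : X.Opens))
  letI : CommRing R := inferInstanceAs (CommRing Γ(I.subscheme, I.subschemeι ⁻¹ᵁ (⊤ : X.Opens)))
  letI modR : Module K R := HH.sectionsModuleOver K (ClSub.quotMod I)
  let e : Coh.HH X (ClSub.quotMod I) 0 ≃ₗ[K] R := HH.equiv₀Over K (ClSub.quotMod I)
  have hle : I.subschemeι ⁻¹ᵁ (⊤ : X.Opens) ≤ I.subschemeι ⁻¹ᵁ V := by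
    intro z _
    have : I.subschemeι z ∈ Set.range I.subschemeι := ⟨z, rfl⟩
    rw [I.range_subschemeι] at this
    exact hsupp this
  have heq : I.subschemeι ⁻¹ᵁ V = I.subschemeι ⁻¹ᵁ (⊤ : X.Opens) := le_antisymm (fun _ _ => trivial) hle
  let ψ : Γ(X, V) →+* R := (I.subschemeι.appLE V (I.subschemeι ⁻¹ᵁ ⊤) hle).hom
  have hres : Function.Bijective (I.subscheme.presheaf.map (homOfLE hle).op).hom := by
    have h2 : homOfLE hle = eqToHom heq.symm := Subsingleton.elim _ _
    rw [h2]
    exact ConcreteCategory.bijective_of_isIso _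
  have hψ : ∀ s : Γ(X, V), ψ s =
      (I.subscheme.presheaf.map (homOfLE hle).op).hom ((I.subschemeι.app V).hom s) := fun s => rfl
  have hψsurj : Function.Surjective ψ := by
    intro r
    obtain ⟨r', hr'⟩ := hres.2 r
    obtain ⟨s, hs⟩ := I.subschemeι_app_surjective ⟨V, hV⟩ r'
    exact ⟨s, by rw [hψ]; erw [hs]; exact hr'⟩
  have hψker : ∀ s : Γ(X, V), ψ s = 0 ↔ s ∈ I.ideal ⟨V, hV⟩ := by
    intro s
    rw [← I.ker_subschemeι_app ⟨V, hV⟩, RingHom.mem_ker, hψ]
    constructor
    · intro h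
      exact hres.1 (h.trans (map_zero _).symm)
    · intro h
      rw [h, map_zero]
  have hψalg : ∀ a : K, ψ (algebraMap K Γ(X, V) a) =
      (I.subschemeι.app ⊤).hom (Coh.toGlobal (X ↘ Spec (CommRingCat.of K)) a) := by
    intro a
    rw [halg]
    have h3 : X.presheaf.map (homOfLE (le_top : V ≤ ⊤)).op ≫
        I.subschemeι.appLE V (I.subschemeι ⁻¹ᵁ ⊤) hle = I.subschemeι.app ⊤ := by
      rw [Scheme.Hom.map_appLE, Scheme.Hom.app_eq_appLE]
    exact congrArg (fun φ => φ.hom (Coh.toGlobal (X ↘ Spec (CommRingCat.of K)) a)) h3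
  let ψl : Γ(X, V) →ₗ[K] R :=
    { toFun := ψ
      map_add' := map_add ψ
      map_smul' := fun a b => by
        rw [Algebra.smul_def, map_mul, hψalg]
        rfl }
  have hψlsurj : Function.Surjective ψl := hψsurj
  have hker : LinearMap.ker ψl = (I.ideal ⟨V, hV⟩).restrictScalars K := by
    ext s
    rw [LinearMap.mem_ker, Submodule.restrictScalars_mem]
    exact hψker s
  exact e.finrank_eq.trans (((ψl.quotKerEquivOfSurjective hψlsurj).symm.trans
    ((Submodule.quotEquivOfEq _ _ hker).trans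
      (Submodule.Quotient.restrictScalarsEquiv K (I.ideal ⟨V, hV⟩)))).finrank_eq)

end Groth.Agent.Lib.helper9.VAKey1
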