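/-
Helper library (helper9): reducedness of a Noetherian local ring flat over a discrete valuation
ring with reduced closed fibre, and its scheme-theoretic form.

* `isReduced_of_isReduced_quotient`: `E` Noetherian local, `ϖ ∈ m_E` a nonzerodivisor on `E`,
  `E/ϖE` reduced ⇒ `E` reduced.
* `isReduced_stalk_of_hasUniformizer`: `f : P ⟶ S` flat at `s`, `O_{P,s}` Noetherian, the maximal
  ideal of `O_{S,f s}` generated by a nonzerodivisor, the fibre of `f` at `s` geometrically
  reduced at `s` ⇒ `O_{P,s}` reduced.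
* `isReduced_stalk_of_isField`: the same when `O_{S,f s}` is a field.
* `isReduced_stalk_of_specializes`: reducedness of local rings passes to generizations.
-/
import Mathlib
import Groth.Prelude.Def_FDesc
import Groth.Agent.Lib.Helper9.GRPt2
import Groth.Agent.Lib.Helper17.FibreStalk

set_option autoImplicit false
set_option linter.style.haveILetI false
set_option backward.isDefEq.respectTransparency false

namespace Groth.Agent.Lib.helper9.GRPt

open AlgebraicGeometry CategoryTheory Limits IsLocalRing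

universe u

attribute [local instance] Curv2.stalkAlgebra

/-- A Noetherian local ring `E` with a nonzerodivisor `ϖ` in its maximal ideal such that `E/ϖE` is
reduced, is reduced. -/
theorem isReduced_of_isReduced_quotient {E : Type u} [CommRing E] [IsNoetherianRing E]
    [IsLocalRing E] (ϖ : E) (hϖm : ϖ ∈ maximalIdeal E) (hreg : ∀ a : E, ϖ * a = 0 → a = 0)
    (hred : IsReduced (E ⧸ Ideal.span {ϖ})) : IsReduced E := by
  refine ⟨fun b hb ↦ ?_⟩
  by_contra hb0
  have hne : Ideal.span {ϖ} ≠ ⊤ := by
    intro h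
    have h1 : maximalIdeal E = ⊤ :=
      top_le_iff.mp (h ▸ (Ideal.span_singleton_le_iff_mem _).mpr hϖm)
    exact (maximalIdeal.isMaximal E).ne_top h1
  have hkrull : ⨅ n : ℕ, (Ideal.span {ϖ}) ^ n = (⊥ : Ideal E) :=
    Ideal.iInf_pow_eq_bot_of_isLocalRing _ hne
  have hex : ∃ n : ℕ, b ∉ (Ideal.span {ϖ} : Ideal E) ^ n := by
    by_contra hcon
    push Not at hcon
    have : b ∈ ⨅ n : ℕ, (Ideal.span {ϖ} : Ideal E) ^ n := (Ideal.mem_iInf).mpr hcon
    rw [hkrull] at this
    exact hb0 this
  classical
  let n := Nat.find hex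
  have hn : b ∉ (Ideal.span {ϖ} : Ideal E) ^ n := Nat.find_spec hex
  have hn0 : n ≠ 0 := by
    intro h0
    rw [h0, pow_zero] at hn
    exact hn (by simp)
  obtain ⟨m, hm⟩ := Nat.exists_eq_succ_of_ne_zero hn0
  have hmem : b ∈ (Ideal.span {ϖ} : Ideal E) ^ m := by
    by_contra hcon
    have := Nat.find_min' hex hcon
    omega
  rw [Ideal.span_singleton_pow, Ideal.mem_span_singleton'] at hmem
  obtain ⟨c, rfl⟩ := hmem
  -- `c` is nilpotent
  obtain ⟨N, hN⟩ := hb
  have hreg' : ∀ (j : ℕ) (a : E), ϖ ^ j * a = 0 → a = 0 := by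
    intro j
    induction j with
    | zero => intro a ha; simpa using ha
    | succ j ih =>
      intro a ha
      rw [pow_succ, mul_assoc] at ha
      exact hreg a (ih _ ha)
  have hcN : c ^ N = 0 := by
    rw [mul_pow, mul_comm, ← pow_mul] at hN
    exact hreg' _ _ hN
  have hcmem : c ∈ Ideal.span {ϖ} := by
    have h1 : IsNilpotent (Ideal.Quotient.mk (Ideal.span {ϖ}) c) := ⟨N, by rw [← map_pow, hcN, map_zero]⟩
    exact Ideal.Quotient.eq_zero_iff_mem.mp h1.eq_zero
  apply hn
  rw [hm, Ideal.span_singleton_pow, Ideal.mem_span_singleton']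
  obtain ⟨d, rfl⟩ := Ideal.mem_span_singleton'.mp hcmem
  exact ⟨d, by rw [pow_succ]; ring⟩

/-- The geometric reducedness of the fibre of `f` through `x`, at `x`. -/
abbrev GR {X Y : Scheme.{u}} (f : X ⟶ Y) (x : X) : Prop :=
  FBase.IsGeomReducedAt (f.fiberToSpecResidueField (f x)) (f.asFiber x)

open Groth.Agent.Lib.helper17.FibreStalk in
/-- If the fibre through `x` is geometrically reduced at `x`, the fibre ring at `x` is reduced. -/
theorem isReduced_fibRing_of_GR {X Y : Scheme.{u}} (f : X ⟶ Y) (x : X) (h : GR f x) :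
    IsReduced (FibRing f x) := by
  letI : (f.fiber (f x)).Over (Spec (CommRingCat.of (Y.residueField (f x)))) :=
    ⟨f.fiberToSpecResidueField (f x)⟩
  have h1 : Algebra.IsGeometricallyReduced (Y.residueField (f x))
      ((f.fiber (f x)).presheaf.stalk (f.asFiber x)) :=
    (isGeomReducedAt_iff_stalk (f.fiberToSpecResidueField (f x)) (f.asFiber x)).mp h
  have h2 : IsReduced ((f.fiber (f x)).presheaf.stalk (f.asFiber x)) :=
    Algebra.isReduced_of_isGeometricallyReduced (Y.residueField (f x))
  obtain ⟨e⟩ := nonempty_asFiber_stalk_equiv f x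
  exact isReduced_of_injective e e.injective

open Groth.Agent.Lib.helper17.FibreStalk in
/-- **Reducedness over a discrete valuation ring.** -/
theorem isReduced_stalk_of_hasUniformizer {P S : Scheme.{u}} (f : P ⟶ S) (s : P)
    (hflat : (f.stalkMap s).hom.Flat) [IsNoetherianRing (P.presheaf.stalk s)]
    (hunif : ∃ ϖ : S.presheaf.stalk (f s), (∀ a, ϖ * a = 0 → a = 0) ∧
      maximalIdeal (S.presheaf.stalk (f s)) = Ideal.span {ϖ})
    (h : GR f s) : IsReduced (P.presheaf.stalk s) := by
  obtain ⟨ϖ, hϖreg, hϖ⟩ := hunif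
  have hfib := isReduced_fibRing_of_GR f s h
  set φ := (f.stalkMap s).hom with hφ
  have hmap : (maximalIdeal (S.presheaf.stalk (f s))).map φ = Ideal.span {φ ϖ} := by
    rw [hϖ, Ideal.map_span, Set.image_singleton]
  have hmem : φ ϖ ∈ maximalIdeal (P.presheaf.stalk s) := by
    have h1 : (maximalIdeal (S.presheaf.stalk (f s))).map φ ≤ maximalIdeal (P.presheaf.stalk s) :=
      ((IsLocalRing.local_hom_TFAE φ).out 0 2 rfl rfl).mp inferInstance
    apply h1
    rw [hmap]
    exact Ideal.mem_span_singleton_self _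
  have hreg : ∀ a : P.presheaf.stalk s, φ ϖ * a = 0 → a = 0 := by
    letI := φ.toAlgebra
    haveI : Module.Flat (S.presheaf.stalk (f s)) (P.presheaf.stalk s) := hflat
    have h0 : IsSMulRegular (S.presheaf.stalk (f s)) ϖ := by
      intro a b hab
      have : ϖ * (a - b) = 0 := by
        rw [mul_sub]
        exact sub_eq_zero.mpr hab
      exact sub_eq_zero.mp (hϖreg _ this)
    have h1 : IsSMulRegular (P.presheaf.stalk s) (algebraMap _ (P.presheaf.stalk s) ϖ) :=
      IsSMulRegular.of_flat h0
    intro a ha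
    exact h1 (show (algebraMap (S.presheaf.stalk (f s)) (P.presheaf.stalk s) ϖ) • a =
      (algebraMap (S.presheaf.stalk (f s)) (P.presheaf.stalk s) ϖ) • (0 : P.presheaf.stalk s) by
        rw [smul_zero, smul_eq_mul]; exact ha)
  refine isReduced_of_isReduced_quotient (φ ϖ) hmem hreg ?_
  have e : FibRing f s ≃+* (P.presheaf.stalk s ⧸ Ideal.span {φ ϖ}) := Ideal.quotEquivOfEq hmap
  exact isReduced_of_injective e.symm e.symm.injective

open Groth.Agent.Lib.helper17.FibreStalk in
/-- Over a point whose local ring is a field, geometric reducedness of the fibre gives reducedness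
of the local ring of the total space. -/
theorem isReduced_stalk_of_isField {P S : Scheme.{u}} (f : P ⟶ S) (s : P)
    (hfield : IsField (S.presheaf.stalk (f s))) (h : GR f s) : IsReduced (P.presheaf.stalk s) := by
  have hfib := isReduced_fibRing_of_GR f s h
  letI := hfield.toField
  have h0 : maximalIdeal (S.presheaf.stalk (f s)) = ⊥ := IsLocalRing.maximalIdeal_eq_bot
  have hmap : (maximalIdeal (S.presheaf.stalk (f s))).map (f.stalkMap s).hom = ⊥ := by
    rw [h0, Ideal.map_bot]
  have e : FibRing f s ≃+* (P.presheaf.stalk s ⧸ (⊥ : Ideal (P.presheaf.stalk s))) :=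
    Ideal.quotEquivOfEq hmap
  have e' := e.trans (RingEquiv.quotientBot _)
  exact isReduced_of_injective e'.symm e'.symm.injective

/-- Reducedness of local rings passes to generizations. -/
theorem isReduced_stalk_of_specializes {X : Scheme.{u}} {x x' : X} (h : x' ⤳ x)
    (hx : IsReduced (X.presheaf.stalk x)) : IsReduced (X.presheaf.stalk x') := by
  obtain ⟨_, ⟨U, hU : IsAffineOpen U, rfl⟩, hxU, -⟩ :=
    X.isBasis_affineOpens.exists_subset_of_mem_open (Set.mem_univ x) isOpen_univ
  have hx'U : x' ∈ U := h.mem_open U.isOpen hxU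
  letI a1 := TopCat.Presheaf.algebra_section_stalk X.presheaf ⟨x, hxU⟩
  letI a2 := TopCat.Presheaf.algebra_section_stalk X.presheaf ⟨x', hx'U⟩
  set p := (hU.primeIdealOf ⟨x, hxU⟩).asIdeal with hp
  set q := (hU.primeIdealOf ⟨x', hx'U⟩).asIdeal with hq
  haveI : IsLocalization.AtPrime (X.presheaf.stalk x) p := hU.isLocalization_stalk ⟨x, hxU⟩
  haveI : IsLocalization.AtPrime (X.presheaf.stalk x') q := hU.isLocalization_stalk ⟨x', hx'U⟩
  have hqp : q ≤ p := by
    have h1 : hU.primeIdealOf ⟨x', hx'U⟩ ⤳ hU.primeIdealOf ⟨x, hxU⟩ := by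
      have h2 : (⟨x', hx'U⟩ : U) ⤳ ⟨x, hxU⟩ := by
        exact (Topology.IsInducing.subtypeVal.specializes_iff).mp h
      exact h2.map (hU.isoSpec.hom.continuous)
    exact (PrimeSpectrum.le_iff_specializes _ _).mpr h1
  have hle : p.primeCompl ≤ q.primeCompl := fun a ha hq' ↦ ha (hqp hq')
  letI : Algebra (X.presheaf.stalk x) (X.presheaf.stalk x') :=
    IsLocalization.localizationAlgebraOfSubmonoidLe _ _ p.primeCompl q.primeCompl hle
  haveI : IsScalarTower Γ(X, U) (X.presheaf.stalk x) (X.presheaf.stalk x') :=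
    IsLocalization.localization_isScalarTower_of_submonoid_le _ _ p.primeCompl q.primeCompl hle
  haveI : IsLocalization (q.primeCompl.map (algebraMap Γ(X, U) (X.presheaf.stalk x)))
      (X.presheaf.stalk x') :=
    IsLocalization.isLocalization_of_submonoid_le _ _ p.primeCompl q.primeCompl hle
  exact isReduced_of_isLocalization
    (q.primeCompl.map (algebraMap Γ(X, U) (X.presheaf.stalk x))) (X.presheaf.stalk x')

end Groth.Agent.Lib.helper9.GRPt
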