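/-
Helper library (helper9): geometric reducedness of the fibres at a point is local on the source
(invariance under étale morphisms, in particular open immersions).
-/
import Mathlib
import Groth.Prelude.Def_FDesc
import Groth.Agent.Lib.Helper9.GRPt3
import Groth.Agent.Lib.Helper9.SecFlat3
import Groth.Agent.Lib.Helper5.GeomReducedEt

set_option autoImplicit false
set_option linter.style.haveILetI false
set_option backward.isDefEq.respectTransparency false

namespace Groth.Agent.Lib.helper9.GRPt

open AlgebraicGeometry CategoryTheory Limits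

universe u

/-- Base change invariance of `GR`. -/
theorem GR_iff_of_isPullback {P X Y Z : Scheme.{u}} {fst : P ⟶ X} {snd : P ⟶ Y} {f : X ⟶ Z}
    {g : Y ⟶ Z} (h : IsPullback fst snd f g) (p : P) : GR snd p ↔ GR f (fst p) :=
  Groth.Agent.Lib.helper9.SecFlat.isGeomReducedAt_asFiber_iff_of_isPullback h p

/-- `GR` is invariant under étale morphisms on the source. -/
theorem GR_comp_etale_iff {U X Y : Scheme.{u}} (j : U ⟶ X) [Etale j] (f : X ⟶ Y) (u : U) :
    GR (j ≫ f) u ↔ GR f (j u) := by
  set y := f (j u) with hy
  -- the map of fibres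
  let e : (j ≫ f).fiber y ⟶ f.fiber y :=
    pullback.map (j ≫ f) (Y.fromSpecResidueField y) f (Y.fromSpecResidueField y) j (𝟙 _) (𝟙 _)
      (by simp) (by simp)
  have he1 : e ≫ f.fiberι y = (j ≫ f).fiberι y ≫ j := pullback.lift_fst _ _ _
  have he2 : e ≫ f.fiberToSpecResidueField y = (j ≫ f).fiberToSpecResidueField y := by
    have h0 : e ≫ pullback.snd f (Y.fromSpecResidueField y) =
        pullback.snd (j ≫ f) (Y.fromSpecResidueField y) ≫ 𝟙 _ := pullback.lift_snd _ _ _
    rw [Category.comp_id] at h0
    exact h0
  have hpb : IsPullback e ((j ≫ f).fiberι y) (f.fiberι y) j := by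
    have hbig : IsPullback ((j ≫ f).fiberι y) ((j ≫ f).fiberToSpecResidueField y) (j ≫ f)
        (Y.fromSpecResidueField y) := IsPullback.of_hasPullback _ _
    have hright : IsPullback (f.fiberι y) (f.fiberToSpecResidueField y) f
        (Y.fromSpecResidueField y) := IsPullback.of_hasPullback _ _
    have h1 : IsPullback ((j ≫ f).fiberι y) (e ≫ f.fiberToSpecResidueField y) (j ≫ f)
        (Y.fromSpecResidueField y) := by
      rw [he2]
      exact hbig
    exact IsPullback.of_right h1.flip he1 hright.flip
  haveI : Etale e := MorphismProperty.of_isPullback (P := @Etale) hpb.flip inferInstance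
  have hiff := Groth.Agent.Lib.helper5.GeomReducedEt.isGeomReducedAt_iff_of_etale e
    (f.fiberToSpecResidueField y) ((j ≫ f).fiberToSpecResidueField y) he2
    ((j ≫ f).asFiber u)
  have hpt : f.fiberι y (e ((j ≫ f).asFiber u)) = f.fiberι y (f.asFiber (j u)) := by
    rw [← Scheme.Hom.comp_apply, he1, Scheme.Hom.comp_apply, f.fiberι_asFiber]
    congr 1
    exact (j ≫ f).fiberι_asFiber u
  have hpt' : e ((j ≫ f).asFiber u) = f.asFiber (j u) :=
    (f.fiberι y).isEmbedding.injective hpt
  rw [hpt'] at hiff
  exact hiff

end Groth.Agent.Lib.helper9.GRPt
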