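/-
Helper library (helper9): Nagata-type local openness of the locus of geometric reducedness of the
fibres (flat, locally of finite type, locally Noetherian base).

* `GR_of_geometricallyReduced`, `geometricallyReduced_of_forall_isGeomReducedAt`: bridges with
  Mathlib's `GeometricallyReduced`.
* `exists_open_GR_of_specializes`: if the fibre through `x` is geometrically reduced at `x`, there is
  an open neighbourhood `O` of `x` such that this holds at all specializations of `x` in `O`.
-/
import Mathlib
import Groth.Prelude.Def_FDesc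
import Groth.Agent.Lib.Helper9.GRPt7
import Groth.Agent.Lib.Helper9.GRPt2
import Groth.Agent.Lib.Helper3.GeomRedSch
import Groth.Agent.S0434

set_option autoImplicit false
set_option linter.style.haveILetI false
set_option backward.isDefEq.respectTransparency false

namespace Groth.Agent.Lib.helper9.GRPt

open AlgebraicGeometry CategoryTheory Limits TopologicalSpace

universe u

/-- Geometrically reduced morphisms have geometrically reduced fibres at every point. -/
theorem GR_of_geometricallyReduced {X Y : Scheme.{u}} (g : X ⟶ Y) [GeometricallyReduced g]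
    (u : X) : GR g u := by
  intro K _ _ x' _
  haveI : AlgebraicGeometry.IsReduced (FBase.bc (g.fiberToSpecResidueField (g u)) K) :=
    pullback_of_geometrically (GeometricallyReduced.geometrically_isReduced
      (f := g.fiberToSpecResidueField (g u))) K _
  infer_instance

/-- A scheme over a field which is geometrically reduced at every point is geometrically
reduced. -/
theorem geometricallyReduced_of_forall_isGeomReducedAt {k : Type u} [Field k] {F : Scheme.{u}}
    (ψ : F ⟶ Spec (CommRingCat.of k)) (h : ∀ p : F, FBase.IsGeomReducedAt ψ p) :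
    GeometricallyReduced ψ := by
  refine ⟨(geometrically_iff_of_isClosedUnderIsomorphisms).mpr fun K _ y ↦ ?_⟩
  obtain ⟨_, rfl⟩ := Groth.Agent.Lib.helper3.GeomRed.exists_algebra_of_hom (CommRingCat.of K) y
  haveI : ∀ x' : ↥(pullback ψ (Spec.map (CommRingCat.ofHom (algebraMap k K)))),
      _root_.IsReduced ((pullback ψ (Spec.map (CommRingCat.ofHom
        (algebraMap k K)))).presheaf.stalk x') := fun x' ↦ h _ K x' rfl
  exact isReduced_of_isReduced_stalk _

/-- Transport of pointwise geometric reducedness from a point of a fibre to the corresponding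
`asFiber` point. -/
theorem GR_of_isGeomReducedAt_fiber {X Y : Scheme.{u}} (f : X ⟶ Y) (y : Y) (p : ↥(f.fiber y))
    (h : FBase.IsGeomReducedAt (f.fiberToSpecResidueField y) p) : GR f (f.fiberι y p) := by
  have e : y = f (f.fiberι y p) := by
    have h1 : f.fiberι y p ∈ Set.range (f.fiberι y) := Set.mem_range_self p
    rw [Scheme.Hom.range_fiberι] at h1
    exact h1.symm
  exact Groth.Agent.Lib.helper9.SecFlat.isGeomReducedAt_fiber_congr f e p
    (f.asFiber (f.fiberι y p)) (f.fiberι_asFiber _).symm h

theorem isGeomReducedAt_fiber_of_GR {X Y : Scheme.{u}} (f : X ⟶ Y) (y : Y) (p : ↥(f.fiber y))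
    (h : GR f (f.fiberι y p)) : FBase.IsGeomReducedAt (f.fiberToSpecResidueField y) p := by
  have e : f (f.fiberι y p) = y := by
    have h1 : f.fiberι y p ∈ Set.range (f.fiberι y) := Set.mem_range_self p
    rw [Scheme.Hom.range_fiberι] at h1
    exact h1
  exact Groth.Agent.Lib.helper9.SecFlat.isGeomReducedAt_fiber_congr f e
    (f.asFiber (f.fiberι y p)) p (f.fiberι_asFiber _) h

/-- **Nagata-type local openness.** -/
theorem exists_open_GR_of_specializes {X Y : Scheme.{u}} (f : X ⟶ Y) [Flat f]
    [LocallyOfFiniteType f] [IsLocallyNoetherian Y] (x : X) (hx : GR f x) :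
    ∃ O : X.Opens, x ∈ O ∧ ∀ u ∈ O, x ⤳ u → GR f u := by
  -- the closed subscheme `T` on the closure of `f x`
  let C : Closeds Y := ⟨closure {f x}, isClosed_closure⟩
  let I := Scheme.IdealSheafData.vanishingIdeal C
  let T : Scheme.{u} := I.subscheme
  let ιT : T ⟶ Y := I.subschemeι
  have hrange : Set.range ιT = closure {f x} := by
    rw [Scheme.IdealSheafData.range_subschemeι, Scheme.IdealSheafData.coe_support_vanishingIdeal]
    rfl
  let iT : pullback f ιT ⟶ X := pullback.fst f ιT
  let fT : pullback f ιT ⟶ T := pullback.snd f ιT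
  have hsq : IsPullback iT fT f ιT := IsPullback.of_hasPullback f ιT
  haveI : LocallyOfFiniteType fT :=
    MorphismProperty.pullback_snd (P := @LocallyOfFiniteType) _ _ inferInstance
  haveI : Flat fT := MorphismProperty.pullback_snd (P := @Flat) _ _ inferInstance
  obtain ⟨y₀, hy₀⟩ : f x ∈ Set.range ιT := hrange ▸ subset_closure (Set.mem_singleton _)
  obtain ⟨xT, hxT, -⟩ := Scheme.Pullback.exists_preimage_pullback (f := f) (g := ιT) x y₀ hy₀.symm
  have hxT' : iT xT = x := hxT
  have hιy : ιT (fT xT) = f x := by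
    rw [← Scheme.Hom.comp_apply, ← hsq.w, Scheme.Hom.comp_apply, hxT']
  -- `T` is irreducible with generic point `fT xT`
  have hspec : ∀ t : T, fT xT ⤳ t := by
    intro t
    rw [← ιT.isEmbedding.isInducing.specializes_iff, hιy, specializes_iff_mem_closure, ← hrange]
    exact Set.mem_range_self t
  haveI : IrreducibleSpace T := by
    have hcl : closure ({fT xT} : Set T) = Set.univ := by
      ext z; simp only [Set.mem_univ, iff_true]; exact (hspec z).mem_closure
    have hirr : IsIrreducible (Set.univ : Set T) := by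
      rw [← hcl]; exact isIrreducible_singleton.closure
    exact { isPreirreducible_univ := hirr.isPreirreducible, toNonempty := ⟨fT xT⟩ }
  have hgen : genericPoint T = fT xT := by
    have h1 : IsGenericPoint (fT xT) (Set.univ : Set T) := by
      rw [isGenericPoint_def]
      ext z; simp only [Set.mem_univ, iff_true]; exact (hspec z).mem_closure
    exact (genericPoint_spec T).eq h1
  haveI : IsLocallyNoetherian T := LocallyOfFiniteType.isLocallyNoetherian ιT
  have hGRT : GR fT xT := by
    refine (GR_iff_of_isPullback hsq xT).mpr ?_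
    rw [hxT']
    exact hx
  -- the generic fibre
  let φ := fT.fiberToSpecResidueField (fT xT)
  haveI : LocallyOfFiniteType φ :=
    MorphismProperty.pullback_snd (P := @LocallyOfFiniteType) _ _ inferInstance
  haveI : IsLocallyNoetherian (fT.fiber (fT xT)) := LocallyOfFiniteType.isLocallyNoetherian φ
  have hopenF : IsOpen {p : ↥(fT.fiber (fT xT)) | FBase.IsGeomReducedAt φ p} :=
    isOpen_setOf_isGeomReducedAt φ
  obtain ⟨U', hU'open, hU'⟩ :=
    (fT.fiberι (fT xT)).isEmbedding.isInducing.isOpen_iff.mp hopenF
  have hxTU' : xT ∈ U' := by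
    have h1 : fT.asFiber xT ∈ (fT.fiberι (fT xT)) ⁻¹' U' := by
      rw [hU']
      exact hGRT
    have h2 : fT.fiberι (fT xT) (fT.asFiber xT) ∈ U' := h1
    rwa [fT.fiberι_asFiber] at h2
  obtain ⟨_, ⟨U₀, hU : IsAffineOpen U₀, rfl⟩, hxTU, hUU'⟩ :=
    (pullback f ιT).isBasis_affineOpens.exists_subset_of_mem_open hxTU' hU'open
  let U : (pullback f ιT).Opens := U₀
  haveI : IsAffine U := hU
  let g : (U : Scheme.{u}) ⟶ T := U.ι ≫ fT
  haveI : LocallyOfFiniteType g := by
    show LocallyOfFiniteType (U.ι ≫ fT)
    infer_instance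
  -- points of `U'` over the generic point
  have hGRU' : ∀ v : ↥(pullback f ιT), v ∈ U' → fT v = fT xT → GR fT v := by
    intro v hv hfv
    have h1 : v ∈ Set.range (fT.fiberι (fT xT)) := by
      rw [Scheme.Hom.range_fiberι]
      exact hfv
    obtain ⟨p, rfl⟩ := h1
    have h2 : p ∈ (fT.fiberι (fT xT)) ⁻¹' U' := hv
    rw [hU'] at h2
    exact GR_of_isGeomReducedAt_fiber fT (fT xT) p h2
  have hgenfib : GeometricallyReduced (g.fiberToSpecResidueField (genericPoint T)) := by
    rw [hgen]
    apply geometricallyReduced_of_forall_isGeomReducedAt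
    intro p
    apply isGeomReducedAt_fiber_of_GR g (fT xT) p
    refine (GR_comp_etale_iff U.ι fT _).mpr ?_
    apply hGRU'
    · exact hUU' (show (U.ι (g.fiberι (fT xT) p) : ↥(pullback f ιT)) ∈ (U : Set _) from
        (g.fiberι (fT xT) p).2)
    · have h1 : g.fiberι (fT xT) p ∈ Set.range (g.fiberι (fT xT)) := Set.mem_range_self p
      rw [Scheme.Hom.range_fiberι] at h1
      exact h1
  obtain ⟨V, hVne, hVGR⟩ := Groth.Agent.S0434.result g hgenfib
  have hyV : fT xT ∈ V := by
    obtain ⟨t, ht⟩ := hVne
    exact (hspec t).mem_open V.isOpen ht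
  -- the open neighbourhood
  have hopen3 : IsOpen ((U : Set ↥(pullback f ιT)) ∩ fT ⁻¹' (V : Set T)) :=
    U.isOpen.inter (V.isOpen.preimage fT.continuous)
  obtain ⟨O, hOopen, hO⟩ := iT.isEmbedding.isInducing.isOpen_iff.mp hopen3
  refine ⟨⟨O, hOopen⟩, ?_, ?_⟩
  · show x ∈ O
    have h1 : xT ∈ iT ⁻¹' O := by
      rw [hO]
      exact ⟨hxTU, hyV⟩
    rw [← hxT']
    exact h1
  · intro u (huO : u ∈ O) hxu
    have hfu : f u ∈ Set.range ιT := by
      rw [hrange]
      exact (hxu.map f.continuous).mem_closure
    obtain ⟨t, ht⟩ := hfu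
    obtain ⟨u', hu', -⟩ := Scheme.Pullback.exists_preimage_pullback (f := f) (g := ιT) u t ht.symm
    have hu'' : iT u' = u := hu'
    have hu'3 : u' ∈ (U : Set ↥(pullback f ιT)) ∩ fT ⁻¹' (V : Set T) := by
      rw [← hO]
      show iT u' ∈ O
      rw [hu'']
      exact huO
    rw [← hu'']
    refine (GR_iff_of_isPullback hsq u').mp ?_
    -- `GR fT u'` from the geometrically reduced restriction
    let u₁ : (U : Scheme.{u}) := ⟨u', hu'3.1⟩
    have h1 : GR g u₁ := by
      have hu₁V : u₁ ∈ g ⁻¹ᵁ V := hu'3.2
      haveI := hVGR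
      have h2 : GR (g ∣_ V) ⟨u₁, hu₁V⟩ := GR_of_geometricallyReduced (g ∣_ V) _
      have h3 := (GR_iff_of_isPullback (isPullback_morphismRestrict g V).flip ⟨u₁, hu₁V⟩).mp h2
      exact h3
    exact (GR_comp_etale_iff U.ι fT u₁).mp h1

end Groth.Agent.Lib.helper9.GRPt
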