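/-
Helper library (helper9): generization of geometric reducedness of fibres for flat morphisms
locally of finite type over a locally Noetherian base (core statement).

* `isReduced_stalk_of_GR_of_specializes`: `f : X ⟶ Y` flat, locally of finite type, `Y` locally
  Noetherian, the fibre through `x` geometrically reduced at `x`.  For a field-valued point
  `t : Spec K ⟶ Y`, and a point `w` of `Z = X ×_Y Spec K` whose image in `X` specializes to `x`
  with finite residue field extension, the local ring of `Z` at `w` is reduced.
-/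
import Mathlib
import Groth.Prelude.Def_FDesc
import Groth.Agent.Lib.Helper9.GRPt3
import Groth.Agent.Lib.Helper9.GROpen1
import Groth.Agent.Lib.Helper9.SecFlat3
import Groth.Agent.Lib.Helper3.StalkBC

set_option autoImplicit false
set_option linter.style.haveILetI false
set_option backward.isDefEq.respectTransparency false

namespace Groth.Agent.Lib.helper9.GRPt

open AlgebraicGeometry CategoryTheory Limits IsLocalRing

universe u

/-- The maximal ideal of the local ring of `Spec R` at a point with zero prime ideal is zero. -/
theorem maximalIdeal_stalk_eq_bot {R : Type u} [CommRing R] (x : Spec (CommRingCat.of R))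
    (hx : x.asIdeal = ⊥) :
    maximalIdeal ((Spec (CommRingCat.of R)).presheaf.stalk x) = ⊥ := by
  letI : Algebra R ((Spec (CommRingCat.of R)).presheaf.stalk x) :=
    StructureSheaf.stalkAlgebra R x
  haveI : IsLocalization.AtPrime ((Spec (CommRingCat.of R)).presheaf.stalk x) x.asIdeal :=
    StructureSheaf.IsLocalization.to_stalk R x
  rw [← IsLocalization.AtPrime.map_eq_maximalIdeal x.asIdeal
    ((Spec (CommRingCat.of R)).presheaf.stalk x), hx, Ideal.map_bot]

/-- Points of the spectrum of a field have zero maximal ideal in their local ring. -/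
theorem maximalIdeal_stalk_field_eq_bot {K : Type u} [Field K] (x : Spec (CommRingCat.of K)) :
    maximalIdeal ((Spec (CommRingCat.of K)).presheaf.stalk x) = ⊥ :=
  maximalIdeal_stalk_eq_bot x (Ideal.eq_bot_of_prime x.asIdeal)

/-- A local ring with zero maximal ideal is a field. -/
theorem isField_of_maximalIdeal_eq_bot {A : Type u} [CommRing A] [IsLocalRing A]
    (h : maximalIdeal A = ⊥) : IsField A := by
  rw [← IsLocalRing.isField_iff_maximalIdeal_eq] at h
  exact h

/-- The local ring of `Spec R` at the closed point of a discrete valuation ring has a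
uniformizer. -/
theorem hasUniformizer_closedPoint (R : Type u) [CommRing R] [IsDomain R]
    [IsDiscreteValuationRing R] (c : Spec (CommRingCat.of R)) (hc : c = closedPoint R) :
    ∃ ϖ : (Spec (CommRingCat.of R)).presheaf.stalk c, (∀ a, ϖ * a = 0 → a = 0) ∧
      maximalIdeal ((Spec (CommRingCat.of R)).presheaf.stalk c) = Ideal.span {ϖ} := by
  subst hc
  letI : Algebra R ((Spec (CommRingCat.of R)).presheaf.stalk (closedPoint R)) :=
    StructureSheaf.stalkAlgebra R (closedPoint R)
  haveI hloc : IsLocalization.AtPrime ((Spec (CommRingCat.of R)).presheaf.stalk (closedPoint R))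
      (closedPoint R).asIdeal := StructureSheaf.IsLocalization.to_stalk R (closedPoint R)
  haveI : IsDomain ((Spec (CommRingCat.of R)).presheaf.stalk (closedPoint R)) :=
    IsLocalization.isDomain_of_atPrime _ (closedPoint R).asIdeal
  obtain ⟨ϖ₀, hϖ₀⟩ := IsDiscreteValuationRing.exists_irreducible R
  refine ⟨algebraMap R _ ϖ₀, ?_, ?_⟩
  · intro a ha
    have hne : algebraMap R ((Spec (CommRingCat.of R)).presheaf.stalk (closedPoint R)) ϖ₀ ≠ 0 := by
      intro h0
      have hinj : Function.Injective
          (algebraMap R ((Spec (CommRingCat.of R)).presheaf.stalk (closedPoint R))) :=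
        IsLocalization.injective _ (closedPoint R).asIdeal.primeCompl_le_nonZeroDivisors
      exact hϖ₀.ne_zero (hinj (by rw [h0, map_zero]))
    exact (mul_eq_zero.mp ha).resolve_left hne
  · rw [← IsLocalization.AtPrime.map_eq_maximalIdeal (closedPoint R).asIdeal
      ((Spec (CommRingCat.of R)).presheaf.stalk (closedPoint R))]
    have h2 : (closedPoint R).asIdeal = Ideal.span {ϖ₀} := by
      change maximalIdeal R = _
      exact hϖ₀.maximalIdeal_eq
    rw [h2, Ideal.map_span, Set.image_singleton]

/-- A flat morphism which is surjective on stalks has bijective stalk maps. -/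
theorem stalkMap_bijective_of_flat_of_surjectiveOnStalks {X Y : Scheme.{u}} (f : X ⟶ Y) [Flat f]
    [SurjectiveOnStalks f] (x : X) : Function.Bijective (f.stalkMap x).hom :=
  ⟨Groth.Agent.Lib.helper3.StalkBC.stalkMap_injective_of_flat f x, f.stalkMap_surjective x⟩

/-- The inclusion of a point whose local ring has zero maximal ideal is flat. -/
theorem flat_fromSpecResidueField {S : Scheme.{u}} (x : S)
    (hx : maximalIdeal (S.presheaf.stalk x) = ⊥) : Flat (S.fromSpecResidueField x) := by
  have h1 : Flat (S.fromSpecStalk x) := Groth.Agent.Lib.helper3.StalkBC.flat_fromSpecStalk S x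
  have h2 : Function.Bijective (S.residue x).hom := by
    refine ⟨?_, IsLocalRing.residue_surjective⟩
    rw [injective_iff_map_eq_zero]
    intro a ha
    have : a ∈ maximalIdeal (S.presheaf.stalk x) := (IsLocalRing.residue_eq_zero_iff a).mp ha
    rw [hx] at this
    exact this
  have h3 : Flat (Spec.map (S.residue x)) := by
    rw [HasRingHomProperty.Spec_iff (P := @Flat)]
    exact RingHom.Flat.of_bijective h2
  exact MorphismProperty.comp_mem _ _ _ h3 h1

/-- Transport of reducedness of a local ring along an equality of points. -/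
theorem isReduced_stalk_congr {X : Scheme.{u}} {x x' : X} (h : x = x')
    (hx : IsReduced (X.presheaf.stalk x)) : IsReduced (X.presheaf.stalk x') := by
  subst h
  exact hx

/-- **Core generization statement.** -/
theorem isReduced_stalk_of_GR_of_specializes {X Y : Scheme.{u}} (f : X ⟶ Y) [Flat f]
    [LocallyOfFiniteType f] [IsLocallyNoetherian Y] (x : X) (hx : GR f x)
    {K : Type u} [Field K] {Z : Scheme.{u}} (t : Spec (CommRingCat.of K) ⟶ Y) (p₁ : Z ⟶ X)
    (p₂ : Z ⟶ Spec (CommRingCat.of K)) (hpb : IsPullback p₁ p₂ f t) (w : Z) (hw : p₁ w ⤳ x)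
    (hfin : (p₁.residueFieldMap w).hom.Finite) : IsReduced (Z.presheaf.stalk w) := by
  haveI : IsLocallyNoetherian X := LocallyOfFiniteType.isLocallyNoetherian f
  by_cases hne : p₁ w = x
  · -- the point lies over `x`
    have h1 : GR p₂ w := by
      refine (Groth.Agent.Lib.helper9.SecFlat.isGeomReducedAt_asFiber_iff_of_isPullback hpb w).mpr ?_
      rw [hne]
      exact hx
    exact isReduced_stalk_of_isField p₂ w
      (isField_of_maximalIdeal_eq_bot (maximalIdeal_stalk_field_eq_bot (p₂ w))) h1
  -- the general case: a discrete valuation ring through `p₁ w ⤳ x`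
  letI : Algebra (X.residueField (p₁ w)) (Z.residueField w) := (p₁.residueFieldMap w).hom.toAlgebra
  haveI : FiniteDimensional (X.residueField (p₁ w)) (Z.residueField w) := hfin
  obtain ⟨R, _, _, _, g, hgc, ψ, hψ⟩ :=
    Groth.Agent.Lib.helper9.GROpen.exists_dvr_with_extension (Y := X) x (p₁ w) hne hw
      (Z.residueField w)
  let S : Scheme.{u} := Spec (CommRingCat.of R)
  let c : S := closedPoint R
  let ηR : S := (⟨⊥, Ideal.isPrime_bot⟩ : PrimeSpectrum R)
  let h : S ⟶ Y := g ≫ f
  let σ : S ⟶ pullback f h := pullback.lift g (𝟙 S) (by simp [h])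
  have hσ1 : σ ≫ pullback.fst f h = g := pullback.lift_fst _ _ _
  have hσ2 : σ ≫ pullback.snd f h = 𝟙 S := pullback.lift_snd _ _ _
  -- the local ring at `σ c` is reduced
  have hsred : IsReduced ((pullback f h).presheaf.stalk (σ c)) := by
    have e1 : (pullback.fst f h) (σ c) = x := by
      rw [← Scheme.Hom.comp_apply, hσ1]
      exact hgc
    have e2 : (pullback.snd f h) (σ c) = closedPoint R := by
      rw [← Scheme.Hom.comp_apply, hσ2]
      rfl
    have hGR : GR (pullback.snd f h) (σ c) := by
      refine (Groth.Agent.Lib.helper9.SecFlat.isGeomReducedAt_asFiber_iff_of_isPullback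
        (IsPullback.of_hasPullback f h) (σ c)).mpr ?_
      rw [e1]
      exact hx
    haveI : IsLocallyNoetherian (pullback f h) :=
      LocallyOfFiniteType.isLocallyNoetherian (pullback.snd f h)
    exact isReduced_stalk_of_hasUniformizer (pullback.snd f h) (σ c)
      (Flat.stalkMap (pullback.snd f h) (σ c))
      (hasUniformizer_closedPoint R _ e2) hGR
  -- hence at `σ ηR`
  have hηc : ηR ⤳ c := by
    rw [← PrimeSpectrum.le_iff_specializes]
    exact bot_le
  have hηred : IsReduced ((pullback f h).presheaf.stalk (σ ηR)) :=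
    isReduced_stalk_of_specializes (hηc.map σ.continuous) hsred
  -- the generic fibre
  have hbot : maximalIdeal (S.presheaf.stalk ηR) = ⊥ := maximalIdeal_stalk_eq_bot ηR rfl
  let j : Spec (S.residueField ηR) ⟶ S := S.fromSpecResidueField ηR
  haveI : Flat j := flat_fromSpecResidueField ηR hbot
  let a : pullback (pullback.snd f h) j ⟶ pullback f h := pullback.fst _ _
  let b : pullback (pullback.snd f h) j ⟶ Spec (S.residueField ηR) := pullback.snd _ _
  haveI : Flat a := MorphismProperty.pullback_fst (P := @Flat) _ _ inferInstance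
  haveI : SurjectiveOnStalks a :=
    MorphismProperty.pullback_fst (P := @SurjectiveOnStalks) _ _ inferInstance
  let τ : Spec (S.residueField ηR) ⟶ pullback (pullback.snd f h) j :=
    pullback.lift (j ≫ σ) (𝟙 _) (by rw [Category.assoc, hσ2, Category.comp_id, Category.id_comp])
  have hτ1 : τ ≫ a = j ≫ σ := pullback.lift_fst _ _ _
  have hτ2 : τ ≫ b = 𝟙 _ := pullback.lift_snd _ _ _
  let pt : Spec (S.residueField ηR) := closedPoint (S.residueField ηR)
  let ω := τ pt
  have haω : a ω = σ ηR := by
    show a (τ pt) = σ ηR
    rw [← Scheme.Hom.comp_apply, hτ1, Scheme.Hom.comp_apply]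
    congr 1
    exact Scheme.fromSpecResidueField_apply ηR pt
  have hωred : IsReduced ((pullback (pullback.snd f h) j).presheaf.stalk ω) := by
    have h1 : IsReduced ((pullback f h).presheaf.stalk (a ω)) :=
      isReduced_stalk_congr haω.symm hηred
    have hbij := stalkMap_bijective_of_flat_of_surjectiveOnStalks a ω
    let e := RingEquiv.ofBijective (a.stalkMap ω).hom hbij
    exact isReduced_of_injective e.symm e.symm.injective
  -- the map to `Z`
  let u : Spec (S.residueField ηR) ⟶ Spec (CommRingCat.of K) :=
    Spec.map (CommRingCat.ofHom ψ) ≫ Z.fromSpecResidueField w ≫ p₂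
  have hnat : Z.fromSpecResidueField w ≫ p₁ =
      Spec.map (p₁.residueFieldMap w) ≫ X.fromSpecResidueField (p₁ w) :=
    (p₁.SpecMap_residueFieldMap_fromSpecResidueField w).symm
  have hjg : j ≫ g = Spec.map (CommRingCat.ofHom ψ) ≫ Z.fromSpecResidueField w ≫ p₁ := by
    rw [hnat]
    exact hψ
  have hut : u ≫ t = j ≫ h := by
    show (Spec.map (CommRingCat.ofHom ψ) ≫ Z.fromSpecResidueField w ≫ p₂) ≫ t = j ≫ g ≫ f
    rw [Category.assoc, Category.assoc, ← hpb.w, ← Category.assoc j, hjg]
    simp only [Category.assoc]
  let c' : pullback (pullback.snd f h) j ⟶ Z :=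
    hpb.lift (a ≫ pullback.fst f h) (b ≫ u) (by
      rw [Category.assoc, Category.assoc, hut, pullback.condition, ← Category.assoc a,
        ← Category.assoc b]
      congr 1
      exact pullback.condition)
  have hc'1 : c' ≫ p₁ = a ≫ pullback.fst f h := hpb.lift_fst _ _ _
  have hc'2 : c' ≫ p₂ = b ≫ u := hpb.lift_snd _ _ _
  have hbig : IsPullback (c' ≫ p₁) b f (u ≫ t) := by
    rw [hut, hc'1]
    exact (IsPullback.of_hasPullback (pullback.snd f h) j).paste_horiz
      (IsPullback.of_hasPullback f h)
  have hsq : IsPullback c' b p₂ u := IsPullback.of_right hbig hc'2 hpb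
  have hu : Flat u := by
    rw [← Spec.map_preimage u, HasRingHomProperty.Spec_iff (P := @Flat)]
    letI := (Spec.preimage u).hom.toAlgebra
    show Module.Flat K (S.residueField ηR)
    haveI : Module.Free K (S.residueField ηR) := Module.Free.of_divisionRing K _
    exact Module.Flat.of_free
  haveI : Flat c' := MorphismProperty.of_isPullback (P := @Flat) hsq.flip hu
  have hτc' : τ ≫ c' = Spec.map (CommRingCat.ofHom ψ) ≫ Z.fromSpecResidueField w := by
    apply hpb.hom_ext
    · rw [Category.assoc, hc'1, ← Category.assoc, hτ1, Category.assoc, hσ1, hjg, Category.assoc]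
    · rw [Category.assoc, hc'2, ← Category.assoc, hτ2, Category.id_comp, Category.assoc]
  have hc'ω : c' ω = w := by
    show c' (τ pt) = w
    rw [← Scheme.Hom.comp_apply, hτc', Scheme.Hom.comp_apply]
    exact Scheme.fromSpecResidueField_apply w _
  have hinj := Groth.Agent.Lib.helper3.StalkBC.stalkMap_injective_of_flat c' ω
  have h1 : IsReduced (Z.presheaf.stalk (c' ω)) := isReduced_of_injective _ hinj
  exact isReduced_stalk_congr hc'ω h1

end Groth.Agent.Lib.helper9.GRPt
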