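/-
Helper library (helper9): generization of geometric reducedness of fibres (flat, locally of finite
type, locally Noetherian base).

* `isGeomReducedAt_of_forall_finite_purelyInseparable`: characteristic-free form of `S1610`.
* `GR_of_specializes`: `f` flat locally of finite type over a locally Noetherian base, `x' ⤳ x`,
  the fibre through `x` geometrically reduced at `x` ⇒ the same at `x'`.
-/
import Mathlib
import Groth.Prelude.Def_FDesc
import Groth.Agent.Lib.Helper9.GRPt4
import Groth.Agent.Lib.Helper3.StalkBC2
import Groth.Agent.Lib.Helper3.GeomRed3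
import Groth.Agent.Lib.Helper13.EL7

set_option autoImplicit false
set_option linter.style.haveILetI false
set_option backward.isDefEq.respectTransparency false

namespace Groth.Agent.Lib.helper9.GRPt

open AlgebraicGeometry CategoryTheory Limits IsLocalRing

universe u

open scoped TensorProduct
attribute [local instance] Curv2.stalkAlgebra

/-- Characteristic-free form of `S1610`: geometric reducedness at a point can be tested on finite
purely inseparable extensions. -/
theorem isGeomReducedAt_of_forall_finite_purelyInseparable {k : Type u} [Field k] {X : Scheme.{u}}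
    (f : X ⟶ Spec (CommRingCat.of k)) (x : X)
    (h : ∀ (k' : Type u) [Field k'] [Algebra k k'] [FiniteDimensional k k']
      [IsPurelyInseparable k k'] (x' : ↥(FBase.bc f k')), (FBase.bcπ f k') x' = x →
        IsReduced ((FBase.bc f k').presheaf.stalk x')) :
    FBase.IsGeomReducedAt f x := by
  letI : X.Over (Spec (CommRingCat.of k)) := ⟨f⟩
  have hj : X.fromSpecStalk x ≫ (X ↘ Spec (CommRingCat.of k)) =
      Spec.map (CommRingCat.ofHom (algebraMap k (X.presheaf.stalk x))) :=
    Groth.Agent.Lib.helper3.StalkBC2.specMap_stalkMap k X x
  rw [isGeomReducedAt_iff_stalk]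
  apply Groth.Agent.Lib.helper3.GeomRed.isGeometricallyReduced_of_finite_purelyInseparable
  intro k' _ _ _ _
  have hred : IsReduced ((X.presheaf.stalk x) ⊗[k] k') := by
    apply isReduced_ofLocalizationMaximal
    intro m hm
    obtain ⟨x', hx', ⟨e⟩⟩ := Groth.Agent.Lib.helper3.StalkBC2.exists_point_of_isMaximal x
      (X ↘ Spec (CommRingCat.of k)) k' hj m
    have hr : IsReduced ((pullback (X ↘ Spec (CommRingCat.of k))
        (Spec.map (CommRingCat.ofHom (algebraMap k k')))).presheaf.stalk x') := h k' x' hx'
    exact isReduced_of_injective e e.injective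
  exact Groth.Agent.Lib.helper3.GeomRed.isReduced_comm _ _ hred

/-- Residue field maps of morphisms surjective on stalks are surjective. -/
theorem residueFieldMap_surjective_of_surjectiveOnStalks {X Y : Scheme.{u}} (f : X ⟶ Y)
    [SurjectiveOnStalks f] (x : X) : Function.Surjective (f.residueFieldMap x).hom := by
  have h1 : Function.Surjective ((f.stalkMap x) ≫ X.residue x).hom := by
    rw [CommRingCat.hom_comp]
    exact (IsLocalRing.residue_surjective).comp (f.stalkMap_surjective x)
  have h2 : (f.stalkMap x) ≫ X.residue x = Y.residue (f x) ≫ f.residueFieldMap x :=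
    (Scheme.residue_residueFieldMap f x).symm
  rw [h2, CommRingCat.hom_comp, RingHom.coe_comp] at h1
  exact Function.Surjective.of_comp h1

/-- **Generization of geometric reducedness of fibres.** -/
theorem GR_of_specializes {X Y : Scheme.{u}} (f : X ⟶ Y) [Flat f] [LocallyOfFiniteType f]
    [IsLocallyNoetherian Y] {x x' : X} (hxx' : x' ⤳ x) (hx : GR f x) : GR f x' := by
  apply isGeomReducedAt_of_forall_finite_purelyInseparable
  intro k' _ _ _ _ w hw
  have hpb : IsPullback (FBase.bcπ (f.fiberToSpecResidueField (f x')) k' ≫ f.fiberι (f x'))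
      (FBase.bcStr (f.fiberToSpecResidueField (f x')) k') f
      (Spec.map (CommRingCat.ofHom (algebraMap (IsLocalRing.ResidueField (Y.presheaf.stalk (f x'))) k')) ≫
        Y.fromSpecResidueField (f x')) :=
    (IsPullback.of_hasPullback (f.fiberToSpecResidueField (f x')) (Spec.map (CommRingCat.ofHom
      (algebraMap (IsLocalRing.ResidueField (Y.presheaf.stalk (f x'))) k')))).paste_horiz (IsPullback.of_hasPullback f
        (Y.fromSpecResidueField (f x')))
  have hp₁ : (FBase.bcπ (f.fiberToSpecResidueField (f x')) k' ≫ f.fiberι (f x')) w = x' := by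
    rw [Scheme.Hom.comp_apply, hw]
    exact f.fiberι_asFiber x'
  have hsp : (FBase.bcπ (f.fiberToSpecResidueField (f x')) k' ≫ f.fiberι (f x')) w ⤳ x := by
    rw [hp₁]
    exact hxx'
  refine isReduced_stalk_of_GR_of_specializes f x hx _ _ _ hpb w hsp ?_
  rw [Scheme.residueFieldMap_comp, CommRingCat.hom_comp]
  refine RingHom.Finite.comp ?_ ?_
  · haveI : IsFinite (FBase.bcπ (f.fiberToSpecResidueField (f x')) k') := by
      have h1 : IsFinite (Spec.map (CommRingCat.ofHom
          (algebraMap (IsLocalRing.ResidueField (Y.presheaf.stalk (f x'))) k'))) := by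
        rw [IsFinite.SpecMap_iff]
        show (algebraMap (IsLocalRing.ResidueField (Y.presheaf.stalk (f x'))) k').Finite
        exact RingHom.finite_algebraMap.mpr inferInstance
      exact MorphismProperty.pullback_fst (P := @IsFinite) _ _ h1
    exact Groth.Agent.Lib.helper13.EL.finite_residueFieldMap_of_quasiFiniteAt
      ((FBase.bcπ (f.fiberToSpecResidueField (f x')) k').quasiFiniteAt w)
  · exact RingHom.Finite.of_surjective _
      (residueFieldMap_surjective_of_surjectiveOnStalks (f.fiberι (f x')) _)

end Groth.Agent.Lib.helper9.GRPt
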