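/-
Helper library (helper9): openness of the locus where the fibres of a flat morphism locally of
finite presentation are geometrically reduced (`S2549`), and the variant without flatness
(`S4963`).
-/
import Mathlib
import Groth.Prelude.Def_FDesc
import Groth.Agent.Lib.Helper9.GRPt11
import Groth.Agent.Lib.Helper9.GRPt5
import Groth.Agent.Lib.Helper3.FlatLocus4
import Groth.Agent.Lib.Helper3.FlatDescP
import Groth.Agent.Lib.Helper3.FlatDescI

set_option autoImplicit false
set_option linter.style.haveILetI false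
set_option backward.isDefEq.respectTransparency false

namespace Groth.Agent.Lib.helper9.GRPt

open AlgebraicGeometry CategoryTheory Limits TopologicalSpace

universe u

open scoped TensorProduct

/-- `GR` is insensitive to composing with a monomorphism on the target. -/
theorem GR_comp_mono_iff {P Y' Y : Scheme.{u}} (g : P ⟶ Y') (j : Y' ⟶ Y) [Mono j] (p : P) :
    GR (g ≫ j) p ↔ GR g p := by
  have h1 : IsPullback (𝟙 P) g g (𝟙 Y') := IsPullback.id_horiz g
  have h2 : IsPullback (𝟙 Y') (𝟙 Y') j j := (IsKernelPair.id_of_mono j)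
  have h3 := h1.paste_vert h2
  rw [Category.comp_id] at h3
  exact (GR_iff_of_isPullback h3 p).symm

/-- **Openness, Noetherian affine case.** -/
theorem isOpen_setOf_GR_of_isNoetherianRing {A₀ B₀ : Type u} [CommRing A₀] [CommRing B₀]
    [Algebra A₀ B₀] [IsNoetherianRing A₀] [Module.Flat A₀ B₀] [Algebra.FiniteType A₀ B₀] :
    IsOpen {q : Spec (CommRingCat.of B₀) |
      GR (Spec.map (CommRingCat.ofHom (algebraMap A₀ B₀))) q} := by
  haveI : IsNoetherianRing B₀ := Algebra.FiniteType.isNoetherianRing A₀ B₀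
  let f₀ := Spec.map (CommRingCat.ofHom (algebraMap A₀ B₀))
  haveI : Flat f₀ := by
    rw [HasRingHomProperty.Spec_iff (P := @Flat)]
    exact RingHom.flat_algebraMap_iff.mpr inferInstance
  haveI : LocallyOfFiniteType f₀ := by
    rw [HasRingHomProperty.Spec_iff (P := @LocallyOfFiniteType)]
    exact RingHom.finiteType_algebraMap.mpr inferInstance
  refine Groth.Agent.Lib.helper3.FlatLocus.isOpen_of_nagata (A := B₀)
    {q : PrimeSpectrum B₀ | GR f₀ q} ?_ ?_
  · intro q q' hqq' hq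
    exact GR_of_specializes f₀ hqq' hq
  · intro q hq
    obtain ⟨O, hqO, hO⟩ := exists_open_GR_of_specializes f₀ q hq
    obtain ⟨_, ⟨_, ⟨g, rfl⟩, rfl⟩, hqg, hgO⟩ :=
      PrimeSpectrum.isBasis_basic_opens.exists_subset_of_mem_open hqO O.isOpen
    refine ⟨g, hqg, fun q' hqq' hgq' ↦ ?_⟩
    exact hO q' (hgO hgq') ((PrimeSpectrum.le_iff_specializes q q').mp hqq')

/-- **Openness, affine case.** -/
theorem isOpen_setOf_GR_spec {A B : Type u} [CommRing A] [CommRing B] (ρ : A →+* B)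
    (hflat : ρ.Flat) (hfp : ρ.FinitePresentation) :
    IsOpen {q : Spec (CommRingCat.of B) | GR (Spec.map (CommRingCat.ofHom ρ)) q} := by
  letI : Algebra A B := ρ.toAlgebra
  haveI : Module.Flat A B := hflat
  haveI : Algebra.FinitePresentation A B := hfp
  obtain ⟨A₀, _, _, hft, -, -, B₀, _, _, hfp₀, hfl₀, ⟨e⟩⟩ :=
    Groth.Agent.Lib.helper3.FlatDesc.exists_fg_model_flat (A := A) (B := B) ∅
  haveI : IsNoetherianRing A₀ := Algebra.FiniteType.isNoetherianRing ℤ A₀
  haveI : Algebra.FiniteType A₀ B₀ := inferInstance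
  let j : Spec (CommRingCat.of B) ⟶ Spec (CommRingCat.of (A ⊗[A₀] B₀)) :=
    Spec.map e.toRingEquiv.toCommRingCatIso.hom
  haveI : IsIso j := inferInstance
  have hj : j ≫ Spec.map (CommRingCat.ofHom (algebraMap A (A ⊗[A₀] B₀))) =
      Spec.map (CommRingCat.ofHom ρ) := by
    rw [← Spec.map_comp]
    congr 1
    ext a
    exact e.commutes a
  have hS0 := (isPullback_SpecMap_of_isPushout _ _ _ _
    (CommRingCat.isPushout_tensorProduct A₀ A B₀)).flip
  let π := Spec.map (CommRingCat.ofHom (Algebra.TensorProduct.includeRight :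
    B₀ →ₐ[A₀] A ⊗[A₀] B₀).toRingHom)
  have hE₀ := isOpen_setOf_GR_of_isNoetherianRing (A₀ := A₀) (B₀ := B₀)
  have hpre : {q : Spec (CommRingCat.of B) | GR (Spec.map (CommRingCat.ofHom ρ)) q} =
      (j ≫ π) ⁻¹' {q : Spec (CommRingCat.of B₀) |
        GR (Spec.map (CommRingCat.ofHom (algebraMap A₀ B₀))) q} := by
    ext q
    simp only [Set.mem_ofPred_eq, Set.mem_preimage]
    rw [← hj, GR_comp_etale_iff j _ q, Scheme.Hom.comp_apply]
    exact GR_iff_of_isPullback hS0 (j q)
  rw [hpre]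
  exact hE₀.preimage (j ≫ π).continuous

/-- **Openness of the locus of geometrically reduced fibres** (`S2549`). -/
theorem isOpen_setOf_GR {X Y : Scheme.{u}} (f : X ⟶ Y) [Flat f]
    [LocallyOfFinitePresentation f] : IsOpen {x : X | GR f x} := by
  rw [isOpen_iff_forall_mem_open]
  intro x hx
  obtain ⟨_, ⟨V, hV : IsAffineOpen V, rfl⟩, hxV, -⟩ :=
    Y.isBasis_affineOpens.exists_subset_of_mem_open (Set.mem_univ (f x)) isOpen_univ
  obtain ⟨_, ⟨U, hU : IsAffineOpen U, rfl⟩, hxU, hUV⟩ :=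
    X.isBasis_affineOpens.exists_subset_of_mem_open (show x ∈ (f ⁻¹ᵁ V : Set X) from hxV)
      (f ⁻¹ᵁ V).isOpen
  have hle : U ≤ f ⁻¹ᵁ V := hUV
  let ρ' : Γ(Y, V) ⟶ Γ(X, U) := f.appLE V U hle
  have hρ' : hU.fromSpec ≫ f = Spec.map ρ' ≫ hV.fromSpec :=
    (IsAffineOpen.SpecMap_appLE_fromSpec f hV hU hle).symm
  have hflat : ρ'.hom.Flat := HasRingHomProperty.appLE (P := @Flat) f inferInstance ⟨V, hV⟩
    ⟨U, hU⟩ hle
  have hfp : ρ'.hom.FinitePresentation :=
    HasRingHomProperty.appLE (P := @LocallyOfFinitePresentation) f inferInstance ⟨V, hV⟩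
      ⟨U, hU⟩ hle
  have hopen := isOpen_setOf_GR_spec ρ'.hom hflat hfp
  have hiff : ∀ q : Spec Γ(X, U), GR (Spec.map (CommRingCat.ofHom ρ'.hom)) q ↔
      GR f (hU.fromSpec q) := by
    intro q
    rw [← GR_comp_etale_iff hU.fromSpec f q, hρ']
    exact (GR_comp_mono_iff (Spec.map ρ') hV.fromSpec q).symm
  refine ⟨hU.fromSpec '' {q : Spec Γ(X, U) | GR (Spec.map (CommRingCat.ofHom ρ'.hom)) q}, ?_,
    hU.fromSpec.isOpenEmbedding.isOpenMap _ hopen, ?_⟩
  · rintro _ ⟨q, hq, rfl⟩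
    exact (hiff q).mp hq
  · refine ⟨hU.primeIdealOf ⟨x, hxU⟩, ?_, hU.fromSpec_primeIdealOf ⟨x, hxU⟩⟩
    show GR _ _
    rw [hiff, hU.fromSpec_primeIdealOf ⟨x, hxU⟩]
    exact hx

end Groth.Agent.Lib.helper9.GRPt
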