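/-
Helper library (helper9): descent of immersions along a cofiltered limit `S = lim S_i` of
schemes with affine transition maps (base-change form), for `f₀` locally of finite type between
qcqs schemes.
-/
import Groth.Agent.Lib.Helper9.ClosedImmDescend
import Mathlib.AlgebraicGeometry.Morphisms.Immersion

set_option autoImplicit false
set_option linter.style.haveILetI false

namespace Groth.Agent.Lib.helper9

open AlgebraicGeometry CategoryTheory Limits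

universe u

section core

variable {I : Type u} [SmallCategory I] [IsCofiltered I] (D : I ⥤ Scheme.{u}) (c : Cone D)
  (hc : IsLimit c) [hD : ∀ (i j : I) (f : i ⟶ j), IsAffineHom (D.map f)]
  (i₀ : I) {X₀ Y₀ : Scheme.{u}} (f₀ : X₀ ⟶ Y₀) (g₀ : Y₀ ⟶ D.obj i₀)

omit [IsCofiltered I] hD in
/-- The base change to the limit of the restriction of `f₀` over `U₀` is a base change of `f`. -/
theorem exists_isPullback_stageMap_morphismRestrict
    {X Y : Scheme.{u}} (f : X ⟶ Y) (g : Y ⟶ c.pt) (qY : Y ⟶ Y₀) (qX : X ⟶ X₀)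
    (hY : IsPullback qY g g₀ (c.π.app i₀)) (hX : IsPullback qX f f₀ qY) (U₀ : Y₀.Opens) :
    ∃ (u : pullback (c.π.app i₀) (U₀.ι ≫ g₀) ⟶ Y)
      (w : pullback (c.π.app i₀) ((f₀ ∣_ U₀) ≫ U₀.ι ≫ g₀) ⟶ X),
      u ≫ qY = pullback.snd (c.π.app i₀) (U₀.ι ≫ g₀) ≫ U₀.ι ∧
      IsPullback w (stageMap (c.π.app i₀) (f₀ ∣_ U₀) (U₀.ι ≫ g₀)) f u := by
  have hucond : (pullback.snd (c.π.app i₀) (U₀.ι ≫ g₀) ≫ U₀.ι) ≫ g₀ =
      pullback.fst (c.π.app i₀) (U₀.ι ≫ g₀) ≫ c.π.app i₀ := by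
    rw [pullback.condition, Category.assoc]
  let u : pullback (c.π.app i₀) (U₀.ι ≫ g₀) ⟶ Y := hY.lift _ _ hucond
  have hu : u ≫ qY = pullback.snd (c.π.app i₀) (U₀.ι ≫ g₀) ≫ U₀.ι := hY.lift_fst _ _ _
  have sq1 : IsPullback (pullback.snd (c.π.app i₀) ((f₀ ∣_ U₀) ≫ U₀.ι ≫ g₀) ≫ (f₀ ⁻¹ᵁ U₀).ι)
      (stageMap (c.π.app i₀) (f₀ ∣_ U₀) (U₀.ι ≫ g₀)) f₀
      (pullback.snd (c.π.app i₀) (U₀.ι ≫ g₀) ≫ U₀.ι) :=
    (isPullback_stageMap (c.π.app i₀) (f₀ ∣_ U₀) (U₀.ι ≫ g₀)).paste_horiz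
      (isPullback_morphismRestrict f₀ U₀).flip
  rw [← hu] at sq1
  have hwcond : (pullback.snd (c.π.app i₀) ((f₀ ∣_ U₀) ≫ U₀.ι ≫ g₀) ≫ (f₀ ⁻¹ᵁ U₀).ι) ≫ f₀ =
      (stageMap (c.π.app i₀) (f₀ ∣_ U₀) (U₀.ι ≫ g₀) ≫ u) ≫ qY := by
    rw [Category.assoc _ u qY]
    exact sq1.w
  let w : pullback (c.π.app i₀) ((f₀ ∣_ U₀) ≫ U₀.ι ≫ g₀) ⟶ X := hX.lift _ _ hwcond
  have hw1 : w ≫ qX = pullback.snd (c.π.app i₀) ((f₀ ∣_ U₀) ≫ U₀.ι ≫ g₀) ≫ (f₀ ⁻¹ᵁ U₀).ι :=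
    hX.lift_fst _ _ _
  have hw2 : w ≫ f = stageMap (c.π.app i₀) (f₀ ∣_ U₀) (U₀.ι ≫ g₀) ≫ u := hX.lift_snd _ _ _
  rw [← hw1] at sq1
  exact ⟨u, w, hu, IsPullback.of_right sq1 hw2 hX⟩

include hc in
/-- Core lemma for the descent of immersions: if the range of the immersion `f` is closed in the
preimage of a quasi-compact open `U₀ ⊆ Y₀`, then some stage map is an immersion. -/
theorem exists_isImmersion_stageMap_of_opens
    [CompactSpace (D.obj i₀)] [QuasiSeparatedSpace (D.obj i₀)]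
    [CompactSpace X₀] [QuasiSeparatedSpace X₀] [CompactSpace Y₀] [QuasiSeparatedSpace Y₀]
    [LocallyOfFiniteType f₀]
    {X Y : Scheme.{u}} (f : X ⟶ Y) (g : Y ⟶ c.pt) (qY : Y ⟶ Y₀) (qX : X ⟶ X₀)
    (hY : IsPullback qY g g₀ (c.π.app i₀)) (hX : IsPullback qX f f₀ qY) [IsImmersion f]
    (U₀ : Y₀.Opens) (hU₀ : IsCompact (U₀ : Set Y₀)) (Z : Set Y) (hZ : IsClosed Z)
    (hU : Set.range f = ((qY ⁻¹ᵁ U₀ : Y.Opens) : Set Y) ∩ Z) :
    ∃ l : Over i₀, IsImmersion (stageMap (D.map l.hom) f₀ g₀) := by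
  have : QuasiCompact f₀ := inferInstance
  have hV₀ : IsCompact ((f₀ ⁻¹ᵁ U₀ : X₀.Opens) : Set X₀) :=
    QuasiCompact.isCompact_preimage (f := f₀) _ U₀.2 hU₀
  have e₀ : (f₀ ∣_ U₀) ≫ U₀.ι ≫ g₀ = (f₀ ⁻¹ᵁ U₀).ι ≫ f₀ ≫ g₀ := morphismRestrict_ι_assoc f₀ U₀ g₀
  have : CompactSpace ↥(f₀ ⁻¹ᵁ U₀).toScheme := isCompact_iff_compactSpace.mp hV₀
  have : CompactSpace ↥U₀.toScheme := isCompact_iff_compactSpace.mp hU₀
  have : QuasiSeparatedSpace ↥(f₀ ⁻¹ᵁ U₀).toScheme :=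
    quasiSeparatedSpace_of_quasiSeparated (f₀ ⁻¹ᵁ U₀).ι
  have : QuasiSeparatedSpace ↥U₀.toScheme := quasiSeparatedSpace_of_quasiSeparated U₀.ι
  -- the restricted stage map at the limit is a closed immersion
  obtain ⟨u, w, hu, sq2⟩ :=
    exists_isPullback_stageMap_morphismRestrict D c i₀ f₀ g₀ f g qY qX hY hX U₀
  have himm : IsImmersion (stageMap (c.π.app i₀) (f₀ ∣_ U₀) (U₀.ι ≫ g₀)) :=
    MorphismProperty.of_isPullback (P := @IsImmersion) sq2 inferInstance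
  have huU : ∀ z, u z ∈ ((qY ⁻¹ᵁ U₀ : Y.Opens) : Set Y) := by
    intro z
    have e := Scheme.Hom.comp_apply u qY z
    rw [hu] at e
    show qY (u z) ∈ U₀
    rw [← e, Scheme.Hom.comp_apply]
    exact ((pullback.snd (c.π.app i₀) (U₀.ι ≫ g₀)) z).2
  have hrange : Set.range (stageMap (c.π.app i₀) (f₀ ∣_ U₀) (U₀.ι ≫ g₀)) = u ⁻¹' Z := by
    ext z
    constructor
    · rintro ⟨q, rfl⟩
      have e := Scheme.Hom.comp_apply (stageMap (c.π.app i₀) (f₀ ∣_ U₀) (U₀.ι ≫ g₀)) u q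
      rw [← sq2.w, Scheme.Hom.comp_apply] at e
      have h1 : f (w q) ∈ Set.range f := ⟨_, rfl⟩
      rw [hU] at h1
      show u _ ∈ Z
      rw [← e]
      exact h1.2
    · intro hz
      have h1 : u z ∈ Set.range f := by
        rw [hU]
        exact ⟨huU z, hz⟩
      obtain ⟨x, hx⟩ := h1
      obtain ⟨q, -, hq⟩ := exists_preimage_of_isPullback sq2 x z hx
      exact ⟨q, hq⟩
  have hclosed : IsClosedImmersion (stageMap (c.π.app i₀) (f₀ ∣_ U₀) (U₀.ι ≫ g₀)) := by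
    refine IsClosedImmersion.of_isPreimmersion _ ?_
    rw [hrange]
    exact hZ.preimage u.continuous
  have : LocallyOfFiniteType (f₀ ∣_ U₀) := inferInstance
  obtain ⟨l, hl⟩ := exists_isClosedImmersion_stageMap D c hc i₀ (f₀ ∣_ U₀) (U₀.ι ≫ g₀)
  -- all points of the limit of the `X_j` land in `f₀ ⁻¹ U₀`
  have HX : IsPullback qX (f ≫ g) (f₀ ≫ g₀) (c.π.app i₀) := hX.paste_vert hY
  have hqX : ∀ x : X, qX x ∈ f₀ ⁻¹ᵁ U₀ := by
    intro x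
    show f₀ (qX x) ∈ U₀
    have e := Scheme.Hom.comp_apply qX f₀ x
    rw [hX.w, Scheme.Hom.comp_apply] at e
    rw [← e]
    have h1 : f x ∈ Set.range f := ⟨x, rfl⟩
    rw [hU] at h1
    exact h1.1
  have h : ∀ w : ↥(pullback (c.π.app i₀) (f₀ ≫ g₀)),
      (pullback.snd (c.π.app i₀) (f₀ ≫ g₀)) w ∉ ((f₀ ⁻¹ᵁ U₀ : X₀.Opens) : Set X₀)ᶜ := by
    intro w hw
    apply hw
    have e := Scheme.Hom.comp_apply HX.flip.isoPullback.inv qX w
    rw [HX.flip.isoPullback_inv_snd] at e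
    show (pullback.snd (c.π.app i₀) (f₀ ≫ g₀)) w ∈ f₀ ⁻¹ᵁ U₀
    rw [e]
    exact hqX _
  obtain ⟨i, φ, hi⟩ := exists_forall_snd_notMem D c hc i₀ (f₀ ≫ g₀) _
    (isProConstructible_of_isClosed (f₀ ⁻¹ᵁ U₀).2.isClosed_compl) h
  -- a common stage
  let m : Over i₀ := IsCofiltered.min l (Over.mk φ)
  let a : m ⟶ l := IsCofiltered.minToLeft _ _
  let b : m ⟶ Over.mk φ := IsCofiltered.minToRight _ _
  refine ⟨m, ?_⟩
  have hm : IsClosedImmersion (stageMap (D.map m.hom) (f₀ ∣_ U₀) (U₀.ι ≫ g₀)) :=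
    stageMap_of_hom D i₀ (f₀ ∣_ U₀) (U₀.ι ≫ g₀) @IsClosedImmersion a hl
  have hmV : ∀ x : ↥(pullback (D.map m.hom) (f₀ ≫ g₀)),
      (pullback.snd (D.map m.hom) (f₀ ≫ g₀)) x ∈ f₀ ⁻¹ᵁ U₀ := by
    intro x
    have e := Scheme.Hom.comp_apply ((bcDiagram D i₀ (f₀ ≫ g₀)).map b)
      (pullback.snd (D.map (Over.mk φ).hom) (f₀ ≫ g₀)) x
    rw [bcDiagram_map_snd] at e
    have := hi (((bcDiagram D i₀ (f₀ ≫ g₀)).map b) x)
    rw [Set.notMem_compl_iff] at this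
    exact e ▸ this
  have hA := isPullback_stageMap' (D.map m.hom) (f₀ ⁻¹ᵁ U₀).ι (f₀ ≫ g₀)
    ((f₀ ∣_ U₀) ≫ U₀.ι ≫ g₀) e₀.symm
  have hAopen : IsOpenImmersion (stageMap' (D.map m.hom) (f₀ ⁻¹ᵁ U₀).ι (f₀ ≫ g₀)
      ((f₀ ∣_ U₀) ≫ U₀.ι ≫ g₀) e₀.symm) :=
    MorphismProperty.of_isPullback (P := @IsOpenImmersion) hA inferInstance
  have hAiso : IsIso (stageMap' (D.map m.hom) (f₀ ⁻¹ᵁ U₀).ι (f₀ ≫ g₀)
      ((f₀ ∣_ U₀) ≫ U₀.ι ≫ g₀) e₀.symm) := by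
    rw [isIso_iff_isOpenImmersion_and_surjective]
    refine ⟨hAopen, ⟨fun x => ?_⟩⟩
    obtain ⟨z, -, hz⟩ := exists_preimage_of_isPullback hA ⟨_, hmV x⟩ x rfl
    exact ⟨z, hz⟩
  have hBopen : IsOpenImmersion (stageMap (D.map m.hom) U₀.ι g₀) :=
    MorphismProperty.of_isPullback (P := @IsOpenImmersion)
      (isPullback_stageMap (D.map m.hom) U₀.ι g₀) inferInstance
  have hcomm : stageMap' (D.map m.hom) (f₀ ⁻¹ᵁ U₀).ι (f₀ ≫ g₀)
      ((f₀ ∣_ U₀) ≫ U₀.ι ≫ g₀) e₀.symm ≫ stageMap (D.map m.hom) f₀ g₀ =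
      stageMap (D.map m.hom) (f₀ ∣_ U₀) (U₀.ι ≫ g₀) ≫ stageMap (D.map m.hom) U₀.ι g₀ := by
    apply pullback.hom_ext
    · rw [Category.assoc, Category.assoc, stageMap_fst, stageMap_fst, stageMap'_fst, stageMap_fst]
    · rw [Category.assoc, Category.assoc, stageMap_snd, stageMap_snd, stageMap'_snd_assoc,
        stageMap_snd_assoc, morphismRestrict_ι]
  have hF : stageMap (D.map m.hom) f₀ g₀ =
      inv (stageMap' (D.map m.hom) (f₀ ⁻¹ᵁ U₀).ι (f₀ ≫ g₀) ((f₀ ∣_ U₀) ≫ U₀.ι ≫ g₀) e₀.symm) ≫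
        stageMap (D.map m.hom) (f₀ ∣_ U₀) (U₀.ι ≫ g₀) ≫ stageMap (D.map m.hom) U₀.ι g₀ := by
    rw [← hcomm, IsIso.inv_hom_id_assoc]
  rw [hF]
  infer_instance

include hc in
/-- Immersions descend (for `f₀` locally of finite type between qcqs schemes). -/
theorem exists_isImmersion_stageMap_of_isPullback
    [CompactSpace (D.obj i₀)] [QuasiSeparatedSpace (D.obj i₀)]
    [CompactSpace X₀] [QuasiSeparatedSpace X₀] [CompactSpace Y₀] [QuasiSeparatedSpace Y₀]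
    [LocallyOfFiniteType f₀]
    {X Y : Scheme.{u}} (f : X ⟶ Y) (g : Y ⟶ c.pt) (qY : Y ⟶ Y₀) (qX : X ⟶ X₀)
    (hY : IsPullback qY g g₀ (c.π.app i₀)) (hX : IsPullback qX f f₀ qY) [IsImmersion f] :
    ∃ l : Over i₀, IsImmersion (stageMap (D.map l.hom) f₀ g₀) := by
  classical
  have hπaff : IsAffineHom (c.π.app i₀) := isAffineHom_π_app D c hc i₀
  have HX : IsPullback qX (f ≫ g) (f₀ ≫ g₀) (c.π.app i₀) := hX.paste_vert hY
  have hqXaff : IsAffineHom qX :=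
    MorphismProperty.of_isPullback (P := @IsAffineHom) HX.flip inferInstance
  have : CompactSpace X := QuasiCompact.compactSpace_of_compactSpace qX
  -- a quasi-compact open of `Y` in which the range of `f` is closed
  obtain ⟨U', Z, hU', hZ, hfUZ⟩ := f.isLocallyClosed_range
  have hrc : IsCompact (Set.range f) := isCompact_range f.continuous
  obtain ⟨W, hWc, hWo, hfW, hWU'⟩ := PrespectralSpace.exists_isCompact_and_isOpen_between hrc hU'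
    (hfUZ ▸ Set.inter_subset_left)
  let Wo : Y.Opens := ⟨W, hWo⟩
  have hfWZ : Set.range f = W ∩ Z := by
    apply Set.Subset.antisymm
    · exact fun y hy => ⟨hfW hy, (hfUZ ▸ hy : y ∈ U' ∩ Z).2⟩
    · rintro y ⟨hy1, hy2⟩
      rw [hfUZ]
      exact ⟨hWU' hy1, hy2⟩
  -- transport to the standard limit `S ×_{S₀} Y₀`
  let e := hY.flip.isoPullback
  have he1 : e.hom ≫ pullback.fst (c.π.app i₀) g₀ = g := hY.flip.isoPullback_hom_fst
  have he2 : e.hom ≫ pullback.snd (c.π.app i₀) g₀ = qY := hY.flip.isoPullback_hom_snd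
  have hU'c : IsCompact ((e.inv ⁻¹ᵁ Wo : (pullback (c.π.app i₀) g₀).Opens) :
      Set ↥(pullback (c.π.app i₀) g₀)) :=
    QuasiCompact.isCompact_preimage (f := e.inv) _ Wo.2 hWc
  have : ∀ {j j' : Over i₀} (m : j ⟶ j'), IsAffineHom ((bcDiagram D i₀ g₀).map m) :=
    fun m => inferInstance
  obtain ⟨j, Uj, hUjc, hUj⟩ := exists_preimage_eq (bcDiagram D i₀ g₀) (bcCone D c i₀ g₀)
    (isLimitBcCone D c i₀ g₀ hc) (e.inv ⁻¹ᵁ Wo) hU'c
  -- rebase to the stage `j`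
  have hqY'cond : (g ≫ c.π.app j.left) ≫ D.map j.hom = qY ≫ g₀ := by
    rw [Category.assoc, c.w, hY.w]
  let qY' : Y ⟶ pullback (D.map j.hom) g₀ := pullback.lift _ _ hqY'cond
  have hqY'1 : qY' ≫ pullback.fst (D.map j.hom) g₀ = g ≫ c.π.app j.left :=
    pullback.lift_fst _ _ _
  have hqY'2 : qY' ≫ pullback.snd (D.map j.hom) g₀ = qY := pullback.lift_snd _ _ _
  have hqX'cond : ((f ≫ g) ≫ c.π.app j.left) ≫ D.map j.hom = qX ≫ f₀ ≫ g₀ := by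
    rw [Category.assoc, c.w, HX.w]
  let qX' : X ⟶ pullback (D.map j.hom) (f₀ ≫ g₀) := pullback.lift _ _ hqX'cond
  have hqX'1 : qX' ≫ pullback.fst (D.map j.hom) (f₀ ≫ g₀) = (f ≫ g) ≫ c.π.app j.left :=
    pullback.lift_fst _ _ _
  have hqX'2 : qX' ≫ pullback.snd (D.map j.hom) (f₀ ≫ g₀) = qX :=
    pullback.lift_snd _ _ _
  have hk1 : qX' ≫ stageMap (D.map j.hom) f₀ g₀ = f ≫ qY' := by
    apply pullback.hom_ext
    · rw [Category.assoc, Category.assoc, stageMap_fst, hqX'1, hqY'1, Category.assoc]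
    · rw [Category.assoc, Category.assoc, stageMap_snd, reassoc_of% hqX'2, hqY'2, hX.w]
  have hY' : IsPullback qY' g (pullback.fst (D.map j.hom) g₀) (c.π.app j.left) :=
    isPullback_rebase_base (c.w j.hom) hY qY' hqY'1 hqY'2
  have hX' : IsPullback qX' f (stageMap (D.map j.hom) f₀ g₀) qY' :=
    isPullback_rebase_top hX qY' hqY'2 qX' hk1 hqX'2
  -- the preimage of `Uj` is `W`
  let πj : pullback (c.π.app i₀) g₀ ⟶ pullback (D.map j.hom) g₀ := (bcCone D c i₀ g₀).π.app j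
  have hπj1 : πj ≫ pullback.fst (D.map j.hom) g₀ =
      pullback.fst (c.π.app i₀) g₀ ≫ c.π.app j.left := pullback.lift_fst _ _ _
  have hπj2 : πj ≫ pullback.snd (D.map j.hom) g₀ = pullback.snd (c.π.app i₀) g₀ :=
    bcCone_π_snd D c i₀ g₀ j
  have hqY'e : qY' = e.hom ≫ πj := by
    apply pullback.hom_ext
    · rw [hqY'1, Category.assoc, hπj1, reassoc_of% he1]
    · rw [hqY'2, Category.assoc, hπj2, he2]
  have hUj' : qY' ⁻¹ᵁ Uj = Wo := by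
    have h1 : qY' ⁻¹ᵁ Uj = e.hom ⁻¹ᵁ (πj ⁻¹ᵁ Uj) := by rw [hqY'e]; rfl
    have h2 : πj ⁻¹ᵁ Uj = e.inv ⁻¹ᵁ Wo := hUj
    rw [h1, h2, ← Scheme.Hom.comp_preimage, e.hom_inv_id]
    rfl
  -- instances at the stage `j`
  have : IsAffineHom (D.map j.hom) := inferInstance
  have : CompactSpace ↥(D.obj j.left) := QuasiCompact.compactSpace_of_compactSpace (D.map j.hom)
  have : QuasiSeparatedSpace ↥(D.obj j.left) :=
    quasiSeparatedSpace_of_quasiSeparated (D.map j.hom)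
  have : CompactSpace ↥(pullback (D.map j.hom) g₀) :=
    compactSpace_bcDiagram_obj D i₀ g₀ j
  have : QuasiSeparatedSpace ↥(pullback (D.map j.hom) g₀) :=
    quasiSeparatedSpace_bcDiagram_obj D i₀ g₀ j
  have : CompactSpace ↥(pullback (D.map j.hom) (f₀ ≫ g₀)) :=
    compactSpace_bcDiagram_obj D i₀ (f₀ ≫ g₀) j
  have : QuasiSeparatedSpace ↥(pullback (D.map j.hom) (f₀ ≫ g₀)) :=
    quasiSeparatedSpace_bcDiagram_obj D i₀ (f₀ ≫ g₀) j
  have : LocallyOfFiniteType (stageMap (D.map j.hom) f₀ g₀) :=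
    MorphismProperty.of_isPullback (P := @LocallyOfFiniteType)
      (isPullback_stageMap (D.map j.hom) f₀ g₀) inferInstance
  have hfin : Set.range f = ((qY' ⁻¹ᵁ Uj : Y.Opens) : Set Y) ∩ Z := by
    rw [hUj']
    exact hfWZ
  obtain ⟨l, hl⟩ := exists_isImmersion_stageMap_of_opens D c hc j.left
    (stageMap (D.map j.hom) f₀ g₀) (pullback.fst (D.map j.hom) g₀)
    f g qY' qX' hY' hX' Uj hUjc Z hZ hfin
  refine ⟨Over.mk (l.hom ≫ j.hom), ?_⟩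
  rw [stageMap_stageMap_iff @IsImmersion] at hl
  exact (stageMap_iff_of_eq @IsImmersion (D.map_comp l.hom j.hom).symm f₀ g₀).mp hl

end core

end Groth.Agent.Lib.helper9
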