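/-
Helper library (helper9): for a cofiltered limit `S = lim S_i` of schemes with affine transition
maps, a qcqs `T ⟶ S_{i₀}` and a quasi-compact open `U ⊆ T`: if the preimage of `U` in
`S ×_{S_{i₀}} T` is quasi-affine, then the preimage of `U` in `S_i ×_{S_{i₀}} T` is quasi-affine
for all sufficiently small `i ⟶ i₀`.
-/
import Groth.Agent.Lib.Helper9.LimAffineStage
import Groth.Agent.Lib.Helper9.StageSquares
import Mathlib.AlgebraicGeometry.QuasiAffine

set_option autoImplicit false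

namespace Groth.Agent.Lib.helper9

open AlgebraicGeometry CategoryTheory Limits Topology

universe u

/-- `S' ×_{S₀} U` is the open subscheme of `S' ×_{S₀} T` over `U`. -/
noncomputable def stageOpenIso {S' S₀ T : Scheme.{u}} (φ : S' ⟶ S₀) (h : T ⟶ S₀) (U : T.Opens) :
    pullback φ (U.ι ≫ h) ≅ (pullback.snd φ h ⁻¹ᵁ U : Scheme.{u}) := by
  have hopen : IsOpenImmersion (stageMap φ U.ι h) :=
    MorphismProperty.of_isPullback (P := @IsOpenImmersion) (isPullback_stageMap φ U.ι h)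
      inferInstance
  refine IsOpenImmersion.isoOfRangeEq (stageMap φ U.ι h) (pullback.snd φ h ⁻¹ᵁ U).ι ?_
  rw [Scheme.Opens.range_ι]
  ext x
  constructor
  · rintro ⟨z, rfl⟩
    show pullback.snd φ h (stageMap φ U.ι h z) ∈ U
    have e := Scheme.Hom.comp_apply (stageMap φ U.ι h) (pullback.snd φ h) z
    rw [stageMap_snd, Scheme.Hom.comp_apply] at e
    rw [← e]
    exact ((pullback.snd φ (U.ι ≫ h)) z).2
  · intro hx
    obtain ⟨z, -, hz⟩ := exists_preimage_of_isPullback (isPullback_stageMap φ U.ι h)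
      ⟨_, hx⟩ x rfl
    exact ⟨z, hz⟩

variable {I : Type u} [SmallCategory I] [IsCofiltered I] (D : I ⥤ Scheme.{u})
  (c : Cone D) (hc : IsLimit c) [hD : ∀ (i j : I) (f : i ⟶ j), IsAffineHom (D.map f)]

include hc in
theorem exists_stage_isQuasiAffine_preimage (i₀ : I) {T : Scheme.{u}} (h : T ⟶ D.obj i₀)
    [QuasiSeparatedSpace T] (U : T.Opens) (hU : IsCompact (U : Set T))
    (hΩ : Scheme.IsQuasiAffine (pullback.snd (c.π.app i₀) h ⁻¹ᵁ U : Scheme.{u})) :
    ∃ l : Over i₀, ∀ (l' : Over i₀) (_ : l' ⟶ l),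
      Scheme.IsQuasiAffine (pullback.snd (D.map l'.hom) h ⁻¹ᵁ U : Scheme.{u}) := by
  have : CompactSpace ↥U.toScheme := isCompact_iff_compactSpace.mp hU
  have : QuasiSeparatedSpace ↥U.toScheme := quasiSeparatedSpace_of_quasiSeparated U.ι
  have : ∀ {j j' : Over i₀} (m : j ⟶ j'), IsAffineHom ((bcDiagram D i₀ (U.ι ≫ h)).map m) :=
    fun m => inferInstance
  have : Scheme.IsQuasiAffine (bcCone D c i₀ (U.ι ≫ h)).pt := by
    show Scheme.IsQuasiAffine (pullback (c.π.app i₀) (U.ι ≫ h))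
    exact Scheme.IsQuasiAffine.of_isAffineHom (stageOpenIso (c.π.app i₀) h U).hom
  obtain ⟨l, hl⟩ := Scheme.exists_isQuasiAffine_of_isLimit (bcDiagram D i₀ (U.ι ≫ h))
    (bcCone D c i₀ (U.ι ≫ h)) (isLimitBcCone D c i₀ (U.ι ≫ h) hc)
  refine ⟨l, fun l' m => ?_⟩
  have h1 : Scheme.IsQuasiAffine ((bcDiagram D i₀ (U.ι ≫ h)).obj l') :=
    Scheme.IsQuasiAffine.of_isAffineHom ((bcDiagram D i₀ (U.ι ≫ h)).map m)
  have h2 : Scheme.IsQuasiAffine (pullback (D.map l'.hom) (U.ι ≫ h)) := h1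
  exact Scheme.IsQuasiAffine.of_isAffineHom (stageOpenIso (D.map l'.hom) h U).inv

end Groth.Agent.Lib.helper9
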