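/-
Helper library (helper9): a quasi-compact morphism is quasi-affine as soon as the target has a
cover by affine opens with quasi-affine preimages (uses S10967 for an affine target).
-/
import Groth.Agent.S10967
import Groth.Prelude.Def_Mor2

set_option autoImplicit false

namespace Groth.Agent.Lib.helper9

open AlgebraicGeometry CategoryTheory Limits

universe u

theorem isQuasiAffine_of_cover {X Y : Scheme.{u}} (f : X ⟶ Y) [QuasiCompact f]
    (𝒱 : Set Y.Opens) (hcov : ∀ y : Y, ∃ V ∈ 𝒱, y ∈ V)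
    (hq : ∀ V ∈ 𝒱, Scheme.IsQuasiAffine (f ⁻¹ᵁ V : Scheme.{u})) :
    Mor2.IsQuasiAffine f := by
  refine ⟨inferInstance, fun W hW => ?_⟩
  have : IsAffine (W : Scheme.{u}) := hW
  let ι : Type u :=
    {W' : (W : Scheme.{u}).Opens // IsAffineOpen W' ∧ ∃ V ∈ 𝒱, W.ι ''ᵁ W' ≤ V}
  refine Groth.Agent.S10967.result (f ∣_ W) (ι := ι) (fun i => i.1) ?_ (fun i => i.2.1) ?_
  · rw [eq_top_iff]
    intro w _
    obtain ⟨V, hV, hwV⟩ := hcov (W.ι w)
    obtain ⟨_, ⟨W', hW' : IsAffineOpen W', rfl⟩, hwW', hW'V⟩ :=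
      (W : Scheme.{u}).isBasis_affineOpens.exists_subset_of_mem_open
        (show w ∈ ((W.ι ⁻¹ᵁ V : (W : Scheme.{u}).Opens) : Set (W : Scheme.{u})) from hwV)
        (W.ι ⁻¹ᵁ V).2
    refine TopologicalSpace.Opens.mem_iSup.mpr ⟨⟨W', hW', V, hV, ?_⟩, hwW'⟩
    rintro _ ⟨x, hx, rfl⟩
    exact hW'V hx
  · rintro ⟨W', hW', V, hV, hle⟩
    have e := morphismRestrictRestrict f W W'
    let eL : ((f ∣_ W) ⁻¹ᵁ W' : Scheme.{u}) ≅ (f ⁻¹ᵁ (W.ι ''ᵁ W') : Scheme.{u}) :=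
      Arrow.leftFunc.mapIso e
    have hle' : f ⁻¹ᵁ (W.ι ''ᵁ W') ≤ f ⁻¹ᵁ V := fun x hx => hle hx
    have := hq V hV
    have hc : CompactSpace (f ⁻¹ᵁ (W.ι ''ᵁ W') : Scheme.{u}) :=
      isCompact_iff_compactSpace.mp (QuasiCompact.isCompact_preimage (f := f) _
        (W.ι ''ᵁ W').2 (hW'.image_of_isOpenImmersion W.ι).isCompact)
    have : Scheme.IsQuasiAffine (f ⁻¹ᵁ (W.ι ''ᵁ W') : Scheme.{u}) :=
      Scheme.IsQuasiAffine.of_isImmersion (X.homOfLE hle')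
    exact Scheme.IsQuasiAffine.of_isAffineHom eL.hom

end Groth.Agent.Lib.helper9
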