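/-
Helper library (helper9): the section components of a finitely presented morphism with a section
are locally constructible (EGA IV 9.7.12 (ii)).
-/
import Mathlib
import Groth.Prelude.Def_MoreMor
import Groth.Agent.S2396
import Groth.Agent.Lib.Helper5.ConsApprox1
import Groth.Agent.Lib.Helper9.SecFlat1
import Groth.Agent.Lib.Helper9.NGeom14

set_option autoImplicit false
set_option linter.style.haveILetI false
set_option backward.isDefEq.respectTransparency false

namespace Groth.Agent.Lib.helper9.NGeom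

open AlgebraicGeometry CategoryTheory Limits TopologicalSpace Topology
open Groth.Agent.Lib.helper9 Groth.Agent.Lib.helper9.FGLimitZ Groth.Agent.Lib.helper9.SecFlat

universe u

/-- Models with a section over a finitely generated subring (no extra property). -/
theorem exists_top_model_with_section (A : Type u) [CommRing A]
    {X : Scheme.{u}} (f : X ⟶ Spec (CommRingCat.of A)) [LocallyOfFinitePresentation f]
    [QuasiCompact f] [QuasiSeparated f] (g : Spec (CommRingCat.of A) ⟶ X) (hg : g ≫ f = 𝟙 _) :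
    ∃ A₀ : Subalgebra ℤ A, A₀.FG ∧
      ∃ (X₀ : Scheme.{u}) (f₀ : X₀ ⟶ Spec (CommRingCat.of ↥A₀)) (gX : X ⟶ X₀)
        (g₀ : Spec (CommRingCat.of ↥A₀) ⟶ X₀),
        LocallyOfFinitePresentation f₀ ∧ QuasiCompact f₀ ∧ QuasiSeparated f₀ ∧
          IsPullback gX f f₀ (Spec.map (CommRingCat.ofHom (algebraMap (↥A₀) A))) ∧
          g₀ ≫ f₀ = 𝟙 _ ∧
          g ≫ gX = Spec.map (CommRingCat.ofHom (algebraMap (↥A₀) A)) ≫ g₀ := by
  have hlim := isLimitSpecCone A
  let f' : X ⟶ (specCone A).pt := f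
  have h1 : LocallyOfFinitePresentation f' := (inferInstance : LocallyOfFinitePresentation f)
  have h2 : QuasiCompact f' := (inferInstance : QuasiCompact f)
  have h3 : QuasiSeparated f' := (inferInstance : QuasiSeparated f)
  obtain ⟨s, ⟨M⟩⟩ := FPModel.exists_model (D := specDiagram A) (c := specCone A) hlim f'
  obtain ⟨A₀, hfg, X₀, f₀, gX, g₀, -, h4, h5, h6, h7, h8, h9⟩ :=
    exists_model_with_section A (⊤ : MorphismProperty Scheme.{u}) f g hg ⟨s, M, trivial⟩
  exact ⟨A₀, hfg, X₀, f₀, gX, g₀, h4, h5, h6, h7, h8, h9⟩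

/-- Noetherian case. -/
theorem isConstructible_sectionComponents_noeth {X S : Scheme.{u}} [IsNoetherian S] (f : X ⟶ S)
    [LocallyOfFiniteType f] [QuasiCompact f] (s : S ⟶ X) (hs : s ≫ f = 𝟙 S) :
    IsConstructible (MoreMor.sectionComponents f s) := by
  haveI : IsNoetherian X := Groth.Agent.Lib.helper5.ConsFibre.isNoetherian_of_lft f
  rw [Groth.Agent.S2396.result]
  intro Y₀ hY₀ hY₀i
  obtain ⟨ζ, hζ⟩ := QuasiSober.sober hY₀i hY₀
  set y := f ζ with hy
  obtain ⟨V, hVsub, hyV, hVopen, hclopen⟩ := sectionComponents_clopen f s hs y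
  obtain ⟨UY, hUY, hUYV⟩ := isOpen_induced_iff.mp hVopen
  have hVmem : ∀ z ∈ closure ({y} : Set S), z ∈ V ↔ z ∈ UY := by
    intro z hz
    have := congrArg (fun T : Set ↑(closure ({y} : Set S)) => (⟨z, hz⟩ : ↑(closure ({y} : Set S))) ∈ T)
      hUYV
    exact (Iff.of_eq this).symm
  have hζY₀ : ζ ∈ Y₀ := hζ.mem
  have hY₀f : ∀ z ∈ Y₀, f z ∈ closure ({y} : Set S) := by
    intro z hz
    rw [← hζ.def] at hz
    have := image_closure_subset_closure_image f.continuous ⟨z, hz, rfl⟩
    rwa [Set.image_singleton] at this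
  set O : Set X := Y₀ ∩ f ⁻¹' UY with hO
  have hOV : O ⊆ f ⁻¹' V := fun z hz => (hVmem _ (hY₀f z hz.1)).mpr hz.2
  have hζO : ζ ∈ O := ⟨hζY₀, (hVmem y (subset_closure rfl)).mp hyV⟩
  have hOpre : _root_.IsPreconnected O := by
    refine isPreconnected_singleton.subset_closure (Set.singleton_subset_iff.mpr hζO) ?_
    rw [hζ.def]
    exact Set.inter_subset_left
  set O' : Set ↑(f ⁻¹' V) := Subtype.val ⁻¹' O with hO'
  have hO'pre : _root_.IsPreconnected O' := by
    rw [← IsInducing.subtypeVal.isPreconnected_image, hO', Subtype.image_preimage_coe,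
      Set.inter_eq_right.mpr hOV]
    exact hOpre
  by_cases hne : (O ∩ MoreMor.sectionComponents f s).Nonempty
  · right
    refine ⟨f ⁻¹' UY, hUY.preimage f.continuous, ⟨ζ, hζO.2, hζO.1⟩, ?_⟩
    obtain ⟨z₀, hz₀O, hz₀s⟩ := hne
    have hsub := hO'pre.subset_isClopen hclopen ⟨⟨z₀, hOV hz₀O⟩, hz₀O, hz₀s⟩
    rintro z ⟨hzU, hzY₀⟩
    have hzO : z ∈ O := ⟨hzY₀, hzU⟩
    exact hsub (show (⟨z, hOV hzO⟩ : ↑(f ⁻¹' V)) ∈ O' from hzO)
  · left
    set Kc : Set ↑Y₀ := Subtype.val ⁻¹' (f ⁻¹' UY)ᶜ with hKc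
    have hKcc : IsClosed Kc := (hUY.preimage f.continuous).isClosed_compl.preimage
      continuous_subtype_val
    have hsubK : (Subtype.val ⁻¹' MoreMor.sectionComponents f s : Set ↑Y₀) ⊆ Kc := by
      rintro ⟨z, hz⟩ hzs hzU
      exact hne ⟨z, ⟨hz, hzU⟩, hzs⟩
    have hint : interior Kc = ∅ := by
      rw [Set.eq_empty_iff_forall_notMem]
      intro w hw
      obtain ⟨G', hG'sub, hG'open, hwG'⟩ := mem_interior.mp hw
      obtain ⟨G, hG, rfl⟩ := isOpen_induced_iff.mp hG'open
      have hζG : ζ ∈ G := (hζ.mem_open_set_iff hG).mpr ⟨w.1, w.2, hwG'⟩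
      have : (⟨ζ, hζY₀⟩ : ↑Y₀) ∈ Kc := hG'sub hζG
      exact this hζO.2
    rw [IsNowhereDense, Set.eq_empty_iff_forall_notMem]
    intro w hw
    have : w ∈ interior Kc := interior_mono (closure_minimal hsubK hKcc) hw
    rw [hint] at this
    exact this

/-- Affine base. -/
theorem isLocallyConstructible_sectionComponents_affine (A : Type u) [CommRing A]
    {X : Scheme.{u}} (f : X ⟶ Spec (CommRingCat.of A)) [LocallyOfFinitePresentation f]
    [QuasiCompact f] [QuasiSeparated f] (g : Spec (CommRingCat.of A) ⟶ X) (hg : g ≫ f = 𝟙 _) :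
    IsLocallyConstructible (MoreMor.sectionComponents f g) := by
  obtain ⟨A₀, hfg, X₀, f₀, gX, g₀, hlfp, hqc, hqs, hc, hg₀, hcompat⟩ :=
    exists_top_model_with_section A f g hg
  haveI := hlfp
  haveI := hqc
  haveI : Algebra.FiniteType ℤ ↥A₀ := (Subalgebra.fg_iff_finiteType A₀).mp hfg
  haveI : IsNoetherianRing ↥A₀ := Algebra.FiniteType.isNoetherianRing ℤ ↥A₀
  have hsc : MoreMor.sectionComponents f g = gX ⁻¹' MoreMor.sectionComponents f₀ g₀ :=
    Groth.Agent.S1324.result f₀ g₀ hg₀ f gX _ hc g hg hcompat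
  rw [hsc]
  exact Groth.Agent.Lib.helper5.ConsApprox.isLocallyConstructible_preimage gX
    (isConstructible_sectionComponents_noeth f₀ g₀ hg₀).isLocallyConstructible

/-- Transfer of local constructibility along an open embedding. -/
theorem isLocallyConstructible_range_of_preimage {P X : Type*} [TopologicalSpace P]
    [TopologicalSpace X] (ι : P → X) (hι : IsOpenEmbedding ι) (E : Set X)
    (h : IsLocallyConstructible (ι ⁻¹' E)) :
    IsLocallyConstructible (Subtype.val ⁻¹' E : Set ↑(Set.range ι)) := by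
  let e : P ≃ₜ ↑(Set.range ι) := hι.isEmbedding.toHomeomorph
  have h1 : (Subtype.val ⁻¹' E : Set ↑(Set.range ι)) = e.symm ⁻¹' (ι ⁻¹' E) := by
    ext w
    obtain ⟨t, rfl⟩ := e.surjective w
    simp only [Set.mem_preimage, Homeomorph.symm_apply_apply]
    rfl
  rw [h1]
  exact h.preimage_of_isOpenEmbedding e.symm.isOpenEmbedding

/-- **EGA IV 9.7.12 (ii)**. -/
theorem isLocallyConstructible_sectionComponents {X Y : Scheme.{u}} (f : X ⟶ Y) (s : Y ⟶ X)
    (hs : s ≫ f = 𝟙 Y) [LocallyOfFinitePresentation f] [QuasiCompact f] [QuasiSeparated f] :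
    IsLocallyConstructible (MoreMor.sectionComponents f s) := by
  refine IsLocallyConstructible.of_isOpenCover
    (U := fun W : Y.affineOpens => (pullback.fst f W.2.fromSpec).opensRange) ?_ fun W => ?_
  · rw [TopologicalSpace.IsOpenCover, eq_top_iff]
    intro x _
    obtain ⟨_, ⟨V, hV, rfl⟩, hxV, -⟩ :=
      Y.isBasis_affineOpens.exists_subset_of_mem_open (Set.mem_univ (f x)) isOpen_univ
    refine TopologicalSpace.Opens.mem_iSup.mpr ⟨⟨V, hV⟩, ?_⟩
    change x ∈ Set.range (pullback.fst f hV.fromSpec)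
    rw [Scheme.Pullback.range_fst, hV.range_fromSpec]
    exact hxV
  · obtain ⟨V, hV⟩ := W
    set j : Spec Γ(Y, V) ⟶ Y := hV.fromSpec with hj
    set f₁ : pullback f j ⟶ Spec Γ(Y, V) := pullback.snd f j with hf₁
    set ι : pullback f j ⟶ X := pullback.fst f j with hι
    have hsq : IsPullback ι f₁ f j := IsPullback.of_hasPullback f j
    let g₁ : Spec Γ(Y, V) ⟶ pullback f j := pullback.lift (j ≫ s) (𝟙 _) (by
      rw [Category.assoc, hs, Category.comp_id, Category.id_comp])
    have hg₁ : g₁ ≫ f₁ = 𝟙 _ := pullback.lift_snd _ _ _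
    have hg₁ι : g₁ ≫ ι = j ≫ s := pullback.lift_fst _ _ _
    have hsc : MoreMor.sectionComponents f₁ g₁ = ι ⁻¹' MoreMor.sectionComponents f s :=
      Groth.Agent.S1324.result f s hs f₁ ι j hsq g₁ hg₁ hg₁ι
    have h1 : IsLocallyConstructible (MoreMor.sectionComponents f₁ g₁) :=
      isLocallyConstructible_sectionComponents_affine (A := Γ(Y, V)) f₁ g₁ hg₁
    rw [hsc] at h1
    exact isLocallyConstructible_range_of_preimage ι ι.isOpenEmbedding _ h1

end Groth.Agent.Lib.helper9.NGeom
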