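import Mathlib
import Groth.Prelude.Def_EGA43
import Groth.Agent.Lib.Helper13.EL2
import Groth.Agent.Lib.Helper8.UnivOpenAt

/-!
# Quasi-sections through a point (helper9), part 2: the quasi-finite case

`f' : X' ⟶ S` locally of finite presentation, quasi-finite and universally open at `x'`. Then after
an étale localization `w : S' ⟶ S` (`S'` affine) there is a finite surjective `π : S'' ⟶ S'` of
finite presentation with an `S`-morphism `h : S'' ⟶ X'`, with exactly one point `s''` over `f' x'`,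
`h s'' = x'` and `κ(x') ≅ κ(s'')`.
-/

set_option autoImplicit false
set_option linter.style.haveILetI false
set_option backward.isDefEq.respectTransparency false

namespace Groth.Agent.Lib.helper9.QSec

open AlgebraicGeometry CategoryTheory Limits Topology

universe u

theorem exists_quasiSection_of_quasiFiniteAt {X' S : Scheme.{u}} (f' : X' ⟶ S)
    [LocallyOfFinitePresentation f'] (x' : X') (hqf : f'.QuasiFiniteAt x')
    (huo : EGA43.IsUnivOpenAt f' x') :
    ∃ (S' S'' : Scheme.{u}) (_ : IsAffine S') (w : S' ⟶ S) (π : S'' ⟶ S') (h : S'' ⟶ X'),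
      Etale w ∧ IsFinite π ∧ Surjective π ∧ LocallyOfFinitePresentation π ∧ h ≫ f' = π ≫ w ∧
      ∃ s'' : S'', (π ≫ w).base ⁻¹' {f'.base x'} = {s''} ∧ h.base s'' = x' ∧
        Function.Bijective (h.residueFieldMap s'') := by
  classical
  obtain ⟨U₀, g, u₀, hg, hgu, hbij, V, v, hvV, hfin, hsv, hfv, huniq, -⟩ :=
    Groth.Agent.Lib.helper13.EL.exists_etale_nbhd_of_quasiFiniteAt f' x' hqf
  haveI := hg
  haveI := hfin
  set p₂ : (V : Scheme.{u}) ⟶ U₀ := V.ι ≫ pullback.snd f' g with hp₂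
  -- openness at `v`
  have hopen : EGA43.IsOpenAt (pullback.snd f' g).base v := huo U₀ g v hfv
  have hnhd : (pullback.snd f' g).base '' (V : Set ↥(pullback f' g)) ∈ 𝓝 u₀ := by
    have := hopen (V : Set ↥(pullback f' g)) (V.isOpen.mem_nhds hvV)
    rwa [hsv] at this
  -- discreteness of the fibre of `g`
  haveI : LocallyQuasiFinite g := by
    constructor
    intro U hU V' hV' e
    have h1 : (g.appLE U V' e).hom.FiniteType :=
      HasRingHomProperty.appLE (P := @LocallyOfFiniteType) g inferInstance ⟨U, hU⟩ ⟨V', hV'⟩ e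
    have h2 : (g.appLE U V' e).hom.FormallyUnramified :=
      HasRingHomProperty.appLE (P := @FormallyUnramified) g inferInstance ⟨U, hU⟩ ⟨V', hV'⟩ e
    algebraize [(g.appLE U V' e).hom]
    show Algebra.QuasiFinite _ _
    infer_instance
  have hdisc := g.isDiscrete_preimage_singleton (f'.base x')
  obtain ⟨O, hO, hOeq⟩ := isDiscrete_iff_forall_mem_exists_isOpen.mp hdisc u₀ hgu
  have hu₀O : u₀ ∈ O := by
    have : u₀ ∈ O ∩ g.base ⁻¹' {f'.base x'} := by rw [hOeq]; rfl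
    exact this.1
  obtain ⟨N, hNsub, hN, hu₀N⟩ := mem_nhds_iff.mp hnhd
  obtain ⟨S'₀, hS'₀, hu₀S', hS'₀sub⟩ := exists_isAffineOpen_mem_and_subset (x := u₀)
    (U := ⟨N ∩ O, hN.inter hO⟩) ⟨hu₀N, hu₀O⟩
  haveI : IsAffine (S'₀ : Scheme.{u}) := hS'₀
  set π : ((p₂ ⁻¹ᵁ S'₀ : (V : Scheme.{u}).Opens) : Scheme.{u}) ⟶ (S'₀ : Scheme.{u}) :=
    p₂ ∣_ S'₀ with hπ
  have hπι : π ≫ S'₀.ι = (p₂ ⁻¹ᵁ S'₀).ι ≫ p₂ := morphismRestrict_ι p₂ S'₀
  set h : ((p₂ ⁻¹ᵁ S'₀ : (V : Scheme.{u}).Opens) : Scheme.{u}) ⟶ X' :=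
    (p₂ ⁻¹ᵁ S'₀).ι ≫ V.ι ≫ pullback.fst f' g with hh
  have hvS : (⟨v, hvV⟩ : (V : Scheme.{u})) ∈ p₂ ⁻¹ᵁ S'₀ := by
    change p₂.base ⟨v, hvV⟩ ∈ S'₀
    have : p₂.base ⟨v, hvV⟩ = u₀ := by
      rw [hp₂, Scheme.Hom.comp_apply]
      exact hsv
    rw [this]
    exact hu₀S'
  set s'' : ((p₂ ⁻¹ᵁ S'₀ : (V : Scheme.{u}).Opens) : Scheme.{u}) := ⟨⟨v, hvV⟩, hvS⟩ with hs''
  have hpt : ∀ t : ((p₂ ⁻¹ᵁ S'₀ : (V : Scheme.{u}).Opens) : Scheme.{u}),
      (S'₀.ι.base (π.base t)) = (pullback.snd f' g).base (V.ι.base ((p₂ ⁻¹ᵁ S'₀).ι.base t)) := by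
    intro t
    rw [← Scheme.Hom.comp_apply, hπι, Scheme.Hom.comp_apply]
    rfl
  haveI : LocallyOfFinitePresentation p₂ := by
    rw [hp₂]; infer_instance
  refine ⟨S'₀, _, hS'₀, S'₀.ι ≫ g, π, h, inferInstance, inferInstance, ⟨?_⟩, inferInstance, ?_,
    s'', ?_, ?_, ?_⟩
  · -- surjectivity
    intro t
    have ht : t.1 ∈ (pullback.snd f' g).base '' (V : Set ↥(pullback f' g)) :=
      hNsub (hS'₀sub t.2).1
    obtain ⟨v', hv'V, hv't⟩ := ht
    have hv'S : (⟨v', hv'V⟩ : (V : Scheme.{u})) ∈ p₂ ⁻¹ᵁ S'₀ := by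
      change p₂.base ⟨v', hv'V⟩ ∈ S'₀
      have : p₂.base ⟨v', hv'V⟩ = t.1 := by
        rw [hp₂, Scheme.Hom.comp_apply]
        exact hv't
      rw [this]
      exact t.2
    refine ⟨⟨⟨v', hv'V⟩, hv'S⟩, ?_⟩
    apply S'₀.ι.isOpenEmbedding.injective
    rw [hpt]
    exact hv't
  · -- commutativity
    rw [hh, ← Category.assoc π, hπι, hp₂]
    simp only [Category.assoc]
    rw [pullback.condition]
  · -- uniqueness of the point over `f' x'`
    ext t
    simp only [Set.mem_preimage, Set.mem_singleton_iff]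
    constructor
    · intro ht
      have h1 : g.base (S'₀.ι.base (π.base t)) = f'.base x' := by
        rw [← Scheme.Hom.comp_apply, ← Scheme.Hom.comp_apply]
        exact ht
      have h2 : S'₀.ι.base (π.base t) ∈ O ∩ g.base ⁻¹' {f'.base x'} :=
        ⟨(hS'₀sub (π.base t).2).2, h1⟩
      rw [hOeq] at h2
      have h3 : (pullback.snd f' g).base (V.ι.base ((p₂ ⁻¹ᵁ S'₀).ι.base t)) = u₀ := by
        rw [← hpt]; exact h2
      have h4 := huniq _ ((p₂ ⁻¹ᵁ S'₀).ι.base t).2 h3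
      apply (p₂ ⁻¹ᵁ S'₀).ι.isOpenEmbedding.injective
      apply V.ι.isOpenEmbedding.injective
      exact h4
    · intro ht
      rw [ht, Scheme.Hom.comp_apply, Scheme.Hom.comp_apply]
      have h1 : S'₀.ι.base (π.base s'') = u₀ := by
        rw [hpt]; exact hsv
      rw [h1]
      exact hgu
  · exact hfv
  · -- residue fields
    rw [hh, Scheme.residueFieldMap_comp, Scheme.residueFieldMap_comp]
    have h1 : Function.Bijective ((pullback.fst f' g).residueFieldMap v) :=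
      Groth.Agent.Lib.helper13.EL.bijective_residueFieldMap_fst v (by rw [hsv]; exact hbij)
    have h2 := ConcreteCategory.bijective_of_isIso
      (V.ι.residueFieldMap ((p₂ ⁻¹ᵁ S'₀).ι.base s''))
    have h3 := ConcreteCategory.bijective_of_isIso ((p₂ ⁻¹ᵁ S'₀).ι.residueFieldMap s'')
    exact (h3.comp h2).comp h1

end Groth.Agent.Lib.helper9.QSec
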