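import Mathlib
import Groth.Agent.Lib.Helper9.EtaleNormalSection

/-!
# Sections of finite étale covers from generic data, with general uniqueness (helper9)

* `bijective_residueFieldMap_of_comp`: if `s ≫ q` induces an isomorphism of residue fields at `t`
  then so does `q` at `s t`.
* `bijective_residueFieldMap_of_isPreimmersion`: preimmersions induce isomorphisms on residue
  fields.
* `exists_section_of_generic'`: the section of `exists_section_of_generic`, with uniqueness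
  against arbitrary test morphisms `a : T ⟶ Y`, `s : T ⟶ W` with `s ≫ q = a`.
-/

set_option autoImplicit false

namespace Groth.Agent.Lib.helper9

universe u

open AlgebraicGeometry CategoryTheory Limits TopologicalSpace

namespace EtaleNormal

variable {W Y X : Scheme.{u}}

/-- If `s ≫ q` induces a bijection of residue fields at `t`, so does `q` at `s t`. -/
lemma bijective_residueFieldMap_of_comp {T : Scheme.{u}} (s : T ⟶ W) (q : W ⟶ Y) (t : T)
    (h : Function.Bijective ((s ≫ q).residueFieldMap t).hom) :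
    Function.Bijective (q.residueFieldMap (s t)).hom := by
  have h1 : IsIso ((s ≫ q).residueFieldMap t) := (ConcreteCategory.isIso_iff_bijective _).mpr h
  rw [Scheme.residueFieldMap_comp] at h1
  have hb := (ConcreteCategory.isIso_iff_bijective _).mp h1
  have hinj : Function.Injective (s.residueFieldMap t).hom := RingHom.injective _
  have hsurj : Function.Surjective (s.residueFieldMap t).hom := by
    intro z
    obtain ⟨x, hx⟩ := hb.2 z
    exact ⟨(q.residueFieldMap (s t)).hom x, hx⟩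
  have h2 : IsIso (s.residueFieldMap t) :=
    (ConcreteCategory.isIso_iff_bijective _).mpr ⟨hinj, hsurj⟩
  have h3 : IsIso (q.residueFieldMap (s t)) :=
    @IsIso.of_isIso_comp_right _ _ _ _ _ _ (s.residueFieldMap t) h2 h1
  exact (ConcreteCategory.isIso_iff_bijective _).mp h3

/-- Morphisms surjective on stalks (e.g. preimmersions) induce bijections on residue fields. -/
lemma bijective_residueFieldMap_of_surjectiveOnStalks {A B : Scheme.{u}} (f : A ⟶ B)
    [SurjectiveOnStalks f] (x : A) : Function.Bijective (f.residueFieldMap x).hom := by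
  refine ⟨RingHom.injective _, ?_⟩
  intro z
  obtain ⟨z', rfl⟩ := A.residue_surjective x z
  obtain ⟨w, rfl⟩ := f.stalkMap_surjective x z'
  refine ⟨B.residue (f x) w, ?_⟩
  have := congrArg (fun φ => φ.hom w) (Scheme.residue_residueFieldMap f x)
  simpa using this

/-- **Sections from generic data, general uniqueness.**  As `exists_section_of_generic`, with the
uniqueness statement against arbitrary test objects. -/
theorem exists_section_of_generic' [IsIntegral X] (p : Y ⟶ X) [Etale p] (q : W ⟶ Y) [IsFinite q]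
    [Etale q] (hY : ∀ y : Y, IsDomain (Y.presheaf.stalk y))
    (hW : ∀ w : W, IsDomain (W.presheaf.stalk w))
    (ω : ∀ ζ : Y, p ζ = genericPoint X → W) (hqω : ∀ ζ h, q (ω ζ h) = ζ)
    (hres : ∀ ζ h, Function.Bijective (q.residueFieldMap (ω ζ h)).hom) :
    ∃ σ : Y ⟶ W, σ ≫ q = 𝟙 Y ∧
      ∀ (T : Scheme.{u}) (a : T ⟶ Y) (s : T ⟶ W), s ≫ q = a →
        (∀ (t : T) (ζ : Y) (h : p ζ = genericPoint X), ζ ⤳ a t → ω ζ h ⤳ s t) → a ≫ σ = s := by
  haveI : LocallyQuasiFinite p := Groth.Agent.S5067.locallyQuasiFinite_of_unramified p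
  haveI : LocallyQuasiFinite (q ≫ p) :=
    Groth.Agent.S5067.locallyQuasiFinite_of_unramified (q ≫ p)
  let ι : Type u := {ζ : Y // p ζ = genericPoint X}
  have hω : ∀ ζ : ι, (q ≫ p) (ω ζ.1 ζ.2) = genericPoint X := fun ζ => by
    rw [Scheme.Hom.comp_apply, hqω]; exact ζ.2
  have hζ' : ∀ ζ : ι, p (q (ω ζ.1 ζ.2)) = genericPoint X := fun ζ => by rw [hqω]; exact ζ.2
  let Yp : ι → Y.Opens := fun ζ => genOpen p hY (q (ω ζ.1 ζ.2)) (hζ' ζ)
  have hmemYp : ∀ (ζ : ι) (y : Y), y ∈ Yp ζ ↔ ζ.1 ⤳ y := fun ζ y => by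
    show q (ω ζ.1 ζ.2) ⤳ y ↔ ζ.1 ⤳ y
    rw [hqω]
  choose τ hτq hτW hτu using fun ζ : ι =>
    exists_section_on_piece p q hY hW (ω ζ.1 ζ.2) (hω ζ) (hζ' ζ) (hres ζ.1 ζ.2)
  have hcov : ⨆ ζ, Yp ζ = ⊤ := by
    rw [eq_top_iff]
    intro y _
    obtain ⟨ζ, hζ, hy⟩ := exists_generic_specializes p y
    exact TopologicalSpace.Opens.mem_iSup.mpr ⟨⟨ζ, hζ⟩, (hmemYp ⟨ζ, hζ⟩ y).mpr hy⟩
  have hdisj : ∀ ζ ζ' : ι, ζ ≠ ζ' → IsEmpty ((Yp ζ ⊓ Yp ζ' : Y.Opens) : Scheme.{u}) := by
    intro ζ ζ' hne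
    refine ⟨fun y => hne (Subtype.ext ?_)⟩
    haveI := hY y.1
    exact generic_unique p y.1 ζ.2 ζ'.2 ((hmemYp ζ y.1).mp y.2.1) ((hmemYp ζ' y.1).mp y.2.2)
  have compat : ∀ ζ ζ' : ι, Y.homOfLE (inf_le_left : Yp ζ ⊓ Yp ζ' ≤ Yp ζ) ≫ τ ζ =
      Y.homOfLE (inf_le_right : Yp ζ ⊓ Yp ζ' ≤ Yp ζ') ≫ τ ζ' := by
    intro ζ ζ'
    by_cases h : ζ = ζ'
    · subst h; rfl
    · haveI := hdisj ζ ζ' h
      exact (isInitialOfIsEmpty).hom_ext _ _
  obtain ⟨σ, hσ, hext⟩ := exists_glue_cover Yp hcov τ compat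
  refine ⟨σ, ?_, ?_⟩
  · apply hext
    intro ζ
    rw [← Category.assoc, hσ, hτq, Category.comp_id]
  · intro T a s hs hsω
    have hTcov : IsOpenCover (fun ζ : ι => a ⁻¹ᵁ Yp ζ) := by
      show ⨆ ζ : ι, a ⁻¹ᵁ Yp ζ = ⊤
      rw [eq_top_iff]
      intro t _
      obtain ⟨ζ, hζ, hy⟩ := exists_generic_specializes p (a t)
      exact TopologicalSpace.Opens.mem_iSup.mpr ⟨⟨ζ, hζ⟩, (hmemYp ⟨ζ, hζ⟩ (a t)).mpr hy⟩
    refine Scheme.Cover.hom_ext (T.openCoverOfIsOpenCover _ hTcov) _ _ fun ζ => ?_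
    show (a ⁻¹ᵁ Yp ζ).ι ≫ a ≫ σ = (a ⁻¹ᵁ Yp ζ).ι ≫ s
    rw [← Category.assoc, ← morphismRestrict_ι, Category.assoc, hσ]
    apply hτu
    · rw [Category.assoc, hs, morphismRestrict_ι]
    · intro t
      have htY : ζ.1 ⤳ a t.1 := (hmemYp ζ (a t.1)).mp t.2
      rw [Scheme.Hom.comp_apply]
      exact hsω t.1 ζ.1 ζ.2 htY

end EtaleNormal

end Groth.Agent.Lib.helper9
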