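import Groth.Agent.Lib.Helper9.QFAff5

/-!
# Quasi-sections through a point (helper9), part 1: general lemmas

* `QFAff.main_core`: the core of S6083 with the hypotheses on the generic point `z` in terms of
  specialization, maximality in the fibre and residue transcendence degree.
* `isUnivOpenAt_comp_left`: precomposition with a universally open morphism.
* `isUnivOpenAt_of_comp_mono`: cancellation of a monomorphism on the right.
-/

set_option autoImplicit false
set_option linter.style.haveILetI false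
set_option backward.isDefEq.respectTransparency false

namespace Groth.Agent.Lib.helper9.QFAff

open AlgebraicGeometry CategoryTheory Limits Topology
open Groth.Agent.Lib.helper3 Groth.Agent.Lib.helper3.DimIneq

universe u

theorem main_core (X S : Scheme.{u}) (f : X ⟶ S) [LocallyOfFinitePresentation f]
    (x : X) (n : ℕ)
    (u : X ⟶ 𝔸(ULift.{u} (Fin n); S)) [LocallyQuasiFinite u]
    (hu : u ≫ (𝔸(ULift.{u} (Fin n); S) ↘ S) = f)
    (z : X) (hzx : z ⤳ x) (hfz : f.base z = f.base x)
    (hzmax : ∀ z' : X, z' ⤳ z → f.base z' = f.base z → z' = z)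
    (htdz : td (f.residueFieldMap z).hom = (n : Cardinal.{u}))
    (hopen : EGA43.IsUnivOpenAt f z) :
    EGA43.IsUnivOpenAt u x := by
  haveI : LocallyOfFinitePresentation (u ≫ (𝔸(ULift.{u} (Fin n); S) ↘ S)) := by
    rw [hu]; infer_instance
  haveI : LocallyOfFinitePresentation u :=
    Groth.Agent.Lib.Helper18.RelSmoothFiber.locallyOfFinitePresentation_of_comp u
      (𝔸(ULift.{u} (Fin n); S) ↘ S) inferInstance inferInstance
  apply isUnivOpenAt_of_valuative u x
  intro R _ _ _ m
  set a : Spec (CommRingCat.of R) ⟶ S := m ≫ (𝔸(ULift.{u} (Fin n); S) ↘ S) with ha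
  have hAff := AffineSpace.isPullback_map (n := ULift.{u} (Fin n)) a
  obtain ⟨σ, hσ1, -⟩ : ∃ σ : Spec (CommRingCat.of R) ⟶ 𝔸(ULift.{u} (Fin n); Spec (CommRingCat.of R)),
      σ ≫ AffineSpace.map (ULift.{u} (Fin n)) a = m ∧
        σ ≫ (𝔸(ULift.{u} (Fin n); Spec (CommRingCat.of R)) ↘ Spec (CommRingCat.of R)) = 𝟙 _ :=
    ⟨hAff.lift m (𝟙 _) (by rw [Category.id_comp]), hAff.lift_fst _ _ _, hAff.lift_snd _ _ _⟩
  clear_value a
  subst hσ1
  set mapA := AffineSpace.map (ULift.{u} (Fin n)) a with hmapA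
  set π := pullback.fst u mapA with hπ
  set uR := pullback.snd u mapA with huR
  have hXR : IsPullback π uR u mapA := IsPullback.of_hasPullback u mapA
  have hbig : IsPullback π
      (uR ≫ (𝔸(ULift.{u} (Fin n); Spec (CommRingCat.of R)) ↘ Spec (CommRingCat.of R))) f a := by
    have := hXR.paste_vert hAff
    rwa [hu] at this
  haveI : LocallyOfFiniteType f := inferInstance
  haveI : LocallyOfFiniteType
      (uR ≫ (𝔸(ULift.{u} (Fin n); Spec (CommRingCat.of R)) ↘ Spec (CommRingCat.of R))) :=
    inferInstance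
  have hQ := FinBC.isPullback_baseMap u mapA σ
  intro q hq
  set xt := (FinBC.baseMap u mapA σ).base q with hxt
  have hπx : π.base xt = x := by
    rw [hxt, hπ, FinBC.baseMap_fst_apply]; exact hq
  obtain ⟨z₀, hz₀x, hz₀π, hz₀f⟩ := exists_generization_fibre_of_isPullback hbig xt z
    (by rw [hπx]; exact hzx) (by rw [hπx, hfz])
  obtain ⟨z₁, N, hz₁z₀, hz₁f, hz₁max, hz₁td, hz₁fd⟩ := EquidimIrr.exists_maximal_fibre_point
    (uR ≫ (𝔸(ULift.{u} (Fin n); Spec (CommRingCat.of R)) ↘ Spec (CommRingCat.of R))) z₀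
  have hN : N = n := by
    have h1 := FibreDimBC.fibreDimAt_eq_of_isPullback f a π _ hbig z₀
    rw [hz₀π, RelDim.fibreDimAt_eq_td_of_forall f z hzmax n htdz, hz₁fd] at h1
    exact_mod_cast h1
  have hz₁π : π.base z₁ = z := by
    apply hzmax
    · rw [← hz₀π]; exact hz₁z₀.map π.continuous
    · have e1 : f.base (π.base z₁) = a.base ((uR ≫ (𝔸(ULift.{u} (Fin n);
          Spec (CommRingCat.of R)) ↘ Spec (CommRingCat.of R))).base z₁) := by
        rw [← Scheme.Hom.comp_apply, ← Scheme.Hom.comp_apply, hbig.w]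
      have e2 : f.base (π.base z₀) = a.base ((uR ≫ (𝔸(ULift.{u} (Fin n);
          Spec (CommRingCat.of R)) ↘ Spec (CommRingCat.of R))).base z₀) := by
        rw [← Scheme.Hom.comp_apply, ← Scheme.Hom.comp_apply, hbig.w]
      rw [e1, hz₁f, ← e2, hz₀π]
  have hopenR := Groth.Agent.Lib.helper8.isUnivOpenAt_of_isPullback hopen hbig z₁ hz₁π
  exact exists_generization_val R n uR z₁ xt (hz₁z₀.trans hz₀x) hopenR
    (by rw [hz₁td, hN]) hQ q rfl

end Groth.Agent.Lib.helper9.QFAff

namespace Groth.Agent.Lib.helper9.QSec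

open AlgebraicGeometry CategoryTheory Limits Topology

universe u

variable {X Y : Scheme.{u}}

/-- Precomposition with a universally open morphism preserves universal openness at a point. -/
theorem isUnivOpenAt_comp_left {W : Scheme.{u}} (j : W ⟶ X) [UniversallyOpen j] (f : X ⟶ Y)
    (w : W) (h : EGA43.IsUnivOpenAt f (j.base w)) : EGA43.IsUnivOpenAt (j ≫ f) w := by
  intro Y' g' x' hx'
  set a : pullback (j ≫ f) g' ⟶ pullback f g' :=
    pullback.lift (pullback.fst _ _ ≫ j) (pullback.snd _ _)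
      (by rw [Category.assoc, pullback.condition]) with ha
  have ha1 : a ≫ pullback.fst f g' = pullback.fst (j ≫ f) g' ≫ j := pullback.lift_fst _ _ _
  have ha2 : a ≫ pullback.snd f g' = pullback.snd (j ≫ f) g' := pullback.lift_snd _ _ _
  have sq : IsPullback (pullback.fst (j ≫ f) g') a j (pullback.fst f g') := by
    refine (IsPullback.of_right (h₁₁ := a) (h₁₂ := pullback.snd f g') (h₂₁ := j) (h₂₂ := f)
      (v₁₁ := pullback.fst (j ≫ f) g') (v₁₂ := pullback.fst f g') (v₁₃ := g') ?_ ha1
      (IsPullback.of_hasPullback f g').flip).flip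
    rw [ha2]
    exact (IsPullback.of_hasPullback (j ≫ f) g').flip
  haveI : UniversallyOpen a := MorphismProperty.of_isPullback (P := @UniversallyOpen) sq inferInstance
  have h1 : EGA43.IsOpenAt (pullback.snd f g').base (a.base x') := by
    apply h Y' g' (a.base x')
    rw [← Scheme.Hom.comp_apply, ha1, Scheme.Hom.comp_apply, hx']
  have h2 : (pullback.snd (j ≫ f) g').base = (pullback.snd f g').base ∘ a.base := by
    rw [← ha2]; rfl
  rw [h2]
  exact Groth.Agent.Lib.helper8.isOpenAt_comp _ _ x'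
    (Groth.Agent.Lib.helper8.isOpenAt_of_isOpenMap _ a.isOpenMap x') h1

/-- Cancellation of a monomorphism on the right. -/
theorem isUnivOpenAt_of_comp_mono {V : Scheme.{u}} (g : X ⟶ V) (ι : V ⟶ Y) [Mono ι] (x : X)
    (h : EGA43.IsUnivOpenAt (g ≫ ι) x) : EGA43.IsUnivOpenAt g x := by
  intro Y' g' x' hx'
  have sq : IsPullback (pullback.fst g g') (pullback.snd g g') (g ≫ ι) (g' ≫ ι) :=
    IsPullback.of_isLimit (pullbackIsPullbackOfCompMono g g' ι)
  exact Groth.Agent.Lib.helper8.isOpenAt_snd_of_isPullback h sq x' hx'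

end Groth.Agent.Lib.helper9.QSec
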