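import Mathlib
import Groth.Prelude.Def_EGA43
import Groth.Agent.Lib.Helper4.UnivOpenDvr5

/-!
# Universal openness at a point from openness of the base changes to affine spaces (helper9)

EGA IV 14.3-type criterion (Noetherian base): if for every `n` the base change of `f` to
`Spec A₀[T₁,…,Tₙ]` is open at the points over `x`, then `f` satisfies the criterion over discrete
valuation rings at `x`, hence is universally open at `x`.
-/

set_option autoImplicit false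
set_option linter.style.haveILetI false
set_option backward.isDefEq.respectTransparency false
set_option backward.isDefEq.respectTransparency.types false

namespace Groth.Agent.Lib.helper9.UO

open AlgebraicGeometry CategoryTheory Limits TensorProduct
open Groth.Agent.Lib.helper4.UnivOpenDvr1 Groth.Agent.Lib.helper4.UnivOpenDvr3
  Groth.Agent.Lib.helper4.UnivOpenDvr4 Groth.Agent.Lib.helper4.UnivOpenDvr5

universe u

variable {X Y : Scheme.{u}}

/-- **Core**: openness of the base changes to polynomial rings gives lifting of the generic point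
for arbitrary domains, in an affine chart. -/
theorem exists_generization_core_of_an (f : X ⟶ Y) {A₀ B : Type u} [CommRing A₀] [CommRing B]
    [Algebra A₀ B] (a : Spec (CommRingCat.of B) ⟶ X) (b : Spec (CommRingCat.of A₀) ⟶ Y)
    [IsOpenImmersion a] [IsOpenImmersion b]
    (hab : a ≫ f = Spec.map (CommRingCat.ofHom (algebraMap A₀ B)) ≫ b) (x : X)
    (hxa : x ∈ Set.range a)
    (H : ∀ (n : ℕ) (z : ↥(pullback f (gT b (MvPolynomial (ULift.{u} (Fin n)) A₀)))),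
      (pullback.fst f (gT b (MvPolynomial (ULift.{u} (Fin n)) A₀))) z = x →
      EGA43.IsOpenAt (pullback.snd f (gT b (MvPolynomial (ULift.{u} (Fin n)) A₀))) z)
    (V : Type u) [CommRing V] [IsDomain V] [Algebra A₀ V]
    (x' : ↥(pullback f (gT b V))) (hx' : (pullback.fst f (gT b V)) x' = x) :
    ∃ z' : ↥(pullback f (gT b V)), z' ⤳ x' ∧
      ((pullback.snd f (gT b V)) z' : PrimeSpectrum V).asIdeal = ⊥ := by
  by_contra hcon
  push Not at hcon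
  obtain ⟨𝔭, rfl⟩ := mem_range_jT f a b hab V x' (hx' ▸ hxa)
  haveI hPprime : 𝔭.asIdeal.IsPrime := 𝔭.isPrime
  have hno : ¬ ∃ Q : Ideal (B ⊗[A₀] V), Q.IsPrime ∧ Q ≤ 𝔭.asIdeal ∧
      Q.comap (Algebra.TensorProduct.includeRight : V →ₐ[A₀] B ⊗[A₀] V).toRingHom = ⊥ := by
    rintro ⟨Q, hQ, hQP, hQ0⟩
    let 𝔮 : PrimeSpectrum (B ⊗[A₀] V) := ⟨Q, hQ⟩
    have hsp : 𝔮 ⤳ 𝔭 := (PrimeSpectrum.le_iff_specializes 𝔮 𝔭).mp hQP
    refine hcon (jT f a b hab V 𝔮) (hsp.map (jT f a b hab V).continuous) ?_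
    rw [← Scheme.Hom.comp_apply, jT_snd]
    exact hQ0
  obtain ⟨A₁, hA₁, t₁, c₁, ht₁, hc₁P, hc₁t⟩ := exists_fg_subalgebra_of_no_prime 𝔭.asIdeal hno
  haveI hft : Algebra.FiniteType A₀ A₁ := (Subalgebra.fg_iff_finiteType A₁).mp hA₁
  obtain ⟨n, π₀, hπ₀⟩ := Algebra.FiniteType.iff_quotient_mvPolynomial''.1 hft
  let π : MvPolynomial (ULift.{u} (Fin n)) A₀ →ₐ[A₀] A₁ :=
    π₀.comp (MvPolynomial.rename ULift.down)
  have hπ : Function.Surjective π :=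
    hπ₀.comp (MvPolynomial.rename_surjective _ ULift.down_surjective)
  let μ : B ⊗[A₀] A₁ →ₐ[A₀] B ⊗[A₀] V := Algebra.TensorProduct.map (AlgHom.id A₀ B) A₁.val
  let Φ : B ⊗[A₀] MvPolynomial (ULift.{u} (Fin n)) A₀ →ₐ[A₀] B ⊗[A₀] A₁ :=
    Algebra.TensorProduct.map (AlgHom.id A₀ B) π
  have hΦ : Function.Surjective Φ :=
    Algebra.TensorProduct.map_surjective (AlgHom.id A₀ B) π Function.surjective_id hπ
  obtain ⟨c', hc'⟩ := hΦ c₁
  obtain ⟨t', ht'⟩ := hπ t₁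
  let 𝔭₀ : PrimeSpectrum (B ⊗[A₀] MvPolynomial (ULift.{u} (Fin n)) A₀) :=
    ⟨𝔭.asIdeal.comap (μ.comp Φ).toRingHom, Ideal.comap_isPrime _ _⟩
  let z : ↥(pullback f (gT b (MvPolynomial (ULift.{u} (Fin n)) A₀))) :=
    jT f a b hab (MvPolynomial (ULift.{u} (Fin n)) A₀) 𝔭₀
  have hzfst : (pullback.fst f (gT b (MvPolynomial (ULift.{u} (Fin n)) A₀))) z = x := by
    rw [← hx', ← Scheme.Hom.comp_apply, ← Scheme.Hom.comp_apply, jT_fst, jT_fst,
      Scheme.Hom.comp_apply, Scheme.Hom.comp_apply]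
    congr 1
    apply PrimeSpectrum.ext
    ext r
    show (μ.comp Φ) (r ⊗ₜ[A₀] (1 : MvPolynomial (ULift.{u} (Fin n)) A₀)) ∈ 𝔭.asIdeal ↔
      (r ⊗ₜ[A₀] (1 : V)) ∈ 𝔭.asIdeal
    simp [μ, Φ]
  have hopen := H n z hzfst
  let D : Set (PrimeSpectrum (B ⊗[A₀] MvPolynomial (ULift.{u} (Fin n)) A₀)) :=
    ↑(PrimeSpectrum.basicOpen c')
  have hzD : 𝔭₀ ∈ D := by
    show c' ∉ 𝔭₀.asIdeal
    intro h
    apply hc₁P
    have h2 : (μ.comp Φ) c' ∈ 𝔭.asIdeal := h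
    rw [AlgHom.comp_apply, hc'] at h2
    exact h2
  have hDopen : IsOpen (X := ↥(Spec (CommRingCat.of
      (B ⊗[A₀] MvPolynomial (ULift.{u} (Fin n)) A₀)))) D := (PrimeSpectrum.basicOpen c').2
  have hU : (jT f a b hab (MvPolynomial (ULift.{u} (Fin n)) A₀)) '' D ∈ nhds z :=
    ((jT f a b hab (MvPolynomial (ULift.{u} (Fin n)) A₀)).isOpenEmbedding.isOpenMap _
      hDopen).mem_nhds ⟨𝔭₀, hzD, rfl⟩
  have himg := hopen _ hU
  let y₁ : PrimeSpectrum A₁ := ⟨(𝔭.asIdeal.comap μ.toRingHom).comap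
    (Algebra.TensorProduct.includeRight : A₁ →ₐ[A₀] B ⊗[A₀] A₁).toRingHom,
    Ideal.comap_isPrime _ _⟩
  have hiy : PrimeSpectrum.comap π.toRingHom y₁ =
      (pullback.snd f (gT b (MvPolynomial (ULift.{u} (Fin n)) A₀))) z := by
    show _ = (jT f a b hab (MvPolynomial (ULift.{u} (Fin n)) A₀) ≫
      pullback.snd f (gT b (MvPolynomial (ULift.{u} (Fin n)) A₀))) 𝔭₀
    rw [jT_snd]
    apply PrimeSpectrum.ext
    ext p
    show μ ((1 : B) ⊗ₜ[A₀] π p) ∈ 𝔭.asIdeal ↔ (μ.comp Φ) ((1 : B) ⊗ₜ[A₀] p) ∈ 𝔭.asIdeal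
    simp [Φ]
  rw [← hiy] at himg
  have hW := (PrimeSpectrum.continuous_comap π.toRingHom).continuousAt.preimage_mem_nhds himg
  obtain ⟨O, hOW, hO, hyO⟩ := mem_nhds_iff.1 hW
  have hbot : (⊥ : PrimeSpectrum A₁) ∈ O :=
    ((PrimeSpectrum.le_iff_specializes ⊥ y₁).1 bot_le).mem_open hO hyO
  obtain ⟨_, ⟨𝔲, h𝔲D, rfl⟩, h𝔲⟩ := hOW hbot
  have h𝔲' : 𝔲.asIdeal.comap (Algebra.TensorProduct.includeRight :
      MvPolynomial (ULift.{u} (Fin n)) A₀ →ₐ[A₀] B ⊗[A₀] MvPolynomial (ULift.{u} (Fin n)) A₀).toRingHom =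
      RingHom.ker π := by
    have h1 : (jT f a b hab (MvPolynomial (ULift.{u} (Fin n)) A₀) ≫
        pullback.snd f (gT b (MvPolynomial (ULift.{u} (Fin n)) A₀))) 𝔲 =
        PrimeSpectrum.comap π.toRingHom ⊥ := h𝔲
    rw [jT_snd] at h1
    have h2 := congrArg PrimeSpectrum.asIdeal h1
    exact h2
  have hker : RingHom.ker Φ ≤ 𝔲.asIdeal := by
    rw [Algebra.TensorProduct.lTensor_ker _ hπ, Ideal.map_le_iff_le_comap]
    exact h𝔲'.ge
  have h0 : c' * ((1 : B) ⊗ₜ[A₀] t') ∈ 𝔲.asIdeal := by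
    apply hker
    rw [RingHom.mem_ker, map_mul, hc']
    have : Φ ((1 : B) ⊗ₜ[A₀] t') = (1 : B) ⊗ₜ[A₀] t₁ := by
      simp [Φ, ht']
    rw [this, hc₁t]
  have h1 : ((1 : B) ⊗ₜ[A₀] t' : B ⊗[A₀] MvPolynomial (ULift.{u} (Fin n)) A₀) ∈ 𝔲.asIdeal :=
    (𝔲.isPrime.mem_or_mem h0).resolve_left h𝔲D
  have h2 : t' ∈ RingHom.ker π := by
    rw [← h𝔲']
    exact h1
  apply ht₁
  rw [← ht']
  exact h2

end Groth.Agent.Lib.helper9.UO
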