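import Mathlib
import Groth.Agent.Lib.Helper9.GUSmoothRed
import Groth.Agent.Lib.Helper9.UnramBrnchGeom

/-!
# Smooth morphisms preserve geometric unibranchness of (possibly non-reduced) stalks (helper9)
-/

set_option autoImplicit false
set_option backward.isDefEq.respectTransparency false

namespace Groth.Agent.Lib.helper9.UnramGeom

open AlgebraicGeometry CategoryTheory Groth.Agent.Lib.helper9.UnramCore

universe u

/-- Stalks of a scheme smooth over a scheme whose stalk satisfies `EULocRedSm` have prime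
nilradical. -/
theorem nilradical_isPrime_stalk_of_smooth {X Y : Scheme.{u}} (f : X ⟶ Y) [Smooth f] (x : X)
    (hEU : EULocRedSm (Y.presheaf.stalk (f x))) : (nilradical (X.presheaf.stalk x)).IsPrime := by
  obtain ⟨V, hV, hfx, -⟩ := TopologicalSpace.Opens.isBasis_iff_nbhd.mp Y.isBasis_affineOpens
    (show f x ∈ (⊤ : Y.Opens) from trivial)
  obtain ⟨W, hW, hxW, e⟩ := TopologicalSpace.Opens.isBasis_iff_nbhd.mp X.isBasis_affineOpens
    (show x ∈ f ⁻¹ᵁ V from hfx)
  let algAB : Algebra Γ(Y, V) Γ(X, W) := (f.appLE V W e).hom.toAlgebra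
  have hsm : Algebra.Smooth Γ(Y, V) Γ(X, W) :=
    HasRingHomProperty.appLE (P := @Smooth) f inferInstance ⟨V, hV⟩ ⟨W, hW⟩ e
  have hqA : (hW.primeIdealOf ⟨x, hxW⟩).asIdeal.under Γ(Y, V) =
      (hV.primeIdealOf ⟨f x, hfx⟩).asIdeal :=
    congrArg PrimeSpectrum.asIdeal (IsAffineOpen.comap_primeIdealOf_appLE V hV W hW e hxW)
  let algAS : Algebra Γ(Y, V) (Y.presheaf.stalk (f x)) :=
    TopCat.Presheaf.algebra_section_stalk Y.presheaf ⟨f x, hfx⟩
  have hlocS := hV.isLocalization_stalk ⟨f x, hfx⟩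
  let algBS : Algebra Γ(X, W) (X.presheaf.stalk x) :=
    TopCat.Presheaf.algebra_section_stalk X.presheaf ⟨x, hxW⟩
  have hlocX := hW.isLocalization_stalk ⟨x, hxW⟩
  exact transfer_local_sm (hV.primeIdealOf ⟨f x, hfx⟩).asIdeal
    (Y.presheaf.stalk (f x))
    (fun G _ => (nilradical G).IsPrime)
    (fun C G _ _ _ _ _ _ _ M _ _ _ => hEU C G M)
    Γ(X, W) (hW.primeIdealOf ⟨x, hxW⟩).asIdeal hqA (X.presheaf.stalk x)

/-- Smooth morphisms preserve geometric unibranchness of stalks (no reducedness needed). -/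
theorem isGeomUnibranch_stalk_of_smooth {X Y : Scheme.{u}} (f : X ⟶ Y) [Smooth f] (x : X)
    (h : CAlg2.IsGeomUnibranch (Y.presheaf.stalk (f x))) :
    CAlg2.IsGeomUnibranch (X.presheaf.stalk x) := by
  apply isGeomUnibranch_stalk_of_etale_nbhds X x
  intro U g u hg hgu
  subst hgu
  have hsm : Smooth (g ≫ f) := inferInstance
  have hnil : (nilradical (U.presheaf.stalk u)).IsPrime :=
    nilradical_isPrime_stalk_of_smooth (g ≫ f) u (euLocRedSm_of_isGeomUnibranch _ h)
  obtain ⟨Z, hZ, huniq⟩ := existsUnique_irreducibleComponent_of_nilradical_isPrime U u hnil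
  rw [Set.encard_eq_one]
  refine ⟨Z, ?_⟩
  ext Z'
  simp only [Set.mem_ofPred_eq, Set.mem_singleton_iff]
  constructor
  · intro hZ'
    exact huniq Z' hZ'
  · rintro rfl
    exact hZ

/-- Affine space over any base is smooth. -/
instance smooth_affineSpace_over (n : Type u) [Finite n] (S : Scheme.{u}) :
    Smooth (𝔸(n; S) ↘ S) := by
  have h1 : Smooth (Limits.terminal.from (Spec (CommRingCat.of (MvPolynomial n (ULift.{u} ℤ))))) := by
    have := Limits.isIso_of_isTerminal specULiftZIsTerminal.{u} Limits.terminalIsTerminal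
      (Limits.terminal.from _)
    rw [← Limits.terminal.comp_from (Spec.map (CommRingCat.ofHom MvPolynomial.C)),
      MorphismProperty.cancel_right_of_respectsIso (P := @Smooth),
      HasRingHomProperty.Spec_iff (P := @Smooth)]
    have h2 : Algebra.Smooth (ULift.{u} ℤ) (MvPolynomial n (ULift.{u} ℤ)) :=
      ⟨inferInstance, inferInstance⟩
    exact (RingHom.smooth_algebraMap (R := ULift.{u} ℤ) (S := MvPolynomial n (ULift.{u} ℤ))).2 h2
  exact MorphismProperty.pullback_fst _ _ h1

end Groth.Agent.Lib.helper9.UnramGeom
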