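import Mathlib
import Groth.Prelude.Def_EGA43
import Groth.Agent.Lib.Helper9.UnibrGeom
import Groth.Agent.Lib.Helper9.UnramGlobal
import Groth.Agent.Lib.Helper13.EL2

/-!
# A morphism quasi-finite at a point over a unibranch point is open there (helper9)

EGA IV 14.4.1-type statement, proved by étale localization of quasi-finite morphisms.
-/

set_option autoImplicit false
set_option backward.isDefEq.respectTransparency false

namespace Groth.Agent.Lib.helper9.UnramGeom

open AlgebraicGeometry CategoryTheory Limits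

universe u

/-- Let `Y` be irreducible, `f : X ⟶ Y` locally of finite type and quasi-finite at `x`, with
`O_{Y, f x}` unibranch, and assume some generization of `x` lies over the generic point of `Y`.
Then `f` is open at `x`. -/
theorem isOpenAt_of_quasiFiniteAt_of_isUnibranch {X Y : Scheme.{u}} [IrreducibleSpace Y]
    (f : X ⟶ Y) [LocallyOfFiniteType f] (x : X) (hx : f.QuasiFiniteAt x)
    (hy : CAlg2.IsUnibranch (Y.presheaf.stalk (f x)))
    (hgen : ∃ ξ : X, ξ ⤳ x ∧ f ξ = genericPoint Y) :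
    EGA43.IsOpenAt f x := by
  obtain ⟨ξ, hξx, hξ⟩ := hgen
  obtain ⟨U, g, u, hg, hgu, hbij, V, v, hvV, hfin, hsv, hfv, huniq, -⟩ :=
    Groth.Agent.Lib.helper13.EL.exists_etale_nbhd_of_quasiFiniteAt f x hx
  obtain ⟨η, hηdef⟩ : ∃ η, η = genericPoint Y := ⟨_, rfl⟩
  rw [← hηdef] at hξ
  have hηgen : ∀ y' : Y, η ⤳ y' := fun y' => hηdef ▸ genericPoint_specializes y'
  -- Step A: unique component through `u`
  have hcomp : {Z : Set ↑U | Z ∈ irreducibleComponents ↑U ∧ u ∈ Z}.encard = 1 :=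
    encard_components_eq_one_of_etaleNbhd g u (f x) ⟨hg, hgu, hbij⟩ hy
  obtain ⟨Z₀, hZ₀⟩ := Set.encard_eq_one.1 hcomp
  -- Step B: points over `η` are maximal
  have hgenU : GeneralizingMap g := Flat.generalizingMap g
  have hlqf : LocallyQuasiFinite g := locallyQuasiFinite_of_unramified g
  have hdisc : ∀ a b : U, g a = η → g b = η → a ⤳ b → a = b := by
    intro a b ha hb hab
    have hd := g.isDiscrete_preimage_singleton η
    have : DiscreteTopology (g ⁻¹' {η}) := hd.to_subtype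
    have h1 : (⟨a, ha⟩ : g ⁻¹' {η}) ⤳ ⟨b, hb⟩ := (subtype_specializes_iff _ _).2 hab
    exact congrArg Subtype.val h1.eq
  have hmax : ∀ u' : U, g u' = η → closure {u'} ∈ irreducibleComponents U := by
    intro u' hu'
    refine ⟨isIrreducible_singleton.closure, ?_⟩
    intro s hs hle
    have hη' := hs.isGenericPoint_genericPoint_closure
    have h1 : u' ∈ closure s := subset_closure (hle (subset_closure rfl))
    have h2 : hs.genericPoint ⤳ u' := hη'.specializes h1
    have h3 : g hs.genericPoint ⤳ η := hu' ▸ h2.map g.continuous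
    have h4 : g hs.genericPoint = η := (h3.antisymm (hηgen _)).eq
    have h5 : hs.genericPoint = u' := hdisc _ _ h4 hu' h2
    rw [← h5]
    exact subset_closure.trans hη'.def.symm.subset
  -- Step C: a generization of `v` over `ξ`
  have hgenfst : GeneralizingMap (pullback.fst f g) := Flat.generalizingMap _
  obtain ⟨v', hv'v, hv'ξ⟩ := hgenfst (a := v) (b := ξ) (hfv ▸ hξx)
  have hv'V : v' ∈ V := hv'v.mem_open V.isOpen hvV
  obtain ⟨u', hu'def⟩ : ∃ u', u' = pullback.snd f g v' := ⟨_, rfl⟩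
  have hu'u : u' ⤳ u := by
    rw [hu'def, ← hsv]
    exact hv'v.map (pullback.snd f g).continuous
  have hu'η : g u' = η := by
    rw [hu'def, ← hξ, ← hv'ξ]
    show (pullback.snd f g ≫ g) v' = (pullback.fst f g ≫ f) v'
    rw [pullback.condition]
  have hZ₀' : ∀ z : U, g z = η → z ⤳ u → closure {z} = Z₀ := by
    intro z hz hzu
    have h1 : closure {z} ∈ {Z : Set ↑U | Z ∈ irreducibleComponents ↑U ∧ u ∈ Z} :=
      ⟨hmax z hz, specializes_iff_mem_closure.1 hzu⟩
    rw [hZ₀] at h1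
    exact h1
  -- Step D: a neighbourhood of `u` inside `closure {u'}`
  obtain ⟨W₀, huW₀, hfinW₀⟩ := exists_nhd_finite_fibre g u η
  obtain ⟨T, hTdef⟩ : ∃ T : Set U,
      T = ⋃ z ∈ ((W₀ : Set U) ∩ g ⁻¹' {η}) \ {z | z ⤳ u}, closure {z} := ⟨_, rfl⟩
  have hTcl : IsClosed T := by
    rw [hTdef]
    exact (hfinW₀.subset Set.sdiff_subset).isClosed_biUnion fun _ _ => isClosed_closure
  have huT : u ∉ T := by
    rw [hTdef]
    intro hu
    obtain ⟨z, ⟨-, hz⟩, huz⟩ := Set.mem_iUnion₂.1 hu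
    exact hz (specializes_iff_mem_closure.2 huz)
  have hW : ∀ w : U, w ∈ W₀ → w ∉ T → w ∈ closure {u'} := by
    intro w hwW₀ hwT
    obtain ⟨z, hzw, hz⟩ := hgenU (a := w) (b := η) (hηgen _)
    have hzW₀ : z ∈ W₀ := hzw.mem_open W₀.isOpen hwW₀
    by_cases hzu : z ⤳ u
    · rw [hZ₀' u' hu'η hu'u, ← hZ₀' z hz hzu]
      exact specializes_iff_mem_closure.1 hzw
    · exfalso
      apply hwT
      rw [hTdef]
      exact Set.mem_biUnion (x := z) ⟨⟨hzW₀, hz⟩, hzu⟩ (specializes_iff_mem_closure.1 hzw)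
  -- Step E: the finite map
  have hπcl : IsClosedMap (V.ι ≫ pullback.snd f g) := (V.ι ≫ pullback.snd f g).isClosedMap
  have himg : closure {u'} ⊆ Set.range (V.ι ≫ pullback.snd f g) := by
    have h1 : IsClosed ((V.ι ≫ pullback.snd f g) '' closure {(⟨v', hv'V⟩ : V)}) :=
      hπcl _ isClosed_closure
    have h2 : u' ∈ (V.ι ≫ pullback.snd f g) '' closure {(⟨v', hv'V⟩ : V)} :=
      ⟨⟨v', hv'V⟩, subset_closure rfl, hu'def.symm⟩
    have h3 : closure {u'} ⊆ (V.ι ≫ pullback.snd f g) '' closure {(⟨v', hv'V⟩ : V)} :=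
      h1.closure_subset_iff.2 (Set.singleton_subset_iff.2 h2)
    exact h3.trans (Set.image_subset_range _ _)
  -- Step F: neighbourhoods
  intro N hN
  obtain ⟨N₀, hN₀N, hN₀open, hxN₀⟩ := mem_nhds_iff.1 hN
  obtain ⟨NV, hNVdef⟩ : ∃ NV : Set V, NV = (V.ι ≫ pullback.fst f g) ⁻¹' N₀ := ⟨_, rfl⟩
  have hNVopen : IsOpen NV := by
    rw [hNVdef]
    exact hN₀open.preimage (V.ι ≫ pullback.fst f g).continuous
  have hCcl : IsClosed ((V.ι ≫ pullback.snd f g) '' NVᶜ) := hπcl _ hNVopen.isClosed_compl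
  have huC : u ∉ (V.ι ≫ pullback.snd f g) '' NVᶜ := by
    rintro ⟨w, hw, hwu⟩
    have h1 : w.1 = v := huniq w.1 w.2 hwu
    apply hw
    rw [hNVdef]
    show pullback.fst f g w.1 ∈ N₀
    rw [h1, hfv]
    exact hxN₀
  obtain ⟨O, hOdef⟩ : ∃ O : Set U,
      O = ((W₀ : Set U) ∩ Tᶜ) ∩ ((V.ι ≫ pullback.snd f g) '' NVᶜ)ᶜ := ⟨_, rfl⟩
  have hOopen : IsOpen O := by
    rw [hOdef]
    exact (W₀.isOpen.inter hTcl.isOpen_compl).inter hCcl.isOpen_compl
  have huO : u ∈ O := by
    rw [hOdef]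
    exact ⟨⟨huW₀, huT⟩, huC⟩
  have hO : O ⊆ (V.ι ≫ pullback.snd f g) '' NV := by
    intro w hw
    rw [hOdef] at hw
    obtain ⟨⟨hwW₀, hwT⟩, hwC⟩ := hw
    obtain ⟨t, rfl⟩ := himg (hW w hwW₀ hwT)
    by_contra hcon
    apply hwC
    refine ⟨t, ?_, rfl⟩
    intro htNV
    exact hcon ⟨t, htNV, rfl⟩
  have hgopen : IsOpenMap g := g.isOpenMap
  have h1 : g '' O ∈ nhds (f x) := by
    rw [← hgu]
    exact (hgopen O hOopen).mem_nhds ⟨u, huO, rfl⟩
  refine Filter.mem_of_superset h1 ?_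
  rintro _ ⟨w, hwO, rfl⟩
  obtain ⟨t, htNV, rfl⟩ := hO hwO
  rw [hNVdef] at htNV
  refine ⟨(V.ι ≫ pullback.fst f g) t, hN₀N htNV, ?_⟩
  show (pullback.fst f g ≫ f) t.1 = (pullback.snd f g ≫ g) t.1
  rw [pullback.condition]

end Groth.Agent.Lib.helper9.UnramGeom

namespace Groth.Agent.Lib.helper9.UnramGeom

open AlgebraicGeometry CategoryTheory Limits

universe u

/-- A morphism with dense range between irreducible schemes maps the generic point to the generic
point. -/
theorem map_genericPoint_of_denseRange {X Y : Scheme.{u}} [IrreducibleSpace X] [IrreducibleSpace Y]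
    (f : X ⟶ Y) (h : DenseRange f) : f (genericPoint X) = genericPoint Y := by
  have h1 : IsGenericPoint (f (genericPoint X)) (closure (f '' Set.univ)) :=
    (genericPoint_spec X).image f.continuous
  rw [Set.image_univ, h.closure_range] at h1
  exact ((genericPoint_spec Y).eq h1).symm

end Groth.Agent.Lib.helper9.UnramGeom
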