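import Mathlib
import Groth.Prelude.Def_CAlg2
import Groth.Agent.Lib.Helper24.UnibranchMin
import Groth.Agent.Lib.Helper24.Henselization

/-!
# `CAlg2.IsUnibranch` is invariant under ring isomorphisms (helper9)
-/

set_option autoImplicit false

namespace Groth.Agent.Lib.helper9.UnramCore

universe u

open Groth.Agent.Lib.helper24.Henselization in
/-- Unibranchness is transported along ring isomorphisms. -/
theorem isUnibranch_of_ringEquiv {A A' : Type u} [CommRing A] [IsLocalRing A] [CommRing A']
    [IsLocalRing A'] (e : A ≃+* A') (h : CAlg2.IsUnibranch A) : CAlg2.IsUnibranch A' := by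
  have h1 := (Groth.Agent.Lib.Helper24.Unibranch.isUnibranch_iff_hasUniqueMinimalPrime A
    (Hens A)).1 h
  let algA'S : Algebra A' (Hens A) := ((algebraMap A (Hens A)).comp e.symm.toRingHom).toAlgebra
  have hloc : IsLocalHom (algebraMap A' (Hens A)) := by
    constructor
    intro a ha
    have h2 : IsUnit (algebraMap A (Hens A) (e.symm a)) := ha
    have h3 : IsUnit (e.symm a) := isUnit_of_map_unit (algebraMap A (Hens A)) _ h2
    have h4 := h3.map e
    rwa [RingEquiv.apply_symm_apply] at h4
  have hH : Hensel.IsHenselization A' (Hens A) := by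
    refine ⟨Hensel.IsHenselization.henselian (R := A), ?_⟩
    intro T _ _ f hf
    have hfe : IsLocalHom (f.comp e.toRingHom) := by
      constructor
      intro a ha
      have h2 : IsUnit (f (e a)) := ha
      have h3 : IsUnit (e a) := isUnit_of_map_unit f _ h2
      have h4 := h3.map e.symm
      rwa [RingEquiv.symm_apply_apply] at h4
    obtain ⟨g, hg, hguniq⟩ := Hensel.IsHenselization.universal (R := A) (S := Hens A) T
      (f.comp e.toRingHom) hfe
    refine ⟨g, ?_, ?_⟩
    · ext a
      have h2 := congrArg (fun φ : A →+* T => φ (e.symm a)) hg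
      simp only [RingHom.comp_apply] at h2
      show g (algebraMap A (Hens A) (e.symm a)) = f a
      rw [h2]
      show f (e (e.symm a)) = f a
      rw [RingEquiv.apply_symm_apply]
    · intro g' hg'
      apply hguniq
      ext a
      have h2 := congrArg (fun φ : A' →+* T => φ (e a)) hg'
      simp only [RingHom.comp_apply] at h2
      show g' (algebraMap A (Hens A) a) = f (e a)
      rw [← h2]
      show g' (algebraMap A (Hens A) a) = g' (algebraMap A (Hens A) (e.symm (e a)))
      rw [RingEquiv.symm_apply_apply]
  exact (Groth.Agent.Lib.Helper24.Unibranch.isUnibranch_iff_hasUniqueMinimalPrime A'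
    (Hens A)).2 h1

end Groth.Agent.Lib.helper9.UnramCore
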