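import Mathlib
import Groth.Prelude.Def_EGA43
import Groth.Prelude.Def_CAlg2
import Groth.Agent.Lib.Helper9.UnramBrnch
import Groth.Agent.Lib.Helper9.QFOpen
import Groth.Agent.Lib.Helper9.UnibrTransport

/-!
# Openness of locally quasi-finite morphisms over unibranch bases (helper9)

* generic points of irreducible components (`genericPoints`): maximality, generalizing maps;
* `exists_isAffineOpen_isIrreducible_nbhd`: irreducible affine neighbourhoods in locally Noetherian
  schemes at points whose stalk has prime nilradical;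
* `isOpenAt_of_locallyQuasiFinite_of_isUnibranch`: a locally quasi-finite morphism whose maximal
  points map to maximal points is open at the points over unibranch points.
-/

set_option autoImplicit false
set_option linter.style.haveILetI false
set_option backward.isDefEq.respectTransparency false

namespace Groth.Agent.Lib.helper9.UO

open AlgebraicGeometry CategoryTheory Limits

universe u

section Top

variable {α β : Type*} [TopologicalSpace α] [TopologicalSpace β]

theorem mem_genericPoints_of_forall [QuasiSober α] (x : α) (h : ∀ x' : α, x' ⤳ x → x' = x) :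
    x ∈ genericPoints α := by
  refine ⟨isIrreducible_singleton.closure, fun Z hZ hle => ?_⟩
  obtain ⟨ζ, hζ⟩ := QuasiSober.sober hZ.closure isClosed_closure
  have hxZ : x ∈ closure Z := subset_closure (hle (subset_closure rfl))
  have := h ζ (hζ.specializes hxZ)
  subst this
  rw [hζ.def]
  exact subset_closure

theorem eq_of_specializes_of_mem_genericPoints [T0Space α] {x x' : α} (hx : x ∈ genericPoints α)
    (h : x' ⤳ x) : x' = x := by
  have h1 : closure ({x} : Set α) ≤ closure ({x'} : Set α) :=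
    closure_minimal (Set.singleton_subset_iff.mpr h.mem_closure) isClosed_closure
  have h2 : closure ({x'} : Set α) ≤ closure ({x} : Set α) :=
    hx.2 isIrreducible_singleton.closure h1
  have h3 : x ⤳ x' := by
    rw [specializes_iff_mem_closure]
    exact h2 (subset_closure rfl)
  exact (h.antisymm h3).eq

theorem exists_mem_genericPoints_specializes [QuasiSober α] (x : α) :
    ∃ ξ ∈ genericPoints α, ξ ⤳ x := by
  have hZ := irreducibleComponent_mem_irreducibleComponents x
  obtain ⟨ξ, hξ⟩ := QuasiSober.sober (isIrreducible_irreducibleComponent (x := x))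
    isClosed_irreducibleComponent
  refine ⟨ξ, ?_, hξ.specializes mem_irreducibleComponent⟩
  show closure {ξ} ∈ irreducibleComponents α
  rw [hξ.def]
  exact hZ

theorem specializes_of_mem_genericPoints_of_isIrreducible [QuasiSober α] [T0Space α] {ξ : α}
    (hξ : ξ ∈ genericPoints α) {T : Set α} (hT : IsIrreducible T) (hξT : ξ ∈ T) {z : α}
    (hz : z ∈ T) : ξ ⤳ z := by
  obtain ⟨g, hg⟩ := QuasiSober.sober hT.closure isClosed_closure
  have h1 : g ⤳ ξ := hg.specializes (subset_closure hξT)
  have := eq_of_specializes_of_mem_genericPoints hξ h1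
  subst this
  exact hg.specializes (subset_closure hz)

theorem map_mem_genericPoints_of_generalizingMap [T0Space α] [QuasiSober β] {f : α → β}
    (hf : GeneralizingMap f) {ξ : α} (hξ : ξ ∈ genericPoints α) : f ξ ∈ genericPoints β := by
  apply mem_genericPoints_of_forall
  intro y hy
  obtain ⟨ξ', hξ', rfl⟩ := hf hy
  rw [eq_of_specializes_of_mem_genericPoints hξ hξ']

end Top

/-- Prime nilradical is invariant under ring isomorphisms. -/
theorem nilradical_isPrime_of_ringEquiv {A A' : Type*} [CommRing A] [CommRing A'] (e : A ≃+* A')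
    (h : (nilradical A).IsPrime) : (nilradical A').IsPrime := by
  have h1 : nilradical A' = (nilradical A).comap e.symm.toRingHom := by
    ext a
    rw [Ideal.mem_comap, mem_nilradical, mem_nilradical]
    exact (IsNilpotent.map_iff e.symm.injective).symm
  rw [h1]
  exact Ideal.comap_isPrime _ _

/-- In a locally Noetherian scheme, a point whose stalk has prime nilradical has an irreducible
affine open neighbourhood. -/
theorem exists_isAffineOpen_isIrreducible_nbhd (Y : Scheme.{u}) [IsLocallyNoetherian Y] (y : Y)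
    (hnil : (nilradical (Y.presheaf.stalk y)).IsPrime) :
    ∃ U : Y.Opens, IsAffineOpen U ∧ y ∈ U ∧ IsIrreducible (U : Set Y) := by
  obtain ⟨_, ⟨(U₀ : Y.Opens), hU₀, rfl⟩, hyU₀, -⟩ :=
    Y.isBasis_affineOpens.exists_subset_of_mem_open (Set.mem_univ y) isOpen_univ
  haveI : IsNoetherianRing Γ(Y, U₀) := IsLocallyNoetherian.component_noetherian ⟨U₀, hU₀⟩
  haveI : TopologicalSpace.NoetherianSpace ↥U₀ := noetherianSpace_of_isAffineOpen U₀ hU₀
  let y' : ↥(U₀ : Scheme.{u}) := ⟨y, hyU₀⟩
  have hnil' : (nilradical ((U₀ : Scheme.{u}).presheaf.stalk y')).IsPrime :=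
    nilradical_isPrime_of_ringEquiv (asIso (U₀.ι.stalkMap y')).commRingCatIsoToRingEquiv hnil
  obtain ⟨Z₀, ⟨hZ₀, hyZ₀⟩, huniq⟩ :=
    UnramGeom.existsUnique_irreducibleComponent_of_nilradical_isPrime (U₀ : Scheme.{u}) y' hnil'
  let V' : Set ↥U₀ := (⋃₀ (irreducibleComponents ↥U₀ \ {Z₀}))ᶜ
  have hV'open : IsOpen V' := by
    rw [isOpen_compl_iff, Set.sUnion_eq_biUnion]
    exact TopologicalSpace.NoetherianSpace.finite_irreducibleComponents.sdiff.isClosed_biUnion
      fun W hW ↦ isClosed_of_mem_irreducibleComponents W hW.1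
  have hyV' : y' ∈ V' := by
    rintro ⟨W, ⟨hW, hWne⟩, hyW⟩
    exact hWne (huniq W ⟨hW, hyW⟩)
  have hV'sub : V' ⊆ Z₀ := by
    intro v hv
    by_contra hvZ
    apply hv
    refine ⟨irreducibleComponent v, ⟨irreducibleComponent_mem_irreducibleComponents v, ?_⟩,
      mem_irreducibleComponent⟩
    intro h
    apply hvZ
    rw [← Set.mem_singleton_iff.1 h]
    exact mem_irreducibleComponent
  have hV'irr : IsIrreducible V' := ⟨⟨y', hyV'⟩, hZ₀.1.isPreirreducible.open_subset hV'open hV'sub⟩
  have hWirr : IsIrreducible (U₀.ι '' V') := hV'irr.image _ U₀.ι.continuous.continuousOn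
  have hWopen : IsOpen (U₀.ι '' V') := U₀.ι.isOpenEmbedding.isOpenMap _ hV'open
  have hyW : y ∈ U₀.ι '' V' := ⟨y', hyV', rfl⟩
  obtain ⟨_, ⟨(U : Y.Opens), hU, rfl⟩, hyU, hUW⟩ :=
    Y.isBasis_affineOpens.exists_subset_of_mem_open hyW hWopen
  exact ⟨U, hU, hyU, ⟨y, hyU⟩, hWirr.isPreirreducible.open_subset U.2 hUW⟩

/-- A locally quasi-finite morphism to a locally Noetherian scheme that maps maximal points to
maximal points is open at every point over a unibranch point. -/
theorem isOpenAt_of_locallyQuasiFinite_of_isUnibranch {X Y : Scheme.{u}} (f : X ⟶ Y)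
    [LocallyQuasiFinite f] [LocallyOfFiniteType f] [IsLocallyNoetherian Y]
    (hdom : ∀ ξ ∈ genericPoints ↥X, f ξ ∈ genericPoints ↥Y) (x : X)
    (hy : CAlg2.IsUnibranch (Y.presheaf.stalk (f x))) : EGA43.IsOpenAt f x := by
  have hnil : (nilradical (Y.presheaf.stalk (f x))).IsPrime :=
    (Ideal.Quotient.isDomain_iff_prime _).1 hy.1
  obtain ⟨U, hU, hyU, hirr⟩ := exists_isAffineOpen_isIrreducible_nbhd Y (f x) hnil
  haveI : IrreducibleSpace ↥(U : Scheme.{u}) := isIrreducible_iff_irreducibleSpace.1 hirr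
  let x' : ↥(f ⁻¹ᵁ U : Scheme.{u}) := ⟨x, hyU⟩
  have h3 : U.ι ((f ∣_ U) x') = f x := by
    rw [← Scheme.Hom.comp_apply, morphismRestrict_ι]
    rfl
  have hopen : EGA43.IsOpenAt (f ∣_ U) x' := by
    apply UnramGeom.isOpenAt_of_quasiFiniteAt_of_isUnibranch (f ∣_ U) x'
      ((f ∣_ U).quasiFiniteAt x')
    · have hy' : CAlg2.IsUnibranch (Y.presheaf.stalk (U.ι ((f ∣_ U) x'))) := by
        rw [h3]
        exact hy
      exact UnramCore.isUnibranch_of_ringEquiv
        (asIso (U.ι.stalkMap ((f ∣_ U) x'))).commRingCatIsoToRingEquiv hy'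
    · obtain ⟨ξ, hξ, hξx⟩ := exists_mem_genericPoints_specializes x
      have hξU : ξ ∈ f ⁻¹ᵁ U := hξx.mem_open (f ⁻¹ᵁ U).2 hyU
      refine ⟨⟨ξ, hξU⟩, (subtype_specializes_iff _ _).2 hξx, ?_⟩
      have h1 := hdom ξ hξ
      have h4 : U.ι ((f ∣_ U) ⟨ξ, hξU⟩) = f ξ := by
        rw [← Scheme.Hom.comp_apply, morphismRestrict_ι]
        rfl
      have h5 : U.ι (genericPoint ↥(U : Scheme.{u})) ⤳ U.ι ((f ∣_ U) ⟨ξ, hξU⟩) :=
        (genericPoint_specializes _).map U.ι.continuous
      rw [h4] at h5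
      have h6 := eq_of_specializes_of_mem_genericPoints h1 h5
      exact U.ι.isOpenEmbedding.injective (h4.trans h6.symm)
  intro N hN
  have hN' : (f ⁻¹ᵁ U).ι ⁻¹' N ∈ nhds x' :=
    (f ⁻¹ᵁ U).ι.continuous.continuousAt.preimage_mem_nhds hN
  have h1 := hopen _ hN'
  have h2 : U.ι '' ((f ∣_ U) '' ((f ⁻¹ᵁ U).ι ⁻¹' N)) ∈ nhds (U.ι ((f ∣_ U) x')) :=
    U.ι.isOpenEmbedding.isOpenMap.image_mem_nhds h1
  rw [h3] at h2
  refine Filter.mem_of_superset h2 ?_
  rintro _ ⟨_, ⟨w, hw, rfl⟩, rfl⟩
  refine ⟨(f ⁻¹ᵁ U).ι w, hw, ?_⟩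
  rw [← Scheme.Hom.comp_apply, ← morphismRestrict_ι]
  rfl

end Groth.Agent.Lib.helper9.UO
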