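import Mathlib
import Groth.Agent.Lib.Helper9.UOTop
import Groth.Agent.Lib.Helper9.GUSmoothGeom
import Groth.Agent.Lib.Helper4.UnivOpenDvr3

/-!
# Base change of quasi-finite morphisms to affine spaces over geometrically unibranch bases (helper9)

* `map_mem_genericPoints_pullback_snd`: the condition "maximal points map to maximal points" is
  stable under flat, universally open base change with geometrically irreducible fibres;
* `isOpenAt_snd_of_isOpenImmersion`: openness at points of a base change passes to open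
  subschemes of the new base;
* `isOpenAt_snd_affineSpace`, `isOpenAt_snd_gT_mvPolynomial`: for `f` locally quasi-finite over a
  locally Noetherian geometrically unibranch base with maximal points mapping to maximal points,
  the base change of `f` to affine spaces is open at every point.
-/

set_option autoImplicit false
set_option linter.style.haveILetI false
set_option backward.isDefEq.respectTransparency false

namespace Groth.Agent.Lib.helper9.UO

open AlgebraicGeometry CategoryTheory Limits Groth.Agent.Lib.helper4.UnivOpenDvr3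

universe u

theorem map_mem_genericPoints_pullback_snd {X Y Y' : Scheme.{u}} (f : X ⟶ Y) (q : Y' ⟶ Y) [Flat q]
    [GeometricallyIrreducible q] [UniversallyOpen q]
    (hdom : ∀ ξ ∈ genericPoints ↥X, f ξ ∈ genericPoints ↥Y) :
    ∀ ξ' ∈ genericPoints ↥(pullback f q), (pullback.snd f q) ξ' ∈ genericPoints ↥Y' := by
  intro ξ' hξ'
  have hopen : IsOpenMap (pullback.fst f q) := (pullback.fst f q).isOpenMap
  have hξ : (pullback.fst f q) ξ' ∈ genericPoints ↥X :=
    map_mem_genericPoints_of_generalizingMap (Flat.generalizingMap (pullback.fst f q)) hξ'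
  have hη := hdom _ hξ
  apply mem_genericPoints_of_forall
  intro ζ hζ
  have h1 : q ζ ⤳ q ((pullback.snd f q) ξ') := hζ.map q.continuous
  have h2 : q ((pullback.snd f q) ξ') = f ((pullback.fst f q) ξ') := by
    rw [← Scheme.Hom.comp_apply, ← Scheme.Hom.comp_apply, pullback.condition]
  rw [h2] at h1
  have h3 := eq_of_specializes_of_mem_genericPoints hη h1
  obtain ⟨w, hw1, hw2⟩ :=
    Scheme.Pullback.exists_preimage_pullback ((pullback.fst f q) ξ') ζ h3.symm
  have hirr : IsIrreducible ((pullback.fst f q) ⁻¹' {(pullback.fst f q) ξ'}) :=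
    (pullback.fst f q).isIrreducible_preimage hopen isIrreducible_singleton
  have h4 : ξ' ⤳ w := specializes_of_mem_genericPoints_of_isIrreducible hξ' hirr rfl hw1
  have h5 : (pullback.snd f q) ξ' ⤳ ζ := hw2 ▸ h4.map (pullback.snd f q).continuous
  exact (hζ.antisymm h5).eq

theorem isOpenAt_snd_of_isOpenImmersion {X Y Y' Y'' : Scheme.{u}} (f : X ⟶ Y) (q : Y' ⟶ Y)
    (j : Y'' ⟶ Y') [IsOpenImmersion j] (g : Y'' ⟶ Y) (hg : g = j ≫ q)
    (H : ∀ w : ↥(pullback f q), EGA43.IsOpenAt (pullback.snd f q) w) (z : ↥(pullback f g)) :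
    EGA43.IsOpenAt (pullback.snd f g) z := by
  subst hg
  have hpr : (pullbackLeftPullbackSndIso f q j).inv ≫ pullback.fst _ _ = pr f q j := by
    apply pullback.hom_ext
    · rw [Category.assoc, pullbackLeftPullbackSndIso_inv_fst, pr_fst]
    · rw [Category.assoc, pullbackLeftPullbackSndIso_inv_fst_snd, pr_snd]
  haveI : IsOpenImmersion (pr f q j) := by
    rw [← hpr]
    infer_instance
  intro N hN
  have h1 : (pr f q j) '' N ∈ nhds ((pr f q j) z) :=
    (pr f q j).isOpenEmbedding.isOpenMap.image_mem_nhds hN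
  have h2 := H _ _ h1
  have h3 : (pullback.snd f q) ((pr f q j) z) = j ((pullback.snd f (j ≫ q)) z) := by
    rw [← Scheme.Hom.comp_apply, pr_snd, Scheme.Hom.comp_apply]
  rw [h3] at h2
  have h4 := j.continuous.continuousAt.preimage_mem_nhds h2
  refine Filter.mem_of_superset h4 ?_
  rintro y ⟨_, ⟨n, hn, rfl⟩, hy⟩
  refine ⟨n, hn, ?_⟩
  apply j.isOpenEmbedding.injective
  rw [← hy, ← Scheme.Hom.comp_apply, ← Scheme.Hom.comp_apply, pr_snd]

theorem isOpenAt_snd_affineSpace {X Y : Scheme.{u}} (f : X ⟶ Y) [LocallyQuasiFinite f]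
    [LocallyOfFiniteType f] [IsLocallyNoetherian Y]
    (hY : ∀ y : Y, CAlg2.IsGeomUnibranch (Y.presheaf.stalk y))
    (hdom : ∀ ξ ∈ genericPoints ↥X, f ξ ∈ genericPoints ↥Y) (n : Type u) [Finite n]
    (w : ↥(pullback f (𝔸(n; Y) ↘ Y))) :
    EGA43.IsOpenAt (pullback.snd f (𝔸(n; Y) ↘ Y)) w := by
  haveI : IsLocallyNoetherian 𝔸(n; Y) := LocallyOfFiniteType.isLocallyNoetherian (𝔸(n; Y) ↘ Y)
  apply isOpenAt_of_locallyQuasiFinite_of_isUnibranch
  · exact map_mem_genericPoints_pullback_snd f _ hdom
  · exact (UnramGeom.isGeomUnibranch_stalk_of_smooth (𝔸(n; Y) ↘ Y) _ (hY _)).1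

instance isOpenImmersion_affineSpace_map (n : Type u) {S T : Scheme.{u}} (b : S ⟶ T)
    [IsOpenImmersion b] : IsOpenImmersion (AffineSpace.map n b) :=
  MorphismProperty.of_isPullback (P := @IsOpenImmersion) (AffineSpace.isPullback_map (n := n) b).flip
    inferInstance

theorem isOpenAt_snd_gT_mvPolynomial {X Y : Scheme.{u}} (f : X ⟶ Y) [LocallyQuasiFinite f]
    [LocallyOfFiniteType f] [IsLocallyNoetherian Y]
    (hY : ∀ y : Y, CAlg2.IsGeomUnibranch (Y.presheaf.stalk y))
    (hdom : ∀ ξ ∈ genericPoints ↥X, f ξ ∈ genericPoints ↥Y) {A₀ : Type u} [CommRing A₀]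
    (b : Spec (CommRingCat.of A₀) ⟶ Y) [IsOpenImmersion b] (n : Type u) [Finite n]
    (z : ↥(pullback f (gT b (MvPolynomial n A₀)))) :
    EGA43.IsOpenAt (pullback.snd f (gT b (MvPolynomial n A₀))) z := by
  apply isOpenAt_snd_of_isOpenImmersion f (𝔸(n; Y) ↘ Y)
    ((AffineSpace.SpecIso n (CommRingCat.of A₀)).inv ≫ AffineSpace.map n b) _ ?_
    (isOpenAt_snd_affineSpace f hY hdom n)
  rw [Category.assoc, AffineSpace.map_over, ← Category.assoc, AffineSpace.SpecIso_inv_over]
  rfl

end Groth.Agent.Lib.helper9.UO
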