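import Mathlib
import Groth.Agent.Lib.Helper9.UOBase
import Groth.Agent.Lib.Helper9.UOAn
import Groth.Agent.Lib.Helper4.UnivOpenDvr6

/-!
# Locally quasi-finite morphisms over geometrically unibranch bases are universally open (helper9)

EGA IV 14.4.1-type: `universallyOpen_of_locallyQuasiFinite_of_geomUnibranch`.
-/

set_option autoImplicit false
set_option linter.style.haveILetI false
set_option backward.isDefEq.respectTransparency false
set_option backward.isDefEq.respectTransparency.types false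

namespace Groth.Agent.Lib.helper9.UO

open AlgebraicGeometry CategoryTheory Limits TensorProduct
open Groth.Agent.Lib.helper4.UnivOpenDvr3 Groth.Agent.Lib.helper4.UnivOpenDvr4
  Groth.Agent.Lib.helper4.UnivOpenDvr5 Groth.Agent.Lib.helper4.UnivOpenDvr6

universe u

variable {X Y : Scheme.{u}}

/-- If all base changes of `f` to polynomial rings over affine charts of `Y` are open at all
points, then `f` satisfies the criterion over discrete valuation rings at every point. -/
theorem dvrCrit_of_an [IsLocallyNoetherian Y] (f : X ⟶ Y) (x : X)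
    (H : ∀ (A₀ : Type u) [CommRing A₀] (b : Spec (CommRingCat.of A₀) ⟶ Y) [IsOpenImmersion b]
      (n : ℕ) (z : ↥(pullback f (gT b (MvPolynomial (ULift.{u} (Fin n)) A₀)))),
      EGA43.IsOpenAt (pullback.snd f (gT b (MvPolynomial (ULift.{u} (Fin n)) A₀))) z) :
    DvrCrit f x := by
  intro V _ _ _ g hgcl x' hx' hx's
  obtain ⟨_, ⟨Y₀, hY₀, rfl⟩, hyY₀, -⟩ :=
    Y.isBasis_affineOpens.exists_subset_of_mem_open (Set.mem_univ (f x)) isOpen_univ
  have hxpre : x ∈ f ⁻¹ᵁ Y₀ := hyY₀
  obtain ⟨_, ⟨X₀, hX₀, rfl⟩, hxX₀, hle⟩ :=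
    X.isBasis_affineOpens.exists_subset_of_mem_open hxpre (f ⁻¹ᵁ Y₀).isOpen
  letI : Algebra Γ(Y, Y₀) Γ(X, X₀) := (f.appLE Y₀ X₀ hle).hom.toAlgebra
  have hab : hX₀.fromSpec ≫ f =
      Spec.map (CommRingCat.ofHom (algebraMap Γ(Y, Y₀) Γ(X, X₀))) ≫ hY₀.fromSpec :=
    (IsAffineOpen.SpecMap_appLE_fromSpec f hY₀ hX₀ hle).symm
  have hrange : Set.range g ⊆ Set.range hY₀.fromSpec := by
    rintro _ ⟨v, rfl⟩
    rw [hY₀.range_fromSpec]
    have hsp : v ⤳ IsLocalRing.closedPoint V := IsLocalRing.specializes_closedPoint v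
    have h3 := hsp.map g.continuous
    rw [hgcl] at h3
    exact h3.mem_open Y₀.2 hyY₀
  let g₀ : Spec (CommRingCat.of V) ⟶ Spec Γ(Y, Y₀) := IsOpenImmersion.lift hY₀.fromSpec g hrange
  have hg₀ : g₀ ≫ hY₀.fromSpec = g := IsOpenImmersion.lift_fac _ _ _
  let φ : Γ(Y, Y₀) ⟶ CommRingCat.of V := Spec.preimage g₀
  have hφ : Spec.map φ = g₀ := Spec.map_preimage g₀
  letI : Algebra Γ(Y, Y₀) V := φ.hom.toAlgebra
  have hg : gT hY₀.fromSpec V = g := by
    rw [← hg₀, ← hφ]
    rfl
  have hxa : x ∈ Set.range hX₀.fromSpec := by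
    rw [hX₀.range_fromSpec]
    exact hxX₀
  have core := exists_generization_core_of_an f (A₀ := Γ(Y, Y₀)) (B := Γ(X, X₀)) hX₀.fromSpec
    hY₀.fromSpec hab x hxa (fun n z _ => H Γ(Y, Y₀) hY₀.fromSpec n z) V
  generalize gT hY₀.fromSpec V = g' at core hg
  subst hg
  obtain ⟨z', hz'sp, hz'bot⟩ := core x' hx'
  refine ⟨z', hz'sp, ?_⟩
  intro heq
  rw [heq] at hz'bot
  exact IsDiscreteValuationRing.not_a_field V hz'bot

/-- **EGA IV 14.4.1-type**: a locally quasi-finite morphism to a locally Noetherian scheme with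
geometrically unibranch local rings, mapping maximal points to maximal points, is universally
open. -/
theorem universallyOpen_of_locallyQuasiFinite_of_geomUnibranch (f : X ⟶ Y) [LocallyQuasiFinite f]
    [LocallyOfFiniteType f] [IsLocallyNoetherian Y]
    (hY : ∀ y : Y, CAlg2.IsGeomUnibranch (Y.presheaf.stalk y))
    (hdom : ∀ ξ ∈ genericPoints ↥X, f ξ ∈ genericPoints ↥Y) : UniversallyOpen f := by
  apply universallyOpen_of_isUnivOpenAt
  intro x
  apply isUnivOpenAt_of_dvrCrit
  apply dvrCrit_of_an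
  intro A₀ _ b _ n z
  exact isOpenAt_snd_gT_mvPolynomial f hY hdom b (ULift.{u} (Fin n)) z

/-- Statement-shaped version. -/
theorem universallyOpen_of_locallyQuasiFinite_over_geomUnibranch (f : X ⟶ Y)
    [LocallyQuasiFinite f] [LocallyOfFiniteType f] [IsLocallyNoetherian Y]
    (hY : ∀ y : Y, CAlg2.IsGeomUnibranch (Y.presheaf.stalk y))
    (hdom : ∀ Z ∈ irreducibleComponents ↑X, ∀ x : X, IsGenericPoint x Z →
      ∃ W ∈ irreducibleComponents ↑Y, IsGenericPoint (f x) W) :
    UniversallyOpen f := by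
  apply universallyOpen_of_locallyQuasiFinite_of_geomUnibranch f hY
  intro ξ hξ
  obtain ⟨W, hW, hfW⟩ := hdom (closure {ξ}) hξ ξ isGenericPoint_closure
  show closure {f ξ} ∈ irreducibleComponents ↥Y
  rw [hfW.def]
  exact hW

end Groth.Agent.Lib.helper9.UO
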