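import Mathlib
import Groth.Agent.Lib.Helper9.UOMain
import Groth.Agent.Lib.Helper8.UnivOpenAt
import Groth.Agent.Lib.Helper3.QFinAffineSpace3

/-!
# Pointwise universal openness over geometrically unibranch points (helper9)

* `isUnivOpenAt_comp_of_universallyOpen`, `isUnivOpenAt_of_comp`: general lemmas;
* `isUnivOpenAt_of_locallyQuasiFinite_of_geomUnibranch`: EGA IV 14.4.1 (quasi-finite case) at a
  point, the base being geometrically unibranch only at the image point;
* `isUnivOpenAt_of_isEquidimAt`: Chevalley's criterion at a point.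
-/

set_option autoImplicit false
set_option linter.style.haveILetI false
set_option backward.isDefEq.respectTransparency false
set_option backward.isDefEq.respectTransparency.types false

namespace Groth.Agent.Lib.helper9.UO

open AlgebraicGeometry CategoryTheory Limits TensorProduct
open Groth.Agent.Lib.helper4.UnivOpenDvr3 Groth.Agent.Lib.helper4.UnivOpenDvr4
  Groth.Agent.Lib.helper4.UnivOpenDvr5 Groth.Agent.Lib.helper4.UnivOpenDvr6
  Groth.Agent.Lib.helper8

universe u

variable {X Y : Scheme.{u}}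

/-- Universal openness at a point is preserved by composing with a universally open morphism. -/
theorem isUnivOpenAt_comp_of_universallyOpen {P : Scheme.{u}} (g : X ⟶ P) (q : P ⟶ Y)
    [UniversallyOpen q] (x : X) (h : EGA43.IsUnivOpenAt g x) : EGA43.IsUnivOpenAt (g ≫ q) x := by
  intro Y' g' x' hx'
  let a : pullback (g ≫ q) g' ⟶ pullback q g' :=
    pullback.lift (pullback.fst _ _ ≫ g) (pullback.snd _ _)
      (by rw [Category.assoc, pullback.condition])
  have ha1 : a ≫ pullback.fst q g' = pullback.fst (g ≫ q) g' ≫ g := pullback.lift_fst _ _ _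
  have ha2 : a ≫ pullback.snd q g' = pullback.snd (g ≫ q) g' := pullback.lift_snd _ _ _
  have sq : IsPullback (pullback.fst (g ≫ q) g') a g (pullback.fst q g') := by
    refine (IsPullback.of_right (h₁₁ := a) (h₁₂ := pullback.snd q g') (h₂₁ := g) (h₂₂ := q)
      (v₁₁ := pullback.fst (g ≫ q) g') (v₁₂ := pullback.fst q g') (v₁₃ := g') ?_ ha1
      (IsPullback.of_hasPullback q g').flip).flip
    rw [ha2]
    exact (IsPullback.of_hasPullback (g ≫ q) g').flip
  have h1 : EGA43.IsOpenAt a.base x' := isOpenAt_snd_of_isPullback h sq x' hx'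
  have h2 : EGA43.IsOpenAt (pullback.snd q g').base (a.base x') :=
    isOpenAt_of_isOpenMap _ (pullback.snd q g').isOpenMap _
  have h3 := isOpenAt_comp _ _ _ h1 h2
  have h4 : (pullback.snd (g ≫ q) g').base = (pullback.snd q g').base ∘ a.base := by
    rw [← ha2]
    rfl
  rw [h4]
  exact h3

/-- Universal openness at a point of a composite gives universal openness of the second morphism at
the image point. -/
theorem isUnivOpenAt_of_comp {W : Scheme.{u}} (j : W ⟶ X) (f : X ⟶ Y) (w : W)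
    (h : EGA43.IsUnivOpenAt (j ≫ f) w) : EGA43.IsUnivOpenAt f (j.base w) := by
  intro Y' g' x' hx'
  obtain ⟨w'', hw1, hw2⟩ := Scheme.Pullback.exists_preimage_pullback (f := j)
    (g := pullback.fst f g') w x' hx'.symm
  have sq : IsPullback (pullback.fst j (pullback.fst f g'))
      (pullback.snd j (pullback.fst f g') ≫ pullback.snd f g') (j ≫ f) g' :=
    ((IsPullback.of_hasPullback j (pullback.fst f g')).flip.paste_horiz
      (IsPullback.of_hasPullback f g').flip).flip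
  have h1 := isOpenAt_snd_of_isPullback h sq w'' hw1
  have h2 : (pullback.snd j (pullback.fst f g') ≫ pullback.snd f g').base =
      (pullback.snd f g').base ∘ (pullback.snd j (pullback.fst f g')).base := rfl
  rw [h2] at h1
  have h3 := isOpenAt_of_comp _ _ w''
    (pullback.snd j (pullback.fst f g')).continuous.continuousAt h1
  have h4 : (pullback.snd j (pullback.fst f g')).base w'' = x' := hw2
  rw [h4] at h3
  exact h3

/-- Pointwise version of `dvrCrit_of_an`. -/
theorem dvrCrit_of_an_at [IsLocallyNoetherian Y] (f : X ⟶ Y) (x : X)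
    (H : ∀ (A₀ : Type u) [CommRing A₀] (b : Spec (CommRingCat.of A₀) ⟶ Y) [IsOpenImmersion b]
      (n : ℕ) (z : ↥(pullback f (gT b (MvPolynomial (ULift.{u} (Fin n)) A₀)))),
      (pullback.fst f (gT b (MvPolynomial (ULift.{u} (Fin n)) A₀))) z = x →
      EGA43.IsOpenAt (pullback.snd f (gT b (MvPolynomial (ULift.{u} (Fin n)) A₀))) z) :
    DvrCrit f x := by
  intro V _ _ _ g hgcl x' hx' hx's
  obtain ⟨_, ⟨Y₀, hY₀, rfl⟩, hyY₀, -⟩ :=
    Y.isBasis_affineOpens.exists_subset_of_mem_open (Set.mem_univ (f x)) isOpen_univ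
  have hxpre : x ∈ f ⁻¹ᵁ Y₀ := hyY₀
  obtain ⟨_, ⟨X₀, hX₀, rfl⟩, hxX₀, hle⟩ :=
    X.isBasis_affineOpens.exists_subset_of_mem_open hxpre (f ⁻¹ᵁ Y₀).isOpen
  letI : Algebra Γ(Y, Y₀) Γ(X, X₀) := (f.appLE Y₀ X₀ hle).hom.toAlgebra
  have hab : hX₀.fromSpec ≫ f =
      Spec.map (CommRingCat.ofHom (algebraMap Γ(Y, Y₀) Γ(X, X₀))) ≫ hY₀.fromSpec :=
    (IsAffineOpen.SpecMap_appLE_fromSpec f hY₀ hX₀ hle).symm
  have hrange : Set.range g ⊆ Set.range hY₀.fromSpec := by
    rintro _ ⟨v, rfl⟩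
    rw [hY₀.range_fromSpec]
    have hsp : v ⤳ IsLocalRing.closedPoint V := IsLocalRing.specializes_closedPoint v
    have h3 := hsp.map g.continuous
    rw [hgcl] at h3
    exact h3.mem_open Y₀.2 hyY₀
  let g₀ : Spec (CommRingCat.of V) ⟶ Spec Γ(Y, Y₀) := IsOpenImmersion.lift hY₀.fromSpec g hrange
  have hg₀ : g₀ ≫ hY₀.fromSpec = g := IsOpenImmersion.lift_fac _ _ _
  let φ : Γ(Y, Y₀) ⟶ CommRingCat.of V := Spec.preimage g₀
  have hφ : Spec.map φ = g₀ := Spec.map_preimage g₀
  letI : Algebra Γ(Y, Y₀) V := φ.hom.toAlgebra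
  have hg : gT hY₀.fromSpec V = g := by
    rw [← hg₀, ← hφ]
    rfl
  have hxa : x ∈ Set.range hX₀.fromSpec := by
    rw [hX₀.range_fromSpec]
    exact hxX₀
  have core := exists_generization_core_of_an f (A₀ := Γ(Y, Y₀)) (B := Γ(X, X₀)) hX₀.fromSpec
    hY₀.fromSpec hab x hxa (fun n z hz => H Γ(Y, Y₀) hY₀.fromSpec n z hz) V
  generalize gT hY₀.fromSpec V = g' at core hg
  subst hg
  obtain ⟨z', hz'sp, hz'bot⟩ := core x' hx'
  refine ⟨z', hz'sp, ?_⟩
  intro heq
  rw [heq] at hz'bot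
  exact IsDiscreteValuationRing.not_a_field V hz'bot

/-- Pointwise version of `isOpenAt_snd_of_isOpenImmersion`. -/
theorem isOpenAt_snd_of_isOpenImmersion_at {Y' Y'' : Scheme.{u}} (f : X ⟶ Y) (q : Y' ⟶ Y)
    (j : Y'' ⟶ Y') [IsOpenImmersion j] (g : Y'' ⟶ Y) (hg : g = j ≫ q) (x : X)
    (H : ∀ w : ↥(pullback f q), (pullback.fst f q) w = x → EGA43.IsOpenAt (pullback.snd f q) w)
    (z : ↥(pullback f g)) (hz : (pullback.fst f g) z = x) :
    EGA43.IsOpenAt (pullback.snd f g) z := by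
  subst hg
  have hpr : (pullbackLeftPullbackSndIso f q j).inv ≫ pullback.fst _ _ = pr f q j := by
    apply pullback.hom_ext
    · rw [Category.assoc, pullbackLeftPullbackSndIso_inv_fst, pr_fst]
    · rw [Category.assoc, pullbackLeftPullbackSndIso_inv_fst_snd, pr_snd]
  haveI : IsOpenImmersion (pr f q j) := by
    rw [← hpr]
    infer_instance
  intro N hN
  have h1 : (pr f q j) '' N ∈ nhds ((pr f q j) z) :=
    (pr f q j).isOpenEmbedding.isOpenMap.image_mem_nhds hN
  have h0 : (pullback.fst f q) ((pr f q j) z) = x := by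
    rw [← Scheme.Hom.comp_apply, pr_fst]
    exact hz
  have h2 := H _ h0 _ h1
  have h3 : (pullback.snd f q) ((pr f q j) z) = j ((pullback.snd f (j ≫ q)) z) := by
    rw [← Scheme.Hom.comp_apply, pr_snd, Scheme.Hom.comp_apply]
  rw [h3] at h2
  have h4 := j.continuous.continuousAt.preimage_mem_nhds h2
  refine Filter.mem_of_superset h4 ?_
  rintro y ⟨_, ⟨n, hn, rfl⟩, hy⟩
  refine ⟨n, hn, ?_⟩
  apply j.isOpenEmbedding.injective
  rw [← hy, ← Scheme.Hom.comp_apply, ← Scheme.Hom.comp_apply, pr_snd]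

theorem isOpenAt_snd_affineSpace_at (f : X ⟶ Y) [LocallyQuasiFinite f]
    [LocallyOfFiniteType f] [IsLocallyNoetherian Y]
    (hdom : ∀ ξ ∈ genericPoints ↥X, f ξ ∈ genericPoints ↥Y) (n : Type u) [Finite n]
    (w : ↥(pullback f (𝔸(n; Y) ↘ Y)))
    (hy : CAlg2.IsGeomUnibranch (Y.presheaf.stalk (f ((pullback.fst f (𝔸(n; Y) ↘ Y)) w)))) :
    EGA43.IsOpenAt (pullback.snd f (𝔸(n; Y) ↘ Y)) w := by
  haveI : IsLocallyNoetherian 𝔸(n; Y) := LocallyOfFiniteType.isLocallyNoetherian (𝔸(n; Y) ↘ Y)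
  apply isOpenAt_of_locallyQuasiFinite_of_isUnibranch
  · exact map_mem_genericPoints_pullback_snd f _ hdom
  · refine (UnramGeom.isGeomUnibranch_stalk_of_smooth (𝔸(n; Y) ↘ Y) _ ?_).1
    have h1 : (𝔸(n; Y) ↘ Y) ((pullback.snd f (𝔸(n; Y) ↘ Y)) w) =
        f ((pullback.fst f (𝔸(n; Y) ↘ Y)) w) := by
      rw [← Scheme.Hom.comp_apply, ← Scheme.Hom.comp_apply, pullback.condition]
    rw [h1]
    exact hy

theorem isOpenAt_snd_gT_mvPolynomial_at (f : X ⟶ Y) [LocallyQuasiFinite f]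
    [LocallyOfFiniteType f] [IsLocallyNoetherian Y]
    (hdom : ∀ ξ ∈ genericPoints ↥X, f ξ ∈ genericPoints ↥Y) (x : X)
    (hy : CAlg2.IsGeomUnibranch (Y.presheaf.stalk (f x))) {A₀ : Type u} [CommRing A₀]
    (b : Spec (CommRingCat.of A₀) ⟶ Y) [IsOpenImmersion b] (n : Type u) [Finite n]
    (z : ↥(pullback f (gT b (MvPolynomial n A₀))))
    (hz : (pullback.fst f (gT b (MvPolynomial n A₀))) z = x) :
    EGA43.IsOpenAt (pullback.snd f (gT b (MvPolynomial n A₀))) z := by
  apply isOpenAt_snd_of_isOpenImmersion_at f (𝔸(n; Y) ↘ Y)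
    ((AffineSpace.SpecIso n (CommRingCat.of A₀)).inv ≫ AffineSpace.map n b) _ ?_ x ?_ z hz
  · rw [Category.assoc, AffineSpace.map_over, ← Category.assoc, AffineSpace.SpecIso_inv_over]
    rfl
  · intro w hw
    apply isOpenAt_snd_affineSpace_at f hdom n w
    rw [hw]
    exact hy

/-- **EGA IV 14.4.1-type, pointwise**: a locally quasi-finite morphism to a locally Noetherian
scheme, mapping maximal points to maximal points, is universally open at the points over
geometrically unibranch points. -/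
theorem isUnivOpenAt_of_locallyQuasiFinite_of_geomUnibranch (f : X ⟶ Y) [LocallyQuasiFinite f]
    [LocallyOfFiniteType f] [IsLocallyNoetherian Y]
    (hdom : ∀ ξ ∈ genericPoints ↥X, f ξ ∈ genericPoints ↥Y) (x : X)
    (hy : CAlg2.IsGeomUnibranch (Y.presheaf.stalk (f x))) : EGA43.IsUnivOpenAt f x := by
  apply isUnivOpenAt_of_dvrCrit
  apply dvrCrit_of_an_at
  intro A₀ _ b _ n z hz
  exact isOpenAt_snd_gT_mvPolynomial_at f hdom x hy b (ULift.{u} (Fin n)) z hz

/-- **Chevalley's criterion at a point** (EGA IV 14.4.1). -/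
theorem isUnivOpenAt_of_isEquidimAt [IsLocallyNoetherian Y] (f : X ⟶ Y) [LocallyOfFiniteType f]
    (x : X) (hy : CAlg2.IsGeomUnibranch (Y.presheaf.stalk (f x))) (h : EGA43.IsEquidimAt f x) :
    EGA43.IsUnivOpenAt f x := by
  obtain ⟨e, U, g, hxU, hg, hLQF, hcomp⟩ :=
    (Groth.Agent.Lib.helper3.QFinAffineSpace.equidim_iff_qfin f x).1 h
  haveI : IsLocallyNoetherian 𝔸(ULift.{u} (Fin e); Y) :=
    LocallyOfFiniteType.isLocallyNoetherian (𝔸(ULift.{u} (Fin e); Y) ↘ Y)
  haveI : LocallyOfFiniteType (g ≫ (𝔸(ULift.{u} (Fin e); Y) ↘ Y)) := by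
    rw [hg]
    infer_instance
  haveI : LocallyOfFiniteType g := locallyOfFiniteType_of_comp g (𝔸(ULift.{u} (Fin e); Y) ↘ Y)
  have hdom : ∀ ξ ∈ genericPoints ↥(U : Scheme.{u}),
      g ξ ∈ genericPoints ↥𝔸(ULift.{u} (Fin e); Y) := by
    intro ξ hξ
    have h1 := hcomp (closure {ξ}) hξ
    rw [closure_image_closure g.continuous, Set.image_singleton] at h1
    exact h1
  let xU : ↥(U : Scheme.{u}) := ⟨x, hxU⟩
  have hgx : (𝔸(ULift.{u} (Fin e); Y) ↘ Y) (g xU) = f x := by
    rw [← Scheme.Hom.comp_apply, hg]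
    rfl
  have hyP : CAlg2.IsGeomUnibranch ((𝔸(ULift.{u} (Fin e); Y)).presheaf.stalk (g xU)) := by
    apply UnramGeom.isGeomUnibranch_stalk_of_smooth (𝔸(ULift.{u} (Fin e); Y) ↘ Y)
    rw [hgx]
    exact hy
  have h1 : EGA43.IsUnivOpenAt g xU :=
    isUnivOpenAt_of_locallyQuasiFinite_of_geomUnibranch g hdom xU hyP
  have h2 := isUnivOpenAt_comp_of_universallyOpen g (𝔸(ULift.{u} (Fin e); Y) ↘ Y) xU h1
  rw [hg] at h2
  exact isUnivOpenAt_of_comp U.ι f xU h2

end Groth.Agent.Lib.helper9.UO
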