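import Mathlib
import Groth.Agent.Lib.Helper9.QSec4
import Groth.Agent.Lib.Helper9.QSec1
import Groth.Agent.Lib.Helper9.UOPoint
import Groth.Agent.Lib.Helper9.EtaleNormalSection2

/-!
# Quasi-sections through a point (helper9), part 5: slicing down to the quasi-finite case

`g : W ⟶ Y` locally of finite presentation with `Y` affine, `π : W ⟶ 𝔸ⁿ_Y` locally quasi-finite over
`Y` and universally open at `x`, `κ(x)` algebraic over `κ(g x)`. Then there is `p : X' ⟶ W` and
`x'` over `x` with `κ(x) ≅ κ(x')` such that `p ≫ g` is locally of finite presentation, locally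
quasi-finite and universally open at `x'`.
-/

set_option autoImplicit false
set_option linter.style.haveILetI false
set_option backward.isDefEq.respectTransparency false

namespace Groth.Agent.Lib.helper9.QSec

open AlgebraicGeometry CategoryTheory Limits
open Groth.Agent.Lib.helper3.DimIneq

universe u

theorem exists_quasiFinite_slice {W Y : Scheme.{u}} [IsAffine Y] (n : ℕ) (g : W ⟶ Y)
    [LocallyOfFinitePresentation g]
    (π : W ⟶ 𝔸(ULift.{u} (Fin n); Y)) [LocallyQuasiFinite π]
    (hπ : π ≫ (𝔸(ULift.{u} (Fin n); Y) ↘ Y) = g) (x : W)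
    (htd : td (g.residueFieldMap x).hom = 0) (hopen : EGA43.IsUnivOpenAt π x) :
    ∃ (X' : Scheme.{u}) (p : X' ⟶ W) (x' : X'), p.base x' = x ∧
      Function.Bijective (p.residueFieldMap x').hom ∧
      LocallyOfFinitePresentation (p ≫ g) ∧ LocallyQuasiFinite (p ≫ g) ∧
      EGA43.IsUnivOpenAt (p ≫ g) x' := by
  obtain ⟨T, θ, σ, β, hflat, hfp, hqf, hσθ, hβ⟩ := exists_slice n g π hπ x htd
  haveI := hflat
  haveI := hfp
  haveI := hqf
  haveI : LocallyOfFinitePresentation (π ≫ (𝔸(ULift.{u} (Fin n); Y) ↘ Y)) := by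
    rw [hπ]; infer_instance
  haveI : LocallyOfFinitePresentation π :=
    Groth.Agent.Lib.Helper18.RelSmoothFiber.locallyOfFinitePresentation_of_comp π
      (𝔸(ULift.{u} (Fin n); Y) ↘ Y) inferInstance inferInstance
  set ξ := W.fromSpecResidueField x with hξ
  set p := pullback.fst π σ with hp
  set q := pullback.snd π σ with hq
  set τ : Spec (W.residueField x) ⟶ pullback π σ := pullback.lift ξ β hβ.symm with hτ
  have hτp : τ ≫ p = ξ := pullback.lift_fst _ _ _
  obtain ⟨pt⟩ : Nonempty ↥(Spec (W.residueField x)) := inferInstance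
  have hpx : p.base (τ.base pt) = x := by
    rw [← Scheme.Hom.comp_apply, hτp, hξ]
    exact Scheme.fromSpecResidueField_apply _ _
  have hpg : p ≫ g = q ≫ θ := by
    rw [← hπ, ← hσθ, ← Category.assoc, ← Category.assoc, pullback.condition]
  haveI : UniversallyOpen θ := inferInstance
  refine ⟨pullback π σ, p, τ.base pt, hpx, ?_, ?_, ?_, ?_⟩
  · apply EtaleNormal.bijective_residueFieldMap_of_comp τ p pt
    rw [hτp]
    exact EtaleNormal.bijective_residueFieldMap_of_surjectiveOnStalks ξ pt
  · rw [hpg]; infer_instance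
  · rw [hpg]; infer_instance
  · rw [hpg]
    apply UO.isUnivOpenAt_comp_of_universallyOpen q θ
    exact Groth.Agent.Lib.helper8.isUnivOpenAt_of_isPullback hopen
      (IsPullback.of_hasPullback π σ) (τ.base pt) hpx

end Groth.Agent.Lib.helper9.QSec
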