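import Mathlib
import Groth.Agent.Lib.Helper9.QSec2
import Groth.Agent.Lib.Helper9.QSec5
import Groth.Agent.Lib.Helper3.QFinAffineSpace2
import Groth.Agent.Lib.Helper3.QuasiSection
import Groth.Agent.Lib.Helper5.FibreDimLocal

/-!
# Quasi-sections through a point (helper9), part 6: EGA IV 14.5.10

`f : X ⟶ S` locally of finite presentation, `x` closed in its fibre, `z` the generic point of an
irreducible component `Z` of the fibre through `x` with `dim Z = dim_x X_s`, `f` universally open
at `z`. Then there is a quasi-section through `x` after étale localization.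
-/

set_option autoImplicit false
set_option linter.style.haveILetI false
set_option backward.isDefEq.respectTransparency false

namespace Groth.Agent.Lib.helper9.QSec

open AlgebraicGeometry CategoryTheory Limits Topology
open Groth.Agent.Lib.helper3 Groth.Agent.Lib.helper3.DimIneq

universe u

theorem exists_quasiSection_through_point (X S : Scheme.{u}) (f : X ⟶ S)
    [LocallyOfFinitePresentation f]
    (s : S) (x : X) (hxs : f.base x = s)
    (hx : IsClosed ((Subtype.val : ↥(f.base ⁻¹' {s}) → X) ⁻¹' {x}))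
    (Z : Set ↥(f.base ⁻¹' {s})) (hZ : Z ∈ irreducibleComponents ↥(f.base ⁻¹' {s}))
    (hxZ : x ∈ (Subtype.val '' Z))
    (z : X) (hz : z ∈ Subtype.val '' Z ∧ Subtype.val '' Z ⊆ closure {z})
    (hopen : EGA43.IsUnivOpenAt f z)
    (hdim : FlatMor.localDim ↥(f.base ⁻¹' {s}) ⟨x, hxs⟩ = topologicalKrullDim ↥Z) :
    ∃ (S' S'' : Scheme.{u}) (_ : IsAffine S') (w : S' ⟶ S) (π : S'' ⟶ S') (h : S'' ⟶ X),
      Etale w ∧ IsFinite π ∧ Surjective π ∧ LocallyOfFinitePresentation π ∧ h ≫ f = π ≫ w ∧
      ∃ s'' : S'', (π ≫ w).base ⁻¹' {s} = {s''} ∧ h.base s'' = x ∧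
        IsIso (h.residueFieldMap s'') := by
  subst hxs
  -- Step A: numerical data
  obtain ⟨n, hn⟩ := DimFibre.exists_nat_fibreDimAt f x
  have hdimZ : topologicalKrullDim ↥Z = n := by
    rw [← hdim, ← hn, Groth.Agent.Lib.helper5.FibreDimLocal.fibreDimAt_eq_localDim_preimage f x]
  obtain ⟨hzs, hgen, -⟩ := QFAff.generic_aux f (f.base x) Z hZ z hz
  have hzx : z ⤳ x := hgen x hxZ
  have hzmax := QFAff.generic_maximal f (f.base x) Z hZ z hz
  have htdz := QFAff.generic_td f (f.base x) Z hZ z hz n hdimZ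
  have hcl : ∀ x' : X, f.base x' = f.base x → x ⤳ x' → x' = x := by
    intro x' hfx' hsp
    have hsp' : (⟨x, rfl⟩ : ↥(f.base ⁻¹' {f.base x})) ⤳ ⟨x', hfx'⟩ := by
      rw [← IsInducing.subtypeVal.specializes_iff]
      exact hsp
    have h1 : (⟨x, rfl⟩ : ↥(f.base ⁻¹' {f.base x})) ∈
        (Subtype.val : ↥(f.base ⁻¹' {f.base x}) → X) ⁻¹' {x} := rfl
    have h2 := hsp'.mem_closed hx h1
    exact h2
  -- Step B: local quasi-finite morphism to affine space
  obtain ⟨V, hV, hxV, -⟩ := exists_isAffineOpen_mem_and_subset (x := f.base x) (U := ⊤) trivial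
  obtain ⟨U, hU, hxU, g, π, hgV, hπg, hπqf, hπft⟩ :=
    QFinAffineSpace.exists_qfin_affineSpace f x V hV hxV n (le_of_eq hn)
  haveI := hπqf
  haveI : IsAffine (V : Scheme.{u}) := hV
  haveI : LocallyOfFinitePresentation (g ≫ V.ι) := by rw [hgV]; infer_instance
  haveI : LocallyOfFinitePresentation g :=
    Groth.Agent.Lib.Helper18.RelSmoothFiber.locallyOfFinitePresentation_of_comp g V.ι
      inferInstance inferInstance
  have hgapp : ∀ u : (U : Scheme.{u}), V.ι.base (g.base u) = f.base (U.ι.base u) := by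
    intro u
    rw [← Scheme.Hom.comp_apply, hgV, Scheme.Hom.comp_apply]
  have hzU : z ∈ U := hzx.mem_open U.2 hxU
  set xU : (U : Scheme.{u}) := ⟨x, hxU⟩ with hxUdef
  set zU : (U : Scheme.{u}) := ⟨z, hzU⟩ with hzUdef
  have hιx : U.ι.base xU = x := rfl
  have hιz : U.ι.base zU = z := rfl
  -- Step C: transfer to `g`
  have hclU : ∀ x' : (U : Scheme.{u}), g.base x' = g.base xU → xU ⤳ x' → x' = xU := by
    intro x' hgx' hsp
    apply U.ι.isOpenEmbedding.injective
    apply hcl
    · rw [← hgapp, hgx', hgapp]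
      rfl
    · exact hsp.map U.ι.continuous
  have htd0 : td (g.residueFieldMap xU).hom = 0 :=
    QuasiSection.td_eq_zero_of_closed_in_fibre g xU hclU
  have hzxU : zU ⤳ xU := U.ι.isOpenEmbedding.isInducing.specializes_iff.mp hzx
  have hgz : g.base zU = g.base xU := by
    apply V.ι.isOpenEmbedding.injective
    rw [hgapp, hgapp]
    exact hzs
  have hzmaxU : ∀ z' : (U : Scheme.{u}), z' ⤳ zU → g.base z' = g.base zU → z' = zU := by
    intro z' hsp hgz'
    apply U.ι.isOpenEmbedding.injective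
    apply hzmax
    · exact hsp.map U.ι.continuous
    · rw [← hgapp, hgz', hgapp]
      rfl
  have htdzU : td (g.residueFieldMap zU).hom = (n : Cardinal.{u}) := by
    have h1 : td ((g ≫ V.ι).residueFieldMap zU).hom = td (g.residueFieldMap zU).hom := by
      rw [Scheme.residueFieldMap_comp]
      exact FibreField.td_comp_left _ _ (FibreField.residueFieldMap_surjective V.ι (g.base zU))
    rw [← h1, hgV, EquidimAt.td_comp_opens_ι]
    exact htdz
  have hopenU : EGA43.IsUnivOpenAt g zU := by
    apply isUnivOpenAt_of_comp_mono g V.ι zU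
    rw [hgV]
    exact isUnivOpenAt_comp_left U.ι f zU hopen
  have hopenπ : EGA43.IsUnivOpenAt π xU :=
    QFAff.main_core (U : Scheme.{u}) (V : Scheme.{u}) g xU n π hπg zU hzxU hgz hzmaxU htdzU hopenU
  -- Step D: slicing
  obtain ⟨X', p, x', hpx', hbij, hlfp, hlqf, huo⟩ :=
    exists_quasiFinite_slice n g π hπg xU htd0 hopenπ
  haveI := hlfp
  haveI := hlqf
  -- Step E: the quasi-finite case
  set f' : X' ⟶ S := (p ≫ g) ≫ V.ι with hf'
  have huo' : EGA43.IsUnivOpenAt f' x' := UO.isUnivOpenAt_comp_of_universallyOpen (p ≫ g) V.ι x' huo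
  have hf'x' : f'.base x' = f.base x := by
    rw [hf', Scheme.Hom.comp_apply, Scheme.Hom.comp_apply, hpx', hgapp]
    rfl
  obtain ⟨S', S'', hS', w, π', h, het, hfin, hsurj, hfp, hcomm, s'', hfib, hh, hbij'⟩ :=
    exists_quasiSection_of_quasiFiniteAt f' x' (f'.quasiFiniteAt x') huo'
  have hf'f : f' = (p ≫ U.ι) ≫ f := by
    rw [hf', Category.assoc, Category.assoc, hgV]
  refine ⟨S', S'', hS', w, π', h ≫ p ≫ U.ι, het, hfin, hsurj, hfp, ?_, s'', ?_, ?_, ?_⟩
  · rw [← hcomm, hf'f]
    simp only [Category.assoc]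
  · rw [← hf'x']
    exact hfib
  · rw [Scheme.Hom.comp_apply, Scheme.Hom.comp_apply, hh, hpx']
    rfl
  · rw [ConcreteCategory.isIso_iff_bijective, Scheme.residueFieldMap_comp,
      Scheme.residueFieldMap_comp]
    have h1 : Function.Bijective (p.residueFieldMap (h.base s'')) :=
      Groth.Agent.Lib.helper13.EL.bijective_residueFieldMap_of_eq p hh.symm hbij
    have h2 := ConcreteCategory.bijective_of_isIso (U.ι.residueFieldMap (p.base (h.base s'')))
    exact (hbij'.comp h1).comp h2

end Groth.Agent.Lib.helper9.QSec
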