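import Mathlib
import Groth.Agent.S7673
import Groth.Agent.S7636
import Groth.Agent.Lib.Helper9.CurveTwist
import Groth.Agent.Lib.Helper13.Normal6
import Groth.Agent.Lib.Helper11.SpecDim

/-!
# Invariants of a proper curve under extension of the base field (helper9)

For `X` proper over `k` and `X' = X_K`:
* `isIntegral_bc`, `isProper_bc`, `dim_bc_le` (for `K/k` algebraic), `finrank_H0_bc`, `genus_bc`, `deg_bc`.
-/

set_option autoImplicit false
set_option linter.style.haveILetI false
set_option backward.isDefEq.respectTransparency false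
universe u
open CategoryTheory CategoryTheory.Limits AlgebraicGeometry Opposite TopologicalSpace Module

namespace Groth.Agent.Lib.helper9.VABC3

open Groth.Agent.Lib.helper11.InvMod Groth.Agent.Lib.helper9.CurveTwist

/-- an integral morphism does not raise the dimension -/
theorem dim_le_of_isIntegralHom {W V : Scheme.{u}} (h : W ⟶ V) [IsIntegralHom h] :
    topologicalKrullDim W ≤ topologicalKrullDim V := by
  rw [Groth.Agent.Lib.helper11.SpecDim.topologicalKrullDim_eq_krullDim,
    Groth.Agent.Lib.helper11.SpecDim.topologicalKrullDim_eq_krullDim]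
  exact Order.krullDim_le_of_strictMono h
    (Groth.Agent.Lib.helper11.SpecDim.strictMono_of_fibres h.continuous
      (fun a b hba hab =>
        (Groth.Agent.Lib.helper13.Normal.eq_of_specializes_of_isIntegralHom h hba hab.symm).symm))

variable (k : Type u) [Field k] (X : Scheme.{u}) [X.Over (Spec (CommRingCat.of k))]
  (K : Type u) [Field K] [Algebra k K]

/-- the structure of `K`-scheme on the base change -/
@[reducible] noncomputable def bcOver : (Curv2.bc k X K).Over (Spec (CommRingCat.of K)) :=
  ⟨Curv2.bcSnd k X K⟩

theorem isPullback_bc :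
    letI := bcOver k X K
    IsPullback (Curv2.bcFst k X K) ((Curv2.bc k X K) ↘ Spec (CommRingCat.of K))
      (X ↘ Spec (CommRingCat.of k)) (Spec.map (CommRingCat.ofHom (algebraMap k K))) :=
  IsPullback.of_hasPullback _ _

theorem isIntegral_bc [GeometricallyIntegral (X ↘ Spec (CommRingCat.of k))] :
    IsIntegral (Curv2.bc k X K) :=
  GeometricallyIntegral.geometrically_isIntegral (f := X ↘ Spec (CommRingCat.of k))
    (Spec.map (CommRingCat.ofHom (algebraMap k K))) (Curv2.bcFst k X K) (Curv2.bcSnd k X K)
    (IsPullback.of_hasPullback _ _)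

theorem isIntegral_of_geometricallyIntegral [GeometricallyIntegral (X ↘ Spec (CommRingCat.of k))] :
    IsIntegral X :=
  GeometricallyIntegral.isIntegral_of_subsingleton (X ↘ Spec (CommRingCat.of k))

theorem isProper_bc [IsProper (X ↘ Spec (CommRingCat.of k))] :
    letI := bcOver k X K
    IsProper ((Curv2.bc k X K) ↘ Spec (CommRingCat.of K)) := by
  letI := bcOver k X K
  show IsProper (pullback.snd (X ↘ Spec (CommRingCat.of k))
    (Spec.map (CommRingCat.ofHom (algebraMap k K))))
  infer_instance

theorem dim_bc_le [Algebra.IsAlgebraic k K] :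
    topologicalKrullDim (Curv2.bc k X K) ≤ topologicalKrullDim X := by
  haveI : IsIntegralHom (Spec.map (CommRingCat.ofHom (algebraMap k K))) := by
    rw [IsIntegralHom.SpecMap_iff]
    exact algebraMap_isIntegral_iff.mpr inferInstance
  haveI : IsIntegralHom (Curv2.bcFst k X K) := by
    show IsIntegralHom (pullback.fst (X ↘ Spec (CommRingCat.of k))
      (Spec.map (CommRingCat.ofHom (algebraMap k K))))
    infer_instance
  exact dim_le_of_isIntegralHom (Curv2.bcFst k X K)

variable [IsProper (X ↘ Spec (CommRingCat.of k))]

theorem finrank_HH_structureModule_bc (i : ℕ) :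
    letI := bcOver k X K
    finrank K (Coh.HH (Curv2.bc k X K) (Coh.structureModule (Curv2.bc k X K)) i) =
      finrank k (Coh.HH X (Coh.structureModule X) i) := by
  letI := bcOver k X K
  have hOc : Coh.IsCoh (Coh.structureModule X) :=
    Groth.Agent.Lib.helper11.AmpleInv.isCoh_structureModule X
  rw [← Groth.Agent.S7673.finrank_bc k X K (Curv2.bc k X K) (Curv2.bcFst k X K)
    (isPullback_bc k X K) (Coh.structureModule X) hOc.1 i]
  exact (finrank_HH_eq_of_iso K (pullbackUnitIso (Curv2.bcFst k X K)) i).symm

theorem genus_bc :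
    letI := bcOver k X K
    Curv2.genus K (Curv2.bc k X K) = Curv2.genus k X :=
  finrank_HH_structureModule_bc k X K 1

theorem deg_bc (hdim : topologicalKrullDim X ≤ 1) {L : X.Modules} (hL : PicF.IsInvertible L) :
    letI := bcOver k X K
    Curv2.deg K (Curv2.bc k X K) ((Scheme.Modules.pullback (Curv2.bcFst k X K)).obj L) 1 =
      Curv2.deg k X L 1 :=
  Groth.Agent.S7636.result k X hdim K 1 L
    ((Groth.Agent.Lib.helper16.FLF.isInvertible_iff_isFinLocFreeOfRank_one L).mp hL)

end Groth.Agent.Lib.helper9.VABC3
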