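import Mathlib
import Groth.Agent.Lib.Helper16.SepPts
import Groth.Agent.Lib.Helper8.FlatCohBC4

/-!
# Charts of a finite morphism to projective space (helper9)

For `r : X ⟶ P^n_k` over `k` and the standard chart `D₊(x_j)`, with `ρ_l = r^♯(x_l/x_j)`:

* `app_psiD`: `r^♯` is compatible with the structure maps from `k`;
* `app_mem_adjoin`: the image of `r^♯ : Γ(D₊(x_j)) → Γ(r⁻¹ D₊(x_j))` lies in `k[ρ]`;
* `finite_adjoin`: if `r` is finite, `Γ(r⁻¹ D₊(x_j))` is finite over `k[ρ]`;
* `surjective_app_of_adjoin_eq_top`: if `k[ρ]` is everything, `r^♯` is surjective on this chart;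
* `isClosedImmersion_of_surjective`: a finite `r` which is surjective on all standard charts is a closed immersion.
-/

set_option autoImplicit false
set_option linter.style.haveILetI false
set_option backward.isDefEq.respectTransparency false
universe u

open CategoryTheory CategoryTheory.Limits AlgebraicGeometry Opposite TopologicalSpace

namespace Groth.Agent.Lib.helper9.VAChart

open Groth.Agent.Lib.helper12.ProjUP5 Groth.Agent.Lib.helper16.SepPts
open Groth.Agent.Lib.helper8.FlatCohBC

variable {k : Type u} [Field k] {n : ℕ} {X : Scheme.{u}} (q : X ⟶ Spec (CommRingCat.of k))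
  (r : X ⟶ Proj (CohB1.polyGrading n k)) (hrq : r ≫ CohB1.ProjSpace.toSpec n k = q)

include hrq in
/-- compatibility of `r^♯` with the structure maps from `k` -/
theorem app_psiD (j : Fin (n + 1)) (c : k) :
    (r.app (Dp k n j)).hom (psiD k n j c) = secAlg q (r ⁻¹ᵁ Dp k n j) c := by
  have h1 : ProjUP.toGlobal q c =
      r.appTop.hom (ProjUP.toGlobal (CohB1.ProjSpace.toSpec n k) c) := toGlobal_eq q r hrq c
  have h2 := Scheme.Hom.naturality r (homOfLE (le_top : Dp k n j ≤ ⊤)).op
  have h3 := congrArg (fun φ => φ.hom (ProjUP.toGlobal (CohB1.ProjSpace.toSpec n k) c)) h2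
  refine h3.trans ?_
  show (X.presheaf.map _).hom (r.appTop.hom (ProjUP.toGlobal (CohB1.ProjSpace.toSpec n k) c)) = _
  rw [← h1]
  rfl

include hrq in
/-- the image of `r^♯` on the chart `D₊(x_j)` lies in `k[ρ]` -/
theorem app_mem_adjoin (j : Fin (n + 1)) (a : Γ(Proj (CohB1.polyGrading n k), Dp k n j)) :
    letI := (secAlg q (r ⁻¹ᵁ Dp k n j)).toAlgebra
    (r.app (Dp k n j)).hom a ∈ Algebra.adjoin k
      (Set.range fun l => (r.app (Dp k n j)).hom (cP k n j l)) := by
  letI := (secAlg q (r ⁻¹ᵁ Dp k n j)).toAlgebra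
  obtain ⟨p, rfl⟩ := Theta_surjective k n j a
  induction p using MvPolynomial.induction_on with
  | C c =>
    rw [Theta_C, app_psiD q r hrq j c]
    exact Subalgebra.algebraMap_mem _ c
  | add p p' hp hp' =>
    rw [map_add, map_add]
    exact Subalgebra.add_mem _ hp hp'
  | mul_X p l hp =>
    rw [map_mul, map_mul, Theta_X]
    exact Subalgebra.mul_mem _ hp (Algebra.subset_adjoin ⟨l, rfl⟩)

include hrq in
/-- if `r` is finite, `Γ(r⁻¹ D₊(x_j))` is finite over `k[ρ]` -/
theorem finite_adjoin [IsFinite r] (j : Fin (n + 1)) :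
    letI := (secAlg q (r ⁻¹ᵁ Dp k n j)).toAlgebra
    Module.Finite (Algebra.adjoin k (Set.range fun l => (r.app (Dp k n j)).hom (cP k n j l)))
      Γ(X, r ⁻¹ᵁ Dp k n j) := by
  classical
  letI := (secAlg q (r ⁻¹ᵁ Dp k n j)).toAlgebra
  have hfin : (r.app (Dp k n j)).hom.Finite := IsFinite.finite_app r (Dp k n j) (isAffineOpen_Dp k n j)
  letI algA := (r.app (Dp k n j)).hom.toAlgebra
  have hfin' : Module.Finite Γ(Proj (CohB1.polyGrading n k), Dp k n j) Γ(X, r ⁻¹ᵁ Dp k n j) := hfin
  obtain ⟨s, hs⟩ := hfin'.fg_top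
  refine ⟨⟨s, ?_⟩⟩
  rw [eq_top_iff]
  rintro b -
  have hb : b ∈ Submodule.span Γ(Proj (CohB1.polyGrading n k), Dp k n j) (s : Set Γ(X, r ⁻¹ᵁ Dp k n j)) := by
    rw [hs]; trivial
  induction hb using Submodule.span_induction with
  | mem x hx => exact Submodule.subset_span hx
  | zero => exact Submodule.zero_mem _
  | add x y _ _ hx hy => exact Submodule.add_mem _ hx hy
  | smul a x _ hx =>
    have h1 : a • x = (⟨(r.app (Dp k n j)).hom a, app_mem_adjoin q r hrq j a⟩ :
        Algebra.adjoin k (Set.range fun l => (r.app (Dp k n j)).hom (cP k n j l))) • x := rfl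
    rw [h1]
    exact Submodule.smul_mem _ _ hx

include hrq in
/-- if `k[ρ]` is everything then `r^♯` is surjective on the chart -/
theorem surjective_app_of_adjoin_eq_top (j : Fin (n + 1))
    (h : letI := (secAlg q (r ⁻¹ᵁ Dp k n j)).toAlgebra
      Algebra.adjoin k (Set.range fun l => (r.app (Dp k n j)).hom (cP k n j l)) = ⊤) :
    Function.Surjective (r.app (Dp k n j)).hom := by
  letI := (secAlg q (r ⁻¹ᵁ Dp k n j)).toAlgebra
  intro b
  have hb : b ∈ Algebra.adjoin k (Set.range fun l => (r.app (Dp k n j)).hom (cP k n j l)) := by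
    rw [h]; trivial
  induction hb using Algebra.adjoin_induction with
  | mem x hx =>
    obtain ⟨l, rfl⟩ := hx
    exact ⟨_, rfl⟩
  | algebraMap c => exact ⟨psiD k n j c, app_psiD q r hrq j c⟩
  | add x y _ _ hx hy =>
    obtain ⟨x', rfl⟩ := hx
    obtain ⟨y', rfl⟩ := hy
    exact ⟨x' + y', map_add _ _ _⟩
  | mul x y _ _ hx hy =>
    obtain ⟨x', rfl⟩ := hx
    obtain ⟨y', rfl⟩ := hy
    exact ⟨x' * y', map_mul _ _ _⟩

theorem iSup_Dp : ⨆ j : Fin (n + 1), Dp k n j = ⊤ := by
  rw [eq_top_iff]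
  intro y _
  obtain ⟨i, hi⟩ := exists_mem_Dp (k := k) (n := n) y
  exact Opens.mem_iSup.mpr ⟨i, hi⟩

theorem surjective_app_of_eq {Y : Scheme.{u}} (f : X ⟶ Y) {W W' : Y.Opens} (hWW : W = W')
    (h : Function.Surjective (f.app W).hom) : Function.Surjective (f.app W').hom := by
  subst hWW
  exact h

/-- a morphism to projective space with affine preimages of the standard charts and surjective on them is a
closed immersion -/
theorem isClosedImmersion_of_surjective (haff : ∀ j, IsAffineOpen (r ⁻¹ᵁ Dp k n j))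
    (hsurj : ∀ j, Function.Surjective (r.app (Dp k n j)).hom) : IsClosedImmersion r := by
  refine (HasAffineProperty.iff_of_iSup_eq_top (P := @IsClosedImmersion)
    (fun j : Fin (n + 1) => (⟨Dp k n j, isAffineOpen_Dp k n j⟩ : (Proj (CohB1.polyGrading n k)).affineOpens))
    (iSup_Dp (k := k) (n := n))).mpr fun j => ⟨haff j, ?_⟩
  rw [morphismRestrict_appTop]
  have h1 : Function.Surjective (r.app ((Dp k n j).ι ''ᵁ ⊤)).hom :=
    surjective_app_of_eq r (Dp k n j).ι_image_top.symm (hsurj j)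
  intro b
  have hbij := ConcreteCategory.bijective_of_isIso
    (X.presheaf.map (eqToHom (image_morphismRestrict_preimage r (Dp k n j) ⊤)).op)
  obtain ⟨b', hb'⟩ := hbij.2 b
  obtain ⟨a, ha⟩ := h1 b'
  refine ⟨a, ?_⟩
  exact (congrArg (X.presheaf.map (eqToHom (image_morphismRestrict_preimage r (Dp k n j) ⊤)).op).hom
    ha).trans hb'

end Groth.Agent.Lib.helper9.VAChart
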