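import Mathlib
import Groth.Agent.Lib.Helper8.FlatCohBC4
import Groth.Agent.Lib.Helper12.ProjUP4
import Groth.Agent.Lib.Helper18.HHZero

/-!
# Flat base change for global sections, explicit form (helper9)

* `IsBC.span_eq_top`: the image of a base change map spans.
* `isBC_sections_of_zero`: converse of `isBC_zero_of_sections`.
* `isBC_unit_top`: for `X' = X ×_A B` with `A → B` flat, `X` qcqs and `M` quasi-coherent, the unit
  `Γ(X, M) → Γ(X', g^* M)` is a base change along `A → B`.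
* `exists_sum_pullHom`: sections `σ` spanning `Γ(X, L)` over `A` pull back to sections spanning `Γ(X', g^*L)` over `B`.
-/

set_option autoImplicit false
set_option linter.style.haveILetI false
universe u
open CategoryTheory CategoryTheory.Abelian CategoryTheory.Limits Opposite TopologicalSpace
open AlgebraicGeometry

namespace Groth.Agent.Lib.helper9.VABC1

open Groth.Agent.Lib.helper8.PullbackUnit Groth.Agent.Lib.helper21.LocMV
open Groth.Agent.Lib.helper7 Groth.Agent.Lib.helper27 Groth.Agent.Lib.Helper18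
open Groth.Agent.Lib.helper8.FlatCohBC

section Abstract

theorem IsBC.span_eq_top {R R' : Type u} [CommRing R] [CommRing R'] {φ : R →+* R'} {N P : Type u}
    [AddCommGroup N] [Module R N] [AddCommGroup P] [Module R' P] {k : N →+ P} (hk : IsBC φ k) :
    Submodule.span R' (Set.range k) = ⊤ := by
  set S := Submodule.span R' (Set.range k) with hS
  obtain ⟨h', -, hu⟩ := hk.existsUnique_lift (P ⧸ S) 0 (by intro r n; simp)
  have h1 : S.mkQ = h' := hu S.mkQ (fun n => by
    rw [Submodule.mkQ_apply, AddMonoidHom.zero_apply, Submodule.Quotient.mk_eq_zero]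
    exact Submodule.subset_span ⟨n, rfl⟩)
  have h2 : (0 : P →ₗ[R'] P ⧸ S) = h' := hu 0 (fun n => rfl)
  have h3 : S.mkQ = 0 := h1.trans h2.symm
  rw [← Submodule.ker_mkQ S, h3, LinearMap.ker_zero]

end Abstract

section Top

variable {X : TopCat.{u}} {A B : Type u} [CommRing A] [CommRing B] [Algebra A B]
variable {F G : CohTop.Ab X} (αF : A →+* End F) (βG : B →+* End G) (η : F ⟶ G)

theorem isBC_sections_of_zero (W : Opens X) [Module A (F.obj.obj (op W))]
    [Module B (G.obj.obj (op W))]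
    (hA : ∀ (a : A) (m : F.obj.obj (op W)), a • m = (αF a).hom.app (op W) m)
    (hB : ∀ (b : B) (m : G.obj.obj (op W)), b • m = (βG b).hom.app (op W) m)
    (h : IsBC (algebraMap A B) (postη.{u} αF βG η ((Zf X).obj W) 0)) :
    IsBC (algebraMap A B) (η.hom.app (op W)).hom := by
  refine h.of_equiv (e₀Lin αF W hA).symm (e₀Lin βG W hB).symm _ (fun n => ?_)
  rw [LinearEquiv.symm_apply_eq]
  obtain ⟨x, rfl⟩ := (e₀Lin αF W hA).surjective n
  rw [LinearEquiv.symm_apply_apply]
  obtain ⟨b, rfl⟩ := (Ext.mk₀_bijective _ _).2 (x : Ext.{u} ((Zf X).obj W) F 0)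
  show η.hom.app (op W) (CohPsh.e₀ (Opens.grothendieckTopology X) F W (Ext.mk₀ b)) =
    CohPsh.e₀ (Opens.grothendieckTopology X) G W
      ((Ext.mk₀ b).comp (Ext.mk₀ η) (add_zero 0))
  rw [Ext.mk₀_comp_mk₀, CohPsh.e₀_mk₀, CohPsh.e₀_mk₀]
  exact (FreeYoneda.homEquiv_naturality_right _ W η b).symm

end Top

section Scheme

open Groth.Agent.Lib.helper11.GenLocus Groth.Agent.Lib.helper12.ProjUP4
open Groth.Agent.Lib.helper12.PullTensor

variable {A B : Type u} [CommRing A] [CommRing B] [Algebra A B] [Module.Flat A B]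
variable {X X' : Scheme.{u}} (fX : X ⟶ Spec (CommRingCat.of A)) (fX' : X' ⟶ Spec (CommRingCat.of B))
  (g' : X' ⟶ X)
  (h : IsPullback g' fX' fX (Spec.map (CommRingCat.ofHom (algebraMap A B))))
  (M : X.Modules) [M.IsQuasicoherent] [CompactSpace X] [QuasiSeparatedSpace X]

include h in
/-- the unit `Γ(X, M) → Γ(X', g^* M)` is a base change along `A → B` -/
theorem isBC_unit_top :
    letI : Module A ((Coh.toAb M).obj.obj (op ⊤)) := Module.compHom Γ(M, ⊤) (secAlg fX ⊤)
    letI : Module B ((Coh.toAb ((Coh.push g').obj ((Scheme.Modules.pullback g').obj M))).obj.obj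
        (op ⊤)) :=
      Module.compHom Γ((Scheme.Modules.pullback g').obj M, g' ⁻¹ᵁ ⊤) (secAlg fX' (g' ⁻¹ᵁ ⊤))
    IsBC (algebraMap A B) ((ηM g' M).hom.app (op ⊤)).hom := by
  letI mA : Module A ((Coh.toAb M).obj.obj (op ⊤)) := Module.compHom Γ(M, ⊤) (secAlg fX ⊤)
  letI mB : Module B ((Coh.toAb ((Coh.push g').obj ((Scheme.Modules.pullback g').obj M))).obj.obj
      (op ⊤)) :=
    Module.compHom Γ((Scheme.Modules.pullback g').obj M, g' ⁻¹ᵁ ⊤) (secAlg fX' (g' ⁻¹ᵁ ⊤))
  have hbc := bcOn_top fX fX' g' h M 0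
  exact isBC_sections_of_zero (X := X.toTopCat) (αM fX M) (βM fX' g' M) (ηM g' M) ⊤
    (fun a m => (Coh.smulAb_app M _ (op ⊤) m).symm)
    (fun b m => (Coh.smulAb_app ((Scheme.Modules.pullback g').obj M) _ (op (g' ⁻¹ᵁ ⊤)) m).symm) hbc

include h in
/-- sections spanning `Γ(X, L)` over `A` pull back to sections spanning `Γ(X', g^* L)` over `B` -/
theorem exists_sum_pullHom {ι : Type} [Fintype ι] (σ : ι → (Coh.structureModule X ⟶ M))
    (hspan : ∀ x : M.val.obj (op ⊤), ∃ c : ι → A,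
        x = ∑ l, (Coh.toGlobal fX (c l)) • (show M.val.obj (op ⊤) from sec (σ l) ⊤))
    (x' : ((Scheme.Modules.pullback g').obj M).val.obj (op ⊤)) :
    ∃ c : ι → B, x' = ∑ l, (Coh.toGlobal fX' (c l)) •
      (show ((Scheme.Modules.pullback g').obj M).val.obj (op ⊤) from sec (pullHom g' (σ l)) ⊤) := by
  letI mA : Module A ((Coh.toAb M).obj.obj (op ⊤)) := Module.compHom Γ(M, ⊤) (secAlg fX ⊤)
  letI mB : Module B ((Coh.toAb ((Coh.push g').obj ((Scheme.Modules.pullback g').obj M))).obj.obj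
      (op ⊤)) :=
    Module.compHom Γ((Scheme.Modules.pullback g').obj M, g' ⁻¹ᵁ ⊤) (secAlg fX' (g' ⁻¹ᵁ ⊤))
  have hbc : IsBC (algebraMap A B) ((ηM g' M).hom.app (op ⊤)).hom := isBC_unit_top fX fX' g' h M
  let η₀ : (Coh.toAb M).obj.obj (op ⊤) →+
      (Coh.toAb ((Coh.push g').obj ((Scheme.Modules.pullback g').obj M))).obj.obj (op ⊤) :=
    ((ηM g' M).hom.app (op ⊤)).hom
  have hsp := IsBC.span_eq_top hbc
  let s' : ι → (Coh.toAb ((Coh.push g').obj ((Scheme.Modules.pullback g').obj M))).obj.obj (op ⊤) :=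
    fun l => η₀ (sec (σ l) ⊤)
  have hle : Submodule.span B (Set.range η₀) ≤ Submodule.span B (Set.range s') := by
    rw [Submodule.span_le]
    rintro _ ⟨m, rfl⟩
    obtain ⟨c, hc⟩ := hspan m
    have hm : (m : (Coh.toAb M).obj.obj (op ⊤)) = ∑ l, c l • (show (Coh.toAb M).obj.obj (op ⊤) from
        sec (σ l) ⊤) := by
      refine hc.trans (Finset.sum_congr rfl fun l _ => ?_)
      have h2 : c l • (show (Coh.toAb M).obj.obj (op ⊤) from sec (σ l) ⊤) =
          (show Γ(X, ⊤) from secAlg fX ⊤ (c l)) • (show Γ(M, ⊤) from sec (σ l) ⊤) := rfl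
      have h3 : secAlg fX ⊤ (c l) = Coh.toGlobal fX (c l) := Groth.Agent.Lib.Helper18.HH.resTop_top _
      rw [h2, h3]
      rfl
    rw [hm, map_sum]
    refine Submodule.sum_mem _ fun l _ => ?_
    rw [hbc.map_smul]
    exact Submodule.smul_mem _ _ (Submodule.subset_span ⟨l, rfl⟩)
  have hx' : (show (Coh.toAb ((Coh.push g').obj ((Scheme.Modules.pullback g').obj M))).obj.obj (op ⊤)
      from x') ∈ Submodule.span B (Set.range s') := hle (by rw [hsp]; trivial)
  obtain ⟨c, hc⟩ := (Submodule.mem_span_range_iff_exists_fun B).mp hx'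
  refine ⟨c, hc.symm.trans (Finset.sum_congr rfl fun l _ => ?_)⟩
  have h1 : s' l = sec (pullHom g' (σ l)) ⊤ := (sec_pullHom g' (σ l) ⊤).symm
  have h2 : c l • s' l = (show Γ(X', g' ⁻¹ᵁ ⊤) from secAlg fX' (g' ⁻¹ᵁ ⊤) (c l)) •
      (show Γ((Scheme.Modules.pullback g').obj M, g' ⁻¹ᵁ ⊤) from s' l) := rfl
  have h3 : secAlg fX' (g' ⁻¹ᵁ ⊤) (c l) = Coh.toGlobal fX' (c l) := Groth.Agent.Lib.Helper18.HH.resTop_top _
  rw [h2, h3, h1]
  rfl

end Scheme

end Groth.Agent.Lib.helper9.VABC1
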