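import Mathlib

/-!
# Commutative algebra for the very ampleness criterion on curves (helper9)

* `exists_sub_algebraMap_mem_of_isMaximal`: residue fields of finite (resp. finite type) algebras over an
  algebraically closed field are trivial.
* `exists_ideal_finrank_two`: a finite-dimensional algebra `D` over an algebraically closed field `K` with
  `K → D` not surjective has an ideal of codimension exactly two.
* `eq_top_of_forall_isMaximal_sup`: Nakayama, in the form "a submodule of a finite module which is everything
  modulo every maximal ideal is everything".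
(The descent of generation along a field extension is in `VAAlg2`.)
-/

set_option autoImplicit false
set_option linter.style.haveILetI false

open TensorProduct

namespace Groth.Agent.Lib.helper9.VAAlg

section Residue

variable {K D : Type*} [Field K] [IsAlgClosed K] [CommRing D] [Algebra K D]

/-- Over an algebraically closed field, the residue field of a finite algebra at a maximal ideal is the base
field. -/
theorem exists_sub_algebraMap_mem_of_isMaximal [Module.Finite K D] (m : Ideal D) [hm : m.IsMaximal]
    (d : D) : ∃ c : K, d - algebraMap K D c ∈ m := by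
  letI := Ideal.Quotient.field m
  have : Algebra.IsIntegral K (D ⧸ m) := Algebra.IsIntegral.of_finite K (D ⧸ m)
  obtain ⟨c, hc⟩ := (IsAlgClosed.algebraMap_bijective_of_isIntegral (k := K) (K := D ⧸ m)).2
    (Ideal.Quotient.mk m d)
  refine ⟨c, ?_⟩
  rw [← Ideal.Quotient.eq_zero_iff_mem, map_sub, ← hc]
  exact sub_eq_zero.mpr rfl

/-- Over an algebraically closed field, the residue field of a finite type algebra at a maximal ideal is the
base field (Nullstellensatz). -/
theorem exists_sub_algebraMap_mem_of_isMaximal_of_finiteType [Algebra.FiniteType K D] (m : Ideal D)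
    [hm : m.IsMaximal] (d : D) : ∃ c : K, d - algebraMap K D c ∈ m := by
  letI := Ideal.Quotient.field m
  have : Algebra.FiniteType K (D ⧸ m) :=
    Algebra.FiniteType.of_surjective (Ideal.Quotient.mkₐ K m) (Ideal.Quotient.mkₐ_surjective K m)
  have : Module.Finite K (D ⧸ m) := finite_of_finite_type_of_isJacobsonRing K (D ⧸ m)
  have : Algebra.IsIntegral K (D ⧸ m) := Algebra.IsIntegral.of_finite K (D ⧸ m)
  obtain ⟨c, hc⟩ := (IsAlgClosed.algebraMap_bijective_of_isIntegral (k := K) (K := D ⧸ m)).2
    (Ideal.Quotient.mk m d)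
  refine ⟨c, ?_⟩
  rw [← Ideal.Quotient.eq_zero_iff_mem, map_sub, ← hc]
  exact sub_eq_zero.mpr rfl

/-- A finite-dimensional algebra over an algebraically closed field `K` for which `K → D` is not surjective
has an ideal of codimension exactly two. -/
theorem exists_ideal_finrank_two [Module.Finite K D]
    (h : ¬ Function.Surjective (algebraMap K D)) :
    ∃ H : Ideal D, Module.finrank K (D ⧸ H) = 2 := by
  classical
  have hnt : Nontrivial D := by
    by_contra hD
    rw [not_nontrivial_iff_subsingleton] at hD
    exact h (fun d => ⟨0, Subsingleton.elim _ _⟩)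
  obtain ⟨m, hm⟩ := Ideal.exists_maximal D
  have hmne : m ≠ ⊥ := by
    intro hm0
    apply h
    intro d
    obtain ⟨c, hc⟩ := exists_sub_algebraMap_mem_of_isMaximal (K := K) m d
    rw [hm0, Ideal.mem_bot, sub_eq_zero] at hc
    exact ⟨c, hc.symm⟩
  have hnoeth : IsNoetherianRing D :=
    isNoetherian_of_tower K (isNoetherian_of_isNoetherianRing_of_finite K D)
  -- an ideal maximal among those strictly contained in `m`
  obtain ⟨H, hHm', hHmax⟩ := (wellFounded_gt (α := Ideal D)).has_min {H | H < m}
    ⟨⊥, bot_lt_iff_ne_bot.mpr hmne⟩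
  have hHm : H < m := hHm'
  replace hHmax : ∀ H' : Ideal D, H < H' → H' ≤ m → H' = m := by
    intro H' h1 h2
    by_contra hne
    exact hHmax H' (lt_of_le_of_ne h2 hne) h1
  obtain ⟨x, hxm, hxH⟩ := SetLike.exists_of_lt hHm
  -- `D x ⊆ H + K x`
  have hkey : ∀ d : D, ∃ c : K, d * x - algebraMap K D c * x ∈ H := by
    intro d
    -- the colon ideal `(H : x)`
    let m' : Ideal D := Submodule.comap (LinearMap.mulRight D x) H
    have hm'mem : ∀ e : D, e ∈ m' ↔ e * x ∈ H := fun e => by
      show e ∈ Submodule.comap (LinearMap.mulRight D x) H ↔ _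
      rw [Submodule.mem_comap, LinearMap.mulRight_apply]
    have hm' : m' ≠ ⊤ := by
      intro htop
      apply hxH
      have : (1 : D) ∈ m' := htop ▸ Submodule.mem_top
      rw [hm'mem, one_mul] at this
      exact this
    obtain ⟨n, hn, hm'n⟩ := Ideal.exists_le_maximal m' hm'
    obtain ⟨c, hc⟩ := exists_sub_algebraMap_mem_of_isMaximal (K := K) n d
    refine ⟨c, ?_⟩
    rw [← sub_mul]
    set ν := d - algebraMap K D c with hν
    by_contra hνx
    have h1 : H < H ⊔ Ideal.span {ν * x} :=
      lt_of_le_of_ne le_sup_left (fun heq => hνx (heq ▸ (le_sup_right : Ideal.span {ν * x} ≤ _)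
        (Ideal.mem_span_singleton_self _)))
    have h2 : H ⊔ Ideal.span {ν * x} ≤ m :=
      sup_le hHm.le ((Ideal.span_singleton_le_iff_mem _).mpr (m.mul_mem_left _ hxm))
    have h3 := hHmax _ h1 h2
    have h4 : x ∈ H ⊔ Ideal.span {ν * x} := h3 ▸ hxm
    obtain ⟨y, hy, z, hz, hyz⟩ := Submodule.mem_sup.mp h4
    obtain ⟨e, rfl⟩ := Ideal.mem_span_singleton'.mp hz
    have h5 : (1 - e * ν) ∈ m' := by
      rw [hm'mem]
      have : (1 - e * ν) * x = y := by linear_combination (-1 : D) * hyz
      rw [this]
      exact hy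
    have h6 : (1 : D) ∈ n := by
      have := n.add_mem (hm'n h5) (n.mul_mem_left e hc)
      simpa using this
    exact hn.ne_top ((Ideal.eq_top_iff_one _).mpr h6)
  -- dimension count
  let Hk : Submodule K D := H.restrictScalars K
  let mk : Submodule K D := m.restrictScalars K
  have hmk : mk = Hk ⊔ K ∙ x := by
    apply le_antisymm
    · intro y hy
      have hy' : y ∈ m := hy
      have h3 : H ⊔ Ideal.span {x} = m := hHmax _
        (lt_of_le_of_ne le_sup_left (fun heq => hxH (heq ▸ (le_sup_right : Ideal.span {x} ≤ _)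
          (Ideal.mem_span_singleton_self _))))
        (sup_le hHm.le ((Ideal.span_singleton_le_iff_mem _).mpr hxm))
      rw [← h3] at hy'
      obtain ⟨y1, hy1, z, hz, rfl⟩ := Submodule.mem_sup.mp hy'
      obtain ⟨e, rfl⟩ := Ideal.mem_span_singleton'.mp hz
      obtain ⟨c, hc⟩ := hkey e
      have : y1 + e * x = (y1 + (e * x - algebraMap K D c * x)) + c • x := by
        rw [Algebra.smul_def]; ring
      rw [this]
      exact Submodule.add_mem_sup (H.add_mem hy1 hc) (Submodule.mem_span_singleton.mpr ⟨c, rfl⟩)
    · refine sup_le (fun y hy => hHm.le hy) ?_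
      rw [Submodule.span_singleton_le_iff_mem]
      exact hxm
  have hfin1 : Module.finrank K (D ⧸ m) = 1 := by
    letI := Ideal.Quotient.field m
    have hbij : Function.Bijective (Algebra.linearMap K (D ⧸ m)) := by
      have : Algebra.IsIntegral K (D ⧸ m) := Algebra.IsIntegral.of_finite K (D ⧸ m)
      exact IsAlgClosed.algebraMap_bijective_of_isIntegral (k := K) (K := D ⧸ m)
    rw [← (LinearEquiv.ofBijective _ hbij).finrank_eq, Module.finrank_self]
  have e1 : Module.finrank K (D ⧸ m) + Module.finrank K mk = Module.finrank K D :=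
    Submodule.finrank_quotient_add_finrank mk
  have e2 : Module.finrank K (D ⧸ H) + Module.finrank K Hk = Module.finrank K D :=
    Submodule.finrank_quotient_add_finrank Hk
  have e3 : Module.finrank K mk = Module.finrank K Hk + 1 := by
    have hx0 : x ≠ 0 := fun h0 => hxH (h0 ▸ H.zero_mem)
    have hdisj : Hk ⊓ K ∙ x = ⊥ := by
      rw [eq_bot_iff]
      rintro y ⟨hy1, hy2⟩
      obtain ⟨c, rfl⟩ := Submodule.mem_span_singleton.mp hy2
      by_cases hc : c = 0
      · simp [hc]
      · exfalso
        apply hxH
        have : x = c⁻¹ • (c • x) := by rw [smul_smul, inv_mul_cancel₀ hc, one_smul]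
        rw [this]
        exact Hk.smul_mem _ hy1
    have h4 := Submodule.finrank_sup_add_finrank_inf_eq Hk (K ∙ x)
    rw [hdisj, finrank_bot, add_zero, finrank_span_singleton hx0, ← hmk] at h4
    exact h4
  refine ⟨H, ?_⟩
  have e2' : Module.finrank K (D ⧸ H) + Module.finrank K Hk = Module.finrank K D := e2
  omega

end Residue

section Nakayama

variable {R P : Type*} [CommRing R] [AddCommGroup P] [Module R P]

/-- **Nakayama**: a submodule of a finite module which surjects onto every fibre over a maximal ideal is
everything. -/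
theorem eq_top_of_forall_isMaximal_sup [Module.Finite R P] (N : Submodule R P)
    (h : ∀ M : Ideal R, M.IsMaximal → N ⊔ M • (⊤ : Submodule R P) = ⊤) : N = ⊤ := by
  by_contra hN
  let Q := P ⧸ N
  have hQ : Module.Finite R Q := inferInstance
  let 𝔠 : Ideal R := Module.annihilator R Q
  have h𝔠 : 𝔠 ≠ ⊤ := by
    intro htop
    apply hN
    have hsub : Subsingleton Q := Module.annihilator_eq_top_iff.mp htop
    rw [eq_top_iff]
    intro p _
    have : N.mkQ p = 0 := Subsingleton.elim _ _
    exact (Submodule.Quotient.mk_eq_zero N).mp this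
  obtain ⟨M, hM, h𝔠M⟩ := Ideal.exists_le_maximal 𝔠 h𝔠
  have h1 : (⊤ : Submodule R Q) ≤ M • (⊤ : Submodule R Q) := by
    intro q _
    obtain ⟨p, rfl⟩ := N.mkQ_surjective q
    have hp : p ∈ N ⊔ M • (⊤ : Submodule R P) := by rw [h M hM]; exact Submodule.mem_top
    obtain ⟨p1, hp1, p2, hp2, rfl⟩ := Submodule.mem_sup.mp hp
    have hz : N.mkQ p1 = 0 := by
      rw [Submodule.mkQ_apply]
      exact (Submodule.Quotient.mk_eq_zero N).mpr hp1
    rw [map_add, hz, zero_add]
    have : M • (⊤ : Submodule R P) ≤ (M • (⊤ : Submodule R Q)).comap N.mkQ := by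
      rw [Submodule.smul_le]
      intro r hr p _
      show N.mkQ (r • p) ∈ M • (⊤ : Submodule R Q)
      rw [map_smul]
      exact Submodule.smul_mem_smul hr Submodule.mem_top
    exact this hp2
  obtain ⟨r, hr1, hr2⟩ := Submodule.exists_sub_one_mem_and_smul_eq_zero_of_fg_of_le_smul M
    (⊤ : Submodule R Q) (Module.finite_def.mp hQ) h1
  have hr𝔠 : r ∈ 𝔠 := Module.mem_annihilator.mpr (fun q => hr2 q Submodule.mem_top)
  have : (1 : R) ∈ M := by
    have := M.sub_mem (h𝔠M hr𝔠) hr1
    simpa using this
  exact hM.ne_top ((Ideal.eq_top_iff_one _).mpr this)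

end Nakayama

end Groth.Agent.Lib.helper9.VAAlg
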