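import Mathlib
import Groth.Agent.Lib.Helper9.VAAlg

/-!
# Descent of generation by ratios along a field extension (helper9)

* `adjoin_eq_top_of_baseChange`: `B` a `k`-algebra, `B' = K ⊗_k B` with `K` algebraically closed, `ρ` a finite family
  in `B` such that `B` is finite over `k[ρ]`.  If for every ideal `𝔞` of `B'` with `B'/𝔞` finite over `K` modulo which
  all `ρ_l` are constants, `K → B'/𝔞` is surjective, then `B = k[ρ]`.
-/

set_option autoImplicit false
set_option linter.style.haveILetI false

open TensorProduct

namespace Groth.Agent.Lib.helper9.VAAlg2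

section fin

variable {k K B B' : Type*} [CommRing k] [CommRing K] [Algebra k K] [CommRing B] [CommRing B']
  [Algebra k B] [Algebra K B'] [Algebra B B'] [Algebra k B'] [IsScalarTower k B B']
  [IsScalarTower k K B'] [Algebra.IsPushout k K B B'] {ι : Type*} (ρ : ι → B)

omit [Algebra.IsPushout k K B B'] in
/-- the image of `k[ρ]` lies in `K[ρ']` -/
theorem algebraMap_mem_adjoin (a : B) (ha : a ∈ Algebra.adjoin k (Set.range ρ)) :
    algebraMap B B' a ∈ Algebra.adjoin K (Set.range fun l => algebraMap B B' (ρ l)) := by
  induction ha using Algebra.adjoin_induction with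
  | mem x hx =>
    obtain ⟨l, rfl⟩ := hx
    exact Algebra.subset_adjoin ⟨l, rfl⟩
  | algebraMap r =>
    rw [← IsScalarTower.algebraMap_apply k B B', IsScalarTower.algebraMap_apply k K B']
    exact Subalgebra.algebraMap_mem _ _
  | add x y _ _ hx hy =>
    rw [map_add]
    exact Subalgebra.add_mem _ hx hy
  | mul x y _ _ hx hy =>
    rw [map_mul]
    exact Subalgebra.mul_mem _ hx hy

/-- finiteness over the subalgebra generated by `ρ` is preserved by base change -/
theorem finite_adjoin_baseChange [Module.Finite (Algebra.adjoin k (Set.range ρ)) B] :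
    Module.Finite (Algebra.adjoin K (Set.range fun l => algebraMap B B' (ρ l))) B' := by
  classical
  set A := Algebra.adjoin k (Set.range ρ) with hA
  set A'' := Algebra.adjoin K (Set.range fun l => algebraMap B B' (ρ l)) with hA''
  obtain ⟨s, hs⟩ := (Module.Finite.fg_top : (⊤ : Submodule A B).FG)
  let S'' : Submodule A'' B' := Submodule.span A'' ((algebraMap B B') '' (s : Set B))
  have H : ∀ b : B, algebraMap B B' b ∈ S'' := by
    intro b
    have hb : b ∈ Submodule.span A (s : Set B) := by rw [hs]; trivial
    induction hb using Submodule.span_induction with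
    | mem x hx => exact Submodule.subset_span ⟨x, hx, rfl⟩
    | zero => rw [map_zero]; exact Submodule.zero_mem _
    | add x y _ _ hx hy => rw [map_add]; exact Submodule.add_mem _ hx hy
    | smul a x _ hx =>
      have h1 : algebraMap B B' (a • x) =
          (⟨algebraMap B B' (a : B), algebraMap_mem_adjoin ρ a a.2⟩ : A'') • algebraMap B B' x := by
        rw [Algebra.smul_def, map_mul]
        rfl
      rw [h1]
      exact Submodule.smul_mem _ _ hx
  have hbc : IsBaseChange K (IsScalarTower.toAlgHom k B B').toLinearMap :=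
    Algebra.IsPushout.out
  have htop : ∀ x : B', x ∈ S'' := by
    intro x
    refine hbc.inductionOn x (fun x => x ∈ S'') (Submodule.zero_mem _) (fun m => H m) ?_
      (fun _ _ h₁ h₂ => Submodule.add_mem _ h₁ h₂)
    intro c n hn
    have h1 : c • n = (algebraMap K A'' c) • n := by
      rw [Algebra.smul_def, Algebra.smul_def]
      rfl
    rw [h1]
    exact Submodule.smul_mem _ _ hn
  refine ⟨⟨s.image (algebraMap B B'), ?_⟩⟩
  rw [Finset.coe_image, eq_top_iff]
  intro x _
  exact htop x

end fin

section alg

variable {K B' : Type*} [Field K] [IsAlgClosed K] [CommRing B'] [Algebra K B'] {ι : Type*}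
  [Finite ι] (ρ' : ι → B')

/-- **Generation by ratios over an algebraically closed field** (Nakayama): if `B'` is finite over `K[ρ']` and modulo
every ideal `𝔞` with `B'/𝔞` finite over `K` and all `ρ'_l` constant the field `K` surjects onto `B'/𝔞`, then
`B' = K[ρ']`. -/
theorem adjoin_eq_top_of_finite [Module.Finite (Algebra.adjoin K (Set.range ρ')) B']
    (hkey : ∀ (a : ι → K) (𝔞 : Ideal B'), (∀ l, ρ' l - algebraMap K B' (a l) ∈ 𝔞) →
      Module.Finite K (B' ⧸ 𝔞) → ∀ b : B', ∃ c : K, b - algebraMap K B' c ∈ 𝔞) :
    Algebra.adjoin K (Set.range ρ') = ⊤ := by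
  classical
  set A'' := Algebra.adjoin K (Set.range ρ') with hA''
  haveI : Algebra.FiniteType K A'' := Algebra.FiniteType.adjoin_of_finite (Set.finite_range ρ')
  let N : Submodule A'' B' := LinearMap.range (Algebra.linearMap A'' B')
  have hN : N = ⊤ := by
    apply VAAlg.eq_top_of_forall_isMaximal_sup
    intro M hM
    haveI := hM
    have hnull : ∀ x : A'', ∃ c : K, x - algebraMap K A'' c ∈ M := fun x =>
      VAAlg.exists_sub_algebraMap_mem_of_isMaximal_of_finiteType M x
    choose a ha using fun l => hnull ⟨ρ' l, Algebra.subset_adjoin ⟨l, rfl⟩⟩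
    let 𝔞 : Ideal B' := M.map (algebraMap A'' B')
    have h𝔞 : ∀ l, ρ' l - algebraMap K B' (a l) ∈ 𝔞 := by
      intro l
      have := Ideal.mem_map_of_mem (algebraMap A'' B') (ha l)
      exact this
    have hfin : Module.Finite K (B' ⧸ 𝔞) := by
      obtain ⟨s, hs⟩ := (Module.Finite.fg_top : (⊤ : Submodule A'' B').FG)
      refine ⟨⟨s.image (Ideal.Quotient.mk 𝔞), ?_⟩⟩
      rw [Finset.coe_image, eq_top_iff]
      rintro z -
      obtain ⟨x, rfl⟩ := Ideal.Quotient.mk_surjective z
      have hx : x ∈ Submodule.span A'' (s : Set B') := by rw [hs]; trivial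
      induction hx using Submodule.span_induction with
      | mem x hx => exact Submodule.subset_span ⟨x, hx, rfl⟩
      | zero => rw [map_zero]; exact Submodule.zero_mem _
      | add x y _ _ hx hy => rw [map_add]; exact Submodule.add_mem _ hx hy
      | smul r x _ hx =>
        obtain ⟨c, hc⟩ := hnull r
        have h1 : Ideal.Quotient.mk 𝔞 (r • x) = c • Ideal.Quotient.mk 𝔞 x := by
          have h2 : r • x - c • x ∈ 𝔞 := by
            have h3 : r • x - c • x = algebraMap A'' B' (r - algebraMap K A'' c) * x := by
              rw [map_sub, sub_mul, Algebra.smul_def, Algebra.smul_def]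
              rfl
            rw [h3]
            exact Ideal.mul_mem_right _ _ (Ideal.mem_map_of_mem _ hc)
          have h4 := Ideal.Quotient.eq.mpr h2
          rw [h4]
          rfl
        rw [h1]
        exact Submodule.smul_mem _ _ hx
    have hb := hkey a 𝔞 h𝔞 hfin
    rw [eq_top_iff]
    intro b _
    obtain ⟨c, hc⟩ := hb b
    have h1 : b = algebraMap A'' B' (algebraMap K A'' c) + (b - algebraMap K B' c) := by
      have : algebraMap A'' B' (algebraMap K A'' c) = algebraMap K B' c := rfl
      rw [this]
      ring
    rw [h1]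
    refine Submodule.add_mem_sup ⟨algebraMap K A'' c, rfl⟩ ?_
    rw [Ideal.smul_top_eq_map]
    exact hc
  rw [eq_top_iff]
  intro b _
  have hb : b ∈ N := by rw [hN]; trivial
  obtain ⟨x, rfl⟩ := hb
  exact x.2

end alg

section desc

variable {k K B B' : Type*} [Field k] [Field K] [Algebra k K] [CommRing B] [CommRing B']
  [Algebra k B] [Algebra K B'] [Algebra B B'] [Algebra k B'] [IsScalarTower k B B']
  [IsScalarTower k K B'] [Algebra.IsPushout k K B B']

/-- descent of "subalgebra is everything" along a field extension -/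
theorem eq_top_of_adjoin_map_eq_top (C : Subalgebra k B)
    (hC : Algebra.adjoin K ((algebraMap B B') '' (C : Set B)) = ⊤) : C = ⊤ := by
  by_contra hne
  have hlt : Subalgebra.toSubmodule C < ⊤ := by
    refine lt_of_le_of_ne le_top ?_
    intro h
    apply hne
    rw [eq_top_iff]
    intro x _
    have : x ∈ Subalgebra.toSubmodule C := by rw [h]; trivial
    exact this
  obtain ⟨f, hf0, hfC⟩ := Submodule.exists_le_ker_of_lt_top _ hlt
  have hbc : IsBaseChange K (IsScalarTower.toAlgHom k B B').toLinearMap :=
    Algebra.IsPushout.out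
  let f' : B' →ₗ[K] K := hbc.lift ((Algebra.linearMap k K).comp f)
  have hf' : ∀ b : B, f' (algebraMap B B' b) = algebraMap k K (f b) := fun b =>
    hbc.lift_eq ((Algebra.linearMap k K).comp f) b
  have hspan : Subalgebra.toSubmodule (Algebra.adjoin K ((algebraMap B B') '' (C : Set B))) =
      Submodule.span K ((algebraMap B B') '' (C : Set B)) := by
    rw [Algebra.adjoin_eq_span]
    congr 1
    have : ((algebraMap B B') '' (C : Set B)) = ((C.toSubsemiring.toSubmonoid.map
        (algebraMap B B' : B →* B') : Submonoid B') : Set B') := rfl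
    rw [this, Submonoid.closure_eq]
  have hzero : ∀ x : B', f' x = 0 := by
    intro x
    have hx : x ∈ Submodule.span K ((algebraMap B B') '' (C : Set B)) := by
      rw [← hspan, hC]
      trivial
    induction hx using Submodule.span_induction with
    | mem y hy =>
      obtain ⟨c, hc, rfl⟩ := hy
      rw [hf']
      have : f c = 0 := hfC hc
      rw [this, map_zero]
    | zero => exact map_zero _
    | add y z _ _ hy hz => rw [map_add, hy, hz, add_zero]
    | smul r y _ hy => rw [map_smul, hy, smul_zero]
  apply hf0
  ext b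
  have h1 := hf' b
  rw [hzero, eq_comm] at h1
  exact (map_eq_zero_iff _ (algebraMap k K).injective).mp h1

end desc

section main

variable {k K B B' : Type*} [Field k] [Field K] [IsAlgClosed K] [Algebra k K] [CommRing B] [CommRing B']
  [Algebra k B] [Algebra K B'] [Algebra B B'] [Algebra k B'] [IsScalarTower k B B']
  [IsScalarTower k K B'] [Algebra.IsPushout k K B B'] {ι : Type*} [Finite ι] (ρ : ι → B)

/-- **Descent of generation by ratios**. -/
theorem adjoin_eq_top_of_baseChange [Module.Finite (Algebra.adjoin k (Set.range ρ)) B]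
    (hkey : ∀ (a : ι → K) (𝔞 : Ideal B'),
      (∀ l, algebraMap B B' (ρ l) - algebraMap K B' (a l) ∈ 𝔞) →
      Module.Finite K (B' ⧸ 𝔞) → ∀ b : B', ∃ c : K, b - algebraMap K B' c ∈ 𝔞) :
    Algebra.adjoin k (Set.range ρ) = ⊤ := by
  haveI := finite_adjoin_baseChange (k := k) (K := K) (B' := B') ρ
  have h1 := adjoin_eq_top_of_finite (fun l => algebraMap B B' (ρ l)) hkey
  apply eq_top_of_adjoin_map_eq_top (K := K) (B' := B')
  rw [eq_top_iff, ← h1]
  apply Algebra.adjoin_mono
  rintro _ ⟨l, rfl⟩
  exact ⟨ρ l, Algebra.subset_adjoin ⟨l, rfl⟩, rfl⟩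

end main

end Groth.Agent.Lib.helper9.VAAlg2
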