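import Mathlib
import Groth.Agent.Lib.Helper8.FlatCohBC4
import Groth.Agent.Lib.Helper9.VAAlg2

/-!
# Descent of generation by ratios for sections over an affine open (helper9)

* `adjoin_eq_top_of_baseChange_sections`: geometric form of `VAAlg2.adjoin_eq_top_of_baseChange` for
  `B = Γ(X, W)`, `B' = Γ(X', g⁻¹ W)` with `X' = X ×_k K`.
-/

set_option autoImplicit false
set_option linter.style.haveILetI false
universe u
open CategoryTheory CategoryTheory.Limits Opposite TopologicalSpace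
open AlgebraicGeometry

namespace Groth.Agent.Lib.helper9.VABC2

open Groth.Agent.Lib.helper8.FlatCohBC

variable {k K : Type u} [Field k] [Field K] [IsAlgClosed K] [Algebra k K]
variable {X X' : Scheme.{u}} (fX : X ⟶ Spec (CommRingCat.of k)) (fX' : X' ⟶ Spec (CommRingCat.of K))
  (g' : X' ⟶ X)
  (h : IsPullback g' fX' fX (Spec.map (CommRingCat.ofHom (algebraMap k K))))

include h in
theorem adjoin_eq_top_of_baseChange_sections (W : X.Opens) (hW : IsAffineOpen W)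
    {ι : Type*} [Finite ι] (ρ : ι → Γ(X, W))
    (hfin : letI : Algebra k Γ(X, W) := (secAlg fX W).toAlgebra
      Module.Finite (Algebra.adjoin k (Set.range ρ)) Γ(X, W))
    (hkey : letI : Algebra K Γ(X', g' ⁻¹ᵁ W) := (secAlg fX' (g' ⁻¹ᵁ W)).toAlgebra
      ∀ (a : ι → K) (𝔞 : Ideal Γ(X', g' ⁻¹ᵁ W)),
      (∀ l, (g'.appLE W (g' ⁻¹ᵁ W) le_rfl).hom (ρ l) - algebraMap K Γ(X', g' ⁻¹ᵁ W) (a l) ∈ 𝔞) →
      Module.Finite K (Γ(X', g' ⁻¹ᵁ W) ⧸ 𝔞) →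
      ∀ b : Γ(X', g' ⁻¹ᵁ W), ∃ c : K, b - algebraMap K Γ(X', g' ⁻¹ᵁ W) c ∈ 𝔞) :
    letI : Algebra k Γ(X, W) := (secAlg fX W).toAlgebra
    Algebra.adjoin k (Set.range ρ) = ⊤ := by
  letI : Algebra k Γ(X, W) := (secAlg fX W).toAlgebra
  letI : Algebra K Γ(X', g' ⁻¹ᵁ W) := (secAlg fX' (g' ⁻¹ᵁ W)).toAlgebra
  letI : Algebra Γ(X, W) Γ(X', g' ⁻¹ᵁ W) := (g'.appLE W (g' ⁻¹ᵁ W) le_rfl).hom.toAlgebra
  letI : Algebra k Γ(X', g' ⁻¹ᵁ W) :=
    ((secAlg fX' (g' ⁻¹ᵁ W)).comp (algebraMap k K)).toAlgebra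
  have hpo := isPushout_sections fX fX' g' h W hW
  haveI : IsScalarTower k K Γ(X', g' ⁻¹ᵁ W) := IsScalarTower.of_algebraMap_eq' rfl
  haveI : IsScalarTower k Γ(X, W) Γ(X', g' ⁻¹ᵁ W) := by
    refine IsScalarTower.of_algebraMap_eq' ?_
    have hw := hpo.w
    exact congrArg CommRingCat.Hom.hom hw
  haveI : Algebra.IsPushout k K Γ(X, W) Γ(X', g' ⁻¹ᵁ W) :=
    CommRingCat.isPushout_iff_isPushout.mp hpo
  haveI := hfin
  exact VAAlg2.adjoin_eq_top_of_baseChange (k := k) (K := K) (B := Γ(X, W)) (B' := Γ(X', g' ⁻¹ᵁ W))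
    ρ hkey

end Groth.Agent.Lib.helper9.VABC2
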