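import Mathlib
import Groth.Agent.Lib.Helper18.CurveMapFinite

/-!
# A nonconstant proper morphism from an integral curve is finite (helper9)

* `isFinite_of_not_isClosed`: `X` integral Noetherian of dimension `≤ 1`, `f : X ⟶ Y` proper such that the image of
  the generic point is not a closed point: then `f` is finite.
-/

set_option autoImplicit false
set_option backward.isDefEq.respectTransparency false
universe u

open CategoryTheory AlgebraicGeometry Opposite TopologicalSpace CategoryTheory.Limits

namespace Groth.Agent.Lib.helper9.VAFinite

open Groth.Agent.Lib.Helper18.CurveMapFinite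

variable {X Y : Scheme.{u}} [IsIntegral X] (f : X ⟶ Y)

theorem finite_fibre [IsNoetherian X] (hX : topologicalKrullDim X ≤ 1) (hcl : IsClosedMap f.base)
    (hξ : ¬ IsClosed ({f (genericPoint X)} : Set Y)) (y : Y) : (f.base ⁻¹' {y}).Finite := by
  have hpt : ∀ a : X, a ≠ genericPoint X → IsClosed ({f a} : Set Y) := by
    intro a ha
    have h1 : IsClosed ({a} : Set X) := isClosed_singleton_of_ne_genericPoint X hX a ha
    have h2 : IsClosed (f.base '' ({a} : Set X)) := hcl _ h1
    rwa [Set.image_singleton] at h2
  by_cases hy : y = f (genericPoint X)
  · apply Set.Subsingleton.finite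
    have key : ∀ a, a ∈ f.base ⁻¹' {y} → a = genericPoint X := by
      intro a ha
      by_contra hne
      apply hξ
      have h1 := hpt a hne
      have h2 : f a = f (genericPoint X) := ha.trans hy
      rwa [h2] at h1
    intro a ha b hb
    rw [key a ha, key b hb]
  · by_cases hne : (f.base ⁻¹' {y}).Nonempty
    · obtain ⟨a, ha⟩ := hne
      have haξ : a ≠ genericPoint X := by
        rintro rfl
        exact hy ha.symm
      have hycl : IsClosed ({y} : Set Y) := by
        have := hpt a haξ
        have h2 : f a = y := ha
        rwa [h2] at this
      have hC : IsClosed (f.base ⁻¹' {y}) := hycl.preimage f.continuous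
      exact Groth.Agent.Lib.Helper20.ZeroDimSupp.finite_of_isClosed_of_closed_points _ hC
        (fun b hb => isClosed_singleton_of_ne_genericPoint X hX b (by
          rintro rfl
          exact hy hb.symm))
    · rw [Set.not_nonempty_iff_eq_empty] at hne
      rw [hne]
      exact Set.finite_empty

/-- a proper morphism from an integral Noetherian scheme of dimension `≤ 1` which does not contract the generic
point to a closed point is finite -/
theorem isFinite_of_not_isClosed [IsNoetherian X] [IsProper f] (hX : topologicalKrullDim X ≤ 1)
    (hξ : ¬ IsClosed ({f (genericPoint X)} : Set Y)) : IsFinite f := by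
  have hcl : IsClosedMap f.base := f.isClosedMap
  choose W hxW hW using fun y =>
    exists_isFinite_morphismRestrict_of_finite_preimage_singleton f y
      (finite_fibre f hX hcl hξ y)
  refine IsZariskiLocalAtTarget.of_iSup_eq_top (P := @IsFinite) W ?_ hW
  exact top_le_iff.mp fun y _ => Opens.mem_iSup.mpr ⟨y, hxW y⟩

end Groth.Agent.Lib.helper9.VAFinite
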