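import Mathlib
import Groth.Agent.Lib.Helper9.CurveTwist
import Groth.Agent.Lib.Helper3.TopDim

/-!
# Zero-dimensional subschemes impose independent conditions on sections of line bundles of large degree (helper9)

* `dim_le_zero_of_isClosed_ne_univ`: a proper closed subset of an irreducible space of dimension `≤ 1` has
  dimension `≤ 0`.
* `dim_support_le_zero_of_ne_bot`: on an integral scheme of dimension `≤ 1` the support of a nonzero ideal is
  zero-dimensional.
* `finrank_H0_quotMod_bot`.
* `finrank_H0_idealTwist_add`: on an integral proper curve with `h⁰(O) = 1`, if `deg L > 2g − 2 + h⁰(O/I)` then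
  `h⁰(I ⊗ L) + h⁰(O/I) = h⁰(L)`.
-/

set_option autoImplicit false
set_option linter.style.haveILetI false
universe u
open CategoryTheory CategoryTheory.Limits AlgebraicGeometry Opposite TopologicalSpace Module
open Scheme.Modules

namespace Groth.Agent.Lib.helper9.CurveSep

open Groth.Agent.Lib.Helper18 Groth.Agent.Lib.helper11.IsoLocus Groth.Agent.Lib.helper11.InvMod
open Groth.Agent.Lib.Lead.ModTensor Groth.Agent.Lib.helper9.CurvePunctual
open Groth.Agent.Lib.helper9.CurveVanish Groth.Agent.Lib.helper9.CurveTwist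
open Groth.Agent.Lib.Lead.CurveInv Groth.Agent.Lib.Lead.CurveEuler

/-- a proper closed subset of an irreducible space of dimension `≤ 1` has dimension `≤ 0` -/
theorem dim_le_zero_of_isClosed_ne_univ {T : Type*} [TopologicalSpace T] [IrreducibleSpace T]
    (hdim : topologicalKrullDim T ≤ 1) (Z : Set T) (hZ : IsClosed Z) (hne : Z ≠ Set.univ) :
    topologicalKrullDim Z ≤ 0 := by
  unfold topologicalKrullDim
  rw [Order.krullDim_nonpos_iff_forall_isMax]
  intro a b hab
  by_contra hba
  have hlt : a < b := lt_of_le_not_ge hab hba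
  have hsm : StrictMono (IrreducibleCloseds.map (Subtype.val : Z → T) continuous_subtype_val) :=
    IrreducibleCloseds.map_strictMono_of_isInducing Topology.IsInducing.subtypeVal
  have h1 := hsm hlt
  let Tt : IrreducibleCloseds T := ⟨Set.univ, IrreducibleSpace.isIrreducible_univ T, isClosed_univ⟩
  have hsub : ((IrreducibleCloseds.map (Subtype.val : Z → T) continuous_subtype_val b :
      IrreducibleCloseds T) : Set T) ⊆ Z := by
    change closure (Subtype.val '' (b : Set Z)) ⊆ Z
    exact closure_minimal (by rintro _ ⟨y, -, rfl⟩; exact y.2) hZ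
  have h2 : IrreducibleCloseds.map (Subtype.val : Z → T) continuous_subtype_val b < Tt := by
    refine lt_of_le_of_ne (fun x _ => Set.mem_univ x) ?_
    intro h
    apply hne
    rw [Set.eq_univ_iff_forall]
    intro x
    apply hsub
    rw [h]
    exact Set.mem_univ x
  let s : LTSeries (IrreducibleCloseds T) :=
    ((RelSeries.singleton _ (IrreducibleCloseds.map (Subtype.val : Z → T) continuous_subtype_val a)).snoc
      (IrreducibleCloseds.map (Subtype.val : Z → T) continuous_subtype_val b) h1).snoc Tt
      (by rw [RelSeries.last_snoc]; exact h2)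
  have h3 := Order.LTSeries.length_le_krullDim s
  have h4 : s.length = 2 := rfl
  rw [h4] at h3
  have h5 : ((2 : ℕ) : WithBot ℕ∞) ≤ 1 := h3.trans hdim
  exact absurd h5 (by decide)

/-- on an integral scheme of dimension `≤ 1` the support of a nonzero ideal is zero-dimensional -/
theorem dim_support_le_zero_of_ne_bot {X : Scheme.{u}} [IsIntegral X] (hdim : topologicalKrullDim X ≤ 1)
    (I : X.IdealSheafData) (hI : I ≠ ⊥) : topologicalKrullDim (I.support : Set X) ≤ 0 := by
  apply dim_le_zero_of_isClosed_ne_univ hdim _ I.support.isClosed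
  intro h
  apply hI
  rw [← Scheme.IdealSheafData.support_eq_top_iff]
  exact SetLike.coe_injective h

section curve

variable (k : Type u) [Field k] (X : Scheme.{u}) [X.Over (Spec (CommRingCat.of k))]
  [IsProper (X ↘ Spec (CommRingCat.of k))]

/-- `h⁰(O/0) = h⁰(O)` -/
theorem finrank_H0_quotMod_bot :
    finrank k (Coh.HH X (ClSub.quotMod (⊥ : X.IdealSheafData)) 0) =
      finrank k (Coh.HH X (Coh.structureModule X) 0) := by
  haveI : IsIso (ClSub.toSubscheme (⊥ : X.IdealSheafData)) := by
    rw [Scheme.Modules.Hom.isIso_iff_isIso_app]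
    intro V
    rw [ConcreteCategory.isIso_iff_bijective]
    have h1 : IsIso ((⊥ : X.IdealSheafData).subschemeι.app V) := inferInstance
    exact (ConcreteCategory.isIso_iff_bijective ((⊥ : X.IdealSheafData).subschemeι.app V)).mp h1
  exact (finrank_HH_eq_of_iso k (asIso (ClSub.toSubscheme (⊥ : X.IdealSheafData))) 0).symm

variable [IsIntegral X]

/-- **Independent conditions**: on an integral proper curve with `h⁰(O) = 1`, a nonzero ideal `I` with
`deg L > 2g − 2 + h⁰(O/I)` satisfies `h⁰(I ⊗ L) + h⁰(O/I) = h⁰(L)`. -/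
theorem finrank_H0_idealTwist_add (hdim : topologicalKrullDim X ≤ 1)
    (h0 : finrank k (Coh.HH X (Coh.structureModule X) 0) = 1)
    {L : X.Modules} (hL : PicF.IsInvertible L) (I : X.IdealSheafData) (hI : I ≠ ⊥)
    (hdeg : 2 * (Curv2.genus k X : ℤ) - 2 + (finrank k (Coh.HH X (ClSub.quotMod I) 0) : ℤ) <
      Curv2.deg k X L 1) :
    finrank k (Coh.HH X (CohB1.tensorMod (ClSub.idealMod I) L) 0) +
        finrank k (Coh.HH X (ClSub.quotMod I) 0) = finrank k (Coh.HH X L 0) := by
  have hZ := dim_support_le_zero_of_ne_bot hdim I hI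
  obtain ⟨hFc, heul, -⟩ := idealTwist_main k X hdim L hL I hZ
  have hLc := isCoh_of_isInvertible X hL
  have hnn : (0 : ℤ) ≤ (finrank k (Coh.HH X (ClSub.quotMod I) 0) : ℤ) := Int.natCast_nonneg _
  haveI h1L : Subsingleton (Coh.HH X L 1) :=
    subsingleton_H1_of_deg_ge k X hdim h0 hL (by linarith)
  haveI h1I : Subsingleton (Coh.HH X (CohB1.tensorMod (ClSub.idealMod I) L) 1) := by
    by_contra h
    rw [not_subsingleton_iff_nontrivial] at h
    have := deg_le_of_H1_idealTwist_nontrivial k X hdim h0 L hL I hZ h
    linarith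
  have e1 := euler_eq k X hdim _ hFc.1
  have e2 := euler_eq k X hdim L hLc.1
  rw [finrank_zero_of_subsingleton (M := Coh.HH X (CohB1.tensorMod (ClSub.idealMod I) L) 1)] at e1
  rw [finrank_zero_of_subsingleton (M := Coh.HH X L 1)] at e2
  push_cast at e1 e2
  have h3 : (finrank k (Coh.HH X (CohB1.tensorMod (ClSub.idealMod I) L) 0) : ℤ) +
      (finrank k (Coh.HH X (ClSub.quotMod I) 0) : ℤ) = (finrank k (Coh.HH X L 0) : ℤ) := by
    linarith
  exact_mod_cast h3

end curve

end Groth.Agent.Lib.helper9.CurveSep
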