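import Mathlib

/-!
# Ideal sheaves with prescribed sections on an affine open and finite support (helper9)

* `exists_idealSheafData_of_ideal`: `q : X ⟶ Spec k` separated, `U ⊆ X` affine open, `J ⊆ Γ(X, U)` an ideal
  with `Γ(X, U) / J` finite over `k`: there is an ideal sheaf `I` with `I(U) = J` and support inside `U`.
-/

set_option autoImplicit false
set_option linter.style.haveILetI false
universe u
open CategoryTheory CategoryTheory.Limits AlgebraicGeometry Opposite TopologicalSpace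

namespace Groth.Agent.Lib.helper9.VAIdeal

variable {X : Scheme.{u}}

theorem fromSpec_appLE_top {U : X.Opens} (hU : IsAffineOpen U)
    (hle : (⊤ : (Spec Γ(X, U)).Opens) ≤ hU.fromSpec ⁻¹ᵁ U) :
    hU.fromSpec.appLE U ⊤ hle = (Scheme.ΓSpecIso Γ(X, U)).inv := by
  rw [Scheme.Hom.appLE, hU.fromSpec_app_self, Category.assoc, ← Functor.map_comp]
  have : (eqToHom hU.fromSpec_preimage_self).op ≫ (homOfLE hle).op =
      𝟙 (op (⊤ : (Spec Γ(X, U)).Opens)) := Subsingleton.elim _ _
  rw [this, CategoryTheory.Functor.map_id, Category.comp_id]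

/-- the comorphism of `Spec (Γ(X, U)/J) ⟶ X` over `U` -/
theorem appLE_top_comp_fromSpec {U : X.Opens} (hU : IsAffineOpen U) (J : Ideal Γ(X, U))
    (i : (⊤ : (Spec (CommRingCat.of (Γ(X, U) ⧸ J))).Opens) ≤
      (Spec.map (CommRingCat.ofHom (Ideal.Quotient.mk J)) ≫ hU.fromSpec) ⁻¹ᵁ U) :
    (Spec.map (CommRingCat.ofHom (Ideal.Quotient.mk J)) ≫ hU.fromSpec).appLE U ⊤ i =
      CommRingCat.ofHom (Ideal.Quotient.mk J) ≫
        (Scheme.ΓSpecIso (CommRingCat.of (Γ(X, U) ⧸ J))).inv := by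
  have hle : (⊤ : (Spec Γ(X, U)).Opens) ≤ hU.fromSpec ⁻¹ᵁ U := by
    rw [hU.fromSpec_preimage_self]
  rw [← Scheme.Hom.appLE_comp_appLE _ _ U ⊤ ⊤ hle le_top, fromSpec_appLE_top hU hle,
    Scheme.ΓSpecIso_inv_naturality]
  rfl

variable {k : Type u} [Field k]

/-- An ideal of an affine open with finite quotient extends (by the unit ideal) to an ideal sheaf supported
inside the affine open. -/
theorem exists_idealSheafData_of_ideal (q : X ⟶ Spec (CommRingCat.of k)) [IsSeparated q]
    {U : X.Opens} (hU : IsAffineOpen U) (J : Ideal Γ(X, U))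
    (hfin : (q.appLE ⊤ U (fun _ _ => trivial) ≫ CommRingCat.ofHom (Ideal.Quotient.mk J)).hom.Finite) :
    ∃ I : X.IdealSheafData, I.ideal ⟨U, hU⟩ = J ∧ ((I.support : Closeds X) : Set X) ⊆ U := by
  let f : Spec (CommRingCat.of (Γ(X, U) ⧸ J)) ⟶ X :=
    Spec.map (CommRingCat.ofHom (Ideal.Quotient.mk J)) ≫ hU.fromSpec
  have hfq : f ≫ q = Spec.map (q.appLE ⊤ U (fun _ _ => trivial) ≫ CommRingCat.ofHom (Ideal.Quotient.mk J)) ≫
      (isAffineOpen_top (Spec (CommRingCat.of k))).fromSpec := by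
    rw [Spec.map_comp, Category.assoc, Category.assoc, IsAffineOpen.SpecMap_appLE_fromSpec q
      (isAffineOpen_top (Spec (CommRingCat.of k))) hU (fun _ _ => trivial)]
  haveI : IsFinite (Spec.map (q.appLE ⊤ U (fun _ _ => trivial) ≫ CommRingCat.ofHom (Ideal.Quotient.mk J))) :=
    (IsFinite.SpecMap_iff _).mpr hfin
  haveI : IsIso (isAffineOpen_top (Spec (CommRingCat.of k))).fromSpec := by
    show IsIso ((isAffineOpen_top (Spec (CommRingCat.of k))).isoSpec.inv ≫
      (⊤ : (Spec (CommRingCat.of k)).Opens).ι)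
    haveI : IsIso (⊤ : (Spec (CommRingCat.of k)).Opens).ι :=
      inferInstanceAs (IsIso (Spec (CommRingCat.of k)).topIso.hom)
    infer_instance
  haveI : IsProper (f ≫ q) := by
    rw [hfq]
    infer_instance
  haveI : IsProper f := IsProper.of_comp f q
  refine ⟨f.ker, ?_, ?_⟩
  · rw [Scheme.Hom.ker_apply]
    have hfU : f ⁻¹ᵁ U = ⊤ := by
      show (Spec.map (CommRingCat.ofHom (Ideal.Quotient.mk J)) ≫ hU.fromSpec) ⁻¹ᵁ U = ⊤
      rw [Scheme.Hom.comp_preimage, hU.fromSpec_preimage_self]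
      rfl
    have i : (⊤ : (Spec (CommRingCat.of (Γ(X, U) ⧸ J))).Opens) ≤ f ⁻¹ᵁ U := hfU.ge
    have h1 := appLE_top_comp_fromSpec hU J i
    have hinj1 : Function.Injective (Scheme.ΓSpecIso (CommRingCat.of (Γ(X, U) ⧸ J))).inv.hom :=
      (ConcreteCategory.bijective_of_isIso _).1
    have hinj2 : Function.Injective
        ((Spec (CommRingCat.of (Γ(X, U) ⧸ J))).presheaf.map (homOfLE i).op).hom := by
      have h2 : homOfLE i = eqToHom hfU.symm := Subsingleton.elim _ _
      rw [h2]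
      exact (ConcreteCategory.bijective_of_isIso _).1
    have h3 : ∀ s : Γ(X, U), (f.appLE U ⊤ i).hom s =
        ((Spec (CommRingCat.of (Γ(X, U) ⧸ J))).presheaf.map (homOfLE i).op).hom
          ((f.app U).hom s) := fun s => rfl
    ext s
    rw [RingHom.mem_ker]
    constructor
    · intro hs
      have h4 : (f.appLE U ⊤ i).hom s = 0 := by rw [h3, hs, map_zero]
      rw [h1] at h4
      have h5 : (Scheme.ΓSpecIso (CommRingCat.of (Γ(X, U) ⧸ J))).inv.hom
          (Ideal.Quotient.mk J s) = 0 := h4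
      have h6 := hinj1 (h5.trans (map_zero _).symm)
      exact Ideal.Quotient.eq_zero_iff_mem.mp h6
    · intro hs
      apply hinj2
      rw [← h3, h1, map_zero]
      show (Scheme.ΓSpecIso (CommRingCat.of (Γ(X, U) ⧸ J))).inv.hom
          (Ideal.Quotient.mk J s) = 0
      rw [Ideal.Quotient.eq_zero_iff_mem.mpr hs, map_zero]
  · rw [Scheme.Hom.support_ker]
    have hcl : IsClosed (Set.range f) := f.isClosedMap.isClosed_range
    rw [hcl.closure_eq]
    rintro _ ⟨z, rfl⟩
    have : f z ∈ Set.range hU.fromSpec := ⟨_, rfl⟩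
    rw [hU.range_fromSpec] at this
    exact this

end Groth.Agent.Lib.helper9.VAIdeal
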