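import Mathlib
import Groth.Agent.Lib.Helper9.CurveGG

/-!
# Sections of `L` whose local function lies in an ideal come from `I ⊗ L` (helper9)

Generalisation of `CurveGG.exists_preimage_of_not_mem_isoLocus` from the ideal of a closed point to an
arbitrary quasi-coherent ideal whose support lies in an affine open trivialising `L`.
-/

set_option autoImplicit false
set_option linter.style.haveILetI false
universe u
open CategoryTheory CategoryTheory.Limits AlgebraicGeometry Opposite TopologicalSpace Module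
open Scheme.Modules

namespace Groth.Agent.Lib.helper9.VAPreimage

open Groth.Agent.Lib.Helper18 Groth.Agent.Lib.helper11.IsoLocus Groth.Agent.Lib.helper11.InvMod
open Groth.Agent.Lib.Lead.ModTensor Groth.Agent.Lib.helper11.GenLocus
open Groth.Agent.Lib.helper9.CurveGen Groth.Agent.Lib.Helper20.SplitH1
open Groth.Agent.Lib.helper11.TwistH1 Groth.Agent.Lib.helper11.IdealGG
open Groth.Agent.Lib.helper12.TensorInv Groth.Agent.Lib.helper7

variable {X : Scheme.{u}}

/-- The local function of a section of `O ⊗ L` over an open `U` on which `L` is trivialised, as a linear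
equivalence. -/
noncomputable def locFn (L : X.Modules) (U : X.Opens)
    (e : L.restrict U.ι ≅ Coh.structureModule (↑U : Scheme.{u})) :
    Γ(CohB1.tensorMod (Coh.structureModule X) L, U.ι ''ᵁ ⊤) ≃ₗ[Γ(X, U.ι ''ᵁ ⊤)]
      Γ(Coh.structureModule X, U.ι ''ᵁ ⊤) :=
  CurvePunctual.sectionsEquivOfRestrictIso (CohB1.tensorMod (Coh.structureModule X) L)
    (Coh.structureModule X) U (tensorTrivIso (Coh.structureModule X) L U e)

theorem locFn_apply (L : X.Modules) (U : X.Opens)
    (e : L.restrict U.ι ≅ Coh.structureModule (↑U : Scheme.{u}))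
    (y : Γ(CohB1.tensorMod (Coh.structureModule X) L, U.ι ''ᵁ ⊤)) :
    locFn L U e y = ((tensorTrivIso (Coh.structureModule X) L U e).hom.app ⊤).hom
      (show Γ((CohB1.tensorMod (Coh.structureModule X) L).restrict U.ι, ⊤) from y) := rfl

set_option maxHeartbeats 1600000 in
/-- A global section of `O ⊗ L` whose local function on an affine open `U` trivialising `L` lies in the ideal
`Z(U)`, where the support of `Z` is contained in `U`, comes from `Z ⊗ L`. -/
theorem exists_preimage_of_mem_ideal {L : X.Modules} (hL : PicF.IsInvertible L)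
    (Z : X.IdealSheafData) (U : X.Opens)
    (e : L.restrict U.ι ≅ Coh.structureModule (↑U : Scheme.{u}))
    (hsupp : ((Z.support : Closeds X) : Set X) ⊆ U)
    (x' : Γ(CohB1.tensorMod (Coh.structureModule X) L, ⊤))
    (hU'aff : IsAffineOpen (U.ι ''ᵁ ⊤))
    (hf : (((tensorTrivIso (Coh.structureModule X) L U e).hom.app ⊤).hom
        (show Γ((CohB1.tensorMod (Coh.structureModule X) L).restrict U.ι, ⊤) from
          CurvePunctual.res (CohB1.tensorMod (Coh.structureModule X) L)
            (le_top : U.ι ''ᵁ ⊤ ≤ ⊤) x') : Γ(X, U.ι ''ᵁ ⊤)) ∈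
      Z.ideal ⟨U.ι ''ᵁ ⊤, hU'aff⟩) :
    ∃ a : Γ(CohB1.tensorMod (ClSub.idealMod Z) L, ⊤),
      ((tensorMap (ClSub.idealModι Z) (𝟙 L)).app ⊤).hom a = x' := by
  let ι := ClSub.idealModι Z
  let OL := CohB1.tensorMod (Coh.structureModule X) L
  let IL := CohB1.tensorMod (ClSub.idealMod Z) L
  let φ : IL ⟶ OL := tensorMap ι (𝟙 L)
  haveI : Mono ι := IdealMod.mono_idealModι Z
  haveI hφmono : Mono φ := mono_tensorMap_left ι hL
  let U' : X.Opens := U.ι ''ᵁ ⊤
  have hU' : U' = U := U.ι_image_top
  let θO := tensorTrivIso (Coh.structureModule X) L U e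
  let θI := tensorTrivIso (ClSub.idealMod Z) L U e
  have hn := tensorTrivIso_naturality ι L U e
  let xU : Γ(OL, U') := CurvePunctual.res OL (le_top : U' ≤ ⊤) x'
  let f : Γ(X, U') := (θO.hom.app ⊤).hom (show Γ(OL.restrict U.ι, ⊤) from xU)
  have hfmem : f ∈ Set.range ((ClSub.idealModι Z).app U').hom := by
    rw [IdealMod.mem_range_idealModι_iff_of_affine Z ⟨U', hU'aff⟩]
    exact hf
  obtain ⟨a₀, ha₀⟩ := hfmem
  let b : Γ(IL, U') := (θI.inv.app ⊤).hom (show Γ((ClSub.idealMod Z).restrict U.ι, ⊤) from a₀)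
  have hb : (φ.app U').hom b = xU := by
    have hinj : Function.Injective (θO.hom.app ⊤).hom :=
      (CurvePunctual.sectionsEquivOfRestrictIso OL (Coh.structureModule X) U θO).injective
    apply hinj
    have h5 : (θO.hom.app ⊤).hom (show Γ(OL.restrict U.ι, ⊤) from (φ.app U').hom b) =
        (ι.app U').hom ((θI.hom.app ⊤).hom (show Γ(IL.restrict U.ι, ⊤) from b)) :=
      congrArg (fun ψ : IL.restrict U.ι ⟶ (Coh.structureModule X).restrict U.ι =>
        (Scheme.Modules.Hom.app ψ ⊤).hom (show Γ(IL.restrict U.ι, ⊤) from b)) hn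
    have h6 : (θI.hom.app ⊤).hom (show Γ(IL.restrict U.ι, ⊤) from b) = a₀ :=
      congrArg (fun ψ : (ClSub.idealMod Z).restrict U.ι ⟶ (ClSub.idealMod Z).restrict U.ι =>
        (Scheme.Modules.Hom.app ψ ⊤).hom (show Γ((ClSub.idealMod Z).restrict U.ι, ⊤) from a₀))
        θI.inv_hom_id
    refine h5.trans ?_
    rw [h6]
    exact ha₀
  let π := cokernel.π φ
  let c : Γ(cokernel φ, ⊤) := (π.app ⊤).hom x'
  have hcU : CurvePunctual.res (cokernel φ) (le_top : U' ≤ ⊤) c = 0 := by
    have hnat : (π.app U').hom (CurvePunctual.res OL (le_top : U' ≤ ⊤) x') =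
        CurvePunctual.res (cokernel φ) (le_top : U' ≤ ⊤) ((π.app ⊤).hom x') :=
      PresheafOfModules.naturality_apply π.val (homOfLE (le_top : U' ≤ ⊤)).op x'
    rw [← hnat]
    change (π.app U').hom xU = 0
    rw [← hb]
    exact congrArg (fun ψ : IL ⟶ cokernel φ => (ψ.app U').hom b) (cokernel.condition φ)
  let W : X.Opens := ⟨((Z.support : Closeds X) : Set X)ᶜ, (Z.support : Closeds X).isClosed.isOpen_compl⟩
  have hWι : W ≤ isoLocus ι :=
    le_isoLocus_kernel_ι (ClSub.toSubscheme Z) W (fun V hV =>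
      subsingleton_quotMod_of_disjoint Z V (by
        rw [Set.disjoint_left]
        intro x hxV hxZ
        exact hV hxV hxZ))
  have hWφ : W ≤ isoLocus φ := hWι.trans (CurvePunctual.isoLocus_le_tensorMap ι L hL)
  have hc : c = 0 := by
    refine CurvePunctual.eq_of_cover (cokernel φ) (fun b : Bool => cond b U' W) ⊤
      (fun _ => le_top) ?_ c 0 ?_
    · intro z _
      by_cases hz : z ∈ ((Z.support : Closeds X) : Set X)
      · exact Opens.mem_iSup.mpr ⟨true, hU'.symm ▸ hsupp hz⟩
      · exact Opens.mem_iSup.mpr ⟨false, hz⟩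
    · intro b
      cases b
      · exact (eq_zero_of_le_isoLocus φ hWφ _).trans (eq_zero_of_le_isoLocus φ hWφ _).symm
      · rw [CurvePunctual.res_zero]
        exact hcU
  exact exists_preimage_of_cokernel_π_eq_zero φ ⊤ x' hc

end Groth.Agent.Lib.helper9.VAPreimage
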