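import Mathlib
import Groth.Agent.Lib.Helper9.VAAlg
import Groth.Agent.Lib.Helper9.VAPreimage
import Groth.Agent.Lib.Helper9.VAIdeal
import Groth.Agent.Lib.Helper9.VAKey1
import Groth.Agent.Lib.Helper9.CurveSep
import Groth.Agent.Lib.Helper12.ProjUP3

/-!
# Separation of points and tangent vectors by sections of a line bundle of degree `≥ 2g + 1` (helper9)

* `exists_ideal_ge_finrank_two`: an ideal `𝔞` of a `K`-algebra (`K` algebraically closed) with `D/𝔞` finite and
  `K → D/𝔞` not surjective is contained in an ideal of codimension exactly two.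
* `exists_sub_mem_of_ratio_mem`: **key lemma**.  On an integral proper curve over an algebraically closed field with
  `h⁰(O) = 1`, `deg L ≥ 2g + 1`, sections `σ` spanning `Γ(L)`, `U = X_{σ j}` affine: if `𝔞 ⊆ Γ(U)` is an ideal
  with `Γ(U)/𝔞` finite over `K` and all ratios `σ l/σ j` congruent to constants mod `𝔞`, then `K → Γ(U)/𝔞` is
  surjective.
-/

set_option autoImplicit false
set_option linter.style.haveILetI false
universe u
open CategoryTheory CategoryTheory.Limits AlgebraicGeometry Opposite TopologicalSpace Module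
open Scheme.Modules

namespace Groth.Agent.Lib.helper9.VAKey2

open Groth.Agent.Lib.Helper18 Groth.Agent.Lib.helper11.IsoLocus Groth.Agent.Lib.helper11.InvMod
open Groth.Agent.Lib.Lead.ModTensor Groth.Agent.Lib.helper11.GenLocus
open Groth.Agent.Lib.helper9.CurveTwist Groth.Agent.Lib.helper9.CurveSep
open Groth.Agent.Lib.Lead.CurveInv Groth.Agent.Lib.Lead.CurveEuler
open Groth.Agent.Lib.helper12.TensorInv Groth.Agent.Lib.helper12.ProjUP3
open Groth.Agent.Lib.helper9.VAPreimage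

section algebra

/-- an ideal with finite quotient over an algebraically closed field, for which the base field does not surject
onto the quotient, is contained in an ideal of codimension exactly two -/
theorem exists_ideal_ge_finrank_two {K D : Type*} [Field K] [IsAlgClosed K] [CommRing D] [Algebra K D]
    (𝔞 : Ideal D) [Module.Finite K (D ⧸ 𝔞)] (b : D) (hb : ∀ c : K, b - algebraMap K D c ∉ 𝔞) :
    ∃ J : Ideal D, 𝔞 ≤ J ∧ Module.finrank K (D ⧸ J) = 2 := by
  have hns : ¬ Function.Surjective (algebraMap K (D ⧸ 𝔞)) := by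
    intro hs
    obtain ⟨c, hc⟩ := hs (Ideal.Quotient.mk 𝔞 b)
    apply hb c
    rw [← Ideal.Quotient.eq_zero_iff_mem, map_sub, ← hc]
    exact sub_self _
  obtain ⟨H, hH⟩ := VAAlg.exists_ideal_finrank_two hns
  let f : D →ₐ[K] (D ⧸ 𝔞) ⧸ H := (Ideal.Quotient.mkₐ K H).comp (Ideal.Quotient.mkₐ K 𝔞)
  have hf : Function.Surjective f :=
    (Ideal.Quotient.mkₐ_surjective K H).comp (Ideal.Quotient.mkₐ_surjective K 𝔞)
  refine ⟨RingHom.ker f, ?_, ?_⟩
  · intro x hx
    rw [RingHom.mem_ker]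
    show Ideal.Quotient.mk H (Ideal.Quotient.mk 𝔞 x) = 0
    rw [Ideal.Quotient.eq_zero_iff_mem.mpr hx, map_zero]
  · rw [← hH]
    exact (Ideal.quotientKerAlgEquivOfSurjective hf).toLinearEquiv.finrank_eq

end algebra

section curve

variable (K : Type u) [Field K] [IsAlgClosed K] (X : Scheme.{u}) [X.Over (Spec (CommRingCat.of K))]
  [IsProper (X ↘ Spec (CommRingCat.of K))] [IsIntegral X]

set_option maxHeartbeats 1600000 in
/-- **Key lemma** for very ampleness. -/
theorem exists_sub_mem_of_ratio_mem (hdim : topologicalKrullDim X ≤ 1)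
    (h0 : finrank K (Coh.HH X (Coh.structureModule X) 0) = 1)
    {L : X.Modules} (hL : PicF.IsInvertible L)
    (hdeg : 2 * (Curv2.genus K X : ℤ) + 1 ≤ Curv2.deg K X L 1)
    {n : ℕ} (σ : Fin (n + 1) → (Coh.structureModule X ⟶ L))
    (hspan : ∀ x : L.val.obj (op ⊤), ∃ c : Fin (n + 1) → K,
        x = ∑ l, (Coh.toGlobal (X ↘ Spec (CommRingCat.of K)) (c l)) •
          (show L.val.obj (op ⊤) from sec (σ l) ⊤))
    (j : Fin (n + 1)) (hUaff : IsAffineOpen ((gU σ j).ι ''ᵁ ⊤))
    [Algebra K Γ(X, (gU σ j).ι ''ᵁ ⊤)]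
    (halg : ∀ a : K, algebraMap K Γ(X, (gU σ j).ι ''ᵁ ⊤) a =
      (X.presheaf.map (homOfLE (le_top : (gU σ j).ι ''ᵁ ⊤ ≤ ⊤)).op).hom
        (Coh.toGlobal (X ↘ Spec (CommRingCat.of K)) a))
    (a : Fin (n + 1) → K) (𝔞 : Ideal Γ(X, (gU σ j).ι ''ᵁ ⊤))
    (h𝔞 : ∀ l, ratio (σ j) (σ l) ((gU σ j).ι ''ᵁ ⊤) (image_top_le σ j) -
      algebraMap K Γ(X, (gU σ j).ι ''ᵁ ⊤) (a l) ∈ 𝔞)
    [Module.Finite K (Γ(X, (gU σ j).ι ''ᵁ ⊤) ⧸ 𝔞)] (b : Γ(X, (gU σ j).ι ''ᵁ ⊤)) :
    ∃ c : K, b - algebraMap K Γ(X, (gU σ j).ι ''ᵁ ⊤) c ∈ 𝔞 := by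
  by_contra hcon
  push Not at hcon
  let U : X.Opens := gU σ j
  let U' : X.Opens := U.ι ''ᵁ ⊤
  have hU' : U' = U := U.ι_image_top
  obtain ⟨J, h𝔞J, hJ2⟩ := exists_ideal_ge_finrank_two 𝔞 b hcon
  -- the ideal sheaf
  have hfinJ : Module.Finite K (Γ(X, U') ⧸ J) :=
    Module.finite_of_finrank_pos (lt_of_lt_of_eq two_pos hJ2.symm)
  have hfin : ((X ↘ Spec (CommRingCat.of K)).appLE ⊤ U' (fun _ _ => trivial) ≫
      CommRingCat.ofHom (Ideal.Quotient.mk J)).hom.Finite := by
    have h1 : (algebraMap K (Γ(X, U') ⧸ J)).Finite := RingHom.finite_algebraMap.mpr hfinJ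
    have h2 : algebraMap K (Γ(X, U') ⧸ J) =
        (((X ↘ Spec (CommRingCat.of K)).appLE ⊤ U' (fun _ _ => trivial) ≫
          CommRingCat.ofHom (Ideal.Quotient.mk J)).hom).comp
          (Scheme.ΓSpecIso (CommRingCat.of K)).inv.hom := by
      ext c
      show Ideal.Quotient.mk J (algebraMap K Γ(X, U') c) = _
      rw [halg]
      rfl
    rw [h2] at h1
    exact RingHom.Finite.of_comp_finite h1
  obtain ⟨I, hIJ, hIsupp⟩ :=
    VAIdeal.exists_idealSheafData_of_ideal (X ↘ Spec (CommRingCat.of K)) hUaff J hfin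
  have hq2 : finrank K (Coh.HH X (ClSub.quotMod I) 0) = 2 := by
    rw [VAKey1.finrank_H0_quotMod_eq_of_support_le K I hUaff hIsupp halg, hIJ]
    exact hJ2
  have hIne : I ≠ ⊥ := by
    rintro rfl
    rw [finrank_H0_quotMod_bot K X, h0] at hq2
    omega
  have hadd := finrank_H0_idealTwist_add K X hdim h0 hL I hIne (by rw [hq2]; push_cast; linarith)
  rw [hq2] at hadd
  let OL := CohB1.tensorMod (Coh.structureModule X) L
  let IL := CohB1.tensorMod (ClSub.idealMod I) L
  let φ : IL ⟶ OL := tensorMap (ClSub.idealModι I) (𝟙 L)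
  let lam : OL ≅ L := leftUnitor L
  obtain ⟨hFc, -, -⟩ := idealTwist_main K X hdim L hL I (dim_support_le_zero_of_ne_bot hdim I hIne)
  haveI : Module.Finite K (Coh.HH X IL 0) := Groth.Agent.Lib.Lead.ProperEuler.finite_HH K X _ hFc 0
  have hLc := isCoh_of_isInvertible X hL
  haveI : Module.Finite K (Coh.HH X L 0) := Groth.Agent.Lib.Lead.ProperEuler.finite_HH K X _ hLc 0
  let Ψ : Coh.HH X IL 0 →ₗ[K] Coh.HH X L 0 := HH.mapOver K (φ ≫ lam.hom) 0
  let M : Submodule K (Coh.HH X L 0) := LinearMap.range Ψ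
  have hM : finrank K M + 2 ≤ finrank K (Coh.HH X L 0) := by
    have h1 : finrank K M ≤ finrank K (Coh.HH X IL 0) := LinearMap.finrank_range_le Ψ
    have hadd' : finrank K (Coh.HH X IL 0) + 2 = finrank K (Coh.HH X L 0) := hadd
    omega
  -- the linear combination map
  let v : Fin (n + 1) → Coh.HH X L 0 := fun l =>
    (HH.equiv₀ L).symm (show L.val.obj (op ⊤) from sec (σ l) ⊤)
  let Φ : (Fin (n + 1) → K) →ₗ[K] Coh.HH X L 0 := Fintype.linearCombination K v
  have hΦ : ∀ c : Fin (n + 1) → K, HH.equiv₀ L (Φ c) =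
      ∑ l, (Coh.toGlobal (X ↘ Spec (CommRingCat.of K)) (c l)) •
        (show L.val.obj (op ⊤) from sec (σ l) ⊤) := by
    intro c
    rw [Fintype.linearCombination_apply, map_sum]
    refine Finset.sum_congr rfl fun l _ => ?_
    have h1 : c l • v l = Coh.toGlobal (X ↘ Spec (CommRingCat.of K)) (c l) • v l := rfl
    rw [h1, _root_.map_smul, LinearEquiv.apply_symm_apply]
  have hΦsurj : Function.Surjective Φ := by
    intro x
    obtain ⟨c, hc⟩ := hspan (HH.equiv₀ L x)
    refine ⟨c, ?_⟩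
    apply (HH.equiv₀ L).injective
    rw [hc, hΦ]
  let α : (Fin (n + 1) → K) →ₗ[K] K := Fintype.linearCombination K a
  -- trivialisation of `L` on `U`
  have hUiso : U ≤ isoLocus (σ j) := le_rfl
  haveI hiso : IsIso ((restrictFunctor U.ι).map (σ j)) := (le_isoLocus_iff (σ j) U).mp hUiso
  let e : L.restrict U.ι ≅ Coh.structureModule (↑U : Scheme.{u}) :=
    (asIso ((restrictFunctor U.ι).map (σ j))).symm ≪≫ restrictUnitIso U.ι
  let θ := locFn L U e
  let ρ : Fin (n + 1) → Γ(X, U') := fun l => ratio (σ j) (σ l) U' (image_top_le σ j)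
  let u : Γ(X, U') := θ ((lam.inv.app U').hom (sec (σ j) U'))
  -- the semilinear map `T`
  let T : L.val.obj (op ⊤) →+ Γ(X, U') :=
    AddMonoidHom.mk' (fun y => θ (CurvePunctual.res OL (le_top : U' ≤ ⊤) ((lam.inv.app ⊤).hom y)))
      (fun y y' => by
        show θ (CurvePunctual.res OL (le_top : U' ≤ ⊤) ((lam.inv.app ⊤).hom (y + y'))) = _
        have h1 : (lam.inv.app ⊤).hom (y + y') = (lam.inv.app ⊤).hom y + (lam.inv.app ⊤).hom y' :=
          map_add (lam.inv.app ⊤).hom y y'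
        rw [h1, CurvePunctual.res_add, map_add]
        rfl)
  have hTsmul : ∀ (r : Coh.Γtop X) (y : L.val.obj (op ⊤)),
      T (r • y) = CurvePunctual.rs (le_top : U' ≤ ⊤) (show Γ(X, ⊤) from r) * T y := by
    intro r y
    show θ (CurvePunctual.res OL (le_top : U' ≤ ⊤) ((lam.inv.app ⊤).hom (r • y))) = _
    have h1 : (lam.inv.app ⊤).hom (r • y) =
        (show Γ(X, ⊤) from r) • (lam.inv.app ⊤).hom (show Γ(L, ⊤) from y) :=
      Scheme.Modules.Hom.app_smul lam.inv (show Γ(X, ⊤) from r) (show Γ(L, ⊤) from y)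
    rw [h1, CurvePunctual.res_smul, _root_.map_smul]
    rfl
  have hTs : ∀ l, T (show L.val.obj (op ⊤) from sec (σ l) ⊤) = ρ l * u := by
    intro l
    show θ (CurvePunctual.res OL (le_top : U' ≤ ⊤) ((lam.inv.app ⊤).hom (sec (σ l) ⊤))) = _
    have hnat : (lam.inv.app U').hom (CurvePunctual.res L (le_top : U' ≤ ⊤) (sec (σ l) ⊤)) =
        CurvePunctual.res OL (le_top : U' ≤ ⊤) ((lam.inv.app ⊤).hom (sec (σ l) ⊤)) :=
      PresheafOfModules.naturality_apply lam.inv.val (homOfLE (le_top : U' ≤ ⊤)).op (sec (σ l) ⊤)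
    have hres : CurvePunctual.res L (le_top : U' ≤ ⊤) (sec (σ l) ⊤) = sec (σ l) U' :=
      res_sec (σ l) (homOfLE (le_top : U' ≤ ⊤))
    rw [← hnat, hres, ← ratio_smul (σ j) (σ l) U' (image_top_le σ j)]
    have h1 : (lam.inv.app U').hom (ρ l • sec (σ j) U') = ρ l • (lam.inv.app U').hom (sec (σ j) U') :=
      Scheme.Modules.Hom.app_smul lam.inv (ρ l) (sec (σ j) U')
    rw [h1, _root_.map_smul]
    rfl
  have hker : LinearMap.ker α ≤ LinearMap.ker (M.mkQ ∘ₗ Φ) := by
    intro c hc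
    rw [LinearMap.mem_ker] at hc ⊢
    rw [LinearMap.comp_apply, Submodule.mkQ_apply, Submodule.Quotient.mk_eq_zero]
    have hc' : ∑ l, c l * a l = 0 := by
      have := hc
      rw [Fintype.linearCombination_apply] at this
      simpa [smul_eq_mul] using this
    set y : L.val.obj (op ⊤) := ∑ l, (Coh.toGlobal (X ↘ Spec (CommRingCat.of K)) (c l)) •
        (show L.val.obj (op ⊤) from sec (σ l) ⊤) with hy
    have hΦc : HH.equiv₀ L (Φ c) = y := hΦ c
    let x' : Γ(OL, ⊤) := (lam.inv.app ⊤).hom y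
    have hTy : T y = (∑ l, algebraMap K Γ(X, U') (c l) *
        (ρ l - algebraMap K Γ(X, U') (a l))) * u := by
      have h0 : ∑ l, algebraMap K Γ(X, U') (c l) * algebraMap K Γ(X, U') (a l) = 0 := by
        simp_rw [← map_mul]
        rw [← map_sum, hc', map_zero]
      have h1 : T y = ∑ l, algebraMap K Γ(X, U') (c l) * (ρ l * u) := by
        rw [hy, map_sum]
        refine Finset.sum_congr rfl fun l _ => ?_
        rw [hTsmul, hTs, halg]
        rfl
      rw [h1]
      simp_rw [mul_sub]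
      rw [Finset.sum_sub_distrib, h0, sub_zero, Finset.sum_mul]
      refine Finset.sum_congr rfl fun l _ => ?_
      ring
    have hmem : T y ∈ I.ideal ⟨U', hUaff⟩ := by
      rw [hTy, hIJ]
      refine Ideal.mul_mem_right _ _ (Ideal.sum_mem _ fun l _ => ?_)
      exact Ideal.mul_mem_left _ _ (h𝔞J (h𝔞 l))
    have hsupp' : ((I.support : Closeds X) : Set X) ⊆ U := hU' ▸ hIsupp
    obtain ⟨a₀, ha₀⟩ := exists_preimage_of_mem_ideal hL I U e hsupp' x' hUaff hmem
    refine ⟨(HH.equiv₀ IL).symm a₀, ?_⟩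
    apply (HH.equiv₀ L).injective
    show HH.equiv₀ L (HH.map (φ ≫ lam.hom) 0 ((HH.equiv₀ IL).symm a₀)) = _
    have h4 : HH.equiv₀ IL ((HH.equiv₀ IL).symm a₀) = a₀ := (HH.equiv₀ IL).apply_symm_apply a₀
    rw [HH.equiv₀_naturality, h4, hΦc]
    show (lam.hom.app ⊤).hom ((φ.app ⊤).hom a₀) = y
    rw [ha₀]
    exact congrArg (fun ψ : L ⟶ L => (ψ.app ⊤).hom y) lam.inv_hom_id
  -- dimension count
  have hsurj : Function.Surjective (M.mkQ ∘ₗ Φ) := (Submodule.mkQ_surjective M).comp hΦsurj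
  let g := (LinearMap.ker α).liftQ (M.mkQ ∘ₗ Φ) hker
  have hgsurj : Function.Surjective g := by
    rw [← LinearMap.range_eq_top, Submodule.range_liftQ, LinearMap.range_eq_top]
    exact hsurj
  have h1 : finrank K (Coh.HH X L 0 ⧸ M) ≤ finrank K ((Fin (n + 1) → K) ⧸ LinearMap.ker α) :=
    LinearMap.finrank_le_finrank_of_surjective hgsurj
  have h2 : finrank K ((Fin (n + 1) → K) ⧸ LinearMap.ker α) ≤ 1 := by
    rw [(LinearMap.quotKerEquivRange α).finrank_eq]
    exact (Submodule.finrank_le _).trans (by rw [Module.finrank_self])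
  have h3 := Submodule.finrank_quotient_add_finrank M
  omega

end curve

end Groth.Agent.Lib.helper9.VAKey2
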