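import Mathlib
import Groth.Agent.Lib.Helper9.VAKey2
import Groth.Agent.Lib.Helper16.SepPts

/-!
# Preparations for the very ampleness theorem on curves (helper9)

* `iSup_gU_eq_top`: spanning sections of a line bundle which is generated by sections at every point cover.
* `exists_sub_mem_of_ratio_mem'`: the key lemma `VAKey2.exists_sub_mem_of_ratio_mem` over an arbitrary open equal
  to `X_{σ j}`.
-/

set_option autoImplicit false
set_option linter.style.haveILetI false
universe u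
open CategoryTheory CategoryTheory.Limits AlgebraicGeometry Opposite TopologicalSpace Module
open Scheme.Modules

namespace Groth.Agent.Lib.helper9.VAPrep

open Groth.Agent.Lib.helper11.IsoLocus Groth.Agent.Lib.helper11.InvMod
open Groth.Agent.Lib.helper11.GenLocus Groth.Agent.Lib.helper12.ProjUP3
open Groth.Agent.Lib.helper12.ProjUP4 Groth.Agent.Lib.helper16.SepPts

section cover

variable {A : Type u} [CommRing A] {X : Scheme.{u}} (q : X ⟶ Spec (CommRingCat.of A))

/-- spanning sections of an invertible module which is generated by a section at every point cover `X` -/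
theorem iSup_gU_eq_top {L : X.Modules} (hL : PicF.IsInvertible L) {n : ℕ}
    (σ : Fin (n + 1) → (Coh.structureModule X ⟶ L))
    (hspan : ∀ x : L.val.obj (op ⊤), ∃ c : Fin (n + 1) → A,
        x = ∑ l, (Coh.toGlobal q (c l)) • (show L.val.obj (op ⊤) from sec (σ l) ⊤))
    (hgen : ∀ y : X, ∃ t : Coh.structureModule X ⟶ L, y ∈ isoLocus t) :
    ⨆ i, gU σ i = ⊤ := by
  rw [eq_top_iff]
  intro y _
  obtain ⟨t, ht⟩ := hgen y
  have hty : y ∈ CohB1.genLocus L t := ht
  suffices hs : Submodule.span (X.presheaf.stalk y)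
      (Set.range fun i => (L.presheaf.germ ⊤ y trivial).hom (sec (σ i) ⊤)) = ⊤ by
    obtain ⟨i, hi⟩ := exists_mem_genLocus_of_span hL σ y hs
    exact Opens.mem_iSup.mpr ⟨i, hi⟩
  rw [eq_top_iff]
  rintro v -
  obtain ⟨a, rfl⟩ := exists_eq_smul_gen t y hty v
  refine Submodule.smul_mem _ _ ?_
  obtain ⟨c, hc⟩ := hspan (sec t ⊤)
  have h1 : gen t y = (L.presheaf.germ ⊤ y trivial).hom
      (∑ l, (show Γ(X, ⊤) from Coh.toGlobal q (c l)) • (show Γ(L, ⊤) from sec (σ l) ⊤)) :=
    congrArg (L.presheaf.germ ⊤ y trivial).hom hc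
  rw [h1, map_sum]
  refine Submodule.sum_mem _ fun l _ => ?_
  have h2 : (L.presheaf.germ ⊤ y trivial).hom
      ((show Γ(X, ⊤) from Coh.toGlobal q (c l)) • (show Γ(L, ⊤) from sec (σ l) ⊤)) =
      (X.presheaf.germ ⊤ y trivial).hom (Coh.toGlobal q (c l)) •
        (L.presheaf.germ ⊤ y trivial).hom (sec (σ l) ⊤) := germ_smul'' L ⊤ y trivial _ _
  rw [h2]
  exact Submodule.smul_mem _ _ (Submodule.subset_span ⟨l, rfl⟩)

end cover

section key

variable (K : Type u) [Field K] [IsAlgClosed K] (X : Scheme.{u}) [X.Over (Spec (CommRingCat.of K))]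
  [IsProper (X ↘ Spec (CommRingCat.of K))] [IsIntegral X]

/-- the key lemma over an arbitrary open equal to `X_{σ j}` -/
theorem exists_sub_mem_of_ratio_mem' (hdim : topologicalKrullDim X ≤ 1)
    (h0 : finrank K (Coh.HH X (Coh.structureModule X) 0) = 1)
    {L : X.Modules} (hL : PicF.IsInvertible L)
    (hdeg : 2 * (Curv2.genus K X : ℤ) + 1 ≤ Curv2.deg K X L 1)
    {n : ℕ} (σ : Fin (n + 1) → (Coh.structureModule X ⟶ L))
    (hspan : ∀ x : L.val.obj (op ⊤), ∃ c : Fin (n + 1) → K,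
        x = ∑ l, (Coh.toGlobal (X ↘ Spec (CommRingCat.of K)) (c l)) •
          (show L.val.obj (op ⊤) from sec (σ l) ⊤))
    (j : Fin (n + 1)) (W : X.Opens) (hW : W = (gU σ j).ι ''ᵁ ⊤) (hWaff : IsAffineOpen W)
    [Algebra K Γ(X, W)]
    (halg : ∀ a : K, algebraMap K Γ(X, W) a =
      (X.presheaf.map (homOfLE (le_top : W ≤ ⊤)).op).hom
        (Coh.toGlobal (X ↘ Spec (CommRingCat.of K)) a))
    (a : Fin (n + 1) → K) (𝔞 : Ideal Γ(X, W)) (hWg : W ≤ CohB1.genLocus L (σ j))
    (h𝔞 : ∀ l, ratio (σ j) (σ l) W hWg - algebraMap K Γ(X, W) (a l) ∈ 𝔞)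
    [Module.Finite K (Γ(X, W) ⧸ 𝔞)] (b : Γ(X, W)) :
    ∃ c : K, b - algebraMap K Γ(X, W) c ∈ 𝔞 := by
  subst hW
  exact Groth.Agent.Lib.helper9.VAKey2.exists_sub_mem_of_ratio_mem K X hdim h0 hL hdeg σ hspan j hWaff
    halg a 𝔞 h𝔞 b

end key

end Groth.Agent.Lib.helper9.VAPrep
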