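import Mathlib
import Groth.Agent.Lib.Helper9.VAPrep
import Groth.Agent.Lib.Helper9.VABC1
import Groth.Agent.Lib.Helper9.VABC2
import Groth.Agent.Lib.Helper9.VABC3
import Groth.Agent.Lib.Helper9.VAChart
import Groth.Agent.Lib.Helper9.VAFinite
import Groth.Agent.Lib.Helper9.CurveGG2
import Groth.Agent.Lib.Helper12.VAmple1
import Groth.Agent.Lib.Helper18.P1Iso

/-!
# Very ampleness of line bundles of degree `≥ 2g + 1` on curves (helper9)
-/

set_option autoImplicit false
set_option linter.style.haveILetI false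
set_option backward.isDefEq.respectTransparency false
universe u
open CategoryTheory CategoryTheory.Limits AlgebraicGeometry Opposite TopologicalSpace Module
open Scheme.Modules

namespace Groth.Agent.Lib.helper9.VAMain

open Groth.Agent.Lib.Helper18 Groth.Agent.Lib.helper11.IsoLocus Groth.Agent.Lib.helper11.InvMod
open Groth.Agent.Lib.helper11.GenLocus Groth.Agent.Lib.helper12.ProjUP3
open Groth.Agent.Lib.helper12.ProjUP4 Groth.Agent.Lib.helper12.ProjUP5 Groth.Agent.Lib.helper12.ProjUP6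
open Groth.Agent.Lib.helper12.VAmple1
open Groth.Agent.Lib.helper9.CurveVanish Groth.Agent.Lib.Lead.CurveInv Groth.Agent.Lib.Lead.CurveEuler
open Groth.Agent.Lib.helper9.VAPrep Groth.Agent.Lib.helper9.VABC3 Groth.Agent.Lib.helper9.VAChart
open Groth.Agent.Lib.helper8.FlatCohBC Groth.Agent.Lib.helper16.SepPts

section basis

variable (k : Type u) [Field k] (X : Scheme.{u}) [X.Over (Spec (CommRingCat.of k))]
  [IsProper (X ↘ Spec (CommRingCat.of k))]

/-- a basis of `H⁰(L)` gives sections spanning `Γ(X, L)` -/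
theorem exists_spanning_sections (L : X.Modules) (hLc : Coh.IsCoh L)
    (hpos : 0 < finrank k (Coh.HH X L 0)) :
    ∃ (n : ℕ) (σ : Fin (n + 1) → (Coh.structureModule X ⟶ L)),
      ∀ x : L.val.obj (op ⊤), ∃ c : Fin (n + 1) → k,
        x = ∑ l, (Coh.toGlobal (X ↘ Spec (CommRingCat.of k)) (c l)) •
          (show L.val.obj (op ⊤) from sec (σ l) ⊤) := by
  haveI : Module.Finite k (Coh.HH X L 0) := Groth.Agent.Lib.Lead.ProperEuler.finite_HH k X _ hLc 0
  obtain ⟨n, hn⟩ : ∃ n, finrank k (Coh.HH X L 0) = n + 1 := ⟨_, (Nat.succ_pred_eq_of_pos hpos).symm⟩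
  let b : Basis (Fin (n + 1)) k (Coh.HH X L 0) := (Module.finBasis k _).reindex (finCongr hn)
  refine ⟨n, fun l => secHom L (b l), fun x => ?_⟩
  refine ⟨fun l => b.repr ((HH.equiv₀ L).symm x) l, ?_⟩
  have h1 := b.sum_repr ((HH.equiv₀ L).symm x)
  have h2 := congrArg (HH.equiv₀ L) h1
  rw [LinearEquiv.apply_symm_apply, map_sum] at h2
  refine h2.symm.trans (Finset.sum_congr rfl fun l _ => ?_)
  have h3 : (show L.val.obj (op ⊤) from sec (secHom L (b l)) ⊤) = HH.equiv₀ L (b l) :=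
    secHom_top L (b l)
  rw [h3]
  exact (HH.equiv₀ L).map_smul (Coh.toGlobal (X ↘ Spec (CommRingCat.of k))
    (b.repr ((HH.equiv₀ L).symm x) l)) (b l)

end basis

section finite

variable (k : Type u) [Field k] (X : Scheme.{u}) [X.Over (Spec (CommRingCat.of k))]
  [IsProper (X ↘ Spec (CommRingCat.of k))] [IsIntegral X]

/-- the morphism to projective space defined by sections of a line bundle of nonzero degree on an integral proper
curve is finite -/
theorem isFinite_toProj (hdim : topologicalKrullDim X ≤ 1) {L : X.Modules}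
    (hdeg : Curv2.deg k X L 1 ≠ 0) {n : ℕ} (σ : Fin (n + 1) → (Coh.structureModule X ⟶ L))
    (r : X ⟶ Proj (CohB1.polyGrading n k))
    (τ : (Scheme.Modules.pullback r).obj (Twist.twist (CohB1.polyGrading n k) ((1 : ℕ) : ℤ)) ≅ L)
    (hτ : ∀ l, nu r l ≫ τ.hom = σ l)
    (hrq : (show X ⟶ CohB1.ProjSpace n k from r) ≫ CohB1.ProjSpace.toSpec n k =
      X ↘ Spec (CommRingCat.of k)) : IsFinite r := by
  haveI := Groth.Agent.Lib.Lead.CurveEuler.isNoetherian k X
  haveI : IsProper (CohB1.ProjSpace.toSpec n k) :=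
    Groth.Agent.Lib.helper19.ProjSpaceProper.proper_toSpec n k
  haveI : IsProper r := by
    haveI : IsProper ((show X ⟶ CohB1.ProjSpace n k from r) ≫ CohB1.ProjSpace.toSpec n k) := by
      rw [hrq]; infer_instance
    exact IsProper.of_comp (show X ⟶ CohB1.ProjSpace n k from r) (CohB1.ProjSpace.toSpec n k)
  apply Groth.Agent.Lib.helper9.VAFinite.isFinite_of_not_isClosed r hdim
  intro hcl
  have hall : ∀ x : X, r x = r (genericPoint X) := by
    intro x
    have h1 : IsClosed (r.base ⁻¹' {r (genericPoint X)}) := hcl.preimage r.continuous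
    have h2 : closure {genericPoint X} ⊆ r.base ⁻¹' {r (genericPoint X)} :=
      h1.closure_subset_iff.mpr (by simp)
    have h3 : x ∈ closure {genericPoint X} := by
      rw [(genericPoint_spec X).def]; trivial
    exact h2 h3
  obtain ⟨i, hi⟩ := exists_mem_Dp (k := k) (n := n) (r (genericPoint X))
  have htop : r ⁻¹ᵁ Dp k n i = ⊤ := by
    ext x
    simp only [Opens.coe_top, Set.mem_univ, iff_true]
    change r x ∈ Dp k n i
    rw [hall x]
    exact hi
  have h4 : CohB1.genLocus L (σ i) = ⊤ := by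
    rw [← preimage_Dp_eq r σ τ hτ i, htop]
  haveI h5 : IsIso (σ i) := (genLocus_eq_top_iff L (σ i)).mp h4
  have h6 := Groth.Agent.Lib.Lead.CurveEuler.deg_eq_of_iso k X (asIso (σ i)) 1
  rw [Groth.Agent.Lib.Lead.CurveEuler.deg_structureModule] at h6
  exact hdeg h6.symm

end finite

section chart

variable (k : Type u) [Field k] (X : Scheme.{u}) [X.Over (Spec (CommRingCat.of k))]
  [IsProper (X ↘ Spec (CommRingCat.of k))] [GeometricallyIntegral (X ↘ Spec (CommRingCat.of k))]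

set_option maxHeartbeats 1600000 in
/-- **surjectivity on the standard charts** of the morphism defined by a basis of sections of a line bundle of degree
`≥ 2g + 1` on a geometrically integral proper curve -/
theorem surjective_app_Dp (hdim : topologicalKrullDim X ≤ 1)
    (h0 : finrank k (Coh.HH X (Coh.structureModule X) 0) = 1)
    {L : X.Modules} (hL : PicF.IsInvertible L)
    (hdeg : 2 * (Curv2.genus k X : ℤ) + 1 ≤ Curv2.deg k X L 1)
    {n : ℕ} (σ : Fin (n + 1) → (Coh.structureModule X ⟶ L))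
    (hspan : ∀ x : L.val.obj (op ⊤), ∃ c : Fin (n + 1) → k,
        x = ∑ l, (Coh.toGlobal (X ↘ Spec (CommRingCat.of k)) (c l)) •
          (show L.val.obj (op ⊤) from sec (σ l) ⊤))
    (r : X ⟶ Proj (CohB1.polyGrading n k)) [IsFinite r]
    (τ : (Scheme.Modules.pullback r).obj (Twist.twist (CohB1.polyGrading n k) ((1 : ℕ) : ℤ)) ≅ L)
    (hτ : ∀ l, nu r l ≫ τ.hom = σ l)
    (hrq : r ≫ CohB1.ProjSpace.toSpec n k = X ↘ Spec (CommRingCat.of k)) (j : Fin (n + 1)) :
    Function.Surjective (r.app (Dp k n j)).hom := by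
  let K := AlgebraicClosure k
  letI := bcOver k X K
  let g := Curv2.bcFst k X K
  have hpb := isPullback_bc k X K
  haveI : IsIntegral (Curv2.bc k X K) := isIntegral_bc k X K
  haveI := isProper_bc k X K
  have hdim' : topologicalKrullDim (Curv2.bc k X K) ≤ 1 := (dim_bc_le k X K).trans hdim
  have h0' : finrank K (Coh.HH (Curv2.bc k X K) (Coh.structureModule (Curv2.bc k X K)) 0) = 1 :=
    (finrank_HH_structureModule_bc k X K 0).trans h0
  have hL' : PicF.IsInvertible ((Scheme.Modules.pullback g).obj L) := isInvertible_pullback g hL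
  have hdeg' : 2 * (Curv2.genus K (Curv2.bc k X K) : ℤ) + 1 ≤
      Curv2.deg K (Curv2.bc k X K) ((Scheme.Modules.pullback g).obj L) 1 := by
    rw [genus_bc k X K, deg_bc k X K hdim hL]
    exact hdeg
  let σ' : Fin (n + 1) → (Coh.structureModule (Curv2.bc k X K) ⟶ (Scheme.Modules.pullback g).obj L) :=
    fun l => pullHom g (σ l)
  haveI : CompactSpace X := Groth.Agent.Lib.Lead.ProperEuler.compactSpace k X
  haveI : QuasiSeparatedSpace X := Groth.Agent.Lib.Lead.ProperEuler.quasiSeparatedSpace k X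
  have hLc := isCoh_of_isInvertible X hL
  haveI : L.IsQuasicoherent := hLc.1
  have hspan' := Groth.Agent.Lib.helper9.VABC1.exists_sum_pullHom (X ↘ Spec (CommRingCat.of k))
    ((Curv2.bc k X K) ↘ Spec (CommRingCat.of K)) g hpb L σ hspan
  haveI : IsAffineHom g := MorphismProperty.of_isPullback hpb.flip inferInstance
  -- the chart
  have hVg : r ⁻¹ᵁ Dp k n j = CohB1.genLocus L (σ j) := preimage_Dp_eq r σ τ hτ j
  have haff : IsAffineOpen (r ⁻¹ᵁ Dp k n j) := (isAffineOpen_Dp k n j).preimage r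
  have hV : r ⁻¹ᵁ Dp k n j ≤ CohB1.genLocus L (σ j) := hVg.le
  apply surjective_app_of_adjoin_eq_top (X ↘ Spec (CommRingCat.of k)) r hrq j
  apply Groth.Agent.Lib.helper9.VABC2.adjoin_eq_top_of_baseChange_sections
    (X ↘ Spec (CommRingCat.of k)) ((Curv2.bc k X K) ↘ Spec (CommRingCat.of K)) g hpb
    (r ⁻¹ᵁ Dp k n j) haff _ (finite_adjoin (X ↘ Spec (CommRingCat.of k)) r hrq j)
  letI : Algebra K Γ(Curv2.bc k X K, g ⁻¹ᵁ (r ⁻¹ᵁ Dp k n j)) :=
    (secAlg ((Curv2.bc k X K) ↘ Spec (CommRingCat.of K)) (g ⁻¹ᵁ (r ⁻¹ᵁ Dp k n j))).toAlgebra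
  intro a 𝔞 h𝔞 hfinq b
  haveI := hfinq
  have hgen' : CohB1.genLocus ((Scheme.Modules.pullback g).obj L) (σ' j) =
      g ⁻¹ᵁ CohB1.genLocus L (σ j) :=
    Groth.Agent.Lib.helper11.InvPullback.genLocus_pullback g L hL (σ j) (pullbackUnitIso g).symm
  have hW' : g ⁻¹ᵁ (r ⁻¹ᵁ Dp k n j) = (gU σ' j).ι ''ᵁ ⊤ := by
    rw [Scheme.Opens.ι_image_top, hVg]
    exact hgen'.symm
  have hWg : g ⁻¹ᵁ (r ⁻¹ᵁ Dp k n j) ≤ CohB1.genLocus ((Scheme.Modules.pullback g).obj L) (σ' j) := by
    rw [hgen', hVg]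
  refine exists_sub_mem_of_ratio_mem' K (Curv2.bc k X K) hdim' h0' hL' hdeg' σ' hspan' j
    (g ⁻¹ᵁ (r ⁻¹ᵁ Dp k n j)) hW' (haff.preimage g) (fun a => rfl) a 𝔞 hWg ?_ b
  intro l
  have h1 : ratio (σ' j) (σ' l) (g ⁻¹ᵁ (r ⁻¹ᵁ Dp k n j)) hWg =
      (g.app (r ⁻¹ᵁ Dp k n j)).hom (ratio (σ j) (σ l) (r ⁻¹ᵁ Dp k n j) hV) :=
    ratio_pullHom g (σ j) (σ l) (r ⁻¹ᵁ Dp k n j) hV hWg
  have h2 := ratio_sigma_app r σ τ hτ j l hV
  rw [h1, h2]
  have h3 : g.appLE (r ⁻¹ᵁ Dp k n j) (g ⁻¹ᵁ (r ⁻¹ᵁ Dp k n j)) le_rfl = g.app (r ⁻¹ᵁ Dp k n j) :=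
    Scheme.Hom.appLE_eq_app _
  have h4 := h𝔞 l
  rw [h3] at h4
  exact h4

end chart

section main

variable (k : Type u) [Field k] (X : Scheme.{u}) [X.Over (Spec (CommRingCat.of k))]
  [IsProper (X ↘ Spec (CommRingCat.of k))] [GeometricallyIntegral (X ↘ Spec (CommRingCat.of k))]

/-- **Very ampleness**: on a geometrically integral proper curve with `h⁰(O) = 1`, an invertible module of degree
`≥ 2g + 1` is very ample. -/
theorem veryAmple_of_deg_ge (hdim : topologicalKrullDim X = 1)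
    (h0 : finrank k (Coh.HH X (Coh.structureModule X) 0) = 1) (L : X.Modules)
    (hL : PicF.IsInvertible L)
    (hdeg : 2 * (Curv2.genus k X : ℤ) + 1 ≤ Curv2.deg k X L 1) :
    ∃ (n : ℕ) (i : X ⟶ CohB1.ProjSpace n k), IsClosedImmersion i ∧
      i ≫ CohB1.ProjSpace.toSpec n k = X ↘ Spec (CommRingCat.of k) ∧
      Nonempty ((Scheme.Modules.pullback i).obj (Twist.twistProjSpace n k 1) ≅ L) := by
  haveI : IsIntegral X := isIntegral_of_geometricallyIntegral k X
  have hdim' : topologicalKrullDim X ≤ 1 := hdim.le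
  have hLc := isCoh_of_isInvertible X hL
  have hg0 : (0 : ℤ) ≤ (Curv2.genus k X : ℤ) := Int.natCast_nonneg _
  haveI := subsingleton_H1_of_deg_ge k X hdim' h0 hL (by linarith)
  have hrr := riemann_roch' k X hdim' h0 L hLc.1 1
  rw [finrank_zero_of_subsingleton (M := Coh.HH X L 1)] at hrr
  push_cast at hrr
  have hpos : 0 < finrank k (Coh.HH X L 0) := by
    have : (0 : ℤ) < (finrank k (Coh.HH X L 0) : ℤ) := by linarith
    exact_mod_cast this
  obtain ⟨n, σ, hspan⟩ := exists_spanning_sections k X L hLc hpos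
  have hcov : ⨆ i, gU σ i = ⊤ :=
    iSup_gU_eq_top (X ↘ Spec (CommRingCat.of k)) hL σ hspan (fun y =>
      Groth.Agent.Lib.helper9.CurveGG2.exists_section_mem_isoLocus k X hdim' h0 hL (by linarith) y)
  obtain ⟨r, hr⟩ := exists_toProj (X ↘ Spec (CommRingCat.of k)) σ hcov
  obtain ⟨τ, hτ⟩ := exists_iso_nu (X ↘ Spec (CommRingCat.of k)) σ r hr hcov
  have hrq := toProj_toSpec (X ↘ Spec (CommRingCat.of k)) σ hcov r hr
  haveI : IsFinite r := isFinite_toProj k X hdim' (by linarith) σ r τ hτ hrq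
  have hci : IsClosedImmersion r :=
    isClosedImmersion_of_surjective r (fun j => (isAffineOpen_Dp k n j).preimage r)
      (fun j => surjective_app_Dp k X hdim' h0 hL hdeg σ hspan r τ hτ hrq j)
  exact ⟨n, r, hci, hrq, ⟨τ⟩⟩

end main

end Groth.Agent.Lib.helper9.VAMain
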