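import Mathlib
import Groth.Prelude.Def_Curves

/-!
# Schemes local for Zariski and finite coverings are spectra of AIC local domains (helper9)
-/

set_option autoImplicit false
set_option linter.style.haveILetI false
set_option backward.isDefEq.respectTransparency false

namespace Groth.Agent.Lib.helper9.AICLocal

open AlgebraicGeometry CategoryTheory Limits Polynomial

universe u

/-- Over an AIC ring, a domain integral over (the image of) the ring is equal to the image. -/
theorem surjective_algebraMap_of_isAIC {A D : Type*} [CommRing A] [CommRing D] [IsDomain D]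
    [Algebra A D] [Algebra.IsIntegral A D] (hA : Curves.IsAIC A) :
    Function.Surjective (algebraMap A D) := by
  intro d
  haveI : Nontrivial A := (algebraMap A D).domain_nontrivial
  obtain ⟨f, hf, hfd⟩ := Algebra.IsIntegral.isIntegral (R := A) d
  -- strong induction on the degree
  suffices H : ∀ n : ℕ, ∀ f : A[X], f.Monic → f.natDegree = n → f.eval₂ (algebraMap A D) d = 0 →
      ∃ a, algebraMap A D a = d from H _ f hf rfl hfd
  intro n
  induction n using Nat.strong_induction_on with
  | _ n ih =>
    intro f hf hn hfd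
    by_cases h0 : f.natDegree = 0
    · exfalso
      have : f = 1 := hf.natDegree_eq_zero.mp h0
      rw [this, eval₂_one] at hfd
      exact one_ne_zero hfd
    · obtain ⟨a, ha⟩ := hA f hf (Nat.pos_of_ne_zero h0)
      have hdiv : (X - C a) ∣ f := dvd_iff_isRoot.mpr ha
      obtain ⟨q, hq⟩ := hdiv
      have hqm : q.Monic := by
        have h1 : (X - C a).Monic := monic_X_sub_C a
        rw [hq] at hf
        exact h1.of_mul_monic_left hf
      have hdeg : f.natDegree = q.natDegree + 1 := by
        rw [hq, (monic_X_sub_C a).natDegree_mul hqm, natDegree_X_sub_C, add_comm]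
      rw [hq, eval₂_mul, eval₂_sub, eval₂_X, eval₂_C] at hfd
      rcases mul_eq_zero.mp hfd with h1 | h1
      · exact ⟨a, (sub_eq_zero.mp h1).symm⟩
      · exact ih q.natDegree (by omega) q hqm rfl h1

/-- Over an AIC domain, an integral algebra with a prime over `0` has a retraction. -/
theorem exists_algHom_of_isAIC {A B : Type*} [CommRing A] [CommRing B]
    [Algebra A B] [Algebra.IsIntegral A B] (hA : Curves.IsAIC A) (𝔮 : Ideal B) [𝔮.IsPrime]
    (h𝔮 : 𝔮.comap (algebraMap A B) = ⊥) : ∃ φ : B →+* A, φ.comp (algebraMap A B) = RingHom.id A := by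
  have hsurj : Function.Surjective (algebraMap A (B ⧸ 𝔮)) := surjective_algebraMap_of_isAIC hA
  have hinj : Function.Injective (algebraMap A (B ⧸ 𝔮)) := by
    rw [injective_iff_map_eq_zero]
    intro a ha
    rw [IsScalarTower.algebraMap_apply A B (B ⧸ 𝔮), Ideal.Quotient.algebraMap_eq,
      Ideal.Quotient.eq_zero_iff_mem] at ha
    have : a ∈ 𝔮.comap (algebraMap A B) := ha
    rw [h𝔮] at this
    exact this
  let e : A ≃+* (B ⧸ 𝔮) := RingEquiv.ofBijective (algebraMap A (B ⧸ 𝔮)) ⟨hinj, hsurj⟩
  refine ⟨e.symm.toRingHom.comp (Ideal.Quotient.mk 𝔮), ?_⟩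
  ext a
  simp only [RingHom.comp_apply, RingHom.id_apply]
  have : Ideal.Quotient.mk 𝔮 (algebraMap A B a) = e a := by
    show _ = algebraMap A (B ⧸ 𝔮) a
    rw [IsScalarTower.algebraMap_apply A B (B ⧸ 𝔮), Ideal.Quotient.algebraMap_eq]
  rw [this]
  exact e.symm_apply_apply a

end Groth.Agent.Lib.helper9.AICLocal
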