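import Mathlib
import Groth.Agent.Lib.Helper9.AICLocal1

/-!
# Schemes local for Zariski and finite coverings are spectra of AIC local domains, part 2 (helper9)
-/

set_option autoImplicit false
set_option linter.style.haveILetI false
set_option backward.isDefEq.respectTransparency false

namespace Groth.Agent.Lib.helper9.AICLocal

open AlgebraicGeometry CategoryTheory Limits Polynomial

universe u

/-- `P` is local for the coverings of the precoverage `K`. -/
def IsLocalFor (P : Scheme.{u}) (Q : MorphismProperty Scheme.{u}) : Prop :=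
  ∀ (X : Scheme.{u}) (R : Presieve X), R ∈ Scheme.precoverage Q X →
    ∀ g : P ⟶ X, ∃ (Y : Scheme.{u}) (w : Y ⟶ X) (h : P ⟶ Y), R w ∧ h ≫ w = g

lemma exists_retraction {P : Scheme.{u}} [IsAffine P] {B : CommRingCat.{u}} (φ : Γ(P, ⊤) ⟶ B)
    (h : P ⟶ Spec B) (hh : h ≫ Spec.map φ ≫ P.isoSpec.inv = 𝟙 P) :
    ∃ ψ : B ⟶ Γ(P, ⊤), φ ≫ ψ = 𝟙 _ := by
  obtain ⟨ψ, hψ⟩ := Spec.map_surjective (P.isoSpec.inv ≫ h)
  refine ⟨ψ, Spec.map_injective ?_⟩
  have h1 : h ≫ Spec.map φ = P.isoSpec.hom := by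
    have := congrArg (· ≫ P.isoSpec.hom) hh
    simpa using this
  rw [Spec.map_comp, hψ, Spec.map_id, Category.assoc, h1, Iso.inv_hom_id]

section Forward

variable (P : Scheme.{u}) [QuasiSeparatedSpace P]

theorem isAffine_of_isLocalFor (HZ : IsLocalFor P (@IsOpenImmersion ⊓ @QuasiCompact)) :
    IsAffine P := by
  have hR : Presieve.ofArrows P.affineCover.X P.affineCover.f ∈
      Scheme.precoverage (@IsOpenImmersion ⊓ @QuasiCompact) P := by
    rw [Scheme.ofArrows_mem_precoverage_iff]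
    refine ⟨fun x => ?_, fun i => ⟨inferInstance, inferInstance⟩⟩
    obtain ⟨i, y, hy⟩ := P.affineCover.exists_eq x
    exact ⟨i, y, hy⟩
  obtain ⟨Y, w, h, hw, hh⟩ := HZ P _ hR (𝟙 P)
  obtain ⟨i⟩ := hw
  haveI : IsSplitEpi (P.affineCover.f i) := IsSplitEpi.mk' ⟨h, hh⟩
  haveI : IsIso (P.affineCover.f i) := isIso_of_mono_of_isSplitEpi _
  exact IsAffine.of_isIso (inv (P.affineCover.f i))

omit [QuasiSeparatedSpace P] in
theorem nonempty_of_isLocalFor (Q : MorphismProperty Scheme.{u}) (H : IsLocalFor P Q) :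
    Nonempty P := by
  by_contra hne
  rw [not_nonempty_iff] at hne
  obtain ⟨Y, w, h, hw, -⟩ := H P ⊥ (Scheme.bot_mem_precoverage Q P) (𝟙 P)
  exact hw

omit [QuasiSeparatedSpace P] in
theorem isLocalRing_of_isLocalFor [IsAffine P]
    (HZ : IsLocalFor P (@IsOpenImmersion ⊓ @QuasiCompact)) : IsLocalRing Γ(P, ⊤) := by
  obtain ⟨x₀⟩ := nonempty_of_isLocalFor P _ HZ
  haveI : Nonempty (⊤ : P.Opens) := ⟨⟨x₀, trivial⟩⟩
  haveI : Nontrivial Γ(P, ⊤) := Scheme.component_nontrivial P ⊤
  apply IsLocalRing.of_isUnit_or_isUnit_one_sub_self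
  intro a
  let U : Bool → P.Opens := fun b => if b then P.basicOpen a else P.basicOpen (1 - a)
  have hUaff : ∀ b, IsAffineOpen (U b) := by
    intro b
    cases b
    · exact (isAffineOpen_top P).basicOpen (1 - a)
    · exact (isAffineOpen_top P).basicOpen a
  have hR : Presieve.ofArrows (fun b => ((U b : P.Opens) : Scheme.{u})) (fun b => (U b).ι) ∈
      Scheme.precoverage (@IsOpenImmersion ⊓ @QuasiCompact) P := by
    rw [Scheme.ofArrows_mem_precoverage_iff]
    refine ⟨fun x => ?_, fun b => ⟨inferInstance, ?_⟩⟩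
    · have h1 : P.presheaf.germ ⊤ x trivial a + P.presheaf.germ ⊤ x trivial (1 - a) = 1 := by
        rw [← map_add, add_sub_cancel, map_one]
      rcases IsLocalRing.isUnit_or_isUnit_of_add_one h1 with h2 | h2
      · refine ⟨true, ?_⟩
        rw [Scheme.Opens.range_ι]
        exact (P.mem_basicOpen_top a x).mpr h2
      · refine ⟨false, ?_⟩
        rw [Scheme.Opens.range_ι]
        exact (P.mem_basicOpen_top (1 - a) x).mpr h2
    · haveI : IsAffine ((U b : P.Opens) : Scheme.{u}) := hUaff b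
      infer_instance
  obtain ⟨Y, w, h, hw, hh⟩ := HZ P _ hR (𝟙 P)
  obtain ⟨b⟩ := hw
  have htop : ∀ x : P, x ∈ U b := by
    intro x
    have : x = (U b).ι (h x) := by rw [← Scheme.Hom.comp_apply, hh]; rfl
    rw [this]
    exact (h x).2
  cases b
  · right
    apply P.toRingedSpace.isUnit_of_isUnit_germ ⊤ (1 - a)
    intro x hx
    exact (P.mem_basicOpen_top (1 - a) x).mp (htop x)
  · left
    apply P.toRingedSpace.isUnit_of_isUnit_germ ⊤ a
    intro x hx
    exact (P.mem_basicOpen_top a x).mp (htop x)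

omit [QuasiSeparatedSpace P] in
theorem noZeroDivisors_of_isLocalFor [IsAffine P] (HF : IsLocalFor P @IsFinite) :
    NoZeroDivisors Γ(P, ⊤) := by
  constructor
  intro a b hab
  let c : Bool → Γ(P, ⊤) := fun t => if t then a else b
  let φ : ∀ t : Bool, Γ(P, ⊤) ⟶ CommRingCat.of (Γ(P, ⊤) ⧸ Ideal.span {c t}) :=
    fun t => CommRingCat.ofHom (Ideal.Quotient.mk (Ideal.span {c t}))
  have hφ : ∀ t, Function.Surjective (φ t).hom := fun t => Ideal.Quotient.mk_surjective
  haveI : ∀ t, IsClosedImmersion (Spec.map (φ t)) :=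
    fun t => IsClosedImmersion.spec_of_surjective (φ t) (hφ t)
  have hR : Presieve.ofArrows (fun t => Spec (CommRingCat.of (Γ(P, ⊤) ⧸ Ideal.span {c t})))
      (fun t => Spec.map (φ t) ≫ P.isoSpec.inv) ∈ Scheme.precoverage @IsFinite P := by
    rw [Scheme.ofArrows_mem_precoverage_iff]
    refine ⟨fun x => ?_, fun t => inferInstance⟩
    have hp : (P.isoSpec.hom x).asIdeal.IsPrime := (P.isoSpec.hom x).isPrime
    have hmem : a * b ∈ (P.isoSpec.hom x).asIdeal := by rw [hab]; exact Ideal.zero_mem _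
    have key : ∀ t, c t ∈ (P.isoSpec.hom x).asIdeal →
        x ∈ Set.range (Spec.map (φ t) ≫ P.isoSpec.inv) := by
      intro t ht
      have h1 : P.isoSpec.hom x ∈ Set.range (Spec.map (φ t)) := by
        have h2 : Set.range (Spec.map (φ t)) = PrimeSpectrum.zeroLocus (RingHom.ker (φ t).hom) :=
          _root_.range_comap_of_surjective _ (φ t).hom (hφ t)
        rw [h2, PrimeSpectrum.mem_zeroLocus]
        intro y hy
        have : y ∈ Ideal.span {c t} := by
          have := hy
          rw [SetLike.mem_coe, RingHom.mem_ker] at this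
          exact Ideal.Quotient.eq_zero_iff_mem.mp this
        obtain ⟨z, rfl⟩ := Ideal.mem_span_singleton.mp this
        exact Ideal.mul_mem_right _ _ ht
      obtain ⟨y, hy⟩ := h1
      refine ⟨y, ?_⟩
      rw [Scheme.Hom.comp_apply, hy, Scheme.hom_inv_apply]
    rcases hp.mem_or_mem hmem with h1 | h1
    · exact ⟨true, key true h1⟩
    · exact ⟨false, key false h1⟩
  obtain ⟨Y, w, h, hw, hh⟩ := HF P _ hR (𝟙 P)
  obtain ⟨t⟩ := hw
  obtain ⟨ψ, hψ⟩ := exists_retraction (φ t) h hh
  have h0 : c t = 0 := by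
    have h1 : ψ.hom ((φ t).hom (c t)) = c t := by
      have := congrArg (fun θ => θ.hom (c t)) hψ
      simpa using this
    rw [← h1]
    have : (φ t).hom (c t) = 0 :=
      Ideal.Quotient.eq_zero_iff_mem.mpr (Ideal.mem_span_singleton_self _)
    rw [this, map_zero]
  cases t
  · right; exact h0
  · left; exact h0

omit [QuasiSeparatedSpace P] in
theorem isAIC_of_isLocalFor [IsAffine P] [IsDomain Γ(P, ⊤)] (HF : IsLocalFor P @IsFinite) :
    Curves.IsAIC Γ(P, ⊤) := by
  intro f hf hdeg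
  let φ : Γ(P, ⊤) ⟶ CommRingCat.of (AdjoinRoot f) := CommRingCat.ofHom (AdjoinRoot.of f)
  haveI : Module.Finite Γ(P, ⊤) (AdjoinRoot f) := hf.finite_adjoinRoot
  have hfin : (φ.hom).Finite := by
    show (algebraMap Γ(P, ⊤) (AdjoinRoot f)).Finite
    exact RingHom.finite_algebraMap.mpr inferInstance
  haveI : IsFinite (Spec.map φ) := (IsFinite.SpecMap_iff φ).mpr hfin
  have hinj : Function.Injective (algebraMap Γ(P, ⊤) (AdjoinRoot f)) := by
    apply AdjoinRoot.of.injective_of_degree_ne_zero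
    intro h0
    have := natDegree_eq_zero_iff_degree_le_zero.mpr h0.le
    omega
  have hsurj : Function.Surjective (Spec.map φ) :=
    (RingHom.IsIntegral.of_finite hfin).comap_surjective hinj
  have hR : Presieve.singleton (Spec.map φ ≫ P.isoSpec.inv) ∈ Scheme.precoverage @IsFinite P := by
    rw [Scheme.singleton_mem_precoverage_iff]
    refine ⟨?_, inferInstance⟩
    intro x
    obtain ⟨y, hy⟩ := hsurj (P.isoSpec.hom x)
    refine ⟨y, ?_⟩
    show (Spec.map φ ≫ P.isoSpec.inv) y = x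
    rw [Scheme.Hom.comp_apply, hy, Scheme.hom_inv_apply]
  obtain ⟨Y, w, h, hw, hh⟩ := HF P _ hR (𝟙 P)
  obtain ⟨⟩ := hw
  obtain ⟨ψ, hψ⟩ := exists_retraction φ h hh
  refine ⟨ψ.hom (AdjoinRoot.root f), ?_⟩
  have h1 : ψ.hom.comp (AdjoinRoot.of f) = RingHom.id _ := by
    have := congrArg (fun θ => θ.hom) hψ
    simpa [φ] using this
  have h2 := congrArg ψ.hom (AdjoinRoot.eval₂_root f)
  rw [Polynomial.hom_eval₂, h1, map_zero] at h2
  rw [← h2]
  exact (Polynomial.eval₂_id).symm

end Forward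

end Groth.Agent.Lib.helper9.AICLocal
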