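import Mathlib
import Groth.Agent.Lib.Helper9.AICLocal2

/-!
# Schemes local for Zariski and finite coverings are spectra of AIC local domains, part 3 (helper9)
The converse direction and the main theorem.
-/

set_option autoImplicit false
set_option linter.style.haveILetI false
set_option backward.isDefEq.respectTransparency false

namespace Groth.Agent.Lib.helper9.AICLocal

open AlgebraicGeometry CategoryTheory Limits Polynomial

universe u

section Backward

variable (P : Scheme.{u}) [IsAffine P]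

theorem isLocalFor_zariski [IsLocalRing Γ(P, ⊤)] :
    IsLocalFor P (@IsOpenImmersion ⊓ @QuasiCompact) := by
  intro X R hR g
  let x₀ : P := P.isoSpec.inv (IsLocalRing.closedPoint Γ(P, ⊤))
  have hspec : ∀ p : P, p ⤳ x₀ := by
    intro p
    have h1 : P.isoSpec.hom p ⤳ IsLocalRing.closedPoint Γ(P, ⊤) :=
      IsLocalRing.specializes_closedPoint _
    have h2 := h1.map P.isoSpec.inv.continuous
    rwa [Scheme.hom_inv_apply] at h2
  obtain ⟨Y, w, hw, hx⟩ :=
    (Presieve.mem_comap_jointlySurjectivePrecoverage_iff _).mp hR.1 (g x₀)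
  have hwP := hR.2 hw
  haveI : IsOpenImmersion w := hwP.1
  have hrange : Set.range g ⊆ Set.range w := by
    rintro _ ⟨p, rfl⟩
    have h3 : g p ⤳ g x₀ := (hspec p).map g.continuous
    exact h3.mem_open w.isOpenEmbedding.isOpen_range hx
  exact ⟨Y, w, IsOpenImmersion.lift w g hrange, hw, IsOpenImmersion.lift_fac _ _ _⟩

theorem isLocalFor_finite [IsDomain Γ(P, ⊤)] (hA : Curves.IsAIC Γ(P, ⊤)) :
    IsLocalFor P @IsFinite := by
  intro X R hR g
  let η : P := P.isoSpec.inv (⟨⊥, Ideal.isPrime_bot⟩ : PrimeSpectrum Γ(P, ⊤))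
  obtain ⟨Y, w, hw, hx⟩ :=
    (Presieve.mem_comap_jointlySurjectivePrecoverage_iff _).mp hR.1 (g η)
  haveI : IsFinite w := hR.2 hw
  obtain ⟨y, hy⟩ := hx
  have hy' : g η = w y := hy.symm
  obtain ⟨z, hz1, hz2⟩ := Scheme.Pullback.exists_preimage_pullback η y hy'
  haveI : IsFinite (pullback.fst g w) := inferInstance
  haveI : IsAffine (pullback g w) := isAffine_of_isAffineHom (pullback.fst g w)
  let φ : Γ(P, ⊤) ⟶ Γ(pullback g w, ⊤) := (pullback.fst g w).appTop
  have hfin : φ.hom.Finite := (pullback.fst g w).finite_appTop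
  algebraize [φ.hom]
  haveI : Algebra.IsIntegral Γ(P, ⊤) Γ(pullback g w, ⊤) := Algebra.IsIntegral.of_finite _ _
  let 𝔮 : Ideal Γ(pullback g w, ⊤) := ((pullback g w).isoSpec.hom z).asIdeal
  haveI : 𝔮.IsPrime := ((pullback g w).isoSpec.hom z).isPrime
  have h𝔮 : 𝔮.comap (algebraMap Γ(P, ⊤) Γ(pullback g w, ⊤)) = ⊥ := by
    have h1 : ((pullback g w).isoSpec.hom ≫ Spec.map φ) z =
        (pullback.fst g w ≫ P.isoSpec.hom) z := by
      rw [Scheme.isoSpec_hom_naturality]
    rw [Scheme.Hom.comp_apply, Scheme.Hom.comp_apply, hz1] at h1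
    have h2 : P.isoSpec.hom η = (⟨⊥, Ideal.isPrime_bot⟩ : PrimeSpectrum Γ(P, ⊤)) :=
      Scheme.inv_hom_apply P.isoSpec _
    rw [h2] at h1
    exact congrArg PrimeSpectrum.asIdeal h1
  obtain ⟨ψ, hψ⟩ := exists_algHom_of_isAIC hA 𝔮 h𝔮
  let σ : P ⟶ pullback g w :=
    P.isoSpec.hom ≫ Spec.map (CommRingCat.ofHom ψ) ≫ (pullback g w).isoSpec.inv
  have hφψ : φ ≫ CommRingCat.ofHom ψ = 𝟙 _ := by
    ext1
    exact hψ
  have hσ : σ ≫ pullback.fst g w = 𝟙 P := by
    simp only [σ, Category.assoc]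
    rw [← Scheme.isoSpec_inv_naturality, ← Spec.map_comp_assoc, hφψ, Spec.map_id,
      Category.id_comp, Iso.hom_inv_id]
  refine ⟨Y, w, σ ≫ pullback.snd g w, hw, ?_⟩
  rw [Category.assoc, ← pullback.condition, reassoc_of% hσ]

end Backward

theorem main (P : Scheme.{u}) [QuasiSeparatedSpace P] :
    (IsLocalFor P (@IsOpenImmersion ⊓ @QuasiCompact) ∧ IsLocalFor P @IsFinite) ↔
    (IsAffine P ∧ IsLocalRing Γ(P, ⊤) ∧ IsDomain Γ(P, ⊤) ∧ Curves.IsAIC Γ(P, ⊤)) := by
  constructor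
  · rintro ⟨HZ, HF⟩
    haveI : IsAffine P := isAffine_of_isLocalFor P HZ
    haveI hloc : IsLocalRing Γ(P, ⊤) := isLocalRing_of_isLocalFor P HZ
    haveI := noZeroDivisors_of_isLocalFor P HF
    haveI hdom : IsDomain Γ(P, ⊤) := NoZeroDivisors.to_isDomain _
    exact ⟨inferInstance, hloc, hdom, isAIC_of_isLocalFor P HF⟩
  · rintro ⟨h1, h2, h3, h4⟩
    exact ⟨isLocalFor_zariski P, isLocalFor_finite P h4⟩

end Groth.Agent.Lib.helper9.AICLocal
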