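/-
Helper library (helper9): absolute Noetherian approximation, part 25.
Descent of affineness of the structure morphism to a finite stage (Stacks 01ZN): if
`lim X_i ⟶ S` is affine then `X_i ⟶ S` is affine for all small enough `i`.
-/
import Mathlib

set_option autoImplicit false
set_option linter.style.haveILetI false
set_option backward.isDefEq.respectTransparency false

namespace Groth.Agent.Lib.helper9.AbsApprox

open AlgebraicGeometry CategoryTheory Limits Opposite

universe u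

variable {I : Type u} [Category.{u} I] [IsCofiltered I] {S : Scheme.{u}} (D : I ⥤ Scheme.{u})
  (t : D ⟶ (Functor.const I).obj S) (c : Cone D) (hc : IsLimit c)
  [∀ {i j : I} (a : i ⟶ j), IsAffineHom (D.map a)]
  [∀ i, QuasiSeparatedSpace (D.obj i)]

omit [IsCofiltered I] [∀ {i j : I} (a : i ⟶ j), IsAffineHom (D.map a)]
  [∀ i, QuasiSeparatedSpace (D.obj i)] in
theorem preimage_t_app {i j : I} (a : j ⟶ i) (U : S.Opens) :
    D.map a ⁻¹ᵁ (t.app i ⁻¹ᵁ U) = t.app j ⁻¹ᵁ U := by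
  rw [← Scheme.Hom.comp_preimage]
  have := t.naturality a
  simp only [Functor.const_obj_obj, Functor.const_obj_map, Category.comp_id] at this
  rw [this]

include hc in
/-- Over an affine open `U` of `S` whose preimage in the limit is affine, the preimages of `U`
in all small enough stages are affine. -/
theorem exists_isAffineOpen_preimage_stage [∀ i, QuasiCompact (t.app i)] (g : c.pt ⟶ S)
    (hg : ∀ i, c.π.app i ≫ t.app i = g) (U : S.Opens) (hU : IsAffineOpen U)
    (hgU : IsAffineOpen (g ⁻¹ᵁ U)) :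
    ∃ i : I, ∀ (j : I) (_ : j ⟶ i), IsAffineOpen (t.app j ⁻¹ᵁ U) := by
  obtain ⟨i₁⟩ := IsCofiltered.nonempty (C := I)
  obtain ⟨i₂, V₂, hV₂, hV₂'⟩ := exists_isAffineOpen_preimage_eq D c hc (g ⁻¹ᵁ U) hgU
  obtain ⟨i₃, a₁, a₂, -⟩ := IsCofilteredOrEmpty.cone_objs i₁ i₂
  have hc1 : IsCompact ((D.map a₁ ⁻¹ᵁ (t.app i₁ ⁻¹ᵁ U) : (D.obj i₃).Opens) : Set (D.obj i₃)) := by
    rw [preimage_t_app]
    exact QuasiCompact.isCompact_preimage (f := t.app i₃) _ U.isOpen hU.isCompact
  have hc2 : IsCompact ((D.map a₂ ⁻¹ᵁ V₂ : (D.obj i₃).Opens) : Set (D.obj i₃)) :=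
    (hV₂.preimage (D.map a₂)).isCompact
  obtain ⟨i₄, a₃, h4⟩ := exists_map_preimage_eq_map_preimage D c hc hc1 hc2 (by
    rw [← Scheme.Hom.comp_preimage, ← Scheme.Hom.comp_preimage, ← Scheme.Hom.comp_preimage,
      c.w, c.w, hV₂', hg])
  refine ⟨i₄, fun j a => ?_⟩
  rw [← preimage_t_app D t (a ≫ a₃ ≫ a₁), D.map_comp, D.map_comp, Scheme.Hom.comp_preimage,
    Scheme.Hom.comp_preimage, h4]
  exact ((hV₂.preimage (D.map a₂)).preimage (D.map a₃)).preimage (D.map a)

include hc in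
/-- **Descent of affineness**: if the limit is affine over `S` then so are all small enough
stages. -/
theorem exists_isAffineHom_stage [CompactSpace S] [∀ i, QuasiCompact (t.app i)] (g : c.pt ⟶ S)
    (hg : ∀ i, c.π.app i ≫ t.app i = g) [IsAffineHom g] :
    ∃ i : I, ∀ (j : I) (_ : j ⟶ i), IsAffineHom (t.app j) := by
  classical
  obtain ⟨s, hs, hcov⟩ := (isCompact_and_isOpen_iff_finite_and_eq_biUnion_affineOpens
    (U := (Set.univ : Set S))).mp ⟨isCompact_univ, isOpen_univ⟩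
  have hstage : ∀ V : s, ∃ i : I, ∀ (j : I) (_ : j ⟶ i), IsAffineOpen (t.app j ⁻¹ᵁ V.1.1) :=
    fun V => exists_isAffineOpen_preimage_stage D t c hc g hg V.1.1 V.1.2 (V.1.2.preimage g)
  choose iV hiV using hstage
  have : Fintype s := hs.fintype
  obtain ⟨l, hl⟩ := IsCofiltered.inf_objs_exists (Finset.univ.image iV)
  have ml : ∀ V : s, l ⟶ iV V := fun V =>
    (hl (Finset.mem_image_of_mem _ (Finset.mem_univ V))).some
  refine ⟨l, fun j a => isAffineHom_of_forall_exists_isAffineOpen _ fun x => ?_⟩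
  have hx : x ∈ ⋃ i ∈ s, (i : Set S) := hcov ▸ Set.mem_univ _
  obtain ⟨V, hVs, hxV⟩ := Set.mem_iUnion₂.mp hx
  exact ⟨V.1, hxV, V.2, hiV ⟨V, hVs⟩ j (a ≫ ml ⟨V, hVs⟩)⟩

end Groth.Agent.Lib.helper9.AbsApprox
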