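/-
Helper library (helper9): absolute Noetherian approximation, part 30.
A cofiltered limit of schemes of finite type over `S` with monomorphic affine transition maps
which is of finite presentation over `S` is isomorphic to a stage.
-/
import Mathlib

set_option autoImplicit false
set_option linter.style.haveILetI false
set_option backward.isDefEq.respectTransparency false

namespace Groth.Agent.Lib.helper9.AbsApprox

open AlgebraicGeometry CategoryTheory Limits Opposite

universe u

variable {I : Type u} [Category.{u} I] [IsCofiltered I] {S : Scheme.{u}} (D : I ⥤ Scheme.{u})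
  (t : D ⟶ (Functor.const I).obj S) (c : Cone D) (hc : IsLimit c)
  [∀ {i j : I} (a : i ⟶ j), IsAffineHom (D.map a)]
  [∀ i, CompactSpace (D.obj i)] [∀ i, QuasiSeparatedSpace (D.obj i)]

include hc in
/-- If the limit is of finite presentation over `S`, the stages are of finite type over `S` and
the transition maps are monomorphisms, then the limit is isomorphic to a stage. -/
theorem exists_isIso_π_app [∀ i, LocallyOfFiniteType (t.app i)]
    (hmono : ∀ {i j : I} (a : i ⟶ j), Mono (D.map a)) (g : c.pt ⟶ S)
    (hg : ∀ i, c.π.app i ≫ t.app i = g) [LocallyOfFinitePresentation g] :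
    ∃ i : I, IsIso (c.π.app i) := by
  obtain ⟨i, r, hr1, hr2⟩ := Scheme.exists_π_app_comp_eq_of_locallyOfFinitePresentation D t g c hc
    (𝟙 c.pt) (by
      ext i
      simp only [NatTrans.comp_app, Functor.const_obj_obj, Functor.const_map_app,
        Category.id_comp]
      exact hg i)
  obtain ⟨k, h, hk⟩ := Scheme.exists_hom_comp_eq_comp_of_locallyOfFiniteType D t (t.app i) c hc
    (r ≫ c.π.app i) (𝟙 _) (by rw [Category.assoc, hg, hr2]) (by rw [Category.id_comp])
    (by rw [reassoc_of% hr1, Category.comp_id]; exact (Category.id_comp _).symm)
  refine ⟨k, ⟨D.map h ≫ r, ?_, ?_⟩⟩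
  · rw [← Category.assoc, c.w, hr1]
    rfl
  · haveI := hmono h
    rw [← cancel_mono (D.map h), Category.assoc, Category.assoc, c.w, hk, Category.comp_id,
      Category.id_comp]

end Groth.Agent.Lib.helper9.AbsApprox
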