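/-
Helper library (helper9): absolute Noetherian approximation, part 31.
Zariski's main theorem for morphisms of finite presentation: a separated quasi-finite morphism of
finite presentation to a qcqs scheme is a quasi-compact open immersion into a finite scheme of
finite presentation.
-/
import Groth.Agent.Lib.Helper9.AbsApprox29
import Groth.Agent.Lib.Helper9.AbsApprox30
import Groth.Agent.Lib.Helper9.ZMTFin6

set_option autoImplicit false
set_option linter.style.haveILetI false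
set_option backward.isDefEq.respectTransparency false

namespace Groth.Agent.Lib.helper9.AbsApprox

open AlgebraicGeometry CategoryTheory Limits Opposite

universe u

theorem zmt_fp {X S : Scheme.{u}} (f : X ⟶ S) [CompactSpace S] [QuasiSeparatedSpace S]
    [IsSeparated f] [QuasiCompact f] [LocallyQuasiFinite f] [LocallyOfFinitePresentation f] :
    ∃ (T : Scheme.{u}) (j : X ⟶ T) (π : T ⟶ S), IsOpenImmersion j ∧ QuasiCompact j ∧ IsFinite π ∧
      LocallyOfFinitePresentation π ∧ j ≫ π = f := by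
  obtain ⟨T, j, π, hj1, hj2, hπ, hjπ⟩ := Groth.Agent.Lib.helper9.ZMTFin.zmt_finite f
  obtain ⟨I, hI1, hI2, hI3, D, t, c, hc, e, h1, h2, h3, h4⟩ := exists_finite_approx π
  have haff : ∀ {i j : Iᵒᵖ} (a : i ⟶ j), IsAffineHom (D.map a) := fun a => by
    have := h3 _ _ a
    infer_instance
  have hqs : ∀ i, QuasiSeparatedSpace (D.obj i) := fun i => by
    have := (h2 i).1
    exact quasiSeparatedSpace_of_quasiSeparated (Y := S) (t.app i)
  have : CompactSpace X := QuasiCompact.compactSpace_of_compactSpace f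
  obtain ⟨j', hj'⟩ : ∃ j' : X ⟶ c.pt, j' = j ≫ e.inv := ⟨_, rfl⟩
  have : IsOpenImmersion j' := by rw [hj']; infer_instance
  have hj'' : j' ≫ e.hom ≫ π = f := by rw [hj', Category.assoc, Iso.inv_hom_id_assoc, hjπ]
  clear hj'
  obtain ⟨i₀, V₀, hV₀c, hV₀⟩ := exists_preimage_eq D c hc j'.opensRange
    (isCompact_range j'.continuous)
  have hcV : IsLimit (opensCone D c i₀ V₀) := isLimitOpensCone D c hc i₀ V₀
  let tV : opensDiagram D i₀ V₀ ⟶ (Functor.const (Over i₀)).obj S :=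
    { app := fun l => (D.map l.hom ⁻¹ᵁ V₀).ι ≫ t.app l.left
      naturality := fun l l' m => by
        have := t.naturality m.left
        simp only [Functor.const_obj_obj, Functor.const_obj_map, Category.comp_id] at this ⊢
        rw [opensDiagram_map, Scheme.Hom.resLE_comp_ι_assoc, this] }
  have : ∀ l : Over i₀, CompactSpace ((opensDiagram D i₀ V₀).obj l) := fun l =>
    isCompact_iff_compactSpace.mp (QuasiCompact.isCompact_preimage _ V₀.2 hV₀c)
  have : ∀ l : Over i₀, QuasiSeparatedSpace ((opensDiagram D i₀ V₀).obj l) := fun l =>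
    (isQuasiSeparated_iff_quasiSeparatedSpace _ (D.map _ ⁻¹ᵁ _).2).mp
      (.of_quasiSeparatedSpace _)
  have : ∀ l, LocallyOfFiniteType (tV.app l) := fun l => by
    have := (h2 l.left).2
    show LocallyOfFiniteType ((D.map l.hom ⁻¹ᵁ V₀).ι ≫ t.app l.left)
    infer_instance
  have hmono : ∀ {l l' : Over i₀} (m : l ⟶ l'), Mono ((opensDiagram D i₀ V₀).map m) := by
    intro l l' m
    have := h3 _ _ m.left
    have : Mono ((opensDiagram D i₀ V₀).map m ≫ (D.map l'.hom ⁻¹ᵁ V₀).ι) := by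
      rw [opensDiagram_map, Scheme.Hom.resLE_comp_ι]
      infer_instance
    exact mono_of_mono _ (D.map l'.hom ⁻¹ᵁ V₀).ι
  let g : (opensCone D c i₀ V₀).pt ⟶ S := (c.π.app i₀ ⁻¹ᵁ V₀).ι ≫ e.hom ≫ π
  have hg : ∀ l, (opensCone D c i₀ V₀).π.app l ≫ tV.app l = g := fun l => by
    show (c.π.app l.left).resLE _ _ _ ≫ (D.map l.hom ⁻¹ᵁ V₀).ι ≫ t.app l.left = _
    rw [Scheme.Hom.resLE_comp_ι_assoc, h1]
  let θ : X ≅ (c.π.app i₀ ⁻¹ᵁ V₀ : Scheme.{u}) :=
    IsOpenImmersion.isoOfRangeEq j' (c.π.app i₀ ⁻¹ᵁ V₀).ι (by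
      rw [Scheme.Opens.range_ι, hV₀]
      rfl)
  have hθ : θ.hom ≫ (c.π.app i₀ ⁻¹ᵁ V₀).ι = j' := IsOpenImmersion.isoOfRangeEq_hom_fac _ _ _
  have hθg : θ.hom ≫ g = f := by
    show θ.hom ≫ (c.π.app i₀ ⁻¹ᵁ V₀).ι ≫ e.hom ≫ π = f
    rw [reassoc_of% hθ, hj'']
  have : LocallyOfFinitePresentation g := by
    have : g = θ.inv ≫ f := by rw [← hθg, Iso.inv_hom_id_assoc]
    rw [this]
    infer_instance
  obtain ⟨l, hl⟩ := exists_isIso_π_app (opensDiagram D i₀ V₀) tV (opensCone D c i₀ V₀) hcV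
    hmono g hg
  have hfin := (h2 l.left).1
  refine ⟨D.obj l.left, θ.hom ≫ (opensCone D c i₀ V₀).π.app l ≫ (D.map l.hom ⁻¹ᵁ V₀).ι,
    t.app l.left, ?_, ?_, (h2 l.left).1, (h2 l.left).2, ?_⟩
  · infer_instance
  · have e1 : (θ.hom ≫ (opensCone D c i₀ V₀).π.app l ≫ (D.map l.hom ⁻¹ᵁ V₀).ι) ≫ t.app l.left =
        f := by
      rw [Category.assoc, Category.assoc]
      exact (congrArg (θ.hom ≫ ·) (hg l)).trans hθg
    have : QuasiCompact ((θ.hom ≫ (opensCone D c i₀ V₀).π.app l ≫ (D.map l.hom ⁻¹ᵁ V₀).ι) ≫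
        t.app l.left) := by
      rw [e1]
      infer_instance
    exact QuasiCompact.of_comp _ (t.app l.left)
  · rw [Category.assoc, Category.assoc]
    exact (congrArg (θ.hom ≫ ·) (hg l)).trans hθg

end Groth.Agent.Lib.helper9.AbsApprox
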