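/-
Helper library (helper9): absolute Noetherian approximation, part 33.
A closed subscheme `X` of the limit of an approximation `T` is the limit of its scheme-theoretic
images in the stages of `T`.
-/
import Groth.Agent.Lib.Helper9.AbsApprox28

set_option autoImplicit false
set_option linter.style.haveILetI false
set_option backward.isDefEq.respectTransparency false

namespace Groth.Agent.Lib.helper9.AbsApprox

open AlgebraicGeometry CategoryTheory Limits Opposite

universe u

noncomputable section

namespace Sys

variable (T : Sys.{u}) {X : Scheme.{u}} (ι : X ⟶ T.c.pt)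

/-- the scheme-theoretic image of `X` in the stage `b` -/
def imgX (b : T.I) : Scheme.{u} := (T.Kb ι b).subscheme

/-- the inclusion of the scheme-theoretic image -/
def imgIncl (b : T.I) : T.imgX ι b ⟶ T.X b := (T.Kb ι b).subschemeι

instance (b : T.I) : IsClosedImmersion (T.imgIncl ι b) := by
  unfold imgIncl
  infer_instance

/-- the transition maps between the scheme-theoretic images -/
def imgMap {b b' : T.I} (h : b ≤ b') : T.imgX ι b' ⟶ T.imgX ι b :=
  Scheme.IdealSheafData.subschemeMap (T.Kb ι b') (T.Kb ι b) (T.tr h) (T.Kb_map ι h).ge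

@[reassoc]
theorem imgMap_incl {b b' : T.I} (h : b ≤ b') :
    T.imgMap ι h ≫ T.imgIncl ι b = T.imgIncl ι b' ≫ T.tr h :=
  Scheme.IdealSheafData.subschemeMap_subschemeι _ _ _ _

/-- the projection of `X` to its scheme-theoretic image -/
def imgPr (b : T.I) : X ⟶ T.imgX ι b := (ι ≫ T.pr b).toImage

@[reassoc]
theorem imgPr_incl (b : T.I) : T.imgPr ι b ≫ T.imgIncl ι b = ι ≫ T.pr b :=
  (ι ≫ T.pr b).toImage_imageι

/-- the system of the scheme-theoretic images -/
def imgD : T.Iᵒᵖ ⥤ Scheme.{u} where
  obj b := T.imgX ι b.unop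
  map f := T.imgMap ι (leOfHom f.unop)
  map_id b := by
    rw [← cancel_mono (T.imgIncl ι b.unop), imgMap_incl, Category.id_comp]
    exact (congrArg (_ ≫ ·) (T.tr_refl _)).trans (Category.comp_id _)
  map_comp f g := by
    rw [← cancel_mono (T.imgIncl ι _), Category.assoc, imgMap_incl, imgMap_incl, imgMap_incl_assoc,
      T.tr_trans]

/-- the inclusion of the system of the scheme-theoretic images -/
def imgι : T.imgD ι ⟶ T.D where
  app b := T.imgIncl ι b.unop
  naturality _ _ f := T.imgMap_incl ι (leOfHom f.unop)

/-- the cone over the system of the scheme-theoretic images -/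
def imgCone : Cone (T.imgD ι) where
  pt := X
  π :=
  { app := fun b => T.imgPr ι b.unop
    naturality := fun b b' f => by
      simp only [Functor.const_obj_obj, Functor.const_obj_map, Category.id_comp]
      show _ = T.imgPr ι b.unop ≫ T.imgMap ι (leOfHom f.unop)
      rw [← cancel_mono (T.imgIncl ι b'.unop), Category.assoc, imgMap_incl, imgPr_incl_assoc,
        imgPr_incl, T.pr_tr] }

variable [IsClosedImmersion ι]

/-- the cone over the system of the scheme-theoretic images is a limit cone -/
def isLimitImgCone : IsLimit (T.imgCone ι) := by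
  -- the map to the limit of `T`
  let u : ∀ s : Cone (T.imgD ι), s.pt ⟶ T.c.pt := fun s =>
    T.hc.lift ((Cone.postcompose (T.imgι ι)).obj s)
  have hu : ∀ (s : Cone (T.imgD ι)) (b : T.I),
      u s ≫ T.pr b = s.π.app (op b) ≫ T.imgIncl ι b := fun s b =>
    T.hc.fac ((Cone.postcompose (T.imgι ι)).obj s) (op b)
  have hker : ∀ s : Cone (T.imgD ι), ι.ker ≤ (u s).ker := fun s => by
    rw [← T.iSup_Jb ι]
    refine iSup_le fun b => ?_
    rw [Jb, ← Scheme.IdealSheafData.le_map_iff_comap_le, Scheme.IdealSheafData.map_ker, hu]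
    have h1 : (T.imgIncl ι b).ker = T.Kb ι b := Scheme.IdealSheafData.ker_subschemeι _
    rw [← h1]
    exact Scheme.Hom.le_ker_comp _ _
  refine
    { lift := fun s => IsClosedImmersion.lift ι (u s) (hker s)
      fac := fun s b => ?_
      uniq := fun s m hm => ?_ }
  · show _ ≫ T.imgPr ι b.unop = _
    rw [← cancel_mono (T.imgIncl ι b.unop), Category.assoc, imgPr_incl,
      IsClosedImmersion.lift_fac_assoc, hu]
  · rw [← cancel_mono ι, IsClosedImmersion.lift_fac]
    apply T.hc.hom_ext
    intro b
    rw [Category.assoc, hu s b.unop, ← hm b]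
    show m ≫ ι ≫ T.pr b.unop = (m ≫ T.imgPr ι b.unop) ≫ _
    rw [Category.assoc, imgPr_incl]

end Sys

end

end Groth.Agent.Lib.helper9.AbsApprox
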