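/-
Helper library (helper9): absolute Noetherian approximation, part 34.
The base change of an approximation `T` of `S` along a morphism of finite type to a stage is an
approximation of the base change of `S`.
-/
import Groth.Agent.Lib.Helper9.AbsApprox26
import Groth.Agent.Lib.Helper9.AbsApprox15
import Groth.Agent.Lib.Helper9.LimBaseChange

set_option autoImplicit false
set_option linter.style.haveILetI false
set_option backward.isDefEq.respectTransparency false

namespace Groth.Agent.Lib.helper9.AbsApprox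

open AlgebraicGeometry CategoryTheory Limits Opposite

universe u

noncomputable section

namespace Sys

variable (T : Sys.{u}) (b₀ : T.I)

/-- the stages above `b₀` as objects over `b₀` -/
def geOver : (Ge b₀)ᵒᵖ ⥤ Over (op b₀) where
  obj b := Over.mk ((homOfLE b.unop.2).op : op b.unop.1 ⟶ op b₀)
  map f := Over.homMk ((geIncl b₀).op.map f) (Subsingleton.elim _ _)
  map_id b := by
    ext
    exact Subsingleton.elim _ _
  map_comp f g := by
    ext
    exact Subsingleton.elim _ _

instance : (T.geOver b₀).Initial := by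
  apply Functor.initial_of_exists_of_isCofiltered
  · intro d
    refine ⟨op ⟨d.left.unop, leOfHom d.hom.unop⟩, ⟨Over.homMk (𝟙 _) (Subsingleton.elim _ _)⟩⟩
  · intro d c s s'
    refine ⟨c, 𝟙 c, ?_⟩
    ext
    exact Subsingleton.elim _ _

variable {Z₀ : Scheme.{u}} (f₀ : Z₀ ⟶ T.X b₀) [LocallyOfFiniteType f₀] [QuasiCompact f₀]

/-- the base change of the approximation along `f₀` -/
def bcSys : Sys.{u} where
  I := Ge b₀
  D := T.geOver b₀ ⋙ bcDiagram T.D (op b₀) f₀
  c := (bcCone T.D T.c (op b₀) f₀).whisker (T.geOver b₀)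
  hc := (Functor.Initial.isLimitWhiskerEquiv (T.geOver b₀) _).symm
    (isLimitBcCone T.D T.c (op b₀) f₀ T.hc)
  aff {i j} f := by
    haveI hD : ∀ (i j : T.Iᵒᵖ) (f : i ⟶ j), IsAffineHom (T.D.map f) := fun _ _ f => T.aff f
    exact inferInstanceAs (IsAffineHom ((bcDiagram T.D (op b₀) f₀).map ((T.geOver b₀).map f)))
  ftz b := by
    have h1 : QuasiCompact (pullback.fst (T.D.map (homOfLE b.2).op) f₀) :=
      MorphismProperty.pullback_fst (P := @QuasiCompact) _ _ inferInstance
    have h2 : LocallyOfFiniteType (pullback.fst (T.D.map (homOfLE b.2).op) f₀) :=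
      MorphismProperty.pullback_fst (P := @LocallyOfFiniteType) _ _ inferInstance
    have h3 := T.ftz b.1
    refine ⟨?_, ?_⟩
    · haveI := h3.1
      exact QuasiCompact.compactSpace_of_compactSpace (pullback.fst (T.D.map (homOfLE b.2).op) f₀)
    · have : specULiftZIsTerminal.from (pullback (T.D.map (homOfLE b.2).op) f₀) =
          pullback.fst (T.D.map (homOfLE b.2).op) f₀ ≫ specULiftZIsTerminal.from _ :=
        specULiftZIsTerminal.hom_ext _ _
      show LocallyOfFiniteType (specULiftZIsTerminal.from (pullback (T.D.map (homOfLE b.2).op) f₀))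
      rw [this]
      haveI := h3.2
      infer_instance

/-- the structure maps of the base change -/
def bcStr (b : Ge b₀) : (T.bcSys b₀ f₀).X b ⟶ T.X b.1 :=
  pullback.fst (T.D.map (homOfLE b.2).op) f₀

theorem bcStr_isPullback (b : Ge b₀) :
    IsPullback (T.bcStr b₀ f₀ b) (pullback.snd (T.D.map (homOfLE b.2).op) f₀) (T.tr b.2) f₀ :=
  IsPullback.of_hasPullback _ _

@[reassoc]
theorem bcSys_tr_bcStr {b b' : Ge b₀} (h : b ≤ b') :
    (T.bcSys b₀ f₀).tr h ≫ T.bcStr b₀ f₀ b = T.bcStr b₀ f₀ b' ≫ T.tr (show b.1 ≤ b'.1 from h) := by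
  have := (bcDiagramι T.D (op b₀) f₀).naturality ((T.geOver b₀).map (homOfLE h).op)
  exact this

@[reassoc]
theorem bcSys_pr_bcStr (b : Ge b₀) :
    (T.bcSys b₀ f₀).pr b ≫ T.bcStr b₀ f₀ b = pullback.fst (T.pr b₀) f₀ ≫ T.pr b.1 := by
  show (bcCone T.D T.c (op b₀) f₀).π.app ((T.geOver b₀).obj (op b)) ≫
    pullback.fst (T.D.map ((T.geOver b₀).obj (op b)).hom) f₀ = _
  simp [pullback.map]
  rfl

end Sys

end

end Groth.Agent.Lib.helper9.AbsApprox
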