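/-
Helper library (helper9): a scheme proper over a cofiltered limit `X = lim X_i` (affine transition
maps, qcqs stages over `S`) and locally of finite type over `S` is proper over `X_i` for all
small enough `i` (Stacks 0A0R).
-/
import Groth.Agent.Lib.Helper9.AbsApprox32
import Groth.Agent.Lib.Helper9.FPDescend
import Groth.Agent.Lib.Helper5.ProperDescend

set_option autoImplicit false
set_option linter.style.haveILetI false
set_option backward.isDefEq.respectTransparency false

namespace Groth.Agent.Lib.helper9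

open AlgebraicGeometry CategoryTheory Limits

universe u

section

variable {I : Type u} [SmallCategory I] [IsCofiltered I] (D : I ⥤ Scheme.{u}) (c : Cone D)
  (hc : IsLimit c) [hD : ∀ (i j : I) (f : i ⟶ j), IsAffineHom (D.map f)]
  (i₀ : I) {X₀ : Scheme.{u}} (f₀ : X₀ ⟶ D.obj i₀)

include hc in
/-- Properness of the base change of `f₀ : X₀ ⟶ D_{i₀}` to the limit descends to all small
enough stages. -/
theorem exists_forall_isProper_fst [CompactSpace (D.obj i₀)] [QuasiSeparatedSpace (D.obj i₀)]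
    [CompactSpace X₀] [QuasiSeparatedSpace X₀] [LocallyOfFiniteType f₀]
    [IsProper (pullback.fst (c.π.app i₀) f₀)] :
    ∃ l : Over i₀, ∀ (l' : Over i₀) (_ : l' ⟶ l), IsProper (pullback.fst (D.map l'.hom) f₀) := by
  have key : ∀ (g : X₀ ⟶ D.obj i₀), g = f₀ ≫ 𝟙 _ → IsProper (pullback.fst (c.π.app i₀) g) →
      ∃ l : Over i₀, ∀ (l' : Over i₀) (_ : l' ⟶ l), IsProper (pullback.fst (D.map l'.hom) g) := by
    rintro g rfl hg
    have e1 : ∀ {T : Scheme.{u}} (φ : T ⟶ D.obj i₀), stageMap φ f₀ (𝟙 _) =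
        pullback.fst φ (f₀ ≫ 𝟙 _) ≫ inv (pullback.fst φ (𝟙 _)) := fun φ => by
      rw [IsIso.eq_comp_inv, stageMap_fst]
    have : IsProper (stageMap (c.π.app i₀) f₀ (𝟙 _)) := by
      rw [e1]
      infer_instance
    obtain ⟨l, hl⟩ := Groth.Agent.Lib.helper5.ProperDescend.exists_isProper_stageMap D c hc i₀ f₀
      (𝟙 _)
    refine ⟨l, fun l' m => ?_⟩
    have : IsProper (stageMap (D.map l'.hom) f₀ (𝟙 _)) := stageMap_of_hom D i₀ f₀ (𝟙 _) @IsProper m hl
    rw [← stageMap_fst]
    infer_instance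
  exact key f₀ (Category.comp_id _).symm inferInstance

end

section main

variable {I : Type u} [SmallCategory I] [IsCofiltered I] (S : Scheme.{u})
  (D : I ⥤ Scheme.{u}) (t : D ⟶ (Functor.const I).obj S) (c : Cone D) (hc : IsLimit c)

include hc in
/-- A scheme proper over `lim X_i` and locally of finite type over `S` is proper over `X_i` for
all small enough `i`. -/
theorem exists_forall_isProper_comp_π [hD : ∀ (i j : I) (a : i ⟶ j), IsAffineHom (D.map a)]
    [∀ i, CompactSpace (D.obj i)] [∀ i, QuasiSeparatedSpace (D.obj i)] (i₀ : I)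
    {Y : Scheme.{u}} (h : Y ⟶ c.pt) [IsProper h]
    [LocallyOfFiniteType (h ≫ c.π.app i₀ ≫ t.app i₀)] :
    ∃ i₁ : I, ∀ (i : I) (_ : i ⟶ i₁), IsProper (h ≫ c.π.app i) := by
  have hD' : ∀ {i j : I} (a : i ⟶ j), IsAffineHom (D.map a) := fun a => hD _ _ a
  have : CompactSpace c.pt := Scheme.compactSpace_of_isLimit D c hc
  have : IsAffineHom (c.π.app i₀) := isAffineHom_π_app D c hc i₀
  have : QuasiSeparatedSpace c.pt := quasiSeparatedSpace_of_quasiSeparated (c.π.app i₀)
  -- approximate `h`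
  obtain ⟨J, hJ1, hJ2, hJ3, DY, tY, cY, hcY, e, k1, k2, k3, k4⟩ := AbsApprox.exists_proper_approx h
  obtain ⟨j₀⟩ : Nonempty Jᵒᵖ := ⟨Opposite.op hJ3.some⟩
  obtain ⟨p, hp⟩ : ∃ p : DY.obj j₀ ⟶ c.pt, p = tY.app j₀ := ⟨_, rfl⟩
  obtain ⟨ι, hι⟩ : ∃ ι : Y ⟶ DY.obj j₀, ι = e.inv ≫ cY.π.app j₀ := ⟨_, rfl⟩
  have hιp : ι ≫ p = h := by
    rw [hι, hp, Category.assoc, k1, Iso.inv_hom_id_assoc]
  have : IsClosedImmersion ι := by
    have := k4 j₀
    rw [hι]
    infer_instance
  have : IsProper p := hp ▸ (k2 j₀).1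
  have : LocallyOfFinitePresentation p := hp ▸ (k2 j₀).2
  -- descend `p`
  obtain ⟨i₂, ⟨M⟩⟩ := FPModel.exists_model hc p
  have : CompactSpace M.X₀ := QuasiCompact.compactSpace_of_compactSpace M.f₀
  have : QuasiSeparatedSpace M.X₀ := quasiSeparatedSpace_of_quasiSeparated M.f₀
  let eY := M.pb.flip.isoPullback
  have heY1 : eY.hom ≫ pullback.fst (c.π.app i₂) M.f₀ = p := M.pb.flip.isoPullback_hom_fst
  have : IsProper (pullback.fst (c.π.app i₂) M.f₀) := by
    have : pullback.fst (c.π.app i₂) M.f₀ = eY.inv ≫ p := (Iso.eq_inv_comp eY).mpr heY1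
    rw [this]
    infer_instance
  obtain ⟨l, hl⟩ := exists_forall_isProper_fst D c hc i₂ M.f₀
  -- the base changed system
  let DX := bcDiagram D i₂ M.f₀
  let cX := bcCone D c i₂ M.f₀
  have hcX : IsLimit cX := isLimitBcCone D c i₂ M.f₀ hc
  have hπfst : ∀ l' : Over i₂, cX.π.app l' ≫ pullback.fst (D.map l'.hom) M.f₀ =
      pullback.fst (c.π.app i₂) M.f₀ ≫ c.π.app l'.left := fun l' => by
    simp [cX, pullback.map]
  obtain ⟨h', hh'⟩ : ∃ h' : Y ⟶ cX.pt, h' = ι ≫ eY.hom := ⟨_, rfl⟩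
  have hh'1 : h' ≫ pullback.fst (c.π.app i₂) M.f₀ = h := by
    rw [hh', Category.assoc, heY1, hιp]
  have : IsClosedImmersion h' := by
    rw [hh']
    infer_instance
  have hcp : ∀ l' : Over i₂, CompactSpace (DX.obj l') := fun l' => by
    have : QuasiCompact (pullback.fst (D.map l'.hom) M.f₀) :=
      MorphismProperty.pullback_fst (P := @QuasiCompact) _ _ inferInstance
    exact QuasiCompact.compactSpace_of_compactSpace (pullback.fst (D.map l'.hom) M.f₀)
  have hDX : ∀ {j j' : Over i₂} (f : j ⟶ j'), IsAffineHom (DX.map f) := fun f => inferInstance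
  have hstr : ∀ i : I, c.π.app i ≫ t.app i = c.π.app i₀ ≫ t.app i₀ := fun i =>
    π_comp_structure_eq S D t c i i₀
  have : LocallyOfFiniteType (h' ≫ cX.π.app l) := by
    have : LocallyOfFiniteType ((h' ≫ cX.π.app l) ≫
        pullback.fst (D.map l.hom) M.f₀ ≫ t.app l.left) := by
      rw [Category.assoc, reassoc_of% hπfst l, reassoc_of% hh'1, hstr]
      infer_instance
    exact locallyOfFiniteType_of_comp _ (pullback.fst (D.map l.hom) M.f₀ ≫ t.app l.left)
  obtain ⟨l₂, hl₂⟩ := exists_isClosedImmersion_comp_π DX cX hcX l h'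
  let l₃ := IsCofiltered.min l l₂
  refine ⟨l₃.left, fun i a => ?_⟩
  let l' : Over i₂ := Over.mk (a ≫ l₃.hom)
  let a' : l' ⟶ l₃ := Over.homMk a
  have : IsProper (pullback.fst (D.map l'.hom) M.f₀) := hl l' (a' ≫ IsCofiltered.minToLeft l l₂)
  have : IsClosedImmersion (h' ≫ cX.π.app l') := by
    have : IsClosedImmersion ((h' ≫ cX.π.app l') ≫ DX.map (a' ≫ IsCofiltered.minToRight l l₂)) := by
      rw [Category.assoc, cX.w]
      exact hl₂
    have : IsSeparated (DX.map (a' ≫ IsCofiltered.minToRight l l₂)) :=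
      IsSeparated.of_isAffineHom _
    exact IsClosedImmersion.of_comp _ (DX.map (a' ≫ IsCofiltered.minToRight l l₂))
  have e3 : h ≫ c.π.app i = (h' ≫ cX.π.app l') ≫ pullback.fst (D.map l'.hom) M.f₀ := by
    rw [Category.assoc, hπfst l', reassoc_of% hh'1]
    rfl
  rw [e3]
  infer_instance

end main

end Groth.Agent.Lib.helper9
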