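/-
Helper library (helper9): absolute Noetherian approximation, part 35.
A proper morphism to a qcqs scheme is a limit of proper morphisms between schemes of finite type
over `ℤ` (Stacks 09ZR).
-/
import Groth.Agent.Lib.Helper9.AbsApprox33
import Groth.Agent.Lib.Helper9.AbsApprox34
import Groth.Agent.Lib.Helper9.ProperIntoStage

set_option autoImplicit false
set_option linter.style.haveILetI false
set_option backward.isDefEq.respectTransparency false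

namespace Groth.Agent.Lib.helper9.AbsApprox

open AlgebraicGeometry CategoryTheory Limits Opposite

universe u

/-- A closed subscheme `X` of a scheme `Z` proper and of finite presentation over `S = lim S_b`
(an approximation) is a limit of schemes `X_b` proper over `S_b`. -/
theorem exists_proper_system_of_closedImmersion (TS : Sys.{u}) {X Z : Scheme.{u}}
    (ι₀ : X ⟶ Z) [IsClosedImmersion ι₀] (p : Z ⟶ TS.c.pt) [IsProper p]
    [LocallyOfFinitePresentation p] :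
    ∃ (I : Type u) (_ : Preorder I) (_ : IsDirected I (fun a b => a ≤ b)) (_ : Nonempty I)
      (DX DS : Iᵒᵖ ⥤ Scheme.{u}) (φ : DX ⟶ DS)
      (cX : Cone DX) (cS : Cone DS) (_ : IsLimit cX) (_ : IsLimit cS)
      (eX : cX.pt ≅ X) (eS : cS.pt ≅ TS.c.pt),
      (∀ (i j : Iᵒᵖ) (a : i ⟶ j), IsAffineHom (DX.map a) ∧ IsAffineHom (DS.map a)) ∧
      (∀ i, IsProper (φ.app i) ∧ IsFTZ (DS.obj i)) ∧
      (∀ i, cX.π.app i ≫ φ.app i = eX.hom ≫ ι₀ ≫ p ≫ eS.inv ≫ cS.π.app i) := by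
  have hD : ∀ (i j : TS.Iᵒᵖ) (f : i ⟶ j), IsAffineHom (TS.D.map f) := fun _ _ f => TS.aff f
  suffices key : ∀ (b₁ : TS.I) (M₁ : FPModel TS.D TS.c p (op b₁)), IsProper M₁.f₀ →
      ∃ (I : Type u) (_ : Preorder I) (_ : IsDirected I (fun a b => a ≤ b)) (_ : Nonempty I)
      (DX DS : Iᵒᵖ ⥤ Scheme.{u}) (φ : DX ⟶ DS)
      (cX : Cone DX) (cS : Cone DS) (_ : IsLimit cX) (_ : IsLimit cS)
      (eX : cX.pt ≅ X) (eS : cS.pt ≅ TS.c.pt),
      (∀ (i j : Iᵒᵖ) (a : i ⟶ j), IsAffineHom (DX.map a) ∧ IsAffineHom (DS.map a)) ∧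
      (∀ i, IsProper (φ.app i) ∧ IsFTZ (DS.obj i)) ∧
      (∀ i, cX.π.app i ≫ φ.app i = eX.hom ≫ ι₀ ≫ p ≫ eS.inv ≫ cS.π.app i) by
    -- descend `p`
    obtain ⟨i, ⟨M⟩⟩ := FPModel.exists_model TS.hc p
    have : CompactSpace M.X₀ := QuasiCompact.compactSpace_of_compactSpace M.f₀
    have : QuasiSeparatedSpace M.X₀ := quasiSeparatedSpace_of_quasiSeparated M.f₀
    let eY := M.pb.flip.isoPullback
    have heY1 : eY.hom ≫ pullback.fst (TS.c.π.app i) M.f₀ = p := M.pb.flip.isoPullback_hom_fst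
    have : IsProper (pullback.fst (TS.c.π.app i) M.f₀) := by
      have : pullback.fst (TS.c.π.app i) M.f₀ = eY.inv ≫ p := (Iso.eq_inv_comp eY).mpr heY1
      rw [this]
      infer_instance
    obtain ⟨l, hl⟩ := exists_forall_isProper_fst TS.D TS.c TS.hc i M.f₀
    exact key l.left.unop (M.rebase l.hom) (hl l (𝟙 _))
  intro b₁ M₁ hproper
  obtain ⟨f₁, hf₁⟩ : ∃ f₁ : M₁.X₀ ⟶ TS.X b₁, f₁ = M₁.f₀ := ⟨_, rfl⟩
  have : IsProper f₁ := hf₁ ▸ hproper
  have : LocallyOfFinitePresentation f₁ := hf₁ ▸ M₁.lfp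
  have hpb : IsPullback M₁.g p f₁ (TS.pr b₁) := hf₁ ▸ M₁.pb
  -- the approximation of `Z`
  let TZ : Sys.{u} := TS.bcSys b₁ f₁
  let eZ : Z ≅ TZ.c.pt := hpb.flip.isoPullback
  have heZ1 : eZ.hom ≫ pullback.fst (TS.pr b₁) f₁ = p := hpb.flip.isoPullback_hom_fst
  obtain ⟨ι, hι⟩ : ∃ ι : X ⟶ TZ.c.pt, ι = ι₀ ≫ eZ.hom := ⟨_, rfl⟩
  have : IsClosedImmersion ι := by
    rw [hι]
    infer_instance
  have hstr : ∀ b : Ge b₁, IsProper (TS.bcStr b₁ f₁ b) := fun b =>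
    MorphismProperty.pullback_fst (P := @IsProper) _ _ inferInstance
  -- the natural transformation
  let φ : TZ.imgD ι ⟶ (geIncl b₁).op ⋙ TS.D :=
    { app := fun b => TZ.imgIncl ι b.unop ≫ TS.bcStr b₁ f₁ b.unop
      naturality := fun b b' a => by
        show TZ.imgMap ι (leOfHom a.unop) ≫ TZ.imgIncl ι b'.unop ≫ TS.bcStr b₁ f₁ b'.unop =
          (TZ.imgIncl ι b.unop ≫ TS.bcStr b₁ f₁ b.unop) ≫ TS.tr _
        rw [TZ.imgMap_incl_assoc, TS.bcSys_tr_bcStr, Category.assoc] }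
  refine ⟨Ge b₁, inferInstance, inferInstance, inferInstance, TZ.imgD ι, (geIncl b₁).op ⋙ TS.D, φ,
    TZ.imgCone ι, TS.c.whisker (geIncl b₁).op, TZ.isLimitImgCone ι, isLimitWhiskerGe b₁ TS.c TS.hc,
    Iso.refl _, Iso.refl _, ?_, ?_, ?_⟩
  · intro b b' a
    refine ⟨?_, TS.aff _⟩
    show IsAffineHom (TZ.imgMap ι (leOfHom a.unop))
    have : IsAffineHom (TZ.imgMap ι (leOfHom a.unop) ≫ TZ.imgIncl ι b'.unop) := by
      rw [TZ.imgMap_incl]
      infer_instance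
    exact IsAffineHom.of_comp _ (TZ.imgIncl ι b'.unop)
  · intro b
    refine ⟨?_, TS.ftz b.unop.1⟩
    have := hstr b.unop
    show IsProper (TZ.imgIncl ι b.unop ≫ TS.bcStr b₁ f₁ b.unop)
    infer_instance
  · intro b
    show TZ.imgPr ι b.unop ≫ TZ.imgIncl ι b.unop ≫ TS.bcStr b₁ f₁ b.unop =
      𝟙 X ≫ ι₀ ≫ p ≫ 𝟙 _ ≫ TS.pr b.unop.1
    rw [TZ.imgPr_incl_assoc, TS.bcSys_pr_bcStr, hι, Category.assoc,
      reassoc_of% heZ1, Category.id_comp, Category.id_comp]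

end Groth.Agent.Lib.helper9.AbsApprox
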