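/-
Helper library (helper9): spreading out a rational point of a fibre of a finitely presented
algebra to a section over a finitely presented locally closed subscheme (ring level).
-/
import Mathlib

set_option autoImplicit false

namespace Groth.Agent.Lib.helper9.CDSec

universe u

open MvPolynomial

/-- Let `B` be a finitely presented `A`-algebra and `q` a prime of `B` over `p` such that
`κ(p) → κ(q)` is surjective.  Then there are `s ∉ p` and a finitely generated ideal `I ≤ p` such
that `B` admits an `A`-algebra map to `(A ⧸ I)_s`, and `p` comes from a prime of `(A ⧸ I)_s`. -/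
theorem exists_section_of_residueField_surjective {A B : Type u} [CommRing A] [CommRing B]
    [Algebra A B] [Algebra.FinitePresentation A B]
    (q : Ideal B) [q.IsPrime] (p : Ideal A) [p.IsPrime] (hpq : p = q.comap (algebraMap A B))
    (hsurj : Function.Surjective (Ideal.ResidueField.map p q (algebraMap A B) hpq)) :
    ∃ (s : A) (I : Ideal A), s ∉ p ∧ I ≤ p ∧ I.FG ∧
      (∃ ψ : B →+* Localization.Away (Ideal.Quotient.mk I s),
        ψ.comp (algebraMap A B) =
          (algebraMap (A ⧸ I) (Localization.Away (Ideal.Quotient.mk I s))).comp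
            (Ideal.Quotient.mk I)) ∧
      ∃ P : Ideal (Localization.Away (Ideal.Quotient.mk I s)), P.IsPrime ∧
        P.comap ((algebraMap (A ⧸ I) (Localization.Away (Ideal.Quotient.mk I s))).comp
          (Ideal.Quotient.mk I)) = p := by
  classical
  obtain ⟨n, f, hfsurj, hfker⟩ := Algebra.FinitePresentation.out (R := A) (A := B)
  obtain ⟨ι, hιdef⟩ : ∃ ι : p.ResidueField →+* q.ResidueField,
    ι = Ideal.ResidueField.map p q (algebraMap A B) hpq := ⟨_, rfl⟩
  have hι : ∀ a : A, ι (algebraMap A p.ResidueField a) =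
      algebraMap B q.ResidueField (algebraMap A B a) := by
    intro a; rw [hιdef]; exact Ideal.ResidueField.map_algebraMap p q _ hpq a
  have hsurj' : Function.Surjective ι := hιdef ▸ hsurj
  choose c hc using fun k : Fin n ↦ hsurj' (algebraMap B q.ResidueField (f (X k)))
  -- the evaluation at the rational point
  let E : MvPolynomial (Fin n) A →+* p.ResidueField := eval₂Hom (algebraMap A p.ResidueField) c
  have hE : ι.comp E = (algebraMap B q.ResidueField).comp f.toRingHom := by
    refine MvPolynomial.ringHom_ext (fun a ↦ ?_) (fun k ↦ ?_)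
    · simp only [RingHom.comp_apply, E, eval₂Hom_C, AlgHom.toRingHom_eq_coe, RingHom.coe_coe,
        hι]
      congr 1
      rw [← MvPolynomial.algebraMap_eq, AlgHom.commutes]
    · simp only [RingHom.comp_apply, E, eval₂Hom_X', AlgHom.toRingHom_eq_coe, RingHom.coe_coe, hc]
  have hEker : ∀ g ∈ RingHom.ker f.toRingHom, E g = 0 := by
    intro g hg
    apply ι.injective
    rw [map_zero, ← RingHom.comp_apply, hE, RingHom.comp_apply, (RingHom.mem_ker).mp hg, map_zero]
  -- common denominator
  obtain ⟨b, hb⟩ := IsLocalization.exist_integer_multiples_of_finite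
    (nonZeroDivisors (A ⧸ p)) (fun k ↦ c k)
  obtain ⟨s, hs⟩ := Ideal.Quotient.mk_surjective (b : A ⧸ p)
  have hsp : s ∉ p := by
    intro h
    have : (b : A ⧸ p) = 0 := by rw [← hs]; exact Ideal.Quotient.eq_zero_iff_mem.mpr h
    exact nonZeroDivisors.coe_ne_zero b this
  have hsK : algebraMap A p.ResidueField s ≠ 0 := by
    rw [Ne, Ideal.algebraMap_residueField_eq_zero]; exact hsp
  have ha : ∀ k, ∃ a : A, algebraMap A p.ResidueField s * c k = algebraMap A p.ResidueField a := by
    intro k
    obtain ⟨a', ha'⟩ := hb k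
    obtain ⟨a, rfl⟩ := Ideal.Quotient.mk_surjective a'
    refine ⟨a, ?_⟩
    rw [Algebra.smul_def, ← hs] at ha'
    rw [IsScalarTower.algebraMap_apply A (A ⧸ p) p.ResidueField,
      IsScalarTower.algebraMap_apply A (A ⧸ p) p.ResidueField]
    exact ha'.symm
  choose a ha using ha
  -- the evaluation into `A_s`
  have hsunit : IsUnit (algebraMap A p.ResidueField s) := hsK.isUnit
  let χ : Localization.Away s →+* p.ResidueField :=
    IsLocalization.Away.lift s (g := algebraMap A p.ResidueField) hsunit
  have hχ : ∀ r : A, χ (algebraMap A (Localization.Away s) r) = algebraMap A p.ResidueField r :=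
    fun r ↦ IsLocalization.Away.lift_eq s hsunit r
  let t : Fin n → Localization.Away s := fun k ↦
    IsLocalization.mk' (Localization.Away s) (a k) (⟨s, Submonoid.mem_powers s⟩ : Submonoid.powers s)
  have hχt : ∀ k, χ (t k) = c k := by
    intro k
    have h1 : t k * algebraMap A (Localization.Away s) s = algebraMap A (Localization.Away s) (a k) :=
      IsLocalization.mk'_spec (Localization.Away s) (a k)
        (⟨s, Submonoid.mem_powers s⟩ : Submonoid.powers s)
    have h2 := congrArg χ h1
    rw [map_mul, hχ, hχ, ← ha k] at h2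
    have h3 : χ (t k) * algebraMap A p.ResidueField s = c k * algebraMap A p.ResidueField s := by
      rw [h2, mul_comm]
    exact mul_right_cancel₀ hsK h3
  let E₀ : MvPolynomial (Fin n) A →+* Localization.Away s :=
    eval₂Hom (algebraMap A (Localization.Away s)) t
  have hE₀ : χ.comp E₀ = E := by
    refine MvPolynomial.ringHom_ext (fun r ↦ ?_) (fun k ↦ ?_)
    · simp only [RingHom.comp_apply, E₀, E, eval₂Hom_C, hχ]
    · simp only [RingHom.comp_apply, E₀, E, eval₂Hom_X', hχt]
  -- numerators of the images of the generators of the kernel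
  obtain ⟨G, hG⟩ := hfker
  have hnum : ∀ g : MvPolynomial (Fin n) A, ∃ (N : ℕ) (r : A),
      E₀ g * algebraMap A (Localization.Away s) s ^ N = algebraMap A (Localization.Away s) r := by
    intro g
    obtain ⟨N, r, h⟩ := IsLocalization.Away.surj s (E₀ g)
    exact ⟨N, r, h⟩
  choose N r hr using hnum
  have hrp : ∀ g ∈ G, r g ∈ p := by
    intro g hg
    have hgker : g ∈ RingHom.ker f.toRingHom := hG ▸ Ideal.subset_span hg
    have h1 := congrArg χ (hr g)
    rw [map_mul, map_pow, hχ, hχ, ← RingHom.comp_apply, hE₀, hEker g hgker, zero_mul] at h1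
    exact Ideal.algebraMap_residueField_eq_zero.mp h1.symm
  obtain ⟨I, hIdef⟩ : ∃ I : Ideal A, I = Ideal.span ((fun g ↦ r g) '' (G : Set _)) := ⟨_, rfl⟩
  have hIp : I ≤ p := by
    rw [hIdef, Ideal.span_le]
    rintro _ ⟨g, hg, rfl⟩
    exact hrp g hg
  have hIfg : I.FG := by
    rw [hIdef]
    exact ⟨(G.image fun g ↦ r g), by simp⟩
  -- the target ring
  have hsC : IsUnit ((algebraMap (A ⧸ I) (Localization.Away (Ideal.Quotient.mk I s))).comp
      (Ideal.Quotient.mk I) s) := by
    rw [RingHom.comp_apply]
    exact IsLocalization.Away.algebraMap_isUnit (Ideal.Quotient.mk I s)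
  let θ : Localization.Away s →+* Localization.Away (Ideal.Quotient.mk I s) :=
    IsLocalization.Away.lift s hsC
  have hθ : ∀ r' : A, θ (algebraMap A (Localization.Away s) r') =
      algebraMap (A ⧸ I) (Localization.Away (Ideal.Quotient.mk I s)) (Ideal.Quotient.mk I r') :=
    fun r' ↦ IsLocalization.Away.lift_eq s hsC r'
  have hker : RingHom.ker f.toRingHom ≤ RingHom.ker (θ.comp E₀) := by
    rw [← hG, Ideal.span_le]
    intro g hg
    rw [SetLike.mem_coe, RingHom.mem_ker, RingHom.comp_apply]
    have h1 := congrArg θ (hr g)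
    rw [map_mul, map_pow, hθ, hθ] at h1
    have h2 : Ideal.Quotient.mk I (r g) = 0 :=
      Ideal.Quotient.eq_zero_iff_mem.mpr (hIdef ▸ Ideal.subset_span ⟨g, hg, rfl⟩)
    rw [h2, map_zero] at h1
    have hu : IsUnit (algebraMap (A ⧸ I) (Localization.Away (Ideal.Quotient.mk I s))
        (Ideal.Quotient.mk I s) ^ N g) :=
      (IsLocalization.Away.algebraMap_isUnit (Ideal.Quotient.mk I s)).pow _
    exact hu.mul_left_eq_zero.mp h1
  refine ⟨s, I, hsp, hIp, hIfg, ⟨RingHom.liftOfSurjective f.toRingHom hfsurj ⟨θ.comp E₀, hker⟩, ?_⟩,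
    ?_⟩
  · ext r'
    have h1 : algebraMap A B r' = f.toRingHom (C r') := by
      rw [AlgHom.toRingHom_eq_coe, RingHom.coe_coe, ← MvPolynomial.algebraMap_eq, AlgHom.commutes]
    rw [RingHom.comp_apply, h1, RingHom.liftOfRightInverse_comp_apply]
    simp only [RingHom.comp_apply, E₀, eval₂Hom_C, hθ]
  · -- the prime over `p`
    have hIK : ∀ r' ∈ I, algebraMap A p.ResidueField r' = 0 := fun r' hr' ↦
      Ideal.algebraMap_residueField_eq_zero.mpr (hIp hr')
    let χ₁ : A ⧸ I →+* p.ResidueField := Ideal.Quotient.lift I (algebraMap A p.ResidueField) hIK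
    have hχ₁ : ∀ r', χ₁ (Ideal.Quotient.mk I r') = algebraMap A p.ResidueField r' :=
      fun r' ↦ Ideal.Quotient.lift_mk I _ hIK
    have hsunit₁ : IsUnit (χ₁ (Ideal.Quotient.mk I s)) := by rw [hχ₁]; exact hsunit
    let χ₂ : Localization.Away (Ideal.Quotient.mk I s) →+* p.ResidueField :=
      IsLocalization.Away.lift (Ideal.Quotient.mk I s) hsunit₁
    have hχ₂ : ∀ r', χ₂ (algebraMap (A ⧸ I) _ r') = χ₁ r' :=
      fun r' ↦ IsLocalization.Away.lift_eq (Ideal.Quotient.mk I s) hsunit₁ r'
    refine ⟨RingHom.ker χ₂, RingHom.ker_isPrime χ₂, ?_⟩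
    ext r'
    rw [Ideal.mem_comap, RingHom.mem_ker, RingHom.comp_apply, hχ₂, hχ₁,
      Ideal.algebraMap_residueField_eq_zero]

end Groth.Agent.Lib.helper9.CDSec
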