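/-
Helper library (helper9): spreading out a rational point of a fibre of a morphism locally of
finite presentation to a section over a finitely presented locally closed subscheme
(scheme level).
-/
import Mathlib
import Groth.Agent.Lib.Helper9.CDSec1
import Groth.Agent.Lib.Helper13.EL1

set_option autoImplicit false
set_option linter.style.haveILetI false
set_option backward.isDefEq.respectTransparency false

namespace Groth.Agent.Lib.helper9.CDSec

universe u

open AlgebraicGeometry CategoryTheory Limits

lemma surjective_residueFieldMap_congr {X Y : Scheme.{u}} {f g : X ⟶ Y} (e : f = g) (x : X)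
    (h : Function.Surjective (f.residueFieldMap x).hom) :
    Function.Surjective (g.residueFieldMap x).hom := by
  subst e; exact h

lemma surjective_residueFieldMap_congr' {X Y : Scheme.{u}} (f : X ⟶ Y) {x x' : X} (e : x = x')
    (h : Function.Surjective (f.residueFieldMap x).hom) :
    Function.Surjective (f.residueFieldMap x').hom := by
  subst e; exact h

/-- If `i ≫ f = g ≫ j` with `i`, `j` open immersions, then surjectivity of the residue field map
of `f` at `i a` implies surjectivity of the residue field map of `g` at `a`. -/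
lemma surjective_residueFieldMap_of_comm {V X U Y : Scheme.{u}} (i : V ⟶ X) (f : X ⟶ Y)
    (g : V ⟶ U) (j : U ⟶ Y) [IsOpenImmersion i] [IsOpenImmersion j] (comm : i ≫ f = g ≫ j)
    (a : V) (h : Function.Surjective (f.residueFieldMap (i a)).hom) :
    Function.Surjective (g.residueFieldMap a).hom := by
  have h1 : Function.Surjective ((i ≫ f).residueFieldMap a).hom := by
    rw [Scheme.residueFieldMap_comp]
    rw [CommRingCat.hom_comp, RingHom.coe_comp]
    exact (ConcreteCategory.bijective_of_isIso (i.residueFieldMap a)).surjective.comp h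
  have h2 := surjective_residueFieldMap_congr comm a h1
  rw [Scheme.residueFieldMap_comp, CommRingCat.hom_comp, RingHom.coe_comp] at h2
  have h3 : Function.Bijective (j.residueFieldMap (g a)).hom :=
    ConcreteCategory.bijective_of_isIso (j.residueFieldMap (g a))
  intro c
  obtain ⟨b, hb⟩ := h2 c
  exact ⟨_, hb⟩

/-- Surjectivity of the residue field map of `Spec.map φ` in ring-theoretic terms. -/
lemma surjective_residueField_map_of_Spec {A B : CommRingCat.{u}} (φ : A ⟶ B) (y : Spec B)
    (h : Function.Surjective ((Spec.map φ).residueFieldMap y).hom) :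
    Function.Surjective
      (Ideal.ResidueField.map (Spec.map φ y).asIdeal y.asIdeal φ.hom rfl) := by
  rw [Groth.Agent.Lib.helper13.EL.Spec_residueFieldMap_eq] at h
  rw [CommRingCat.hom_comp, CommRingCat.hom_comp, RingHom.coe_comp, RingHom.coe_comp] at h
  have h1 : Function.Bijective (Scheme.Spec.residueFieldIso A (Spec.map φ y)).hom.hom :=
    ConcreteCategory.bijective_of_isIso (Scheme.Spec.residueFieldIso A (Spec.map φ y)).hom
  have h2 : Function.Bijective (Scheme.Spec.residueFieldIso B y).inv.hom :=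
    ConcreteCategory.bijective_of_isIso (Scheme.Spec.residueFieldIso B y).inv
  intro c
  obtain ⟨b, hb⟩ := h ((Scheme.Spec.residueFieldIso B y).inv.hom c)
  refine ⟨(Scheme.Spec.residueFieldIso A (Spec.map φ y)).hom.hom b, ?_⟩
  exact h2.injective hb

/-- **Spreading out a rational point to a section.**  Let `f : X ⟶ Y` be locally of finite
presentation and `x : X` a point at which the residue field extension is trivial.  Then there is
an affine scheme `Z` with a finitely presented immersion `z : Z ⟶ Y` whose image contains `f x`,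
and a lift `σ : Z ⟶ X` of `z` through `f`. -/
theorem exists_immersion_section {X Y : Scheme.{u}} (f : X ⟶ Y) [LocallyOfFinitePresentation f]
    (x : X) (hx : Function.Surjective (f.residueFieldMap x).hom) :
    ∃ (Z : Scheme.{u}) (z : Z ⟶ Y) (σ : Z ⟶ X), IsAffine Z ∧ IsImmersion z ∧
      LocallyOfFinitePresentation z ∧ σ ≫ f = z ∧ f x ∈ Set.range z := by
  obtain ⟨_, ⟨U, hU, rfl⟩, hxU, -⟩ := Y.isBasis_affineOpens.exists_subset_of_mem_open
    (Set.mem_univ (f x)) isOpen_univ
  obtain ⟨_, ⟨V, hV, rfl⟩, hxV, hUV : V ≤ f ⁻¹ᵁ U⟩ :=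
    X.isBasis_affineOpens.exists_subset_of_mem_open hxU (f ⁻¹ᵁ U).2
  have hfp : (f.appLE U V hUV).hom.FinitePresentation := f.finitePresentation_appLE hU hV hUV
  obtain ⟨φ, hφ⟩ : ∃ φ : Γ(Y, U) ⟶ Γ(X, V), φ = f.appLE U V hUV := ⟨_, rfl⟩
  have hcomm : hV.fromSpec ≫ f = Spec.map φ ≫ hU.fromSpec := by
    rw [hφ]; exact (IsAffineOpen.SpecMap_appLE_fromSpec f hU hV hUV).symm
  obtain ⟨q', hq'⟩ : ∃ q' : Spec Γ(X, V), q' = hV.primeIdealOf ⟨x, hxV⟩ := ⟨_, rfl⟩
  have hq'x : hV.fromSpec q' = x := by rw [hq']; exact hV.fromSpec_primeIdealOf ⟨x, hxV⟩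
  have hs1 : Function.Surjective ((Spec.map φ).residueFieldMap q').hom :=
    surjective_residueFieldMap_of_comm hV.fromSpec f (Spec.map φ) hU.fromSpec hcomm q'
      (surjective_residueFieldMap_congr' f hq'x.symm hx)
  have hs2 := surjective_residueField_map_of_Spec φ q' hs1
  rw [hφ] at hs2
  algebraize [(f.appLE U V hUV).hom]
  obtain ⟨s, I, hsp, hIp, hIfg, ⟨ψ, hψ⟩, P, hPprime, hP⟩ :=
    exists_section_of_residueField_surjective (A := Γ(Y, U)) (B := Γ(X, V)) q'.asIdeal
      (q'.asIdeal.comap (algebraMap Γ(Y, U) Γ(X, V))) rfl hs2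
  -- the ring maps
  let C : CommRingCat.{u} := .of (Localization.Away (Ideal.Quotient.mk I s))
  let π : Γ(Y, U) ⟶ .of (Γ(Y, U) ⧸ I) := CommRingCat.ofHom (Ideal.Quotient.mk I)
  let l : CommRingCat.of (Γ(Y, U) ⧸ I) ⟶ C :=
    CommRingCat.ofHom (algebraMap (Γ(Y, U) ⧸ I) (Localization.Away (Ideal.Quotient.mk I s)))
  let ψ' : Γ(X, V) ⟶ C := CommRingCat.ofHom ψ
  have hψ' : φ ≫ ψ' = π ≫ l := by
    rw [hφ]
    ext a
    exact congr($hψ a)
  have h1 : IsClosedImmersion (Spec.map π) :=
    IsClosedImmersion.spec_of_surjective π Ideal.Quotient.mk_surjective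
  have h2 : IsOpenImmersion (Spec.map l) :=
    IsOpenImmersion.of_isLocalization (Ideal.Quotient.mk I s)
  have h3 : LocallyOfFinitePresentation (Spec.map π) := by
    rw [HasRingHomProperty.Spec_iff (P := @LocallyOfFinitePresentation)]
    refine RingHom.FinitePresentation.of_surjective _ Ideal.Quotient.mk_surjective ?_
    simpa [π, Ideal.mk_ker] using hIfg
  refine ⟨Spec C, Spec.map l ≫ Spec.map π ≫ hU.fromSpec, Spec.map ψ' ≫ hV.fromSpec,
    inferInstance, inferInstance, inferInstance, ?_, ?_⟩
  · rw [Category.assoc, hcomm, ← Category.assoc, ← Spec.map_comp, hψ', Spec.map_comp,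
      Category.assoc]
  · refine ⟨⟨P, hPprime⟩, ?_⟩
    have h4 : (Spec.map l ≫ Spec.map π) ⟨P, hPprime⟩ = Spec.map φ q' := by
      rw [← Spec.map_comp]
      apply PrimeSpectrum.ext
      rw [hφ]
      exact hP
    rw [← Category.assoc, Scheme.Hom.comp_apply, h4, ← Scheme.Hom.comp_apply, ← hcomm,
      Scheme.Hom.comp_apply, hq'x]

end Groth.Agent.Lib.helper9.CDSec
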