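/-
Helper library (helper9): an immersion of finite presentation into a cofiltered limit (affine
transition maps, one qcqs stage) is the base change of an immersion of finite presentation into
some stage.
-/
import Groth.Agent.Lib.Helper9.FPDescend2
import Groth.Agent.Lib.Helper9.ImmDescend

set_option autoImplicit false
set_option linter.style.haveILetI false
set_option backward.isDefEq.respectTransparency false

namespace Groth.Agent.Lib.helper9

open AlgebraicGeometry CategoryTheory Limits

universe u

theorem exists_immersion_model {I : Type u} [SmallCategory I] [IsCofiltered I]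
    (D : I ⥤ Scheme.{u}) (c : Limits.Cone D) (hc : Limits.IsLimit c)
    [hD : ∀ (i j : I) (f : i ⟶ j), IsAffineHom (D.map f)] (i₀ : I)
    [CompactSpace (D.obj i₀)] [QuasiSeparatedSpace (D.obj i₀)]
    {Z : Scheme.{u}} (ι : Z ⟶ c.pt) [IsImmersion ι] [LocallyOfFinitePresentation ι]
    [QuasiCompact ι] :
    ∃ (j : I) (_ : j ⟶ i₀) (Zj : Scheme.{u}) (ιj : Zj ⟶ D.obj j) (q : Z ⟶ Zj),
      IsImmersion ιj ∧ LocallyOfFinitePresentation ιj ∧ QuasiCompact ιj ∧
        IsPullback q ι ιj (c.π.app j) := by
  obtain ⟨j, ⟨M⟩⟩ := FPModel.exists_model_over hc i₀ ι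
  have : IsAffineHom (D.map j.hom) := hD _ _ j.hom
  have : CompactSpace ↥(D.obj j.left) := QuasiCompact.compactSpace_of_compactSpace (D.map j.hom)
  have : QuasiSeparatedSpace ↥(D.obj j.left) :=
    quasiSeparatedSpace_of_quasiSeparated (D.map j.hom)
  have : CompactSpace M.X₀ := M.compactSpace_X₀
  have : QuasiSeparatedSpace M.X₀ := M.quasiSeparatedSpace_X₀
  obtain ⟨k, a, hk⟩ := M.exists_rebase_of_descent @IsImmersion
    (fun _ => exists_isImmersion_stageMap_of_isPullback D c hc j.left M.f₀ (𝟙 _) ι (𝟙 _)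
      (c.π.app j.left) M.g (FPModel.isPullback_id_π j.left) M.pb) inferInstance
  exact ⟨k, a ≫ j.hom, (M.rebase a).X₀, (M.rebase a).f₀, (M.rebase a).g, hk, (M.rebase a).lfp,
    (M.rebase a).qc, (M.rebase a).pb⟩

end Groth.Agent.Lib.helper9
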