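/-
Helper library (helper9): complete decomposedness descends along a tower of base changes
(abstract form).
-/
import Groth.Agent.Lib.Helper9.CDLim1
import Groth.Agent.Lib.Helper9.CDSec2
import Groth.Agent.Lib.Helper9.FPModelImm
import Groth.Agent.Lib.Helper9.LimBaseChange
import Groth.Agent.Lib.Helper13.PC5
import Groth.Agent.S4761

set_option autoImplicit false
set_option linter.style.haveILetI false
set_option backward.isDefEq.respectTransparency false

namespace Groth.Agent.Lib.helper9.CDLim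

open AlgebraicGeometry CategoryTheory Limits Topology Groth.Agent.Lib.helper13
open Groth.Agent.Lib.helper9

universe u

lemma apply_eq_of_comp_eq {A B C : Scheme.{u}} {a : A ⟶ B} {b : B ⟶ C} {c : A ⟶ C}
    (h : a ≫ b = c) (x : A) : b (a x) = c x := by
  rw [← h, Scheme.Hom.comp_apply]

section Tower

variable {I : Type u} [SmallCategory I] [IsCofiltered I]
  (DX DY : I ⥤ Scheme.{u}) (φ : DX ⟶ DY)
  (hφ : ∀ {i j : I} (a : i ⟶ j), IsPullback (DX.map a) (φ.app i) (φ.app j) (DY.map a))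
  (cX : Cone DX) (cY : Cone DY) (hcY : IsLimit cY)
  (f : cX.pt ⟶ cY.pt) (hf : ∀ i, IsPullback (cX.π.app i) f (φ.app i) (cY.π.app i))
  [hDY : ∀ (i j : I) (a : i ⟶ j), IsAffineHom (DY.map a)]
  [∀ i, CompactSpace (DY.obj i)] [∀ i, QuasiSeparatedSpace (DY.obj i)]
  [∀ i, LocallyOfFinitePresentation (φ.app i)]

include hφ hcY hf in
theorem exists_constructible_cdAt (y : cY.pt) (hy : CDAt f y) :
    ∃ (j : I) (T : Set (DY.obj j)), IsConstructible T ∧ cY.π.app j y ∈ T ∧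
      ∀ y' ∈ T, CDAt (φ.app j) y' := by
  classical
  obtain ⟨i₀⟩ := IsCofiltered.nonempty (C := I)
  haveI : LocallyOfFinitePresentation f := MorphismProperty.of_isPullback (hf i₀) inferInstance
  haveI hDY' : ∀ {i j : I} (a : i ⟶ j), IsAffineHom (DY.map a) := fun a ↦ hDY _ _ a
  haveI hπaff : ∀ i, IsAffineHom (cY.π.app i) := fun i ↦ isAffineHom_π_app DY cY hcY i
  haveI : CompactSpace cY.pt := QuasiCompact.compactSpace_of_compactSpace (cY.π.app i₀)
  haveI : QuasiSeparatedSpace cY.pt := quasiSeparatedSpace_of_quasiSeparated (cY.π.app i₀)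
  obtain ⟨x, rfl, hx⟩ := hy
  obtain ⟨Z, z, σ, hZ, himm, hlfp, hσ, t, ht⟩ := CDSec.exists_immersion_section f x hx.surjective
  haveI : QuasiCompact z := inferInstance
  obtain ⟨j, -, Zj, zj, q, hzjimm, hzjlfp, hzjqc, hpb⟩ := exists_immersion_model DY cY hcY i₀ z
  -- the tower over `j`
  have hcZ : IsLimit (bcCone DY cY j zj) := isLimitBcCone DY cY j zj hcY
  obtain ⟨e, he1, he2⟩ : ∃ e : Z ≅ pullback (cY.π.app j) zj,
      e.hom ≫ pullback.fst (cY.π.app j) zj = z ∧ e.hom ≫ pullback.snd (cY.π.app j) zj = q :=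
    ⟨hpb.flip.isoPullback, hpb.flip.isoPullback_hom_fst, hpb.flip.isoPullback_hom_snd⟩
  let tN : bcDiagram DY j zj ⟶ (Functor.const (Over j)).obj (DY.obj j) :=
    { app := fun k ↦ pullback.snd (DY.map k.hom) zj ≫ zj
      naturality := fun k k' m ↦ by simp [pullback.map] }
  obtain ⟨a, hadef⟩ : ∃ a : pullback (cY.π.app j) zj ⟶ DX.obj j, a = e.inv ≫ σ ≫ cX.π.app j :=
    ⟨_, rfl⟩
  have haφ : a ≫ φ.app j = pullback.snd (cY.π.app j) zj ≫ zj := by
    rw [hadef, Category.assoc, Category.assoc, (hf j).w, reassoc_of% hσ, ← he1, Category.assoc,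
      Iso.inv_hom_id_assoc, pullback.condition]
  have ha : (bcCone DY cY j zj).π ≫ tN = (Functor.const (Over j)).map (a ≫ φ.app j) := by
    ext k
    simp only [NatTrans.comp_app, Functor.const_map_app, tN, haφ]
    simp [pullback.map]
  haveI : ∀ k : Over j, CompactSpace ↥((bcDiagram DY j zj).obj k) := fun k ↦ by
    show CompactSpace ↥(pullback (DY.map k.hom) zj)
    exact QuasiCompact.compactSpace_of_compactSpace (pullback.fst (DY.map k.hom) zj)
  haveI : ∀ k : Over j, QuasiSeparatedSpace ↥((bcDiagram DY j zj).obj k) := fun k ↦ by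
    show QuasiSeparatedSpace ↥(pullback (DY.map k.hom) zj)
    exact quasiSeparatedSpace_of_quasiSeparated (pullback.fst (DY.map k.hom) zj)
  obtain ⟨k, g, hg1, hg2⟩ := Scheme.exists_π_app_comp_eq_of_locallyOfFinitePresentation
    (bcDiagram DY j zj) tN (φ.app j) (bcCone DY cY j zj) hcZ a ha
  -- the stage `k`
  obtain ⟨zk, hzk⟩ : ∃ zk : pullback (DY.map k.hom) zj ⟶ DY.obj k.left,
    zk = pullback.fst (DY.map k.hom) zj := ⟨_, rfl⟩
  haveI : IsImmersion zk := hzk ▸ inferInstance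
  haveI : LocallyOfFinitePresentation zk := hzk ▸ inferInstance
  haveI : QuasiCompact zk := hzk ▸ inferInstance
  have hgk : g ≫ φ.app j = zk ≫ DY.map k.hom := by
    rw [hg2, hzk]; exact pullback.condition.symm
  obtain ⟨σk, -, hσk⟩ : ∃ σk : pullback (DY.map k.hom) zj ⟶ DX.obj k.left,
      σk ≫ DX.map k.hom = g ∧ σk ≫ φ.app k.left = zk :=
    ⟨(hφ k.hom).lift g zk hgk, (hφ k.hom).lift_fst _ _ _, (hφ k.hom).lift_snd _ _ _⟩
  refine ⟨k.left, Set.range zk, ?_, ?_, ?_⟩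
  · rw [← Set.image_univ]
    exact zk.isConstructible_image .univ
  · refine ⟨(bcCone DY cY j zj).π.app k (e.hom t), ?_⟩
    have e1 : (bcCone DY cY j zj).π.app k ≫ zk =
        pullback.fst (cY.π.app j) zj ≫ cY.π.app k.left := by
      rw [hzk]; simp [pullback.map]
    have h1 := apply_eq_of_comp_eq e1 (e.hom t)
    have h2 : pullback.fst (cY.π.app j) zj (e.hom t) = z t := apply_eq_of_comp_eq he1 t
    exact h1.trans ((Scheme.Hom.comp_apply _ _ _).trans
      ((congrArg (cY.π.app k.left) h2).trans (congrArg (cY.π.app k.left) ht)))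
  · rintro _ ⟨t', rfl⟩
    exact CDAt.of_section (φ.app k.left) zk σk hσk t'

include hφ hcY hf in
/-- Complete decomposedness descends to a finite stage of a tower of base changes. -/
theorem exists_cd_stage (hcd : ∀ y : cY.pt, CDAt f y) :
    ∃ j : I, ∀ y : DY.obj j, CDAt (φ.app j) y := by
  classical
  obtain ⟨i₀⟩ := IsCofiltered.nonempty (C := I)
  haveI hDY' : ∀ {i j : I} (a : i ⟶ j), IsAffineHom (DY.map a) := fun a ↦ hDY _ _ a
  haveI hπaff : ∀ i, IsAffineHom (cY.π.app i) := fun i ↦ isAffineHom_π_app DY cY hcY i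
  haveI : CompactSpace cY.pt := QuasiCompact.compactSpace_of_compactSpace (cY.π.app i₀)
  haveI : QuasiSeparatedSpace cY.pt := quasiSeparatedSpace_of_quasiSeparated (cY.π.app i₀)
  choose j T hT hmem hCD using fun y ↦
    exists_constructible_cdAt DX DY φ hφ cX cY hcY f hf y (hcd y)
  obtain ⟨S, hS⟩ := PC.exists_finset_cover_of_isConstructible
    (fun y : cY.pt ↦ (cY.π.app (j y)) ⁻¹' (T y))
    (fun y ↦ (cY.π.app (j y)).isConstructible_preimage (hT y))
    (fun y ↦ ⟨y, Set.mem_preimage.mpr (hmem y)⟩)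
  obtain ⟨k, hk⟩ := IsCofiltered.inf_objs_exists (S.image j)
  have b : ∀ y : {y // y ∈ S}, k ⟶ j y.1 := fun y ↦
    (hk (Finset.mem_image_of_mem j y.2)).some
  obtain ⟨Tk, hTkdef⟩ : ∃ Tk : Set (DY.obj k),
      Tk = ⋃ y : {y // y ∈ S}, (DY.map (b y)) ⁻¹' (T y.1) := ⟨_, rfl⟩
  have hTkc : IsConstructible Tk := by
    rw [hTkdef]
    exact IsConstructible.iUnion fun y ↦ (DY.map (b y)).isConstructible_preimage (hT y.1)
  have hTkCD : ∀ y'' ∈ Tk, CDAt (φ.app k) y'' := by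
    intro y'' hy''
    rw [hTkdef] at hy''
    obtain ⟨y, hy⟩ := Set.mem_iUnion.mp hy''
    exact CDAt.baseChange (hφ (b y)) y'' (hCD y.1 _ hy)
  have hWmem : ∀ z : DY.obj k, z ∈ ((((⊤ : (DY.obj k).Opens) : Set (DY.obj k)) ∩
      Tkᶜ) \ ((⊥ : (DY.obj k).Opens) : Set (DY.obj k))) ↔ z ∉ Tk := by
    intro z
    constructor
    · rintro ⟨⟨-, hz⟩, -⟩
      exact hz
    · intro hz
      exact ⟨⟨trivial, hz⟩, fun h ↦ h⟩
  have hpre : (⇑(cY.π.app k) ⁻¹' ((((⊤ : (DY.obj k).Opens) : Set (DY.obj k)) ∩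
      Tkᶜ) \ ((⊥ : (DY.obj k).Opens) : Set (DY.obj k))) : Set cY.pt) = ∅ := by
    rw [Set.eq_empty_iff_forall_notMem]
    intro y₀ hy₀
    have hy₀' : cY.π.app k y₀ ∉ Tk := (hWmem _).mp hy₀
    apply hy₀'
    obtain ⟨y, hyS, hy⟩ := hS y₀
    rw [hTkdef]
    refine Set.mem_iUnion.mpr ⟨⟨y, hyS⟩, ?_⟩
    have e := apply_eq_of_comp_eq (cY.w (b ⟨y, hyS⟩)) y₀
    show DY.map (b ⟨y, hyS⟩) (cY.π.app k y₀) ∈ T y
    exact e ▸ hy
  obtain ⟨k', ψ, hk'⟩ := Groth.Agent.S4761.lemE DY cY hcY k ⊤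
    (by simpa using isCompact_univ) ⊥ Tkᶜ hTkc.compl hpre
  refine ⟨k', fun y' ↦ ?_⟩
  have hy' : DY.map ψ y' ∈ Tk := by
    by_contra hno
    have : y' ∈ (⇑(DY.map ψ) ⁻¹' ((((⊤ : (DY.obj k).Opens) : Set (DY.obj k)) ∩
        Tkᶜ) \ ((⊥ : (DY.obj k).Opens) : Set (DY.obj k))) : Set (DY.obj k')) :=
      (hWmem _).mpr hno
    rw [hk'] at this
    exact this
  exact CDAt.baseChange (hφ ψ) y' (hTkCD _ hy')

end Tower

end Groth.Agent.Lib.helper9.CDLim
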