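/-
Helper library (helper9): Chevalley-type affineness without Noetherian hypotheses, part 1.
A finite surjective morphism of finite presentation from an affine scheme to a quasi-compact
quasi-separated scheme forces the target to be affine (via absolute Noetherian approximation
and the Noetherian Chevalley theorem `S0021`).
-/
import Groth.Agent.S0021
import Groth.Agent.Lib.Helper9.AbsApprox19
import Groth.Agent.Lib.Helper9.LimDescMore
import Groth.Agent.Lib.Helper9.FiniteDescend
import Groth.Agent.Lib.Helper9.LimBaseChange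
import Groth.Agent.Lib.Helper9.FPDescend
import Groth.Agent.Lib.Helper9.ModelDescend

set_option autoImplicit false
set_option linter.style.haveILetI false
set_option backward.isDefEq.respectTransparency false

namespace Groth.Agent.Lib.helper9.ChevAff

open AlgebraicGeometry CategoryTheory Limits Opposite Groth.Agent.Lib.helper9
  Groth.Agent.Lib.helper9.AbsApprox

universe u

/-- A finite surjective morphism of finite presentation from an affine scheme to a qcqs scheme
forces the target to be affine. -/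
theorem isAffine_of_finite_fp_surjective {Z S : Scheme.{u}} (g : Z ⟶ S) [IsFinite g]
    [LocallyOfFinitePresentation g] [Surjective g] [IsAffine Z] [CompactSpace S]
    [QuasiSeparatedSpace S] : IsAffine S := by
  obtain ⟨T, ⟨eS⟩⟩ := hasApprox_of_qcqs S
  let g' : Z ⟶ T.c.pt := g ≫ eS.inv
  haveI : IsFinite g' := inferInstance
  haveI : LocallyOfFinitePresentation g' := inferInstance
  haveI : Surjective g' := inferInstance
  haveI hD : ∀ (i j : T.Iᵒᵖ) (f : i ⟶ j), IsAffineHom (T.D.map f) := fun _ _ f => T.aff f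
  obtain ⟨i₀, ⟨M⟩⟩ := FPModel.exists_model T.hc g'
  let f₀ := M.f₀
  haveI : CompactSpace M.X₀ := M.compactSpace_X₀
  haveI : QuasiSeparatedSpace M.X₀ := M.quasiSeparatedSpace_X₀
  have hY : IsPullback (T.c.π.app i₀) (𝟙 T.c.pt) (𝟙 (T.D.obj i₀)) (T.c.π.app i₀) :=
    IsPullback.of_id_snd
  have hX : IsPullback M.g g' f₀ (T.c.π.app i₀) := M.pb
  haveI hfin : IsFinite (stageMap (T.c.π.app i₀) f₀ (𝟙 (T.D.obj i₀))) :=
    (stageMap_iff_of_isPullback @IsFinite hY hX).mpr inferInstance
  have hsurj : Surjective (stageMap (T.c.π.app i₀) f₀ (𝟙 (T.D.obj i₀))) :=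
    (stageMap_iff_of_isPullback @Surjective hY hX).mpr inferInstance
  obtain ⟨l₁, hl₁⟩ := exists_isFinite_stageMap T.D T.c T.hc i₀ f₀ (𝟙 (T.D.obj i₀))
  obtain ⟨l₂, hl₂⟩ := exists_surjective_stageMap T.D T.c T.hc i₀ f₀ (𝟙 (T.D.obj i₀)) hsurj
  -- affineness of a stage
  haveI : IsAffine (bcCone T.D T.c i₀ f₀).pt :=
    IsAffine.of_isIso (Y := Z) M.pb.flip.isoPullback.inv
  haveI : ∀ j : Over i₀, CompactSpace ((bcDiagram T.D i₀ f₀).obj j) := fun j =>
    QuasiCompact.compactSpace_of_compactSpace (pullback.fst (T.D.map j.hom) f₀)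
  haveI : ∀ j : Over i₀, QuasiSeparatedSpace ((bcDiagram T.D i₀ f₀).obj j) := fun j =>
    quasiSeparatedSpace_of_quasiSeparated (pullback.fst (T.D.map j.hom) f₀)
  obtain ⟨l₃, hl₃⟩ := Scheme.exists_isAffine_of_isLimit (bcDiagram T.D i₀ f₀)
    (bcCone T.D T.c i₀ f₀) (isLimitBcCone T.D T.c i₀ f₀ T.hc)
  -- a common stage
  obtain ⟨l₁₂, a₁, a₂, -⟩ := IsCofilteredOrEmpty.cone_objs l₁ l₂
  obtain ⟨l, b₁, b₂, -⟩ := IsCofilteredOrEmpty.cone_objs l₁₂ l₃
  have h1 : IsFinite (stageMap (T.D.map l.hom) f₀ (𝟙 (T.D.obj i₀))) :=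
    stageMap_of_hom T.D i₀ f₀ (𝟙 _) @IsFinite (b₁ ≫ a₁) hl₁
  have h2 : Surjective (stageMap (T.D.map l.hom) f₀ (𝟙 (T.D.obj i₀))) :=
    stageMap_of_hom T.D i₀ f₀ (𝟙 _) @Surjective (b₁ ≫ a₂) hl₂
  haveI h1' : IsFinite (pullback.fst (T.D.map l.hom) f₀) :=
    (stageMap_id_iff @IsFinite _ _).mp h1
  haveI h2' : Surjective (pullback.fst (T.D.map l.hom) f₀) :=
    (stageMap_id_iff @Surjective _ _).mp h2
  haveI h3 : IsAffine (pullback (T.D.map l.hom) f₀) :=
    isAffine_of_isAffineHom (Y := (bcDiagram T.D i₀ f₀).obj l₃) ((bcDiagram T.D i₀ f₀).map b₂)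
  haveI : IsNoetherian (T.D.obj l.left) := inferInstanceAs (IsNoetherian (T.X l.left.unop))
  haveI : IsAffine (T.D.obj l.left) :=
    Groth.Agent.S0021.result (pullback.fst (T.D.map l.hom) f₀)
  haveI : IsAffineHom (T.c.π.app l.left) := isAffineHom_π_app T.D T.c T.hc l.left
  haveI : IsAffine T.c.pt := isAffine_of_isAffineHom (T.c.π.app l.left)
  exact IsAffine.of_isIso eS.inv

end Groth.Agent.Lib.helper9.ChevAff
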