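/-
Helper library (helper9): Chevalley-type affineness without Noetherian hypotheses, part 2.
If `f : X ⟶ S` is surjective and universally closed with `X` affine, then `S` is affine
(Stacks 05YU).
-/
import Groth.Agent.Lib.Helper9.ChevAff1
import Groth.Agent.Lib.Helper9.AbsApprox29
import Groth.Agent.Lib.Helper1.FinAff

set_option autoImplicit false
set_option linter.style.haveILetI false
set_option backward.isDefEq.respectTransparency false

namespace Groth.Agent.Lib.helper9.ChevAff

open AlgebraicGeometry CategoryTheory Limits Opposite Groth.Agent.Lib.helper9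
  Groth.Agent.Lib.helper9.AbsApprox

universe u

/-- A finite surjective morphism from an affine scheme to a qcqs scheme forces the target to be
affine. -/
theorem isAffine_of_finite_surjective {Z S : Scheme.{u}} (g : Z ⟶ S) [IsFinite g]
    [Surjective g] [IsAffine Z] [CompactSpace S] [QuasiSeparatedSpace S] : IsAffine S := by
  obtain ⟨I, hI1, hI2, hI3, D, t, c, hc, e, h1, h2, h3, h4⟩ := exists_finite_approx g
  haveI : ∀ {i j : Iᵒᵖ} (a : i ⟶ j), IsAffineHom (D.map a) := fun a => by
    have := h3 _ _ a
    infer_instance
  haveI : ∀ i, CompactSpace (D.obj i) := fun i => by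
    have := (h2 i).1
    exact QuasiCompact.compactSpace_of_compactSpace (Y := S) (t.app i)
  haveI : ∀ i, QuasiSeparatedSpace (D.obj i) := fun i => by
    have := (h2 i).1
    exact quasiSeparatedSpace_of_quasiSeparated (Y := S) (t.app i)
  haveI : IsAffine c.pt := IsAffine.of_isIso e.hom
  obtain ⟨i, hi⟩ := Scheme.exists_isAffine_of_isLimit D c hc
  haveI := (h2 i).1
  haveI := (h2 i).2
  haveI : Surjective (c.π.app i ≫ t.app i) := by
    rw [h1 i]
    infer_instance
  haveI : Surjective (t.app i) := Surjective.of_comp (c.π.app i) (t.app i)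
  exact isAffine_of_finite_fp_surjective (t.app i)

/-- An integral surjective morphism from an affine scheme to a quasi-compact separated scheme is
dominated by a finite surjective morphism from an affine scheme. -/
theorem exists_finite_surjective {X S : Scheme.{u}} (f : X ⟶ S) [IsAffine X] [Surjective f]
    [UniversallyClosed f] [S.IsSeparated] :
    ∃ (Z : Scheme.{u}) (g : Z ⟶ S), IsAffine Z ∧ IsFinite g ∧ Surjective g := by
  obtain ⟨I, hI1, hI2, hI3, D, t, c, hc, e, h1, h2, h3, h4⟩ := exists_relative_approx' f
  haveI : ∀ {i j : Iᵒᵖ} (a : i ⟶ j), IsAffineHom (D.map a) := fun a => h3 _ _ a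
  haveI : ∀ i, CompactSpace (D.obj i) := fun i => (h4 i).1
  haveI : ∀ i, QuasiSeparatedSpace (D.obj i) := fun i => (h4 i).2
  haveI : IsAffine c.pt := IsAffine.of_isIso e.hom
  obtain ⟨i, hi⟩ := Scheme.exists_isAffine_of_isLimit D c hc
  let π : X ⟶ D.obj i := e.inv ≫ c.π.app i
  have hπ : π ≫ t.app i = f := by
    rw [Category.assoc, h1, Iso.inv_hom_id_assoc]
  haveI := (h2 i).1
  haveI : UniversallyClosed (π ≫ t.app i) := by
    rw [hπ]
    infer_instance
  haveI : UniversallyClosed π := UniversallyClosed.of_comp_of_isSeparated π (t.app i)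
  let g : π.image ⟶ S := π.imageι ≫ t.app i
  have hg : π.toImage ≫ g = f := by
    rw [Scheme.Hom.toImage_imageι_assoc, hπ]
  haveI : IsAffine π.image := isAffine_of_isAffineHom π.imageι
  haveI : UniversallyClosed (π.toImage ≫ g) := by
    rw [hg]
    infer_instance
  haveI : Surjective (π.toImage ≫ g) := by
    rw [hg]
    infer_instance
  haveI : UniversallyClosed g := UniversallyClosed.of_comp_surjective π.toImage g
  haveI : Surjective g := Surjective.of_comp π.toImage g
  haveI : IsAffineHom g := by
    haveI : IsAffineHom (g ≫ terminal.from S) := isAffineHom_of_isAffine _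
    exact IsAffineHom.of_comp g (terminal.from S)
  haveI : IsIntegralHom g := by
    rw [IsIntegralHom.iff_universallyClosed_and_isAffineHom]
    exact ⟨inferInstance, inferInstance⟩
  haveI : LocallyOfFiniteType g := inferInstance
  refine ⟨π.image, g, inferInstance, ?_, inferInstance⟩
  rw [IsFinite.iff_isIntegralHom_and_locallyOfFiniteType]
  exact ⟨inferInstance, inferInstance⟩

/-- **Stacks 05YU**: if `f : X ⟶ S` is surjective and universally closed with `X` affine, then
`S` is affine. -/
theorem isAffine_of_surjective_universallyClosed {X S : Scheme.{u}} (f : X ⟶ S) [IsAffine X]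
    [Surjective f] [UniversallyClosed f] : IsAffine S := by
  haveI : S.IsSeparated := Groth.Agent.H1.FinAff.isSeparated_of_surjective_of_universallyClosed f
  haveI : CompactSpace S := by
    constructor
    have : (Set.univ : Set S) = Set.range ⇑f := (Set.range_eq_univ.mpr f.surjective).symm
    rw [this]
    exact isCompact_range f.continuous
  obtain ⟨Z, g, hZ, hg, hs⟩ := exists_finite_surjective f
  exact isAffine_of_finite_surjective g

end Groth.Agent.Lib.helper9.ChevAff
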