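/-
Helper library (helper9): a constructible subset of a quasi-compact scheme is the image of an
affine scheme under a morphism locally of finite presentation.
-/
import Mathlib.RingTheory.Spectrum.Prime.ConstructibleSet
import Mathlib.RingTheory.Localization.Away.AdjoinRoot
import Mathlib.AlgebraicGeometry.Morphisms.FinitePresentation
import Mathlib.AlgebraicGeometry.Limits

set_option autoImplicit false
set_option linter.style.haveILetI false

namespace Groth.Agent.Lib.helper9

open Topology TopologicalSpace Set AlgebraicGeometry CategoryTheory Limits PrimeSpectrum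

universe u

/-- A basic constructible set `V(g) \ V(f)` of `Spec A` is the image of `Spec` of the finitely
presented `A`-algebra `(A/(g))[1/f]`. -/
theorem exists_finitePresentation_range_comap_eq_toSet {A : Type u} [CommRing A]
    (C : BasicConstructibleSetData A) :
    ∃ (B : Type u) (_ : CommRing B) (φ : A →+* B), φ.FinitePresentation ∧
      Set.range (comap φ) = C.toSet := by
  set I : Ideal A := Ideal.span (Set.range C.g) with hI
  set q : A →+* A ⧸ I := Ideal.Quotient.mk I with hq
  set B := Localization.Away (q C.f)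
  refine ⟨B, inferInstance, (algebraMap (A ⧸ I) B).comp q, ?_, ?_⟩
  · refine RingHom.FinitePresentation.comp ?_ ?_
    · rw [RingHom.finitePresentation_algebraMap]
      exact IsLocalization.Away.finitePresentation (q C.f)
    · refine RingHom.FinitePresentation.of_surjective q Ideal.Quotient.mk_surjective ?_
      rw [hq, Ideal.mk_ker]
      exact ⟨(Set.finite_range C.g).toFinset, by simp [hI]⟩
  · have h1 : Set.range (comap (algebraMap (A ⧸ I) B)) = (basicOpen (q C.f) : Set _) :=
      localization_away_comap_range B (q C.f)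
    have h2 : Set.range (comap q) = zeroLocus (I : Set A) := by
      rw [range_comap_of_surjective _ _ Ideal.Quotient.mk_surjective, Ideal.mk_ker]
    have h3 : (basicOpen (q C.f) : Set (PrimeSpectrum (A ⧸ I))) =
        comap q ⁻¹' (basicOpen C.f : Set (PrimeSpectrum A)) := rfl
    have hcomp : comap ((algebraMap (A ⧸ I) B).comp q) = comap q ∘ comap (algebraMap (A ⧸ I) B) :=
      rfl
    rw [hcomp, Set.range_comp, h1, h3, Set.image_preimage_eq_inter_range, h2, hI, zeroLocus_span,
      BasicConstructibleSetData.toSet, Set.inter_comm, basicOpen_eq_zeroLocus_compl]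
    rfl

/-- The range of `Sigma.desc` is the union of the ranges. -/
theorem range_sigmaDesc {X : Scheme.{u}} {J : Type u} (Y : J → Scheme.{u}) (g : ∀ j, Y j ⟶ X) :
    Set.range (Sigma.desc g).base = ⋃ j, Set.range (g j).base := by
  ext y
  simp only [Set.mem_iUnion, Set.mem_range]
  constructor
  · rintro ⟨z, rfl⟩
    obtain ⟨i, w, rfl⟩ := (sigmaOpenCover Y).exists_eq z
    refine ⟨i, w, ?_⟩
    have := Scheme.Hom.comp_apply (Sigma.ι Y i) (Sigma.desc g) w
    rw [Sigma.ι_desc] at this
    exact this
  · rintro ⟨i, w, rfl⟩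
    refine ⟨(Sigma.ι Y i).base w, ?_⟩
    have := Scheme.Hom.comp_apply (Sigma.ι Y i) (Sigma.desc g) w
    rw [Sigma.ι_desc] at this
    exact this.symm

/-- Glue finitely many affine schemes locally of finite presentation over `X`. -/
theorem exists_isAffine_lfp_range_eq_iUnion {X : Scheme.{u}} {J : Type u} [Finite J]
    (Y : J → Scheme.{u}) (hY : ∀ j, IsAffine (Y j)) (g : ∀ j, Y j ⟶ X)
    (hg : ∀ j, LocallyOfFinitePresentation (g j)) :
    ∃ (X' : Scheme.{u}) (f : X' ⟶ X), IsAffine X' ∧ LocallyOfFinitePresentation f ∧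
      Set.range f.base = ⋃ j, Set.range (g j).base :=
  ⟨∐ Y, Sigma.desc g, inferInstance,
    IsZariskiLocalAtSource.sigmaDesc (P := @LocallyOfFinitePresentation) hg, range_sigmaDesc Y g⟩

/-- A constructible subset of a quasi-compact scheme is the image of an affine scheme locally of
finite presentation over it. -/
theorem exists_isAffine_lfp_range_eq_of_isConstructible {X : Scheme.{u}} [CompactSpace X]
    {Z : Set X} (hZ : IsConstructible Z) :
    ∃ (X' : Scheme.{u}) (f : X' ⟶ X), IsAffine X' ∧ LocallyOfFinitePresentation f ∧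
      Set.range f.base = Z := by
  classical
  have hloc : ∀ x : X, ∃ (U : X.Opens) (Y : Scheme.{u}) (g : Y ⟶ X), x ∈ U ∧ IsAffine Y ∧
      LocallyOfFinitePresentation g ∧ Set.range g.base = Z ∩ (U : Set X) := by
    intro x
    obtain ⟨_, ⟨U, hU, rfl⟩, hxU, -⟩ :=
      X.isBasis_affineOpens.exists_subset_of_mem_open (Set.mem_univ x) isOpen_univ
    have hU' : IsAffineOpen U := hU
    have hZ' : IsConstructible (hU'.fromSpec.base ⁻¹' Z) :=
      hZ.preimage_of_isOpenEmbedding hU'.fromSpec.isOpenEmbedding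
    obtain ⟨S, hS⟩ := (exists_constructibleSetData_iff (R := Γ(X, U))
      (s := hU'.fromSpec.base ⁻¹' Z)).mpr hZ'
    have hpiece : ∀ C : ↥S, ∃ (B : Type u) (_ : CommRing B) (φ : Γ(X, U) →+* B),
        φ.FinitePresentation ∧ Set.range (comap φ) = C.1.toSet :=
      fun C => exists_finitePresentation_range_comap_eq_toSet C.1
    choose B hB φ hφ hrange using hpiece
    obtain ⟨X', f, hX', hf, hfr⟩ := exists_isAffine_lfp_range_eq_iUnion
      (fun C : ↥S => Spec (CommRingCat.of (B C)))
      (fun _ => inferInstance)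
      (fun C => Spec.map (CommRingCat.ofHom (φ C)) ≫ hU'.fromSpec)
      (fun C => by
        haveI : LocallyOfFinitePresentation (Spec.map (CommRingCat.ofHom (φ C))) :=
          (LocallyOfFinitePresentation.SpecMap_iff _).mpr (hφ C)
        infer_instance)
    refine ⟨U, X', f, hxU, hX', hf, ?_⟩
    rw [hfr]
    have h2 : Set.range hU'.fromSpec.base = (U : Set X) := hU'.range_fromSpec
    have hmemS : ∀ p : PrimeSpectrum Γ(X, U), p ∈ S.toSet ↔ hU'.fromSpec.base p ∈ Z := by
      intro p
      rw [hS]
      rfl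
    ext y
    simp only [Set.mem_iUnion, Set.mem_range, Set.mem_inter_iff]
    constructor
    · rintro ⟨C, w, rfl⟩
      have hp : comap (φ C) w ∈ C.1.toSet := (hrange C) ▸ Set.mem_range_self w
      have hpS : comap (φ C) w ∈ S.toSet := by
        rw [ConstructibleSetData.toSet]
        exact Set.mem_biUnion C.2 hp
      have hy : (Spec.map (CommRingCat.ofHom (φ C)) ≫ hU'.fromSpec).base w =
          hU'.fromSpec.base (comap (φ C) w) := rfl
      rw [hy]
      exact ⟨(hmemS _).mp hpS, h2 ▸ Set.mem_range_self _⟩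
    · rintro ⟨hyZ, hyU⟩
      obtain ⟨p, rfl⟩ : y ∈ Set.range hU'.fromSpec.base := h2 ▸ hyU
      have hpS : (p : PrimeSpectrum Γ(X, U)) ∈ S.toSet := (hmemS p).mpr hyZ
      rw [ConstructibleSetData.toSet] at hpS
      obtain ⟨C, hC, hpC⟩ := Set.mem_iUnion₂.mp hpS
      have : (p : PrimeSpectrum Γ(X, U)) ∈ Set.range (comap (φ ⟨C, hC⟩)) := by
        rw [hrange ⟨C, hC⟩]
        exact hpC
      obtain ⟨w, hw⟩ := this
      refine ⟨⟨C, hC⟩, w, ?_⟩
      have hy : (Spec.map (CommRingCat.ofHom (φ ⟨C, hC⟩)) ≫ hU'.fromSpec).base w =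
          hU'.fromSpec.base (comap (φ ⟨C, hC⟩) w) := rfl
      rw [hy, hw]
  choose U Y g hxU hY hg hgr using hloc
  obtain ⟨t, ht⟩ := isCompact_univ.elim_nhds_subcover (fun x => (U x : Set X))
    (fun x _ => (U x).2.mem_nhds (hxU x))
  obtain ⟨X', f, hX', hf, hfr⟩ := exists_isAffine_lfp_range_eq_iUnion
    (fun i : ↥t => Y i.1) (fun i => hY i.1) (fun i => g i.1) (fun i => hg i.1)
  refine ⟨X', f, hX', hf, ?_⟩
  rw [hfr]
  simp_rw [hgr]
  rw [← Set.inter_iUnion]
  apply Set.inter_eq_left.mpr
  intro y _
  have hyU := ht.2 (Set.mem_univ y)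
  simp only [Set.mem_iUnion] at hyU ⊢
  obtain ⟨i, hi, hyi⟩ := hyU
  exact ⟨⟨i, hi⟩, hyi⟩

end Groth.Agent.Lib.helper9
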