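import Mathlib
import Groth.Agent.Lib.Helper9.CurveDegAdd
import Groth.Agent.Lib.Helper8.DevMaster

/-!
# Generically isomorphic monomorphisms of coherent modules on integral proper curves (helper9)

* `exists_open_le_isoLocus_of_generic`: a monomorphism of coherent modules whose cokernel has zero generic stalk is an
  isomorphism on a nonempty open.
* `deg_le_and_eq_iff_isIso`: for such `f : E ⟶ F` on an integral proper curve, `deg E ≤ deg F` with equality iff `f` is an
  isomorphism (degrees in any fixed rank `n`).
-/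

set_option autoImplicit false
set_option linter.style.haveILetI false
universe u
open CategoryTheory CategoryTheory.Limits AlgebraicGeometry Opposite TopologicalSpace Module
open Scheme.Modules

namespace Groth.Agent.Lib.helper9.CurveTF

open Groth.Agent.Lib.Helper18 Groth.Agent.Lib.helper11.IsoLocus Groth.Agent.Lib.helper11.InvMod
open Groth.Agent.Lib.Lead.CurveInv Groth.Agent.Lib.Lead.CurveEuler
open Groth.Agent.Lib.helper11.TwistH1 Groth.Agent.Lib.helper7
open Groth.Agent.Lib.helper9.CurveDegAdd

/-- a monomorphism of coherent modules whose cokernel has zero generic stalk is an isomorphism on a nonempty open -/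
theorem exists_open_le_isoLocus_of_generic {X : Scheme.{u}} [IsIntegral X] {E F : X.Modules}
    (hEc : Coh.IsCoh E) (hFc : Coh.IsCoh F) (f : E ⟶ F) [Mono f]
    (hgen : Subsingleton ((cokernel f).presheaf.stalk (genericPoint X))) :
    ∃ W : X.Opens, (W : Set X).Nonempty ∧ W ≤ isoLocus f ∧
      ∀ P : X.Opens, P ≤ W → Subsingleton Γ(cokernel f, P) := by
  have hCc : Coh.IsCoh (cokernel f) := CohKer.isCoh_cokernel hEc hFc f
  have hcl := Groth.Agent.Lib.helper8.Dev.isClosed_support_of_isCoh (cokernel f) hCc
  let W : X.Opens := ⟨(CohB1.support (cokernel f))ᶜ, hcl.isOpen_compl⟩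
  have hsec : ∀ P : X.Opens, P ≤ W → Subsingleton Γ(cokernel f, P) := by
    intro P hP
    refine ⟨fun s t => ?_⟩
    refine TopCat.Presheaf.section_ext ⟨(cokernel f).presheaf, (cokernel f).isSheaf⟩ P _ _
      (fun x hx => ?_)
    have h1 : x ∉ CohB1.support (cokernel f) := hP hx
    have h2 : Subsingleton ((cokernel f).presheaf.stalk x) := by
      by_contra h2
      exact h1 h2
    exact h2.elim _ _
  refine ⟨W, ⟨genericPoint X, fun h => h hgen⟩, ?_, hsec⟩
  rw [le_isoLocus_iff, isIso_restrict_iff_app]
  intro V hV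
  rw [ConcreteCategory.isIso_iff_bijective]
  haveI := hsec V hV
  exact ⟨Groth.Agent.Lib.helper16.Satur.injective_app_of_mono f V, fun y =>
    exists_preimage_of_cokernel_π_eq_zero f V y (Subsingleton.elim _ _)⟩

section curve

variable (k : Type u) [Field k] (X : Scheme.{u}) [X.Over (Spec (CommRingCat.of k))]
  [IsProper (X ↘ Spec (CommRingCat.of k))] [IsIntegral X]

/-- `deg E ≤ deg F`, with equality iff `f` is an isomorphism, for a generically isomorphic monomorphism of coherent
modules on an integral proper curve -/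
theorem deg_le_and_eq_iff_isIso (hdim : topologicalKrullDim X ≤ 1) {E F : X.Modules}
    (hEc : Coh.IsCoh E) (hFc : Coh.IsCoh F) (f : E ⟶ F) [Mono f]
    (hgen : Subsingleton ((cokernel f).presheaf.stalk (genericPoint X))) (n : ℕ) :
    Curv2.deg k X E n ≤ Curv2.deg k X F n ∧ (Curv2.deg k X E n = Curv2.deg k X F n ↔ IsIso f) := by
  haveI := Groth.Agent.Lib.Lead.CurveEuler.isNoetherian k X
  obtain ⟨W, hWne, hW, hsec⟩ := exists_open_le_isoLocus_of_generic hEc hFc f hgen
  have e1 := euler_sub_of_mono k X hdim hEc hFc f W hW hWne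
  have hCc : Coh.IsCoh (cokernel f) := CohKer.isCoh_cokernel hEc hFc f
  have hnn : (0 : ℤ) ≤ (finrank k (Coh.HH X (cokernel f) 0) : ℤ) := Int.natCast_nonneg _
  have hdE : Curv2.deg k X E n = Curv2.euler k X E - n * Curv2.euler k X (Coh.structureModule X) := rfl
  have hdF : Curv2.deg k X F n = Curv2.euler k X F - n * Curv2.euler k X (Coh.structureModule X) := rfl
  refine ⟨by rw [hdE, hdF]; linarith, ⟨fun heq => ?_, fun hiso => ?_⟩⟩
  · have h2 : finrank k (Coh.HH X (cokernel f) 0) = 0 := by
      have : (finrank k (Coh.HH X (cokernel f) 0) : ℤ) = 0 := by rw [hdE, hdF] at heq; linarith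
      exact_mod_cast this
    haveI : Module.Finite k (Coh.HH X (cokernel f) 0) :=
      Groth.Agent.Lib.Lead.ProperEuler.finite_HH k X (cokernel f) hCc 0
    have h3 : Subsingleton (Coh.HH X (cokernel f) 0) := Module.finrank_zero_iff.mp h2
    have h4 : Subsingleton Γ(cokernel f, ⊤) :=
      (Groth.Agent.Lib.Helper18.HH.equiv₀ (cokernel f)).symm.toEquiv.subsingleton
    have hz : IsZero (cokernel f) :=
      Groth.Agent.Lib.Lead.DimOneVanish.isZero_of_sections_vanish (cokernel f) W
        (fun x hx => isClosed_singleton_of_not_mem hdim W hWne x hx) hsec h4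
    haveI : Epi f := Preadditive.epi_of_isZero_cokernel f hz
    exact isIso_of_mono_of_epi f
  · haveI := hiso
    have hz : IsZero (cokernel f) := isZero_cokernel_of_epi f
    haveI h5 : Subsingleton ((cokernel f).val.obj (op ⊤)) :=
      Groth.Agent.Lib.Lead.DimOneVanish.subsingleton_sections_of_isZero hz ⊤
    have h6 : Subsingleton (Coh.HH X (cokernel f) 0) :=
      (Groth.Agent.Lib.Helper18.HH.equiv₀ (cokernel f)).toEquiv.subsingleton
    have h7 : finrank k (Coh.HH X (cokernel f) 0) = 0 := finrank_zero_of_subsingleton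
    rw [h7] at e1
    rw [hdE, hdF]
    push_cast at e1
    linarith

end curve

end Groth.Agent.Lib.helper9.CurveTF
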