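import Mathlib
import Groth.Agent.Lib.Helper9.DvrLift1
import Groth.Agent.Lib.Helper24.N2Reg
import Groth.Agent.Lib.Helper13.PIns2
import Groth.Agent.Lib.Helper3.HensFinite

/-!
# DVR lifting criterion for universal openness (helper9), part 3: normalization of a finite domain
over a complete discrete valuation ring is a discrete valuation ring, finite over the base.
-/

set_option autoImplicit false
set_option linter.style.haveILetI false

namespace Groth.Agent.Lib.helper9.DvrLift

open IsLocalRing

universe u

theorem exists_dvr_normalization (A : Type u) [CommRing A] [IsDomain A]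
    [IsDiscreteValuationRing A] [IsAdicComplete (maximalIdeal A) A]
    (A' : Type u) [CommRing A'] [IsDomain A'] [Algebra A A'] [Module.Finite A A']
    (hinj : Function.Injective (algebraMap A A')) :
    ∃ (B : Type u) (_ : CommRing B) (_ : IsDomain B) (_ : IsDiscreteValuationRing B)
      (_ : Algebra A B) (_ : Algebra A' B) (_ : IsScalarTower A A' B),
      Module.Finite A B ∧ Function.Injective (algebraMap A' B) := by
  set L := FractionRing A' with hL
  haveI : FaithfulSMul A A' := (faithfulSMul_iff_algebraMap_injective A A').mpr hinj
  have hN2 : CAlg.IsN2 A := Groth.Agent.Lib.Helper24.N2Reg.isN2_of_isRegularLocalRing_complete A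
  set B := integralClosure A' L with hB
  haveI hfinA'B : Module.Finite A' B :=
    Groth.Agent.Lib.helper13.PIns.finite_integralClosure_of_finite_injective (A₀ := A) (A := A')
      hN2 L L
  haveI hfinAB : Module.Finite A B := Module.Finite.trans A' B
  haveI : IsNoetherianRing B := by
    have : IsNoetherian A B := isNoetherian_of_isNoetherianRing_of_finite A B
    exact isNoetherian_of_tower A this
  haveI : HenselianLocalRing A :=
    Groth.Agent.Lib.helper3.HensFinite.henselianLocalRing_of_isAdicComplete A
  haveI hlocB : IsLocalRing B := Groth.Agent.Lib.helper3.HensFinite.isLocalRing_of_finite A B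
  haveI : IsIntegrallyClosed B := integralClosure.isIntegrallyClosedOfFiniteExtension L
  haveI : Algebra.IsIntegral A B := Algebra.IsIntegral.of_finite A B
  have hinjA'B : Function.Injective (algebraMap A' B) := by
    intro a b hab
    have := congrArg (algebraMap B L) hab
    rw [← IsScalarTower.algebraMap_apply, ← IsScalarTower.algebraMap_apply] at this
    exact IsFractionRing.injective A' L this
  have hinjAB : Function.Injective (algebraMap A B) := by
    rw [IsScalarTower.algebraMap_eq A A' B]
    exact hinjA'B.comp hinj
  have hnf : ¬ IsField B := fun hf =>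
    IsDiscreteValuationRing.not_isField A (isField_of_isIntegral_of_isField hinjAB hf)
  have hmne : maximalIdeal B ≠ ⊥ := by
    rw [Ne, ← IsLocalRing.isField_iff_maximalIdeal_eq]
    exact hnf
  have huniq : ∀ P : Ideal B, P ≠ ⊥ ∧ P.IsPrime → P = maximalIdeal B := by
    rintro P ⟨hP0, hP⟩
    haveI := hP
    obtain ⟨x, hxP, hx0⟩ := Submodule.exists_mem_ne_zero_of_ne_bot hP0
    have h1 : P.comap (algebraMap A B) ≠ ⊥ :=
      Ideal.comap_ne_bot_of_integral_mem hx0 hxP (Algebra.IsIntegral.isIntegral x)
    haveI : (P.comap (algebraMap A B)).IsPrime := Ideal.comap_isPrime _ _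
    have h2 : (P.comap (algebraMap A B)).IsMaximal := Ideal.IsPrime.isMaximal inferInstance h1
    have h3 : P.IsMaximal := Ideal.isMaximal_of_isIntegral_of_isMaximal_comap P h2
    exact IsLocalRing.eq_maximalIdeal h3
  have hitem : IsIntegrallyClosed B ∧ ∃! P : Ideal B, P ≠ ⊥ ∧ P.IsPrime :=
    ⟨inferInstance, maximalIdeal B, ⟨hmne, inferInstance⟩, huniq⟩
  have hdvr : IsDiscreteValuationRing B := ((IsDiscreteValuationRing.TFAE B hnf).out 0 3).mpr hitem
  exact ⟨B, inferInstance, inferInstance, hdvr, inferInstance, inferInstance, inferInstance,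
    hfinAB, hinjA'B⟩

end Groth.Agent.Lib.helper9.DvrLift
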