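import Mathlib
import Groth.Prelude.Def_EGA43
import Groth.Agent.Lib.Helper9.DvrLift2
import Groth.Agent.Lib.Helper4.UnivOpenDvr5

/-!
# DVR lifting criterion for universal openness (helper9), part 4: sufficiency

If points over `x` with values in complete discrete valuation rings with algebraically closed
residue field lift after finite extensions, then `f` is universally open at `x`.
-/

set_option autoImplicit false
set_option linter.style.haveILetI false
set_option backward.isDefEq.respectTransparency false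

namespace Groth.Agent.Lib.helper9.DvrLift

open AlgebraicGeometry CategoryTheory Limits IsLocalRing

universe u

/-- The lifting property of EGA IV 14.5.8 b). -/
def Lifting {X Y : Scheme.{u}} (f : X ⟶ Y) (x : X) : Prop :=
  ∀ (A : Type u) [CommRing A] [IsDomain A] [IsDiscreteValuationRing A]
    [IsAdicComplete (IsLocalRing.maximalIdeal A) A] [IsAlgClosed (IsLocalRing.ResidueField A)]
    (g : Spec (CommRingCat.of A) ⟶ Y), g.base (IsLocalRing.closedPoint A) = f.base x →
    ∀ u₀ : Spec (CommRingCat.of (IsLocalRing.ResidueField A)) ⟶ X,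
      u₀ ≫ f = Spec.map (CommRingCat.ofHom (IsLocalRing.residue A)) ≫ g → x ∈ Set.range u₀.base →
      ∃ (B : CommRingCat.{u}) (_ : IsDomain B) (_ : IsDiscreteValuationRing B) (φ : A →+* B)
        (_ : IsLocalHom φ) (v : Spec B ⟶ X),
        φ.Finite ∧ v ≫ f = Spec.map (CommRingCat.ofHom φ) ≫ g ∧
        Spec.map (CommRingCat.ofHom (IsLocalRing.ResidueField.map φ)) ≫ u₀ =
          Spec.map (CommRingCat.ofHom (IsLocalRing.residue B)) ≫ v

/-- A finite local homomorphism between discrete valuation rings is injective. -/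
theorem injective_of_finite_dvr {A B : Type u} [CommRing A] [IsDomain A]
    [IsDiscreteValuationRing A] [CommRing B] [IsDomain B] [IsDiscreteValuationRing B]
    (φ : A →+* B) (hφ : φ.Finite) : Function.Injective φ := by
  rw [RingHom.injective_iff_ker_eq_bot]
  by_contra hker
  letI := φ.toAlgebra
  haveI : Module.Finite A B := hφ
  haveI : Algebra.IsIntegral A B := Algebra.IsIntegral.of_finite A B
  haveI : (RingHom.ker φ).IsPrime := RingHom.ker_isPrime φ
  have h2 : (RingHom.ker φ).IsMaximal := Ideal.IsPrime.isMaximal inferInstance hker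
  have h3 : ((⊥ : Ideal B).comap (algebraMap A B)).IsMaximal := h2
  haveI : (⊥ : Ideal B).IsPrime := Ideal.isPrime_bot
  have h4 : (⊥ : Ideal B).IsMaximal := Ideal.isMaximal_of_isIntegral_of_isMaximal_comap ⊥ h3
  exact IsDiscreteValuationRing.not_a_field B (IsLocalRing.eq_maximalIdeal h4).symm

/-- **Sufficiency.** -/
theorem isUnivOpenAt_of_lifting {X Y : Scheme.{u}} [IsLocallyNoetherian Y] (f : X ⟶ Y)
    [LocallyOfFiniteType f] (x : X) (H : Lifting f x) : EGA43.IsUnivOpenAt f x := by
  apply Groth.Agent.Lib.helper4.UnivOpenDvr5.isUnivOpenAt_of_dvrCrit f x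
  intro A₀ _ _ _ g₀ hg₀ x' hx' hx's
  set κ' := (pullback f g₀).residueField x' with hκ'
  set ξ := (pullback f g₀).fromSpecResidueField x' with hξ
  -- the ring map `A₀ → κ(x')`
  set ρ₀c : CommRingCat.of A₀ ⟶ κ' := Spec.preimage (ξ ≫ pullback.snd f g₀) with hρ₀c
  have hρ₀ : Spec.map ρ₀c = ξ ≫ pullback.snd f g₀ := Spec.map_preimage _
  set ρ₀ : A₀ →+* κ' := ρ₀c.hom with hρ₀def
  have hker : RingHom.ker ρ₀ = maximalIdeal A₀ := by
    obtain ⟨pt⟩ : Nonempty ↥(Spec κ') := inferInstance
    have h1 : (Spec.map ρ₀c).base pt = closedPoint A₀ := by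
      rw [hρ₀, Scheme.Hom.comp_apply, hξ, Scheme.fromSpecResidueField_apply]
      exact hx's
    have h2 : (pt : PrimeSpectrum κ').asIdeal = ⊥ := by
      haveI : (pt : PrimeSpectrum κ').asIdeal.IsPrime := pt.isPrime
      exact Ideal.eq_bot_of_prime _
    have h3 := congrArg PrimeSpectrum.asIdeal h1
    change Ideal.comap ρ₀ (pt : PrimeSpectrum κ').asIdeal = maximalIdeal A₀ at h3
    rw [h2] at h3
    exact h3
  haveI hloc₀ : IsLocalHom ρ₀ := by
    constructor
    intro a ha
    by_contra hna
    have : a ∈ maximalIdeal A₀ := (mem_maximalIdeal a).mpr hna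
    rw [← hker, RingHom.mem_ker] at this
    rw [this] at ha
    exact not_isUnit_zero ha
  set K := AlgebraicClosure κ' with hK
  letI algK : Algebra (ResidueField A₀) K :=
    ((algebraMap κ' K).comp (ResidueField.lift ρ₀)).toAlgebra
  obtain ⟨A, _, _, _, _, hlocA, hinjA, hcompA, e, he⟩ := exists_complete_dvr_extension A₀ K
  haveI := hlocA
  haveI := hcompA
  haveI : IsAlgClosed (ResidueField A) := IsAlgClosed.of_ringEquiv K (ResidueField A) e.symm
  -- the morphism `g`
  set αc : CommRingCat.of A₀ ⟶ CommRingCat.of A := CommRingCat.ofHom (algebraMap A₀ A) with hαc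
  set g : Spec (CommRingCat.of A) ⟶ Y := Spec.map αc ≫ g₀ with hg
  have hgcl : g.base (closedPoint A) = f.base x := by
    rw [hg, Scheme.Hom.comp_apply]
    have : (Spec.map αc).base (closedPoint A) = closedPoint A₀ := by
      haveI : IsLocalHom αc.hom := hlocA
      exact Spec_closedPoint
    rw [this]; exact hg₀
  -- the point `u₀`
  set γ : κ' →+* ResidueField A := (e.symm : K →+* ResidueField A).comp (algebraMap κ' K) with hγ
  have hγρ : γ.comp ρ₀ = (residue A).comp (algebraMap A₀ A) := by
    ext a
    apply e.injective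
    rw [RingHom.comp_apply, RingHom.comp_apply]
    change e ((e.symm : K →+* ResidueField A) (algebraMap κ' K (ρ₀ a))) = _
    have h1 : e ((e.symm : K →+* ResidueField A) (algebraMap κ' K (ρ₀ a))) =
        algebraMap κ' K (ρ₀ a) := e.apply_symm_apply _
    rw [h1]
    change _ = e (residue A (algebraMap A₀ A a))
    rw [he a]
    change _ = (algebraMap κ' K) (ResidueField.lift ρ₀ (residue A₀ a))
    rw [ResidueField.lift_residue_apply]
  set γc : κ' ⟶ CommRingCat.of (ResidueField A) := CommRingCat.ofHom γ with hγc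
  have hγρc : ρ₀c ≫ γc = αc ≫ CommRingCat.ofHom (residue A) := by
    ext a
    exact congrArg (fun h : A₀ →+* ResidueField A => h a) hγρ
  set u₀ : Spec (CommRingCat.of (ResidueField A)) ⟶ X :=
    Spec.map γc ≫ ξ ≫ pullback.fst f g₀ with hu₀
  have hu₀f : u₀ ≫ f = Spec.map (CommRingCat.ofHom (residue A)) ≫ g := by
    rw [hu₀, hg, Category.assoc, Category.assoc, pullback.condition, ← Category.assoc ξ, ← hρ₀,
      ← Spec.map_comp_assoc, ← Spec.map_comp_assoc, hγρc]
  have hxu₀ : x ∈ Set.range u₀.base := by
    obtain ⟨pt⟩ : Nonempty ↥(Spec (CommRingCat.of (ResidueField A))) := inferInstance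
    refine ⟨pt, ?_⟩
    rw [hu₀, Scheme.Hom.comp_apply, Scheme.Hom.comp_apply, hξ, Scheme.fromSpecResidueField_apply]
    exact hx'
  obtain ⟨B, _, _, φ, hφloc, v, hφfin, hvf, hvcl⟩ := H A g hgcl u₀ hu₀f hxu₀
  haveI := hφloc
  set φc : CommRingCat.of A ⟶ B := CommRingCat.ofHom φ with hφc
  have hφinj : Function.Injective φ := injective_of_finite_dvr φ hφfin
  -- the lift to the pullback
  set vP : Spec B ⟶ pullback f g₀ := pullback.lift v (Spec.map φc ≫ Spec.map αc)
    (by rw [hvf, hg, Category.assoc]) with hvP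
  have hvP1 : vP ≫ pullback.fst f g₀ = v := pullback.lift_fst _ _ _
  have hvP2 : vP ≫ pullback.snd f g₀ = Spec.map φc ≫ Spec.map αc := pullback.lift_snd _ _ _
  -- the closed point goes to `x'`
  have hring : (αc ≫ φc) ≫ CommRingCat.ofHom (residue B) =
      (αc ≫ CommRingCat.ofHom (residue A)) ≫ CommRingCat.ofHom (ResidueField.map φ) := by
    ext a
    exact (ResidueField.map_residue φ (algebraMap A₀ A a)).symm
  have hclosed : vP.base (closedPoint B) = x' := by
    have hmor : Spec.map (CommRingCat.ofHom (residue B)) ≫ vP =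
        Spec.map (CommRingCat.ofHom (ResidueField.map φ)) ≫ Spec.map γc ≫ ξ := by
      apply pullback.hom_ext
      · rw [Category.assoc, hvP1, ← hvcl, hu₀]
        simp only [Category.assoc]
      · rw [Category.assoc, hvP2, Category.assoc, Category.assoc, ← hρ₀, ← Spec.map_comp,
          ← Spec.map_comp, ← Spec.map_comp, ← Spec.map_comp, hγρc, hring]
    obtain ⟨pt⟩ : Nonempty ↥(Spec (CommRingCat.of (ResidueField B))) := inferInstance
    have h1 : (Spec.map (CommRingCat.ofHom (residue B))).base pt = closedPoint B := by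
      have : pt = closedPoint (ResidueField B) := Subsingleton.elim _ _
      rw [this]
      haveI : IsLocalHom (CommRingCat.ofHom (residue B)).hom :=
        inferInstanceAs (IsLocalHom (residue B))
      exact Spec_closedPoint
    have h2 : vP.base ((Spec.map (CommRingCat.ofHom (residue B))).base pt) =
        (Spec.map (CommRingCat.ofHom (residue B)) ≫ vP).base pt := rfl
    rw [← h1, h2, hmor, Scheme.Hom.comp_apply, Scheme.Hom.comp_apply, hξ,
      Scheme.fromSpecResidueField_apply]
  -- the generic point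
  set η : Spec B := ⟨⊥, Ideal.isPrime_bot⟩ with hη
  refine ⟨vP.base η, ?_, ?_⟩
  · rw [← hclosed]
    apply Specializes.map _ vP.continuous
    rw [← PrimeSpectrum.le_iff_specializes]
    exact bot_le
  · intro hcon
    have h1 : (pullback.snd f g₀).base (vP.base η) = (Spec.map (αc ≫ φc)).base η := by
      rw [← Scheme.Hom.comp_apply, hvP2, Spec.map_comp]
    rw [h1] at hcon
    have h2 := congrArg PrimeSpectrum.asIdeal hcon
    change Ideal.comap (φ.comp (algebraMap A₀ A)) ⊥ = maximalIdeal A₀ at h2
    have h3 : Ideal.comap (φ.comp (algebraMap A₀ A)) ⊥ = ⊥ := by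
      rw [← RingHom.ker_eq_comap_bot, ← RingHom.injective_iff_ker_eq_bot]
      exact hφinj.comp hinjA
    rw [h3] at h2
    exact IsDiscreteValuationRing.not_a_field A₀ h2.symm

end Groth.Agent.Lib.helper9.DvrLift
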