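import Mathlib

/-!
# DVR lifting criterion for universal openness (helper9), part 5: field-valued points

`eq_of_comp_eq_of_apply_eq`: two `L`-valued points `a b : Spec L ⟶ P` with the same image point
`p` and the same composite with `q : P ⟶ Q` are equal as soon as `κ(q p) → κ(p)` is surjective.
-/

set_option autoImplicit false
set_option linter.style.haveILetI false
set_option backward.isDefEq.respectTransparency false

namespace Groth.Agent.Lib.helper9.DvrLift

open AlgebraicGeometry CategoryTheory Limits IsLocalRing

universe u

theorem eq_of_comp_eq_of_apply_eq {L : Type u} [Field L] {P Q : Scheme.{u}} (q : P ⟶ Q)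
    (a b : Spec (CommRingCat.of L) ⟶ P) (hpt : a.base (closedPoint L) = b.base (closedPoint L))
    (hq : a ≫ q = b ≫ q)
    (hsurj : Function.Surjective (q.residueFieldMap (a.base (closedPoint L))).hom) : a = b := by
  apply (Scheme.SpecToEquivOfField L P).injective
  rw [Scheme.SpecToEquivOfField_eq_iff]
  refine ⟨hpt, ?_⟩
  have h1 := congrArg (Scheme.SpecToEquivOfField L Q) hq
  rw [Scheme.SpecToEquivOfField_eq_iff] at h1
  obtain ⟨e', h2⟩ := h1
  simp only [Scheme.SpecToEquivOfField_apply_snd] at h2 ⊢
  rw [Scheme.descResidueField_stalkClosedPointTo_comp,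
    Scheme.descResidueField_stalkClosedPointTo_comp] at h2
  have h3 := Scheme.Hom.residueFieldMap_congr' (f := q) hpt
  ext z
  obtain ⟨y, rfl⟩ := hsurj z
  have h4 := congrArg (fun m => m.hom y) h2
  have h5 := congrArg (fun m => m.hom y) h3
  simp only [CommRingCat.hom_comp, RingHom.comp_apply] at h4 h5 ⊢
  refine h4.trans ?_
  exact congrArg (fun t => (Scheme.descResidueField (Scheme.stalkClosedPointTo b)).hom t) h5.symm

end Groth.Agent.Lib.helper9.DvrLift
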