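import Mathlib
import Groth.Prelude.Def_EGA43
import Groth.Agent.Lib.Helper9.DvrLift3
import Groth.Agent.Lib.Helper3.QuasiSectionComplete
import Groth.Agent.Lib.Helper3.QuasiSectionDed
import Groth.Agent.S3404

/-!
# DVR lifting criterion for universal openness (helper9), part 6: quasi-sections over a complete DVR

`exists_dvr_section`: `A` a complete discrete valuation ring, `fA : P ⟶ Spec A` locally of finite
type and open at a point `xA` over the closed point with `κ(closed point) → κ(xA)` surjective. Then
there are a discrete valuation ring `B`, finite and injective over `A`, and an `A`-morphism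
`Spec B ⟶ P` mapping the closed point to `xA`.
-/

set_option autoImplicit false
set_option linter.style.haveILetI false
set_option backward.isDefEq.respectTransparency false

namespace Groth.Agent.Lib.helper9.DvrLift

open AlgebraicGeometry CategoryTheory Limits IsLocalRing Topology
open Groth.Agent.Lib.helper3.DimIneq Groth.Agent.Lib.helper3.QuasiSection

universe u

/-- A point whose residue field is a quotient of that of its image is closed in its fibre. -/
theorem closed_in_fibre_of_surjective {P Y : Scheme.{u}} (fA : P ⟶ Y) [LocallyOfFiniteType fA]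
    (xA : P) (hsurj : Function.Surjective (fA.residueFieldMap xA).hom) :
    ∀ p' : P, fA.base p' = fA.base xA → xA ⤳ p' → p' = xA := by
  intro p' hf hsp
  by_contra hne
  have hlt := Groth.Agent.S9381.result fA xA p' hsp (fun h => hne h.symm) hf.symm
  have h0 : td (fA.residueFieldMap xA).hom = 0 := by
    letI := (fA.residueFieldMap xA).hom.toAlgebra
    haveI : Algebra.IsAlgebraic (Y.residueField (fA.base xA)) (P.residueField xA) :=
      isAlgebraic_of_surjective _ hsurj
    exact trdeg_eq_zero
  change _ < td (fA.residueFieldMap xA).hom at hlt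
  rw [h0] at hlt
  exact not_lt_zero hlt

theorem ringKrullDim_stalk_Spec_le_one (A : Type u) [CommRing A] [IsDomain A]
    [IsDiscreteValuationRing A] (p : Spec (CommRingCat.of A)) :
    ringKrullDim ((Spec (CommRingCat.of A)).presheaf.stalk p) ≤ 1 := by
  rw [ringKrullDim_stalk_eq_height (isAffineOpen_top (Spec (CommRingCat.of A))) p trivial]
  refine (Ideal.height_le_ringKrullDim_of_ne_top ?_).trans ?_
  · exact ((isAffineOpen_top (Spec (CommRingCat.of A))).primeIdealOf ⟨p, trivial⟩).isPrime.ne_top
  · rw [ringKrullDim_eq_of_ringEquiv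
      (Scheme.ΓSpecIso (CommRingCat.of A)).commRingCatIsoToRingEquiv]
    exact (IsDiscreteValuationRing.ringKrullDim_eq_one A).le

theorem exists_dvr_section (A : Type u) [CommRing A] [IsDomain A] [IsDiscreteValuationRing A]
    [IsAdicComplete (maximalIdeal A) A] {P : Scheme.{u}} (fA : P ⟶ Spec (CommRingCat.of A))
    [LocallyOfFiniteType fA] (xA : P) (hxA : fA.base xA = closedPoint A)
    (hopen : EGA43.IsOpenAt fA.base xA)
    (hsurj : Function.Surjective (fA.residueFieldMap xA).hom) :
    ∃ (B : Type u) (_ : CommRing B) (_ : IsDomain B) (_ : IsDiscreteValuationRing B)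
      (_ : Algebra A B) (vP : Spec (CommRingCat.of B) ⟶ P),
      Module.Finite A B ∧ Function.Injective (algebraMap A B) ∧
      vP ≫ fA = Spec.map (CommRingCat.ofHom (algebraMap A B)) ∧ vP.base (closedPoint B) = xA := by
  -- a generization in the generic fibre
  obtain ⟨ξ, hξsp, hξgen⟩ := (Groth.Agent.S3404.result fA xA).1 hopen
    (genericPoint (Spec (CommRingCat.of A))) (genericPoint_specializes _)
  -- the closure of `ξ` with its reduced structure
  set Zc : TopologicalSpace.Closeds P := ⟨closure {ξ}, isClosed_closure⟩ with hZc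
  set ι := (Scheme.IdealSheafData.vanishingIdeal Zc).subschemeι with hι
  have hr : Set.range ι = closure {ξ} := by
    rw [hι, Scheme.IdealSheafData.range_subschemeι,
      Scheme.IdealSheafData.coe_support_vanishingIdeal]
    rfl
  haveI : IrreducibleSpace (Scheme.IdealSheafData.vanishingIdeal Zc).subscheme :=
    irreducibleSpace_of_closedImmersion ι ξ hr
  obtain ⟨w, hw⟩ : xA ∈ Set.range ι := by
    rw [hr]; exact hξsp.mem_closure
  obtain ⟨ξZ, hξZ⟩ : ξ ∈ Set.range ι := by rw [hr]; exact subset_closure rfl
  have hgp : genericPoint (Scheme.IdealSheafData.vanishingIdeal Zc).subscheme = ξZ := by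
    apply Groth.Agent.Lib.helper3.DimFibre.genericPoint_eq_of_forall_specializes
    intro z
    apply ι.isEmbedding.isInducing.specializes_iff.mp
    rw [hξZ, specializes_iff_mem_closure, ← hr]
    exact ⟨z, rfl⟩
  have hgen : (ι ≫ fA) (genericPoint (Scheme.IdealSheafData.vanishingIdeal Zc).subscheme) =
      genericPoint (Spec (CommRingCat.of A)) := by
    rw [hgp]
    change fA (ι ξZ) = _
    rw [hξZ]; exact hξgen
  have hEq := isEquidimAt_of_dim_le_one (ι ≫ fA) w (ringKrullDim_stalk_Spec_le_one A _) hgen
  have hclA := closed_in_fibre_of_surjective fA xA hsurj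
  have hclw : ∀ w' : (Scheme.IdealSheafData.vanishingIdeal Zc).subscheme,
      (ι ≫ fA).base w' = (ι ≫ fA).base w → w ⤳ w' → w' = w := by
    intro w' hfw' hsp
    have h1 : ι w' = xA := by
      apply hclA (ι w')
      · have : fA.base (ι w') = fA.base (ι w) := hfw'
        rw [this, hw]
      · rw [← hw]; exact hsp.map ι.continuous
    exact ι.isEmbedding.injective (h1.trans hw.symm)
  have hxw : (ι ≫ fA).base w = closedPoint A := by
    change fA.base (ι w) = _
    rw [hw]; exact hxA
  obtain ⟨A', _, _, hlocA', _, hfinA', hinjA', h, hh, -, t, ht⟩ :=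
    quasiSection_complete (ι ≫ fA) w hxw hEq hclw
  haveI := hlocA'
  haveI := hfinA'
  obtain ⟨B, _, _, _, _, _, _, hfinB, hinjB⟩ := exists_dvr_normalization A A' hinjA'
  haveI := hfinB
  set βc : CommRingCat.of A' ⟶ CommRingCat.of B := CommRingCat.ofHom (algebraMap A' B) with hβc
  set vP : Spec (CommRingCat.of B) ⟶ P := Spec.map βc ≫ h ≫ ι with hvP
  have hinjAB : Function.Injective (algebraMap A B) := by
    rw [IsScalarTower.algebraMap_eq A A' B]; exact hinjB.comp hinjA'
  refine ⟨B, inferInstance, inferInstance, inferInstance, inferInstance, vP, hfinB, hinjAB, ?_, ?_⟩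
  · rw [hvP, Category.assoc, Category.assoc, hh, ← Spec.map_comp]
    congr 1
    ext a
    exact (IsScalarTower.algebraMap_apply A A' B a).symm
  · have ht' : t = closedPoint A' := by
      have h1 : (Spec.map (CommRingCat.ofHom (algebraMap A A'))).base t = closedPoint A := by
        rw [← hh, Scheme.Hom.comp_apply, ht]; exact hxw
      have h2 : t.asIdeal.comap (algebraMap A A') = maximalIdeal A :=
        congrArg PrimeSpectrum.asIdeal h1
      haveI : Algebra.IsIntegral A A' := Algebra.IsIntegral.of_finite A A'
      have h3 : t.asIdeal.IsMaximal :=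
        Ideal.isMaximal_of_isIntegral_of_isMaximal_comap t.asIdeal (by
          rw [h2]; exact maximalIdeal.isMaximal A)
      exact PrimeSpectrum.ext (IsLocalRing.eq_maximalIdeal h3)
    have hcp : (Spec.map βc).base (closedPoint B) = closedPoint A' := by
      haveI : Module.Finite A' B := Module.Finite.of_restrictScalars_finite A A' B
      haveI : Algebra.IsIntegral A' B := Algebra.IsIntegral.of_finite A' B
      haveI : FaithfulSMul A' B := (faithfulSMul_iff_algebraMap_injective A' B).mpr hinjB
      haveI : IsLocalHom βc.hom := inferInstanceAs (IsLocalHom (algebraMap A' B))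
      exact Spec_closedPoint
    rw [hvP, Scheme.Hom.comp_apply, Scheme.Hom.comp_apply, hcp, ← ht', ht, hw]

end Groth.Agent.Lib.helper9.DvrLift
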