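import Mathlib
import Groth.Prelude.Def_EGA43
import Groth.Agent.Lib.Helper9.DvrLift4
import Groth.Agent.Lib.Helper9.DvrLift5
import Groth.Agent.Lib.Helper9.DvrLift6
import Groth.Agent.Lib.Helper3.FibreField

/-!
# DVR lifting criterion for universal openness (helper9), part 7: necessity and EGA IV 14.5.8
-/

set_option autoImplicit false
set_option linter.style.haveILetI false
set_option backward.isDefEq.respectTransparency false

namespace Groth.Agent.Lib.helper9.DvrLift

open AlgebraicGeometry CategoryTheory Limits IsLocalRing Topology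

universe u

/-- **Necessity.** -/
theorem lifting_of_isUnivOpenAt {X Y : Scheme.{u}} (f : X ⟶ Y) [LocallyOfFiniteType f] (x : X)
    (h : EGA43.IsUnivOpenAt f x) : Lifting f x := by
  intro A _ _ _ _ _ g hg u₀ hu₀ hxu₀
  set resc : CommRingCat.of A ⟶ CommRingCat.of (ResidueField A) :=
    CommRingCat.ofHom (residue A) with hresc
  set uP : Spec (CommRingCat.of (ResidueField A)) ⟶ pullback f g :=
    pullback.lift u₀ (Spec.map resc) hu₀ with huP
  have huP1 : uP ≫ pullback.fst f g = u₀ := pullback.lift_fst _ _ _
  have huP2 : uP ≫ pullback.snd f g = Spec.map resc := pullback.lift_snd _ _ _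
  have hsub : ∀ p q : ↥(Spec (CommRingCat.of (ResidueField A))), p = q :=
    fun p q => Subsingleton.elim _ _
  set cpk : ↥(Spec (CommRingCat.of (ResidueField A))) := closedPoint (ResidueField A) with hcpk
  set xA := uP.base cpk with hxA
  have hfst : (pullback.fst f g).base xA = x := by
    obtain ⟨p, hp⟩ := hxu₀
    rw [hxA, ← Scheme.Hom.comp_apply, huP1, hsub cpk p]
    exact hp
  haveI : IsLocalHom resc.hom := inferInstanceAs (IsLocalHom (residue A))
  have hsnd : (pullback.snd f g).base xA = closedPoint A := by
    rw [hxA, ← Scheme.Hom.comp_apply, huP2]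
    exact Spec_closedPoint
  have hopen : EGA43.IsOpenAt (pullback.snd f g).base xA := h _ g xA hfst
  have hsurj : Function.Surjective ((pullback.snd f g).residueFieldMap xA).hom := by
    have h1 : Function.Surjective ((uP ≫ pullback.snd f g).residueFieldMap cpk).hom := by
      rw [huP2]
      haveI : IsClosedImmersion (Spec.map resc) :=
        IsClosedImmersion.spec_of_surjective resc residue_surjective
      exact Groth.Agent.Lib.helper3.FibreField.residueFieldMap_surjective (Spec.map resc) cpk
    rw [Scheme.residueFieldMap_comp] at h1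
    intro y
    obtain ⟨z, hz⟩ := h1 ((uP.residueFieldMap cpk).hom y)
    exact ⟨z, (uP.residueFieldMap cpk).hom.injective hz⟩
  obtain ⟨B, _, _, _, _, vP, hfinB, hinjB, hvP, hvPcl⟩ :=
    exists_dvr_section A (pullback.snd f g) xA hsnd hopen hsurj
  haveI := hfinB
  haveI : Algebra.IsIntegral A B := Algebra.IsIntegral.of_finite A B
  haveI : FaithfulSMul A B := (faithfulSMul_iff_algebraMap_injective A B).mpr hinjB
  have hloc : IsLocalHom (algebraMap A B) := inferInstance
  set φ : A →+* B := algebraMap A B with hφ
  have hsurj' : ∀ p : ↥(pullback f g), p = xA →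
      Function.Surjective ((pullback.snd f g).residueFieldMap p).hom := by
    rintro p rfl
    exact hsurj
  haveI : IsLocalHom (CommRingCat.ofHom (residue B)).hom := inferInstanceAs (IsLocalHom (residue B))
  have hptL : (Spec.map (CommRingCat.ofHom (ResidueField.map φ)) ≫ uP).base
      (closedPoint (ResidueField B)) = xA := by
    rw [Scheme.Hom.comp_apply, hxA]
    exact congrArg uP.base (hsub _ _)
  have hptR : (Spec.map (CommRingCat.ofHom (residue B)) ≫ vP).base
      (closedPoint (ResidueField B)) = xA := by
    rw [Scheme.Hom.comp_apply, ← hvPcl]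
    exact congrArg vP.base Spec_closedPoint
  have key : Spec.map (CommRingCat.ofHom (ResidueField.map φ)) ≫ uP =
      Spec.map (CommRingCat.ofHom (residue B)) ≫ vP := by
    apply eq_of_comp_eq_of_apply_eq (pullback.snd f g)
    · exact hptL.trans hptR.symm
    · rw [Category.assoc, Category.assoc, huP2, hvP, ← Spec.map_comp, ← Spec.map_comp]
      congr 1
    · exact hsurj' _ hptL
  refine ⟨CommRingCat.of B, inferInstanceAs (IsDomain B),
    inferInstanceAs (IsDiscreteValuationRing B), φ, hloc, vP ≫ pullback.fst f g, ?_, ?_, ?_⟩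
  · exact RingHom.finite_algebraMap.mpr hfinB
  · rw [Category.assoc, pullback.condition, ← Category.assoc, hvP]
  · rw [← huP1, ← Category.assoc, key, Category.assoc]

/-- **EGA IV 14.5.8.** -/
theorem isUnivOpenAt_iff_lifting {X Y : Scheme.{u}} [IsLocallyNoetherian Y] (f : X ⟶ Y)
    [LocallyOfFiniteType f] (x : X) : EGA43.IsUnivOpenAt f x ↔ Lifting f x :=
  ⟨lifting_of_isUnivOpenAt f x, isUnivOpenAt_of_lifting f x⟩

end Groth.Agent.Lib.helper9.DvrLift
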