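import Mathlib
import Groth.Prelude.Def_EssEt

/-!
# Basic properties of essentially étale local algebras (helper9)

`EGA4loc.IsEssentiallyEtale A E` implies that `E` is flat, essentially of finite type, formally
unramified and quasi-finite over `A`.
-/

set_option autoImplicit false
set_option linter.style.haveILetI false

universe u

namespace Groth.Agent.Lib.helper9.EssEtBasic

variable (A E : Type u) [CommRing A] [IsLocalRing A] [CommRing E] [Algebra A E]

theorem essFiniteType_of_isEssentiallyEtale (hE : EGA4loc.IsEssentiallyEtale A E) :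
    Algebra.EssFiniteType A E := by
  obtain ⟨C, _, _, q, _, hC, hq, ⟨e⟩⟩ := hE
  haveI : Algebra.Etale A C := hC
  have h3 : Algebra.EssFiniteType C (Localization.AtPrime q) :=
    Algebra.EssFiniteType.of_isLocalization _ q.primeCompl
  have h4 : Algebra.EssFiniteType A (Localization.AtPrime q) :=
    Algebra.EssFiniteType.comp A C _
  exact (Algebra.EssFiniteType.iff_of_algEquiv e).2 h4

theorem formallyUnramified_of_isEssentiallyEtale (hE : EGA4loc.IsEssentiallyEtale A E) :
    Algebra.FormallyUnramified A E := by
  obtain ⟨C, _, _, q, _, hC, hq, ⟨e⟩⟩ := hE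
  haveI : Algebra.Etale A C := hC
  have h1 : Algebra.FormallyUnramified C (Localization.AtPrime q) :=
    Algebra.FormallyUnramified.of_isLocalization q.primeCompl
  have h2 : Algebra.FormallyUnramified A (Localization.AtPrime q) :=
    Algebra.FormallyUnramified.comp A C _
  exact Algebra.FormallyUnramified.of_equiv e.symm

theorem flat_of_isEssentiallyEtale (hE : EGA4loc.IsEssentiallyEtale A E) : Module.Flat A E := by
  obtain ⟨C, _, _, q, _, hC, hq, ⟨e⟩⟩ := hE
  haveI : Algebra.Etale A C := hC
  haveI : Module.Flat A C := inferInstance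
  haveI : Module.Flat A (Localization.AtPrime q) := Module.Flat.trans A C _
  exact Module.Flat.of_linearEquiv e.toLinearEquiv

theorem quasiFinite_of_isEssentiallyEtale (hE : EGA4loc.IsEssentiallyEtale A E) :
    Algebra.QuasiFinite A E := by
  haveI := essFiniteType_of_isEssentiallyEtale A E hE
  haveI := formallyUnramified_of_isEssentiallyEtale A E hE
  infer_instance

/-- Transport of `IsEssentiallyEtale` along an `A`-algebra isomorphism. -/
theorem isEssentiallyEtale_of_algEquiv {E' : Type u} [CommRing E'] [Algebra A E']
    (hE : EGA4loc.IsEssentiallyEtale A E) (ε : E ≃ₐ[A] E') : EGA4loc.IsEssentiallyEtale A E' := by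
  obtain ⟨C, i1, i2, q, i3, hC, hq, ⟨e⟩⟩ := hE
  exact ⟨C, i1, i2, q, i3, hC, hq, ⟨ε.symm.trans e⟩⟩

end Groth.Agent.Lib.helper9.EssEtBasic
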