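import Mathlib
import Groth.Prelude.Def_Hensel
import Groth.Prelude.Def_EssEt
import Groth.Agent.Lib.Helper24.HensStage
import Groth.Agent.Lib.Helper9.GeomBranchCount1
import Groth.Agent.Lib.Helper9.EssEtBasic1

/-!
# A strict henselization as a directed union of essentially étale local subalgebras (helper9)

For a strict henselization `S` of a local ring `A` and an `A`-isomorphism `ε : SH A ≃ₐ[A] S`, the
images `stageSub ε i` of the stages `i.G` of the standard strict henselization form a directed
family of `A`-subalgebras of `S` which are local rings, essentially étale over `A`, dominated by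
`S`, over which `S` is faithfully flat, and whose union is `S`.
-/

set_option autoImplicit false
set_option linter.style.haveILetI false

universe u

noncomputable section

namespace Groth.Agent.Lib.helper9.StageSub

open IsLocalRing
open Groth.Agent.Lib.Helper24.StrictHens Groth.Agent.Lib.Helper24.StrictHens.SIdx
  Groth.Agent.Lib.Helper24.HensStage

variable {A : Type u} [CommRing A] [IsLocalRing A] {S : Type u} [CommRing S] [Algebra A S]

/-- The stage map `i.G → SH A` as an `A`-algebra homomorphism. -/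
def ofSAlg (i : SIdx A (Ωstd A)) : i.G →ₐ[A] SH A :=
  { toRingHom := ofS i
    commutes' := fun a => (algebraMap_eq i a).symm }

theorem ofSAlg_apply (i : SIdx A (Ωstd A)) (x : i.G) : ofSAlg i x = ofS i x := rfl

theorem ofS_injective (i : SIdx A (Ωstd A)) : Function.Injective (ofS (A := A) i) := by
  let _ : Algebra i.G (SHens A (Ωstd A)) := stageAlgebra i
  have h := faithfullyFlat_stage (A := A) (Ω := Ωstd A) i
  exact FaithfulSMul.algebraMap_injective i.G (SHens A (Ωstd A))

/-- The stage map into an arbitrary strict henselization. -/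
def stageHom (ε : SH A ≃ₐ[A] S) (i : SIdx A (Ωstd A)) : i.G →ₐ[A] S :=
  (ε : SH A →ₐ[A] S).comp (ofSAlg i)

theorem stageHom_apply (ε : SH A ≃ₐ[A] S) (i : SIdx A (Ωstd A)) (x : i.G) :
    stageHom ε i x = ε (ofS i x) := rfl

theorem stageHom_injective (ε : SH A ≃ₐ[A] S) (i : SIdx A (Ωstd A)) :
    Function.Injective (stageHom ε i) :=
  ε.injective.comp (ofS_injective i)

/-- The image of a stage in `S`. -/
def stageSub (ε : SH A ≃ₐ[A] S) (i : SIdx A (Ωstd A)) : Subalgebra A S := (stageHom ε i).range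

/-- The stage is isomorphic to its image. -/
def stageEquiv (ε : SH A ≃ₐ[A] S) (i : SIdx A (Ωstd A)) : i.G ≃ₐ[A] stageSub ε i :=
  AlgEquiv.ofInjective (stageHom ε i) (stageHom_injective ε i)

theorem stageEquiv_apply (ε : SH A ≃ₐ[A] S) (i : SIdx A (Ωstd A)) (x : i.G) :
    ((stageEquiv ε i x : stageSub ε i) : S) = stageHom ε i x := rfl

/-- Finitely many elements of `S` lie in a common stage. -/
theorem exists_stage_finset (ε : SH A ≃ₐ[A] S) (F : Finset S) :
    ∃ i : SIdx A (Ωstd A), ∀ z ∈ F, z ∈ stageSub ε i := by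
  classical
  obtain ⟨k, hk⟩ := Groth.Agent.Lib.helper9.GeomBranchCount.exists_ofS_finset
    (A := A) (Ω := Ωstd A) (F.image ε.symm)
  refine ⟨k, fun z hz => ?_⟩
  obtain ⟨y, hy⟩ := hk (ε.symm z) (Finset.mem_image_of_mem _ hz)
  refine ⟨y, ?_⟩
  show ε (ofS k y) = z
  rw [hy, ε.apply_symm_apply]

/-- Stages are essentially étale. -/
theorem isEssentiallyEtale_stage (i : SIdx A (Ωstd A)) : EGA4loc.IsEssentiallyEtale A i.G := by
  refine ⟨i.C, inferInstance, inferInstance, i.q, inferInstance, inferInstance, ?_,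
    ⟨AlgEquiv.refl⟩⟩
  ext a
  rw [Ideal.mem_comap, mem_q, AlgHom.commutes, algebraMap_Ω_eq_zero_iff]

theorem isEssentiallyEtale_stageSub (ε : SH A ≃ₐ[A] S) (i : SIdx A (Ωstd A)) :
    EGA4loc.IsEssentiallyEtale A (stageSub ε i) :=
  Groth.Agent.Lib.helper9.EssEtBasic.isEssentiallyEtale_of_algEquiv A i.G
    (isEssentiallyEtale_stage i) (stageEquiv ε i)

theorem isLocalRing_stageSub (ε : SH A ≃ₐ[A] S) (i : SIdx A (Ωstd A)) :
    IsLocalRing (stageSub ε i) :=
  (stageEquiv ε i).toRingEquiv.isLocalRing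

/-- An element of a stage which is a unit in `S` has its inverse in the stage. -/
theorem exists_inv_mem_stageSub (ε : SH A ≃ₐ[A] S) (i : SIdx A (Ωstd A)) (e : S)
    (he : e ∈ stageSub ε i) (hu : IsUnit e) : ∃ e' ∈ stageSub ε i, e * e' = 1 := by
  obtain ⟨x, rfl⟩ := (AlgHom.mem_range _).1 he
  have h1 : IsUnit (ofS i x) := by
    have : ofS i x = ε.symm (stageHom ε i x) := by
      rw [stageHom_apply, ε.symm_apply_apply]
    rw [this]
    exact hu.map ε.symm
  have h2 : IsUnit x := (isUnit_ofS_iff i x).1 h1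
  obtain ⟨x', hx'⟩ := h2.exists_right_inv
  refine ⟨stageHom ε i x', ⟨x', rfl⟩, ?_⟩
  rw [← map_mul, hx', map_one]

/-- Divisibility in `S` between elements of a stage descends to the stage (faithful flatness). -/
theorem exists_mul_eq_of_mem_stageSub (ε : SH A ≃ₐ[A] S) (i : SIdx A (Ωstd A)) (e n : S)
    (he : e ∈ stageSub ε i) (hn : n ∈ stageSub ε i) (s : S) (hs : n = e * s) :
    ∃ s' ∈ stageSub ε i, n = e * s' := by
  obtain ⟨x, rfl⟩ := (AlgHom.mem_range _).1 he
  obtain ⟨y, rfl⟩ := (AlgHom.mem_range _).1 hn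
  let _ : Algebra i.G (SHens A (Ωstd A)) := stageAlgebra i
  have hff := faithfullyFlat_stage (A := A) (Ω := Ωstd A) i
  have h2 : ofS i y ∈ (Ideal.span ({x} : Set i.G)).map
      (algebraMap i.G (SHens A (Ωstd A))) := by
    rw [Ideal.map_span, Set.image_singleton, Ideal.mem_span_singleton']
    refine ⟨ε.symm s, ?_⟩
    show ε.symm s * ofS i x = ofS i y
    have : ofS i y = ε.symm (stageHom ε i y) := by
      rw [stageHom_apply, ε.symm_apply_apply]
    rw [this, hs, map_mul, stageHom_apply, ε.symm_apply_apply, mul_comm]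
  have h3 : y ∈ Ideal.span ({x} : Set i.G) := by
    rw [← Ideal.comap_map_eq_self_of_faithfullyFlat (B := SHens A (Ωstd A))
      (Ideal.span ({x} : Set i.G))]
    exact h2
  obtain ⟨z, hz⟩ := Ideal.mem_span_singleton'.1 h3
  refine ⟨stageHom ε i z, ⟨z, rfl⟩, ?_⟩
  rw [← map_mul, mul_comm, hz]

end Groth.Agent.Lib.helper9.StageSub
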