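import Mathlib
import Groth.Agent.Lib.Helper9.StageSub1

/-!
# Local maps from essentially étale local algebras into the strict henselization are injective
(helper9)

* `injective_of_etale_localization`: for an étale `A`-algebra `C` and a prime `q` of `C`, every local
  `A`-algebra map `C_q → SH A` is injective (it is identified with a stage map).
* `exists_etale_surjection_of_formallyUnramified`: a local `A`-algebra `D`, essentially of finite
  type and formally unramified over the local ring `A`, is a quotient of the localisation of an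
  étale `A`-algebra at a prime above the maximal ideal (local structure of unramified algebras).
-/

set_option autoImplicit false
set_option linter.style.haveILetI false

universe u

noncomputable section

namespace Groth.Agent.Lib.helper9.EssEtInj

open IsLocalRing
open Groth.Agent.Lib.Helper24.StrictHens Groth.Agent.Lib.Helper24.StrictHens.SIdx
  Groth.Agent.Lib.Helper24.HensStage Groth.Agent.Lib.helper24.HenselLocal
  Groth.Agent.Lib.helper9.StageSub

variable {A : Type u} [CommRing A] [IsLocalRing A]

theorem injective_of_etale_localization (C : Type u) [CommRing C] [Algebra A C]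
    [Algebra.Etale A C] (q : Ideal C) [q.IsPrime]
    (ψ : Localization.AtPrime q →ₐ[A] SH A) (hψ : ∀ x, IsUnit (ψ x) → IsUnit x) :
    Function.Injective ψ := by
  -- the character of `C`
  let χ : C →ₐ[A] Ωstd A :=
    { toRingHom := (χS (A := A) (Ω := Ωstd A)).comp
        (ψ.toRingHom.comp (algebraMap C (Localization.AtPrime q)))
      commutes' := by
        intro a
        show χS (ψ (algebraMap C (Localization.AtPrime q) (algebraMap A C a))) = _
        rw [← IsScalarTower.algebraMap_apply A C (Localization.AtPrime q), ψ.commutes,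
          χS_algebraMap] }
  have hχ : ∀ c, χ c = χS (ψ (algebraMap C (Localization.AtPrime q) c)) := fun _ => rfl
  obtain ⟨k, u, hku, hub⟩ := exists_sidx_of_character (A := A) (Ω := Ωstd A) C χ
  have hku' : ∀ c, k.χ (u c) = χ c := fun c =>
    congrArg (fun F : C →ₐ[A] Ωstd A => F c) hku
  let f₁ : C →ₐ[A] SH A := (ofSAlg k).comp ((IsScalarTower.toAlgHom A k.C k.G).comp u)
  let f₂ : C →ₐ[A] SH A := ψ.comp (IsScalarTower.toAlgHom A C (Localization.AtPrime q))
  have hf₁ : ∀ c, f₁ c = ofS k (algebraMap k.C k.G (u c)) := fun _ => rfl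
  have hf₂ : ∀ c, f₂ c = ψ (algebraMap C (Localization.AtPrime q) c) := fun _ => rfl
  have hff : f₁ = f₂ := by
    apply algHom_ext_of_residue
    intro c
    rw [← χS_eq_zero_iff, map_sub, sub_eq_zero, hf₁, hf₂, χS_ofS, χG_algebraMap, hku', hχ]
  -- non-membership transfer
  have hnot : ∀ t' : C, u t' ∉ k.q → t' ∉ q := by
    intro t' ht hq
    apply ht
    rw [mem_q, hku', hχ, χS_eq_zero_iff]
    intro hunit
    have h1 : IsUnit (algebraMap C (Localization.AtPrime q) t') := hψ _ hunit
    rw [IsLocalization.AtPrime.isUnit_to_map_iff (Localization.AtPrime q) q] at h1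
    exact h1 hq
  rw [injective_iff_map_eq_zero]
  intro x hx
  obtain ⟨c, s, rfl⟩ := IsLocalization.exists_mk'_eq q.primeCompl x
  have h1 : ψ (algebraMap C (Localization.AtPrime q) c) = 0 := by
    have : algebraMap C (Localization.AtPrime q) c =
        IsLocalization.mk' (Localization.AtPrime q) c s *
          algebraMap C (Localization.AtPrime q) s := by
      rw [IsLocalization.mk'_spec]
    rw [this, map_mul, hx, zero_mul]
  have h2 : ofS k (algebraMap k.C k.G (u c)) = 0 := by
    rw [← hf₁, hff, hf₂, h1]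
  have h3 : algebraMap k.C k.G (u c) = 0 := by
    apply ofS_injective k
    rw [h2, map_zero]
  obtain ⟨t, ht⟩ := (IsLocalization.map_eq_zero_iff k.q.primeCompl k.G (u c)).1 h3
  obtain ⟨t', ht'⟩ := hub.2 (t : k.C)
  have h4 : t' * c = 0 := by
    apply hub.1
    rw [map_mul, ht', map_zero]
    exact ht
  have h5 : t' ∉ q := hnot t' (by rw [ht']; exact t.2)
  rw [IsLocalization.mk'_eq_zero_iff]
  exact ⟨⟨t', h5⟩, h4⟩

/-- Local structure of unramified local algebras: a local `A`-algebra `D`, essentially of finite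
type and formally unramified over the local ring `A` (with local structure map), is a quotient of
the localisation of an étale `A`-algebra at a prime lying over the maximal ideal of `A`. -/
theorem exists_etale_surjection_of_formallyUnramified (D : Type u) [CommRing D] [IsLocalRing D]
    [Algebra A D] [IsLocalHom (algebraMap A D)] [Algebra.EssFiniteType A D]
    [Algebra.FormallyUnramified A D] :
    ∃ (C : Type u) (_ : CommRing C) (_ : Algebra A C) (q : Ideal C) (_ : q.IsPrime),
      Algebra.Etale A C ∧ q.comap (algebraMap A C) = maximalIdeal A ∧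
      ∃ ψ : Localization.AtPrime q →ₐ[A] D, Function.Surjective ψ ∧
        ∀ x, IsUnit (ψ x) → IsUnit x := by
  classical
  obtain ⟨σ, hσ⟩ := (Algebra.essFiniteType_iff A D).1 ‹Algebra.EssFiniteType A D›
  obtain ⟨D₀, hD₀⟩ : ∃ D₀ : Subalgebra A D, D₀ = Algebra.adjoin A (σ : Set D) := ⟨_, rfl⟩
  rw [← hD₀] at hσ
  haveI hft : Algebra.FiniteType A D₀ := by
    rw [← Subalgebra.fg_iff_finiteType, hD₀]
    exact ⟨σ, rfl⟩
  let Q : Ideal D₀ := (maximalIdeal D).comap (algebraMap D₀ D)
  haveI hQ : Q.IsPrime := Ideal.IsPrime.comap _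
  have hQmem : ∀ y : D₀, y ∈ Q ↔ ¬ IsUnit (y : D) := by
    intro y
    show (algebraMap D₀ D y) ∈ maximalIdeal D ↔ _
    rw [mem_maximalIdeal, mem_nonunits_iff]
    rfl
  -- `D` is the localisation of `D₀` at `Q`
  haveI hloc : IsLocalization.AtPrime D Q := by
    show IsLocalization Q.primeCompl D
    rw [isLocalization_iff]
    refine ⟨?_, ?_, ?_⟩
    · intro y
      by_contra hnu
      exact y.2 ((hQmem y.1).2 hnu)
    · intro z
      obtain ⟨t, ht, htu, hzt⟩ := hσ z
      refine ⟨(⟨z * t, hzt⟩, ⟨⟨t, ht⟩, ?_⟩), rfl⟩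
      show (⟨t, ht⟩ : D₀) ∉ Q
      rw [hQmem]
      exact fun h => h htu
    · intro x y hxy
      refine ⟨1, ?_⟩
      rw [Subtype.ext hxy]
  let e : D ≃ₐ[A] Localization.AtPrime Q :=
    (IsLocalization.algEquiv Q.primeCompl D (Localization.AtPrime Q)).restrictScalars A
  haveI hunr : Algebra.IsUnramifiedAt A Q := Algebra.FormallyUnramified.of_equiv e
  obtain ⟨f, hfQ, P, φ, hφ⟩ :=
    Algebra.IsUnramifiedAt.exists_hasStandardEtaleSurjectionOn (R := A) Q
  have hfu : IsUnit ((f : D₀) : D) := by
    by_contra hnu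
    exact hfQ ((hQmem f).2 hnu)
  have hpow : ∀ y : Submonoid.powers f, IsUnit ((IsScalarTower.toAlgHom A D₀ D) y) := by
    rintro ⟨y, n, rfl⟩
    show IsUnit (algebraMap D₀ D (f ^ n))
    rw [map_pow]
    exact hfu.pow n
  let lam : Localization.Away f →ₐ[A] D :=
    IsLocalization.liftAlgHom (M := Submonoid.powers f) (S := Localization.Away f)
      (f := IsScalarTower.toAlgHom A D₀ D) hpow
  have hlam : ∀ y : D₀, lam (algebraMap D₀ (Localization.Away f) y) = (y : D) := fun y =>
    IsLocalization.lift_eq _ y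
  let ψ₀ : P.Ring →ₐ[A] D := lam.comp φ
  let q' : Ideal P.Ring := (maximalIdeal D).comap ψ₀.toRingHom
  haveI hq' : q'.IsPrime := Ideal.IsPrime.comap _
  have hq'mem : ∀ p : P.Ring, p ∈ q' ↔ ¬ IsUnit (ψ₀ p) := by
    intro p
    show ψ₀ p ∈ maximalIdeal D ↔ _
    rw [mem_maximalIdeal, mem_nonunits_iff]
  have hunits : ∀ y : q'.primeCompl, IsUnit (ψ₀ y) := by
    intro y
    by_contra hnu
    exact y.2 ((hq'mem y.1).2 hnu)
  let ψ : Localization.AtPrime q' →ₐ[A] D :=
    IsLocalization.liftAlgHom (M := q'.primeCompl) (S := Localization.AtPrime q')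
      (f := ψ₀) hunits
  have hψ : ∀ p : P.Ring, ψ (algebraMap P.Ring (Localization.AtPrime q') p) = ψ₀ p := fun p =>
    IsLocalization.lift_eq _ p
  refine ⟨P.Ring, inferInstance, inferInstance, q', hq', inferInstance, ?_, ψ, ?_, ?_⟩
  · ext a
    rw [Ideal.mem_comap, hq'mem, AlgHom.commutes, mem_maximalIdeal, mem_nonunits_iff,
      isUnit_map_iff]
  · intro d
    obtain ⟨t, ht, htu, hdt⟩ := hσ d
    obtain ⟨p₁, hp₁⟩ := hφ (algebraMap D₀ (Localization.Away f) ⟨t, ht⟩)
    obtain ⟨p₂, hp₂⟩ := hφ (algebraMap D₀ (Localization.Away f) ⟨d * t, hdt⟩)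
    have h1 : ψ₀ p₁ = t := by
      show lam (φ p₁) = t
      rw [hp₁, hlam]
    have h2 : ψ₀ p₂ = d * t := by
      show lam (φ p₂) = d * t
      rw [hp₂, hlam]
    have hp₁q : p₁ ∉ q' := by
      rw [hq'mem, h1]
      exact fun h => h htu
    refine ⟨IsLocalization.mk' (Localization.AtPrime q') p₂ (⟨p₁, hp₁q⟩ : q'.primeCompl), ?_⟩
    have h3 : ψ (IsLocalization.mk' (Localization.AtPrime q') p₂ (⟨p₁, hp₁q⟩ : q'.primeCompl)) *
        ψ (algebraMap P.Ring (Localization.AtPrime q') p₁) =
        ψ (algebraMap P.Ring (Localization.AtPrime q') p₂) := by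
      rw [← map_mul]
      congr 1
      exact IsLocalization.mk'_spec _ p₂ (⟨p₁, hp₁q⟩ : q'.primeCompl)
    rw [hψ, hψ, h1, h2] at h3
    exact htu.mul_left_injective h3
  · intro x hx
    obtain ⟨c, s, rfl⟩ := IsLocalization.exists_mk'_eq q'.primeCompl x
    have h3 : ψ (IsLocalization.mk' (Localization.AtPrime q') c s) *
        ψ (algebraMap P.Ring (Localization.AtPrime q') s) =
        ψ (algebraMap P.Ring (Localization.AtPrime q') c) := by
      rw [← map_mul]
      congr 1
      exact IsLocalization.mk'_spec _ c s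
    rw [hψ, hψ] at h3
    have h4 : IsUnit (ψ₀ c) := by
      rw [← h3]
      exact hx.mul (hunits s)
    have h5 : c ∉ q' := by
      rw [hq'mem]
      exact fun h => h h4
    have h6 : IsUnit (algebraMap P.Ring (Localization.AtPrime q') c) :=
      IsLocalization.map_units (Localization.AtPrime q') (⟨c, h5⟩ : q'.primeCompl)
    have h7 : IsLocalization.mk' (Localization.AtPrime q') c s *
        algebraMap P.Ring (Localization.AtPrime q') s =
        algebraMap P.Ring (Localization.AtPrime q') c := IsLocalization.mk'_spec _ c s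
    exact isUnit_of_mul_isUnit_left (h7 ▸ h6)

end Groth.Agent.Lib.helper9.EssEtInj
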