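import Mathlib
import Groth.Agent.Lib.Helper9.EtChartSec1

/-!
# Smoothness at a section via étale charts carrying the section to the zero section (helper9)
-/

set_option autoImplicit false
set_option linter.style.haveILetI false
set_option backward.isDefEq.respectTransparency false

namespace Groth.Agent.Lib.helper9.EtChartSec

open AlgebraicGeometry CategoryTheory Limits AffineSpace

universe u

/-- an étale map to `Spec R[x₁..x_m]` gives an étale `homOfVector` to `𝔸(ULift (Fin m); Spec R)`. -/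
lemma etale_homOfVector_of_etale_Spec {R : Type u} [CommRing R] (m : ℕ) {V : Scheme.{u}}
    (π : V ⟶ Spec (CommRingCat.of (MvPolynomial (Fin m) R))) [Etale π] :
    Etale (homOfVector (n := ULift.{u} (Fin m)) (S := Spec (CommRingCat.of R))
      (π ≫ Spec.map (CommRingCat.ofHom (MvPolynomial.C (σ := Fin m) (R := R))))
      (fun k => π.appTop ((Scheme.ΓSpecIso (CommRingCat.of (MvPolynomial (Fin m) R))).inv
        (MvPolynomial.X k.down)))) := by
  let ρ : MvPolynomial (ULift.{u} (Fin m)) R ≃ₐ[R] MvPolynomial (Fin m) R :=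
    MvPolynomial.renameEquiv R Equiv.ulift
  let ρc : CommRingCat.of (MvPolynomial (ULift.{u} (Fin m)) R) ≅
      CommRingCat.of (MvPolynomial (Fin m) R) := ρ.toRingEquiv.toCommRingCatIso
  have key : homOfVector (n := ULift.{u} (Fin m)) (S := Spec (CommRingCat.of R))
      (π ≫ Spec.map (CommRingCat.ofHom (MvPolynomial.C (σ := Fin m) (R := R))))
      (fun k => π.appTop ((Scheme.ΓSpecIso (CommRingCat.of (MvPolynomial (Fin m) R))).inv
        (MvPolynomial.X k.down))) =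
      π ≫ Spec.map ρc.hom ≫ (SpecIso (ULift.{u} (Fin m)) (CommRingCat.of R)).inv := by
    symm
    refine AffineSpace.hom_ext ?_ (fun k => ?_)
    · rw [Category.assoc, Category.assoc, SpecIso_inv_over, homOfVector_over, ← Spec.map_comp]
      congr 2
      ext1
      ext r
      simp [ρc, ρ]
    · rw [homOfVector_appTop_coord, Scheme.Hom.comp_appTop, Scheme.Hom.comp_appTop,
        CommRingCat.comp_apply, CommRingCat.comp_apply, SpecIso_inv_appTop_coord,
        ← CommRingCat.comp_apply (Scheme.ΓSpecIso _).inv, ← Scheme.ΓSpecIso_inv_naturality,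
        CommRingCat.comp_apply]
      congr 2
      simp [ρc, ρ]
  rw [key]
  infer_instance

theorem mem_smoothLocus_of_chart {X Y : Scheme.{u}} (f : X ⟶ Y) [LocallyOfFinitePresentation f]
    (x : X) (U : Y.Opens) (V : X.Opens) (hxV : x ∈ V) (hVU : V ≤ f ⁻¹ᵁ U) (n : Type u) [Finite n]
    (v : n → Γ(V, ⊤)) (hE : Etale (homOfVector (f.resLE U V hVU) v)) : x ∈ f.smoothLocus := by
  haveI := smooth_affineSpace_over n (U : Scheme.{u})
  haveI : Smooth (f.resLE U V hVU) := by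
    rw [← homOfVector_over (f.resLE U V hVU) v]; infer_instance
  haveI : Smooth (V.ι ≫ f) := by
    rw [← Scheme.Hom.resLE_comp_ι f hVU]; infer_instance
  have h1 : (V.ι ≫ f).smoothLocus = ⊤ := Scheme.Hom.smoothLocus_eq_top _
  rw [← Scheme.Hom.preimage_smoothLocus_eq] at h1
  have : (⟨x, hxV⟩ : V) ∈ V.ι ⁻¹ᵁ f.smoothLocus := by rw [h1]; trivial
  exact this

theorem exists_chart_of_mem_smoothLocus {X Y : Scheme.{u}} (f : X ⟶ Y)
    [LocallyOfFinitePresentation f] (i : Y ⟶ X) (hi : i ≫ f = 𝟙 Y) (y : Y)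
    (hy : i.base y ∈ f.smoothLocus) :
    ∃ (U : Y.Opens) (V : X.Opens) (_ : y ∈ U) (hUV : U ≤ i ⁻¹ᵁ V) (hVU : V ≤ f ⁻¹ᵁ U) (m : ℕ)
      (v : ULift.{u} (Fin m) → Γ(V, ⊤)),
      Etale (AffineSpace.homOfVector (f.resLE U V hVU) v) ∧
        ∀ j, (i.resLE V U hUV).appTop (v j) = 0 := by
  have hfi : ∀ z : Y, f.base (i.base z) = z := fun z => by
    have := congrArg (fun g => g.base z) hi
    simpa using this
  let W₀ := f.smoothLocus
  let q : (W₀ : Scheme.{u}) ⟶ Y := W₀.ι ≫ f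
  haveI : Smooth q := Scheme.Hom.smoothLocus_eq_top_iff.mp (by
    rw [← Scheme.Hom.preimage_smoothLocus_eq]
    ext z
    simp)
  obtain ⟨S', hS', W, hW, hxW, hWS', m, π, hπ, hcomp⟩ :=
    SmoothExt.exists_etale_chart q ⟨i.base y, hy⟩
  let V₁ : X.Opens := W₀.ι ''ᵁ W
  let e := W₀.ι.isoImage W
  have he : e.inv ≫ W.ι ≫ W₀.ι = V₁.ι := W₀.ι.isoImage_inv_ι W
  let π' : (V₁ : Scheme.{u}) ⟶ Spec (CommRingCat.of (MvPolynomial (Fin m) Γ(Y, S'))) := e.inv ≫ π
  haveI : Etale π' := inferInstance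
  have hV₁S' : V₁ ≤ f ⁻¹ᵁ S' := by
    rintro _ ⟨w, hw, rfl⟩
    exact hWS' hw
  have hg₁ : (π' ≫ Spec.map (CommRingCat.ofHom (MvPolynomial.C (σ := Fin m) (R := Γ(Y, S'))))) ≫
      hS'.isoSpec.inv = f.resLE S' V₁ hV₁S' := by
    rw [← cancel_mono S'.ι, Scheme.Hom.resLE_comp_ι, Category.assoc, Category.assoc,
      IsAffineOpen.isoSpec_inv_ι, Category.assoc, hcomp, ← he]
    simp [q]
  have hE₁ := etale_homOfVector_of_etale_Spec m π'
  let v₁ : ULift.{u} (Fin m) → Γ(V₁, ⊤) := fun k => π'.appTop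
    ((Scheme.ΓSpecIso (CommRingCat.of (MvPolynomial (Fin m) Γ(Y, S')))).inv (MvPolynomial.X k.down))
  haveI : Etale (homOfVector (f.resLE S' V₁ hV₁S') v₁) := by
    rw [← hg₁, ← homOfVector_comp_map]
    haveI : IsIso (map (ULift.{u} (Fin m)) hS'.isoSpec.inv) :=
      ⟨map _ hS'.isoSpec.hom, by rw [← map_comp, Iso.inv_hom_id, map_id],
        by rw [← map_comp, Iso.hom_inv_id, map_id]⟩
    infer_instance
  have hyV₁ : i.base y ∈ V₁ := ⟨⟨i.base y, hy⟩, hxW, rfl⟩
  have hyS' : y ∈ S' := by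
    have := hV₁S' hyV₁
    rwa [Scheme.Hom.mem_preimage, hfi] at this
  let U : Y.Opens := S' ⊓ i ⁻¹ᵁ V₁
  let V : X.Opens := V₁ ⊓ f ⁻¹ᵁ U
  have hyU : y ∈ U := ⟨hyS', hyV₁⟩
  have hUV : U ≤ i ⁻¹ᵁ V := fun z hz => ⟨hz.2, by
    show f.base (i.base z) ∈ U
    rw [hfi]; exact hz⟩
  have hVU : V ≤ f ⁻¹ᵁ U := inf_le_right
  let v₂ : ULift.{u} (Fin m) → Γ(V, ⊤) :=
    fun k => (X.homOfLE (inf_le_left : V ≤ V₁)).appTop (v₁ k)
  haveI hE₂ : Etale (homOfVector (f.resLE U V hVU) v₂) :=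
    etale_homOfVector_restrict (f.resLE S' V₁ hV₁S') v₁ (X.homOfLE (inf_le_left : V ≤ V₁))
      (Y.homOfLE (inf_le_left : U ≤ S')) (f.resLE U V hVU) (by
        rw [← cancel_mono S'.ι]
        simp [Scheme.Hom.resLE_comp_ι]
        rfl)
  let c : ULift.{u} (Fin m) → Γ(U, ⊤) := fun k => - (i.resLE V U hUV).appTop (v₂ k)
  have hE₃ := etale_homOfVector_translate (f.resLE U V hVU) v₂ c
  refine ⟨U, V, hyU, hUV, hVU, m, fun k => v₂ k + (f.resLE U V hVU).appTop (c k), hE₃,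
    fun k => ?_⟩
  have hif : i.resLE V U hUV ≫ f.resLE U V hVU = 𝟙 _ := by
    rw [← cancel_mono U.ι, Category.assoc, Scheme.Hom.resLE_comp_ι,
      Scheme.Hom.resLE_comp_ι_assoc, hi]
    simp
  have h2 : (i.resLE V U hUV).appTop ((f.resLE U V hVU).appTop (c k)) = c k := by
    rw [← CommRingCat.comp_apply, ← Scheme.Hom.comp_appTop, hif]
    simp
  show (i.resLE V U hUV).appTop (v₂ k + (f.resLE U V hVU).appTop (c k)) = 0
  rw [map_add, h2]
  exact add_neg_cancel _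

end Groth.Agent.Lib.helper9.EtChartSec
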