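/-
Helper library (helper9): a finite surjective morphism over a quasi-compact open of a qcqs scheme
extends to a finite surjective morphism over the whole scheme.
-/
import Groth.Agent.Lib.Helper9.ZMTFin6
import Groth.Agent.Lib.Helper9.ModelDescendGen

set_option autoImplicit false
set_option linter.style.haveILetI false
set_option backward.isDefEq.respectTransparency false

namespace Groth.Agent.Lib.helper9.FinExt

open AlgebraicGeometry CategoryTheory Limits

universe u

/-- The canonical map to the scheme-theoretic image of an open immersion is an open immersion. -/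
theorem isOpenImmersion_toImage {V T : Scheme.{u}} (j : V ⟶ T) [IsOpenImmersion j] :
    IsOpenImmersion j.toImage := by
  have sq : IsPullback (𝟙 V) j.toImage (j.toImage ≫ j.imageι) j.imageι :=
    isPullback_id_of_mono j.toImage j.imageι
  have h : IsOpenImmersion (j.toImage ≫ j.imageι) := by
    rw [Scheme.Hom.toImage_imageι]; infer_instance
  exact MorphismProperty.of_isPullback (P := @IsOpenImmersion) sq h

/-- A commutative square with an open immersion on top whose range is the preimage of the open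
below is cartesian. -/
theorem isPullback_of_opensRange_eq {V V' S : Scheme.{u}} (U : S.Opens) (i : V ⟶ V')
    [IsOpenImmersion i] (v : V ⟶ (U : Scheme.{u})) (π : V' ⟶ S) (comm : i ≫ π = v ≫ U.ι)
    (hr : i.opensRange = π ⁻¹ᵁ U) : IsPullback i v π U.ι := by
  have h0 : IsPullback (π ⁻¹ᵁ U).ι (π ∣_ U) π U.ι := (isPullback_morphismRestrict π U).flip
  have hrange : Set.range ⇑i = Set.range ⇑(π ⁻¹ᵁ U).ι := by
    rw [Scheme.Opens.range_ι, ← hr]; rfl
  let e : V ≅ ((π ⁻¹ᵁ U : V'.Opens) : Scheme.{u}) := IsOpenImmersion.isoOfRangeEq i (π ⁻¹ᵁ U).ι hrange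
  have he : e.hom ≫ (π ⁻¹ᵁ U).ι = i := IsOpenImmersion.isoOfRangeEq_hom_fac _ _ _
  have he' : e.hom ≫ (π ∣_ U) = v := by
    rw [← cancel_mono U.ι, Category.assoc, ← h0.w, reassoc_of% he, comm]
  exact IsPullback.of_iso h0 e.symm (Iso.refl _) (Iso.refl _) (Iso.refl _)
    (by simp [← he]) (by simp [← he']) (by simp) (by simp)

/-- **Extension of finite surjective morphisms** from a quasi-compact open of a qcqs scheme. -/
theorem exists_finite_extension {S V : Scheme.{u}} [CompactSpace S] [QuasiSeparatedSpace S]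
    (U : S.Opens) (hU : IsCompact (U : Set S)) (v : V ⟶ (U : Scheme.{u})) [IsFinite v]
    [Surjective v] :
    ∃ (V' : Scheme.{u}) (π : V' ⟶ S) (i : V ⟶ V'), Surjective π ∧ IsFinite π ∧
      IsPullback i v π U.ι := by
  haveI : CompactSpace ↥(U : Scheme.{u}) := isCompact_iff_compactSpace.mp hU
  haveI : QuasiCompact U.ι := inferInstance
  haveI : LocallyQuasiFinite (v ≫ U.ι) := inferInstance
  obtain ⟨T, j, π, hj1, hj2, hπ, hjπ⟩ := ZMTFin.zmt_finite (v ≫ U.ι)
  haveI := isOpenImmersion_toImage j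
  -- the range of `V` in its scheme-theoretic image
  have hrange : ∀ x' : j.image, π (j.imageι x') ∈ U → x' ∈ Set.range j.toImage := by
    intro x' h
    have hle : Set.range ⇑j ⊆ Set.range ⇑(π ⁻¹ᵁ U).ι := by
      rintro _ ⟨x, rfl⟩
      rw [Scheme.Opens.range_ι]
      show π (j x) ∈ U
      rw [← Scheme.Hom.comp_apply, hjπ, Scheme.Hom.comp_apply]
      exact (v x).2
    obtain ⟨jU, hjU⟩ : ∃ jU : V ⟶ ((π ⁻¹ᵁ U : T.Opens) : Scheme.{u}), jU ≫ (π ⁻¹ᵁ U).ι = j :=
      ⟨IsOpenImmersion.lift (π ⁻¹ᵁ U).ι j hle, IsOpenImmersion.lift_fac _ _ _⟩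
    have hjUv : jU ≫ (π ∣_ U) = v := by
      rw [← cancel_mono U.ι, Category.assoc, morphismRestrict_ι, reassoc_of% hjU, hjπ]
    haveI : IsProper (jU ≫ (π ∣_ U)) := by rw [hjUv]; infer_instance
    haveI : IsProper jU := IsProper.of_comp jU (π ∣_ U)
    have hcl : IsClosed (Set.range ⇑jU) := jU.isClosedMap.isClosed_range
    have hy : j.imageι x' ∈ closure (Set.range ⇑j) := by
      rw [← Scheme.Hom.support_ker, ← Scheme.IdealSheafData.range_subschemeι]
      exact ⟨x', rfl⟩
    have hmem : (⟨j.imageι x', h⟩ : ↥(π ⁻¹ᵁ U : T.Opens)) ∈ closure (Set.range ⇑jU) := by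
      rw [(π ⁻¹ᵁ U).ι.isEmbedding.closure_eq_preimage_closure_image, ← Set.range_comp]
      have : (⇑(π ⁻¹ᵁ U).ι ∘ ⇑jU) = ⇑j := by
        ext x; rw [Function.comp_apply, ← Scheme.Hom.comp_apply, hjU]
      rw [this]
      exact hy
    rw [hcl.closure_eq] at hmem
    obtain ⟨x, hx⟩ := hmem
    refine ⟨x, j.imageι.isEmbedding.injective ?_⟩
    rw [← Scheme.Hom.comp_apply, Scheme.Hom.toImage_imageι]
    have e1 : j x = (π ⁻¹ᵁ U).ι (jU x) := by
      rw [← Scheme.Hom.comp_apply, hjU]
    rw [e1, hx]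
    rfl
  -- the reduced complement
  obtain ⟨K, hK⟩ : ∃ K : S.IdealSheafData, (K.support : Set S) = (U : Set S)ᶜ :=
    ⟨Scheme.IdealSheafData.vanishingIdeal ⟨(U : Set S)ᶜ, U.isOpen.isClosed_compl⟩,
      Scheme.IdealSheafData.coe_support_vanishingIdeal _⟩
  have hi : (j.toImage ≫ coprod.inl) ≫ coprod.desc (j.imageι ≫ π) K.subschemeι = v ≫ U.ι := by
    rw [Category.assoc, coprod.inl_desc, Scheme.Hom.toImage_imageι_assoc, hjπ]
  refine ⟨j.image ⨿ K.subscheme, coprod.desc (j.imageι ≫ π) K.subschemeι,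
    j.toImage ≫ coprod.inl, ⟨fun s => ?_⟩, inferInstance, ?_⟩
  · by_cases hs : s ∈ U
    · obtain ⟨x, hx⟩ := v.surjective ⟨s, hs⟩
      refine ⟨(j.toImage ≫ coprod.inl) x, ?_⟩
      rw [← Scheme.Hom.comp_apply, hi, Scheme.Hom.comp_apply, hx]
      rfl
    · have hs' : s ∈ Set.range ⇑K.subschemeι := by
        rw [Scheme.IdealSheafData.range_subschemeι, hK]; exact hs
      obtain ⟨z, hz⟩ := hs'
      refine ⟨(coprod.inr : K.subscheme ⟶ j.image ⨿ K.subscheme) z, ?_⟩
      rw [← Scheme.Hom.comp_apply, coprod.inr_desc, hz]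
  · refine isPullback_of_opensRange_eq U _ v _ hi ?_
    ext w
    obtain ⟨w₁ | w₂, rfl⟩ := (coprodMk _ _).surjective w
    · rw [coprodMk_inl]
      show (coprod.inl : j.image ⟶ j.image ⨿ K.subscheme) w₁ ∈ Set.range _ ↔
        coprod.desc (j.imageι ≫ π) K.subschemeι ((coprod.inl : j.image ⟶ _) w₁) ∈ U
      rw [← Scheme.Hom.comp_apply (coprod.inl : j.image ⟶ j.image ⨿ K.subscheme), coprod.inl_desc]
      constructor
      · rintro ⟨x, hx⟩
        have hx' : j.toImage x = w₁ := by
          apply (coprod.inl : j.image ⟶ j.image ⨿ K.subscheme).isOpenEmbedding.injective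
          rw [← Scheme.Hom.comp_apply]; exact hx
        rw [← hx', ← Scheme.Hom.comp_apply, Scheme.Hom.toImage_imageι_assoc, hjπ,
          Scheme.Hom.comp_apply]
        exact (v x).2
      · intro h
        obtain ⟨x, rfl⟩ := hrange w₁ h
        exact ⟨x, Scheme.Hom.comp_apply _ _ _⟩
    · rw [coprodMk_inr]
      show (coprod.inr : K.subscheme ⟶ j.image ⨿ K.subscheme) w₂ ∈ Set.range _ ↔
        coprod.desc (j.imageι ≫ π) K.subschemeι ((coprod.inr : K.subscheme ⟶ _) w₂) ∈ U
      rw [← Scheme.Hom.comp_apply (coprod.inr : K.subscheme ⟶ j.image ⨿ K.subscheme),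
        coprod.inr_desc]
      constructor
      · rintro ⟨x, hx⟩
        rw [Scheme.Hom.comp_apply] at hx
        exact absurd hx (inl_ne_inr _ _ _ _)
      · intro h
        have : K.subschemeι w₂ ∈ (K.support : Set S) := by
          rw [← Scheme.IdealSheafData.range_subschemeι]; exact ⟨w₂, rfl⟩
        rw [hK] at this
        exact absurd h this

end Groth.Agent.Lib.helper9.FinExt
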