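import Mathlib

/-!
# Splitting algebras and standard étale algebras (helper9)

* `StdEtSplit.exists_splitting_algebra`: a monic polynomial over `A` splits into linear factors in
  some finite free `A`-algebra `D` with `A → D` injective.
* `StdEtSplit.exists_common_field`: two primes lying over the same prime admit a common field.
* `StdEtSplit.exists_lift_to_away`: key lemma for dominating standard étale neighbourhoods by
  finite locally free covers.
-/

set_option autoImplicit false
set_option linter.style.haveILetI false

universe u

open Polynomial TensorProduct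

namespace StdEtSplit

/-- Every monic polynomial splits in a finite free extension with injective structure map. -/
theorem exists_splitting_algebra (n : ℕ) : ∀ (A : Type u) [CommRing A] (f : A[X]), f.Monic →
    f.natDegree = n →
    ∃ (D : Type u) (_ : CommRing D) (_ : Algebra A D), Module.Finite A D ∧ Module.Free A D ∧
      Function.Injective (algebraMap A D) ∧
      ∃ m : Multiset D, f.map (algebraMap A D) = (m.map (fun r => X - C r)).prod := by
  induction n with
  | zero =>
    intro A _ f hf hn
    refine ⟨A, inferInstance, inferInstance, inferInstance, inferInstance, fun _ _ h => h, 0, ?_⟩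
    have : f = 1 := hf.natDegree_eq_zero.mp hn
    simp [this]
  | succ n ih =>
    intro A _ f hf hn
    have hA : Nontrivial A := by
      by_contra h
      rw [not_nontrivial_iff_subsingleton] at h
      have : f.natDegree = 0 := by rw [Subsingleton.elim f 0]; simp
      omega
    have hinj₀ : Function.Injective (AdjoinRoot.of f) := by
      rw [injective_iff_map_eq_zero]
      intro a ha
      by_contra ha0
      have h1 : f ∣ C a := AdjoinRoot.mk_eq_zero.mp (by simpa using ha)
      refine hf.not_dvd_of_degree_lt (by simpa using ha0) ?_ h1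
      rw [degree_C ha0, degree_eq_natDegree hf.ne_zero, hn]
      exact_mod_cast Nat.succ_pos n
    have hA₁ : Nontrivial (AdjoinRoot f) := hinj₀.nontrivial
    have hroot : (f.map (AdjoinRoot.of f)).IsRoot (AdjoinRoot.root f) := AdjoinRoot.isRoot_root f
    set f₁ : (AdjoinRoot f)[X] := (f.map (AdjoinRoot.of f)) /ₘ (X - C (AdjoinRoot.root f)) with hf₁
    have hmul : (X - C (AdjoinRoot.root f)) * f₁ = f.map (AdjoinRoot.of f) :=
      mul_divByMonic_eq_iff_isRoot.mpr hroot
    have hfm : (f.map (AdjoinRoot.of f)).Monic := hf.map _
    have hf₁m : f₁.Monic := (monic_X_sub_C _).of_mul_monic_left (by rw [hmul]; exact hfm)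
    have hdeg : f₁.natDegree = n := by
      rw [hf₁, natDegree_divByMonic _ (monic_X_sub_C _), natDegree_X_sub_C, hf.natDegree_map,
        hn]
      rfl
    obtain ⟨D, _, _, hfin, hfree, hinj, m, hm⟩ := ih (AdjoinRoot f) f₁ hf₁m hdeg
    letI : Algebra A D := ((algebraMap (AdjoinRoot f) D).comp (AdjoinRoot.of f)).toAlgebra
    haveI : IsScalarTower A (AdjoinRoot f) D := .of_algebraMap_eq' rfl
    haveI : Module.Finite A (AdjoinRoot f) := hf.finite_adjoinRoot
    haveI : Module.Free A (AdjoinRoot f) := hf.free_adjoinRoot
    refine ⟨D, inferInstance, inferInstance, .trans (AdjoinRoot f) D,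
      .trans (S := AdjoinRoot f), hinj.comp hinj₀,
      algebraMap (AdjoinRoot f) D (AdjoinRoot.root f) ::ₘ m, ?_⟩
    have : f.map (algebraMap A D) =
        (f.map (AdjoinRoot.of f)).map (algebraMap (AdjoinRoot f) D) := by
      rw [Polynomial.map_map]; rfl
    rw [this, ← hmul, Polynomial.map_mul, hm]
    simp

/-- Two primes lying over the same prime admit a common field receiving both residue fields
compatibly. -/
theorem exists_common_field {A B D : Type u} [CommRing A] [CommRing B] [CommRing D]
    [Algebra A B] [Algebra A D] (q : Ideal B) [q.IsPrime] (t : Ideal D) [t.IsPrime]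
    (h : q.comap (algebraMap A B) = t.comap (algebraMap A D)) :
    ∃ (Ω : Type u) (_ : Field Ω) (β : B →+* Ω) (γ : D →+* Ω),
      β.comp (algebraMap A B) = γ.comp (algebraMap A D) ∧ RingHom.ker β = q ∧
        RingHom.ker γ = t := by
  set p : Ideal A := q.comap (algebraMap A B) with hp
  haveI : p.IsPrime := Ideal.comap_isPrime _ _
  letI : Algebra p.ResidueField q.ResidueField :=
    (Ideal.ResidueField.map p q (algebraMap A B) hp).toAlgebra
  letI : Algebra p.ResidueField t.ResidueField :=
    (Ideal.ResidueField.map p t (algebraMap A D) h).toAlgebra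
  haveI : Nontrivial (q.ResidueField ⊗[p.ResidueField] t.ResidueField) :=
    Algebra.TensorProduct.nontrivial_of_algebraMap_injective_of_isDomain _ _ _
      (RingHom.injective _) (RingHom.injective _)
  obtain ⟨m, hm⟩ := Ideal.exists_maximal (q.ResidueField ⊗[p.ResidueField] t.ResidueField)
  letI : Field ((q.ResidueField ⊗[p.ResidueField] t.ResidueField) ⧸ m) := Ideal.Quotient.field m
  let β₀ : q.ResidueField →+* (q.ResidueField ⊗[p.ResidueField] t.ResidueField) ⧸ m :=
    (Ideal.Quotient.mk m).comp Algebra.TensorProduct.includeLeftRingHom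
  let γ₀ : t.ResidueField →+* (q.ResidueField ⊗[p.ResidueField] t.ResidueField) ⧸ m :=
    (Ideal.Quotient.mk m).comp
      (Algebra.TensorProduct.includeRight (R := p.ResidueField) (A := q.ResidueField)
        (B := t.ResidueField)).toRingHom
  refine ⟨_, inferInstance, β₀.comp (algebraMap B q.ResidueField),
    γ₀.comp (algebraMap D t.ResidueField), ?_, ?_, ?_⟩
  · ext a
    simp only [β₀, γ₀, RingHom.comp_apply]
    congr 1
    have h1 : algebraMap B q.ResidueField (algebraMap A B a) =
        algebraMap p.ResidueField q.ResidueField (algebraMap A p.ResidueField a) :=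
      (Ideal.ResidueField.map_algebraMap p q (algebraMap A B) hp a).symm
    have h2 : algebraMap D t.ResidueField (algebraMap A D a) =
        algebraMap p.ResidueField t.ResidueField (algebraMap A p.ResidueField a) :=
      (Ideal.ResidueField.map_algebraMap p t (algebraMap A D) h a).symm
    rw [h1, h2]
    exact Algebra.TensorProduct.tmul_one_eq_one_tmul _
  · rw [← RingHom.comap_ker, (RingHom.injective_iff_ker_eq_bot β₀).mp β₀.injective,
      ← RingHom.ker_eq_comap_bot, Ideal.ker_algebraMap_residueField]
  · rw [← RingHom.comap_ker, (RingHom.injective_iff_ker_eq_bot γ₀).mp γ₀.injective,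
      ← RingHom.ker_eq_comap_bot, Ideal.ker_algebraMap_residueField]

/-- Key lemma: let `B` be standard étale over `A` with polynomial `f`, and let `D` be an
`A`-algebra in which `f` splits. For primes `q` of `B` and `t` of `D` over the same prime of `A`
there are `c ∉ t` and an `A`-algebra map `B → D[1/c]` pulling `t D[1/c]` back to `q`. -/
theorem exists_lift_to_away {A B D : Type u} [CommRing A] [CommRing B] [CommRing D]
    [Algebra A B] [Algebra A D] (P : StandardEtalePresentation A B) (m : Multiset D)
    (hm : P.f.map (algebraMap A D) = (m.map (fun r => X - C r)).prod)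
    (q : Ideal B) [q.IsPrime] (t : Ideal D) [t.IsPrime]
    (h : q.comap (algebraMap A B) = t.comap (algebraMap A D)) :
    ∃ (c : D) (_ : c ∉ t) (ψ : B →ₐ[A] Localization.Away c),
      (t.map (algebraMap D (Localization.Away c))).comap ψ.toRingHom = q := by
  obtain ⟨Ω, _, β, γ, hβγ, hβ, hγ⟩ := exists_common_field q t h
  -- the image of `x` in `Ω` is one of the roots
  have hroot : (P.f.map (β.comp (algebraMap A B))).eval (β P.x) = 0 := by
    rw [Polynomial.eval_map, ← Polynomial.hom_eval₂]
    have := P.hasMap.1
    rw [Polynomial.aeval_def] at this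
    rw [this, map_zero]
  have hsplit : P.f.map (β.comp (algebraMap A B)) = (m.map (fun r => X - C (γ r))).prod := by
    rw [hβγ, ← Polynomial.map_map, hm, Polynomial.map_multiset_prod, Multiset.map_map]
    congr 1
    refine Multiset.map_congr rfl fun r _ => ?_
    simp
  rw [hsplit, Polynomial.eval_multiset_prod, Multiset.prod_eq_zero_iff, Multiset.map_map] at hroot
  obtain ⟨r, hr, hr0⟩ := Multiset.mem_map.mp hroot
  have hr0 : γ r = β P.x := by
    simp only [Function.comp_apply, eval_sub, eval_X, eval_C] at hr0
    exact (sub_eq_zero.mp hr0).symm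
  -- `r` is a root of `f` in `D`
  have hfr : aeval r P.f = 0 := by
    rw [Polynomial.aeval_def, ← Polynomial.eval_map, hm, Polynomial.eval_multiset_prod,
      Multiset.map_map]
    exact Multiset.prod_eq_zero (Multiset.mem_map.mpr ⟨r, hr, by simp⟩)
  set c : D := aeval r P.g with hc
  have hγc : γ c = β (aeval P.x P.g) := by
    rw [hc, Polynomial.aeval_def, Polynomial.aeval_def, Polynomial.hom_eval₂,
      Polynomial.hom_eval₂, hβγ, hr0]
  have hγcu : IsUnit (γ c) := hγc ▸ P.hasMap.2.map β
  have hct : c ∉ t := by
    rw [← hγ, RingHom.mem_ker]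
    exact hγcu.ne_zero
  -- the lift
  have hmap : P.P.HasMap (algebraMap D (Localization.Away c) r) := by
    refine ⟨?_, ?_⟩
    · rw [Polynomial.aeval_algebraMap_apply, hfr, map_zero]
    · rw [Polynomial.aeval_algebraMap_apply]
      exact IsLocalization.Away.algebraMap_isUnit c
  let ψ : B →ₐ[A] Localization.Away c :=
    (P.P.lift (algebraMap D (Localization.Away c) r) hmap).comp P.equivRing.toAlgHom
  have hψx : ψ P.x = algebraMap D (Localization.Away c) r := by
    simp [ψ]
  let γ' : Localization.Away c →+* Ω := IsLocalization.Away.lift c hγcu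
  have hγ' : γ'.comp (algebraMap D (Localization.Away c)) = γ :=
    IsLocalization.Away.lift_comp c hγcu
  refine ⟨c, hct, ψ, ?_⟩
  -- compare `β` and `γ' ∘ ψ`
  letI : Algebra A Ω := (β.comp (algebraMap A B)).toAlgebra
  let β₁ : B →ₐ[A] Ω := { β with commutes' := fun a => rfl }
  let β₂ : B →ₐ[A] Ω :=
    { γ'.comp ψ.toRingHom with
      commutes' := fun a => by
        change γ' (ψ (algebraMap A B a)) = β (algebraMap A B a)
        rw [ψ.commutes, IsScalarTower.algebraMap_apply A D (Localization.Away c)]
        change (γ'.comp (algebraMap D (Localization.Away c))) _ = _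
        rw [hγ']
        exact (congrArg (fun φ => φ a) hβγ).symm }
  have h12 : β₁ = β₂ := by
    refine P.hom_ext ?_
    change β P.x = γ' (ψ P.x)
    rw [hψx, ← hr0, ← hγ']
    rfl
  have hβeq : β = γ'.comp ψ.toRingHom := congrArg (fun φ : B →ₐ[A] Ω => φ.toRingHom) h12
  have hker : RingHom.ker γ' = t.map (algebraMap D (Localization.Away c)) := by
    have h1 : (RingHom.ker γ').comap (algebraMap D (Localization.Away c)) = t := by
      rw [RingHom.comap_ker, hγ', hγ]
    rw [← h1]
    exact (IsLocalization.map_under (Submonoid.powers c) (Localization.Away c)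
      (RingHom.ker γ')).symm
  rw [← hker, RingHom.comap_ker, ← hβeq, hβ]

/-- Algebraic form of "an étale neighbourhood is dominated by a finite locally free cover,
Zariski locally upstairs". -/
theorem exists_finite_free_dominating {A B : Type u} [CommRing A] [CommRing B] [Algebra A B]
    [Algebra.FinitePresentation A B] (Q : Ideal B) [Q.IsPrime] [Algebra.IsEtaleAt A Q] :
    ∃ (D : Type u) (_ : CommRing D) (_ : Algebra A D), Module.Finite A D ∧ Module.Free A D ∧
      Function.Injective (algebraMap A D) ∧
      ∀ (t : Ideal D) [t.IsPrime], t.comap (algebraMap A D) = Q.comap (algebraMap A B) →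
        ∃ (c : D) (_ : c ∉ t) (ψ : B →ₐ[A] Localization.Away c),
          (t.map (algebraMap D (Localization.Away c))).comap ψ.toRingHom = Q := by
  obtain ⟨b, hbQ, hb⟩ := Algebra.IsEtaleAt.exists_isStandardEtale (R := A) Q
  obtain ⟨P⟩ := hb.nonempty_standardEtalePresentation
  have hdisj : Disjoint (Submonoid.powers b : Set B) (Q : Set B) :=
    (Ideal.disjoint_powers_iff_notMem_of_isPrime _).mpr hbQ
  haveI hq : (Q.map (algebraMap B (Localization.Away b))).IsPrime :=
    IsLocalization.isPrime_of_isPrime_disjoint (.powers b) _ _ ‹_› hdisj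
  have hqQ : (Q.map (algebraMap B (Localization.Away b))).comap
      (algebraMap B (Localization.Away b)) = Q :=
    IsLocalization.comap_map_of_isPrime_disjoint (.powers b) _ ‹_› hdisj
  obtain ⟨D, _, _, hfin, hfree, hinj, m, hm⟩ :=
    exists_splitting_algebra P.f.natDegree A P.f P.monic_f rfl
  refine ⟨D, inferInstance, inferInstance, hfin, hfree, hinj, fun t _ ht => ?_⟩
  have h : (Q.map (algebraMap B (Localization.Away b))).comap
      (algebraMap A (Localization.Away b)) = t.comap (algebraMap A D) := by
    rw [ht, IsScalarTower.algebraMap_eq A B (Localization.Away b), ← Ideal.comap_comap, hqQ]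
  obtain ⟨c, hc, ψ, hψ⟩ := exists_lift_to_away P m hm _ t h
  refine ⟨c, hc, ψ.comp (IsScalarTower.toAlgHom A B (Localization.Away b)), ?_⟩
  change (t.map (algebraMap D (Localization.Away c))).comap
    (ψ.toRingHom.comp (algebraMap B (Localization.Away b))) = Q
  rw [← Ideal.comap_comap, hψ, hqQ]
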