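import Mathlib
import Groth.Agent.Lib.Helper9.StdEtSplit1

/-!
# Étale neighbourhoods are dominated by finite locally free covers (helper9)

`StdEtSplit.exists_dominating`: scheme-level form.
-/

set_option autoImplicit false
set_option linter.style.haveILetI false
set_option backward.isDefEq.respectTransparency false

universe u

open AlgebraicGeometry CategoryTheory Limits

namespace StdEtSplit

theorem exists_dominating {U S : Scheme.{u}} (e : U ⟶ S) [Etale e] (u : U) (s : S)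
    (hu : e u = s) :
    ∃ (V : S.Opens) (T : Scheme.{u}) (π : T ⟶ (V : Scheme.{u})), s ∈ V ∧ IsAffineOpen V ∧
      Surjective π ∧ IsFinite π ∧ Flat π ∧ LocallyOfFinitePresentation π ∧
      ∀ t : T, V.ι (π t) = s → ∃ (W : T.Opens) (h : (W : Scheme.{u}) ⟶ U), t ∈ W ∧
        h ≫ e = W.ι ≫ π ≫ V.ι ∧ ∀ ht : t ∈ W, h ⟨t, ht⟩ = u := by
  obtain ⟨V, hV, hsV, -⟩ := exists_isAffineOpen_mem_and_subset (x := s) (U := ⊤) trivial
  have huV : u ∈ e ⁻¹ᵁ V := by
    change e u ∈ V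
    rw [hu]; exact hsV
  obtain ⟨U₀, hU₀, huU₀, hle⟩ := exists_isAffineOpen_mem_and_subset huV
  have hle' : U₀ ≤ e ⁻¹ᵁ V := hle
  haveI : IsAffine (V : Scheme.{u}) := hV
  haveI : IsAffine (U₀ : Scheme.{u}) := hU₀
  let e₀ : (U₀ : Scheme.{u}) ⟶ (V : Scheme.{u}) := e.resLE V U₀ hle'
  have he₀ : e₀ ≫ V.ι = U₀.ι ≫ e := Scheme.Hom.resLE_comp_ι _ _
  let φ := e₀.appTop
  have hφ : RingHom.Etale φ.hom :=
    (HasRingHomProperty.iff_of_isAffine (P := @Etale)).mp inferInstance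
  letI : Algebra Γ((V : Scheme.{u}), ⊤) Γ((U₀ : Scheme.{u}), ⊤) := φ.hom.toAlgebra
  haveI : Algebra.Etale Γ((V : Scheme.{u}), ⊤) Γ((U₀ : Scheme.{u}), ⊤) := hφ
  let u₀ : (U₀ : Scheme.{u}) := ⟨u, huU₀⟩
  let Qp : PrimeSpectrum Γ((U₀ : Scheme.{u}), ⊤) := (U₀ : Scheme.{u}).isoSpec.hom u₀
  haveI : Qp.asIdeal.IsPrime := Qp.isPrime
  haveI : Algebra.IsEtaleAt Γ((V : Scheme.{u}), ⊤) Qp.asIdeal := by
    have h1 : Algebra.etaleLocus Γ((V : Scheme.{u}), ⊤) Γ((U₀ : Scheme.{u}), ⊤) = Set.univ :=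
      Algebra.etaleLocus_eq_univ_iff.mpr inferInstance
    have h2 : Qp ∈ Algebra.etaleLocus Γ((V : Scheme.{u}), ⊤) Γ((U₀ : Scheme.{u}), ⊤) := by
      rw [h1]; trivial
    exact h2
  obtain ⟨D, _, _, hfin, hfree, hinj, hD⟩ := exists_finite_free_dominating
    (A := Γ((V : Scheme.{u}), ⊤)) (B := Γ((U₀ : Scheme.{u}), ⊤)) Qp.asIdeal
  let a : Γ((V : Scheme.{u}), ⊤) ⟶ CommRingCat.of D :=
    CommRingCat.ofHom (algebraMap Γ((V : Scheme.{u}), ⊤) D)
  let π : Spec (CommRingCat.of D) ⟶ (V : Scheme.{u}) := Spec.map a ≫ (V : Scheme.{u}).isoSpec.inv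
  have ha : a.hom = algebraMap Γ((V : Scheme.{u}), ⊤) D := rfl
  haveI : Module.Finite Γ((V : Scheme.{u}), ⊤) D := hfin
  haveI : Module.Free Γ((V : Scheme.{u}), ⊤) D := hfree
  haveI : Module.FinitePresentation Γ((V : Scheme.{u}), ⊤) D :=
    Module.finitePresentation_of_projective _ _
  haveI : Algebra.FinitePresentation Γ((V : Scheme.{u}), ⊤) D :=
    Algebra.FinitePresentation.of_finitePresentation _ _
  haveI h1 : Surjective (Spec.map a) := by
    refine ⟨fun x => ?_⟩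
    obtain ⟨Q, -, hQ, hQx⟩ := Ideal.exists_ideal_over_prime_of_isIntegral
      (S := D) (x : PrimeSpectrum Γ((V : Scheme.{u}), ⊤)).asIdeal (⊥ : Ideal D) (by
        rw [← RingHom.ker_eq_comap_bot, (RingHom.injective_iff_ker_eq_bot _).mp hinj]
        exact bot_le)
    refine ⟨(⟨Q, hQ⟩ : PrimeSpectrum D), ?_⟩
    exact PrimeSpectrum.ext hQx
  haveI h2 : IsFinite (Spec.map a) := by
    rw [IsFinite.SpecMap_iff, ha, RingHom.finite_algebraMap]; infer_instance
  haveI h3 : Flat (Spec.map a) := by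
    rw [Flat.SpecMap_iff, ha, RingHom.flat_algebraMap_iff]; infer_instance
  haveI h4 : LocallyOfFinitePresentation (Spec.map a) := by
    rw [HasRingHomProperty.Spec_iff (P := @LocallyOfFinitePresentation), ha,
      RingHom.finitePresentation_algebraMap]
    infer_instance
  refine ⟨V, Spec (CommRingCat.of D), π, hsV, hV, inferInstance, inferInstance, inferInstance,
    inferInstance, ?_⟩
  intro t ht
  have hπt : π t = e₀ u₀ := by
    apply V.ι.isOpenEmbedding.injective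
    rw [ht, ← Scheme.Hom.comp_apply, he₀, Scheme.Hom.comp_apply]
    exact hu.symm
  let tp : PrimeSpectrum D := t
  haveI : tp.asIdeal.IsPrime := tp.isPrime
  have h5 : Spec.map a t = Spec.map φ Qp := by
    have h6 : Spec.map a t = (V : Scheme.{u}).isoSpec.hom (π t) := by
      simp only [π, Scheme.Hom.comp_apply]
      exact (Scheme.inv_hom_apply _ _).symm
    rw [h6, hπt, ← Scheme.Hom.comp_apply, ← Scheme.isoSpec_hom_naturality,
      Scheme.Hom.comp_apply]
  have hcomap : tp.asIdeal.comap (algebraMap Γ((V : Scheme.{u}), ⊤) D) =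
      Qp.asIdeal.comap (algebraMap Γ((V : Scheme.{u}), ⊤) Γ((U₀ : Scheme.{u}), ⊤)) :=
    congrArg PrimeSpectrum.asIdeal h5
  obtain ⟨c, hc, ψ, hψ⟩ := hD tp.asIdeal hcomap
  let j : Spec (CommRingCat.of (Localization.Away c)) ⟶ Spec (CommRingCat.of D) :=
    Spec.map (CommRingCat.ofHom (algebraMap D (Localization.Away c)))
  have hdisj : Disjoint (Submonoid.powers c : Set D) (tp.asIdeal : Set D) :=
    (Ideal.disjoint_powers_iff_notMem_of_isPrime _).mpr hc
  let t' : PrimeSpectrum (Localization.Away c) :=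
    ⟨tp.asIdeal.map (algebraMap D (Localization.Away c)),
      IsLocalization.isPrime_of_isPrime_disjoint (.powers c) _ _ ‹_› hdisj⟩
  have hjt' : j t' = t := PrimeSpectrum.ext
    (IsLocalization.comap_map_of_isPrime_disjoint (.powers c) _ ‹_› hdisj)
  let ψc : Γ((U₀ : Scheme.{u}), ⊤) ⟶ CommRingCat.of (Localization.Away c) :=
    CommRingCat.ofHom ψ.toRingHom
  have hψt' : Spec.map ψc t' = Qp := PrimeSpectrum.ext hψ
  have hφψ : φ ≫ ψc = a ≫ CommRingCat.ofHom (algebraMap D (Localization.Away c)) := by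
    ext x
    change ψ (algebraMap _ _ x) = algebraMap D (Localization.Away c) (algebraMap _ D x)
    rw [ψ.commutes, ← IsScalarTower.algebraMap_apply]
  refine ⟨j.opensRange, j.isoOpensRange.inv ≫ Spec.map ψc ≫ (U₀ : Scheme.{u}).isoSpec.inv ≫ U₀.ι,
    ⟨t', hjt'⟩, ?_, ?_⟩
  · simp only [Category.assoc]
    rw [← he₀, ← Scheme.isoSpec_inv_naturality_assoc, ← Spec.map_comp_assoc]
    change _ ≫ Spec.map (φ ≫ ψc) ≫ _ = _
    rw [hφψ, Spec.map_comp_assoc, Scheme.Hom.isoOpensRange_inv_comp_assoc]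
    rfl
  · intro ht'
    have h7 : j.isoOpensRange.inv ⟨t, ht'⟩ = t' := by
      apply j.isoOpensRange.hom.isOpenEmbedding.injective
      rw [Scheme.inv_hom_apply]
      apply j.opensRange.ι.isOpenEmbedding.injective
      rw [← Scheme.Hom.comp_apply, Scheme.Hom.isoOpensRange_hom_ι]
      exact hjt'.symm
    simp only [Scheme.Hom.comp_apply]
    rw [h7, hψt']
    have h8 : (U₀ : Scheme.{u}).isoSpec.inv Qp = u₀ := Scheme.hom_inv_apply _ _
    rw [h8]
    rfl
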