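import Mathlib
import Groth.Agent.Lib.Helper9.StdEtSplit2
import Groth.Agent.Lib.Helper9.FinExt1
import Groth.Agent.Lib.Helper9.StageSquares

/-!
# Étale covers are dominated by finite surjective morphisms, Zariski locally upstairs (helper9)

`EtDom.HasLift g p y`: `p : Y ⟶ X` factors through `g : U ⟶ X` on an open neighbourhood of `y`.
`EtDom.exists_finite_surjective_hasLift`: for `g` étale surjective and `X` qcqs there is a finite
surjective `p : Y ⟶ X` with `HasLift g p y` for all `y`.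
-/

set_option autoImplicit false
set_option linter.style.haveILetI false
set_option backward.isDefEq.respectTransparency false

universe u

open AlgebraicGeometry CategoryTheory Limits

namespace EtDom

open Groth.Agent.Lib.helper9

variable {U X : Scheme.{u}} (g : U ⟶ X)

/-- `p` factors through `g` on an open neighbourhood of `y`. -/
def HasLift {Y : Scheme.{u}} (p : Y ⟶ X) (y : Y) : Prop :=
  ∃ (W : Y.Opens) (h : (W : Scheme.{u}) ⟶ U), y ∈ W ∧ h ≫ g = W.ι ≫ p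

variable {g}

theorem HasLift.comp {Y Y' : Scheme.{u}} {p : Y ⟶ X} (q : Y' ⟶ Y) (y' : Y')
    (h : HasLift g p (q y')) : HasLift g (q ≫ p) y' := by
  obtain ⟨W, h, hy, hh⟩ := h
  refine ⟨q ⁻¹ᵁ W, (q ∣_ W) ≫ h, hy, ?_⟩
  rw [Category.assoc, hh, morphismRestrict_ι_assoc]

theorem HasLift.of_eq {Y : Scheme.{u}} {p p' : Y ⟶ X} (e : p = p') {y : Y}
    (h : HasLift g p y) : HasLift g p' y := e ▸ h

theorem HasLift.of_isOpenImmersion {T T' : Scheme.{u}} (i : T ⟶ T') [IsOpenImmersion i]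
    (p' : T' ⟶ X) (t : T) (h : HasLift g (i ≫ p') t) : HasLift g p' (i t) := by
  obtain ⟨W, h, hy, hh⟩ := h
  refine ⟨i ''ᵁ W, (i.isoImage W).inv ≫ h, ⟨t, hy, rfl⟩, ?_⟩
  rw [Category.assoc, hh, Scheme.Hom.isoImage_inv_ι_assoc]

theorem isOpen_hasLift {Y : Scheme.{u}} (p : Y ⟶ X) : IsOpen {y : Y | HasLift g p y} := by
  rw [isOpen_iff_forall_mem_open]
  rintro y ⟨W, h, hy, hh⟩
  exact ⟨W, fun y' hy' => ⟨W, h, hy', hh⟩, W.2, hy⟩

/-- "Good pair over `O`". -/
def Good (g : U ⟶ X) (O : Set X) : Prop :=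
  ∃ (Y : Scheme.{u}) (p : Y ⟶ X), Surjective p ∧ IsFinite p ∧ ∀ y : Y, p y ∈ O → HasLift g p y

theorem good_empty : Good g (∅ : Set X) :=
  ⟨X, 𝟙 X, inferInstance, inferInstance, fun _ h => h.elim⟩

theorem Good.mono {O O' : Set X} (h : O ⊆ O') (hO : Good g O') : Good g O := by
  obtain ⟨Y, p, h1, h2, h3⟩ := hO
  exact ⟨Y, p, h1, h2, fun y hy => h3 y (h hy)⟩

theorem Good.union {O₁ O₂ : Set X} (h₁ : Good g O₁) (h₂ : Good g O₂) : Good g (O₁ ∪ O₂) := by
  obtain ⟨Y₁, p₁, hs₁, hf₁, hl₁⟩ := h₁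
  obtain ⟨Y₂, p₂, hs₂, hf₂, hl₂⟩ := h₂
  refine ⟨pullback p₁ p₂, pullback.fst p₁ p₂ ≫ p₁, inferInstance, inferInstance, fun y hy => ?_⟩
  rcases hy with hy | hy
  · exact HasLift.comp _ _ (hl₁ _ hy)
  · have e : pullback.snd p₁ p₂ ≫ p₂ = pullback.fst p₁ p₂ ≫ p₁ := pullback.condition.symm
    refine HasLift.of_eq e (HasLift.comp _ _ (hl₂ _ ?_))
    rw [← Scheme.Hom.comp_apply, e]
    exact hy

theorem good_nhds [Etale g] [Surjective g] [CompactSpace X] [QuasiSeparatedSpace X] (x : X) :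
    ∃ O : Set X, IsOpen O ∧ x ∈ O ∧ Good g O := by
  obtain ⟨u, hu⟩ := g.surjective x
  obtain ⟨V, T, π, hxV, hV, hπs, hπf, -, -, hlift⟩ := StdEtSplit.exists_dominating g u x hu
  have hlift' : ∀ t : T, V.ι (π t) = x → HasLift g (π ≫ V.ι) t := fun t ht => by
    obtain ⟨W, h, htW, hh, -⟩ := hlift t ht
    exact ⟨W, h, htW, hh⟩
  -- the bad closed set
  have hcl : IsClosed (π '' {t : T | HasLift g (π ≫ V.ι) t}ᶜ) :=
    π.isClosedMap _ (isOpen_hasLift _).isClosed_compl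
  let O' : (V : Scheme.{u}).Opens := ⟨(π '' {t : T | HasLift g (π ≫ V.ι) t}ᶜ)ᶜ, hcl.isOpen_compl⟩
  have hxO' : (⟨x, hxV⟩ : V) ∈ O' := by
    rintro ⟨t, ht, hte⟩
    exact ht (hlift' t (by rw [hte]; rfl))
  obtain ⟨T', π', i, hs', hf', sq⟩ := FinExt.exists_finite_extension V hV.isCompact π
  haveI : IsOpenImmersion i := MorphismProperty.of_isPullback (P := @IsOpenImmersion) sq.flip
    inferInstance
  refine ⟨V.ι ''ᵁ O', (V.ι ''ᵁ O').2, ⟨⟨x, hxV⟩, hxO', rfl⟩, T', π', hs', hf', fun y hy => ?_⟩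
  obtain ⟨v, hvO', hv⟩ := hy
  obtain ⟨t, hti, htπ⟩ := exists_preimage_of_isPullback sq y v hv.symm
  have htG : HasLift g (π ≫ V.ι) t := by
    by_contra hcon
    exact hvO' ⟨t, hcon, htπ⟩
  rw [← hti]
  exact HasLift.of_isOpenImmersion i π' t (HasLift.of_eq sq.w.symm htG)

/-- For `g` étale surjective onto a qcqs scheme there is a finite surjective `p : Y ⟶ X` that
factors through `g` locally on `Y`. -/
theorem exists_finite_surjective_hasLift [Etale g] [Surjective g] [CompactSpace X]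
    [QuasiSeparatedSpace X] :
    ∃ (Y : Scheme.{u}) (p : Y ⟶ X), Surjective p ∧ IsFinite p ∧ ∀ y : Y, HasLift g p y := by
  have h : Good g (Set.univ : Set X) := by
    refine isCompact_univ.induction_on good_empty (fun _ _ h => Good.mono h)
      (fun _ _ => Good.union) fun x _ => ?_
    obtain ⟨O, hO, hxO, hg⟩ := good_nhds (g := g) x
    exact ⟨O, mem_nhdsWithin_of_mem_nhds (hO.mem_nhds hxO), hg⟩
  obtain ⟨Y, p, h1, h2, h3⟩ := h
  exact ⟨Y, p, h1, h2, fun y => h3 y trivial⟩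

end EtDom
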