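import Mathlib
import Groth.Agent.Lib.Helper9.EtDom1
import Groth.Agent.Lib.Helper9.AbsApprox29

/-!
# Étale covers are dominated by finite finitely presented surjective morphisms (helper9)

* `EtDom.exists_stage_hasLift`: local lifts along a morphism locally of finite presentation descend
  to a finite stage of a limit.
* `EtDom.exists_finite_fp_surjective_hasLift`: the main theorem.
-/

set_option autoImplicit false
set_option linter.style.haveILetI false
set_option backward.isDefEq.respectTransparency false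

universe u

open AlgebraicGeometry CategoryTheory Limits

namespace EtDom

section descend

variable {U X : Scheme.{u}} (g : U ⟶ X) [LocallyOfFinitePresentation g]
  {I : Type u} [Category.{u} I] [IsCofiltered I] (D : I ⥤ Scheme.{u})
  (t : D ⟶ (Functor.const I).obj X) (c : Cone D) (hc : IsLimit c)
  [∀ {i j} (f : i ⟶ j), IsAffineHom (D.map f)] [∀ i, CompactSpace (D.obj i)]
  [∀ i, QuasiSeparatedSpace (D.obj i)]

include hc in
theorem exists_stage_hasLift (f₀ : c.pt ⟶ X) (hf₀ : ∀ l, c.π.app l ≫ t.app l = f₀)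
    (h : ∀ y : c.pt, HasLift g f₀ y) : ∃ k, ∀ y : D.obj k, HasLift g (t.app k) y := by
  classical
  -- affine refinements of the lifting neighbourhoods
  choose W hW hyW hhW using h
  have hA : ∀ y : c.pt, ∃ A : c.pt.Opens, IsAffineOpen A ∧ y ∈ A ∧ A ≤ W y := fun y => by
    obtain ⟨A, hA, hyA, hAW⟩ := exists_isAffineOpen_mem_and_subset (hyW y)
    exact ⟨A, hA, hyA, hAW⟩
  choose A hAaff hyA hAW using hA
  have hcov : TopologicalSpace.IsOpenCover A := by
    rw [TopologicalSpace.IsOpenCover, eq_top_iff]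
    intro y _
    exact TopologicalSpace.Opens.mem_iSup.mpr ⟨y, hyA y⟩
  obtain ⟨i, s, V, hVcov, hV⟩ := Scheme.exists_isOpenCover_and_isAffine D c hc A hcov hAaff
  -- descend each lift
  have key : ∀ j : s, ∃ (l : Over i) (b : ((D.map l.hom ⁻¹ᵁ V j : (D.obj l.left).Opens) :
      Scheme.{u}) ⟶ U), b ≫ g = (D.map l.hom ⁻¹ᵁ V j).ι ≫ t.app l.left := by
    intro j
    have hle : c.π.app i ⁻¹ᵁ V j ≤ W j.1 := (hV j).2 ▸ hAW j.1
    obtain ⟨a, ha⟩ : ∃ a : ((c.π.app i ⁻¹ᵁ V j : c.pt.Opens) : Scheme.{u}) ⟶ U,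
        a ≫ g = (c.π.app i ⁻¹ᵁ V j).ι ≫ f₀ :=
      ⟨c.pt.homOfLE hle ≫ hW j.1, by
        rw [Category.assoc, hhW, Scheme.homOfLE_ι_assoc]⟩
    let tV : opensDiagram D i (V j) ⟶ (Functor.const (Over i)).obj X :=
      { app := fun l => (D.map l.hom ⁻¹ᵁ V j).ι ≫ t.app l.left
        naturality := fun l l' m => by
          have := t.naturality m.left
          simp only [Functor.const_obj_obj, Functor.const_obj_map, Category.comp_id] at this ⊢
          rw [opensDiagram_map, Scheme.Hom.resLE_comp_ι_assoc, this] }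
    have : ∀ l : Over i, CompactSpace ((opensDiagram D i (V j)).obj l) := fun l =>
      isCompact_iff_compactSpace.mp
        (QuasiCompact.isCompact_preimage _ (V j).2 (hV j).1.isCompact)
    have : ∀ l : Over i, QuasiSeparatedSpace ((opensDiagram D i (V j)).obj l) := fun l =>
      (isQuasiSeparated_iff_quasiSeparatedSpace _ (D.map _ ⁻¹ᵁ _).2).mp
        (.of_quasiSeparatedSpace _)
    have haa : (opensCone D c i (V j)).π ≫ tV = (Functor.const (Over i)).map (a ≫ g) := by
      ext l
      simp only [NatTrans.comp_app, Functor.const_map_app, tV, opensCone_π_app, ha]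
      rw [Scheme.Hom.resLE_comp_ι_assoc, hf₀]
    obtain ⟨l, b, -, hb⟩ := Scheme.exists_π_app_comp_eq_of_locallyOfFinitePresentation
      (opensDiagram D i (V j)) tV g (opensCone D c i (V j)) (isLimitOpensCone D c hc i (V j)) a haa
    exact ⟨l, b, hb⟩
  choose l b hb using key
  obtain ⟨k', hk'⟩ := IsCofiltered.inf_objs_exists (Finset.univ.image l)
  have m : ∀ j : s, k' ⟶ l j := fun j => (hk' (Finset.mem_image_of_mem l (Finset.mem_univ j))).some
  refine ⟨k'.left, fun y => ?_⟩
  obtain ⟨j, hj⟩ : ∃ j : s, (D.map k'.hom) y ∈ V j := by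
    have : (D.map k'.hom) y ∈ (⨆ j, V j : (D.obj i).Opens) := by
      rw [hVcov.iSup_eq_top]; trivial
    exact TopologicalSpace.Opens.mem_iSup.mp this
  refine ⟨D.map k'.hom ⁻¹ᵁ V j, (opensDiagram D i (V j)).map (m j) ≫ b j, hj, ?_⟩
  rw [Category.assoc, hb, opensDiagram_map, Scheme.Hom.resLE_comp_ι_assoc]
  have := t.naturality (m j).left
  simp only [Functor.const_obj_obj, Functor.const_obj_map, Category.comp_id] at this
  rw [this]

end descend

open Groth.Agent.Lib.helper9.AbsApprox in
/-- For `g` étale surjective onto a qcqs scheme there is a finite surjective `π : Y ⟶ X` of finite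
presentation that factors through `g` locally on `Y`. -/
theorem exists_finite_fp_surjective_hasLift {U X : Scheme.{u}} (g : U ⟶ X) [Etale g]
    [Surjective g] [CompactSpace X] [QuasiSeparatedSpace X] :
    ∃ (Y : Scheme.{u}) (π : Y ⟶ X), Surjective π ∧ IsFinite π ∧ LocallyOfFinitePresentation π ∧
      ∀ y : Y, HasLift g π y := by
  obtain ⟨Y₀, p, hs, hf, hl⟩ := exists_finite_surjective_hasLift (g := g)
  obtain ⟨I, hI1, hI2, hI3, D, t, c, hc, e, h1, h2, h3, h4⟩ := exists_finite_approx p
  haveI haff : ∀ {i j : Iᵒᵖ} (a : i ⟶ j), IsAffineHom (D.map a) := fun a => by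
    have := h3 _ _ a
    infer_instance
  haveI hqc : ∀ i, CompactSpace (D.obj i) := fun i => by
    have := (h2 i).1
    exact QuasiCompact.compactSpace_of_compactSpace (Y := X) (t.app i)
  haveI hqs : ∀ i, QuasiSeparatedSpace (D.obj i) := fun i => by
    have := (h2 i).1
    exact quasiSeparatedSpace_of_quasiSeparated (Y := X) (t.app i)
  obtain ⟨k, hk⟩ := exists_stage_hasLift g D t c hc (e.hom ≫ p) h1
    (fun y => HasLift.comp e.hom y (hl _))
  refine ⟨D.obj k, t.app k, ⟨fun x => ?_⟩, (h2 k).1, (h2 k).2, hk⟩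
  obtain ⟨y₀, hy₀⟩ := p.surjective x
  refine ⟨c.π.app k (e.inv y₀), ?_⟩
  rw [← Scheme.Hom.comp_apply, h1 k, Scheme.Hom.comp_apply]
  exact (congrArg p (Scheme.inv_hom_apply e y₀)).trans hy₀

end EtDom
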