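import Mathlib
import Groth.Agent.Lib.Helper9.EtDom2

/-!
# Domination by finite surjective morphisms from local data (helper9)

Generalisation of `EtDom1/2`: `g : U ⟶ X` arbitrary (locally of finite presentation for the last
step), with the local input abstracted as `EtDom.LocGood g x`.
-/

set_option autoImplicit false
set_option linter.style.haveILetI false
set_option backward.isDefEq.respectTransparency false

universe u

open AlgebraicGeometry CategoryTheory Limits

namespace EtDom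

open Groth.Agent.Lib.helper9

variable {U X : Scheme.{u}} {g : U ⟶ X}

/-- Local input: near `x` there is a finite surjective cover of a compact open neighbourhood which
lifts to `U` near every point over `x`. -/
def LocGood (g : U ⟶ X) (x : X) : Prop :=
  ∃ (V : X.Opens) (T : Scheme.{u}) (π : T ⟶ (V : Scheme.{u})), x ∈ V ∧ IsCompact (V : Set X) ∧
    Surjective π ∧ IsFinite π ∧ ∀ t : T, V.ι (π t) = x → HasLift g (π ≫ V.ι) t

theorem good_nhds_of_locGood [CompactSpace X] [QuasiSeparatedSpace X] (x : X)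
    (h : LocGood g x) : ∃ O : Set X, IsOpen O ∧ x ∈ O ∧ Good g O := by
  obtain ⟨V, T, π, hxV, hV, hπs, hπf, hlift'⟩ := h
  have hcl : IsClosed (π '' {t : T | HasLift g (π ≫ V.ι) t}ᶜ) :=
    π.isClosedMap _ (isOpen_hasLift _).isClosed_compl
  let O' : (V : Scheme.{u}).Opens := ⟨(π '' {t : T | HasLift g (π ≫ V.ι) t}ᶜ)ᶜ, hcl.isOpen_compl⟩
  have hxO' : (⟨x, hxV⟩ : V) ∈ O' := by
    rintro ⟨t, ht, hte⟩
    exact ht (hlift' t (by rw [hte]; rfl))
  obtain ⟨T', π', i, hs', hf', sq⟩ := FinExt.exists_finite_extension V hV π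
  haveI : IsOpenImmersion i := MorphismProperty.of_isPullback (P := @IsOpenImmersion) sq.flip
    inferInstance
  refine ⟨V.ι ''ᵁ O', (V.ι ''ᵁ O').2, ⟨⟨x, hxV⟩, hxO', rfl⟩, T', π', hs', hf', fun y hy => ?_⟩
  obtain ⟨v, hvO', hv⟩ := hy
  obtain ⟨t, hti, htπ⟩ := exists_preimage_of_isPullback sq y v hv.symm
  have htG : HasLift g (π ≫ V.ι) t := by
    by_contra hcon
    exact hvO' ⟨t, hcon, htπ⟩
  rw [← hti]
  exact HasLift.of_isOpenImmersion i π' t (HasLift.of_eq sq.w.symm htG)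

/-- Relative version: good pairs near a compact set. -/
theorem exists_good_of_locGood_on [CompactSpace X] [QuasiSeparatedSpace X] (K : Set X)
    (hK : IsCompact K) (h : ∀ x ∈ K, LocGood g x) :
    ∃ O : Set X, IsOpen O ∧ K ⊆ O ∧ Good g O := by
  refine hK.induction_on (p := fun s => ∃ O : Set X, IsOpen O ∧ s ⊆ O ∧ Good g O)
    ⟨∅, isOpen_empty, subset_rfl, good_empty⟩ ?_ ?_ ?_
  · rintro s t hst ⟨O, hO, htO, hg⟩
    exact ⟨O, hO, hst.trans htO, hg⟩
  · rintro s t ⟨O₁, hO₁, hs, hg₁⟩ ⟨O₂, hO₂, ht, hg₂⟩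
    exact ⟨O₁ ∪ O₂, hO₁.union hO₂, Set.union_subset_union hs ht, hg₁.union hg₂⟩
  · intro x hx
    obtain ⟨O, hO, hxO, hg⟩ := good_nhds_of_locGood x (h x hx)
    exact ⟨O, mem_nhdsWithin_of_mem_nhds (hO.mem_nhds hxO), O, hO, subset_rfl, hg⟩

theorem HasLift.baseChange {T Y : Scheme.{u}} (q : T ⟶ X) (p : Y ⟶ T) (y : Y)
    (h : HasLift g (p ≫ q) y) : HasLift (pullback.snd g q) p y := by
  obtain ⟨W, h, hy, hh⟩ := h
  exact ⟨W, pullback.lift h (W.ι ≫ p) (by rw [hh, Category.assoc]), hy, pullback.lift_snd _ _ _⟩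

theorem HasLift.of_baseChange {T Y : Scheme.{u}} (q : T ⟶ X) (p : Y ⟶ T) (y : Y)
    (h : HasLift (pullback.snd g q) p y) : HasLift g (p ≫ q) y := by
  obtain ⟨W, h, hy, hh⟩ := h
  refine ⟨W, h ≫ pullback.fst g q, hy, ?_⟩
  rw [Category.assoc, pullback.condition, reassoc_of% hh]

open Groth.Agent.Lib.helper9.AbsApprox in
/-- Abstract domination theorem. -/
theorem exists_finite_fp_surjective_hasLift_of_locGood [LocallyOfFinitePresentation g]
    [CompactSpace X] [QuasiSeparatedSpace X] (h : ∀ x : X, LocGood g x) :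
    ∃ (Y : Scheme.{u}) (π : Y ⟶ X), Surjective π ∧ IsFinite π ∧ LocallyOfFinitePresentation π ∧
      ∀ y : Y, HasLift g π y := by
  obtain ⟨O, -, hO, Y₀, p, hs, hf, hl⟩ :=
    exists_good_of_locGood_on (g := g) Set.univ isCompact_univ fun x _ => h x
  replace hl : ∀ y : Y₀, HasLift g p y := fun y => hl y (hO trivial)
  obtain ⟨I, hI1, hI2, hI3, D, t, c, hc, e, h1, h2, h3, h4⟩ := exists_finite_approx p
  haveI haff : ∀ {i j : Iᵒᵖ} (a : i ⟶ j), IsAffineHom (D.map a) := fun a => by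
    have := h3 _ _ a
    infer_instance
  haveI hqc : ∀ i, CompactSpace (D.obj i) := fun i => by
    have := (h2 i).1
    exact QuasiCompact.compactSpace_of_compactSpace (Y := X) (t.app i)
  haveI hqs : ∀ i, QuasiSeparatedSpace (D.obj i) := fun i => by
    have := (h2 i).1
    exact quasiSeparatedSpace_of_quasiSeparated (Y := X) (t.app i)
  obtain ⟨k, hk⟩ := exists_stage_hasLift g D t c hc (e.hom ≫ p) h1
    (fun y => HasLift.comp e.hom y (hl _))
  refine ⟨D.obj k, t.app k, ⟨fun x => ?_⟩, (h2 k).1, (h2 k).2, hk⟩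
  obtain ⟨y₀, hy₀⟩ := p.surjective x
  refine ⟨c.π.app k (e.inv y₀), ?_⟩
  rw [← Scheme.Hom.comp_apply, h1 k, Scheme.Hom.comp_apply]
  exact (congrArg p (Scheme.inv_hom_apply e y₀)).trans hy₀

end EtDom
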