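import Mathlib
import Groth.Agent.Lib.Helper9.EtDom3

/-!
# From étale-local finite locally free domination to `LocGood` (helper9)

`EtDom.locGood_of_etale_local`: if, étale locally around `s`, there is a finite surjective cover
factoring through `g` Zariski locally, then `LocGood g s`.
`EtDom.exists_finite_fp_surjective_hasLift_of_etale_local`: the resulting domination theorem.
-/

set_option autoImplicit false
set_option linter.style.haveILetI false
set_option backward.isDefEq.respectTransparency false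

universe u

open AlgebraicGeometry CategoryTheory Limits

namespace EtDom

theorem locGood_of_etale_local {S₁ S : Scheme.{u}} (g : S₁ ⟶ S) (s : S)
    (H : ∃ (S' V : Scheme.{u}) (e : S' ⟶ S) (π : V ⟶ S'), Etale e ∧ s ∈ Set.range ⇑e ∧
      Surjective π ∧ IsFinite π ∧ Flat π ∧ LocallyOfFinitePresentation π ∧
      ∀ v : ↑V, ∃ (W : V.Opens) (r : ↑W ⟶ S₁), v ∈ W ∧ r ≫ g = W.ι ≫ π ≫ e) :
    LocGood g s := by
  obtain ⟨S', V, e, π, hEt, ⟨s', hs'⟩, hπs, hπf, -, -, hlift⟩ := H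
  have hlift' : ∀ v : V, HasLift g (π ≫ e) v := hlift
  haveI := hEt
  obtain ⟨V₀, T, π₀, hsV₀, hV₀, hπ₀s, hπ₀f, -, -, hl₀⟩ :=
    StdEtSplit.exists_dominating e s' s hs'
  obtain ⟨q, hq⟩ : ∃ q : T ⟶ S, q = π₀ ≫ V₀.ι := ⟨_, rfl⟩
  have hl₀' : ∀ t : T, V₀.ι (π₀ t) = s → HasLift e q t := fun t ht => by
    obtain ⟨W, h, htW, hh, -⟩ := hl₀ t ht
    exact ⟨W, h, htW, by rw [hh, hq]⟩
  haveI : IsAffine (V₀ : Scheme.{u}) := hV₀
  haveI : IsAffine T := isAffine_of_isAffineHom π₀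
  have hKfin : {t : T | V₀.ι (π₀ t) = s}.Finite := by
    have : {t : T | V₀.ι (π₀ t) = s} = π₀ ⁻¹' {(⟨s, hsV₀⟩ : V₀)} := by
      ext t
      simp only [Set.mem_ofPred_eq, Set.mem_preimage, Set.mem_singleton_iff]
      exact ⟨fun h => Subtype.ext h, fun h => by rw [h]; rfl⟩
    rw [this]
    exact π₀.finite_preimage_singleton _
  have hloc : ∀ t ∈ {t : T | V₀.ι (π₀ t) = s}, LocGood (pullback.snd g q) t := by
    intro t ht
    obtain ⟨W, h, htW, hh⟩ := hl₀' t ht
    obtain ⟨W', hW'aff, htW', hW'W⟩ := exists_isAffineOpen_mem_and_subset htW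
    obtain ⟨h', hh'def⟩ : ∃ h' : (W' : Scheme.{u}) ⟶ S', h' = T.homOfLE hW'W ≫ h := ⟨_, rfl⟩
    have hh' : h' ≫ e = W'.ι ≫ q := by
      rw [hh'def, Category.assoc, hh, Scheme.homOfLE_ι_assoc]
    refine ⟨W', pullback π h', pullback.snd π h', htW', hW'aff.isCompact, inferInstance,
      inferInstance, fun z _ => ?_⟩
    apply HasLift.baseChange q (pullback.snd π h' ≫ W'.ι) z
    have e1 : (pullback.snd π h' ≫ W'.ι) ≫ q = pullback.fst π h' ≫ (π ≫ e) := by
      rw [Category.assoc, ← hh', ← Category.assoc, ← pullback.condition, Category.assoc]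
    exact HasLift.of_eq e1.symm (HasLift.comp _ z (hlift' _))
  obtain ⟨O, -, hKO, Y₁, p₁, hp₁s, hp₁f, hl₁⟩ :=
    exists_good_of_locGood_on (g := pullback.snd g q) _ hKfin.isCompact hloc
  refine ⟨V₀, Y₁, p₁ ≫ π₀, hsV₀, hV₀.isCompact, inferInstance, inferInstance, fun y hy => ?_⟩
  have hy' : p₁ y ∈ {t : T | V₀.ι (π₀ t) = s} := by
    simpa [Scheme.Hom.comp_apply] using hy
  have := HasLift.of_baseChange q p₁ y (hl₁ y (hKO hy'))
  rw [hq] at this
  exact HasLift.of_eq (by rw [Category.assoc]) this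

/-- Domination theorem from étale-local finite covers. -/
theorem exists_finite_fp_surjective_hasLift_of_etale_local {S₁ S : Scheme.{u}} (g : S₁ ⟶ S)
    [LocallyOfFinitePresentation g] [CompactSpace S] [QuasiSeparatedSpace S]
    (H : ∀ s : S, ∃ (S' V : Scheme.{u}) (e : S' ⟶ S) (π : V ⟶ S'), Etale e ∧ s ∈ Set.range ⇑e ∧
      Surjective π ∧ IsFinite π ∧ Flat π ∧ LocallyOfFinitePresentation π ∧
      ∀ v : ↑V, ∃ (W : V.Opens) (r : ↑W ⟶ S₁), v ∈ W ∧ r ≫ g = W.ι ≫ π ≫ e) :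
    ∃ (Y : Scheme.{u}) (π : Y ⟶ S), Surjective π ∧ IsFinite π ∧ LocallyOfFinitePresentation π ∧
      ∀ y : Y, HasLift g π y :=
  exists_finite_fp_surjective_hasLift_of_locGood fun s => locGood_of_etale_local g s (H s)

end EtDom
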