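import Mathlib
import Groth.Agent.Lib.Helper9.UHomEt1

/-!
# helper9: lifting étale schemes along a thickening by gluing local lifts (part 1)

Let `i : X ⟶ X'` be a thickening (a surjective closed immersion) and `U₀` a scheme over `X`.
A `LiftData` consists of étale `X'`-schemes `W j` together with open immersions
`m j : W j ×[X'] X ⟶ U₀` over `X` whose images form a basis of the topology of `U₀`.
From such data we build a functor `j ↦ W j` (transition maps obtained by descent of morphisms
along universal homeomorphisms) consisting of open immersions, which is locally directed.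
-/

set_option autoImplicit false
set_option linter.style.haveILetI false
set_option backward.isDefEq.respectTransparency false

universe u

open AlgebraicGeometry CategoryTheory Limits MorphismProperty

namespace Groth.Agent.Lib.helper9.ThickLift

open Groth.Agent.Lib.helper9.UHomEt

/-- An étale universally injective morphism is an open immersion. -/
theorem isOpenImmersion_of_etale_of_universallyInjective {U Y : Scheme.{u}} (ρ : U ⟶ Y)
    [Etale ρ] [UniversallyInjective ρ] : IsOpenImmersion ρ := by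
  have hΔs : Surjective (pullback.diagonal ρ) := (UniversallyInjective.iff_diagonal ρ).mp ‹_›
  have hΔo : IsOpenImmersion (pullback.diagonal ρ) := inferInstance
  have : Epi (pullback.diagonal ρ).base := (TopCat.epi_iff_surjective _).2 hΔs.surj
  have : IsIso (pullback.diagonal ρ) := IsOpenImmersion.isIso _
  have : Mono ρ := (pullback.isIso_diagonal_iff ρ).mp inferInstance
  exact IsOpenImmersion.of_flat_of_mono ρ

/-- Open immersions among étale morphisms descend along surjective base change. -/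
theorem isOpenImmersion_of_isPullback_of_surjective {A U Y Y' : Scheme.{u}} {fst : A ⟶ Y'}
    {snd : A ⟶ U} {h : Y' ⟶ Y} {ρ : U ⟶ Y} (H : IsPullback fst snd h ρ) [Surjective h] [Etale ρ]
    [IsOpenImmersion fst] : IsOpenImmersion ρ := by
  have h2 : UniversallyInjective ρ :=
    of_isPullback_of_descendsAlong (P := @UniversallyInjective.{u}) (Q := @Surjective.{u}) H ‹_›
      inferInstance
  exact isOpenImmersion_of_etale_of_universallyInjective ρ

variable {X X' : Scheme.{u}}

/-- Local lifts of an `X`-scheme `U₀` along `i : X ⟶ X'`. -/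
structure LiftData (i : X ⟶ X') {U₀ : Scheme.{u}} (u₀ : U₀ ⟶ X) where
  /-- the index type -/
  J : Type u
  /-- the local lifts -/
  W : J → Scheme.{u}
  /-- structure maps -/
  w : ∀ j, W j ⟶ X'
  etale : ∀ j, Etale (w j)
  /-- the identification of the restriction of `W j` with an open of `U₀` -/
  m : ∀ j, pullback (w j) i ⟶ U₀
  isOpenImmersion : ∀ j, IsOpenImmersion (m j)
  hm : ∀ j, m j ≫ u₀ = pullback.snd (w j) i
  basis : TopologicalSpace.Opens.IsBasis (Set.range fun j ↦ (m j).opensRange)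

namespace LiftData

variable {i : X ⟶ X'} {U₀ : Scheme.{u}} {u₀ : U₀ ⟶ X} (D : LiftData i u₀)

instance (j : D.J) : Etale (D.w j) := D.etale j

instance (j : D.J) : IsOpenImmersion (D.m j) := D.isOpenImmersion j

noncomputable instance : Preorder D.J := Preorder.lift fun j ↦ (D.m j).opensRange

theorem le_iff {j k : D.J} : j ≤ k ↔ (D.m j).opensRange ≤ (D.m k).opensRange := Iff.rfl

/-- The transition maps downstairs. -/
noncomputable def t₀ {j k : D.J} (hjk : j ≤ k) : pullback (D.w j) i ⟶ pullback (D.w k) i :=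
  IsOpenImmersion.lift (D.m k) (D.m j) hjk

@[reassoc (attr := simp)]
theorem t₀_m {j k : D.J} (hjk : j ≤ k) : D.t₀ hjk ≫ D.m k = D.m j :=
  IsOpenImmersion.lift_fac _ _ _

instance {j k : D.J} (hjk : j ≤ k) : IsOpenImmersion (D.t₀ hjk) := by
  have : IsOpenImmersion (D.t₀ hjk ≫ D.m k) := by rw [t₀_m]; infer_instance
  exact IsOpenImmersion.of_comp (D.t₀ hjk) (D.m k)

theorem t₀_id (j : D.J) : D.t₀ (le_refl j) = 𝟙 _ := by
  rw [← cancel_mono (D.m j), t₀_m, Category.id_comp]

theorem t₀_comp {j k l : D.J} (hjk : j ≤ k) (hkl : k ≤ l) :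
    D.t₀ (hjk.trans hkl) = D.t₀ hjk ≫ D.t₀ hkl := by
  rw [← cancel_mono (D.m l), t₀_m, Category.assoc, t₀_m, t₀_m]

@[reassoc (attr := simp)]
theorem t₀_snd {j k : D.J} (hjk : j ≤ k) :
    D.t₀ hjk ≫ pullback.snd (D.w k) i = pullback.snd (D.w j) i := by
  rw [← D.hm k, ← D.hm j, t₀_m_assoc]

variable [IsClosedImmersion i] [Surjective i]

theorem existsUnique_ρ {j k : D.J} (hjk : j ≤ k) :
    ∃! φ : D.W j ⟶ D.W k, φ ≫ D.w k = D.w j ∧
      pullback.fst (D.w j) i ≫ φ = D.t₀ hjk ≫ pullback.fst (D.w k) i :=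
  existsUnique_descent (D.w k) (D.w j) (pullback.fst (D.w j) i)
    (D.t₀ hjk ≫ pullback.fst (D.w k) i) (by
      rw [Category.assoc, pullback.condition, t₀_snd_assoc, pullback.condition])

/-- The transition maps upstairs. -/
noncomputable def ρ {j k : D.J} (hjk : j ≤ k) : D.W j ⟶ D.W k := (D.existsUnique_ρ hjk).exists.choose

@[reassoc (attr := simp)]
theorem ρ_w {j k : D.J} (hjk : j ≤ k) : D.ρ hjk ≫ D.w k = D.w j :=
  (D.existsUnique_ρ hjk).exists.choose_spec.1

@[reassoc]
theorem fst_ρ {j k : D.J} (hjk : j ≤ k) :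
    pullback.fst (D.w j) i ≫ D.ρ hjk = D.t₀ hjk ≫ pullback.fst (D.w k) i :=
  (D.existsUnique_ρ hjk).exists.choose_spec.2

theorem ρ_unique {j k : D.J} (hjk : j ≤ k) (φ : D.W j ⟶ D.W k) (h1 : φ ≫ D.w k = D.w j)
    (h2 : pullback.fst (D.w j) i ≫ φ = D.t₀ hjk ≫ pullback.fst (D.w k) i) : φ = D.ρ hjk :=
  (D.existsUnique_ρ hjk).unique ⟨h1, h2⟩ ⟨D.ρ_w hjk, D.fst_ρ hjk⟩

theorem ρ_id (j : D.J) : D.ρ (le_refl j) = 𝟙 _ :=
  (D.ρ_unique (le_refl j) (𝟙 _) (Category.id_comp _) (by rw [t₀_id, Category.id_comp,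
    Category.comp_id])).symm

theorem ρ_comp {j k l : D.J} (hjk : j ≤ k) (hkl : k ≤ l) :
    D.ρ (hjk.trans hkl) = D.ρ hjk ≫ D.ρ hkl :=
  (D.ρ_unique (hjk.trans hkl) (D.ρ hjk ≫ D.ρ hkl) (by rw [Category.assoc, ρ_w, ρ_w])
    (by rw [← Category.assoc, fst_ρ, Category.assoc, fst_ρ, ← Category.assoc, ← t₀_comp])).symm

/-- The functor of local lifts. -/
@[simps]
noncomputable def F : D.J ⥤ Scheme.{u} where
  obj := D.W
  map f := D.ρ (leOfHom f)
  map_id j := D.ρ_id j
  map_comp f g := D.ρ_comp (leOfHom f) (leOfHom g)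

instance {j k : D.J} (hjk : j ≤ k) : Etale (D.ρ hjk) := by
  have : Etale (D.ρ hjk ≫ D.w k) := by rw [ρ_w]; infer_instance
  exact Etale.of_comp (D.ρ hjk) (D.w k)

/-- The transition squares are cartesian. -/
theorem isPullback_ρ {j k : D.J} (hjk : j ≤ k) :
    IsPullback (D.t₀ hjk) (pullback.fst (D.w j) i) (pullback.fst (D.w k) i) (D.ρ hjk) := by
  have h1 : IsPullback (pullback.fst (D.w k) i) (pullback.snd (D.w k) i) (D.w k) i :=
    IsPullback.of_hasPullback _ _
  have h2 : IsPullback (pullback.fst (D.w j) i) (D.t₀ hjk ≫ pullback.snd (D.w k) i)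
      (D.ρ hjk ≫ D.w k) i := by
    rw [t₀_snd, ρ_w]
    exact IsPullback.of_hasPullback _ _
  exact IsPullback.of_right h2.flip (D.fst_ρ hjk).symm h1.flip

instance {j k : D.J} (hjk : j ≤ k) : IsOpenImmersion (D.ρ hjk) :=
  isOpenImmersion_of_isPullback_of_surjective (D.isPullback_ρ hjk)

instance {j k : D.J} (f : j ⟶ k) : IsOpenImmersion (D.F.map f) :=
  inferInstanceAs (IsOpenImmersion (D.ρ (leOfHom f)))

end LiftData

end Groth.Agent.Lib.helper9.ThickLift
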