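import Mathlib
import Groth.Agent.Lib.Helper9.ThickLift1

/-!
# helper9: lifting étale schemes along a thickening by gluing local lifts (part 2)

The functor of local lifts is locally directed; its colimit `U'` is étale over `X'` and its
restriction to `X` is identified with `U₀`.
-/

set_option autoImplicit false
set_option linter.style.haveILetI false
set_option backward.isDefEq.respectTransparency false

universe u

open AlgebraicGeometry CategoryTheory Limits MorphismProperty

namespace Groth.Agent.Lib.helper9.ThickLift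

namespace LiftData

variable {X X' : Scheme.{u}} {i : X ⟶ X'} {U₀ : Scheme.{u}} {u₀ : U₀ ⟶ X} (D : LiftData i u₀)

theorem exists_of_m_eq {j k : D.J} (a : ↥(pullback (D.w j) i)) (b : ↥(pullback (D.w k) i))
    (h : D.m j a = D.m k b) :
    ∃ (n : D.J) (hnj : n ≤ j) (hnk : n ≤ k) (z : ↥(pullback (D.w n) i)),
      D.t₀ hnj z = a ∧ D.t₀ hnk z = b := by
  have hx : D.m j a ∈ (D.m j).opensRange ⊓ (D.m k).opensRange := ⟨⟨a, rfl⟩, ⟨b, h.symm⟩⟩
  obtain ⟨_, ⟨n, rfl⟩, ⟨z, hz⟩, hle⟩ := TopologicalSpace.Opens.isBasis_iff_nbhd.mp D.basis hx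
  have hnj : n ≤ j := hle.trans inf_le_left
  have hnk : n ≤ k := hle.trans inf_le_right
  refine ⟨n, hnj, hnk, z, ?_, ?_⟩
  · apply (D.m j).isOpenEmbedding.injective
    rw [← Scheme.Hom.comp_apply, t₀_m]
    exact hz
  · apply (D.m k).isOpenEmbedding.injective
    rw [← Scheme.Hom.comp_apply, t₀_m, ← h]
    exact hz

/-- The open cover of `U₀` given by the restrictions of the local lifts. -/
noncomputable def cover : U₀.OpenCover where
  I₀ := D.J
  X j := pullback (D.w j) i
  f := D.m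
  mem₀ := by
    rw [Scheme.presieve₀_mem_precoverage_iff]
    refine ⟨fun x ↦ ?_, inferInstance⟩
    obtain ⟨_, ⟨n, rfl⟩, hz, -⟩ := TopologicalSpace.Opens.isBasis_iff_nbhd.mp D.basis
      (TopologicalSpace.Opens.mem_top x)
    exact ⟨n, hz⟩

noncomputable instance : Preorder D.cover.I₀ := inferInstanceAs (Preorder D.J)

noncomputable instance : D.cover.LocallyDirected :=
  .ofIsBasisOpensRange (𝒰 := D.cover) Iff.rfl D.basis

theorem cover_trans {j k : D.J} (hjk : j ≤ k) :
    D.cover.trans (homOfLE hjk : (j : D.cover.I₀) ⟶ k) = D.t₀ hjk := rfl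

variable [IsClosedImmersion i] [Surjective i]

theorem ρ_fst_apply {j k : D.J} (hjk : j ≤ k) (z : ↥(pullback (D.w j) i)) :
    D.ρ hjk (pullback.fst (D.w j) i z) = pullback.fst (D.w k) i (D.t₀ hjk z) := by
  rw [← Scheme.Hom.comp_apply, ← Scheme.Hom.comp_apply, fst_ρ]

omit [Surjective i] in
theorem fst_injective (j : D.J) : Function.Injective (pullback.fst (D.w j) i) :=
  (pullback.fst (D.w j) i).isClosedEmbedding.injective

omit [IsClosedImmersion i] in
theorem fst_surjective (j : D.J) : Function.Surjective (pullback.fst (D.w j) i) :=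
  (pullback.fst (D.w j) i).surjective

theorem exists_of_ρ_eq {j k l : D.J} (hjl : j ≤ l) (hkl : k ≤ l) (xj : ↥(D.W j)) (xk : ↥(D.W k))
    (h : D.ρ hjl xj = D.ρ hkl xk) :
    ∃ (n : D.J) (hnj : n ≤ j) (hnk : n ≤ k) (x : ↥(D.W n)),
      D.ρ hnj x = xj ∧ D.ρ hnk x = xk := by
  obtain ⟨a, rfl⟩ := D.fst_surjective j xj
  obtain ⟨b, rfl⟩ := D.fst_surjective k xk
  rw [ρ_fst_apply, ρ_fst_apply] at h
  have h' := D.fst_injective l h
  have h'' : D.m j a = D.m k b := by
    have := congrArg (D.m l) h'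
    rwa [← Scheme.Hom.comp_apply, ← Scheme.Hom.comp_apply, t₀_m, t₀_m] at this
  obtain ⟨n, hnj, hnk, z, rfl, rfl⟩ := D.exists_of_m_eq a b h''
  exact ⟨n, hnj, hnk, pullback.fst (D.w n) i z, D.ρ_fst_apply hnj z, D.ρ_fst_apply hnk z⟩

instance : (D.F ⋙ Scheme.forget).IsLocallyDirected where
  cond {j k l} fj fk xj xk h := by
    obtain ⟨n, hnj, hnk, x, h1, h2⟩ := D.exists_of_ρ_eq (leOfHom fj) (leOfHom fk) xj xk h
    exact ⟨n, homOfLE hnj, homOfLE hnk, x, h1, h2⟩

/-- The glued lift. -/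
noncomputable def U' : Scheme.{u} := colimit D.F

/-- The inclusions of the local lifts. -/
noncomputable def ι (j : D.J) : D.W j ⟶ D.U' := colimit.ι D.F j

instance (j : D.J) : IsOpenImmersion (D.ι j) :=
  inferInstanceAs (IsOpenImmersion (colimit.ι D.F j))

@[reassoc (attr := simp)]
theorem ρ_ι {j k : D.J} (hjk : j ≤ k) : D.ρ hjk ≫ D.ι k = D.ι j :=
  colimit.w D.F (homOfLE hjk)

/-- The cocone of structure maps. -/
noncomputable def cocone : Cocone D.F where
  pt := X'
  ι :=
    { app := D.w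
      naturality := fun j k f ↦ by
        simp only [Functor.const_obj_obj, F_map, Functor.const_obj_map, Category.comp_id]
        exact D.ρ_w (leOfHom f) }

/-- The structure map of the glued lift. -/
noncomputable def u' : D.U' ⟶ X' := colimit.desc D.F D.cocone

@[reassoc (attr := simp)]
theorem ι_u' (j : D.J) : D.ι j ≫ D.u' = D.w j :=
  colimit.ι_desc _ _

theorem ι_jointly_surjective (x : ↥D.U') : ∃ (j : D.J) (y : ↥(D.W j)), D.ι j y = x :=
  Scheme.IsLocallyDirected.ι_jointly_surjective D.F x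

theorem ι_eq_ι_iff {j k : D.J} {xj : ↥(D.W j)} {xk : ↥(D.W k)} :
    D.ι j xj = D.ι k xk ↔ ∃ (n : D.J) (hnj : n ≤ j) (hnk : n ≤ k) (x : ↥(D.W n)),
      D.ρ hnj x = xj ∧ D.ρ hnk x = xk := by
  refine (Scheme.IsLocallyDirected.ι_eq_ι_iff D.F).trans ⟨?_, ?_⟩
  · rintro ⟨n, fj, fk, x, h1, h2⟩
    exact ⟨n, leOfHom fj, leOfHom fk, x, h1, h2⟩
  · rintro ⟨n, hnj, hnk, x, h1, h2⟩
    exact ⟨n, homOfLE hnj, homOfLE hnk, x, h1, h2⟩

instance : Etale D.u' := by
  rw [IsZariskiLocalAtSource.iff_of_openCover (P := @Etale) (Scheme.IsLocallyDirected.openCover D.F)]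
  intro j
  show Etale (D.ι j ≫ D.u')
  rw [ι_u']
  infer_instance

end LiftData

end Groth.Agent.Lib.helper9.ThickLift
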