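import Mathlib
import Groth.Agent.Lib.Helper9.ThickLift2

/-!
# helper9: lifting étale schemes along a thickening by gluing local lifts (part 3)

The restriction of the glued lift `U'` to `X` is `U₀`.
-/

set_option autoImplicit false
set_option linter.style.haveILetI false
set_option backward.isDefEq.respectTransparency false

universe u

open AlgebraicGeometry CategoryTheory Limits MorphismProperty

namespace Groth.Agent.Lib.helper9.ThickLift

namespace LiftData

variable {X X' : Scheme.{u}} {i : X ⟶ X'} {U₀ : Scheme.{u}} {u₀ : U₀ ⟶ X} (D : LiftData i u₀)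
  [IsClosedImmersion i] [Surjective i]

/-- The local pieces of the comparison map. -/
noncomputable def Nloc (j : D.J) : pullback (D.w j) i ⟶ pullback D.u' i :=
  pullback.lift (pullback.fst (D.w j) i ≫ D.ι j) (pullback.snd (D.w j) i)
    (by rw [Category.assoc, ι_u', pullback.condition])

@[reassoc (attr := simp)]
theorem Nloc_fst (j : D.J) : D.Nloc j ≫ pullback.fst D.u' i = pullback.fst (D.w j) i ≫ D.ι j :=
  pullback.lift_fst _ _ _

@[reassoc (attr := simp)]
theorem Nloc_snd (j : D.J) : D.Nloc j ≫ pullback.snd D.u' i = pullback.snd (D.w j) i :=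
  pullback.lift_snd _ _ _

theorem isPullback_Nloc (j : D.J) :
    IsPullback (D.Nloc j) (pullback.fst (D.w j) i) (pullback.fst D.u' i) (D.ι j) := by
  have h1 : IsPullback (pullback.fst D.u' i) (pullback.snd D.u' i) D.u' i :=
    IsPullback.of_hasPullback _ _
  have h2 : IsPullback (pullback.fst (D.w j) i) (D.Nloc j ≫ pullback.snd D.u' i)
      (D.ι j ≫ D.u') i := by
    rw [Nloc_snd, ι_u']
    exact IsPullback.of_hasPullback _ _
  exact IsPullback.of_right h2.flip (D.Nloc_fst j) h1.flip

instance (j : D.J) : IsOpenImmersion (D.Nloc j) :=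
  MorphismProperty.of_isPullback (P := @IsOpenImmersion) (D.isPullback_Nloc j).flip inferInstance

theorem t₀_Nloc {j k : D.J} (hjk : j ≤ k) : D.t₀ hjk ≫ D.Nloc k = D.Nloc j := by
  apply pullback.hom_ext
  · rw [Category.assoc, Nloc_fst, Nloc_fst, ← fst_ρ_assoc, ρ_ι]
  · rw [Category.assoc, Nloc_snd, Nloc_snd, t₀_snd]

theorem N_compat {j k : D.cover.I₀} (f : j ⟶ k) :
    D.cover.trans f ≫ D.Nloc k = D.Nloc j := D.t₀_Nloc (leOfHom f)

/-- The comparison map `U₀ ⟶ U' ×[X'] X`. -/
noncomputable def N : U₀ ⟶ pullback D.u' i :=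
  D.cover.glueMorphismsOfLocallyDirected D.Nloc (fun f ↦ D.N_compat f)

@[reassoc (attr := simp)]
theorem m_N (j : D.J) : D.m j ≫ D.N = D.Nloc j :=
  D.cover.map_glueMorphismsOfLocallyDirected D.Nloc (fun f ↦ D.N_compat f) j

theorem N_snd : D.N ≫ pullback.snd D.u' i = u₀ := by
  apply D.cover.hom_ext
  intro j
  show D.m j ≫ D.N ≫ pullback.snd D.u' i = D.m j ≫ u₀
  rw [m_N_assoc, Nloc_snd, D.hm]

theorem fst'_injective : Function.Injective (pullback.fst D.u' i) :=
  (pullback.fst D.u' i).isClosedEmbedding.injective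

omit [IsClosedImmersion i] [Surjective i] in
theorem exists_m_eq (x : ↥U₀) : ∃ (j : D.J) (a : ↥(pullback (D.w j) i)), D.m j a = x := by
  obtain ⟨j, a, h⟩ := D.cover.exists_eq x
  exact ⟨j, a, h⟩

theorem N_m_apply (j : D.J) (a : ↥(pullback (D.w j) i)) : D.N (D.m j a) = D.Nloc j a := by
  rw [← Scheme.Hom.comp_apply, m_N]

theorem fst_Nloc_apply (j : D.J) (a : ↥(pullback (D.w j) i)) :
    pullback.fst D.u' i (D.Nloc j a) = D.ι j (pullback.fst (D.w j) i a) := by
  rw [← Scheme.Hom.comp_apply, ← Scheme.Hom.comp_apply, Nloc_fst]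

theorem N_injective : Function.Injective D.N := by
  intro x y hxy
  obtain ⟨j, a, rfl⟩ := D.exists_m_eq x
  obtain ⟨k, b, rfl⟩ := D.exists_m_eq y
  rw [N_m_apply, N_m_apply] at hxy
  have h1 := congrArg (pullback.fst D.u' i) hxy
  rw [fst_Nloc_apply, fst_Nloc_apply, ι_eq_ι_iff] at h1
  obtain ⟨n, hnj, hnk, z, hz1, hz2⟩ := h1
  obtain ⟨c, rfl⟩ := D.fst_surjective n z
  rw [ρ_fst_apply] at hz1 hz2
  have e1 := D.fst_injective j hz1
  have e2 := D.fst_injective k hz2
  rw [← e1, ← e2, ← Scheme.Hom.comp_apply, ← Scheme.Hom.comp_apply, t₀_m, t₀_m]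

theorem N_surjective : Function.Surjective D.N := by
  intro x
  obtain ⟨j, y, hy⟩ := D.ι_jointly_surjective (pullback.fst D.u' i x)
  obtain ⟨a, rfl⟩ := D.fst_surjective j y
  refine ⟨D.m j a, ?_⟩
  apply D.fst'_injective
  rw [N_m_apply, fst_Nloc_apply, hy]

instance : IsOpenImmersion D.N :=
  IsOpenImmersion.of_openCover_source D.N D.cover D.N_injective (fun j ↦ by
    show IsOpenImmersion (D.m j ≫ D.N)
    rw [m_N]
    infer_instance)

instance : IsIso D.N := by
  have : Epi D.N.base := (TopCat.epi_iff_surjective _).2 D.N_surjective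
  exact IsOpenImmersion.isIso D.N

include D in
/-- **Gluing local lifts along a thickening.** -/
theorem exists_lift : ∃ (U' : Scheme.{u}) (u' : U' ⟶ X') (_ : Etale u')
    (e : pullback u' i ≅ U₀), e.hom ≫ u₀ = pullback.snd u' i := by
  refine ⟨D.U', D.u', inferInstance, (asIso D.N).symm, ?_⟩
  simp only [Iso.symm_hom, asIso_inv, IsIso.inv_comp_eq]
  exact D.N_snd.symm

end LiftData

end Groth.Agent.Lib.helper9.ThickLift
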