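import Mathlib
import Groth.Agent.Lib.Helper8.EtaleLift

/-!
# helper9: local lifts of étale schemes along closed immersions of affine schemes
-/

set_option autoImplicit false
set_option linter.style.haveILetI false
set_option backward.isDefEq.respectTransparency false

universe u

open AlgebraicGeometry CategoryTheory Limits MorphismProperty TensorProduct

namespace Groth.Agent.Lib.helper9.ThickLift

/-- Étale algebras lift along surjective ring maps, in pushout form. -/
theorem exists_pushout_lift {A Ab C : CommRingCat.{u}} (φ : A ⟶ Ab)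
    (hφ : Function.Surjective φ.hom) (χ : Ab ⟶ C) (hχ : χ.hom.Etale) :
    ∃ (B : CommRingCat.{u}) (β : A ⟶ B) (π : B ⟶ C), β.hom.Etale ∧ IsPushout φ β χ π := by
  let I : Ideal A := RingHom.ker φ.hom
  let eb : (A ⧸ I) ≃+* Ab := RingHom.quotientKerEquivOfSurjective hφ
  letI : Algebra (A ⧸ I) C := (χ.hom.comp eb.toRingHom).toAlgebra
  have het : Algebra.Etale (A ⧸ I) C := by
    rw [← RingHom.etale_algebraMap]
    exact RingHom.Etale.stableUnderComposition _ _ (RingHom.Etale.of_bijective eb.bijective) hχ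
  obtain ⟨B, _, _, hB, ⟨ε⟩⟩ := Groth.Agent.Lib.helper8.EtLift.exists_etale_lift A I C
  refine ⟨CommRingCat.of B, CommRingCat.ofHom (algebraMap A B),
    CommRingCat.ofHom ((ε : (A ⧸ I) ⊗[A] B →+* C).comp
      (Algebra.TensorProduct.includeRight : B →ₐ[A] (A ⧸ I) ⊗[A] B).toRingHom), ?_, ?_⟩
  · exact RingHom.etale_algebraMap.mpr hB
  · refine (CommRingCat.isPushout_tensorProduct A (A ⧸ I) B).of_iso (Iso.refl _)
      eb.toCommRingCatIso (Iso.refl _) ε.toRingEquiv.toCommRingCatIso ?_ ?_ ?_ ?_
    · ext a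
      simp [eb, RingHom.quotientKerEquivOfSurjective, I]
    · simp
    · ext k
      show ε (k ⊗ₜ[A] (1 : B)) = χ.hom (eb k)
      have := ε.commutes k
      rw [Algebra.TensorProduct.algebraMap_apply] at this
      exact this
    · ext b
      rfl

/-- Étale affine schemes lift locally along closed immersions of affine schemes. -/
theorem exists_affine_lift {Z Z' T : Scheme.{u}} (i : Z ⟶ Z') [IsClosedImmersion i] [IsAffine Z']
    (t : T ⟶ Z) [Etale t] [IsAffine T] :
    ∃ (T' : Scheme.{u}) (t' : T' ⟶ Z') (_ : Etale t') (p : T ⟶ T'), IsPullback p t t' i := by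
  obtain ⟨hZ, hφ⟩ := IsClosedImmersion.isAffine_surjective_of_isAffine i
  have hχ : t.appTop.hom.Etale := (HasRingHomProperty.iff_of_isAffine (P := @Etale)).mp ‹_›
  obtain ⟨B, β, π, hβ, hpo⟩ := exists_pushout_lift i.appTop hφ t.appTop hχ
  have hpb := (isPullback_SpecMap_of_isPushout _ _ _ _ hpo).flip
  have hβ' : Etale (Spec.map β) := (HasRingHomProperty.Spec_iff (P := @Etale)).mpr hβ
  refine ⟨Spec B, Spec.map β ≫ Z'.isoSpec.inv, inferInstance, T.isoSpec.hom ≫ Spec.map π, ?_⟩
  refine hpb.of_iso T.isoSpec.symm (Iso.refl _) Z.isoSpec.symm Z'.isoSpec.symm ?_ ?_ ?_ ?_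
  · simp
  · simp only [Iso.symm_hom]
    exact Scheme.isoSpec_inv_naturality t
  · simp
  · simp only [Iso.symm_hom]
    exact Scheme.isoSpec_inv_naturality i

end Groth.Agent.Lib.helper9.ThickLift
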