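import Mathlib
import Groth.Agent.Lib.Helper9.ThickLift3
import Groth.Agent.Lib.Helper9.ThickLift4

/-!
# helper9: étale schemes lift along thickenings (Stacks 039R / 04DY, essential surjectivity)
-/

set_option autoImplicit false
set_option linter.style.haveILetI false
set_option backward.isDefEq.respectTransparency false

universe u

open AlgebraicGeometry CategoryTheory Limits MorphismProperty

namespace Groth.Agent.Lib.helper9.ThickLift

variable {X X' : Scheme.{u}} (i : X ⟶ X') [IsClosedImmersion i] {U₀ : Scheme.{u}} (u₀ : U₀ ⟶ X)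
  [Etale u₀]

/-- Local lifts exist near every point, inside any prescribed open neighbourhood. -/
theorem exists_local_lift (x : ↥U₀) (O : U₀.Opens) (hx : x ∈ O) :
    ∃ (W : Scheme.{u}) (w : W ⟶ X') (_ : Etale w) (m : pullback w i ⟶ U₀)
      (_ : IsOpenImmersion m), m ≫ u₀ = pullback.snd w i ∧ x ∈ m.opensRange ∧
        m.opensRange ≤ O := by
  -- an affine open of `X'`
  obtain ⟨V', hV', hxV'⟩ : ∃ V' : X'.Opens, IsAffineOpen V' ∧ i (u₀ x) ∈ V' := by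
    obtain ⟨V', hV', hxV', -⟩ := TopologicalSpace.Opens.isBasis_iff_nbhd.mp
      X'.isBasis_affineOpens (TopologicalSpace.Opens.mem_top (i (u₀ x)))
    exact ⟨V', hV', hxV'⟩
  -- an affine open of `U₀`
  have hxO : x ∈ O ⊓ u₀ ⁻¹ᵁ (i ⁻¹ᵁ V') := ⟨hx, hxV'⟩
  obtain ⟨W₀, hW₀, hxW₀, hW₀le⟩ : ∃ W₀ : U₀.Opens, IsAffineOpen W₀ ∧ x ∈ W₀ ∧
      W₀ ≤ O ⊓ u₀ ⁻¹ᵁ (i ⁻¹ᵁ V') := by
    obtain ⟨W₀, hW₀, hxW₀, hW₀le⟩ := TopologicalSpace.Opens.isBasis_iff_nbhd.mp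
      U₀.isBasis_affineOpens hxO
    exact ⟨W₀, hW₀, hxW₀, hW₀le⟩
  have : IsAffine (V' : Scheme.{u}) := hV'
  have : IsAffine (W₀ : Scheme.{u}) := hW₀
  have hrange : Set.range (W₀.ι ≫ u₀) ⊆ Set.range (i ⁻¹ᵁ V').ι := by
    rintro _ ⟨z, rfl⟩
    rw [Scheme.Opens.range_ι]
    exact (hW₀le z.2).2
  let t : (W₀ : Scheme.{u}) ⟶ ((i ⁻¹ᵁ V' : X.Opens) : Scheme.{u}) := IsOpenImmersion.lift (i ⁻¹ᵁ V').ι (W₀.ι ≫ u₀) hrange
  have ht : t ≫ (i ⁻¹ᵁ V').ι = W₀.ι ≫ u₀ := IsOpenImmersion.lift_fac _ _ _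
  have : Etale (t ≫ (i ⁻¹ᵁ V').ι) := by rw [ht]; infer_instance
  have : Etale t := Etale.of_comp t (i ⁻¹ᵁ V').ι
  obtain ⟨T', t', ht', p, hpb⟩ := exists_affine_lift (i ∣_ V') t
  have h2 : IsPullback (i ∣_ V') (i ⁻¹ᵁ V').ι V'.ι i := isPullback_morphismRestrict i V'
  have h3 : IsPullback p (W₀.ι ≫ u₀) (t' ≫ V'.ι) i := by
    rw [← ht]
    exact (hpb.flip.paste_horiz h2.flip).flip
  refine ⟨T', t' ≫ V'.ι, inferInstance, h3.isoPullback.inv ≫ W₀.ι, inferInstance, ?_, ?_, ?_⟩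
  · rw [Category.assoc, h3.isoPullback_inv_snd]
  · rw [Scheme.Hom.opensRange_comp_of_isIso, Scheme.Opens.opensRange_ι]
    exact hxW₀
  · rw [Scheme.Hom.opensRange_comp_of_isIso, Scheme.Opens.opensRange_ι]
    exact hW₀le.trans inf_le_left

/-- The lift data given by all local lifts. -/
theorem nonempty_liftData : Nonempty (LiftData i u₀) := by
  let J : Type u := {O : U₀.Opens // ∃ (W : Scheme.{u}) (w : W ⟶ X') (_ : Etale w)
    (m : pullback w i ⟶ U₀) (_ : IsOpenImmersion m), m ≫ u₀ = pullback.snd w i ∧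
      m.opensRange = O}
  choose W w hw m hm h1 h2 using fun j : J ↦ j.2
  refine ⟨{ J := J, W := W, w := w, etale := hw, m := m, isOpenImmersion := hm, hm := h1,
            basis := ?_ }⟩
  rw [TopologicalSpace.Opens.isBasis_iff_nbhd]
  intro O x hx
  obtain ⟨W₁, w₁, hw₁, m₁, hm₁, e1, e2, e3⟩ := exists_local_lift i u₀ x O hx
  refine ⟨m₁.opensRange, ⟨⟨m₁.opensRange, W₁, w₁, hw₁, m₁, hm₁, e1, rfl⟩, h2 _⟩, e2, e3⟩

variable [Surjective i]

/-- **Étale schemes lift along thickenings.** -/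
theorem exists_etale_lift_of_thickening : ∃ (U' : Scheme.{u}) (u' : U' ⟶ X') (_ : Etale u')
    (e : pullback u' i ≅ U₀), e.hom ≫ u₀ = pullback.snd u' i := by
  obtain ⟨D⟩ := nonempty_liftData i u₀
  exact D.exists_lift

end Groth.Agent.Lib.helper9.ThickLift
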