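/-
Helper library (helper9): lifting étale neighbourhoods along a morphism `ι : F ⟶ X`.
* `LiftsEt ι`: every étale neighbourhood `(V, v)` of `F` is, near `v`, the base change along `ι` of an
  étale `X`-scheme;
* closed immersions have this property (`ThickLift.exists_local_lift`);
* the property is stable under composition.
-/
import Mathlib
import Groth.Agent.Lib.Helper9.ThickLift5

set_option autoImplicit false
set_option linter.style.haveILetI false
set_option backward.isDefEq.respectTransparency false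

namespace Groth.Agent.Lib.helper9.EtFib

open AlgebraicGeometry CategoryTheory Limits

universe u

/-- Étale neighbourhoods of `F` lift, locally, along `ι : F ⟶ X`. -/
def LiftsEt {F X : Scheme.{u}} (ι : F ⟶ X) : Prop :=
  ∀ {V : Scheme.{u}} (g : V ⟶ F) [Etale g] (v : V),
    ∃ (U : Scheme.{u}) (p : U ⟶ X) (_ : Etale p) (m : pullback p ι ⟶ V) (_ : IsOpenImmersion m),
      m ≫ g = pullback.snd p ι ∧ v ∈ Set.range m

theorem liftsEt_of_isClosedImmersion {F X : Scheme.{u}} (ι : F ⟶ X) [IsClosedImmersion ι] :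
    LiftsEt ι := by
  intro V g _ v
  obtain ⟨W, w, hw, m, hm, e1, e2, -⟩ :=
    ThickLift.exists_local_lift ι g v ⊤ (TopologicalSpace.Opens.mem_top v)
  exact ⟨W, w, hw, m, hm, e1, e2⟩

/-- If `o` is a monomorphism, a pullback square with top `fst ≫ o` gives one with top `fst`. -/
theorem isPullback_of_mono_comp {C : Type*} [Category C] {P A' A B Z : C} {fst : P ⟶ A'}
    {o : A' ⟶ A} [Mono o] {snd : P ⟶ B} {f : A ⟶ Z} {g : B ⟶ Z}
    (h : IsPullback (fst ≫ o) snd f g) : IsPullback fst snd (o ≫ f) g := by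
  refine ⟨⟨by rw [← Category.assoc, h.w]⟩, ⟨PullbackCone.IsLimit.mk _
    (fun s => h.lift (s.fst ≫ o) s.snd (by rw [Category.assoc, s.condition])) ?_ ?_ ?_⟩⟩
  · intro s
    rw [← cancel_mono o, Category.assoc, h.lift_fst]
  · intro s
    exact h.lift_snd _ _ _
  · intro s m h1 h2
    apply h.hom_ext
    · rw [h.lift_fst, ← Category.assoc, h1]
    · rw [h.lift_snd, h2]

theorem LiftsEt.comp {F Y X : Scheme.{u}} {ι₁ : F ⟶ Y} {ι₂ : Y ⟶ X} (h₁ : LiftsEt ι₁)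
    (h₂ : LiftsEt ι₂) : LiftsEt (ι₁ ≫ ι₂) := by
  intro V g _ v
  obtain ⟨U₁, p₁, hp₁, m₁, hm₁, e₁, ⟨v₁, rfl⟩⟩ := h₁ g v
  obtain ⟨U₂, p₂, hp₂, m₂, hm₂, e₂, ⟨t, ht⟩⟩ := h₂ p₁ (pullback.fst p₁ ι₁ v₁)
  let n : pullback p₂ (ι₁ ≫ ι₂) ⟶ pullback p₂ ι₂ :=
    pullback.lift (pullback.fst _ _) (pullback.snd _ _ ≫ ι₁)
      (by rw [Category.assoc, pullback.condition])
  have hn1 : n ≫ pullback.fst p₂ ι₂ = pullback.fst p₂ (ι₁ ≫ ι₂) := pullback.lift_fst _ _ _
  have hn2 : n ≫ pullback.snd p₂ ι₂ = pullback.snd p₂ (ι₁ ≫ ι₂) ≫ ι₁ := pullback.lift_snd _ _ _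
  let r : pullback p₂ (ι₁ ≫ ι₂) ⟶ pullback p₁ ι₁ :=
    pullback.lift (n ≫ m₂) (pullback.snd _ _) (by rw [Category.assoc, e₂, hn2])
  have hr1 : r ≫ pullback.fst p₁ ι₁ = n ≫ m₂ := pullback.lift_fst _ _ _
  have hr2 : r ≫ pullback.snd p₁ ι₁ = pullback.snd p₂ (ι₁ ≫ ι₂) := pullback.lift_snd _ _ _
  -- `P = F ×_Y P₂`
  have hC : IsPullback (pullback.snd p₂ (ι₁ ≫ ι₂)) n ι₁ (pullback.snd p₂ ι₂) := by
    refine IsPullback.of_bot ?_ hn2.symm (IsPullback.of_hasPullback p₂ ι₂).flip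
    rw [hn1]
    exact (IsPullback.of_hasPullback p₂ (ι₁ ≫ ι₂)).flip
  -- `P = P₁ ×_{U₁} P₂`
  have hsq : IsPullback r n (pullback.fst p₁ ι₁) m₂ := by
    refine IsPullback.of_right ?_ hr1 (IsPullback.of_hasPullback p₁ ι₁).flip
    rw [hr2, e₂]
    exact hC
  have hr : IsOpenImmersion r := MorphismProperty.of_isPullback (P := @IsOpenImmersion) hsq.flip hm₂
  refine ⟨U₂, p₂, hp₂, r ≫ m₁, inferInstance, ?_, ?_⟩
  · rw [Category.assoc, e₁, hr2]
  · obtain ⟨z, hz1, hz2⟩ := Scheme.Pullback.exists_preimage_pullback (f := pullback.fst p₁ ι₁)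
      (g := m₂) v₁ t ht.symm
    refine ⟨hsq.isoPullback.inv z, ?_⟩
    rw [Scheme.Hom.comp_apply, ← Scheme.Hom.comp_apply hsq.isoPullback.inv r,
      hsq.isoPullback_inv_fst, hz1]

end Groth.Agent.Lib.helper9.EtFib
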