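/-
Helper library (helper9): étale neighbourhoods lift along the base change of `Spec 𝒪_{S,s} ⟶ S`.
-/
import Mathlib
import Groth.Agent.Lib.Helper9.EtFib1
import Groth.Agent.Lib.Helper9.LocLim1
import Groth.Agent.Lib.Helper9.LimBaseChange
import Groth.Agent.Lib.Helper9.FPDescend2
import Groth.Agent.Lib.Helper9.ModelDescendGen

set_option autoImplicit false
set_option linter.style.haveILetI false
set_option backward.isDefEq.respectTransparency false

namespace Groth.Agent.Lib.helper9.EtFib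

open AlgebraicGeometry CategoryTheory Limits Opposite
open Groth.Agent.Lib.helper9 Groth.Agent.Lib.helper9.LocLim

universe u

/-- Composing both legs of a pullback square with a monomorphism gives a pullback square. -/
theorem isPullback_comp_mono {C : Type*} [Category C] {P A B Z Z' : C} {fst : P ⟶ A} {snd : P ⟶ B}
    {f : A ⟶ Z} {g : B ⟶ Z} (i : Z ⟶ Z') [Mono i] (h : IsPullback fst snd f g) :
    IsPullback fst snd (f ≫ i) (g ≫ i) := by
  refine ⟨⟨by rw [reassoc_of% h.w]⟩, ⟨PullbackCone.IsLimit.mk _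
    (fun s => h.lift s.fst s.snd (by
      rw [← cancel_mono i, Category.assoc, Category.assoc, s.condition])) ?_ ?_ ?_⟩⟩
  · intro s
    exact h.lift_fst _ _ _
  · intro s
    exact h.lift_snd _ _ _
  · intro s m h1 h2
    apply h.hom_ext
    · rw [h.lift_fst, h1]
    · rw [h.lift_snd, h2]

theorem liftsEt_fst_fromSpecStalk_aux {X S : Scheme.{u}} (f : X ⟶ S) (s : S)
    (ℓ : Spec (S.presheaf.stalk s) ⟶ S) (hℓ : ℓ = S.fromSpecStalk s) :
    LiftsEt (pullback.fst f ℓ) := by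
  have hspec : ∀ y : ↥(Spec (S.presheaf.stalk s)), ℓ y ⤳ s := by
    subst hℓ
    intro y
    have : S.fromSpecStalk s y ∈ Set.range (S.fromSpecStalk s) := Set.mem_range_self _
    rwa [Scheme.range_fromSpecStalk] at this
  intro V h _ v
  -- affine opens
  obtain ⟨W, hW, hsW⟩ : ∃ W : S.Opens, IsAffineOpen W ∧ s ∈ W := by
    obtain ⟨W, hW, hsW, -⟩ := TopologicalSpace.Opens.isBasis_iff_nbhd.mp
      S.isBasis_affineOpens (TopologicalSpace.Opens.mem_top s)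
    exact ⟨W, hW, hsW⟩
  have hcond : ∀ y : ↥(pullback f ℓ), f (pullback.fst f ℓ y) = ℓ (pullback.snd f ℓ y) := by
    intro y
    rw [← Scheme.Hom.comp_apply, ← Scheme.Hom.comp_apply, pullback.condition]
  have hfx : f (pullback.fst f ℓ (h v)) ∈ W := by
    rw [hcond]
    exact (hspec _).mem_open W.isOpen hsW
  obtain ⟨X₁, hX₁, hxX₁, hX₁W⟩ : ∃ X₁ : X.Opens, IsAffineOpen X₁ ∧
      pullback.fst f ℓ (h v) ∈ X₁ ∧ X₁ ≤ f ⁻¹ᵁ W := by
    obtain ⟨X₁, hX₁, hxX₁, hX₁W⟩ := TopologicalSpace.Opens.isBasis_iff_nbhd.mp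
      X.isBasis_affineOpens (show pullback.fst f ℓ (h v) ∈ f ⁻¹ᵁ W from hfx)
    exact ⟨X₁, hX₁, hxX₁, hX₁W⟩
  obtain ⟨V₁, hV₁, hvV₁, hV₁le⟩ : ∃ V₁ : V.Opens, IsAffineOpen V₁ ∧ v ∈ V₁ ∧
      V₁ ≤ (h ≫ pullback.fst f ℓ) ⁻¹ᵁ X₁ := by
    obtain ⟨V₁, hV₁, hvV₁, hV₁le⟩ := TopologicalSpace.Opens.isBasis_iff_nbhd.mp
      V.isBasis_affineOpens (show v ∈ (h ≫ pullback.fst f ℓ) ⁻¹ᵁ X₁ from hxX₁)
    exact ⟨V₁, hV₁, hvV₁, hV₁le⟩
  haveI : IsAffine (X₁ : Scheme.{u}) := hX₁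
  haveI : IsAffine (V₁ : Scheme.{u}) := hV₁
  -- the limit presentation of `Spec 𝒪_{S,s}`
  letI : Algebra Γ(S, W) (S.presheaf.stalk s) := S.presheaf.algebra_section_stalk ⟨s, hsW⟩
  haveI hloc : IsLocalization.AtPrime (S.presheaf.stalk s) (hW.primeIdealOf ⟨s, hsW⟩).asIdeal :=
    hW.isLocalization_stalk ⟨s, hsW⟩
  let M : Submonoid Γ(S, W) := (hW.primeIdealOf ⟨s, hsW⟩).asIdeal.primeCompl
  let D := specDiagram M
  let c := specCone M (S.presheaf.stalk s)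
  have hc : IsLimit c := isLimitSpecCone M (S.presheaf.stalk s)
  let k : (Idx M)ᵒᵖ := op Idx.one
  let β : D.obj k ⟶ S := toBase M k ≫ hW.fromSpec
  have hβ : c.π.app k ≫ β = ℓ := by
    rw [hℓ, ← hW.fromSpecStalk_eq_fromSpecStalk hsW, IsAffineOpen.fromSpecStalk]
    show (specCone M (S.presheaf.stalk s)).π.app k ≫ toBase M k ≫ hW.fromSpec = _
    rw [← Category.assoc, specCone_π_toBase]
    rfl
  have hβrange : (W : Set S) ⊆ Set.range β := by
    intro y hy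
    rw [← hW.range_fromSpec] at hy
    obtain ⟨y', rfl⟩ := hy
    have hy' : y' ∈ Set.range (toBase M k) := by
      rw [range_toBase]
      show y' ∈ (PrimeSpectrum.basicOpen (1 : Γ(S, W)) : Set (PrimeSpectrum Γ(S, W)))
      rw [PrimeSpectrum.basicOpen_one]
      trivial
    obtain ⟨y'', rfl⟩ := hy'
    exact ⟨y'', rfl⟩
  have hrange : Set.range (X₁.ι ≫ f) ⊆ Set.range β := by
    rintro _ ⟨z, rfl⟩
    apply hβrange
    exact hX₁W z.2
  let g₁ : (X₁ : Scheme.{u}) ⟶ D.obj k := IsOpenImmersion.lift β (X₁.ι ≫ f) hrange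
  have hg₁ : g₁ ≫ β = X₁.ι ≫ f := IsOpenImmersion.lift_fac _ _ _
  -- the base change of the limit cone to `X₁`
  let D₁ := bcDiagram D k g₁
  let c₁ := bcCone D c k g₁
  have hc₁ : IsLimit c₁ := isLimitBcCone D c k g₁ hc
  haveI hD₁ : ∀ (j j' : Over k) (a : j ⟶ j'), IsAffineHom (D₁.map a) := fun j j' a =>
    inferInstance
  haveI : ∀ j : Over k, IsAffine (D₁.obj j) := fun j => by
    show IsAffine (pullback (D.map j.hom) g₁)
    infer_instance
  haveI : ∀ j : Over k, CompactSpace ↥(D₁.obj j) := fun j => inferInstance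
  haveI : ∀ j : Over k, QuasiSeparatedSpace ↥(D₁.obj j) := fun j => inferInstance
  haveI : IsAffine c.pt := inferInstanceAs (IsAffine (Spec (CommRingCat.of (S.presheaf.stalk s))))
  haveI : IsAffine (((Functor.const (Idx M)ᵒᵖ).obj c.pt).obj k) :=
    inferInstanceAs (IsAffine (Spec (CommRingCat.of (S.presheaf.stalk s))))
  haveI : IsAffine c₁.pt := by
    show IsAffine (pullback (c.π.app k) g₁)
    infer_instance
  -- the open immersion into `X ×_S Spec 𝒪_{S,s}`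
  let j₁ : c₁.pt ⟶ pullback f ℓ :=
    pullback.lift (pullback.snd (c.π.app k) g₁ ≫ X₁.ι) (pullback.fst (c.π.app k) g₁) (by
      rw [Category.assoc, ← hg₁, ← pullback.condition_assoc, hβ])
  have hj₁1 : j₁ ≫ pullback.fst f ℓ = pullback.snd (c.π.app k) g₁ ≫ X₁.ι :=
    pullback.lift_fst _ _ _
  have hj₁2 : j₁ ≫ pullback.snd f ℓ = pullback.fst (c.π.app k) g₁ := pullback.lift_snd _ _ _
  have hα : IsPullback j₁ (pullback.snd (c.π.app k) g₁) (pullback.fst f ℓ) X₁.ι := by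
    have h1 : IsPullback (pullback.fst (c.π.app k) g₁) (pullback.snd (c.π.app k) g₁)
        (c.π.app k ≫ β) (g₁ ≫ β) :=
      isPullback_comp_mono β (IsPullback.of_hasPullback _ _)
    rw [hβ, hg₁, ← hj₁2] at h1
    exact IsPullback.of_right h1 hj₁1 (IsPullback.of_hasPullback f ℓ).flip
  haveI : IsOpenImmersion j₁ :=
    MorphismProperty.of_isPullback (P := @IsOpenImmersion) hα.flip inferInstance
  -- the map `V₁ ⟶ X₁ ×_{D k} Spec 𝒪_{S,s}`
  have hrange₁ : Set.range (V₁.ι ≫ h ≫ pullback.fst f ℓ) ⊆ Set.range X₁.ι := by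
    rintro _ ⟨z, rfl⟩
    rw [Scheme.Opens.range_ι]
    simpa using hV₁le z.2
  let r₁ : (V₁ : Scheme.{u}) ⟶ X₁ := IsOpenImmersion.lift X₁.ι (V₁.ι ≫ h ≫ pullback.fst f ℓ) hrange₁
  have hr₁ : r₁ ≫ X₁.ι = V₁.ι ≫ h ≫ pullback.fst f ℓ := IsOpenImmersion.lift_fac _ _ _
  let h₁ : (V₁ : Scheme.{u}) ⟶ c₁.pt := hα.lift (V₁.ι ≫ h) r₁ (by rw [Category.assoc, hr₁])
  have hh₁1 : h₁ ≫ j₁ = V₁.ι ≫ h := hα.lift_fst _ _ _
  haveI : Etale (h₁ ≫ j₁) := by rw [hh₁1]; infer_instance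
  haveI hh₁et : Etale h₁ := Etale.of_comp h₁ j₁
  -- descent to a stage
  obtain ⟨j, ⟨Mo⟩⟩ := FPModel.exists_model hc₁ h₁
  haveI : CompactSpace Mo.X₀ := Mo.compactSpace_X₀
  obtain ⟨j', a, het⟩ := Mo.exists_rebase_of_descent @Etale
    (fun hh => exists_etale_stageMap D₁ c₁ hc₁ j Mo.f₀ (𝟙 _) hh) hh₁et
  haveI : IsOpenImmersion (D.map j'.hom) := by
    haveI : IsOpenImmersion (D.map j'.hom ≫ toBase M k) := by
      rw [specDiagram_map_toBase]
      infer_instance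
    exact IsOpenImmersion.of_comp _ (toBase M k)
  let o : D₁.obj j' ⟶ X₁ := pullback.snd (D.map j'.hom) g₁
  haveI : IsOpenImmersion o := inferInstanceAs (IsOpenImmersion (pullback.snd (D.map j'.hom) g₁))
  haveI : Etale (Mo.rebase a).f₀ := het
  let p : (Mo.rebase a).X₀ ⟶ X := (Mo.rebase a).f₀ ≫ o ≫ X₁.ι
  have hπo : c₁.π.app j' ≫ o = pullback.snd (c.π.app k) g₁ := by
    simp [c₁, o, pullback.map]
  have h2 : IsPullback (c₁.π.app j') j₁ (o ≫ X₁.ι) (pullback.fst f ℓ) := by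
    apply isPullback_of_mono_comp
    rw [hπo]
    exact hα.flip
  have h3 : IsPullback (Mo.rebase a).g (V₁.ι ≫ h) p (pullback.fst f ℓ) := by
    have := (Mo.rebase a).pb.paste_vert h2
    rwa [hh₁1] at this
  refine ⟨(Mo.rebase a).X₀, p, inferInstance, h3.isoPullback.inv ≫ V₁.ι, inferInstance, ?_, ?_⟩
  · rw [Category.assoc, h3.isoPullback_inv_snd]
  · refine ⟨h3.isoPullback.hom ⟨v, hvV₁⟩, ?_⟩
    rw [Scheme.Hom.comp_apply, ← Scheme.Hom.comp_apply h3.isoPullback.hom, Iso.hom_inv_id]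
    rfl

theorem liftsEt_fst_fromSpecStalk {X S : Scheme.{u}} (f : X ⟶ S) (s : S) :
    LiftsEt (pullback.fst f (S.fromSpecStalk s)) :=
  liftsEt_fst_fromSpecStalk_aux f s _ rfl

end Groth.Agent.Lib.helper9.EtFib
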