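/-
Helper library (helper9): stratification of a quasi-compact étale morphism into finite pieces.
* `HasStrat j C`: the subset `C` of the target is a finite disjoint union of constructible
  locally closed pieces over which `j` is finite;
* `hasStrat_of_noetherianSpace`: Noetherian induction, using generic finiteness (S2080);
* `hasStrat_of_isPullback`: pulling back stratifications;
* `exists_strat`: the qcqs case by absolute Noetherian approximation.
-/
import Mathlib
import Groth.Agent.S2080
import Groth.Agent.Lib.Helper9.NoethInd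
import Groth.Agent.Lib.Helper9.UnramGlobal
import Groth.Agent.Lib.Helper9.AbsApprox19
import Groth.Agent.Lib.Helper9.FPDescend2
import Groth.Agent.Lib.Helper9.ModelDescendGen

set_option autoImplicit false
set_option linter.style.haveILetI false
set_option backward.isDefEq.respectTransparency false

namespace Groth.Agent.Lib.helper9.EtStrat

open AlgebraicGeometry CategoryTheory Limits TopologicalSpace Topology Opposite
open Groth.Agent.Lib.helper9 Groth.Agent.Lib.helper9.AbsApprox

universe u

/-- A finite stratification of `C ⊆ Y` by immersions with constructible images over which `j`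
becomes finite. -/
def HasStrat {U Y : Scheme.{u}} (j : U ⟶ Y) (C : Set Y) : Prop :=
  ∃ (ι : Type) (_ : Fintype ι) (T : ι → Scheme.{u}) (g : ∀ i, T i ⟶ Y),
    (∀ i, IsImmersion (g i)) ∧ (∀ i, IsConstructible (Set.range (g i))) ∧
    Pairwise (fun i i' => Disjoint (Set.range (g i)) (Set.range (g i'))) ∧
    (⋃ i, Set.range (g i)) = C ∧ ∀ i, IsFinite (pullback.snd j (g i))

theorem hasStrat_empty {U Y : Scheme.{u}} (j : U ⟶ Y) : HasStrat j ∅ :=
  ⟨Empty, inferInstance, fun i => i.elim, fun i => i.elim, fun i => i.elim, fun i => i.elim,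
    fun i => i.elim, by simp, fun i => i.elim⟩

/-- adjoining one scheme to a family -/
def optT {ι : Type} (T₀ : Scheme.{u}) (T : ι → Scheme.{u}) : Option ι → Scheme.{u}
  | none => T₀
  | some i => T i

/-- adjoining one morphism to a family -/
def optG {ι : Type} {Y : Scheme.{u}} {T₀ : Scheme.{u}} {T : ι → Scheme.{u}} (g₀ : T₀ ⟶ Y)
    (g : ∀ i, T i ⟶ Y) : ∀ o, optT T₀ T o ⟶ Y
  | none => g₀
  | some i => g i

theorem hasStrat_insert {U Y : Scheme.{u}} (j : U ⟶ Y) {C : Set Y} (h : HasStrat j C)
    {T₀ : Scheme.{u}} (g₀ : T₀ ⟶ Y) [IsImmersion g₀] (hcons : IsConstructible (Set.range g₀))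
    (hdisj : Disjoint (Set.range g₀) C)
    (hfin : IsFinite (pullback.snd j g₀)) : HasStrat j (Set.range g₀ ∪ C) := by
  obtain ⟨ι, hι, T, g, h1, h1', h2, h3, h4⟩ := h
  refine ⟨Option ι, inferInstance, optT T₀ T, optG g₀ g, ?_, ?_, ?_, ?_, ?_⟩
  · rintro (_ | i)
    · exact ‹IsImmersion g₀›
    · exact h1 i
  · rintro (_ | i)
    · exact hcons
    · exact h1' i
  · rintro (_ | i) (_ | i') hne
    · exact (hne rfl).elim
    · show Disjoint (Set.range g₀) (Set.range (g i'))
      exact hdisj.mono_right (h3 ▸ Set.subset_iUnion (fun i => Set.range (g i)) i')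
    · show Disjoint (Set.range (g i)) (Set.range g₀)
      exact (hdisj.mono_right (h3 ▸ Set.subset_iUnion (fun i => Set.range (g i)) i)).symm
    · exact h2 (fun h => hne (congrArg some h))
  · rw [Set.iUnion_option, ← h3]
    rfl
  · rintro (_ | i)
    · exact hfin
    · exact h4 i

theorem isFinite_snd_of_isPullback {U Y T P : Scheme.{u}} {j : U ⟶ Y} {g : T ⟶ Y} {a : P ⟶ U}
    {b : P ⟶ T} (h : IsPullback a b j g) (hb : IsFinite b) : IsFinite (pullback.snd j g) := by
  rw [← h.isoPullback_inv_snd]
  infer_instance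

/-- **Noetherian case**: every closed subset has a stratification. -/
theorem hasStrat_of_noetherianSpace {U Y : Scheme.{u}} [NoetherianSpace Y] (j : U ⟶ Y) [Etale j]
    [QuasiCompact j] [QuasiSeparated j] (C : Closeds Y) : HasStrat j (C : Set Y) := by
  induction C using WellFoundedLT.induction with
  | ind C IH =>
  by_cases hC : (C : Set Y) = ∅
  · rw [hC]
    exact hasStrat_empty j
  obtain ⟨c, hc⟩ := Set.nonempty_iff_ne_empty.mpr hC
  let I := Scheme.IdealSheafData.vanishingIdeal C
  have hrange : Set.range I.subschemeι = (C : Set Y) := by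
    rw [Scheme.IdealSheafData.range_subschemeι, Scheme.IdealSheafData.coe_support_vanishingIdeal]
  obtain ⟨z, hz⟩ : ∃ z : I.subscheme, I.subschemeι z = c := by
    have : c ∈ Set.range I.subschemeι := hrange ▸ hc
    exact this
  let f := pullback.snd j I.subschemeι
  have hirr := isIrreducible_irreducibleComponent (x := z)
  let η := hirr.genericPoint
  have hη : closure {η} = irreducibleComponent z :=
    (hirr.isGenericPoint_genericPoint isClosed_irreducibleComponent).def
  have hη' : closure {η} ∈ irreducibleComponents I.subscheme :=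
    hη ▸ irreducibleComponent_mem_irreducibleComponents z
  have : LocallyQuasiFinite f := UnramGeom.locallyQuasiFinite_of_unramified f
  have hfin : (f.base ⁻¹' {η}).Finite := f.finite_preimage_singleton η
  obtain ⟨V, hV, hηV, hVfin⟩ := (Groth.Agent.S2080.result f η hη').mp hfin
  -- the new stratum
  let g₀ : (V : Scheme.{u}) ⟶ Y := V.ι ≫ I.subschemeι
  have hpb : IsPullback ((f ⁻¹ᵁ V).ι ≫ pullback.fst j I.subschemeι) (f ∣_ V) j g₀ :=
    (isPullback_morphismRestrict f V).flip.paste_horiz (IsPullback.of_hasPullback j I.subschemeι)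
  have hg₀fin : IsFinite (pullback.snd j g₀) := isFinite_snd_of_isPullback hpb hVfin
  have hinj : Function.Injective I.subschemeι := I.subschemeι.isClosedEmbedding.injective
  have hg₀range : ∀ y, y ∈ Set.range g₀ ↔ ∃ z' : I.subscheme, z' ∈ V ∧ I.subschemeι z' = y := by
    intro y
    constructor
    · rintro ⟨v, rfl⟩
      exact ⟨V.ι v, v.2, rfl⟩
    · rintro ⟨z', hz', rfl⟩
      exact ⟨⟨z', hz'⟩, rfl⟩
  have hsub : Set.range g₀ ⊆ (C : Set Y) := by
    rintro y hy
    obtain ⟨z', -, rfl⟩ := (hg₀range y).mp hy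
    exact hrange ▸ Set.mem_range_self z'
  have hdiff : (C : Set Y) \ Set.range g₀ = I.subschemeι '' ((V : Set I.subscheme)ᶜ) := by
    ext y
    constructor
    · rintro ⟨hy1, hy2⟩
      rw [← hrange] at hy1
      obtain ⟨z', rfl⟩ := hy1
      refine ⟨z', fun hz' => hy2 ((hg₀range _).mpr ⟨z', hz', rfl⟩), rfl⟩
    · rintro ⟨z', hz', rfl⟩
      refine ⟨hrange ▸ Set.mem_range_self z', fun hy => ?_⟩
      obtain ⟨z'', hz'', e⟩ := (hg₀range _).mp hy
      exact hz' (hinj e ▸ hz'')
  let C' : Closeds Y := ⟨(C : Set Y) \ Set.range g₀, by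
    rw [hdiff]
    exact I.subschemeι.isClosedEmbedding.isClosedMap _ V.isOpen.isClosed_compl⟩
  have hlt : C' < C := by
    refine lt_of_le_of_ne (fun y hy => hy.1) (fun heq => ?_)
    have h1 : I.subschemeι η ∈ (C : Set Y) := hrange ▸ Set.mem_range_self η
    have h2 : I.subschemeι η ∈ (C' : Set Y) := heq ▸ h1
    exact h2.2 ((hg₀range _).mpr ⟨η, hηV, rfl⟩)
  have hIH : HasStrat j ((C : Set Y) \ Set.range g₀) := IH C' hlt
  have hcons : IsConstructible (Set.range g₀) :=
    isConstructible_of_isLocallyClosed IsImmersion.isLocallyClosed_range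
  have := hasStrat_insert j hIH g₀ hcons Set.disjoint_sdiff_right hg₀fin
  rwa [Set.union_sdiff_cancel hsub] at this

/-- Stratifications pull back. -/
theorem hasStrat_of_isPullback {U X U₀ X₀ : Scheme.{u}} {j : U ⟶ X} {j₀ : U₀ ⟶ X₀} {p : U ⟶ U₀}
    {π : X ⟶ X₀} (hpb : IsPullback p j j₀ π) {C : Set X₀} (h : HasStrat j₀ C) :
    HasStrat j (π ⁻¹' C) := by
  obtain ⟨ι, hι, T, g, h1, h1', h2, h3, h4⟩ := h
  refine ⟨ι, hι, fun i => pullback π (g i), fun i => pullback.fst π (g i),
    fun i => inferInstance, ?_, ?_, ?_, ?_⟩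
  · intro i
    rw [Scheme.Pullback.range_fst]
    exact π.isConstructible_preimage (h1' i)
  · intro i i' hne
    rw [Scheme.Pullback.range_fst, Scheme.Pullback.range_fst]
    exact (h2 hne).preimage _
  · simp_rw [Scheme.Pullback.range_fst]
    rw [← Set.preimage_iUnion, h3]
  · intro i
    have hbig : IsPullback (pullback.fst j (pullback.fst π (g i)) ≫ p)
        (pullback.snd j (pullback.fst π (g i))) j₀ (pullback.fst π (g i) ≫ π) :=
      (IsPullback.of_hasPullback j (pullback.fst π (g i))).paste_horiz hpb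
    have hcomm : pullback.fst π (g i) ≫ π = pullback.snd π (g i) ≫ g i := pullback.condition
    rw [hcomm] at hbig
    let l : pullback j (pullback.fst π (g i)) ⟶ pullback j₀ (g i) :=
      pullback.lift (pullback.fst _ _ ≫ p) (pullback.snd _ _ ≫ pullback.snd π (g i))
        (by rw [hbig.w, Category.assoc])
    have hl : IsPullback l (pullback.snd j (pullback.fst π (g i))) (pullback.snd j₀ (g i))
        (pullback.snd π (g i)) := by
      refine IsPullback.of_right (h₁₂ := pullback.fst j₀ (g i)) ?_ (pullback.lift_snd _ _ _)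
        (IsPullback.of_hasPullback j₀ (g i))
      rw [pullback.lift_fst]
      exact hbig
    exact MorphismProperty.of_isPullback (P := @IsFinite) hl (h4 i)

/-- **Stratification of quasi-compact étale morphisms over qcqs schemes.** -/
theorem exists_strat {U X : Scheme.{u}} [CompactSpace U] [QuasiSeparatedSpace U]
    [CompactSpace X] [QuasiSeparatedSpace X] (j : U ⟶ X) [Etale j] :
    HasStrat j (Set.univ : Set X) := by
  obtain ⟨T, ⟨e⟩⟩ := hasApprox_of_qcqs X
  let j' : U ⟶ T.c.pt := j ≫ e.inv
  have hj' : Etale j' := inferInstance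
  obtain ⟨i, ⟨M⟩⟩ := FPModel.exists_model T.hc j'
  have : CompactSpace M.X₀ := M.compactSpace_X₀
  obtain ⟨i₁, a₁, h₁⟩ := M.exists_rebase_of_descent @Etale
    (fun h => exists_etale_stageMap T.D T.c T.hc i M.f₀ (𝟙 _) h) hj'
  have hpb : IsPullback (M.rebase a₁).g j (M.rebase a₁).f₀ (e.inv ≫ T.c.π.app i₁) := by
    have h0 : IsPullback (𝟙 U) j j' e.inv := IsPullback.of_horiz_isIso ⟨by simp [j']⟩
    simpa using h0.paste_horiz (M.rebase a₁).pb
  have : IsNoetherian (T.D.obj i₁) := (T.ftz i₁.unop).isNoetherian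
  have hs := hasStrat_of_noetherianSpace (M.rebase a₁).f₀ ⊤
  have := hasStrat_of_isPullback hpb hs
  simpa using this

end Groth.Agent.Lib.helper9.EtStrat
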