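import Mathlib
import Groth.Agent.Lib.Helper9.EtaleNormal
import Groth.Agent.Lib.Helper1.ClosedEtLift

/-!
# Étale schemes over closed subschemes of an affine normal scheme with separably closed function
field (helper9)

* `exists_coprod_iso_of_opens`: a scheme `V` over `Z` with a disjoint open cover `P k` such that each
  `P k ⟶ Z` is an open immersion is a coproduct of open subschemes of `Z`.
* `exists_etale_lift_affine`: an affine scheme étale over a closed subscheme of an affine scheme is
  the base change of an affine scheme étale over the ambient scheme.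
* `exists_split_of_closedImmersion`: over an affine integral normal scheme with separably closed
  function field, an affine scheme étale over a closed subscheme `Z` is a finite disjoint union of
  open subschemes of `Z`.
-/

set_option autoImplicit false

namespace Groth.Agent.Lib.helper9

universe u

open AlgebraicGeometry CategoryTheory Limits TopologicalSpace

namespace EtaleNormal

/-- A `Z`-scheme with a disjoint open cover by pieces mapping to `Z` by open immersions is a
coproduct of open subschemes of `Z`. -/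
theorem exists_coprod_iso_of_opens {V Z : Scheme.{u}} (φ : V ⟶ Z) {ι : Type u} (P : ι → V.Opens)
    (hcov : ⨆ k, P k = ⊤) (hdisj : ∀ k l, k ≠ l → Disjoint (P k) (P l))
    (hoi : ∀ k, IsOpenImmersion ((P k).ι ≫ φ)) :
    ∃ (W : ι → Z.Opens) (e : (∐ fun k => (W k : Scheme.{u})) ≅ V),
      ∀ k, Sigma.ι (fun k => (W k : Scheme.{u})) k ≫ e.hom ≫ φ = (W k).ι := by
  haveI := hoi
  let W : ι → Z.Opens := fun k => ((P k).ι ≫ φ).opensRange
  let f : ∀ k : ι, (W k : Scheme.{u}) ⟶ V :=
    fun k => ((P k).ι ≫ φ).isoOpensRange.inv ≫ (P k).ι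
  haveI : ∀ k, IsOpenImmersion (f k) := fun k => inferInstance
  have hrange : ∀ k, (f k).opensRange = P k := fun k => by
    simp only [f]
    rw [Scheme.Hom.opensRange_comp_of_isIso, Scheme.Opens.opensRange_ι]
  have hcov' : ⨆ k, (f k).opensRange = ⊤ := by
    simp only [hrange]; exact hcov
  have hdisj' : Pairwise (Function.onFun Disjoint (fun k => (f k).opensRange)) := by
    intro k l hne
    simp only [Function.onFun, hrange]
    exact hdisj k l hne
  obtain ⟨hc⟩ := nonempty_isColimit_cofanMk_of f hcov' hdisj'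
  let e : (∐ fun k => (W k : Scheme.{u})) ≅ V := colimit.isoColimitCocone ⟨_, hc⟩
  refine ⟨W, e, fun k => ?_⟩
  have h1 : Sigma.ι (fun k => (W k : Scheme.{u})) k ≫ e.hom = f k :=
    colimit.isoColimitCocone_ι_hom (⟨_, hc⟩ : ColimitCocone _) ⟨k⟩
  rw [← Category.assoc, h1]
  simp only [f, Category.assoc]
  exact Scheme.Hom.isoOpensRange_inv_comp ((P k).ι ≫ φ)

/-- An affine scheme étale over a closed subscheme of an affine scheme is the base change of an
affine scheme étale over the ambient scheme. -/
theorem exists_etale_lift_affine {X Z V : Scheme.{u}} [IsAffine X] (i : Z ⟶ X)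
    [IsClosedImmersion i] (φ : V ⟶ Z) [Etale φ] [IsAffine V] :
    ∃ (V' : Scheme.{u}) (_ : IsAffine V') (g : V' ⟶ X) (_ : Etale g) (pr1 : V ⟶ V'),
      IsPullback pr1 φ g i := by
  haveI : IsAffine Z := isAffine_of_isAffineHom i
  have hρ : Function.Surjective (i.appTop).hom := i.app_surjective ⊤ (isAffineOpen_top X)
  have hβ : (φ.appTop).hom.Etale :=
    (HasRingHomProperty.iff_of_isAffine (P := @Etale)).mp inferInstance
  obtain ⟨S, _, σ, τ, hσ, hpo⟩ := Groth.Agent.H1.ClosedEtLift.exists_etale_pushout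
    (i.appTop).hom hρ (φ.appTop).hom hβ
  have hpb := isPullback_SpecMap_of_isPushout _ _ _ _ hpo
  refine ⟨Spec (.of S), inferInstance, Spec.map (CommRingCat.ofHom σ) ≫ X.isoSpec.inv, ?_,
    V.isoSpec.hom ≫ Spec.map (CommRingCat.ofHom τ), ?_⟩
  · haveI : Etale (Spec.map (CommRingCat.ofHom σ)) :=
      (HasRingHomProperty.Spec_iff (P := @Etale)).mpr hσ
    infer_instance
  · refine hpb.flip.of_iso V.isoSpec.symm (Iso.refl _) Z.isoSpec.symm X.isoSpec.symm ?_ ?_ ?_ ?_
    · simp
    · exact Scheme.isoSpec_inv_naturality φ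
    · simp
    · exact Scheme.isoSpec_inv_naturality i

/-- Over an affine integral normal scheme with separably closed function field, an affine scheme
étale over a closed subscheme `Z` is a finite disjoint union of open subschemes of `Z`. -/
theorem exists_split_of_closedImmersion {V Z X : Scheme.{u}} [IsAffine X] [IsIntegral X]
    (hN : ∀ x : X, IsIntegrallyClosed (X.presheaf.stalk x)) [IsSepClosed X.functionField]
    (i : Z ⟶ X) [IsClosedImmersion i] (φ : V ⟶ Z) [Etale φ] [IsAffine V] :
    ∃ (ι : Type u) (_ : Finite ι) (W : ι → Z.Opens) (e : (∐ fun k => (W k : Scheme.{u})) ≅ V),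
      ∀ k, Sigma.ι (fun k => (W k : Scheme.{u})) k ≫ e.hom ≫ φ = (W k).ι := by
  obtain ⟨V', hV'aff, g, hg, pr1, hPB⟩ := exists_etale_lift_affine i φ
  haveI := hV'aff
  haveI := hg
  haveI : IsSeparated g := inferInstance
  haveI hqf : LocallyQuasiFinite g := Groth.Agent.S5067.locallyQuasiFinite_of_unramified g
  have hU : ∀ u : V', IsDomain (V'.presheaf.stalk u) := fun u =>
    (Groth.Agent.Lib.helper13.Normal.isNormalDomain_stalk_of_smooth g u
      ⟨inferInstance, hN (g u)⟩).1
  let ι0 : Type u := {ζ : V' // g ζ = genericPoint X}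
  let T : ι0 → V'.Opens := fun ζ => genOpen g hU ζ.1 ζ.2
  let P0 : ι0 → V.Opens := fun ζ => pr1 ⁻¹ᵁ T ζ
  let ι : Type u := {ζ : ι0 // ((P0 ζ : V.Opens) : Set V).Nonempty}
  let P : ι → V.Opens := fun k => P0 k.1
  have hcov : ⨆ k, P k = ⊤ := by
    rw [eq_top_iff]
    intro v _
    obtain ⟨ζ, hζ, hv⟩ := exists_mem_genOpen g hU (pr1 v)
    exact TopologicalSpace.Opens.mem_iSup.mpr ⟨⟨⟨ζ, hζ⟩, ⟨v, hv⟩⟩, hv⟩
  have hdisj : ∀ k l : ι, k ≠ l → Disjoint (P k) (P l) := by
    intro k l hne
    rw [disjoint_iff]
    ext u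
    simp only [TopologicalSpace.Opens.coe_inf, Set.mem_inter_iff, SetLike.mem_coe,
      TopologicalSpace.Opens.coe_bot, Set.mem_empty_iff_false, iff_false, not_and]
    intro h h'
    exact hne (Subtype.ext (Subtype.ext (eq_of_mem_genOpen g hU k.1.2 l.1.2 h h')))
  have hoi : ∀ k, IsOpenImmersion ((P k).ι ≫ φ) := by
    intro k
    have h1 := (isPullback_morphismRestrict pr1 (T k.1)).paste_vert hPB
    haveI : IsOpenImmersion ((T k.1).ι ≫ g) :=
      isOpenImmersion_genOpen_ι_comp g hU k.1.1 k.1.2
    exact MorphismProperty.of_isPullback (P := @IsOpenImmersion) h1 inferInstance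
  have hfin : Finite ι := by
    have hopen : ∀ k : ι, IsOpen ((P k : V.Opens) : Set V) := fun k => (P k).2
    have hcovset : (Set.univ : Set V) ⊆ ⋃ k, ((P k : V.Opens) : Set V) := by
      intro v _
      have : v ∈ (⨆ k, P k : V.Opens) := by rw [hcov]; trivial
      obtain ⟨k, hk⟩ := TopologicalSpace.Opens.mem_iSup.mp this
      exact Set.mem_iUnion.mpr ⟨k, hk⟩
    obtain ⟨t, ht⟩ := isCompact_univ.elim_finite_subcover _ hopen hcovset
    have hall : ∀ k : ι, k ∈ t := by
      intro k
      obtain ⟨v, hv⟩ := k.2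
      have := ht (Set.mem_univ v)
      simp only [Set.mem_iUnion] at this
      obtain ⟨l, hl, hvl⟩ := this
      by_contra hk
      have hne : k ≠ l := fun h => hk (h ▸ hl)
      have h0 := (hdisj k l hne).le_bot (show v ∈ P k ⊓ P l from ⟨hv, hvl⟩)
      exact (Set.notMem_empty v) h0
    exact Finite.of_injective (fun k => (⟨k, hall k⟩ : t))
      (fun a b h => by simpa using congrArg Subtype.val h)
  obtain ⟨W, e, he⟩ := exists_coprod_iso_of_opens φ P hcov hdisj hoi
  exact ⟨ι, hfin, W, e, he⟩

end EtaleNormal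

end Groth.Agent.Lib.helper9
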