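import Mathlib
import Groth.Prelude.Def_FEt
import Groth.Prelude.Def_Hensel
import Groth.Agent.Lib.Helper24.StrictHensProps

/-!
# Closures of clopen pieces of a dense open, connectedness at infinity (helper9)

Topological core of "restriction of finite étale covers to a dense open is fully faithful when the
punctured spectra of the strict henselizations at the points at infinity are connected".

* `exists_minimal_generization`: every point of a closed subset of a scheme has a generization in
  the closed subset which is minimal (has no proper generization inside the closed subset).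
* `not_split_of_connected`: if the punctured spectrum of the strict henselization at `z` is
  connected, two closed subsets covering the scheme whose intersection contains no proper
  generization of `z` cannot both contain a proper generization of `z`.
* `disjoint_closure_of_connected`: disjoint opens `T`, `T'` with dense union, connected at infinity,
  and such that closure points are specializations, have disjoint closures.
-/

set_option autoImplicit false
set_option linter.style.haveILetI false
set_option backward.isDefEq.respectTransparency false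

universe u

namespace Groth.Agent.Lib.helper9.FEtDense

open AlgebraicGeometry CategoryTheory IsLocalRing
open Groth.Agent.Lib.Helper24.StrictHens

/-- Every point of a closed subset `C` of a scheme has a generization in `C` which has no proper
generization in `C`. -/
theorem exists_minimal_generization (Z : Scheme.{u}) (C : Set Z) (hC : IsClosed C) (z₀ : Z)
    (hz₀ : z₀ ∈ C) : ∃ z ∈ C, z ⤳ z₀ ∧ ∀ z' ∈ C, z' ⤳ z → z' = z := by
  let j := Z.fromSpecStalk z₀
  let C₀ : Set (PrimeSpectrum (Z.presheaf.stalk z₀)) := j ⁻¹' C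
  have hC₀ : IsClosed C₀ := hC.preimage j.continuous
  let I := PrimeSpectrum.vanishingIdeal C₀
  have hI : PrimeSpectrum.zeroLocus (I : Set (Z.presheaf.stalk z₀)) = C₀ := by
    rw [PrimeSpectrum.zeroLocus_vanishingIdeal_eq_closure, hC₀.closure_eq]
  have hm : closedPoint (Z.presheaf.stalk z₀) ∈ C₀ := by
    show j (closedPoint _) ∈ C
    rw [Scheme.fromSpecStalk_closedPoint]; exact hz₀
  have hIm : I ≤ maximalIdeal (Z.presheaf.stalk z₀) := by
    rw [← hI, PrimeSpectrum.mem_zeroLocus] at hm
    exact hm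
  obtain ⟨q, hq, hqle⟩ := Ideal.exists_minimalPrimes_le hIm
  haveI hqp : q.IsPrime := hq.1.1
  let Q : PrimeSpectrum (Z.presheaf.stalk z₀) := ⟨q, hqp⟩
  have hQC : Q ∈ C₀ := by rw [← hI, PrimeSpectrum.mem_zeroLocus]; exact hq.1.2
  have h1 : j Q ⤳ z₀ := by
    have : j Q ∈ Set.range j := ⟨Q, rfl⟩
    rwa [Scheme.range_fromSpecStalk] at this
  refine ⟨j Q, hQC, h1, ?_⟩
  intro z' hz'C hz'
  have h2 : z' ∈ Set.range j := by
    rw [Scheme.range_fromSpecStalk]; exact hz'.trans h1
  obtain ⟨Q', rfl⟩ := h2
  have h3 : Q' ⤳ Q := (j.isEmbedding.toIsInducing.specializes_iff).1 hz'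
  rw [← PrimeSpectrum.le_iff_specializes] at h3
  have h4 : I ≤ Q'.asIdeal := by
    have : Q' ∈ C₀ := hz'C
    rw [← hI, PrimeSpectrum.mem_zeroLocus] at this
    exact this
  have h5 : q ≤ Q'.asIdeal := hq.2 ⟨Q'.isPrime, h4⟩ h3
  have h6 : Q' = Q := PrimeSpectrum.ext (le_antisymm h3 h5)
  rw [h6]

/-- If the punctured spectrum of a strict henselization `R` of the local ring at `z` is connected,
two closed subsets covering the scheme, whose intersection contains no proper generization of `z`,
cannot both contain a proper generization of `z`. -/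
theorem not_split_of_connected (Z : Scheme.{u}) (z : Z)
    (R : Type u) [CommRing R] [IsLocalRing R] [Algebra (Z.presheaf.stalk z) R]
    [IsLocalHom (algebraMap (Z.presheaf.stalk z) R)]
    [Hensel.IsStrictHenselization (Z.presheaf.stalk z) R]
    (hconn : ConnectedSpace ↥({closedPoint R}ᶜ : Set (PrimeSpectrum R)))
    (F₁ F₂ : Set Z) (h₁ : IsClosed F₁) (h₂ : IsClosed F₂) (hcov : F₁ ∪ F₂ = Set.univ)
    (hmin : ∀ z' ∈ F₁ ∩ F₂, z' ⤳ z → z' = z)
    (t₁ : Z) (ht₁ : t₁ ∈ F₁) (ht₁z : t₁ ⤳ z) (hne₁ : t₁ ≠ z)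
    (t₂ : Z) (ht₂ : t₂ ∈ F₂) (ht₂z : t₂ ⤳ z) (hne₂ : t₂ ≠ z) : False := by
  let O := Z.presheaf.stalk z
  let j := Z.fromSpecStalk z
  let c : PrimeSpectrum R → PrimeSpectrum O := PrimeSpectrum.comap (algebraMap O R)
  have hc : Continuous c := PrimeSpectrum.continuous_comap _
  haveI := faithfullyFlat_of_isStrictHenselization O R
  have hmS := map_maximalIdeal_of_isStrictHenselization O R
  have hcsurj : Function.Surjective c :=
    PrimeSpectrum.comap_surjective_of_faithfullyFlat (A := O) (B := R)
  let g : PrimeSpectrum R → Z := fun P => j (c P)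
  have hg : Continuous g := j.continuous.comp hc
  have hgcl : g (closedPoint R) = z := by
    show j (c (closedPoint R)) = z
    have : c (closedPoint R) = closedPoint O := IsLocalRing.comap_closedPoint (algebraMap O R)
    rw [this, Scheme.fromSpecStalk_closedPoint]
  have hgspec : ∀ P, g P ⤳ z := fun P => by
    have : g P ∈ Set.range j := ⟨c P, rfl⟩
    rwa [Scheme.range_fromSpecStalk] at this
  have hgeq : ∀ P, g P = z → P = closedPoint R := by
    intro P hP
    have h3 : j (c P) = j (closedPoint O) := by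
      rw [Scheme.fromSpecStalk_closedPoint]; exact hP
    have h4 : c P = closedPoint O := j.isEmbedding.injective h3
    have h5 : P.asIdeal.comap (algebraMap O R) = maximalIdeal O :=
      congrArg PrimeSpectrum.asIdeal h4
    apply PrimeSpectrum.ext
    refine le_antisymm (IsLocalRing.le_maximalIdeal P.isPrime.ne_top) ?_
    show maximalIdeal R ≤ P.asIdeal
    rw [← hmS, Ideal.map_le_iff_le_comap, h5]
  have hlift : ∀ t : Z, t ⤳ z → t ≠ z →
      ∃ P : ↥({closedPoint R}ᶜ : Set (PrimeSpectrum R)), g P.1 = t := by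
    intro t ht hne
    have h2 : t ∈ Set.range j := by rw [Scheme.range_fromSpecStalk]; exact ht
    obtain ⟨q, rfl⟩ := h2
    obtain ⟨P, rfl⟩ := hcsurj q
    refine ⟨⟨P, ?_⟩, rfl⟩
    intro hP
    apply hne
    rw [Set.mem_singleton_iff] at hP
    rw [hP]
    exact hgcl
  let A₁ : Set ↥({closedPoint R}ᶜ : Set (PrimeSpectrum R)) := (fun P => g P.1) ⁻¹' F₁
  let A₂ : Set ↥({closedPoint R}ᶜ : Set (PrimeSpectrum R)) := (fun P => g P.1) ⁻¹' F₂
  have hA₁ : IsClosed A₁ := h₁.preimage (hg.comp continuous_subtype_val)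
  have hA₂ : IsClosed A₂ := h₂.preimage (hg.comp continuous_subtype_val)
  have hcover : (Set.univ : Set ↥({closedPoint R}ᶜ : Set (PrimeSpectrum R))) ⊆ A₁ ∪ A₂ := by
    intro P _
    have : g P.1 ∈ F₁ ∪ F₂ := hcov ▸ Set.mem_univ _
    exact this
  obtain ⟨P₁, hP₁⟩ := hlift t₁ ht₁z hne₁
  obtain ⟨P₂, hP₂⟩ := hlift t₂ ht₂z hne₂
  have hne1 : ((Set.univ : Set ↥({closedPoint R}ᶜ : Set (PrimeSpectrum R))) ∩ A₁).Nonempty :=
    ⟨P₁, trivial, by show g P₁.1 ∈ F₁; rw [hP₁]; exact ht₁⟩
  have hne2 : ((Set.univ : Set ↥({closedPoint R}ᶜ : Set (PrimeSpectrum R))) ∩ A₂).Nonempty :=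
    ⟨P₂, trivial, by show g P₂.1 ∈ F₂; rw [hP₂]; exact ht₂⟩
  obtain ⟨P, -, hPA₁, hPA₂⟩ := isPreconnected_closed_iff.1 isPreconnected_univ A₁ A₂ hA₁ hA₂
    hcover hne1 hne2
  have h7 : g P.1 = z := hmin (g P.1) ⟨hPA₁, hPA₂⟩ (hgspec P.1)
  exact P.2 (hgeq P.1 h7)

/-- Disjoint opens `T`, `T'` of a scheme with dense union, such that the punctured spectra of the
strict henselizations at the points outside `T ∪ T'` are connected, and such that every point of
the closure of `T` (resp. `T'`) is a specialization of a point of `T` (resp. `T'`), have disjoint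
closures. -/
theorem disjoint_closure_of_connected (Z : Scheme.{u}) (T T' : Set Z) (hT : IsOpen T)
    (hT' : IsOpen T') (hdisj : Disjoint T T') (hdense : Dense (T ∪ T'))
    (hconn : ∀ z : Z, z ∉ T ∪ T' →
      ConnectedSpace ↥({closedPoint (SH (Z.presheaf.stalk z))}ᶜ :
        Set (PrimeSpectrum (SH (Z.presheaf.stalk z)))))
    (hspec : ∀ z ∈ closure T, ∃ t ∈ T, t ⤳ z) (hspec' : ∀ z ∈ closure T', ∃ t ∈ T', t ⤳ z) :
    Disjoint (closure T) (closure T') := by
  rw [Set.disjoint_iff]
  rintro z₀ ⟨hz₀, hz₀'⟩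
  obtain ⟨z, hzC, -, hzmin⟩ := exists_minimal_generization Z (closure T ∩ closure T')
    (isClosed_closure.inter isClosed_closure) z₀ ⟨hz₀, hz₀'⟩
  have hzT : z ∉ T := fun h =>
    Set.disjoint_iff.1 (hdisj.closure_right hT) ⟨h, hzC.2⟩
  have hzT' : z ∉ T' := fun h =>
    Set.disjoint_iff.1 (hdisj.symm.closure_right hT') ⟨h, hzC.1⟩
  have hzU : z ∉ T ∪ T' := fun h => h.elim hzT hzT'
  obtain ⟨t₁, ht₁, ht₁z⟩ := hspec z hzC.1
  obtain ⟨t₂, ht₂, ht₂z⟩ := hspec' z hzC.2
  refine not_split_of_connected Z z (SH (Z.presheaf.stalk z)) (hconn z hzU) (closure T)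
    (closure T') isClosed_closure isClosed_closure ?_ hzmin t₁ (subset_closure ht₁) ht₁z ?_
    t₂ (subset_closure ht₂) ht₂z ?_
  · rw [← closure_union]; exact hdense.closure_eq
  · rintro rfl; exact hzT ht₁
  · rintro rfl; exact hzT' ht₂

/-- In the situation of `disjoint_closure_of_connected`, the closure of `T` is open. -/
theorem isOpen_closure_of_connected (Z : Scheme.{u}) (T T' : Set Z) (hT : IsOpen T)
    (hT' : IsOpen T') (hdisj : Disjoint T T') (hdense : Dense (T ∪ T'))
    (hconn : ∀ z : Z, z ∉ T ∪ T' →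
      ConnectedSpace ↥({closedPoint (SH (Z.presheaf.stalk z))}ᶜ :
        Set (PrimeSpectrum (SH (Z.presheaf.stalk z)))))
    (hspec : ∀ z ∈ closure T, ∃ t ∈ T, t ⤳ z) (hspec' : ∀ z ∈ closure T', ∃ t ∈ T', t ⤳ z) :
    IsOpen (closure T) ∧ closure T ∩ (T ∪ T') ⊆ T := by
  have hd := disjoint_closure_of_connected Z T T' hT hT' hdisj hdense hconn hspec hspec'
  have hcov : closure T ∪ closure T' = Set.univ := by
    rw [← closure_union]; exact hdense.closure_eq
  constructor
  · have : closure T = (closure T')ᶜ := by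
      ext z
      constructor
      · intro hz hz'
        exact Set.disjoint_iff.1 hd ⟨hz, hz'⟩
      · intro hz
        have : z ∈ closure T ∪ closure T' := hcov ▸ Set.mem_univ z
        exact this.elim id (fun h => absurd h hz)
    rw [this]
    exact isClosed_closure.isOpen_compl
  · rintro z ⟨hz, hz' | hz'⟩
    · exact hz'
    · exact absurd (⟨hz, subset_closure hz'⟩ : z ∈ closure T ∩ closure T')
        (fun h => Set.disjoint_iff.1 hd h)

end Groth.Agent.Lib.helper9.FEtDense
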