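import Mathlib

/-!
# Points of the closure of an open subset as specializations (helper9)

* `exists_specializes_of_mem_closure_range_comap`: a point of the closure of the image of
  `Spec R → Spec B` is a specialization of a point of the image.
* `exists_specializes_of_isCompact`: a point `z` of an affine open `V` of a scheme lying in the
  closure of a quasi-compact open `K ⊆ V` is a specialization of a point of `K`.
* `exists_maximal_generization`: every point of a scheme has a maximal generization.
* `exists_specializes_of_finite_maximal`: if `z` has an open neighbourhood with finitely many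
  maximal points, and `z` lies in the closure of an open `T`, then `z` is a specialization of a
  point of `T`.
* `finite_maximal_of_finite_flat`: finiteness of the set of maximal points of a quasi-compact open
  passes up along a flat morphism with finite fibres.
-/

set_option autoImplicit false
set_option linter.style.haveILetI false
set_option backward.isDefEq.respectTransparency false

universe u

namespace Groth.Agent.Lib.helper9.FEtDense

open AlgebraicGeometry CategoryTheory IsLocalRing

/-- A point of the closure of the image of `Spec R → Spec B` is a specialization of a point of the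
image. -/
theorem exists_specializes_of_mem_closure_range_comap {B R : Type u} [CommRing B] [CommRing R]
    (φ : B →+* R) (z : PrimeSpectrum B) (hz : z ∈ closure (Set.range (PrimeSpectrum.comap φ))) :
    ∃ t ∈ Set.range (PrimeSpectrum.comap φ), t ⤳ z := by
  rw [PrimeSpectrum.closure_range_comap, PrimeSpectrum.mem_zeroLocus] at hz
  haveI := z.isPrime
  obtain ⟨Q, -, hQp, hQ⟩ := Ideal.exists_ideal_comap_le_prime (f := φ) z.asIdeal (⊥ : Ideal R)
    (by
      intro x hx
      exact hz hx)
  refine ⟨PrimeSpectrum.comap φ ⟨Q, hQp⟩, ⟨_, rfl⟩, ?_⟩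
  rw [← PrimeSpectrum.le_iff_specializes]
  exact hQ

/-- A point `z` of an affine open `V` lying in the closure of a quasi-compact open `K ⊆ V` is a
specialization of a point of `K`. -/
theorem exists_specializes_of_isCompact (Z : Scheme.{u}) (V : Z.Opens) (hV : IsAffineOpen V)
    (K : Z.Opens) (hK : IsCompact (K : Set Z)) (hKV : K ≤ V) (z : Z) (hzV : z ∈ V)
    (hz : z ∈ closure (K : Set Z)) : ∃ t ∈ K, t ⤳ z := by
  obtain ⟨R, g, hg⟩ := isCompact_iff_exists.1 hK
  have hgV : Set.range g ⊆ Set.range hV.fromSpec := by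
    rw [hg, hV.range_fromSpec]
    exact hKV
  let g' : Spec R ⟶ Spec Γ(Z, V) := IsOpenImmersion.lift hV.fromSpec g hgV
  have hg' : g' ≫ hV.fromSpec = g := IsOpenImmersion.lift_fac _ _ _
  obtain ⟨φ, hφ⟩ := Spec.map_surjective g'
  have hzr : z ∈ Set.range hV.fromSpec := by rw [hV.range_fromSpec]; exact hzV
  obtain ⟨z', rfl⟩ := hzr
  have hrange : Set.range g = hV.fromSpec '' Set.range g' := by
    rw [← hg', Scheme.Hom.comp_base, TopCat.coe_comp, Set.range_comp]
  have hz' : z' ∈ closure (Set.range g') := by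
    rw [hV.fromSpec.isOpenEmbedding.isInducing.closure_eq_preimage_closure_image]
    show hV.fromSpec z' ∈ closure (hV.fromSpec '' Set.range g')
    rw [← hrange, hg]
    exact hz
  have hz'' : (z' : PrimeSpectrum Γ(Z, V)) ∈
      closure (Set.range (PrimeSpectrum.comap φ.hom)) := by
    have : Set.range (PrimeSpectrum.comap φ.hom) = Set.range g' := by
      rw [← hφ]; rfl
    rw [this]
    exact hz'
  obtain ⟨t, ⟨s, rfl⟩, hts⟩ := exists_specializes_of_mem_closure_range_comap φ.hom z' hz''
  refine ⟨hV.fromSpec (PrimeSpectrum.comap φ.hom s), ?_, hts.map hV.fromSpec.continuous⟩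
  have h1 : hV.fromSpec (PrimeSpectrum.comap φ.hom s) ∈ Set.range g := by
    rw [hrange]
    refine ⟨_, ⟨s, ?_⟩, rfl⟩
    rw [← hφ]; rfl
  rw [hg] at h1
  exact h1

/-- Every point of a scheme has a generization which is maximal (has no proper generization). -/
theorem exists_maximal_generization (Z : Scheme.{u}) (z₀ : Z) :
    ∃ z, z ⤳ z₀ ∧ ∀ z', z' ⤳ z → z' = z := by
  let j := Z.fromSpecStalk z₀
  obtain ⟨q, hq, -⟩ := Ideal.exists_minimalPrimes_le
    (bot_le : (⊥ : Ideal (Z.presheaf.stalk z₀)) ≤ maximalIdeal (Z.presheaf.stalk z₀))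
  haveI hqp : q.IsPrime := hq.1.1
  let Q : PrimeSpectrum (Z.presheaf.stalk z₀) := ⟨q, hqp⟩
  have h1 : j Q ⤳ z₀ := by
    have : j Q ∈ Set.range j := ⟨Q, rfl⟩
    rwa [Scheme.range_fromSpecStalk] at this
  refine ⟨j Q, h1, ?_⟩
  intro z' hz'
  have h2 : z' ∈ Set.range j := by
    rw [Scheme.range_fromSpecStalk]; exact hz'.trans h1
  obtain ⟨Q', rfl⟩ := h2
  have h3 : Q' ⤳ Q := (j.isEmbedding.toIsInducing.specializes_iff).1 hz'
  rw [← PrimeSpectrum.le_iff_specializes] at h3
  have h5 : q ≤ Q'.asIdeal := hq.2 ⟨Q'.isPrime, bot_le⟩ h3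
  have h6 : Q' = Q := PrimeSpectrum.ext (le_antisymm h3 h5)
  rw [h6]

/-- If `z` has an open neighbourhood `V` with finitely many maximal points and lies in the closure
of an open subset `T`, then `z` is a specialization of a point of `T`. -/
theorem exists_specializes_of_finite_maximal (Z : Scheme.{u}) (T : Set Z) (hT : IsOpen T) (z : Z)
    (hz : z ∈ closure T) (V : Set Z) (hV : IsOpen V) (hzV : z ∈ V)
    (hfin : {η : Z | η ∈ V ∧ ∀ η', η' ⤳ η → η' = η}.Finite) : ∃ t ∈ T, t ⤳ z := by
  let M : Set Z := {η : Z | η ∈ V ∧ ∀ η', η' ⤳ η → η' = η}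
  let F : Set Z := ⋃ η ∈ M ∩ T, closure {η}
  have hF : IsClosed F :=
    Set.Finite.isClosed_biUnion (hfin.subset Set.inter_subset_left) fun _ _ => isClosed_closure
  have hsub : T ∩ V ⊆ F := by
    rintro y ⟨hyT, hyV⟩
    obtain ⟨η, hηy, hηmax⟩ := exists_maximal_generization Z y
    refine Set.mem_biUnion (x := η) ⟨⟨hηy.mem_open hV hyV, hηmax⟩, hηy.mem_open hT hyT⟩ ?_
    exact specializes_iff_mem_closure.1 hηy
  have hzcl : z ∈ closure (T ∩ V) := by
    rw [mem_closure_iff]
    intro o ho hzo
    obtain ⟨y, ⟨hyo, hyV⟩, hyT⟩ := mem_closure_iff.1 hz (o ∩ V) (ho.inter hV) ⟨hzo, hzV⟩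
    exact ⟨y, hyo, hyT, hyV⟩
  have hzF : z ∈ F := closure_minimal hsub hF hzcl
  obtain ⟨η, ⟨-, hηT⟩, hzη⟩ := Set.mem_iUnion₂.1 hzF
  exact ⟨η, hηT, specializes_iff_mem_closure.2 hzη⟩

/-- In a quasi-sober space, the closure of a maximal point is an irreducible component. -/
theorem closure_mem_irreducibleComponents_of_maximal {Y : Type*} [TopologicalSpace Y]
    [QuasiSober Y] (y : Y) (hy : ∀ y', y' ⤳ y → y' = y) :
    closure ({y} : Set Y) ∈ irreducibleComponents Y := by
  obtain ⟨T, hT, hsub⟩ := exists_mem_irreducibleComponents_subset_of_isIrreducible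
    (closure ({y} : Set Y)) isIrreducible_singleton.closure
  obtain ⟨ξ, hξ⟩ := QuasiSober.sober hT.1 (isClosed_of_mem_irreducibleComponents T hT)
  have hyT : y ∈ T := hsub (subset_closure rfl)
  have hξy : ξ ⤳ y := hξ.specializes hyT
  have : ξ = y := hy ξ hξy
  rw [this] at hξ
  rw [hξ.def]
  exact hT

/-- A space with finitely many irreducible components has finitely many maximal points. -/
theorem finite_maximal_of_finite_irreducibleComponents {Y : Type*} [TopologicalSpace Y]
    [QuasiSober Y] (h : (irreducibleComponents Y).Finite) :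
    {y : Y | ∀ y', y' ⤳ y → y' = y}.Finite := by
  refine Set.Finite.of_injOn (f := fun y : Y => closure ({y} : Set Y))
    (fun y hy => closure_mem_irreducibleComponents_of_maximal y hy) ?_ h
  intro y₁ hy₁ y₂ hy₂ h12
  have h12' : closure ({y₁} : Set Y) = closure ({y₂} : Set Y) := h12
  have h1 : y₁ ⤳ y₂ := by
    rw [specializes_iff_mem_closure, h12']
    exact subset_closure rfl
  exact hy₂ y₁ h1

/-- Finiteness of the set of maximal points of quasi-compact opens passes up along a generalizing
open morphism with finite fibres. -/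
theorem finite_maximal_of_finite_fibres {Z X : Scheme.{u}} (f : Z ⟶ X)
    (hopen : IsOpenMap f) (hgen : GeneralizingMap f)
    (hfib : ∀ x : X, (f ⁻¹' {x}).Finite)
    (hirr : ∀ W : X.Opens, IsCompact (W : Set X) → (irreducibleComponents ↥W).Finite)
    (V : Z.Opens) (hV : IsCompact (V : Set Z)) :
    {η : Z | η ∈ V ∧ ∀ η', η' ⤳ η → η' = η}.Finite := by
  let W : X.Opens := ⟨f '' (V : Set Z), hopen _ V.2⟩
  have hW : IsCompact (W : Set X) := hV.image f.continuous
  haveI : QuasiSober ↥W := W.2.isOpenEmbedding_subtypeVal.quasiSober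
  have h1 := finite_maximal_of_finite_irreducibleComponents (hirr W hW)
  have h2 : (Subtype.val '' {w : ↥W | ∀ w', w' ⤳ w → w' = w}).Finite := h1.image _
  refine (Set.Finite.preimage' h2 (fun x _ => hfib x)).subset ?_
  rintro η ⟨hηV, hηmax⟩
  have hfη : f η ∈ W := ⟨η, hηV, rfl⟩
  refine ⟨⟨f η, hfη⟩, ?_, rfl⟩
  intro w' hw'
  have h3 : w'.1 ⤳ f η := hw'.map continuous_subtype_val
  obtain ⟨η', hη', hfη'⟩ := hgen h3
  have h4 : η' = η := hηmax η' hη'
  apply Subtype.ext
  show w'.1 = f η
  rw [← hfη', h4]

end Groth.Agent.Lib.helper9.FEtDense
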