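import Mathlib
import Groth.Prelude.Def_FEt
import Groth.Prelude.Def_Hensel
import Groth.Agent.Lib.Helper9.FEtDense1
import Groth.Agent.Lib.Helper9.GeomBranchCount1
import Groth.Agent.Lib.Helper1.EssEtStalk
import Groth.Agent.S0237

/-!
# Restriction of finite étale covers to a dense open: full faithfulness (helper9)

* `exists_section_of_isOpen_closure`: a section of a finite étale morphism over a dense open
  extends as soon as the closure of its image is open (and meets the preimage of the dense open in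
  the image of the section).
* `connected_of_etale`: transfer of the hypothesis "punctured spectrum of the strict henselization
  connected" along an étale morphism.
* `full_faithful_of_spec`: the general criterion.
-/

set_option autoImplicit false
set_option linter.style.haveILetI false
set_option backward.isDefEq.respectTransparency false

universe u

namespace Groth.Agent.Lib.helper9.FEtDense

open AlgebraicGeometry CategoryTheory CategoryTheory.Limits IsLocalRing
open Groth.Agent.Lib.Helper24.StrictHens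

/-- **Extension of sections.** Let `p : Z ⟶ A` be finite étale, `j : V ⟶ A` an open immersion with
dense image and `γ : V ⟶ Z` a section of `p` over `V`. If the closure of the image of `γ` is open
and meets `p⁻¹(V)` only in the image of `γ`, then `γ` extends to a section of `p`. -/
theorem exists_section_of_isOpen_closure {A Z V : Scheme.{u}} (p : Z ⟶ A) [IsFinite p] [Etale p]
    (j : V ⟶ A) [IsOpenImmersion j] (hj : Dense (Set.range j)) (γ : V ⟶ Z) (hγ : γ ≫ p = j)
    (hopen : IsOpen (closure (Set.range γ)))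
    (hcl : closure (Set.range γ) ∩ p ⁻¹' (Set.range j) ⊆ Set.range γ) :
    ∃ s : A ⟶ Z, s ≫ p = 𝟙 A ∧ j ≫ s = γ := by
  let Γ : Z.Opens := ⟨closure (Set.range γ), hopen⟩
  haveI : IsClosedImmersion Γ.ι := by
    apply IsClosedImmersion.of_isPreimmersion
    rw [Scheme.Opens.range_ι]
    exact isClosed_closure
  let π : (Γ : Scheme.{u}) ⟶ A := Γ.ι ≫ p
  haveI : IsFinite π := inferInstanceAs (IsFinite (Γ.ι ≫ p))
  haveI : Etale π := inferInstanceAs (Etale (Γ.ι ≫ p))
  have hγΓ : Set.range γ ⊆ Set.range Γ.ι := by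
    rw [Scheme.Opens.range_ι]; exact subset_closure
  let γ' : V ⟶ Γ := IsOpenImmersion.lift Γ.ι γ hγΓ
  have hγ' : γ' ≫ Γ.ι = γ := IsOpenImmersion.lift_fac _ _ _
  have hγ'π : γ' ≫ π = j := by
    show γ' ≫ Γ.ι ≫ p = j
    rw [← Category.assoc, hγ', hγ]
  haveI : Etale (γ' ≫ π) := by rw [hγ'π]; infer_instance
  haveI : Etale γ' := Etale.of_comp γ' π
  haveI : Mono γ' := mono_of_mono_fac hγ'π
  haveI : IsOpenImmersion γ' := IsOpenImmersion.of_flat_of_mono γ'
  -- the image of `γ'` is the whole preimage of the image of `j`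
  have hrange : π ⁻¹' Set.range j ⊆ Set.range γ' := by
    intro g hg
    have h1 : Γ.ι g ∈ Set.range γ := by
      refine hcl ⟨?_, ?_⟩
      · have : Γ.ι g ∈ Set.range Γ.ι := ⟨g, rfl⟩
        rw [Scheme.Opens.range_ι] at this
        exact this
      · exact hg
    obtain ⟨v, hv⟩ := h1
    refine ⟨v, Γ.ι.injective ?_⟩
    rw [← hv, ← hγ']
    rfl
  have hfst : pullback.fst π j = pullback.snd π j ≫ γ' := by
    have hsub : Set.range (pullback.fst π j) ⊆ Set.range γ' := by
      rintro _ ⟨w, rfl⟩
      apply hrange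
      refine ⟨pullback.snd π j w, ?_⟩
      rw [← Scheme.Hom.comp_apply, ← Scheme.Hom.comp_apply, pullback.condition]
    let t := IsOpenImmersion.lift γ' (pullback.fst π j) hsub
    have ht : t ≫ γ' = pullback.fst π j := IsOpenImmersion.lift_fac _ _ _
    have : t = pullback.snd π j := by
      rw [← cancel_mono j]
      calc t ≫ j = t ≫ γ' ≫ π := by rw [hγ'π]
        _ = (t ≫ γ') ≫ π := (Category.assoc _ _ _).symm
        _ = pullback.fst π j ≫ π := by rw [ht]
        _ = pullback.snd π j ≫ j := pullback.condition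
    rw [← ht, this]
  haveI : IsIso (pullback.snd π j) := by
    refine ⟨pullback.lift γ' (𝟙 V) (by rw [hγ'π, Category.id_comp]), ?_, pullback.lift_snd _ _ _⟩
    apply pullback.hom_ext
    · rw [Category.assoc, pullback.lift_fst, Category.id_comp, hfst]
    · rw [Category.assoc, pullback.lift_snd, Category.id_comp, Category.comp_id]
  have hrank : ∀ v : V, Scheme.Hom.finrank π (j v) = 1 := by
    intro v
    rw [← Scheme.Hom.finrank_pullback_snd π j v, Scheme.Hom.finrank_eq_one_of_isIso]
    rfl
  have hone : Scheme.Hom.finrank π = 1 := by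
    have hlc := Scheme.Hom.isLocallyConstant_finrank π
    have hclopen : IsClopen (Scheme.Hom.finrank π ⁻¹' {1}) := hlc.isClopen_fiber 1
    have huniv : Scheme.Hom.finrank π ⁻¹' {1} = Set.univ := by
      rw [← hclopen.1.closure_eq]
      refine (hj.mono ?_).closure_eq
      rintro _ ⟨v, rfl⟩
      exact hrank v
    ext a
    have : a ∈ Scheme.Hom.finrank π ⁻¹' {1} := huniv ▸ Set.mem_univ a
    exact this
  haveI : IsIso π := (Scheme.Hom.isIso_iff_finrank_eq π).2 hone
  refine ⟨inv π ≫ Γ.ι, ?_, ?_⟩
  · rw [Category.assoc]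
    exact IsIso.inv_hom_id π
  · rw [← hγ', ← Category.assoc]
    congr 1
    rw [IsIso.comp_inv_eq, hγ'π]

open Groth.Agent.Lib.helper9.GeomBranchCount Groth.Agent.H1.EssEtStalk in
/-- Transfer of "the punctured spectrum of every strict henselization is connected" along an étale
morphism. -/
theorem connected_of_etale {Z X : Scheme.{u}} (f : Z ⟶ X) [Etale f] (z : Z)
    (hsh : ∀ (R : Type u) [CommRing R] [IsLocalRing R] [Algebra (X.presheaf.stalk (f z)) R]
      [IsLocalHom (algebraMap (X.presheaf.stalk (f z)) R)]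
      [Hensel.IsStrictHenselization (X.presheaf.stalk (f z)) R],
      ConnectedSpace (FEt.puncturedSpec R : Scheme.{u})) :
    ConnectedSpace ↥({closedPoint (SH (Z.presheaf.stalk z))}ᶜ :
      Set (PrimeSpectrum (SH (Z.presheaf.stalk z)))) := by
  letI : Algebra ↥(X.presheaf.stalk (f z)) ↥(Z.presheaf.stalk z) :=
    (f.stalkMap z).hom.toAlgebra
  haveI : IsLocalHom (algebraMap ↥(X.presheaf.stalk (f z)) ↥(Z.presheaf.stalk z)) :=
    inferInstanceAs (IsLocalHom (f.stalkMap z).hom)
  have hess := isEssentiallyEtale_stalkMap f z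
  letI : Algebra ↥(X.presheaf.stalk (f z)) (SH (Z.presheaf.stalk z)) :=
    ((algebraMap ↥(Z.presheaf.stalk z) (SH (Z.presheaf.stalk z))).comp
      (algebraMap ↥(X.presheaf.stalk (f z)) ↥(Z.presheaf.stalk z))).toAlgebra
  obtain ⟨hloc, hhens⟩ := isStrictHenselization_of_essEtale (X.presheaf.stalk (f z))
    (Z.presheaf.stalk z) (SH (Z.presheaf.stalk z)) hess
  exact hsh (SH (Z.presheaf.stalk z))

/-- Core of fullness. -/
theorem core_full {X : Scheme.{u}} (U : X.Opens) (hU : Dense (U : Set X))
    (hsh : ∀ x : X, x ∉ U → ∀ (R : Type u) [CommRing R] [IsLocalRing R]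
      [Algebra (X.presheaf.stalk x) R] [IsLocalHom (algebraMap (X.presheaf.stalk x) R)]
      [Hensel.IsStrictHenselization (X.presheaf.stalk x) R],
      ConnectedSpace (FEt.puncturedSpec R : Scheme.{u}))
    (hspec : ∀ (Z : Scheme.{u}) (f : Z ⟶ X), IsFinite f → Etale f → ∀ (T T' : Set Z), IsOpen T →
      IsOpen T' → Disjoint T T' → T ∪ T' = f ⁻¹' (U : Set X) → ∀ z ∈ closure T, ∃ t ∈ T, t ⤳ z)
    {Yl Zl : Scheme.{u}} (pY : Yl ⟶ X) (pZ : Zl ⟶ X) [IsFinite pY] [Etale pY] [IsFinite pZ]
    [Etale pZ] (ψl : pullback pY U.ι ⟶ pullback pZ U.ι)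
    (hψw : ψl ≫ pullback.snd pZ U.ι = pullback.snd pY U.ι) :
    ∃ φl : Yl ⟶ Zl, φl ≫ pZ = pY ∧ pullback.fst pY U.ι ≫ φl = ψl ≫ pullback.fst pZ U.ι := by
  let p : pullback pY pZ ⟶ Yl := pullback.fst pY pZ
  haveI : IsFinite p := MorphismProperty.pullback_fst pY pZ ‹IsFinite pZ›
  haveI : Etale p := MorphismProperty.pullback_fst pY pZ ‹Etale pZ›
  let fW : pullback pY pZ ⟶ X := p ≫ pY
  haveI : IsFinite fW := inferInstanceAs (IsFinite (p ≫ pY))
  haveI : Etale fW := inferInstanceAs (Etale (p ≫ pY))
  let j : pullback pY U.ι ⟶ Yl := pullback.fst pY U.ι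
  have hcond : j ≫ pY = (ψl ≫ pullback.fst pZ U.ι) ≫ pZ := by
    calc pullback.fst pY U.ι ≫ pY = pullback.snd pY U.ι ≫ U.ι := pullback.condition
      _ = (ψl ≫ pullback.snd pZ U.ι) ≫ U.ι := by rw [hψw]
      _ = ψl ≫ pullback.fst pZ U.ι ≫ pZ := by rw [Category.assoc, ← pullback.condition]
      _ = (ψl ≫ pullback.fst pZ U.ι) ≫ pZ := (Category.assoc _ _ _).symm
  let γ : pullback pY U.ι ⟶ pullback pY pZ := pullback.lift j (ψl ≫ pullback.fst pZ U.ι) hcond
  have hγ : γ ≫ p = j := pullback.lift_fst _ _ _
  have hjrange : Set.range j = pY ⁻¹' (U : Set X) := by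
    show Set.range (pullback.fst pY U.ι) = _
    rw [Scheme.Pullback.range_fst, Scheme.Opens.range_ι]
  have hjd : Dense (Set.range j) := by
    rw [hjrange]
    exact hU.preimage pY.isOpenMap
  -- the graph as a section over `V`
  let σ : pullback pY U.ι ⟶ pullback p j := pullback.lift γ (𝟙 _) (by rw [hγ, Category.id_comp])
  have hσ : σ ≫ pullback.snd p j = 𝟙 _ := pullback.lift_snd _ _ _
  have hσγ : σ ≫ pullback.fst p j = γ := pullback.lift_fst _ _ _
  haveI : IsClosedImmersion (σ ≫ pullback.snd p j) := by rw [hσ]; infer_instance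
  haveI : IsClosedImmersion σ := IsClosedImmersion.of_comp σ (pullback.snd p j)
  let q1 : pullback p j ⟶ pullback pY pZ := pullback.fst p j
  have hq1range : Set.range q1 = fW ⁻¹' (U : Set X) := by
    show Set.range (pullback.fst p j) = _
    rw [Scheme.Pullback.range_fst, hjrange]
    rfl
  let T : Set ↑(pullback pY pZ) := Set.range γ
  let T' : Set ↑(pullback pY pZ) := q1 '' (Set.range σ)ᶜ
  have hTeq : T = q1 '' Set.range σ := by
    show Set.range γ = _
    rw [← hσγ, Scheme.Hom.comp_base, TopCat.coe_comp, Set.range_comp]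
  haveI : Etale (γ ≫ p) := by rw [hγ]; infer_instance
  haveI : Etale γ := Etale.of_comp γ p
  have hT : IsOpen T := γ.isOpenMap.isOpen_range
  have hT' : IsOpen T' :=
    q1.isOpenEmbedding.isOpenMap _ σ.isClosedEmbedding.isClosed_range.isOpen_compl
  have hdisj : Disjoint T T' := by
    rw [hTeq]
    exact (Set.disjoint_image_iff q1.injective).2 disjoint_compl_right
  have hunion : T ∪ T' = fW ⁻¹' (U : Set X) := by
    rw [hTeq, ← Set.image_union, Set.union_compl_self, Set.image_univ, hq1range]
  have hdense : Dense (T ∪ T') := by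
    rw [hunion]
    exact hU.preimage fW.isOpenMap
  have hconn : ∀ z : ↑(pullback pY pZ), z ∉ T ∪ T' →
      ConnectedSpace ↥({closedPoint (SH ((pullback pY pZ).presheaf.stalk z))}ᶜ :
        Set (PrimeSpectrum (SH ((pullback pY pZ).presheaf.stalk z)))) := by
    intro z hz
    rw [hunion] at hz
    exact connected_of_etale fW z (hsh (fW z) hz)
  obtain ⟨hopen, hcl⟩ := isOpen_closure_of_connected (pullback pY pZ) T T' hT hT' hdisj hdense
    hconn (hspec _ fW inferInstance inferInstance T T' hT hT' hdisj hunion)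
    (hspec _ fW inferInstance inferInstance T' T hT' hT hdisj.symm
      (by rw [Set.union_comm]; exact hunion))
  have hcl' : closure (Set.range γ) ∩ p ⁻¹' (Set.range j) ⊆ Set.range γ := by
    have : p ⁻¹' (Set.range j) = T ∪ T' := by
      rw [hunion, hjrange]
      rfl
    rw [this]
    exact hcl
  obtain ⟨s, hs1, hs2⟩ := exists_section_of_isOpen_closure p j hjd γ hγ hopen hcl'
  refine ⟨s ≫ pullback.snd pY pZ, ?_, ?_⟩
  · rw [Category.assoc, ← pullback.condition, ← Category.assoc]
    show (s ≫ p) ≫ pY = pY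
    rw [hs1, Category.id_comp]
  · show j ≫ s ≫ pullback.snd pY pZ = _
    rw [← Category.assoc, hs2]
    exact pullback.lift_snd _ _ _

/-- **General criterion.** Let `U` be a dense open of a scheme `X` such that the punctured spectra
of the strict henselizations at the points outside `U` are connected. Assume that for every finite
étale `Z ⟶ X` and every clopen subset `T` of the preimage of `U`, every point of the closure of `T`
is a specialization of a point of `T`. Then restriction of finite étale covers from `X` to `U` is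
fully faithful. -/
theorem full_faithful_of_spec {X : Scheme.{u}} (U : X.Opens) (hU : Dense (U : Set X))
    (hsh : ∀ x : X, x ∉ U → ∀ (R : Type u) [CommRing R] [IsLocalRing R]
      [Algebra (X.presheaf.stalk x) R] [IsLocalHom (algebraMap (X.presheaf.stalk x) R)]
      [Hensel.IsStrictHenselization (X.presheaf.stalk x) R],
      ConnectedSpace (FEt.puncturedSpec R : Scheme.{u}))
    (hspec : ∀ (Z : Scheme.{u}) (f : Z ⟶ X), IsFinite f → Etale f → ∀ (T T' : Set Z), IsOpen T →
      IsOpen T' → Disjoint T T' → T ∪ T' = f ⁻¹' (U : Set X) → ∀ z ∈ closure T, ∃ t ∈ T, t ⤳ z) :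
    (FEt.restrict U.ι).Full ∧ (FEt.restrict U.ι).Faithful := by
  refine ⟨⟨fun {Y Z} ψ => ?_⟩, ?_⟩
  · haveI : IsFinite Y.hom := Y.prop.1
    haveI : Etale Y.hom := Y.prop.2
    haveI : IsFinite Z.hom := Z.prop.1
    haveI : Etale Z.hom := Z.prop.2
    obtain ⟨φl, h1, h2⟩ := core_full U hU hsh hspec Y.hom Z.hom ψ.left (Over.w ψ.hom)
    refine ⟨MorphismProperty.Over.homMk φl h1 trivial, ?_⟩
    apply MorphismProperty.Over.Hom.ext
    refine pullback.hom_ext (f := Z.hom) (g := U.ι) ?_ ?_
    · exact (pullback.lift_fst _ _ _).trans h2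
    · exact (pullback.lift_snd _ _ _).trans (Over.w ψ.hom).symm
  · apply Groth.Agent.S0237.result
    show Dense (Set.range U.ι)
    rw [Scheme.Opens.range_ι]
    exact hU

end Groth.Agent.Lib.helper9.FEtDense
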