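import Mathlib
import Groth.Prelude.Def_FEt

/-!
# Faithfulness of restriction of finite étale covers (helper9)

`faithful_of_clopen`: if every nonempty open-closed subset of `Y` meets the image of `f : X ⟶ Y`,
then pulling back finite étale covers along `f` is faithful.
-/

set_option autoImplicit false
set_option linter.style.haveILetI false
set_option backward.isDefEq.respectTransparency false

universe u

namespace Groth.Agent.Lib.helper9.FEtFaithful

open AlgebraicGeometry CategoryTheory CategoryTheory.Limits

/-- Two morphisms `a b : U ⟶ V` over `Y`, with `V ⟶ Y` separated and unramified of finite type,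
which agree after precomposition with a morphism whose image is contained in no proper open-closed
subset, are equal. -/
lemma eq_of_clopen {U V Y W : Scheme.{u}} (u : U ⟶ Y) (v : V ⟶ Y) [IsSeparated v]
    [FormallyUnramified v] [LocallyOfFiniteType v]
    (a b : U ⟶ V) (ha : a ≫ v = u) (hb : b ≫ v = u) (p : W ⟶ U)
    (hp : ∀ Z : Set U, IsClopen Z → Set.range p.base ⊆ Z → Z = Set.univ)
    (h : p ≫ a = p ≫ b) : a = b := by
  let Δ := pullback.diagonal v
  let g : U ⟶ pullback v v := pullback.lift a b (by rw [ha, hb])
  let e : pullback g Δ ⟶ U := pullback.fst g Δ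
  have hpg : p ≫ g = (p ≫ a) ≫ Δ := by
    apply pullback.hom_ext
    · simp only [g, Δ, Category.assoc, pullback.lift_fst, pullback.diagonal_fst, Category.comp_id]
    · simp only [g, Δ, Category.assoc, pullback.lift_snd, pullback.diagonal_snd, Category.comp_id, h]
  let l : W ⟶ pullback g Δ := pullback.lift p (p ≫ a) hpg
  have hl : l ≫ e = p := pullback.lift_fst _ _ _
  have he_open : IsOpenImmersion e := inferInstance
  have he_closed : IsClosedImmersion e := inferInstance
  have hsurj : Function.Surjective e.base := by
    rw [← Set.range_eq_univ]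
    apply hp
    · exact ⟨e.isClosedEmbedding.isClosed_range, e.isOpenEmbedding.isOpen_range⟩
    · rw [← hl]
      rintro _ ⟨w, rfl⟩
      exact ⟨l.base w, by simp⟩
  have : Epi e.base := (TopCat.epi_iff_surjective _).2 hsurj
  have : IsIso e := IsOpenImmersion.isIso e
  have h1 : e ≫ a = pullback.snd g Δ := by
    have : e ≫ g = pullback.snd g Δ ≫ Δ := pullback.condition
    have := congrArg (· ≫ pullback.fst v v) this
    simpa only [g, Δ, Category.assoc, pullback.lift_fst, pullback.diagonal_fst, Category.comp_id]
      using this
  have h2 : e ≫ b = pullback.snd g Δ := by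
    have : e ≫ g = pullback.snd g Δ ≫ Δ := pullback.condition
    have := congrArg (· ≫ pullback.snd v v) this
    simpa only [g, Δ, Category.assoc, pullback.lift_snd, pullback.diagonal_snd, Category.comp_id]
      using this
  exact (cancel_epi e).1 (h1.trans h2.symm)

/-- If every nonempty open-closed subset of `Y` meets the image of `f`, pulling back finite étale
covers along `f` is faithful. -/
theorem faithful_of_clopen {X Y : Scheme.{u}} (f : X ⟶ Y)
    (h : ∀ T : Set Y, IsClopen T → T.Nonempty → (T ∩ Set.range f.base).Nonempty) :
    (FEt.restrict f).Faithful := by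
  constructor
  intro U V a b hab
  have hV : FEt.prop V.hom := V.prop
  have hU : FEt.prop U.hom := U.prop
  have : IsFinite V.hom := hV.1
  have : Etale V.hom := hV.2
  have : IsFinite U.hom := hU.1
  have : Etale U.hom := hU.2
  have hleft : Limits.pullback.fst U.hom f ≫ a.left = Limits.pullback.fst U.hom f ≫ b.left := by
    have := congrArg (fun t => t.left ≫ Limits.pullback.fst V.hom f) hab
    simp only [FEt.restrict, MorphismProperty.Over.pullback] at this
    erw [Limits.pullback.lift_fst, Limits.pullback.lift_fst] at this
    exact this
  have hclopen : ∀ Z : Set U.left, IsClopen Z →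
      Set.range (Limits.pullback.fst U.hom f).base ⊆ Z → Z = Set.univ := by
    intro Z hZ hsub
    rw [Scheme.Pullback.range_fst] at hsub
    by_contra hne
    have hne' : (Zᶜ).Nonempty := by
      rw [Set.nonempty_compl]
      exact hne
    have hT : IsClopen (U.hom.base '' Zᶜ) :=
      ⟨U.hom.isClosedMap _ hZ.compl.1, U.hom.isOpenMap _ hZ.compl.2⟩
    obtain ⟨y, ⟨z, hz, rfl⟩, hy⟩ := h _ hT (hne'.image _)
    exact hz (hsub hy)
  have := eq_of_clopen U.hom V.hom a.left b.left (Over.w a.hom) (Over.w b.hom)
    (Limits.pullback.fst U.hom f) hclopen hleft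
  ext1
  exact this

end Groth.Agent.Lib.helper9.FEtFaithful
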