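/-
Helper library (helper9): algebras of finite presentation via retracts of directed systems, part 1.

A ring map `φ : A ⟶ B` has the *retract property* if for every directed system `(F_j)` of
`A`-algebras with colimit `B`, the identity of `B` lifts to some stage. We show that this implies
that `φ` is of finite presentation.
-/
import Mathlib

set_option autoImplicit false
set_option linter.unusedVariables false

namespace Groth.Agent.Lib.helper9.FPColim

open CategoryTheory Limits

universe u

section Directed

variable {J : Type u} [Preorder J] [IsDirected J (· ≤ ·)] [Nonempty J]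

/-- A cocone over a directed system of commutative rings which is jointly surjective and
eventually injective is a colimit cocone. -/
noncomputable def isColimitOfDirected (F : J ⥤ CommRingCat.{u}) (c : Cocone F)
    (hsurj : ∀ b : c.pt, ∃ (j : J) (x : F.obj j), (c.ι.app j).hom x = b)
    (hinj : ∀ (j : J) (x y : F.obj j), (c.ι.app j).hom x = (c.ι.app j).hom y →
      ∃ (j' : J) (h : j ≤ j'), (F.map (homOfLE h)).hom x = (F.map (homOfLE h)).hom y) :
    IsColimit c := by
  haveI : ReflectsColimit F (forget CommRingCat) := reflectsColimit_of_reflectsIsomorphisms _ _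
  refine isColimitOfReflects (forget CommRingCat) ?_
  refine Types.FilteredColimit.isColimitOf' _ _ ?_ ?_
  · intro x
    obtain ⟨j, y, hy⟩ := hsurj x
    exact ⟨j, y, hy.symm⟩
  · intro j a a' h
    obtain ⟨j', hjj', h'⟩ := hinj j a a' h
    exact ⟨j', homOfLE hjj', h'⟩

end Directed

/-- The retract property of a ring map. -/
def RetractProp {A B : CommRingCat.{u}} (φ : A ⟶ B) : Prop :=
  ∀ (J : Type u) [Preorder J] [IsDirected J (· ≤ ·)] [Nonempty J] (F : J ⥤ CommRingCat.{u})
    (α : (Functor.const J).obj A ⟶ F) (ι : F ⟶ (Functor.const J).obj B),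
    IsColimit (Cocone.mk B ι) → (∀ j, α.app j ≫ ι.app j = φ) →
    ∃ (j : J) (σ : B ⟶ F.obj j), σ ≫ ι.app j = 𝟙 B ∧ φ ≫ σ = α.app j

section System1

variable {A B : CommRingCat.{u}} (φ : A ⟶ B)

/-- The subring generated by the image of `A` and a finite set. -/
def sub (s : Finset B) : Subring B := Subring.closure (Set.range φ.hom ∪ (s : Set B))

theorem sub_mono {s s' : Finset B} (h : s ≤ s') : sub φ s ≤ sub φ s' :=
  Subring.closure_mono (Set.union_subset_union_right _ (by exact_mod_cast h))

/-- inclusion of subrings -/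
noncomputable def incl {s s' : Finset B} (h : s ≤ s') :
    CommRingCat.of (sub φ s) ⟶ CommRingCat.of (sub φ s') :=
  CommRingCat.ofHom (Subring.inclusion (sub_mono φ h))

theorem incl_val {s s' : Finset B} (h : s ≤ s') (x : sub φ s) :
    ((incl φ h).hom x).val = x.val := by
  simp only [incl, CommRingCat.hom_ofHom]
  exact Subring.coe_inclusion _ _

theorem incl_id (s : Finset B) : incl φ (le_refl s) = 𝟙 _ := by
  apply CommRingCat.hom_ext
  apply RingHom.ext
  intro x
  apply Subtype.ext
  rw [incl_val]
  simp only [CommRingCat.hom_id, RingHom.id_apply]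

theorem incl_comp {s s' s'' : Finset B} (h : s ≤ s') (h' : s' ≤ s'') :
    incl φ h ≫ incl φ h' = incl φ (h.trans h') := by
  apply CommRingCat.hom_ext
  apply RingHom.ext
  intro x
  apply Subtype.ext
  rw [incl_val, CommRingCat.hom_comp, RingHom.comp_apply, incl_val, incl_val]

/-- The system of finitely generated subalgebras. -/
noncomputable def F₁ : Finset B ⥤ CommRingCat.{u} where
  obj s := CommRingCat.of (sub φ s)
  map {s s'} m := incl φ (leOfHom m)
  map_id s := incl_id φ s
  map_comp m m' := (incl_comp φ _ _).symm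

/-- the structure map -/
noncomputable def toSub (s : Finset B) : A ⟶ CommRingCat.of (sub φ s) :=
  CommRingCat.ofHom (φ.hom.codRestrict (sub φ s)
    (fun a => Subring.subset_closure (Or.inl ⟨a, rfl⟩)))

theorem toSub_val (s : Finset B) (a : A) : ((toSub φ s).hom a).val = φ.hom a := by
  simp only [toSub, CommRingCat.hom_ofHom]
  rfl

/-- the inclusion -/
noncomputable def ofSub (s : Finset B) : CommRingCat.of (sub φ s) ⟶ B :=
  CommRingCat.ofHom (sub φ s).subtype

theorem ofSub_apply (s : Finset B) (x : sub φ s) : (ofSub φ s).hom x = x.val := by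
  simp only [ofSub, CommRingCat.hom_ofHom]
  rfl

/-- The structure maps of the system of finitely generated subalgebras. -/
noncomputable def α₁ : (Functor.const (Finset B)).obj A ⟶ F₁ φ where
  app s := toSub φ s
  naturality s s' m := by
    apply CommRingCat.hom_ext
    apply RingHom.ext
    intro x
    apply Subtype.ext
    show ((incl φ (leOfHom m)).hom ((toSub φ s).hom x)).val = ((toSub φ s').hom x).val
    rw [incl_val, toSub_val, toSub_val]

/-- The inclusions of the finitely generated subalgebras. -/
noncomputable def ι₁ : F₁ φ ⟶ (Functor.const (Finset B)).obj B where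
  app s := ofSub φ s
  naturality s s' m := by
    apply CommRingCat.hom_ext
    apply RingHom.ext
    intro x
    let x' : sub φ s := x
    exact ((ofSub_apply φ s' _).trans (incl_val φ (leOfHom m) x')).trans (ofSub_apply φ s x').symm

theorem α₁_ι₁ (s : Finset B) : (α₁ φ).app s ≫ (ι₁ φ).app s = φ := by
  apply CommRingCat.hom_ext
  apply RingHom.ext
  intro x
  show (ofSub φ s).hom ((toSub φ s).hom x) = φ.hom x
  rw [ofSub_apply, toSub_val]

/-- `B` is the colimit of its finitely generated subalgebras. -/
noncomputable def isColimit₁ : IsColimit (Cocone.mk B (ι₁ φ)) := by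
  classical
  refine isColimitOfDirected _ _ ?_ ?_
  · intro b
    have hb : b ∈ sub φ {b} := Subring.subset_closure (Or.inr (by simp))
    exact ⟨{b}, ⟨b, hb⟩, ofSub_apply φ {b} ⟨b, hb⟩⟩
  · intro s x y h
    refine ⟨s, le_rfl, ?_⟩
    let x' : sub φ s := x
    let y' : sub φ s := y
    have h' : (ofSub φ s).hom x' = (ofSub φ s).hom y' := h
    rw [ofSub_apply, ofSub_apply] at h'
    have : x' = y' := Subtype.ext h'
    have h'' : x = y := this
    rw [h'']

theorem finiteType_of_sub_eq_top (s : Finset B) (h : sub φ s = ⊤) : φ.hom.FiniteType := by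
  algebraize [φ.hom]
  refine ⟨⟨s, ?_⟩⟩
  apply Subalgebra.toSubring_injective
  rw [Algebra.adjoin_eq_ring_closure]
  exact h

theorem finiteType_of_retractProp (h : RetractProp φ) : φ.hom.FiniteType := by
  obtain ⟨s, σ, hσ, -⟩ := h (Finset B) (F₁ φ) (α₁ φ) (ι₁ φ) (isColimit₁ φ) (α₁_ι₁ φ)
  refine finiteType_of_sub_eq_top φ s ?_
  rw [eq_top_iff]
  intro b _
  let z : sub φ s := σ.hom b
  have h1 : (ofSub φ s).hom z = b := by
    have : (σ ≫ (ι₁ φ).app s).hom b = b := by rw [hσ]; rfl
    exact this
  rw [ofSub_apply] at h1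
  rw [← h1]
  exact z.2

end System1

section System2

variable {A P B : CommRingCat.{u}} (ψ : A ⟶ P) (π : P ⟶ B)

/-- The ideal generated by a finite subset of the kernel. -/
def kerSpan (t : Finset (RingHom.ker π.hom)) : Ideal P :=
  Ideal.span (Subtype.val '' (t : Set (RingHom.ker π.hom)))

theorem kerSpan_mono {t t' : Finset (RingHom.ker π.hom)} (h : t ≤ t') :
    kerSpan π t ≤ kerSpan π t' :=
  Ideal.span_mono (Set.image_mono (by exact_mod_cast h))

theorem kerSpan_le (t : Finset (RingHom.ker π.hom)) : kerSpan π t ≤ RingHom.ker π.hom := by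
  rw [kerSpan, Ideal.span_le]
  rintro _ ⟨x, -, rfl⟩
  exact x.2

/-- the quotient map -/
noncomputable def mkQ (t : Finset (RingHom.ker π.hom)) : P ⟶ CommRingCat.of (P ⧸ kerSpan π t) :=
  CommRingCat.ofHom (Ideal.Quotient.mk (kerSpan π t))

theorem mkQ_surjective (t : Finset (RingHom.ker π.hom)) : Function.Surjective (mkQ π t).hom :=
  Ideal.Quotient.mk_surjective

theorem mkQ_eq_iff (t : Finset (RingHom.ker π.hom)) (x y : P) :
    (mkQ π t).hom x = (mkQ π t).hom y ↔ x - y ∈ kerSpan π t := by
  simp only [mkQ, CommRingCat.hom_ofHom]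
  exact Ideal.Quotient.eq

/-- the transition maps -/
noncomputable def fac {t t' : Finset (RingHom.ker π.hom)} (h : t ≤ t') :
    CommRingCat.of (P ⧸ kerSpan π t) ⟶ CommRingCat.of (P ⧸ kerSpan π t') :=
  CommRingCat.ofHom (Ideal.Quotient.factor (kerSpan_mono π h))

theorem fac_mkQ {t t' : Finset (RingHom.ker π.hom)} (h : t ≤ t') (x : P) :
    (fac π h).hom ((mkQ π t).hom x) = (mkQ π t').hom x := by
  simp only [fac, mkQ, CommRingCat.hom_ofHom]
  exact Ideal.Quotient.factor_mk _ _

/-- the projection -/
noncomputable def toB (t : Finset (RingHom.ker π.hom)) : CommRingCat.of (P ⧸ kerSpan π t) ⟶ B :=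
  CommRingCat.ofHom (Ideal.Quotient.lift (kerSpan π t) π.hom (fun x hx => kerSpan_le π t hx))

theorem toB_mkQ (t : Finset (RingHom.ker π.hom)) (x : P) :
    (toB π t).hom ((mkQ π t).hom x) = π.hom x := by
  simp only [toB, mkQ, CommRingCat.hom_ofHom]
  exact Ideal.Quotient.lift_mk _ _ _

/-- The system of finitely presented quotients. -/
noncomputable def F₂ : Finset (RingHom.ker π.hom) ⥤ CommRingCat.{u} where
  obj t := CommRingCat.of (P ⧸ kerSpan π t)
  map {t t'} m := fac π (leOfHom m)
  map_id t := by
    apply CommRingCat.hom_ext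
    apply RingHom.ext
    intro x
    obtain ⟨x, rfl⟩ := mkQ_surjective π t x
    rw [fac_mkQ]
    simp only [CommRingCat.hom_id, RingHom.id_apply]
  map_comp {t t' t''} m m' := by
    apply CommRingCat.hom_ext
    apply RingHom.ext
    intro x
    obtain ⟨x, rfl⟩ := mkQ_surjective π t x
    rw [fac_mkQ, CommRingCat.hom_comp, RingHom.comp_apply, fac_mkQ, fac_mkQ]

/-- The structure maps of the system of quotients. -/
noncomputable def α₂ : (Functor.const (Finset (RingHom.ker π.hom))).obj A ⟶ F₂ π where
  app t := ψ ≫ mkQ π t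
  naturality t t' m := by
    apply CommRingCat.hom_ext
    apply RingHom.ext
    intro x
    show (fac π (leOfHom m)).hom ((mkQ π t).hom (ψ.hom x)) = (mkQ π t').hom (ψ.hom x)
    rw [fac_mkQ]

/-- The projections of the quotients. -/
noncomputable def ι₂ : F₂ π ⟶ (Functor.const (Finset (RingHom.ker π.hom))).obj B where
  app t := toB π t
  naturality t t' m := by
    apply CommRingCat.hom_ext
    apply RingHom.ext
    intro x
    obtain ⟨x, rfl⟩ := mkQ_surjective π t x
    show (toB π t').hom ((fac π (leOfHom m)).hom ((mkQ π t).hom x)) =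
      (toB π t).hom ((mkQ π t).hom x)
    rw [fac_mkQ, toB_mkQ, toB_mkQ]

theorem α₂_ι₂ (t : Finset (RingHom.ker π.hom)) : (α₂ ψ π).app t ≫ (ι₂ π).app t = ψ ≫ π := by
  apply CommRingCat.hom_ext
  apply RingHom.ext
  intro x
  show (toB π t).hom ((mkQ π t).hom (ψ.hom x)) = π.hom (ψ.hom x)
  rw [toB_mkQ]

/-- `B` is the colimit of the finitely presented quotients. -/
noncomputable def isColimit₂ (hπ : Function.Surjective π.hom) :
    IsColimit (Cocone.mk B (ι₂ π)) := by
  classical
  refine isColimitOfDirected _ _ ?_ ?_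
  · intro b
    obtain ⟨p, rfl⟩ := hπ b
    exact ⟨∅, (mkQ π ∅).hom p, toB_mkQ π ∅ p⟩
  · intro t x y h
    obtain ⟨x, rfl⟩ := mkQ_surjective π t x
    obtain ⟨y, rfl⟩ := mkQ_surjective π t y
    have h' : (toB π t).hom ((mkQ π t).hom x) = (toB π t).hom ((mkQ π t).hom y) := h
    rw [toB_mkQ, toB_mkQ] at h'
    have hxy : x - y ∈ RingHom.ker π.hom := by
      rw [RingHom.mem_ker, map_sub, sub_eq_zero]
      exact h'
    have hle : t ≤ insert ⟨x - y, hxy⟩ t := Finset.subset_insert _ _
    refine ⟨insert ⟨x - y, hxy⟩ t, hle, ?_⟩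
    show (fac π hle).hom ((mkQ π t).hom x) = (fac π hle).hom ((mkQ π t).hom y)
    rw [fac_mkQ, fac_mkQ, mkQ_eq_iff]
    exact Ideal.subset_span ⟨⟨x - y, hxy⟩, by simp, rfl⟩

theorem finitePresentation_of_retract (hψ : ψ.hom.FinitePresentation)
    (t : Finset (RingHom.ker π.hom)) (σ : B ⟶ (F₂ π).obj t) (h1 : σ ≫ (ι₂ π).app t = 𝟙 B)
    (h2 : (ψ ≫ π) ≫ σ = (α₂ ψ π).app t) : (ψ ≫ π).hom.FinitePresentation := by
  classical
  have hα : ((α₂ ψ π).app t).hom.FinitePresentation := by
    have : ((α₂ ψ π).app t).hom = (mkQ π t).hom.comp ψ.hom := rfl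
    rw [this]
    have hker : (RingHom.ker (mkQ π t).hom).FG := by
      have : RingHom.ker (mkQ π t).hom = kerSpan π t := by
        simp only [mkQ, CommRingCat.hom_ofHom]
        exact Ideal.mk_ker
      rw [this]
      exact ⟨t.image Subtype.val, by rw [kerSpan, Finset.coe_image]⟩
    exact RingHom.FinitePresentation.comp_surjective hψ (mkQ_surjective π t) hker
  have hσ : σ.hom.FiniteType := by
    have : (σ.hom.comp (ψ ≫ π).hom).FiniteType := by
      have h3 := RingHom.FiniteType.of_finitePresentation hα
      rw [← h2] at h3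
      exact h3
    exact RingHom.FiniteType.of_comp_finiteType this
  have hι : ((ι₂ π).app t).hom.FinitePresentation := by
    refine RingHom.FinitePresentation.of_comp_finiteType σ.hom ?_ hσ
    have : ((ι₂ π).app t).hom.comp σ.hom = RingHom.id B := by
      rw [← CommRingCat.hom_comp, h1]
      rfl
    rw [this]
    exact RingHom.FinitePresentation.id B
  have : (ψ ≫ π).hom = ((ι₂ π).app t).hom.comp ((α₂ ψ π).app t).hom := by
    rw [← CommRingCat.hom_comp, α₂_ι₂]
  rw [this]
  exact hι.comp hα

end System2

/-- **The retract property implies finite presentation.** -/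
theorem finitePresentation_of_retractProp {A B : CommRingCat.{u}} (φ : A ⟶ B)
    (h : RetractProp φ) : φ.hom.FinitePresentation := by
  have hft := finiteType_of_retractProp φ h
  algebraize [φ.hom]
  obtain ⟨n, f, hf⟩ := Algebra.FiniteType.iff_quotient_mvPolynomial''.mp hft
  let P : CommRingCat.{u} := CommRingCat.of (MvPolynomial (Fin n) A)
  let ψ : A ⟶ P := CommRingCat.ofHom (algebraMap A (MvPolynomial (Fin n) A))
  let π : P ⟶ B := CommRingCat.ofHom f.toRingHom
  have hψπ : ψ ≫ π = φ := by
    apply CommRingCat.hom_ext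
    apply RingHom.ext
    intro a
    exact f.commutes a
  have hψ : ψ.hom.FinitePresentation := by
    show (algebraMap A (MvPolynomial (Fin n) A)).FinitePresentation
    rw [RingHom.finitePresentation_algebraMap]
    infer_instance
  obtain ⟨t, σ, h1, h2⟩ := h _ (F₂ π) (α₂ ψ π) (ι₂ π) (isColimit₂ π hf)
    (fun t => (α₂_ι₂ ψ π t).trans hψπ)
  rw [← hψπ]
  exact finitePresentation_of_retract ψ π hψ t σ h1 (by rw [hψπ]; exact h2)

end Groth.Agent.Lib.helper9.FPColim
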