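/-
Helper library (helper9): algebras of finite presentation via retracts of directed systems, part 2.

Scheme level: a morphism `f : X ⟶ S` such that morphisms from limits of affine schemes over `S`
lift to some stage is locally of finite presentation.
-/
import Groth.Agent.Lib.Helper9.FPColim1

set_option autoImplicit false
set_option linter.unusedVariables false
set_option linter.style.haveILetI false
set_option backward.isDefEq.respectTransparency false

namespace Groth.Agent.Lib.helper9.FPColim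

open AlgebraicGeometry CategoryTheory Limits Opposite

universe u

section Directed

variable {J : Type u} [Preorder J] (F : J ⥤ CommRingCat.{u})

/-- the transition map of a directed system -/
noncomputable def tr {j j' : J} (h : j ≤ j') : F.obj j ⟶ F.obj j' := F.map (homOfLE h)

theorem tr_tr {j j' j'' : J} (h : j ≤ j') (h' : j' ≤ j'') (x : F.obj j) :
    (tr F h').hom ((tr F h).hom x) = (tr F (h.trans h')).hom x := by
  have : tr F (h.trans h') = tr F h ≫ tr F h' := by
    simp only [tr, ← F.map_comp]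
    rfl
  rw [this]
  rfl

theorem ι_tr (c : Cocone F) {j j' : J} (h : j ≤ j') (x : F.obj j) :
    (c.ι.app j').hom ((tr F h).hom x) = (c.ι.app j).hom x := by
  have : c.ι.app j = tr F h ≫ c.ι.app j' := (c.w (homOfLE h)).symm
  rw [this]
  rfl

theorem map_map_tr {j j' j'' : J} (h : j ≤ j') (h' : j' ≤ j'') (I : Ideal (F.obj j)) :
    (I.map (tr F h).hom).map (tr F h').hom = I.map (tr F (h.trans h')).hom := by
  rw [Ideal.map_map]
  congr 1
  ext x
  exact tr_tr F h h' x

variable [IsDirected J (· ≤ ·)] [Nonempty J]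

/-- If the extension of an ideal to the colimit is the unit ideal, then so is the extension to
some stage. -/
theorem exists_map_eq_top (c : Cocone F) (hc : IsColimit c) (j : J) (I : Ideal (F.obj j))
    (hI : I.map (c.ι.app j).hom = ⊤) :
    ∃ (j' : J) (h : j ≤ j'), I.map (tr F h).hom = ⊤ := by
  have key : ∀ y ∈ I.map (c.ι.app j).hom, ∃ (j' : J) (h : j ≤ j') (y' : F.obj j'),
      y' ∈ I.map (tr F h).hom ∧ (c.ι.app j').hom y' = y := by
    intro y hy
    refine Submodule.span_induction (p := fun y _ => ∃ (j' : J) (h : j ≤ j') (y' : F.obj j'),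
      y' ∈ I.map (tr F h).hom ∧ (c.ι.app j').hom y' = y) ?_ ?_ ?_ ?_ hy
    · rintro _ ⟨a, ha, rfl⟩
      exact ⟨j, le_rfl, (tr F le_rfl).hom a, Ideal.mem_map_of_mem _ ha, ι_tr F c le_rfl a⟩
    · exact ⟨j, le_rfl, 0, Ideal.zero_mem _, map_zero _⟩
    · rintro y₁ y₂ - - ⟨j₁, h₁, y₁', hy₁, rfl⟩ ⟨j₂, h₂, y₂', hy₂, rfl⟩
      obtain ⟨j₃, h13, h23⟩ := exists_ge_ge j₁ j₂
      refine ⟨j₃, h₁.trans h13, (tr F h13).hom y₁' + (tr F h23).hom y₂', ?_, ?_⟩
      · refine Ideal.add_mem _ ?_ ?_
        · rw [← map_map_tr F h₁ h13]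
          exact Ideal.mem_map_of_mem _ hy₁
        · rw [← map_map_tr F h₂ h23]
          exact Ideal.mem_map_of_mem _ hy₂
      · rw [map_add, ι_tr, ι_tr]
    · rintro b y - ⟨j₁, h₁, y₁', hy₁, rfl⟩
      obtain ⟨j₀, b', rfl⟩ := Concrete.isColimit_exists_rep F hc b
      obtain ⟨j₃, h03, h13⟩ := exists_ge_ge j₀ j₁
      refine ⟨j₃, h₁.trans h13, (tr F h03).hom b' * (tr F h13).hom y₁', ?_, ?_⟩
      · refine Ideal.mul_mem_left _ _ ?_
        rw [← map_map_tr F h₁ h13]
        exact Ideal.mem_map_of_mem _ hy₁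
      · rw [smul_eq_mul, map_mul, ι_tr, ι_tr]
  obtain ⟨j', h, y', hy', hy1⟩ := key 1 (hI ▸ Submodule.mem_top)
  have h1 : (c.ι.app j') y' = (c.ι.app j') (1 : F.obj j') := by
    show (c.ι.app j').hom y' = (c.ι.app j').hom 1
    rw [hy1, map_one]
  obtain ⟨k, f, g, hfg⟩ := Concrete.isColimit_exists_of_rep_eq F hc _ _ h1
  have hk : j' ≤ k := leOfHom f
  refine ⟨k, h.trans hk, ?_⟩
  rw [Ideal.eq_top_iff_one, ← map_map_tr F h hk]
  have h2 : (tr F hk).hom y' = 1 := by
    have : (F.map f).hom y' = (F.map g).hom 1 := hfg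
    rw [map_one] at this
    exact this
  rw [← h2]
  exact Ideal.mem_map_of_mem _ hy'

/-- If an open immersion from the spectrum of the colimit factors through a stage, then after
enlarging the stage we obtain a retraction. -/
theorem exists_retract_of_isOpenImmersion (c : Cocone F) (hc : IsColimit c) {X : Scheme.{u}}
    (g : Spec c.pt ⟶ X) [IsOpenImmersion g] (j : J) (gj : Spec (F.obj j) ⟶ X)
    (hg : Spec.map (c.ι.app j) ≫ gj = g) :
    ∃ (j' : J) (h : j ≤ j') (σ : c.pt ⟶ F.obj j'), σ ≫ c.ι.app j' = 𝟙 _ ∧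
      Spec.map σ ≫ g = Spec.map (tr F h) ≫ gj := by
  let W : (Spec (F.obj j)).Opens := gj ⁻¹ᵁ g.opensRange
  let Z : Set (PrimeSpectrum (F.obj j)) := (W : Set (Spec (F.obj j)))ᶜ
  have hZ : IsClosed Z := W.isOpen.isClosed_compl
  let I : Ideal (F.obj j) := PrimeSpectrum.vanishingIdeal Z
  have hZI : PrimeSpectrum.zeroLocus (I : Set (F.obj j)) = Z := by
    rw [PrimeSpectrum.zeroLocus_vanishingIdeal_eq_closure, hZ.closure_eq]
  have hmem : ∀ {R : CommRingCat.{u}} (θ : F.obj j ⟶ R) (q : PrimeSpectrum R),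
      q ∈ PrimeSpectrum.zeroLocus (I.map θ.hom : Set R) ↔ (Spec.map θ) q ∈ Z := by
    intro R θ q
    rw [Ideal.map, PrimeSpectrum.zeroLocus_span, ← PrimeSpectrum.preimage_comap_zeroLocus, hZI]
    rfl
  have hI : I.map (c.ι.app j).hom = ⊤ := by
    rw [← PrimeSpectrum.zeroLocus_empty_iff_eq_top, Set.eq_empty_iff_forall_notMem]
    intro q hq
    rw [hmem] at hq
    apply hq
    show gj ((Spec.map (c.ι.app j)) q) ∈ Set.range g
    refine ⟨q, ?_⟩
    rw [← hg]
    rfl
  obtain ⟨j', h, hj'⟩ := exists_map_eq_top F c hc j I hI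
  have hrange : Set.range (Spec.map (tr F h) ≫ gj) ⊆ Set.range g := by
    rintro _ ⟨q, rfl⟩
    by_contra hq
    have : q ∈ PrimeSpectrum.zeroLocus (I.map (tr F h).hom : Set (F.obj j')) := by
      rw [hmem]
      exact hq
    rw [hj'] at this
    simp at this
  let ψ : Spec (F.obj j') ⟶ Spec c.pt := IsOpenImmersion.lift g (Spec.map (tr F h) ≫ gj) hrange
  have hψ : ψ ≫ g = Spec.map (tr F h) ≫ gj := IsOpenImmersion.lift_fac _ _ _
  refine ⟨j', h, Spec.preimage ψ, ?_, ?_⟩
  · apply Spec.map_injective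
    rw [Spec.map_comp, Spec.map_preimage, Spec.map_id, ← cancel_mono g, Category.assoc, hψ,
      ← Spec.map_comp_assoc]
    have : tr F h ≫ c.ι.app j' = c.ι.app j := c.w (homOfLE h)
    rw [this, hg]
    exact (Category.id_comp g).symm
  · rw [Spec.map_preimage, hψ]

end Directed

/-- The abstract lifting property: morphisms from the limit of a directed system of affine
schemes over an affine open of `S` lift to some stage. -/
def LiftProp {X S : Scheme.{u}} (f : X ⟶ S) : Prop :=
  ∀ (V : S.Opens) (hV : IsAffineOpen V) (J : Type u) [Preorder J] [IsDirected J (· ≤ ·)]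
    [Nonempty J] (F : J ⥤ CommRingCat.{u}) (α : (Functor.const J).obj Γ(S, V) ⟶ F)
    (c : Cocone F) (_ : IsColimit c) (φ : Γ(S, V) ⟶ c.pt) (_ : ∀ j, α.app j ≫ c.ι.app j = φ)
    (g : Spec c.pt ⟶ X), g ≫ f = Spec.map φ ≫ hV.fromSpec →
    ∃ (j : J) (gj : Spec (F.obj j) ⟶ X), gj ≫ f = Spec.map (α.app j) ≫ hV.fromSpec ∧
      Spec.map (c.ι.app j) ≫ gj = g

theorem retractProp_appLE {X S : Scheme.{u}} (f : X ⟶ S) (h : LiftProp f) (V : S.Opens)
    (hV : IsAffineOpen V) (U : X.Opens) (hU : IsAffineOpen U) (e : U ≤ f ⁻¹ᵁ V) :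
    RetractProp (f.appLE V U e) := by
  intro J _ _ _ F α ι hc hα
  have hg : hU.fromSpec ≫ f = Spec.map (f.appLE V U e) ≫ hV.fromSpec :=
    (IsAffineOpen.SpecMap_appLE_fromSpec f hV hU e).symm
  obtain ⟨j, gj, hgj1, hgj2⟩ := h V hV J F α (Cocone.mk Γ(X, U) ι) hc (f.appLE V U e) hα
    hU.fromSpec hg
  obtain ⟨j', hjj', σ, hσ1, hσ2⟩ := exists_retract_of_isOpenImmersion F (Cocone.mk Γ(X, U) ι) hc
    hU.fromSpec j gj hgj2
  refine ⟨j', σ, hσ1, ?_⟩
  apply Spec.map_injective
  rw [← cancel_mono hV.fromSpec, Spec.map_comp, Category.assoc, ← hg, reassoc_of% hσ2, hgj1,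
    ← Spec.map_comp_assoc]
  congr 2
  have := α.naturality (homOfLE hjj')
  simp only [Functor.const_obj_obj, Functor.const_obj_map, Category.id_comp] at this
  exact this.symm

/-- **The lifting property implies locally of finite presentation.** -/
theorem locallyOfFinitePresentation_of_liftProp {X S : Scheme.{u}} (f : X ⟶ S)
    (h : LiftProp f) : LocallyOfFinitePresentation f := by
  rw [HasRingHomProperty.iff_appLE (P := @LocallyOfFinitePresentation)]
  intro V U e
  exact finitePresentation_of_retractProp _ (retractProp_appLE f h V.1 V.2 U.1 U.2 e)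

end Groth.Agent.Lib.helper9.FPColim
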