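import Mathlib
import Groth.Prelude.Def_MoreMor
import Groth.Agent.Lib.Helper1.BranchCount

/-!
# Étale neighbourhoods and fibres (helper9)

* `isPullback_fiberMap`, `etale_fiberMap`: the map of fibres `U_s ⟶ X_s` induced by `g : U ⟶ X`
  is a base change of `g`.
* `exists_fiber_point`, `setOf_components_eq`: the point of the fibre over a given point.
* `encard_components_of_isOpenImmersion`: the number of irreducible components through a point
  is local.
-/

set_option autoImplicit false
set_option linter.style.haveILetI false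
set_option backward.isDefEq.respectTransparency false

universe u

namespace Groth.Agent.Lib.helper9.FibreNbhd

open AlgebraicGeometry CategoryTheory Limits

theorem fiberMap_fiberι {U X S : Scheme.{u}} (g : U ⟶ X) (f : X ⟶ S) (s : S) :
    MoreMor.fiberMap g f s ≫ f.fiberι s = (g ≫ f).fiberι s ≫ g :=
  pullback.lift_fst _ _ _

theorem fiberMap_fiberToSpecResidueField {U X S : Scheme.{u}} (g : U ⟶ X) (f : X ⟶ S) (s : S) :
    MoreMor.fiberMap g f s ≫ f.fiberToSpecResidueField s = (g ≫ f).fiberToSpecResidueField s :=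
  pullback.lift_snd _ _ _

/-- The map of fibres induced by `g` is a base change of `g`. -/
theorem isPullback_fiberMap {U X S : Scheme.{u}} (g : U ⟶ X) (f : X ⟶ S) (s : S) :
    IsPullback ((g ≫ f).fiberι s) (MoreMor.fiberMap g f s) g (f.fiberι s) := by
  have hX : IsPullback (f.fiberι s) (f.fiberToSpecResidueField s) f (S.fromSpecResidueField s) :=
    IsPullback.of_hasPullback f (S.fromSpecResidueField s)
  have hU : IsPullback ((g ≫ f).fiberι s) ((g ≫ f).fiberToSpecResidueField s) (g ≫ f)
      (S.fromSpecResidueField s) :=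
    IsPullback.of_hasPullback (g ≫ f) (S.fromSpecResidueField s)
  refine IsPullback.of_bot ?_ (fiberMap_fiberι g f s).symm hX
  rw [fiberMap_fiberToSpecResidueField]
  exact hU

instance etale_fiberMap {U X S : Scheme.{u}} (g : U ⟶ X) (f : X ⟶ S) (s : S) [Etale g] :
    Etale (MoreMor.fiberMap g f s) :=
  MorphismProperty.of_isPullback (P := @Etale) (isPullback_fiberMap g f s) inferInstance

theorem fiberι_injective {X S : Scheme.{u}} (f : X ⟶ S) (s : S) :
    Function.Injective (f.fiberι s) :=
  (f.fiberι s).isEmbedding.injective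

theorem exists_fiber_point {U S : Scheme.{u}} (h : U ⟶ S) (s : S) (u : U) (hu : h u = s) :
    ∃ u' : h.fiber s, h.fiberι s u' = u := by
  have : u ∈ Set.range (h.fiberι s) := by
    rw [Scheme.Hom.range_fiberι]
    exact hu
  exact this

theorem fiberMap_apply_eq {U X S : Scheme.{u}} (g : U ⟶ X) (f : X ⟶ S) (x : X)
    (u' : (g ≫ f).fiber (f x)) (hu' : g ((g ≫ f).fiberι (f x) u') = x) :
    MoreMor.fiberMap g f (f x) u' = f.asFiber x := by
  apply fiberι_injective f (f x)
  rw [← Scheme.Hom.comp_apply, fiberMap_fiberι, Scheme.Hom.comp_apply, hu', f.fiberι_asFiber]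

theorem setOf_components_eq {U S : Scheme.{u}} (h : U ⟶ S) (s : S) (u' : h.fiber s) :
    {Z : Set ↑(h.fiber s) | Z ∈ irreducibleComponents ↑(h.fiber s) ∧
        ∃ v ∈ Z, h.fiberι s v = h.fiberι s u'} =
      {Z : Set ↑(h.fiber s) | Z ∈ irreducibleComponents ↑(h.fiber s) ∧ u' ∈ Z} := by
  ext Z
  constructor
  · rintro ⟨hZ, v, hv, hvu⟩
    exact ⟨hZ, fiberι_injective h s hvu ▸ hv⟩
  · rintro ⟨hZ, hu⟩
    exact ⟨hZ, u', hu, rfl⟩

open Groth.Agent.H1.BranchCount in
/-- The number of irreducible components through a point is local. -/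
theorem encard_components_of_isOpenImmersion {V W : Scheme.{u}} (m : V ⟶ W) [IsOpenImmersion m]
    (v : V) :
    {Z : Set ↑V | Z ∈ irreducibleComponents ↑V ∧ v ∈ Z}.encard =
      {Z : Set ↑W | Z ∈ irreducibleComponents ↑W ∧ m v ∈ Z}.encard := by
  rw [← encard_minimalPrimes_stalk_eq V v, ← encard_minimalPrimes_stalk_eq W (m v)]
  exact (encard_minimalPrimes_of_ringEquiv (asIso (m.stalkMap v)).commRingCatIsoToRingEquiv).symm

end Groth.Agent.Lib.helper9.FibreNbhd
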