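import Mathlib
import Groth.Prelude.Def_Hens2
import Groth.Agent.Lib.Helper9.FibreNbhd1
import Groth.Agent.Lib.Helper13.EL1
import Groth.Agent.Lib.Helper16.FinDeg3

/-!
# Elementary étale neighbourhoods and fibres (helper9)

* `bijective_residueFieldMap_of_square_left/right`: in a commutative square of schemes, if three of
  the four residue field maps at a point are bijective then so is the fourth.
* `isEtaleNbhd_fiberMap`: the map of fibres induced by an elementary étale neighbourhood is an
  elementary étale neighbourhood.
* `isEtaleNbhd_of_fiberMap`: conversely, an étale neighbourhood inducing an elementary étale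
  neighbourhood on fibres is elementary.
-/

set_option autoImplicit false
set_option linter.style.haveILetI false
set_option backward.isDefEq.respectTransparency false

universe u

namespace Groth.Agent.Lib.helper9.FibreNbhd

open AlgebraicGeometry CategoryTheory Limits

theorem bijective_residueFieldMap_comp_iff {P Q Z : Scheme.{u}} (a : P ⟶ Q) (b : Q ⟶ Z) (p : P) :
    Function.Bijective ((a ≫ b).residueFieldMap p) ↔
      Function.Bijective ((a.residueFieldMap p).hom ∘ (b.residueFieldMap (a p)).hom) := by
  rw [Scheme.residueFieldMap_comp]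
  rfl

theorem bijective_residueFieldMap_comp_of_square {P Q R Z : Scheme.{u}} (a : P ⟶ Q) (b : Q ⟶ Z)
    (c : P ⟶ R) (d : R ⟶ Z) (w : a ≫ b = c ≫ d) (p : P)
    (hc : Function.Bijective (c.residueFieldMap p))
    (hd : Function.Bijective (d.residueFieldMap (c p))) :
    Function.Bijective ((a.residueFieldMap p).hom ∘ (b.residueFieldMap (a p)).hom) := by
  rw [← bijective_residueFieldMap_comp_iff, Scheme.Hom.residueFieldMap_congr w p,
    Scheme.residueFieldMap_comp]
  have h1 : Function.Bijective (Z.residueFieldCongr (by rw [w] : (a ≫ b) p = (c ≫ d) p)).hom :=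
    ConcreteCategory.bijective_of_isIso _
  exact (hc.comp hd).comp h1

/-- In a commutative square `a ≫ b = c ≫ d`, the residue field map of `a` at `p` is bijective if
those of `b`, `c`, `d` are. -/
theorem bijective_residueFieldMap_of_square_left {P Q R Z : Scheme.{u}} (a : P ⟶ Q) (b : Q ⟶ Z)
    (c : P ⟶ R) (d : R ⟶ Z) (w : a ≫ b = c ≫ d) (p : P)
    (hb : Function.Bijective (b.residueFieldMap (a p)))
    (hc : Function.Bijective (c.residueFieldMap p))
    (hd : Function.Bijective (d.residueFieldMap (c p))) :
    Function.Bijective (a.residueFieldMap p) :=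
  (Function.Bijective.of_comp_iff _ hb).1
    (bijective_residueFieldMap_comp_of_square a b c d w p hc hd)

/-- In a commutative square `a ≫ b = c ≫ d`, the residue field map of `b` at `a p` is bijective if
those of `a`, `c`, `d` are. -/
theorem bijective_residueFieldMap_of_square_right {P Q R Z : Scheme.{u}} (a : P ⟶ Q) (b : Q ⟶ Z)
    (c : P ⟶ R) (d : R ⟶ Z) (w : a ≫ b = c ≫ d) (p : P)
    (ha : Function.Bijective (a.residueFieldMap p))
    (hc : Function.Bijective (c.residueFieldMap p))
    (hd : Function.Bijective (d.residueFieldMap (c p))) :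
    Function.Bijective (b.residueFieldMap (a p)) :=
  (Function.Bijective.of_comp_iff' ha _).1
    (bijective_residueFieldMap_comp_of_square a b c d w p hc hd)

theorem bijective_residueFieldMap_fiberι {X S : Scheme.{u}} (f : X ⟶ S) (s : S) (z : f.fiber s) :
    Function.Bijective ((f.fiberι s).residueFieldMap z) :=
  Groth.Agent.Lib.helper16.FinDeg.residueFieldMap_bijective (f.fiberι s) z

/-- The map of fibres induced by an elementary étale neighbourhood is an elementary étale
neighbourhood. -/
theorem isEtaleNbhd_fiberMap {U X S : Scheme.{u}} (g : U ⟶ X) (f : X ⟶ S) (x : X) (u : U)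
    (h : Hens2.IsEtaleNbhd g u x) (u₀ : (g ≫ f).fiber (f x))
    (hu₀ : (g ≫ f).fiberι (f x) u₀ = u) :
    Hens2.IsEtaleNbhd (MoreMor.fiberMap g f (f x)) u₀ (f.asFiber x) := by
  haveI := h.etale
  refine ⟨inferInstance, ?_, ?_⟩
  · apply fiberMap_apply_eq
    rw [hu₀]
    exact h.base_eq
  · refine bijective_residueFieldMap_of_square_left (MoreMor.fiberMap g f (f x)) (f.fiberι (f x))
      ((g ≫ f).fiberι (f x)) g (fiberMap_fiberι g f (f x)) u₀
      (bijective_residueFieldMap_fiberι f (f x) _)
      (bijective_residueFieldMap_fiberι (g ≫ f) (f x) u₀) ?_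
    exact Groth.Agent.Lib.helper13.EL.bijective_residueFieldMap_of_eq g hu₀.symm
      h.residue_bijective

/-- An étale neighbourhood inducing a bijection of residue fields on fibres is elementary. -/
theorem isEtaleNbhd_of_fiberMap {U X S : Scheme.{u}} (g : U ⟶ X) [Etale g] (f : X ⟶ S) (x : X)
    (u : U) (hgu : g u = x) (u₀ : (g ≫ f).fiber (f x)) (hu₀ : (g ≫ f).fiberι (f x) u₀ = u)
    (hbij : Function.Bijective ((MoreMor.fiberMap g f (f x)).residueFieldMap u₀)) :
    Hens2.IsEtaleNbhd g u x := by
  refine ⟨inferInstance, hgu, ?_⟩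
  have h1 := bijective_residueFieldMap_of_square_right ((g ≫ f).fiberι (f x)) g
    (MoreMor.fiberMap g f (f x)) (f.fiberι (f x)) (fiberMap_fiberι g f (f x)).symm u₀
    (bijective_residueFieldMap_fiberι (g ≫ f) (f x) u₀) hbij
    (bijective_residueFieldMap_fiberι f (f x) _)
  exact Groth.Agent.Lib.helper13.EL.bijective_residueFieldMap_of_eq g hu₀ h1

/-- The residue field map of a composite `m ≫ g` with `m` an open immersion. -/
theorem bijective_residueFieldMap_of_openImmersion_comp {V W Y : Scheme.{u}} (m : V ⟶ W)
    [IsOpenImmersion m] (g : W ⟶ Y) (k : V ⟶ Y) (hk : m ≫ g = k) (v : V) (w : W) (hw : m v = w)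
    (hg : Function.Bijective (g.residueFieldMap w)) :
    Function.Bijective (k.residueFieldMap v) := by
  subst hk
  rw [bijective_residueFieldMap_comp_iff]
  have h1 : Function.Bijective (g.residueFieldMap (m v)) :=
    Groth.Agent.Lib.helper13.EL.bijective_residueFieldMap_of_eq g hw.symm hg
  have h2 : Function.Bijective (m.residueFieldMap v) :=
    Groth.Agent.Lib.helper16.FinDeg.residueFieldMap_bijective m v
  exact h2.comp h1

end Groth.Agent.Lib.helper9.FibreNbhd
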