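/-
Helper library (helper9): a property of qcqs schemes over a qcqs scheme `T` which is invariant under
thickenings, stable under cofiltered limits with affine transition maps and which passes to a
quasi-compact open or to its closed complement, holds for the spectrum of some field over `T`.
-/
import Groth.Agent.Lib.Helper9.AbsApprox27
import Groth.Agent.Lib.Helper9.LocLim1

set_option autoImplicit false
set_option linter.unusedVariables false
set_option linter.style.haveILetI false
set_option backward.isDefEq.respectTransparency false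

namespace Groth.Agent.Lib.helper9.FieldPoint

open AlgebraicGeometry CategoryTheory Limits Opposite TopologicalSpace
open Groth.Agent.Lib.helper9.AbsApprox

universe u

variable (T : Scheme.{u}) (P : ∀ ⦃T' : Scheme.{u}⦄, (T' ⟶ T) → Prop)

/-- invariance under thickenings -/
def H1 : Prop :=
  ∀ ⦃T' T'' : Scheme.{u}⦄ (a : T' ⟶ T) (t : T'' ⟶ T') [IsClosedImmersion t] [Surjective t]
    [CompactSpace T'] [QuasiSeparatedSpace T'] [CompactSpace T''] [QuasiSeparatedSpace T''],
    P (t ≫ a) ↔ P a

/-- stability under limits -/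
def H2 : Prop :=
  ∀ ⦃I : Type u⦄ [SmallCategory I] [IsCofiltered I] (D : I ⥤ Over T) (c : Limits.Cone D)
    (_ : Limits.IsLimit c),
    (∀ (i j : I) (m : i ⟶ j), IsAffineHom (D.map m).left) →
    (∀ i, CompactSpace (D.obj i).left ∧ QuasiSeparatedSpace (D.obj i).left) →
    (∀ i, P (D.obj i).hom) → P c.pt.hom

/-- open or closed -/
def H3 : Prop :=
  ∀ ⦃T' Z V : Scheme.{u}⦄ (a : T' ⟶ T) [CompactSpace T'] [QuasiSeparatedSpace T'] (i : Z ⟶ T')
    [IsClosedImmersion i] (j : V ⟶ T') [IsOpenImmersion j] [CompactSpace V],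
    Set.range j = (Set.range i)ᶜ → P a → P (j ≫ a) ∨ P (i ≫ a)

variable {T P}

section

variable [CompactSpace T] [QuasiSeparatedSpace T]

instance (J : T.IdealSheafData) : CompactSpace J.subscheme :=
  QuasiCompact.compactSpace_of_compactSpace J.subschemeι

instance (J : T.IdealSheafData) : QuasiSeparatedSpace J.subscheme :=
  quasiSeparatedSpace_of_quasiSeparated J.subschemeι

theorem P_iso (h1 : H1 T P) {T' T'' : Scheme.{u}} (a : T' ⟶ T) (e : T'' ⟶ T') [IsIso e]
    [CompactSpace T'] [QuasiSeparatedSpace T'] [CompactSpace T''] [QuasiSeparatedSpace T''] :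
    P (e ≫ a) ↔ P a :=
  h1 a e

/-- Zorn's lemma: a minimal nonempty closed subscheme with the property. -/
theorem exists_maximal (h1 : H1 T P) (h2 : H2 T P) [Nonempty T] (hT : P (𝟙 T)) :
    ∃ J₀ : T.IdealSheafData, (J₀.support : Set T).Nonempty ∧ P J₀.subschemeι ∧
      ∀ J : T.IdealSheafData, J₀ ≤ J → (J.support : Set T).Nonempty → P J.subschemeι →
        J ≤ J₀ := by
  let 𝒮 : Set T.IdealSheafData := {J | (J.support : Set T).Nonempty ∧ P J.subschemeι}
  have hbot : (⊥ : T.IdealSheafData) ∈ 𝒮 := by
    refine ⟨?_, ?_⟩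
    · rw [Scheme.IdealSheafData.support_bot]
      exact Set.univ_nonempty
    · have := (P_iso h1 (𝟙 T) (⊥ : T.IdealSheafData).subschemeι).mpr hT
      rwa [Category.comp_id] at this
  have hub : ∀ c ⊆ 𝒮, IsChain (· ≤ ·) c → ∀ y ∈ c, ∃ ub ∈ 𝒮, ∀ z ∈ c, z ≤ ub := by
    intro c hc hchain y hy
    let I : Type u := ↥c
    let Jf : I → T.IdealSheafData := Subtype.val
    have hJf : Monotone Jf := fun _ _ h => h
    haveI : Nonempty I := ⟨⟨y, hy⟩⟩
    haveI : IsDirected I (· ≤ ·) := ⟨fun a b => by
      rcases hchain.total a.2 b.2 with h | h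
      · exact ⟨b, h, le_rfl⟩
      · exact ⟨a, le_rfl, h⟩⟩
    refine ⟨⨆ i : I, Jf i, ⟨?_, ?_⟩, fun z hz => le_iSup Jf ⟨z, hz⟩⟩
    · rw [Scheme.IdealSheafData.support_iSup, Closeds.coe_iInf]
      refine IsCompact.nonempty_iInter_of_directed_nonempty_isCompact_isClosed _ ?_ ?_ ?_ ?_
      · intro a b
        obtain ⟨k, hak, hbk⟩ := exists_ge_ge a b
        exact ⟨k, Scheme.IdealSheafData.support_antitone (hJf hak),
          Scheme.IdealSheafData.support_antitone (hJf hbk)⟩
      · exact fun i => (hc i.2).1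
      · exact fun i => (Jf i).support.isClosed.isCompact
      · exact fun i => (Jf i).support.isClosed
    · let D : Iᵒᵖ ⥤ Over T := Over.lift (subschemeSystem Jf hJf) (subschemeSystemι Jf hJf)
      let cD : Cone D := Over.liftCone (subschemeSystem Jf hJf) (subschemeSystemι Jf hJf)
        (subschemeCone Jf hJf) (⨆ i, Jf i).subschemeι (subschemeCone_π_ι Jf hJf)
      have hcD : IsLimit cD := Over.isLimitLiftCone _ _ _ _ _ (isLimitSubschemeCone Jf hJf)
      have := h2 D cD hcD ?_ ?_ ?_
      · exact this
      · intro i j m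
        show IsAffineHom (Scheme.IdealSheafData.inclusion _)
        infer_instance
      · intro i
        exact ⟨inferInstanceAs (CompactSpace (Jf i.unop).subscheme),
          inferInstanceAs (QuasiSeparatedSpace (Jf i.unop).subscheme)⟩
      · intro i
        exact (hc i.unop.2).2
  obtain ⟨m, -, hm⟩ := zorn_le_nonempty₀ 𝒮 hub ⊥ hbot
  exact ⟨m, hm.prop.1, hm.prop.2, fun J hJ h1 h2 => hm.le_of_ge ⟨h1, h2⟩ hJ⟩

/-- every nonempty quasi-compact open of the minimal closed subscheme has the property -/
theorem P_open_of_maximal (h1 : H1 T P) (h3 : H3 T P) (J₀ : T.IdealSheafData)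
    (hP : P J₀.subschemeι)
    (hmax : ∀ J : T.IdealSheafData, J₀ ≤ J → (J.support : Set T).Nonempty → P J.subschemeι →
      J ≤ J₀) {V : Scheme.{u}} (j : V ⟶ J₀.subscheme) [IsOpenImmersion j] [CompactSpace V]
    [Nonempty V] : P (j ≫ J₀.subschemeι) := by
  let Zc : Closeds J₀.subscheme := ⟨(Set.range j)ᶜ, j.isOpenEmbedding.isOpen_range.isClosed_compl⟩
  let 𝒵 := Scheme.IdealSheafData.vanishingIdeal Zc
  have hrange : Set.range j = (Set.range 𝒵.subschemeι)ᶜ := by
    rw [Scheme.IdealSheafData.range_subschemeι,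
      Scheme.IdealSheafData.coe_support_vanishingIdeal]
    exact (compl_compl _).symm
  rcases h3 J₀.subschemeι 𝒵.subschemeι j hrange hP with h | h
  · exact h
  · -- the closed complement has the property
    let g := 𝒵.subschemeι ≫ J₀.subschemeι
    have hg : P g.imageι := by
      have := (P_iso h1 g.imageι g.toImage).mp (by rw [Scheme.Hom.toImage_imageι]; exact h)
      exact this
    have hle : J₀ ≤ g.ker := by
      conv_lhs => rw [← J₀.ker_subschemeι]
      exact Scheme.Hom.le_ker_comp _ _
    by_cases hne : (g.ker.support : Set T).Nonempty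
    · exfalso
      have heq : g.ker = J₀ := le_antisymm (hmax _ hle hne hg) hle
      -- then the closed complement is everything
      have h4 : Set.range g = Set.range J₀.subschemeι := by
        have e1 : Set.range g = g.ker.support := by
          have := Scheme.IdealSheafData.range_subschemeι g.ker
          rw [← this]
          have h5 : g = g.toImage ≫ g.imageι := (Scheme.Hom.toImage_imageι g).symm
          ext x
          constructor
          · rintro ⟨z, rfl⟩
            refine ⟨g.toImage z, ?_⟩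
            rw [← Scheme.Hom.comp_apply, ← h5]
          · rintro ⟨w, rfl⟩
            obtain ⟨z, rfl⟩ := g.toImage.surjective w
            refine ⟨z, ?_⟩
            rw [← Scheme.Hom.comp_apply, ← h5]
        rw [e1, heq, Scheme.IdealSheafData.range_subschemeι]
      obtain ⟨v⟩ := (inferInstance : Nonempty V)
      have hv : J₀.subschemeι (j v) ∈ Set.range g := h4 ▸ ⟨j v, rfl⟩
      obtain ⟨z, hz⟩ := hv
      have hz' : 𝒵.subschemeι z = j v :=
        J₀.subschemeι.isEmbedding.injective hz
      have : j v ∈ (Set.range j)ᶜ := by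
        have h6 : 𝒵.subschemeι z ∈ Set.range 𝒵.subschemeι := ⟨z, rfl⟩
        rw [Scheme.IdealSheafData.range_subschemeι,
          Scheme.IdealSheafData.coe_support_vanishingIdeal] at h6
        rw [← hz']
        exact h6
      exact this ⟨v, rfl⟩
    · -- the closed complement is empty, so `j` is an isomorphism
      have hempty : IsEmpty 𝒵.subscheme := by
        refine ⟨fun z => hne ?_⟩
        have := Scheme.Hom.range_subset_ker_support g
        exact ⟨g z, this ⟨z, rfl⟩⟩
      have hsurj : Function.Surjective j := by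
        rw [← Set.range_eq_univ, hrange, Set.compl_univ_iff]
        exact Set.range_eq_empty _
      haveI : IsIso j := by
        haveI : Surjective j := ⟨hsurj⟩
        exact (isIso_iff_isOpenImmersion_and_epi_base j).mpr ⟨inferInstance, inferInstance⟩
      haveI : QuasiSeparatedSpace V := quasiSeparatedSpace_of_quasiSeparated j
      exact (P_iso h1 J₀.subschemeι j).mpr hP

open Groth.Agent.Lib.helper9.LocLim in
/-- **The property holds for the spectrum of some field.** -/
theorem exists_field_point (h1 : H1 T P) (h2 : H2 T P) (h3 : H3 T P) [Nonempty T]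
    (hT : P (𝟙 T)) :
    ∃ (K : Type u) (_ : Field K) (t : Spec (CommRingCat.of K) ⟶ T), P t := by
  obtain ⟨J₀, hne, hP, hmax⟩ := exists_maximal h1 h2 hT
  obtain ⟨z⟩ : Nonempty J₀.subscheme := by
    obtain ⟨x, hx⟩ := hne
    rw [← Scheme.IdealSheafData.range_subschemeι] at hx
    obtain ⟨z, -⟩ := hx
    exact ⟨z⟩
  obtain ⟨U₀, hU₀, hzU₀, -⟩ := exists_isAffineOpen_mem_and_subset (X := J₀.subscheme) (x := z)
    (U := ⊤) trivial
  let 𝔮 : PrimeSpectrum Γ(J₀.subscheme, U₀) := hU₀.primeIdealOf ⟨z, hzU₀⟩
  obtain ⟨𝔭, h𝔭, -⟩ := Ideal.exists_minimalPrimes_le (bot_le : (⊥ : Ideal _) ≤ 𝔮.asIdeal)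
  haveI : 𝔭.IsPrime := h𝔭.1.1
  let M : Submonoid Γ(J₀.subscheme, U₀) := 𝔭.primeCompl
  let K := Localization.AtPrime 𝔭
  let φ : Γ(J₀.subscheme, U₀) ⟶ CommRingCat.of K :=
    CommRingCat.ofHom (algebraMap Γ(J₀.subscheme, U₀) K)
  let s : specDiagram M ⟶ (Functor.const (Idx M)ᵒᵖ).obj T :=
    { app := fun g => toBase M g ≫ hU₀.fromSpec ≫ J₀.subschemeι
      naturality := fun g g' m => by
        simp only [Functor.const_obj_obj, Functor.const_obj_map, Category.comp_id]
        rw [← Category.assoc, specDiagram_map_toBase] }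
  let p : Spec (CommRingCat.of K) ⟶ T := Spec.map φ ≫ hU₀.fromSpec ≫ J₀.subschemeι
  have hp : ∀ g, (specCone M K).π.app g ≫ s.app g = p := by
    intro g
    show (specCone M K).π.app g ≫ toBase M g ≫ hU₀.fromSpec ≫ J₀.subschemeι = _
    rw [← Category.assoc, specCone_π_toBase]
  let D : (Idx M)ᵒᵖ ⥤ Over T := Over.lift (specDiagram M) s
  let cD : Cone D := Over.liftCone (specDiagram M) s (specCone M K) p hp
  have hcD : IsLimit cD := Over.isLimitLiftCone _ _ _ _ _ (isLimitSpecCone M K)
  have hPp : P p := by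
    have := h2 D cD hcD ?_ ?_ ?_
    · exact this
    · intro i j m
      show IsAffineHom ((specDiagram M).map m)
      infer_instance
    · intro i
      exact ⟨inferInstanceAs (CompactSpace ((specDiagram M).obj i)),
        inferInstanceAs (QuasiSeparatedSpace ((specDiagram M).obj i))⟩
    · intro g
      show P (toBase M g ≫ hU₀.fromSpec ≫ J₀.subschemeι)
      rw [← Category.assoc]
      haveI : Nonempty ((specDiagram M).obj g) := by
        have h5 : (⟨𝔭, inferInstance⟩ : PrimeSpectrum Γ(J₀.subscheme, U₀)) ∈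
            Set.range (toBase M g) := by
          rw [range_toBase]
          exact g.unop.mem
        obtain ⟨w, -⟩ := h5
        exact ⟨w⟩
      exact P_open_of_maximal h1 h3 J₀ hP hmax (toBase M g ≫ hU₀.fromSpec)
  -- pass to the residue field
  haveI : Ring.KrullDimLE 0 K := Ring.KrullDimLE.of_isLocalization 𝔭 h𝔭 K
  let κ := IsLocalRing.ResidueField K
  let t₀ : Spec (CommRingCat.of κ) ⟶ Spec (CommRingCat.of K) :=
    Spec.map (CommRingCat.ofHom (IsLocalRing.residue K))
  haveI : IsClosedImmersion t₀ :=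
    IsClosedImmersion.spec_of_surjective _ (IsLocalRing.residue_surjective (R := K))
  haveI : Surjective t₀ := by
    refine ⟨fun x => ?_⟩
    obtain ⟨y₀⟩ : Nonempty (Spec (CommRingCat.of κ)) :=
      inferInstanceAs (Nonempty (PrimeSpectrum κ))
    haveI : Subsingleton (Spec (CommRingCat.of K)) :=
      inferInstanceAs (Subsingleton (PrimeSpectrum K))
    exact ⟨y₀, Subsingleton.elim _ _⟩
  exact ⟨κ, inferInstance, t₀ ≫ p, (h1 p t₀).mpr hPp⟩

end

end Groth.Agent.Lib.helper9.FieldPoint
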