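import Mathlib

/-!
# Finite base change criterion for universal openness (helper9), part 1: slicing primes

Commutative algebra: in a Noetherian domain, below a nonzero prime `P` and avoiding a given nonzero
element there is a prime `P''` covered by `P` (no prime strictly in between).
-/

set_option autoImplicit false
set_option linter.style.haveILetI false
universe u

namespace Groth.Agent.Lib.helper9.FinBC

variable {R : Type u} [CommRing R]

/-- In a Noetherian domain, if there is a prime strictly between `⊥` and `P`, then there is one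
avoiding a given nonzero element. -/
theorem exists_prime_between_bot [IsDomain R] [IsNoetherianRing R] (P P₁ : Ideal R) [P.IsPrime]
    [P₁.IsPrime] (h0 : ⊥ < P₁) (h1 : P₁ < P) (a : R) (ha : a ≠ 0) :
    ∃ r : Ideal R, r.IsPrime ∧ ⊥ < r ∧ r < P ∧ a ∉ r := by
  classical
  by_contra hcon
  push_neg at hcon
  have hbot : (⊥ : Ideal R).IsPrime := Ideal.isPrime_bot
  -- heights
  have hP2 : (1 : ℕ∞) < P.height := by
    have e1 : (⊥ : Ideal R).height < P₁.height :=
      Ideal.height_strict_mono_of_isPrime_of_isPrime h0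
    have e2 : P₁.height < P.height := Ideal.height_strict_mono_of_isPrime_of_isPrime h1
    have e3 : (1 : ℕ∞) ≤ P₁.height := Order.one_le_iff_pos.mpr (lt_of_le_of_lt bot_le e1)
    exact lt_of_le_of_lt e3 e2
  have hfin := (Ideal.span ({a} : Set R)).finite_minimalPrimes_of_isNoetherianRing R
  set s : Finset (Ideal R) := insert ⊥ hfin.toFinset with hs
  have hprime : ∀ i ∈ s, i ≠ ⊥ → i ≠ ⊥ → Ideal.IsPrime (id i : Ideal R) := by
    intro i hi _ _
    rcases Finset.mem_insert.mp hi with rfl | hi
    · exact hbot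
    · exact (hfin.mem_toFinset.mp hi).1.1
  have havoid : ¬ ((P : Set R) ⊆ ⋃ i ∈ (↑s : Set (Ideal R)), (id i : Ideal R)) := by
    rw [Ideal.subset_union_prime ⊥ ⊥ hprime]
    rintro ⟨i, hi, hPi⟩
    rcases Finset.mem_insert.mp hi with rfl | hi
    · exact absurd (lt_of_lt_of_le (h0.trans h1) hPi) (lt_irrefl _)
    · have hi' := hfin.mem_toFinset.mp hi
      have h3 : i.height ≤ 1 :=
        Ideal.height_le_one_of_isPrincipal_of_mem_minimalPrimes _ i hi'
      exact absurd (lt_of_lt_of_le hP2 ((Ideal.height_mono hPi).trans h3)) (lt_irrefl _)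
  obtain ⟨x, hxP, hx⟩ := Set.not_subset.mp havoid
  simp only [Set.mem_iUnion, not_exists, id] at hx
  have hx0 : x ≠ 0 := by
    intro h
    exact hx ⊥ (Finset.mem_coe.mpr (Finset.mem_insert_self _ _)) (by simp [h])
  have hxP' : Ideal.span ({x} : Set R) ≤ P := by
    rw [Ideal.span_le]; exact Set.singleton_subset_iff.mpr hxP
  obtain ⟨r, hr, hrP⟩ := Ideal.exists_minimalPrimes_le hxP'
  haveI hrprime : r.IsPrime := hr.1.1
  have hrh : r.height ≤ 1 := Ideal.height_le_one_of_isPrincipal_of_mem_minimalPrimes _ r hr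
  have hxr : x ∈ r := hr.1.2 (Ideal.subset_span rfl)
  have hr0 : ⊥ < r := by
    rw [bot_lt_iff_ne_bot]
    intro h
    rw [h] at hxr
    exact hx0 (by simpa using hxr)
  have hrP' : r < P := by
    refine lt_of_le_of_ne hrP ?_
    intro h
    rw [h] at hrh
    exact absurd (lt_of_lt_of_le hP2 hrh) (lt_irrefl _)
  have har : a ∈ r := hcon r hrprime hr0 hrP'
  have har' : Ideal.span ({a} : Set R) ≤ r := by
    rw [Ideal.span_le]; exact Set.singleton_subset_iff.mpr har
  obtain ⟨q, hq, hqr⟩ := Ideal.exists_minimalPrimes_le har'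
  haveI hqprime : q.IsPrime := hq.1.1
  have haq : a ∈ q := hq.1.2 (Ideal.subset_span rfl)
  have hq0 : ⊥ < q := by
    rw [bot_lt_iff_ne_bot]
    intro h
    rw [h] at haq
    exact ha (by simpa using haq)
  have hqr' : q = r := by
    by_contra hne
    have hlt : q < r := lt_of_le_of_ne hqr hne
    have e1 : (⊥ : Ideal R).height < q.height :=
      Ideal.height_strict_mono_of_isPrime_of_isPrime hq0
    have e2 : q.height < r.height := Ideal.height_strict_mono_of_isPrime_of_isPrime hlt
    have e3 : (1 : ℕ∞) ≤ q.height := Order.one_le_iff_pos.mpr (lt_of_le_of_lt bot_le e1)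
    exact absurd (lt_of_lt_of_le (lt_of_le_of_lt e3 e2) hrh) (lt_irrefl _)
  refine hx q (Finset.mem_coe.mpr (Finset.mem_insert_of_mem (hfin.mem_toFinset.mpr hq))) ?_
  rw [hqr']
  exact hxr

/-- General form: in a Noetherian ring, if there is a prime strictly between the primes
`P'' < P`, then there is one avoiding a given element `a ∉ P''`. -/
theorem exists_prime_between [IsNoetherianRing R] (P'' P P₁ : Ideal R) [P''.IsPrime] [P.IsPrime]
    [P₁.IsPrime] (h0 : P'' < P₁) (h1 : P₁ < P) (a : R) (ha : a ∉ P'') :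
    ∃ r : Ideal R, r.IsPrime ∧ P'' < r ∧ r < P ∧ a ∉ r := by
  set mk := Ideal.Quotient.mk P'' with hmk
  have hsurj : Function.Surjective mk := Ideal.Quotient.mk_surjective
  have hker : RingHom.ker mk = P'' := Ideal.mk_ker
  have key : ∀ I : Ideal R, P'' ≤ I → (I.map mk).comap mk = I := by
    intro I hI
    rw [Ideal.comap_map_of_surjective mk hsurj, ← RingHom.ker_eq_comap_bot, hker]
    exact sup_eq_left.mpr hI
  haveI : (P.map mk).IsPrime :=
    Ideal.map_isPrime_of_surjective hsurj (by rw [hker]; exact (h0.trans h1).le)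
  haveI : (P₁.map mk).IsPrime :=
    Ideal.map_isPrime_of_surjective hsurj (by rw [hker]; exact h0.le)
  have hlt : ∀ I J : Ideal R, P'' ≤ I → P'' ≤ J → I < J → I.map mk < J.map mk := by
    intro I J hI hJ hIJ
    refine lt_of_le_of_ne (Ideal.map_mono hIJ.le) ?_
    intro h
    have := congrArg (Ideal.comap mk) h
    rw [key I hI, key J hJ] at this
    exact hIJ.ne this
  have h0' : ⊥ < P₁.map mk := by
    have := hlt P'' P₁ le_rfl h0.le h0
    rwa [hmk, Ideal.map_quotient_self, ← hmk] at this
  have h1' : P₁.map mk < P.map mk := hlt P₁ P h0.le (h0.trans h1).le h1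
  have ha' : mk a ≠ 0 := by
    intro h
    exact ha (Ideal.Quotient.eq_zero_iff_mem.mp h)
  obtain ⟨r, hr, hr0, hrP, har⟩ := exists_prime_between_bot (P.map mk) (P₁.map mk) h0' h1' (mk a) ha'
  refine ⟨r.comap mk, Ideal.comap_isPrime mk r, ?_, ?_, ?_⟩
  · refine lt_of_le_of_ne ?_ ?_
    · have h3 : RingHom.ker mk ≤ r.comap mk := by
        rw [RingHom.ker_eq_comap_bot]
        exact Ideal.comap_mono bot_le
      rwa [hker] at h3
    · intro h
      have h2 := congrArg (Ideal.map mk) h
      rw [Ideal.map_comap_of_surjective mk hsurj, hmk, Ideal.map_quotient_self] at h2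
      exact hr0.ne h2
  · have h2 : r.comap mk ≤ P := by
      rw [← key P (h0.trans h1).le]
      exact Ideal.comap_mono hrP.le
    refine lt_of_le_of_ne h2 ?_
    intro h
    have h3 := congrArg (Ideal.map mk) h
    rw [Ideal.map_comap_of_surjective mk hsurj] at h3
    exact hrP.ne h3
  · exact har

/-- **Slicing**: in a Noetherian domain, below a nonzero prime `P` and avoiding `a ≠ 0` there is a
prime `P''` such that no prime lies strictly between `P''` and `P`. -/
theorem exists_covBy_prime [IsDomain R] [IsNoetherianRing R] (P : Ideal R) [P.IsPrime]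
    (hP : P ≠ ⊥) (a : R) (ha : a ≠ 0) :
    ∃ P'' : Ideal R, P''.IsPrime ∧ P'' < P ∧ a ∉ P'' ∧
      ∀ P₁ : Ideal R, P₁.IsPrime → P'' < P₁ → P₁ ≤ P → P₁ = P := by
  let S' : Set (Ideal R) := {I | I.IsPrime ∧ I < P ∧ a ∉ I}
  have hne : S'.Nonempty :=
    ⟨⊥, Ideal.isPrime_bot, bot_lt_iff_ne_bot.mpr hP, by simpa using ha⟩
  obtain ⟨P'', ⟨hprime, hlt, haP⟩, hmax⟩ :=
    (set_has_maximal_iff_noetherian (R := R) (M := R)).mpr inferInstance S' hne
  haveI := hprime
  refine ⟨P'', hprime, hlt, haP, ?_⟩
  intro P₁ hP₁ h1 h2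
  by_contra hne'
  haveI := hP₁
  obtain ⟨r, hr, hr0, hrP, har⟩ :=
    exists_prime_between P'' P P₁ h1 (lt_of_le_of_ne h2 hne') a haP
  exact hmax r ⟨hr, hrP, har⟩ hr0

end Groth.Agent.Lib.helper9.FinBC
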