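import Groth.Agent.Lib.Helper9.FinBC2

/-!
# Finite base change criterion for universal openness (helper9), part 3: the ring-level core

`A ⟶ C ⟶ D` with `C` a Noetherian domain of finite type over `A` and `D` of finite type over `C`.
Assume that `Spec D ⟶ Spec C` is "open and generalizing along the fibres over `Spec A`" and that
generizations lift along `Spec D ⟶ Spec C` over closed integral subschemes of `Spec C` at points
where they are quasi-finite over `A`.  Then every point of `Spec D` has a generization over the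
generic point of `Spec C`.
-/

set_option autoImplicit false
set_option linter.style.haveILetI false
universe u

open PrimeSpectrum Topology

namespace Groth.Agent.Lib.helper9.FinBC

theorem core {A C D : Type u} [CommRing A] [CommRing C] [IsDomain C] [CommRing D]
    [Algebra A C] [Algebra C D] [Algebra.FiniteType A C] [IsNoetherianRing C]
    [Algebra.FiniteType C D]
    (hfa : ∀ (P' P : PrimeSpectrum C), P' ≤ P →
      comap (algebraMap A C) P' = comap (algebraMap A C) P →
      ∀ Q : PrimeSpectrum D, comap (algebraMap C D) Q = P →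
        ∃ Q' : PrimeSpectrum D, Q' ≤ Q ∧ comap (algebraMap C D) Q' = P')
    (hfb : ∀ (𝔭 : PrimeSpectrum A) (W : Set (PrimeSpectrum D)), IsOpen W →
      ∃ U : Set (PrimeSpectrum C), IsOpen U ∧ ∀ P, comap (algebraMap A C) P = 𝔭 →
        (P ∈ U ↔ P ∈ comap (algebraMap C D) '' W))
    (hqf : ∀ (P'' P : PrimeSpectrum C) (h : C), P'' ≤ P → h ∉ P.asIdeal →
      (∀ P₁ : PrimeSpectrum C, P'' ≤ P₁ → h ∉ P₁.asIdeal →
        comap (algebraMap A C) P₁ = comap (algebraMap A C) P → P₁ = P) →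
      ∀ Q : PrimeSpectrum D, comap (algebraMap C D) Q = P →
        ∃ Q'' : PrimeSpectrum D, Q'' ≤ Q ∧ comap (algebraMap C D) Q'' = P'')
    (Q : PrimeSpectrum D) :
    ∃ Q' : PrimeSpectrum D, Q' ≤ Q ∧ (comap (algebraMap C D) Q').asIdeal = ⊥ := by
  haveI : IsNoetherianRing D := Algebra.FiniteType.isNoetherianRing C D
  haveI : Algebra.FinitePresentation C D :=
    Algebra.FinitePresentation.of_finiteType.mp inferInstance
  have hGcl := isClosed_good (C := C) (D := D)
  by_contra hQ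
  set W : Set (PrimeSpectrum D) := {Q : PrimeSpectrum D | ∃ Q' : PrimeSpectrum D, Q' ≤ Q ∧
      (comap (algebraMap C D) Q').asIdeal = ⊥}ᶜ with hW
  have hWo : IsOpen W := hGcl.isOpen_compl
  have hQW : Q ∈ W := hQ
  set E : Set (PrimeSpectrum C) := comap (algebraMap C D) '' W with hE
  have hEc : IsConstructible E :=
    isConstructible_comap_image (RingHom.finitePresentation_algebraMap.mpr inferInstance)
      ((TopologicalSpace.NoetherianSpace.isCompact W).isConstructible hWo)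
  have hE0 : ∀ P ∈ E, P.asIdeal ≠ ⊥ := by
    rintro _ ⟨Q₁, hQ₁W, rfl⟩ h
    exact hQ₁W ⟨Q₁, le_rfl, h⟩
  obtain ⟨a, ha0, haE⟩ := exists_ne_zero_of_isConstructible E hEc hE0
  obtain ⟨U, hUo, hU⟩ := hfb (comap (algebraMap A C) (comap (algebraMap C D) Q)) W hWo
  have hP₀U : comap (algebraMap C D) Q ∈ U := (hU _ rfl).mpr ⟨Q, hQW, rfl⟩
  obtain ⟨P, hPU, hP𝔭, hPmax⟩ := exists_maximal_in_fibre (A := A) U hUo _ hP₀U
  obtain ⟨Q₁, hQ₁W, hQ₁P⟩ := (hU P hP𝔭).mp hPU
  let η : PrimeSpectrum C := ⟨⊥, Ideal.isPrime_bot⟩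
  by_cases hcase : comap (algebraMap A C) η = comap (algebraMap A C) P
  · obtain ⟨Q', hQ'le, hQ'⟩ := hfa η P (bot_le (a := P.asIdeal)) hcase Q₁ hQ₁P
    exact hQ₁W ⟨Q', hQ'le, by rw [hQ']⟩
  · obtain ⟨b, hb, hb'⟩ : ∃ b : A, b ∈ (comap (algebraMap A C) P).asIdeal ∧
        algebraMap A C b ≠ 0 := by
      by_contra hcon
      push_neg at hcon
      apply hcase
      apply PrimeSpectrum.ext
      apply le_antisymm
      · intro x hx
        have hx0 : algebraMap A C x = 0 := by simpa [η] using hx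
        change algebraMap A C x ∈ P.asIdeal
        rw [hx0]; exact P.asIdeal.zero_mem
      · intro x hx
        change algebraMap A C x ∈ (⊥ : Ideal C)
        rw [hcon x hx]; exact Ideal.zero_mem _
    have hbP : algebraMap A C b ∈ P.asIdeal := hb
    have hPne : P.asIdeal ≠ ⊥ := by
      intro h
      rw [h] at hbP
      exact hb' (by simpa using hbP)
    obtain ⟨P'', hP''prime, hlt, haP'', hcov⟩ :=
      exists_covBy_prime P.asIdeal hPne (a * algebraMap A C b) (mul_ne_zero ha0 hb')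
    haveI := hP''prime
    set I : Ideal C := (comap (algebraMap A C) P).asIdeal.map (algebraMap A C) with hI
    have hIP : I ≤ P.asIdeal := Ideal.map_le_iff_le_comap.mpr le_rfl
    have hInot : ¬ I ≤ P'' := fun h =>
      haP'' (P''.mul_mem_left a (h (Ideal.mem_map_of_mem _ hb)))
    obtain ⟨h, hhP, hiso⟩ := exists_isolating P'' P.asIdeal I hlt hIP hInot hcov
    obtain ⟨Q'', hQ''le, hQ''⟩ := hqf ⟨P'', hP''prime⟩ P h hlt.le hhP (by
      intro P₁ h1 h2 h3
      have hI₁ : I ≤ P₁.asIdeal := by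
        rw [hI, ← h3]
        exact Ideal.map_le_iff_le_comap.mpr le_rfl
      have hle : P ≤ P₁ := hiso P₁.asIdeal P₁.isPrime h1 hI₁ h2
      exact hPmax P₁ hle (h3.trans hP𝔭)) Q₁ hQ₁P
    have hQ''W : Q'' ∈ W :=
      hWo.stableUnderGeneralization ((PrimeSpectrum.le_iff_specializes _ _).mp hQ''le) hQ₁W
    have hP''E : (⟨P'', hP''prime⟩ : PrimeSpectrum C) ∈ E := ⟨Q'', hQ''W, hQ''⟩
    exact haP'' (P''.mul_mem_right _ (haE _ hP''E))

/-- `core` for ring homomorphisms. -/
theorem core' {A C D : Type u} [CommRing A] [CommRing C] [IsDomain C] [CommRing D]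
    [IsNoetherianRing C] (φ : A →+* C) (ψ : C →+* D) (hφ : φ.FiniteType) (hψ : ψ.FiniteType)
    (hfa : ∀ (P' P : PrimeSpectrum C), P' ≤ P → comap φ P' = comap φ P →
      ∀ Q : PrimeSpectrum D, comap ψ Q = P →
        ∃ Q' : PrimeSpectrum D, Q' ≤ Q ∧ comap ψ Q' = P')
    (hfb : ∀ (𝔭 : PrimeSpectrum A) (W : Set (PrimeSpectrum D)), IsOpen W →
      ∃ U : Set (PrimeSpectrum C), IsOpen U ∧ ∀ P, comap φ P = 𝔭 →
        (P ∈ U ↔ P ∈ comap ψ '' W))
    (hqf : ∀ (P'' P : PrimeSpectrum C) (h : C), P'' ≤ P → h ∉ P.asIdeal →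
      (∀ P₁ : PrimeSpectrum C, P'' ≤ P₁ → h ∉ P₁.asIdeal → comap φ P₁ = comap φ P → P₁ = P) →
      ∀ Q : PrimeSpectrum D, comap ψ Q = P →
        ∃ Q'' : PrimeSpectrum D, Q'' ≤ Q ∧ comap ψ Q'' = P'')
    (Q : PrimeSpectrum D) :
    ∃ Q' : PrimeSpectrum D, Q' ≤ Q ∧ (comap ψ Q').asIdeal = ⊥ := by
  letI := φ.toAlgebra
  letI := ψ.toAlgebra
  haveI : Algebra.FiniteType A C := hφ
  haveI : Algebra.FiniteType C D := hψ
  exact core (A := A) (C := C) (D := D) hfa hfb hqf Q

end Groth.Agent.Lib.helper9.FinBC
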