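import Mathlib
import Groth.Agent.Lib.Helper9.StageSquares
import Groth.Agent.Lib.Helper3.UnivOpenAffineSpace
import Groth.Agent.Lib.Helper3.UOImageDim2

/-!
# Finite base change criterion for universal openness (helper9), part 4: scheme-level transfer lemmas

For `f : X ⟶ Y` and `g : Z ⟶ Y` we study lifting of generizations along
`pullback.snd f g : X ×_Y Z ⟶ Z` and how it transfers along morphisms `h : Z' ⟶ Z`.
-/

set_option autoImplicit false
set_option linter.style.haveILetI false
universe u

open CategoryTheory CategoryTheory.Limits AlgebraicGeometry TopologicalSpace Topology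

namespace Groth.Agent.Lib.helper9.FinBC

variable {X Y Z Z' : Scheme.{u}} (f : X ⟶ Y) (g : Z ⟶ Y) (h : Z' ⟶ Z)

/-- the canonical map `X ×_Y Z' ⟶ X ×_Y Z` -/
noncomputable def baseMap : pullback f (h ≫ g) ⟶ pullback f g :=
  pullback.lift (pullback.fst _ _) (pullback.snd _ _ ≫ h)
    (by rw [Category.assoc, pullback.condition])

@[reassoc]
theorem baseMap_fst : baseMap f g h ≫ pullback.fst f g = pullback.fst f (h ≫ g) :=
  pullback.lift_fst _ _ _

@[reassoc]
theorem baseMap_snd : baseMap f g h ≫ pullback.snd f g = pullback.snd f (h ≫ g) ≫ h :=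
  pullback.lift_snd _ _ _

theorem isPullback_baseMap :
    IsPullback (baseMap f g h) (pullback.snd f (h ≫ g)) (pullback.snd f g) h := by
  refine IsPullback.of_right ?_ (baseMap_snd f g h) (IsPullback.of_hasPullback f g)
  rw [baseMap_fst]
  exact IsPullback.of_hasPullback f (h ≫ g)

/-- **Transfer**: lifting of a generization along `X ×_Y Z ⟶ Z` can be checked after a base
change `h : Z' ⟶ Z` through which the two points lift. -/
theorem exists_generization_of_comp {p₁ p₁' : Z'}
    (H : ∀ q₁ : ↥(pullback f (h ≫ g)), (pullback.snd f (h ≫ g)).base q₁ = p₁ →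
      ∃ q₁' : ↥(pullback f (h ≫ g)), q₁' ⤳ q₁ ∧ (pullback.snd f (h ≫ g)).base q₁' = p₁')
    (q : ↥(pullback f g)) (hq : (pullback.snd f g).base q = h.base p₁) :
    ∃ q' : ↥(pullback f g), q' ⤳ q ∧ (pullback.snd f g).base q' = h.base p₁' := by
  obtain ⟨q₁, hq₁, hq₁'⟩ :=
    Groth.Agent.Lib.helper9.exists_preimage_of_isPullback (isPullback_baseMap f g h) q p₁ hq
  obtain ⟨q₁', hsp, hq₁''⟩ := H q₁ hq₁'
  refine ⟨(baseMap f g h).base q₁', ?_, ?_⟩
  · rw [← hq₁]
    exact hsp.map (baseMap f g h).continuous
  · rw [← Scheme.Hom.comp_apply, baseMap_snd, Scheme.Hom.comp_apply, hq₁'']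

/-- generalizing base changes restrict along open immersions. -/
theorem generalizingMap_snd_of_isOpenImmersion [IsOpenImmersion h]
    (H : GeneralizingMap (pullback.snd f g).base) :
    GeneralizingMap (pullback.snd f (h ≫ g)).base :=
  IsZariskiLocalAtTarget.of_isPullback (P := topologically GeneralizingMap) (iY := h)
    (isPullback_baseMap f g h) H

/-- the base change of `f` to a fibre of `g` is universally open. -/
instance universallyOpen_snd_fiberι (y : Y) :
    UniversallyOpen (pullback.snd f (g.fiberι y ≫ g)) := by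
  have h1 : g.fiberι y ≫ g = g.fiberToSpecResidueField y ≫ Y.fromSpecResidueField y :=
    g.fiber_fac y
  rw [h1]
  haveI : UniversallyOpen (pullback.snd f (Y.fromSpecResidueField y)) := inferInstance
  exact MorphismProperty.of_isPullback (P := @UniversallyOpen)
    (isPullback_baseMap f (Y.fromSpecResidueField y) (g.fiberToSpecResidueField y)) inferInstance

/-- generizations within a fibre of `g` lift along `X ×_Y Z ⟶ Z`. -/
theorem exists_generization_of_same_fibre {p p' : Z} (hsp : p' ⤳ p)
    (hg : g.base p' = g.base p) (q : ↥(pullback f g)) (hq : (pullback.snd f g).base q = p) :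
    ∃ q' : ↥(pullback f g), q' ⤳ q ∧ (pullback.snd f g).base q' = p' := by
  obtain ⟨y, hy⟩ : ∃ y : Y, g.base p = y := ⟨_, rfl⟩
  have hp : p ∈ Set.range (g.fiberι y).base := by
    rw [g.range_fiberι y]; exact hy
  have hp' : p' ∈ Set.range (g.fiberι y).base := by
    rw [g.range_fiberι y]; exact hg.trans hy
  obtain ⟨z, rfl⟩ := hp
  obtain ⟨z', rfl⟩ := hp'
  have hz : z' ⤳ z := (g.fiberι y).isEmbedding.isInducing.specializes_iff.mp hsp
  have hgen : GeneralizingMap (pullback.snd f (g.fiberι y ≫ g)).base :=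
    Groth.Agent.Lib.helper3.UOImageDim.generalizingMap_of_isOpenMap _
      (pullback.snd f (g.fiberι y ≫ g)).isOpenMap
  refine exists_generization_of_comp f g (g.fiberι y) ?_ q hq
  intro q₁ hq₁
  obtain ⟨q₁', h1, h2⟩ := hgen (hq₁ ▸ hz)
  exact ⟨q₁', h1, h2⟩

/-- the image of an open subset of `X ×_Y Z` meets each fibre of `g` in an open subset. -/
theorem exists_isOpen_inter_fibre (W : Set ↥(pullback f g)) (hW : IsOpen W) (y : Y) :
    ∃ U : Set Z, IsOpen U ∧ ∀ p : Z, g.base p = y →
      (p ∈ U ↔ p ∈ (pullback.snd f g).base '' W) := by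
  have sq := isPullback_baseMap f g (g.fiberι y)
  have himg := Groth.Agent.Lib.helper3.UOA.image_preimage_of_isPullback sq W
  have ho : IsOpen ((pullback.snd f (g.fiberι y ≫ g)).base ''
      ((baseMap f g (g.fiberι y)).base ⁻¹' W)) :=
    (pullback.snd f (g.fiberι y ≫ g)).isOpenMap _
      (hW.preimage (baseMap f g (g.fiberι y)).continuous)
  rw [himg, (g.fiberι y).isEmbedding.isInducing.isOpen_iff] at ho
  obtain ⟨U, hUo, hU⟩ := ho
  refine ⟨U, hUo, fun p hp => ?_⟩
  have hp' : p ∈ Set.range (g.fiberι y).base := by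
    rw [g.range_fiberι y]; exact hp
  obtain ⟨z, rfl⟩ := hp'
  have := Set.ext_iff.mp hU z
  simpa using this

end Groth.Agent.Lib.helper9.FinBC
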