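import Groth.Agent.Lib.Helper9.FinBC4
import Groth.Agent.Lib.Helper9.ZMTFin6

/-!
# Finite base change criterion for universal openness (helper9), part 5: the quasi-finite step

If all finite base changes of `f : X ⟶ Y` are generalizing, then so are the base changes along
`T ⟶ Y` near points where `T ⟶ Y` is quasi-finite (Zariski's Main Theorem).
-/

set_option autoImplicit false
set_option linter.style.haveILetI false
universe u

open CategoryTheory CategoryTheory.Limits AlgebraicGeometry TopologicalSpace Topology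

namespace Groth.Agent.Lib.helper9.FinBC

/-- a point isolated in its fibre is a quasi-finite point -/
theorem quasiFiniteAt_of_isolated {T Y : Scheme.{u}} (τ : T ⟶ Y) [LocallyOfFiniteType τ] (p : T)
    (O : Set T) (hO : IsOpen O) (hpO : p ∈ O)
    (hiso : ∀ p₁ ∈ O, τ.base p₁ = τ.base p → p₁ = p) : τ.QuasiFiniteAt p := by
  rw [Scheme.Hom.quasiFiniteAt_iff_isOpen_singleton_asFiber, ← (τ.fiberHomeo (τ.base p)).isOpen_image]
  simp only [Set.image_singleton, Scheme.Hom.asFiber, Homeomorph.apply_symm_apply]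
  rw [isOpen_induced_iff]
  refine ⟨O, hO, ?_⟩
  ext ⟨p₁, hp₁⟩
  simp only [Set.mem_preimage, Set.mem_singleton_iff]
  constructor
  · intro h
    exact Subtype.ext (hiso p₁ h hp₁)
  · intro h
    have h2 : p₁ = p := congrArg Subtype.val h
    rw [h2]; exact hpO

variable {X Y : Scheme.{u}} [CompactSpace Y] [QuasiSeparatedSpace Y] (f : X ⟶ Y)

theorem exists_opens_generalizingMap_of_quasiFiniteAt
    (H : ∀ (Y₁ : Scheme.{u}) (π : Y₁ ⟶ Y) [IsFinite π], GeneralizingMap (pullback.snd f π).base)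
    {T : Scheme.{u}} (τ : T ⟶ Y) [LocallyOfFiniteType τ] [IsSeparated τ] (p : T)
    (hp : τ.QuasiFiniteAt p) :
    ∃ U : T.Opens, p ∈ U ∧ GeneralizingMap (pullback.snd f (U.ι ≫ τ)).base := by
  have hp' : p ∈ τ.quasiFiniteLocus := hp
  obtain ⟨U, hU, hpU, hUle'⟩ := exists_isAffineOpen_mem_and_subset (x := p)
    (U := τ.quasiFiniteLocus) hp'
  have hUle : U ≤ τ.quasiFiniteLocus := hUle'
  refine ⟨U, hpU, ?_⟩
  haveI : IsAffine U.toScheme := hU
  haveI : LocallyQuasiFinite (U.ι ≫ τ) := by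
    rw [← Scheme.homOfLE_ι T hUle, Category.assoc]
    infer_instance
  obtain ⟨Y₁, j, π, hj, -, hπ, hjπ⟩ :=
    Groth.Agent.Lib.helper9.ZMTFin.zmt_finite (U.ι ≫ τ)
  haveI := hj
  haveI := hπ
  have h1 := generalizingMap_snd_of_isOpenImmersion f π j (H Y₁ π)
  rw [hjπ] at h1
  exact h1

theorem exists_generization_of_quasiFiniteAt
    (H : ∀ (Y₁ : Scheme.{u}) (π : Y₁ ⟶ Y) [IsFinite π], GeneralizingMap (pullback.snd f π).base)
    {Z T : Scheme.{u}} (g : Z ⟶ Y) (t : T ⟶ Z) [LocallyOfFiniteType (t ≫ g)]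
    [IsSeparated (t ≫ g)] (p p'' : T) (hsp : p'' ⤳ p) (hp : (t ≫ g).QuasiFiniteAt p)
    (q : ↥(pullback f g)) (hq : (pullback.snd f g).base q = t.base p) :
    ∃ q'' : ↥(pullback f g), q'' ⤳ q ∧ (pullback.snd f g).base q'' = t.base p'' := by
  obtain ⟨U, hpU, hU⟩ := exists_opens_generalizingMap_of_quasiFiniteAt f H (t ≫ g) p hp
  rw [← Category.assoc] at hU
  have hp''U : p'' ∈ U := U.2.stableUnderGeneralization hsp hpU
  have hsp' : (⟨p'', hp''U⟩ : ↥U) ⤳ ⟨p, hpU⟩ :=
    U.ι.isOpenEmbedding.isInducing.specializes_iff.mp hsp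
  have := exists_generization_of_comp f g (U.ι ≫ t) (p₁ := ⟨p, hpU⟩) (p₁' := ⟨p'', hp''U⟩)
    (fun q₁ hq₁ => by
      obtain ⟨q₁', h1, h2⟩ := hU (hq₁ ▸ hsp')
      exact ⟨q₁', h1, h2⟩) q hq
  exact this

end Groth.Agent.Lib.helper9.FinBC
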