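import Groth.Agent.Lib.Helper9.FinBC3
import Groth.Agent.Lib.Helper9.FinBC5

/-!
# Finite base change criterion for universal openness (helper9), part 6: integral affine bases

`f : X ⟶ Y` locally of finite type, all of whose finite base changes are generalizing.  For an
integral Noetherian affine scheme `Spec C` of finite type over an affine open of `Y`, every point
of `X ×_Y Spec C` has a generization over the generic point of `Spec C`.
-/

set_option autoImplicit false
set_option linter.style.haveILetI false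
universe u

open CategoryTheory CategoryTheory.Limits AlgebraicGeometry TopologicalSpace Topology

namespace Groth.Agent.Lib.helper9.FinBC

variable {X Y : Scheme.{u}} [CompactSpace Y] [QuasiSeparatedSpace Y] (f : X ⟶ Y)
  [LocallyOfFiniteType f]

set_option maxHeartbeats 1000000 in
theorem exists_generization_generic
    (H : ∀ (Y₁ : Scheme.{u}) (π : Y₁ ⟶ Y) [IsFinite π], GeneralizingMap (pullback.snd f π).base)
    (A C : CommRingCat.{u}) [IsDomain C] [IsNoetherianRing C] (ιV : Spec A ⟶ Y)
    [IsOpenImmersion ιV] (φ : A ⟶ C) (hφ : φ.hom.FiniteType) (g : Spec C ⟶ Y)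
    (hg : g = Spec.map φ ≫ ιV) (q : ↥(pullback f g)) :
    ∃ q' : ↥(pullback f g), q' ⤳ q ∧
      ((pullback.snd f g).base q' : PrimeSpectrum C).asIdeal = ⊥ := by
  haveI hφ' : LocallyOfFiniteType (Spec.map φ) :=
    (HasRingHomProperty.Spec_iff (P := @LocallyOfFiniteType)).mpr hφ
  haveI : LocallyOfFiniteType g := by rw [hg]; infer_instance
  obtain ⟨U, hU, hqU, -⟩ := exists_isAffineOpen_mem_and_subset (x := q)
    (U := (⊤ : (pullback f g).Opens)) trivial
  have hrange : q ∈ Set.range hU.fromSpec.base := by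
    rw [hU.range_fromSpec]; exact hqU
  obtain ⟨Q₀, hQ₀⟩ := hrange
  set u := hU.fromSpec with hu
  obtain ⟨ψ, hψ⟩ := Spec.map_surjective (u ≫ pullback.snd f g)
  have hψft : ψ.hom.FiniteType := by
    have : LocallyOfFiniteType (Spec.map ψ) := by rw [hψ]; infer_instance
    exact (HasRingHomProperty.Spec_iff (P := @LocallyOfFiniteType)).mp this
  -- translation
  have hs0 : ∀ Q : ↥(Spec Γ(pullback f g, U)),
      (pullback.snd f g).base (u.base Q) = (Spec.map ψ).base Q := by
    intro Q
    rw [← Scheme.Hom.comp_apply, hψ]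
  have hs : ∀ Q : PrimeSpectrum Γ(pullback f g, U),
      (pullback.snd f g).base (u.base Q) = PrimeSpectrum.comap ψ.hom Q := fun Q => hs0 Q
  have hpull : ∀ (Q : PrimeSpectrum Γ(pullback f g, U)) (q' : ↥(pullback f g)),
      q' ⤳ u.base Q → ∃ Q' : PrimeSpectrum Γ(pullback f g, U), Q' ≤ Q ∧ u.base Q' = q' := by
    intro Q q' hq'
    obtain ⟨Q', rfl⟩ := u.isOpenEmbedding.isOpen_range.stableUnderGeneralization hq' ⟨Q, rfl⟩
    exact ⟨Q', (PrimeSpectrum.le_iff_specializes _ _).mpr
      (u.isOpenEmbedding.isInducing.specializes_iff.mp hq'), rfl⟩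
  have hgpt : ∀ P : PrimeSpectrum C, g.base P = ιV.base (PrimeSpectrum.comap φ.hom P) := by
    intro P
    rw [hg]
    exact Scheme.Hom.comp_apply (Spec.map φ) ιV P
  have key : ∃ Q' : PrimeSpectrum Γ(pullback f g, U), Q' ≤ Q₀ ∧
      (PrimeSpectrum.comap ψ.hom Q').asIdeal = ⊥ := by
    refine core' φ.hom ψ.hom hφ hψft ?_ ?_ ?_ Q₀
    · -- fibrewise going down
      intro P' P hle hcomap Q hQ
      have hsp : (P' : ↥(Spec C)) ⤳ P := (PrimeSpectrum.le_iff_specializes _ _).mp hle
      have hgeq : g.base P' = g.base P := by rw [hgpt, hgpt, hcomap]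
      obtain ⟨q', hq', hq'P⟩ := exists_generization_of_same_fibre f g hsp hgeq (u.base Q)
        ((hs Q).trans hQ)
      obtain ⟨Q', hQ'le, rfl⟩ := hpull Q q' hq'
      exact ⟨Q', hQ'le, (hs Q').symm.trans hq'P⟩
    · -- fibrewise openness
      intro 𝔭 W hW
      obtain ⟨U', hU'o, hU'⟩ := exists_isOpen_inter_fibre f g (u.base '' W)
        (u.isOpenEmbedding.isOpenMap W hW) (ιV.base 𝔭)
      refine ⟨U', hU'o, fun P hP => ?_⟩
      refine (hU' P (by rw [hgpt, hP])).trans ?_
      constructor
      · rintro ⟨q', ⟨Q, hQW, rfl⟩, hq'⟩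
        exact ⟨Q, hQW, (hs Q).symm.trans hq'⟩
      · rintro ⟨Q, hQW, hQ⟩
        exact ⟨u.base Q, ⟨Q, hQW, rfl⟩, (hs Q).trans hQ⟩
    · -- quasi-finite slices
      intro P'' P h hle hh hiso Q hQ
      let mk : C ⟶ CommRingCat.of (C ⧸ P''.asIdeal) :=
        CommRingCat.ofHom (Ideal.Quotient.mk P''.asIdeal)
      have hmk : Function.Surjective mk.hom := Ideal.Quotient.mk_surjective
      let t : Spec (CommRingCat.of (C ⧸ P''.asIdeal)) ⟶ Spec C := Spec.map mk
      haveI : IsClosedImmersion t := IsClosedImmersion.spec_of_quotient_mk _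
      have htpt : ∀ p : PrimeSpectrum (C ⧸ P''.asIdeal), t.base p = PrimeSpectrum.comap mk.hom p :=
        fun p => rfl
      haveI : LocallyOfFiniteType (t ≫ g) := inferInstance
      haveI : IsSeparated (t ≫ g) := by
        rw [hg, ← Category.assoc]
        infer_instance
      -- the points
      have hPrange : P ∈ Set.range (PrimeSpectrum.comap mk.hom) := by
        rw [range_comap_of_surjective _ _ hmk]
        change (RingHom.ker (Ideal.Quotient.mk P''.asIdeal) : Set C) ⊆ P.asIdeal
        rw [Ideal.mk_ker]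
        exact hle
      obtain ⟨p, hp⟩ := hPrange
      let p'' : PrimeSpectrum (C ⧸ P''.asIdeal) := ⟨⊥, Ideal.isPrime_bot⟩
      have hp'' : PrimeSpectrum.comap mk.hom p'' = P'' := by
        apply PrimeSpectrum.ext
        change Ideal.comap (Ideal.Quotient.mk P''.asIdeal) ⊥ = P''.asIdeal
        rw [← RingHom.ker_eq_comap_bot, Ideal.mk_ker]
      have hsp : (p'' : ↥(Spec (CommRingCat.of (C ⧸ P''.asIdeal)))) ⤳ p :=
        (PrimeSpectrum.le_iff_specializes p'' p).mp (bot_le (a := p.asIdeal))
      have hqf : (t ≫ g).QuasiFiniteAt p := by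
        refine quasiFiniteAt_of_isolated (t ≫ g) p
          (PrimeSpectrum.basicOpen (mk.hom h) : Set (PrimeSpectrum (C ⧸ P''.asIdeal)))
          (PrimeSpectrum.basicOpen (mk.hom h)).2 ?_ ?_
        · change mk.hom h ∉ p.asIdeal
          intro hmem
          apply hh
          rw [← hp]
          exact hmem
        · intro p₁ hp₁ heq
          have e : ∀ p : PrimeSpectrum (C ⧸ P''.asIdeal), (t ≫ g).base p =
              ιV.base (PrimeSpectrum.comap φ.hom (PrimeSpectrum.comap mk.hom p)) :=
            fun p => (Scheme.Hom.comp_apply t g p).trans (hgpt _)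
          have heq' := ιV.isOpenEmbedding.injective ((e p₁).symm.trans (heq.trans (e p)))
          rw [hp] at heq'
          have h1 : P'' ≤ PrimeSpectrum.comap mk.hom p₁ := by
            intro x hx
            change Ideal.Quotient.mk P''.asIdeal x ∈ p₁.asIdeal
            rw [Ideal.Quotient.eq_zero_iff_mem.mpr hx]
            exact p₁.asIdeal.zero_mem
          have h2 : h ∉ (PrimeSpectrum.comap mk.hom p₁).asIdeal := hp₁
          have h3 := hiso _ h1 h2 heq'
          exact PrimeSpectrum.comap_injective_of_surjective _ hmk (h3.trans hp.symm)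
      obtain ⟨q'', hq'', hq''P⟩ := exists_generization_of_quasiFiniteAt f H g t p p'' hsp hqf
        (u.base Q) ((hs Q).trans (hQ.trans hp.symm))
      obtain ⟨Q'', hQ''le, rfl⟩ := hpull Q q'' hq''
      exact ⟨Q'', hQ''le, (hs Q'').symm.trans (hq''P.trans hp'')⟩
  obtain ⟨Q', hQ'le, hQ'⟩ := key
  refine ⟨u.base Q', ?_, ?_⟩
  · rw [← hQ₀]
    exact ((PrimeSpectrum.le_iff_specializes _ _).mp hQ'le).map u.continuous
  · rw [hs]; exact hQ'

end Groth.Agent.Lib.helper9.FinBC
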