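import Groth.Agent.Lib.Helper9.FinBC6

/-!
# Finite base change criterion for universal openness (helper9), part 7: the criterion

`Y` Noetherian, `f : X ⟶ Y` locally of finite type.  If all base changes of `f` along finite
morphisms `Y₁ ⟶ Y` are open maps, then `f` is universally open (EGA IV 14.4-type criterion).
-/

set_option autoImplicit false
set_option linter.style.haveILetI false
universe u

open CategoryTheory CategoryTheory.Limits AlgebraicGeometry TopologicalSpace Topology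

namespace Groth.Agent.Lib.helper9.FinBC

variable {X Y : Scheme.{u}} [IsNoetherian Y] (f : X ⟶ Y) [LocallyOfFiniteType f]

set_option maxHeartbeats 1000000 in
/-- if all finite base changes of `f` are generalizing, so are all base changes locally of finite
type. -/
theorem generalizingMap_snd_of_finite
    (H : ∀ (Y₁ : Scheme.{u}) (π : Y₁ ⟶ Y) [IsFinite π], GeneralizingMap (pullback.snd f π).base)
    {Z : Scheme.{u}} (g : Z ⟶ Y) [LocallyOfFiniteType g] :
    GeneralizingMap (pullback.snd f g).base := by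
  intro q p' hp'
  obtain ⟨V, hV, hpV, -⟩ := exists_isAffineOpen_mem_and_subset
    (x := g.base ((pullback.snd f g).base q)) (U := (⊤ : Y.Opens)) trivial
  obtain ⟨Z₀, hZ₀, hpZ₀, hle'⟩ := exists_isAffineOpen_mem_and_subset
    (x := (pullback.snd f g).base q) (U := g ⁻¹ᵁ V) hpV
  have hle : Z₀ ≤ g ⁻¹ᵁ V := hle'
  have hp'Z₀ : p' ∈ Z₀ := Z₀.2.stableUnderGeneralization hp' hpZ₀
  set φ₀ := g.appLE V Z₀ hle with hφ₀def
  have hφ₀ : φ₀.hom.FiniteType := g.finiteType_appLE hV hZ₀ hle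
  have hsq : Spec.map φ₀ ≫ hV.fromSpec = hZ₀.fromSpec ≫ g :=
    IsAffineOpen.SpecMap_appLE_fromSpec g hV hZ₀ hle
  haveI : IsNoetherianRing Γ(Y, V) := IsLocallyNoetherian.component_noetherian ⟨V, hV⟩
  haveI : IsNoetherianRing Γ(Z, Z₀) := by
    letI := φ₀.hom.toAlgebra
    haveI : Algebra.FiniteType Γ(Y, V) Γ(Z, Z₀) := hφ₀
    exact Algebra.FiniteType.isNoetherianRing Γ(Y, V) Γ(Z, Z₀)
  -- the points
  have hpr : (pullback.snd f g).base q ∈ Set.range hZ₀.fromSpec.base := by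
    rw [hZ₀.range_fromSpec]; exact hpZ₀
  have hp'r : p' ∈ Set.range hZ₀.fromSpec.base := by
    rw [hZ₀.range_fromSpec]; exact hp'Z₀
  obtain ⟨P, hP⟩ := hpr
  obtain ⟨P', rfl⟩ := hp'r
  have hPP' : P' ⤳ P := by
    apply hZ₀.fromSpec.isOpenEmbedding.isInducing.specializes_iff.mp
    rw [hP]; exact hp'
  -- the integral quotient
  let I : Ideal Γ(Z, Z₀) := (P' : PrimeSpectrum Γ(Z, Z₀)).asIdeal
  have hPP'le : I ≤ (P : PrimeSpectrum Γ(Z, Z₀)).asIdeal :=
    (PrimeSpectrum.le_iff_specializes (P' : PrimeSpectrum Γ(Z, Z₀)) P).mpr hPP'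
  haveI : I.IsPrime := (P' : PrimeSpectrum Γ(Z, Z₀)).isPrime
  let C : CommRingCat.{u} := CommRingCat.of (Γ(Z, Z₀) ⧸ I)
  let mk : Γ(Z, Z₀) ⟶ C := CommRingCat.ofHom (Ideal.Quotient.mk I)
  have hmk : Function.Surjective mk.hom := Ideal.Quotient.mk_surjective
  haveI : IsDomain C := Ideal.Quotient.isDomain I
  haveI : IsNoetherianRing C := inferInstanceAs (IsNoetherianRing (Γ(Z, Z₀) ⧸ I))
  have hφ : (φ₀ ≫ mk).hom.FiniteType := by
    rw [CommRingCat.hom_comp]
    exact (RingHom.FiniteType.of_surjective mk.hom hmk).comp hφ₀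
  let h : Spec C ⟶ Z := Spec.map mk ≫ hZ₀.fromSpec
  have hhg : h ≫ g = Spec.map (φ₀ ≫ mk) ≫ hV.fromSpec := by
    rw [Spec.map_comp, Category.assoc, Category.assoc, hsq]
  have hPrange : (P : PrimeSpectrum Γ(Z, Z₀)) ∈ Set.range (PrimeSpectrum.comap mk.hom) := by
    rw [range_comap_of_surjective _ _ hmk]
    change (RingHom.ker (Ideal.Quotient.mk I) : Set Γ(Z, Z₀)) ⊆ _
    rw [Ideal.mk_ker]
    exact hPP'le
  obtain ⟨pb, hpb⟩ := hPrange
  let η : PrimeSpectrum C := ⟨⊥, Ideal.isPrime_bot⟩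
  have hη : PrimeSpectrum.comap mk.hom η = P' := by
    apply PrimeSpectrum.ext
    change Ideal.comap (Ideal.Quotient.mk I) ⊥ = I
    rw [← RingHom.ker_eq_comap_bot, Ideal.mk_ker]
  have hhpt : ∀ x : PrimeSpectrum C, h.base x = hZ₀.fromSpec.base (PrimeSpectrum.comap mk.hom x) :=
    fun x => Scheme.Hom.comp_apply (Spec.map mk) hZ₀.fromSpec x
  obtain ⟨q', hq', hq'η⟩ := exists_generization_of_comp f g h (p₁ := pb) (p₁' := η)
    (fun q₁ _ => by
      obtain ⟨q₁', h1, h2⟩ := exists_generization_generic f H Γ(Y, V) C hV.fromSpec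
        (φ₀ ≫ mk) hφ (h ≫ g) hhg q₁
      exact ⟨q₁', h1, PrimeSpectrum.ext h2⟩) q (by rw [hhpt, hpb, hP])
  refine ⟨q', hq', ?_⟩
  rw [hq'η, hhpt, hη]

/-- **Finite base change criterion** for universal openness. -/
theorem universallyOpen_of_finite
    (H : ∀ (Y₁ : Scheme.{u}) (g : Y₁ ⟶ Y) [IsFinite g], IsOpenMap (pullback.snd f g).base) :
    UniversallyOpen f := by
  apply Groth.Agent.Lib.helper3.UOA.universallyOpen_of_affineSpace
  intro n _
  have hgen := generalizingMap_snd_of_finite f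
    (fun Y₁ π _ => Groth.Agent.Lib.helper3.UOImageDim.generalizingMap_of_isOpenMap _ (H Y₁ π))
    (𝔸(ULift.{u} (Fin n); Y) ↘ Y)
  exact isOpenMap_of_generalizingMap _ hgen

end Groth.Agent.Lib.helper9.FinBC
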