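import Groth.Agent.Lib.Helper9.FinBC5

/-!
# Finite base change criterion (helper9), part 8: pointwise transfer lemmas

`LiftAt f g x`: generizations lift along `X ×_Y Z ⟶ Z` at all points lying over `x : X`.
-/

set_option autoImplicit false
set_option linter.style.haveILetI false
universe u

open CategoryTheory CategoryTheory.Limits AlgebraicGeometry TopologicalSpace Topology

namespace Groth.Agent.Lib.helper9.FinBC

variable {X Y Z Z' : Scheme.{u}} (f : X ⟶ Y) (g : Z ⟶ Y) (h : Z' ⟶ Z)

/-- generizations lift along `X ×_Y Z ⟶ Z` at the points lying over `x`. -/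
def LiftAt (x : X) : Prop :=
  ∀ q : ↥(pullback f g), (pullback.fst f g).base q = x →
    ∀ p' : Z, p' ⤳ (pullback.snd f g).base q →
      ∃ q' : ↥(pullback f g), q' ⤳ q ∧ (pullback.snd f g).base q' = p'

theorem baseMap_fst_apply (q₁ : ↥(pullback f (h ≫ g))) :
    (pullback.fst f g).base ((baseMap f g h).base q₁) = (pullback.fst f (h ≫ g)).base q₁ := by
  rw [← Scheme.Hom.comp_apply, baseMap_fst]

theorem baseMap_snd_apply (q₁ : ↥(pullback f (h ≫ g))) :
    (pullback.snd f g).base ((baseMap f g h).base q₁) =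
      h.base ((pullback.snd f (h ≫ g)).base q₁) := by
  rw [← Scheme.Hom.comp_apply, baseMap_snd, Scheme.Hom.comp_apply]

/-- pointwise transfer -/
theorem exists_generization_of_comp_at (x : X) {p₁ p₁' : Z'}
    (H : ∀ q₁ : ↥(pullback f (h ≫ g)), (pullback.fst f (h ≫ g)).base q₁ = x →
      (pullback.snd f (h ≫ g)).base q₁ = p₁ →
      ∃ q₁' : ↥(pullback f (h ≫ g)), q₁' ⤳ q₁ ∧ (pullback.snd f (h ≫ g)).base q₁' = p₁')
    (q : ↥(pullback f g)) (hqx : (pullback.fst f g).base q = x)
    (hq : (pullback.snd f g).base q = h.base p₁) :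
    ∃ q' : ↥(pullback f g), q' ⤳ q ∧ (pullback.snd f g).base q' = h.base p₁' := by
  obtain ⟨q₁, hq₁, hq₁'⟩ :=
    Groth.Agent.Lib.helper9.exists_preimage_of_isPullback (isPullback_baseMap f g h) q p₁ hq
  have hq₁x : (pullback.fst f (h ≫ g)).base q₁ = x := by
    rw [← baseMap_fst_apply, hq₁, hqx]
  obtain ⟨q₁', hsp, hq₁''⟩ := H q₁ hq₁x hq₁'
  refine ⟨(baseMap f g h).base q₁', ?_, ?_⟩
  · rw [← hq₁]
    exact hsp.map (baseMap f g h).continuous
  · rw [baseMap_snd_apply, hq₁'']

instance isOpenImmersion_baseMap [IsOpenImmersion h] : IsOpenImmersion (baseMap f g h) :=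
  MorphismProperty.of_isPullback (P := @IsOpenImmersion) (isPullback_baseMap f g h).flip
    inferInstance

theorem liftAt_of_isOpenImmersion [IsOpenImmersion h] (x : X) (H : LiftAt f g x) :
    LiftAt f (h ≫ g) x := by
  intro q₁ hq₁ p₁' hp₁'
  obtain ⟨q', hq', hq'p⟩ := H ((baseMap f g h).base q₁) (by rw [baseMap_fst_apply, hq₁])
    (h.base p₁') (by rw [baseMap_snd_apply]; exact hp₁'.map h.continuous)
  obtain ⟨q₁', hq₁', hq₁'p⟩ :=
    Groth.Agent.Lib.helper9.exists_preimage_of_isPullback (isPullback_baseMap f g h) q' p₁' hq'p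
  refine ⟨q₁', ?_, hq₁'p⟩
  apply (baseMap f g h).isOpenEmbedding.isInducing.specializes_iff.mp
  rw [hq₁']
  exact hq'

/-- the canonical map `Spec κ(x) ×_Y Z ⟶ X ×_Y Z`. -/
noncomputable def pointMap (x : X) :
    pullback (X.fromSpecResidueField x ≫ f) g ⟶ pullback f g :=
  pullback.lift (pullback.fst _ _ ≫ X.fromSpecResidueField x) (pullback.snd _ _)
    (by rw [Category.assoc, pullback.condition])

@[reassoc]
theorem pointMap_fst (x : X) : pointMap f g x ≫ pullback.fst f g =
    pullback.fst (X.fromSpecResidueField x ≫ f) g ≫ X.fromSpecResidueField x :=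
  pullback.lift_fst _ _ _

@[reassoc]
theorem pointMap_snd (x : X) : pointMap f g x ≫ pullback.snd f g =
    pullback.snd (X.fromSpecResidueField x ≫ f) g :=
  pullback.lift_snd _ _ _

theorem isPullback_pointMap (x : X) :
    IsPullback (pointMap f g x) (pullback.fst (X.fromSpecResidueField x ≫ f) g)
      (pullback.fst f g) (X.fromSpecResidueField x) := by
  have h1 := IsPullback.of_hasPullback (X.fromSpecResidueField x ≫ f) g
  have h2 := IsPullback.of_hasPullback f g
  refine IsPullback.of_right ?_ (pointMap_fst f g x) h2.flip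
  rw [pointMap_snd]
  exact h1.flip

theorem range_pointMap (x : X) :
    Set.range (pointMap f g x).base = (pullback.fst f g).base ⁻¹' {x} := by
  ext q
  constructor
  · rintro ⟨q', rfl⟩
    change (pullback.fst f g).base ((pointMap f g x).base q') = x
    rw [← Scheme.Hom.comp_apply, pointMap_fst, Scheme.Hom.comp_apply]
    have : (X.fromSpecResidueField x).base
        ((pullback.fst (X.fromSpecResidueField x ≫ f) g).base q') ∈
        Set.range (X.fromSpecResidueField x).base := ⟨_, rfl⟩
    rw [Scheme.range_fromSpecResidueField] at this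
    exact this
  · intro hq
    have hx : x ∈ Set.range (X.fromSpecResidueField x).base := by
      rw [Scheme.range_fromSpecResidueField]; rfl
    obtain ⟨z, hz⟩ := hx
    obtain ⟨q', hq', -⟩ := Groth.Agent.Lib.helper9.exists_preimage_of_isPullback
      (isPullback_pointMap f g x) q z (by rw [hz]; exact hq)
    exact ⟨q', hq'⟩

/-- pointwise fibre openness: the image of the part of an open `W ⊆ X ×_Y Z` lying over `x`
meets each fibre of `g` in an open subset. -/
theorem exists_isOpen_inter_fibre_at (x : X) (W : Set ↥(pullback f g)) (hW : IsOpen W) (y : Y) :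
    ∃ U : Set Z, IsOpen U ∧ ∀ p : Z, g.base p = y →
      (p ∈ U ↔ ∃ q ∈ W, (pullback.fst f g).base q = x ∧ (pullback.snd f g).base q = p) := by
  obtain ⟨U, hUo, hU⟩ := exists_isOpen_inter_fibre (X.fromSpecResidueField x ≫ f) g
    ((pointMap f g x).base ⁻¹' W) (hW.preimage (pointMap f g x).continuous) y
  refine ⟨U, hUo, fun p hp => (hU p hp).trans ?_⟩
  constructor
  · rintro ⟨q', hq'W, rfl⟩
    refine ⟨(pointMap f g x).base q', hq'W, ?_, ?_⟩
    · have : (pointMap f g x).base q' ∈ Set.range (pointMap f g x).base := ⟨_, rfl⟩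
      rw [range_pointMap] at this
      exact this
    · rw [← Scheme.Hom.comp_apply, pointMap_snd]
  · rintro ⟨q, hqW, hqx, rfl⟩
    have : q ∈ Set.range (pointMap f g x).base := by
      rw [range_pointMap]; exact hqx
    obtain ⟨q', rfl⟩ := this
    refine ⟨q', hqW, ?_⟩
    rw [← Scheme.Hom.comp_apply, pointMap_snd]

end Groth.Agent.Lib.helper9.FinBC
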