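import Mathlib
import Groth.Agent.Lib.Helper9.EtDom1
import Groth.Agent.Lib.Helper5.QFRefineSch
import Groth.Agent.Lib.Helper13.EL2
import Groth.Prelude.Def_Mor2

/-!
# fppf coverings are refined by towers of Zariski and finite locally free coverings (helper9)

* `FppfTower.exists_etale_finite_flat_lift`: for `g` flat, locally of finite presentation and a
  point `x` of the source: an étale neighbourhood `S'` of `g x` and a finite locally free surjective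
  `V ⟶ S'` with a *global* lift `V ⟶ S₁` (the proof of S1379, due to helper5, keeping the lift).
* `FppfTower.exists_tower`: statement S7198.
-/

set_option autoImplicit false
set_option linter.style.haveILetI false
set_option backward.isDefEq.respectTransparency false

universe w u

open AlgebraicGeometry CategoryTheory Limits

namespace FppfTower

theorem exists_etale_finite_flat_lift {S₁ S : Scheme.{u}} (g : S₁ ⟶ S) [Flat g]
    [LocallyOfFinitePresentation g] (x : S₁) :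
    ∃ (S' V : Scheme.{u}) (e : S' ⟶ S) (π : V ⟶ S') (r : V ⟶ S₁), Etale e ∧ g x ∈ Set.range ⇑e ∧
      Surjective π ∧ IsFinite π ∧ Flat π ∧ LocallyOfFinitePresentation π ∧ r ≫ g = π ≫ e := by
  obtain ⟨A, γ, h, hfac, hfl, hfp, hqf, a, ha⟩ :=
    Groth.Agent.Lib.helper5.QFRefineSch.exists_affine_refinement_at g x
  haveI : LocallyOfFiniteType γ := inferInstance
  have hqa : γ.QuasiFiniteAt a := γ.quasiFiniteAt a
  obtain ⟨U, e, u, he, heu, -, V, v, hvV, hfin, hsnd, hfst, -, -⟩ :=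
    Groth.Agent.Lib.helper13.EL.exists_etale_nbhd_of_quasiFiniteAt γ a hqa
  let π₀ : V.toScheme ⟶ U := V.ι ≫ pullback.snd γ e
  haveI : IsFinite π₀ := hfin
  haveI : Flat π₀ := inferInstance
  haveI : LocallyOfFinitePresentation π₀ := inferInstance
  have hopen : IsOpen (Set.range π₀) := π₀.isOpenMap.isOpen_range
  let W : U.Opens := ⟨Set.range π₀, hopen⟩
  have hfac' : ((π₀ ⁻¹ᵁ W).ι ≫ V.ι ≫ pullback.fst γ e ≫ h) ≫ g =
      (π₀ ∣_ W) ≫ W.ι ≫ e := by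
    rw [← Category.assoc (π₀ ∣_ W), morphismRestrict_ι]
    simp only [Category.assoc, hfac, π₀]
    rw [pullback.condition]
  refine ⟨W.toScheme, (π₀ ⁻¹ᵁ W).toScheme, W.ι ≫ e, π₀ ∣_ W,
    (π₀ ⁻¹ᵁ W).ι ≫ V.ι ≫ pullback.fst γ e ≫ h, inferInstance, ?_, ?_, inferInstance,
    inferInstance, inferInstance, hfac'⟩
  · refine ⟨⟨u, ⟨⟨v, hvV⟩, ?_⟩⟩, ?_⟩
    · change (V.ι ≫ pullback.snd γ e) ⟨v, hvV⟩ = u
      rw [Scheme.Hom.comp_apply]
      exact hsnd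
    · rw [Scheme.Hom.comp_apply]
      change e u = g x
      rw [heu, ha]
  · refine ⟨fun ⟨w, y, hy⟩ => ?_⟩
    refine ⟨⟨y, ⟨y, rfl⟩⟩, ?_⟩
    apply Subtype.ext
    rw [morphismRestrict_base_coe]
    exact hy

open EtDom in
theorem exists_tower {S : Scheme.{u}} (E : PreZeroHypercover.{w} S)
    (hflat : ∀ i, Flat (E.f i)) (hfp : ∀ i, LocallyOfFinitePresentation (E.f i))
    (hsurj : ∀ s : S, ∃ (i : E.I₀) (x : E.X i), E.f i x = s) (s : S) :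
    ∃ (U : S.Opens) (W : Scheme.{u}) (π : W ⟶ U.toScheme), s ∈ U ∧ Mor2.IsFinLocFree π ∧
      Surjective π ∧
      ∀ w : W, ∃ (W' : W.Opens) (T : Scheme.{u}) (ρ : T ⟶ W'.toScheme) (i : E.I₀) (r : T ⟶ E.X i),
        w ∈ W' ∧ Mor2.IsFinLocFree ρ ∧ Surjective ρ ∧ r ≫ E.f i = ρ ≫ W'.ι ≫ π ≫ U.ι := by
  obtain ⟨i, x, hx⟩ := hsurj s
  haveI := hflat i
  haveI := hfp i
  obtain ⟨S', V, e, π, r, hEt, ⟨s', hs'⟩, hπs, hπf, hπfl, hπfp, hr⟩ :=
    exists_etale_finite_flat_lift (E.f i) x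
  rw [hx] at hs'
  haveI := hEt
  obtain ⟨V₀, T₀, π₀, hsV₀, hV₀, hπ₀s, hπ₀f, hπ₀fl, hπ₀fp, hl₀⟩ :=
    StdEtSplit.exists_dominating e s' s hs'
  have hl₀' : ∀ t : T₀, V₀.ι (π₀ t) = s → HasLift e (π₀ ≫ V₀.ι) t := fun t ht => by
    obtain ⟨W, h, htW, hh, -⟩ := hl₀ t ht
    exact ⟨W, h, htW, hh⟩
  have hcl : IsClosed (π₀ '' {t : T₀ | HasLift e (π₀ ≫ V₀.ι) t}ᶜ) :=
    π₀.isClosedMap _ (isOpen_hasLift _).isClosed_compl
  let O' : (V₀ : Scheme.{u}).Opens :=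
    ⟨(π₀ '' {t : T₀ | HasLift e (π₀ ≫ V₀.ι) t}ᶜ)ᶜ, hcl.isOpen_compl⟩
  have hsO' : (⟨s, hsV₀⟩ : V₀) ∈ O' := by
    rintro ⟨t, ht, hte⟩
    exact ht (hl₀' t (by rw [hte]; rfl))
  obtain ⟨πW, hπW⟩ : ∃ πW : ((π₀ ⁻¹ᵁ O' : T₀.Opens) : Scheme.{u}) ⟶
      ((V₀.ι ''ᵁ O' : S.Opens) : Scheme.{u}), πW = (π₀ ∣_ O') ≫ (V₀.ι.isoImage O').hom := ⟨_, rfl⟩
  have hπWι : πW ≫ (V₀.ι ''ᵁ O').ι = (π₀ ⁻¹ᵁ O').ι ≫ π₀ ≫ V₀.ι := by
    rw [hπW, Category.assoc, Scheme.Hom.isoImage_hom_ι, ← Category.assoc, morphismRestrict_ι,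
      Category.assoc]
  haveI : Surjective (π₀ ∣_ O') := by
    refine ⟨fun y => ?_⟩
    obtain ⟨t, ht⟩ := π₀.surjective y.1
    refine ⟨⟨t, by change π₀ t ∈ O'; rw [ht]; exact y.2⟩, ?_⟩
    apply Subtype.ext
    rw [morphismRestrict_base_coe]
    exact ht
  refine ⟨V₀.ι ''ᵁ O', (π₀ ⁻¹ᵁ O' : T₀.Opens), πW, ⟨⟨s, hsV₀⟩, hsO', rfl⟩, ?_, ?_, fun w => ?_⟩
  · rw [hπW]
    exact ⟨inferInstance, inferInstance, inferInstance⟩
  · rw [hπW]; infer_instance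
  · -- the point `w` lies in the good locus
    have hwG : HasLift e (π₀ ≫ V₀.ι) ((π₀ ⁻¹ᵁ O').ι w) := by
      by_contra hcon
      exact w.2 ⟨_, hcon, rfl⟩
    obtain ⟨W', h', hwW', hh'⟩ := HasLift.comp (π₀ ⁻¹ᵁ O').ι w hwG
    refine ⟨W', pullback π h', pullback.snd π h', i, pullback.fst π h' ≫ r, hwW',
      ⟨inferInstance, inferInstance, inferInstance⟩, inferInstance, ?_⟩
    rw [Category.assoc, hr, ← Category.assoc, pullback.condition, Category.assoc, hh', hπWι]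

end FppfTower
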