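/-
Helper library (helper9): reducedness of the total space from geometric reducedness of a fibre
(flat, locally of finite type, locally Noetherian base).

* `isReduced_of_flat_of_minimalPrimes`: `A` reduced Noetherian, `B` flat over `A`, `B_Q` reduced for
  all primes `Q` of `B` over minimal primes of `A` ⇒ `B` reduced.
* `stalkFromSpecStalkEquiv`: the local ring of `X` at the image of `q ∈ Spec O_{X,x}` is the
  localization of `O_{X,x}` at `q`.
* `isReduced_stalk_of_GR`: `f` flat locally of finite type over a locally Noetherian base,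
  `O_{Y,f x}` reduced, the fibre through `x` geometrically reduced at `x` ⇒ `O_{X,x}` reduced.
-/
import Mathlib
import Groth.Prelude.Def_FDesc
import Groth.Agent.Lib.Helper9.GRPt5

set_option autoImplicit false
set_option linter.style.haveILetI false
set_option backward.isDefEq.respectTransparency false

namespace Groth.Agent.Lib.helper9.GRPt

open AlgebraicGeometry CategoryTheory Limits IsLocalRing

universe u

open scoped TensorProduct

/-- A reduced ring embeds in the product of its localizations at minimal primes. -/
theorem eq_zero_of_forall_minimalPrimes {A : Type u} [CommRing A] [IsReduced A] (a : A)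
    (h : ∀ (p : Ideal A) (hp : p ∈ minimalPrimes A),
      haveI := hp.1.1
      algebraMap A (Localization.AtPrime p) a = 0) : a = 0 := by
  have hnil : a ∈ nilradical A := by
    have h1 : nilradical A = sInf (minimalPrimes A) := by
      rw [minimalPrimes, Ideal.sInf_minimalPrimes]
      rfl
    rw [h1, Ideal.mem_sInf]
    intro p hp
    haveI := hp.1.1
    obtain ⟨t, ht⟩ := (IsLocalization.map_eq_zero_iff p.primeCompl _ a).mp (h p hp)
    have h3 : (t : A) * a ∈ p := ht ▸ p.zero_mem
    exact (hp.1.1.mem_or_mem h3).resolve_left t.2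
  exact (nilradical_eq_zero A ▸ hnil : a ∈ (0 : Ideal A))

/-- Reducedness of a flat algebra over a reduced Noetherian ring can be tested at the primes over
the minimal primes of the base. -/
theorem isReduced_of_flat_of_minimalPrimes {A B : Type u} [CommRing A] [CommRing B] [Algebra A B]
    [IsNoetherianRing A] [IsReduced A] [Module.Flat A B]
    (h : ∀ (Q : Ideal B) [Q.IsPrime], Q.comap (algebraMap A B) ∈ minimalPrimes A →
      IsReduced (Localization.AtPrime Q)) : IsReduced B := by
  classical
  have hfin : (minimalPrimes A).Finite := minimalPrimes.finite_of_isNoetherianRing A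
  let ι : Type u := {p : Ideal A // p ∈ minimalPrimes A}
  haveI : Finite ι := hfin.to_subtype
  haveI := Fintype.ofFinite ι
  haveI hprime : ∀ p : ι, p.1.IsPrime := fun p ↦ p.2.1.1
  let L : ι → Type u := fun p ↦ Localization.AtPrime p.1
  -- `A → Π L` is injective
  let g : A →ₗ[A] (∀ p : ι, L p) := Algebra.linearMap A (∀ p : ι, L p)
  have hg : Function.Injective g := by
    rw [injective_iff_map_eq_zero]
    intro a ha
    refine eq_zero_of_forall_minimalPrimes a fun p hp ↦ ?_
    exact congrFun ha ⟨p, hp⟩
  have hinj : Function.Injective (g.lTensor B) :=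
    Module.Flat.lTensor_preserves_injective_linearMap g hg
  -- each `B ⊗ L p` is reduced
  have hred : ∀ p : ι, IsReduced (B ⊗[A] L p) := by
    intro p
    haveI : IsLocalization (Algebra.algebraMapSubmonoid B p.1.primeCompl) (B ⊗[A] L p) :=
      IsLocalization.tensor (L p) p.1.primeCompl
    apply isReduced_ofLocalizationMaximal
    intro m hm
    haveI : m.IsPrime := hm.isPrime
    haveI hloc : IsLocalization.AtPrime (Localization.AtPrime m)
        (m.comap (algebraMap B (B ⊗[A] L p))) :=
      IsLocalization.isLocalization_isLocalization_atPrime_isLocalization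
        (Algebra.algebraMapSubmonoid B p.1.primeCompl) (Localization.AtPrime m) m
    set Q := m.comap (algebraMap B (B ⊗[A] L p)) with hQ
    have hQmin : Q.comap (algebraMap A B) ∈ minimalPrimes A := by
      have hle : Q.comap (algebraMap A B) ≤ p.1 := by
        intro a ha
        by_contra hap
        have h1 : algebraMap A B a ∈ Algebra.algebraMapSubmonoid B p.1.primeCompl :=
          Algebra.mem_algebraMapSubmonoid_of_mem (⟨a, hap⟩ : p.1.primeCompl)
        have h2 : IsUnit (algebraMap B (B ⊗[A] L p) (algebraMap A B a)) :=
          IsLocalization.map_units (B ⊗[A] L p) ⟨_, h1⟩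
        have h3 : algebraMap B (B ⊗[A] L p) (algebraMap A B a) ∈ m := ha
        exact hm.ne_top (Ideal.eq_top_of_isUnit_mem _ h3 h2)
      have heq : Q.comap (algebraMap A B) = p.1 :=
        le_antisymm hle (p.2.2 ⟨inferInstance, bot_le⟩ hle)
      rw [heq]
      exact p.2
    haveI := h Q hQmin
    let e : Localization.AtPrime Q ≃ₐ[B] Localization.AtPrime m :=
      IsLocalization.algEquiv Q.primeCompl _ _
    exact isReduced_of_injective e.symm e.symm.injective
  haveI : IsReduced (B ⊗[A] (∀ p : ι, L p)) := by
    have e := Algebra.TensorProduct.piRight A A B L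
    haveI : ∀ p : ι, IsReduced (B ⊗[A] L p) := hred
    exact isReduced_of_injective e e.injective
  -- `B → B ⊗ Π L`
  let incl : B →ₐ[A] B ⊗[A] (∀ p : ι, L p) := Algebra.TensorProduct.includeLeft
  refine isReduced_of_injective incl ?_
  intro b b' hbb'
  have h1 : g.lTensor B (b ⊗ₜ[A] (1 : A)) = g.lTensor B (b' ⊗ₜ[A] (1 : A)) := by
    simp only [LinearMap.lTensor_tmul]
    have : g 1 = 1 := by simp [g]
    rw [this]
    exact hbb'
  have h2 := hinj h1
  have h3 := congrArg (TensorProduct.rid A B) h2
  simpa using h3

/-- The local ring of `X` at the image of a point `q` of `Spec O_{X,x}`. -/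
theorem nonempty_stalk_fromSpecStalk_equiv (X : Scheme.{u}) (x : X)
    (q : Spec (X.presheaf.stalk x)) :
    Nonempty (X.presheaf.stalk ((X.fromSpecStalk x) q) ≃+* Localization.AtPrime q.asIdeal) := by
  haveI : Flat (X.fromSpecStalk x) := Groth.Agent.Lib.helper3.StalkBC.flat_fromSpecStalk X x
  have hbij := stalkMap_bijective_of_flat_of_surjectiveOnStalks (X.fromSpecStalk x) q
  let e1 := RingEquiv.ofBijective ((X.fromSpecStalk x).stalkMap q).hom hbij
  letI : Algebra (X.presheaf.stalk x) ((Spec (X.presheaf.stalk x)).presheaf.stalk q) :=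
    StructureSheaf.stalkAlgebra (X.presheaf.stalk x) q
  haveI : IsLocalization.AtPrime ((Spec (X.presheaf.stalk x)).presheaf.stalk q) q.asIdeal :=
    StructureSheaf.IsLocalization.to_stalk (X.presheaf.stalk x) q
  let e2 : Localization.AtPrime q.asIdeal ≃ₐ[X.presheaf.stalk x]
      (Spec (X.presheaf.stalk x)).presheaf.stalk q :=
    IsLocalization.algEquiv q.asIdeal.primeCompl _ _
  exact ⟨e1.trans e2.symm.toRingEquiv⟩

/-- The localization of a reduced ring at a minimal prime is a field. -/
theorem isField_localization_of_mem_minimalPrimes {A : Type u} [CommRing A] [IsReduced A]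
    (p : Ideal A) [p.IsPrime] (hp : p ∈ minimalPrimes A) : IsField (Localization.AtPrime p) := by
  haveI : IsReduced (Localization.AtPrime p) :=
    isReduced_of_isLocalization p.primeCompl (Localization.AtPrime p)
  have h1 := IsLocalization.AtPrime.radical_map_of_mem_minimalPrimes
    (A := Localization.AtPrime p) p ⊥ hp
  rw [Ideal.map_bot, IsLocalization.AtPrime.map_eq_maximalIdeal p (Localization.AtPrime p)] at h1
  have h2 : (⊥ : Ideal (Localization.AtPrime p)).radical = ⊥ := by
    have : nilradical (Localization.AtPrime p) = (0 : Ideal _) := nilradical_eq_zero _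
    exact this
  rw [h2] at h1
  exact isField_of_maximalIdeal_eq_bot h1.symm

/-- Transport of `IsField` of a local ring along an equality of points. -/
theorem isField_stalk_congr {X : Scheme.{u}} {x x' : X} (h : x = x')
    (hx : IsField (X.presheaf.stalk x)) : IsField (X.presheaf.stalk x') := by
  subst h
  exact hx

/-- **Reducedness of the total space.** -/
theorem isReduced_stalk_of_GR {X Y : Scheme.{u}} (f : X ⟶ Y) [Flat f] [LocallyOfFiniteType f]
    [IsLocallyNoetherian Y] (x : X) (hy : IsReduced (Y.presheaf.stalk (f x))) (hx : GR f x) :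
    IsReduced (X.presheaf.stalk x) := by
  letI : Algebra (Y.presheaf.stalk (f x)) (X.presheaf.stalk x) := (f.stalkMap x).hom.toAlgebra
  haveI : Module.Flat (Y.presheaf.stalk (f x)) (X.presheaf.stalk x) := Flat.stalkMap f x
  refine isReduced_of_flat_of_minimalPrimes (A := Y.presheaf.stalk (f x)) fun Q _ hQ ↦ ?_
  let q : Spec (X.presheaf.stalk x) := ⟨Q, inferInstance⟩
  let p : Spec (Y.presheaf.stalk (f x)) :=
    ⟨Q.comap (algebraMap (Y.presheaf.stalk (f x)) (X.presheaf.stalk x)), inferInstance⟩
  set x' := (X.fromSpecStalk x) q with hx'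
  have hsp : x' ⤳ x := by
    have : x' ∈ Set.range (X.fromSpecStalk x) := ⟨q, rfl⟩
    rw [Scheme.range_fromSpecStalk] at this
    exact this
  have hGR' : GR f x' := GR_of_specializes f hsp hx
  have hfx' : f x' = (Y.fromSpecStalk (f x)) p := by
    rw [hx', ← Scheme.Hom.comp_apply, ← Scheme.SpecMap_stalkMap_fromSpecStalk f (x := x),
      Scheme.Hom.comp_apply]
    rfl
  have hfield : IsField (Y.presheaf.stalk (f x')) := by
    obtain ⟨e⟩ := nonempty_stalk_fromSpecStalk_equiv Y (f x) p
    have h1 : IsField (Localization.AtPrime p.asIdeal) :=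
      isField_localization_of_mem_minimalPrimes p.asIdeal hQ
    exact isField_stalk_congr hfx'.symm (e.toMulEquiv.isField h1)
  have hred := isReduced_stalk_of_isField f x' hfield hGR'
  obtain ⟨e⟩ := nonempty_stalk_fromSpecStalk_equiv X x q
  exact isReduced_of_injective e.symm e.symm.injective

end Groth.Agent.Lib.helper9.GRPt
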