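/-
Helper library (helper9): reducedness of the total space from geometric reducedness of a fibre,
over an arbitrary reduced base, for a base change `A ⊗[A₀] B₀` of a flat algebra of finite type
over a Noetherian ring `A₀` (approximation by finitely generated subalgebras).
-/
import Mathlib
import Groth.Prelude.Def_FDesc
import Groth.Agent.Lib.Helper9.GRPt6
import Groth.Agent.Lib.Helper9.GRPt7

set_option autoImplicit false
set_option linter.style.haveILetI false
set_option backward.isDefEq.respectTransparency false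

namespace Groth.Agent.Lib.helper9.GRPt

open AlgebraicGeometry CategoryTheory Limits IsLocalRing

universe u

open scoped TensorProduct

section Stage

variable {A₀ A B₀ : Type u} [CommRing A₀] [CommRing A] [CommRing B₀] [Algebra A₀ A]
  [Algebra A₀ B₀]

/-- The map `A₁ ⊗ B₀ → A ⊗ B₀` for a subalgebra `A₁ ⊆ A`. -/
noncomputable def stage (A₁ : Subalgebra A₀ A) : A₁ ⊗[A₀] B₀ →ₐ[A₀] A ⊗[A₀] B₀ :=
  Algebra.TensorProduct.map A₁.val (AlgHom.id A₀ B₀)

theorem stage_tmul (A₁ : Subalgebra A₀ A) (a : A₁) (b : B₀) :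
    stage (B₀ := B₀) A₁ (a ⊗ₜ b) = (a : A) ⊗ₜ b := rfl

theorem stage_injective [Module.Flat A₀ B₀] (A₁ : Subalgebra A₀ A) :
    Function.Injective (stage (B₀ := B₀) A₁) := by
  have h := Module.Flat.rTensor_preserves_injective_linearMap (M := B₀) A₁.val.toLinearMap
    Subtype.val_injective
  exact h

theorem range_stage_mono {A₁ A₂ : Subalgebra A₀ A} (h : A₁ ≤ A₂) :
    Set.range (stage (B₀ := B₀) A₁) ⊆ Set.range (stage (B₀ := B₀) A₂) := by
  rintro _ ⟨x, rfl⟩
  refine ⟨Algebra.TensorProduct.map (Subalgebra.inclusion h) (AlgHom.id A₀ B₀) x, ?_⟩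
  induction x using TensorProduct.induction_on with
  | zero => simp
  | tmul a b => rfl
  | add x y hx hy => rw [map_add, map_add, hx, hy, map_add]

theorem exists_fg_mem_range_stage (t : A ⊗[A₀] B₀) :
    ∃ A₁ : Subalgebra A₀ A, A₁.FG ∧ t ∈ Set.range (stage (B₀ := B₀) A₁) := by
  induction t using TensorProduct.induction_on with
  | zero => exact ⟨⊥, Subalgebra.fg_bot, 0, map_zero _⟩
  | tmul a b =>
    refine ⟨Algebra.adjoin A₀ {a}, Subalgebra.fg_adjoin_finset {a} |> fun h ↦ by simpa using h,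
      (⟨a, Algebra.subset_adjoin (Set.mem_singleton a)⟩ : Algebra.adjoin A₀ {a}) ⊗ₜ b, rfl⟩
  | add x y hx hy =>
    obtain ⟨A₁, h1, x', rfl⟩ := hx
    obtain ⟨A₂, h2, y', rfl⟩ := hy
    refine ⟨A₁ ⊔ A₂, h1.sup h2, ?_⟩
    obtain ⟨x'', hx''⟩ := range_stage_mono (B₀ := B₀) (le_sup_left : A₁ ≤ A₁ ⊔ A₂) ⟨x', rfl⟩
    obtain ⟨y'', hy''⟩ := range_stage_mono (B₀ := B₀) (le_sup_right : A₂ ≤ A₁ ⊔ A₂) ⟨y', rfl⟩
    exact ⟨x'' + y'', by rw [map_add, hx'', hy'']⟩

end Stage

/-- Reducedness of a localization at a prime in terms of elements. -/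
theorem isReduced_of_forall_exists_mul_eq_zero {T : Type u} [CommRing T] (q : Ideal T) [q.IsPrime]
    (S : Type u) [CommRing S] [Algebra T S] [IsLocalization.AtPrime S q]
    (h : ∀ (b t : T) (n : ℕ), t ∉ q → t * b ^ n = 0 → ∃ u : T, u ∉ q ∧ u * b = 0) :
    IsReduced S := by
  refine ⟨fun x hx ↦ ?_⟩
  obtain ⟨b, s, rfl⟩ := IsLocalization.exists_mk'_eq q.primeCompl x
  obtain ⟨n, hn⟩ := hx
  rw [← IsLocalization.mk'_pow, IsLocalization.mk'_eq_zero_iff] at hn
  obtain ⟨t, ht⟩ := hn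
  obtain ⟨u, hu, hub⟩ := h b t n t.2 ht
  rw [IsLocalization.mk'_eq_zero_iff]
  exact ⟨⟨u, hu⟩, hub⟩

/-- Elementwise consequence of reducedness of a localization at a prime. -/
theorem exists_mul_eq_zero_of_isReduced {B : Type u} [CommRing B] (q : Ideal B) [q.IsPrime]
    (S : Type u) [CommRing S] [Algebra B S] [IsLocalization.AtPrime S q] [IsReduced S]
    (b t : B) (n : ℕ) (ht : t ∉ q) (hb : t * b ^ n = 0) : ∃ u : B, u ∉ q ∧ u * b = 0 := by
  have hunit : IsUnit (algebraMap B S t) :=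
    IsLocalization.map_units S (⟨t, ht⟩ : q.primeCompl)
  have h1 : algebraMap B S t * (algebraMap B S b) ^ n = 0 := by
    rw [← map_pow, ← map_mul, hb, map_zero]
  have h2 : (algebraMap B S b) ^ n = 0 := (hunit.mul_right_eq_zero).mp h1
  have h3 : algebraMap B S b = 0 := IsNilpotent.eq_zero ⟨n, h2⟩
  obtain ⟨u, hu⟩ := (IsLocalization.map_eq_zero_iff q.primeCompl S b).mp h3
  exact ⟨u.1, u.2, hu⟩

/-- Elementwise consequence of reducedness of the local ring of `Spec B` at a point. -/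
theorem exists_mul_eq_zero_of_isReduced_stalk {B : Type u} [CommRing B]
    (x : Spec (CommRingCat.of B))
    (hred : IsReduced ((Spec (CommRingCat.of B)).presheaf.stalk x)) (b t : B) (n : ℕ)
    (ht : t ∉ x.asIdeal) (hb : t * b ^ n = 0) : ∃ u : B, u ∉ x.asIdeal ∧ u * b = 0 := by
  letI : Algebra B ((Spec (CommRingCat.of B)).presheaf.stalk x) := StructureSheaf.stalkAlgebra B x
  haveI : IsLocalization.AtPrime ((Spec (CommRingCat.of B)).presheaf.stalk x) x.asIdeal :=
    StructureSheaf.IsLocalization.to_stalk B x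
  exact exists_mul_eq_zero_of_isReduced x.asIdeal
    ((Spec (CommRingCat.of B)).presheaf.stalk x) b t n ht hb

end Groth.Agent.Lib.helper9.GRPt
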