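/-
Helper library (helper9): reducedness of the total space from geometric reducedness of a fibre,
over an arbitrary reduced affine base (approximation by finitely generated subalgebras).
-/
import Mathlib
import Groth.Prelude.Def_FDesc
import Groth.Agent.Lib.Helper9.GRPt8
import Groth.Agent.Lib.Helper3.FlatDescP

set_option autoImplicit false
set_option linter.style.haveILetI false
set_option backward.isDefEq.respectTransparency false

namespace Groth.Agent.Lib.helper9.GRPt

open AlgebraicGeometry CategoryTheory Limits IsLocalRing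

universe u

open scoped TensorProduct

/-- The cartesian square of a stage. -/
theorem isPullback_stage {A₀ A B₀ : Type u} [CommRing A₀] [CommRing A] [CommRing B₀]
    [Algebra A₀ A] [Algebra A₀ B₀] (A₁ : Subalgebra A₀ A) :
    IsPullback (Spec.map (CommRingCat.ofHom (stage (B₀ := B₀) A₁).toRingHom))
      (Spec.map (CommRingCat.ofHom (algebraMap A (A ⊗[A₀] B₀))))
      (Spec.map (CommRingCat.ofHom (algebraMap A₁ (A₁ ⊗[A₀] B₀))))
      (Spec.map (CommRingCat.ofHom (algebraMap A₁ A))) := by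
  have hS1 := isPullback_SpecMap_of_isPushout _ _ _ _
    (CommRingCat.isPushout_tensorProduct A₀ A₁ B₀)
  have hS0 := isPullback_SpecMap_of_isPushout _ _ _ _
    (CommRingCat.isPushout_tensorProduct A₀ A B₀)
  have e1 : Spec.map (CommRingCat.ofHom (stage (B₀ := B₀) A₁).toRingHom) ≫
      Spec.map (CommRingCat.ofHom (Algebra.TensorProduct.includeRight :
        B₀ →ₐ[A₀] A₁ ⊗[A₀] B₀).toRingHom) =
      Spec.map (CommRingCat.ofHom (Algebra.TensorProduct.includeRight :
        B₀ →ₐ[A₀] A ⊗[A₀] B₀).toRingHom) := by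
    rw [← Spec.map_comp, ← CommRingCat.ofHom_comp]
    congr 2
  have e2 : Spec.map (CommRingCat.ofHom (algebraMap A₁ A)) ≫
      Spec.map (CommRingCat.ofHom (algebraMap A₀ A₁)) =
      Spec.map (CommRingCat.ofHom (algebraMap A₀ A)) := by
    rw [← Spec.map_comp, ← CommRingCat.ofHom_comp]
    congr 2
  have e3 : Spec.map (CommRingCat.ofHom (algebraMap A (A ⊗[A₀] B₀))) ≫
      Spec.map (CommRingCat.ofHom (algebraMap A₁ A)) =
      Spec.map (CommRingCat.ofHom (stage (B₀ := B₀) A₁).toRingHom) ≫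
      Spec.map (CommRingCat.ofHom (algebraMap A₁ (A₁ ⊗[A₀] B₀))) := by
    rw [← Spec.map_comp, ← Spec.map_comp, ← CommRingCat.ofHom_comp, ← CommRingCat.ofHom_comp]
    congr 2
  have hbig : IsPullback (Spec.map (CommRingCat.ofHom (algebraMap A (A ⊗[A₀] B₀))))
      (Spec.map (CommRingCat.ofHom (stage (B₀ := B₀) A₁).toRingHom) ≫
        Spec.map (CommRingCat.ofHom (Algebra.TensorProduct.includeRight :
          B₀ →ₐ[A₀] A₁ ⊗[A₀] B₀).toRingHom))
      (Spec.map (CommRingCat.ofHom (algebraMap A₁ A)) ≫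
        Spec.map (CommRingCat.ofHom (algebraMap A₀ A₁)))
      (Spec.map (CommRingCat.ofHom (algebraMap A₀ B₀))) := by
    rw [e1, e2]
    exact hS0
  exact (IsPullback.of_bot hbig e3 hS1).flip

/-- **Reducedness over a reduced base, tensor form.** -/
theorem isReduced_stalk_tensor_of_GR {A₀ A B₀ : Type u} [CommRing A₀] [CommRing A] [CommRing B₀]
    [Algebra A₀ A] [Algebra A₀ B₀] [IsNoetherianRing A₀] [IsReduced A] [Module.Flat A₀ B₀]
    [Algebra.FiniteType A₀ B₀] (q : Spec (CommRingCat.of (A ⊗[A₀] B₀)))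
    (hGR : GR (Spec.map (CommRingCat.ofHom (algebraMap A (A ⊗[A₀] B₀)))) q) :
    IsReduced ((Spec (CommRingCat.of (A ⊗[A₀] B₀))).presheaf.stalk q) := by
  letI : Algebra (A ⊗[A₀] B₀) ((Spec (CommRingCat.of (A ⊗[A₀] B₀))).presheaf.stalk q) :=
    StructureSheaf.stalkAlgebra (A ⊗[A₀] B₀) q
  haveI : IsLocalization.AtPrime ((Spec (CommRingCat.of (A ⊗[A₀] B₀))).presheaf.stalk q)
      q.asIdeal := StructureSheaf.IsLocalization.to_stalk (A ⊗[A₀] B₀) q
  refine isReduced_of_forall_exists_mul_eq_zero q.asIdeal _ ?_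
  intro b t n ht hb
  -- a common stage
  obtain ⟨A₁', h1, hb1⟩ := exists_fg_mem_range_stage (B₀ := B₀) b
  obtain ⟨A₂', h2, ht2⟩ := exists_fg_mem_range_stage (B₀ := B₀) t
  let A₁ : Subalgebra A₀ A := A₁' ⊔ A₂'
  have hfg : A₁.FG := h1.sup h2
  obtain ⟨b₁, hb₁⟩ := range_stage_mono (B₀ := B₀) (le_sup_left : A₁' ≤ A₁) hb1
  obtain ⟨t₁, ht₁⟩ := range_stage_mono (B₀ := B₀) (le_sup_right : A₂' ≤ A₁) ht2
  have hzero : t₁ * b₁ ^ n = 0 := by
    apply stage_injective (B₀ := B₀) A₁
    rw [map_mul, map_pow, hb₁, ht₁, hb, map_zero]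
  -- the stage morphism
  let s₁ := Spec.map (CommRingCat.ofHom (stage (B₀ := B₀) A₁).toRingHom)
  let f₁ := Spec.map (CommRingCat.ofHom (algebraMap A₁ (A₁ ⊗[A₀] B₀)))
  have hsq := isPullback_stage (B₀ := B₀) A₁
  have hGR₁ : GR f₁ (s₁ q) := (GR_iff_of_isPullback hsq q).mp hGR
  haveI : Algebra.FiniteType A₀ A₁ := (Subalgebra.fg_iff_finiteType A₁).mp hfg
  haveI : IsNoetherianRing A₁ := Algebra.FiniteType.isNoetherianRing A₀ A₁
  haveI : IsReduced A₁ := isReduced_of_injective A₁.val Subtype.val_injective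
  haveI : Flat f₁ := by
    rw [HasRingHomProperty.Spec_iff (P := @Flat)]
    exact RingHom.flat_algebraMap_iff.mpr inferInstance
  haveI : LocallyOfFiniteType f₁ := by
    rw [HasRingHomProperty.Spec_iff (P := @LocallyOfFiniteType)]
    exact RingHom.finiteType_algebraMap.mpr inferInstance
  have hred₁ : IsReduced ((Spec (CommRingCat.of (A₁ ⊗[A₀] B₀))).presheaf.stalk (s₁ q)) :=
    isReduced_stalk_of_GR f₁ (s₁ q) inferInstance hGR₁
  have ht₁q : t₁ ∉ (s₁ q).asIdeal := by
    show ¬ (stage (B₀ := B₀) A₁ t₁ ∈ q.asIdeal)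
    rw [ht₁]
    exact ht
  obtain ⟨u₁, hu₁, hub₁⟩ := exists_mul_eq_zero_of_isReduced_stalk (s₁ q) hred₁ b₁ t₁ n ht₁q hzero
  refine ⟨stage (B₀ := B₀) A₁ u₁, hu₁, ?_⟩
  rw [← hb₁, ← map_mul, hub₁, map_zero]

/-- **Reducedness over a reduced affine base.** -/
theorem isReduced_stalk_spec_of_GR {A B : Type u} [CommRing A] [CommRing B] [IsReduced A]
    (ρ : A →+* B) (hflat : ρ.Flat) (hfp : ρ.FinitePresentation) (q : Spec (CommRingCat.of B))
    (hGR : GR (Spec.map (CommRingCat.ofHom ρ)) q) :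
    IsReduced ((Spec (CommRingCat.of B)).presheaf.stalk q) := by
  letI : Algebra A B := ρ.toAlgebra
  haveI : Module.Flat A B := hflat
  haveI : Algebra.FinitePresentation A B := hfp
  obtain ⟨A₀, _, _, hft, -, -, B₀, _, _, hfp₀, hfl₀, ⟨e⟩⟩ :=
    Groth.Agent.Lib.helper3.FlatDesc.exists_fg_model_flat (A := A) (B := B) ∅
  haveI : IsNoetherianRing A₀ := Algebra.FiniteType.isNoetherianRing ℤ A₀
  haveI : Algebra.FiniteType A₀ B₀ := inferInstance
  let j : Spec (CommRingCat.of B) ⟶ Spec (CommRingCat.of (A ⊗[A₀] B₀)) :=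
    Spec.map e.toRingEquiv.toCommRingCatIso.hom
  haveI : IsIso j := inferInstance
  have hj : j ≫ Spec.map (CommRingCat.ofHom (algebraMap A (A ⊗[A₀] B₀))) =
      Spec.map (CommRingCat.ofHom ρ) := by
    rw [← Spec.map_comp]
    congr 1
    ext a
    exact e.commutes a
  rw [← hj] at hGR
  have h1 : GR (Spec.map (CommRingCat.ofHom (algebraMap A (A ⊗[A₀] B₀)))) (j q) :=
    (GR_comp_etale_iff j _ q).mp hGR
  have h2 := isReduced_stalk_tensor_of_GR (j q) h1
  have hbij : Function.Bijective (j.stalkMap q).hom :=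
    ConcreteCategory.bijective_of_isIso (j.stalkMap q)
  let e' := RingEquiv.ofBijective (j.stalkMap q).hom hbij
  exact isReduced_of_injective e'.symm e'.symm.injective

end Groth.Agent.Lib.helper9.GRPt
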