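/-
Helper library (helper9): for `f` flat and locally of finite presentation, if `O_{Y,f x}` is reduced
and the fibre through `x` is geometrically reduced at `x`, then `O_{X,x}` is reduced (`S2567`).
-/
import Mathlib
import Groth.Prelude.Def_FDesc
import Groth.Agent.Lib.Helper9.GRPt9
import Groth.Agent.Lib.Helper3.StalkBC2

set_option autoImplicit false
set_option linter.style.haveILetI false
set_option backward.isDefEq.respectTransparency false

namespace Groth.Agent.Lib.helper9.GRPt

open AlgebraicGeometry CategoryTheory Limits IsLocalRing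

universe u

/-- **Reducedness of the total space at a point** (general base). -/
theorem isReduced_stalk_of_GR_of_lfp {X Y : Scheme.{u}} (f : X ⟶ Y) [Flat f]
    [LocallyOfFinitePresentation f] (x : X) (hy : IsReduced (Y.presheaf.stalk (f x)))
    (hx : GR f x) : IsReduced (X.presheaf.stalk x) := by
  -- base change to the local ring of `Y` at `f x`
  obtain ⟨z, hz1, -⟩ := Groth.Agent.Lib.helper3.StalkBC2.exists_point_over_closedPoint f (f x) x rfl
  have hsq : IsPullback (pullback.snd (Y.fromSpecStalk (f x)) f)
      (pullback.fst (Y.fromSpecStalk (f x)) f) f (Y.fromSpecStalk (f x)) :=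
    (IsPullback.of_hasPullback _ _).flip
  have hGRz : GR (pullback.fst (Y.fromSpecStalk (f x)) f) z := by
    refine (GR_iff_of_isPullback hsq z).mpr ?_
    rw [hz1]
    exact hx
  suffices hW : IsReduced ((pullback (Y.fromSpecStalk (f x)) f).presheaf.stalk z) by
    let e := Groth.Agent.Lib.helper3.StalkBC2.stalkEquiv f (f x) z
    have h1 : IsReduced (X.presheaf.stalk ((pullback.snd (Y.fromSpecStalk (f x)) f) z)) :=
      isReduced_of_injective e e.injective
    exact isReduced_stalk_congr hz1 h1
  -- an affine open neighbourhood of `z`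
  let W : Scheme.{u} := pullback (Y.fromSpecStalk (f x)) f
  let fst : W ⟶ Spec (Y.presheaf.stalk (f x)) := pullback.fst (Y.fromSpecStalk (f x)) f
  obtain ⟨_, ⟨U, hU : IsAffineOpen U, rfl⟩, hzU, -⟩ :=
    W.isBasis_affineOpens.exists_subset_of_mem_open (Set.mem_univ z) isOpen_univ
  let ρ' : Y.presheaf.stalk (f x) ⟶ Γ(W, U) :=
    (Scheme.ΓSpecIso (Y.presheaf.stalk (f x))).inv ≫ fst.appLE ⊤ U le_top
  have hρ' : hU.fromSpec ≫ fst = Spec.map ρ' := by
    rw [Spec.map_comp, ← Scheme.isoSpec_Spec_inv, ← IsAffineOpen.fromSpec_top]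
    exact (IsAffineOpen.SpecMap_appLE_fromSpec fst (isAffineOpen_top _) hU le_top).symm
  haveI : Flat fst := MorphismProperty.pullback_fst (P := @Flat) _ _ inferInstance
  haveI : LocallyOfFinitePresentation fst :=
    MorphismProperty.pullback_fst (P := @LocallyOfFinitePresentation) _ _ inferInstance
  have hflat : Flat (Spec.map ρ') := by
    rw [← hρ']
    infer_instance
  have hlfp : LocallyOfFinitePresentation (Spec.map ρ') := by
    rw [← hρ']
    infer_instance
  let q' := hU.primeIdealOf ⟨z, hzU⟩
  have hq' : hU.fromSpec q' = z := hU.fromSpec_primeIdealOf ⟨z, hzU⟩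
  have hGRq : GR (Spec.map (CommRingCat.ofHom ρ'.hom)) q' := by
    show GR (Spec.map ρ') q'
    rw [← hρ']
    refine (GR_comp_etale_iff hU.fromSpec fst q').mpr ?_
    rw [hq']
    exact hGRz
  haveI : IsReduced (Y.presheaf.stalk (f x)) := hy
  have hred := isReduced_stalk_spec_of_GR ρ'.hom
    ((HasRingHomProperty.Spec_iff (P := @Flat)).mp hflat)
    ((HasRingHomProperty.Spec_iff (P := @LocallyOfFinitePresentation)).mp hlfp) q' hGRq
  have hbij : Function.Bijective (hU.fromSpec.stalkMap q').hom :=
    ConcreteCategory.bijective_of_isIso (hU.fromSpec.stalkMap q')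
  let e' := RingEquiv.ofBijective (hU.fromSpec.stalkMap q').hom hbij
  have h2 : IsReduced (W.presheaf.stalk (hU.fromSpec q')) :=
    isReduced_of_injective e' e'.injective
  exact isReduced_stalk_congr hq' h2

end Groth.Agent.Lib.helper9.GRPt
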