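/-
Helper library (helper9): openness of the locus where a morphism locally of finite presentation is
flat with geometrically reduced fibre (`S4963`).
-/
import Mathlib
import Groth.Prelude.Def_FDesc
import Groth.Agent.Lib.Helper9.GRPt12

set_option autoImplicit false
set_option linter.style.haveILetI false
set_option backward.isDefEq.respectTransparency false

namespace Groth.Agent.Lib.helper9.GRPt

open AlgebraicGeometry CategoryTheory Limits TopologicalSpace

universe u

/-- Flatness of the stalk map is insensitive to restriction to an open subscheme. -/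
theorem flat_stalkMap_ι_comp {X Y : Scheme.{u}} (f : X ⟶ Y) (U : X.Opens) (u : U)
    (h : (f.stalkMap (U.ι u)).hom.Flat) : ((U.ι ≫ f).stalkMap u).hom.Flat := by
  rw [Scheme.Hom.stalkMap_comp, CommRingCat.hom_comp]
  refine RingHom.Flat.comp h ?_
  exact RingHom.Flat.of_bijective (ConcreteCategory.bijective_of_isIso (U.ι.stalkMap u))

/-- **Openness of the locus where `f` is flat with geometrically reduced fibre** (`S4963`). -/
theorem isOpen_setOf_flat_and_GR {X Y : Scheme.{u}} (f : X ⟶ Y)
    [LocallyOfFinitePresentation f] :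
    IsOpen {x : X | (f.stalkMap x).hom.Flat ∧ GR f x} := by
  have hfl := Groth.Agent.Lib.helper3.FlatDesc.isOpen_flatLocus_of_locallyOfFinitePresentation f
  let U : X.Opens := ⟨{x : X | (f.stalkMap x).hom.Flat}, hfl⟩
  haveI : Flat (U.ι ≫ f) := by
    rw [Flat.iff_flat_stalkMap]
    intro u
    exact flat_stalkMap_ι_comp f U u u.2
  have hopen := isOpen_setOf_GR (U.ι ≫ f)
  have heq : {x : X | (f.stalkMap x).hom.Flat ∧ GR f x} =
      U.ι '' {u : U | GR (U.ι ≫ f) u} := by
    ext x
    constructor
    · rintro ⟨h1, h2⟩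
      refine ⟨⟨x, h1⟩, ?_, rfl⟩
      exact (GR_comp_etale_iff U.ι f ⟨x, h1⟩).mpr h2
    · rintro ⟨u, hu, rfl⟩
      exact ⟨u.2, (GR_comp_etale_iff U.ι f u).mp hu⟩
  rw [heq]
  exact U.ι.isOpenEmbedding.isOpenMap _ hopen

end Groth.Agent.Lib.helper9.GRPt
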