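import Mathlib
import Groth.Agent.Lib.Helper13.EL4

/-!
# helper9: a finite étale algebra with irreducible spectrum realizing a finite separable extension
of the "generic residue field" (ring level)

`A` is a ring with an algebra `A → K` to a field such that every element of `K` is a quotient of
images (so `K` is the fraction field of `A / ker`) and the kernel consists of nilpotents (so
`Spec A` is irreducible with generic residue field `K`).  For a finite separable `k'/K`:

* `exists_lift_minpoly`: a primitive element `β` whose minimal polynomial lifts to a monic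
  polynomial over `A`;
* `exists_separable_witness`, `separable_map_of_witness`: after inverting one element `h ∉ ker`
  the lift is separable;
* for a monic separable `m₁` over `A₁`: `etale_adjoinRoot`, `ker_le_of_isPrime`.
-/

set_option autoImplicit false
universe u

namespace Groth.Agent.Lib.helper9.GenFibEt

open Polynomial IntermediateField Groth.Agent.Lib.helper13.EL

section Lift

variable {A : Type*} {K k' : Type*} [CommRing A] [Field K] [Field k'] [Algebra A K] [Algebra K k']

theorem exists_lift_minpoly
    (hK : ∀ y : K, ∃ a b : A, algebraMap A K b ≠ 0 ∧ y * algebraMap A K b = algebraMap A K a)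
    [FiniteDimensional K k'] [Algebra.IsSeparable K k'] :
    ∃ (β : k') (m : A[X]), K⟮β⟯ = ⊤ ∧ m.Monic ∧ m.map (algebraMap A K) = minpoly K β := by
  obtain ⟨α, hα⟩ := Field.exists_primitive_element K k'
  have hαint : IsIntegral K α := Algebra.IsIntegral.isIntegral α
  obtain ⟨d, hd, Hd⟩ := exists_common_denominator hK (minpoly K α)
  set dK := algebraMap A K d with hdK
  set β : k' := dK • α with hβ
  have hβint : IsIntegral K β := Algebra.IsIntegral.isIntegral β
  have hmin : minpoly K β = (minpoly K α).scaleRoots dK :=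
    IsIntegrallyClosed.minpoly_smul hd hαint
  have hβtop : K⟮β⟯ = ⊤ := by
    rw [eq_top_iff, ← hα, adjoin_simple_le_iff]
    have : α = dK⁻¹ • β := by rw [hβ, smul_smul, inv_mul_cancel₀ hd, one_smul]
    rw [this]
    exact (K⟮β⟯).smul_mem (mem_adjoin_simple_self K β)
  have hlift : minpoly K β ∈ lifts (algebraMap A K) := by
    rw [lifts_iff_coeff_lifts]
    intro i
    rw [hmin, coeff_scaleRoots]
    rcases lt_trichotomy i (minpoly K α).natDegree with hi | hi | hi
    · obtain ⟨a, ha⟩ := Hd i
      obtain ⟨j, hj⟩ : ∃ j, (minpoly K α).natDegree - i = j + 1 :=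
        ⟨(minpoly K α).natDegree - i - 1, by omega⟩
      refine ⟨a * d ^ j, ?_⟩
      rw [hj, pow_succ, map_mul, map_pow, ← ha]
      ring
    · refine ⟨1, ?_⟩
      rw [hi, Nat.sub_self, pow_zero, mul_one, map_one]
      exact ((minpoly.monic hαint).coeff_natDegree).symm
    · refine ⟨0, ?_⟩
      rw [coeff_eq_zero_of_natDegree_lt hi, zero_mul, map_zero]
  obtain ⟨m, hm, -, hmonic⟩ := lifts_and_degree_eq_and_monic hlift (minpoly.monic hβint)
  exact ⟨β, m, hβtop, hmonic, hm⟩

/-- every polynomial over `K` has a multiple by a nonzero constant that lifts to `A` -/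
theorem exists_lift_mul
    (hK : ∀ y : K, ∃ a b : A, algebraMap A K b ≠ 0 ∧ y * algebraMap A K b = algebraMap A K a)
    (q : K[X]) :
    ∃ (d : A) (q₁ : A[X]), algebraMap A K d ≠ 0 ∧
      q₁.map (algebraMap A K) = C (algebraMap A K d) * q := by
  obtain ⟨d, hd, Hd⟩ := exists_common_denominator hK q
  have hlift : C (algebraMap A K d) * q ∈ lifts (algebraMap A K) := by
    rw [lifts_iff_coeff_lifts]
    intro i
    rw [coeff_C_mul]
    obtain ⟨a, ha⟩ := Hd i
    exact ⟨a, ha.symm⟩
  obtain ⟨q₁, hq₁⟩ := (mem_lifts _).mp hlift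
  exact ⟨d, q₁, hd, hq₁⟩

theorem exists_separable_witness
    (hK : ∀ y : K, ∃ a b : A, algebraMap A K b ≠ 0 ∧ y * algebraMap A K b = algebraMap A K a)
    (m : A[X]) (hsep : (m.map (algebraMap A K)).Separable) :
    ∃ (h : A) (a b : A[X]), algebraMap A K h ≠ 0 ∧
      (a * m + b * derivative m - C h).map (algebraMap A K) = 0 := by
  obtain ⟨a', b', hab⟩ := hsep
  obtain ⟨d₁, a₁, hd₁, ha₁⟩ := exists_lift_mul hK a'
  obtain ⟨d₂, b₁, hd₂, hb₁⟩ := exists_lift_mul hK b'
  refine ⟨d₁ * d₂, C d₂ * a₁, C d₁ * b₁, ?_, ?_⟩
  · rw [map_mul]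
    exact mul_ne_zero hd₁ hd₂
  · rw [Polynomial.map_sub, Polynomial.map_add, Polynomial.map_mul, Polynomial.map_mul,
      Polynomial.map_mul, Polynomial.map_mul, ha₁, hb₁, Polynomial.map_C, Polynomial.map_C,
      Polynomial.map_C, ← derivative_map, map_mul, C_mul]
    have : C (algebraMap A K d₂) * (C (algebraMap A K d₁) * a') * map (algebraMap A K) m +
        C (algebraMap A K d₁) * (C (algebraMap A K d₂) * b') *
          derivative (map (algebraMap A K) m) =
        C (algebraMap A K d₁) * C (algebraMap A K d₂) *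
          (a' * map (algebraMap A K) m + b' * derivative (map (algebraMap A K) m)) := by ring
    rw [this, hab, mul_one, sub_self]

end Lift

section Sep

variable {A A₁ K : Type*} [CommRing A] [CommRing A₁] [Field K] [Algebra A K] [Algebra A A₁]
  [Algebra A₁ K] [IsScalarTower A A₁ K]

theorem isNilpotent_of_map_eq_zero
    (hker₁ : ∀ x : A₁, algebraMap A₁ K x = 0 → IsNilpotent x) (n : A₁[X])
    (hn : n.map (algebraMap A₁ K) = 0) : IsNilpotent n := by
  rw [Polynomial.isNilpotent_iff]
  intro i
  apply hker₁
  have := congrArg (fun p => p.coeff i) hn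
  simpa using this

theorem separable_map_of_witness
    (hker₁ : ∀ x : A₁, algebraMap A₁ K x = 0 → IsNilpotent x) (h : A) (a b m : A[X])
    (hw : (a * m + b * derivative m - C h).map (algebraMap A K) = 0)
    (hu : IsUnit (algebraMap A A₁ h)) : (m.map (algebraMap A A₁)).Separable := by
  set n : A₁[X] := (a * m + b * derivative m - C h).map (algebraMap A A₁) with hn
  have hn0 : n.map (algebraMap A₁ K) = 0 := by
    rw [hn, Polynomial.map_map, ← IsScalarTower.algebraMap_eq]
    exact hw
  have hnil : IsNilpotent n := isNilpotent_of_map_eq_zero hker₁ n hn0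
  have hunit : IsUnit (C (algebraMap A A₁ h) + n) :=
    hnil.isUnit_add_left_of_commute (hu.map C) (Commute.all _ _)
  have heq : a.map (algebraMap A A₁) * m.map (algebraMap A A₁) +
      b.map (algebraMap A A₁) * derivative (m.map (algebraMap A A₁)) =
      C (algebraMap A A₁ h) + n := by
    rw [hn, Polynomial.map_sub, Polynomial.map_add, Polynomial.map_mul, Polynomial.map_mul,
      Polynomial.map_C, derivative_map]
    ring
  obtain ⟨u, hu'⟩ := hunit
  refine ⟨↑u⁻¹ * a.map (algebraMap A A₁), ↑u⁻¹ * b.map (algebraMap A A₁), ?_⟩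
  rw [mul_assoc, mul_assoc, ← mul_add, heq, ← hu', Units.inv_mul]

end Sep

end Groth.Agent.Lib.helper9.GenFibEt
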