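import Mathlib
import Groth.Agent.Lib.Helper9.GenFibEt1

/-!
# helper9: `AdjoinRoot` of a monic separable polynomial is finite étale; irreducibility of its
spectrum over a ring with irreducible spectrum (ring level)
-/

set_option autoImplicit false
set_option linter.style.haveILetI false
universe u

namespace Groth.Agent.Lib.helper9.GenFibEt

open Polynomial IntermediateField Groth.Agent.Lib.helper13.EL

section Etale

variable {A₁ : Type u} [CommRing A₁] (m₁ : A₁[X]) (hmonic : m₁.Monic) (hsep : m₁.Separable)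

include hmonic hsep in
theorem etale_adjoinRoot : Algebra.Etale A₁ (AdjoinRoot m₁) := by
  obtain ⟨a, b, hab⟩ := hsep
  let P : StandardEtalePair A₁ :=
    { f := m₁, monic_f := hmonic, g := 1, cond := ⟨b, a, 1, by rw [pow_one, ← hab]; ring⟩ }
  have hM : Submonoid.powers (AdjoinRoot.mk P.f P.g) ≤ IsUnit.submonoid (AdjoinRoot m₁) := by
    rintro x ⟨n, rfl⟩
    show IsUnit _
    simp [P]
  let e₁ : AdjoinRoot m₁ ≃ₐ[AdjoinRoot m₁] Localization.Away (AdjoinRoot.mk P.f P.g) :=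
    IsLocalization.atUnits (AdjoinRoot m₁) (Submonoid.powers (AdjoinRoot.mk P.f P.g)) hM
  let e₂ : AdjoinRoot m₁ ≃ₐ[A₁] Localization.Away (AdjoinRoot.mk P.f P.g) :=
    e₁.restrictScalars A₁
  let e : P.Ring ≃ₐ[A₁] AdjoinRoot m₁ := P.equivAwayAdjoinRoot.trans e₂.symm
  exact Algebra.Etale.of_equiv e

end Etale

section Irred

variable {A₁ : Type u} {K k' : Type*} [CommRing A₁] [Field K] [Field k'] [Algebra A₁ K]
  [Algebra K k'] [Algebra A₁ k'] [IsScalarTower A₁ K k']
  (hK : ∀ y : K, ∃ a b : A₁, algebraMap A₁ K b ≠ 0 ∧ y * algebraMap A₁ K b = algebraMap A₁ K a)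
  (hker₁ : ∀ x : A₁, algebraMap A₁ K x = 0 → IsNilpotent x)
  (m₁ : A₁[X]) (hmonic : m₁.Monic) (β : k') (hβ : m₁.map (algebraMap A₁ K) = minpoly K β)

include hβ in
theorem eval₂_root_eq_zero : m₁.eval₂ (Algebra.ofId A₁ k' : A₁ →+* k') β = 0 := by
  have h1 : m₁.eval₂ (algebraMap A₁ k') β = aeval β (m₁.map (algebraMap A₁ K)) := by
    rw [aeval_def, eval₂_map, ← IsScalarTower.algebraMap_eq]
  change m₁.eval₂ (algebraMap A₁ k') β = 0
  rw [h1, hβ, minpoly.aeval]

/-- the evaluation at `β` -/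
noncomputable def evalβ : AdjoinRoot m₁ →ₐ[A₁] k' :=
  AdjoinRoot.liftAlgHom m₁ (Algebra.ofId A₁ k') β (eval₂_root_eq_zero m₁ β hβ)

theorem evalβ_root : evalβ m₁ β hβ (AdjoinRoot.root m₁) = β :=
  AdjoinRoot.liftAlgHom_root _ _ _ _

theorem evalβ_mk (P : A₁[X]) :
    evalβ m₁ β hβ (AdjoinRoot.mk m₁ P) = aeval β (P.map (algebraMap A₁ K)) := by
  rw [evalβ, AdjoinRoot.liftAlgHom_mk, aeval_def, eval₂_map, ← IsScalarTower.algebraMap_eq]
  rfl

include hK hker₁ hmonic in
/-- the kernel of the evaluation at `β` is contained in every prime: the spectrum of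
`AdjoinRoot m₁` is irreducible -/
theorem ker_le_of_isPrime (q : Ideal (AdjoinRoot m₁)) [q.IsPrime] :
    RingHom.ker (evalβ m₁ β hβ : AdjoinRoot m₁ →+* k') ≤ q := by
  haveI : Module.Free A₁ (AdjoinRoot m₁) := hmonic.free_adjoinRoot
  -- the minimal prime of `A₁`
  let p₁ : Ideal A₁ := RingHom.ker (algebraMap A₁ K)
  haveI hp₁ : p₁.IsPrime := RingHom.ker_isPrime _
  have hp₁le : p₁ ≤ q.under A₁ := by
    intro x hx
    have hnil : IsNilpotent x := hker₁ x hx
    rw [Ideal.under_def, Ideal.mem_comap]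
    obtain ⟨n, hn⟩ := hnil
    refine Ideal.IsPrime.mem_of_pow_mem inferInstance n ?_
    rw [← map_pow, hn, map_zero]
    exact q.zero_mem
  haveI : q.LiesOver (q.under A₁) := ⟨rfl⟩
  obtain ⟨q', hq'le, hq'prime, hq'over⟩ :=
    Ideal.exists_ideal_le_liesOver_of_le (p := p₁) (q := q.under A₁) q hp₁le
  refine le_trans ?_ hq'le
  intro x hx
  obtain ⟨P, rfl⟩ := AdjoinRoot.mk_surjective x
  rw [RingHom.mem_ker] at hx
  have hx' : aeval β (P.map (algebraMap A₁ K)) = 0 := by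
    rw [← evalβ_mk m₁ β hβ]
    exact hx
  obtain ⟨Q, hQ⟩ := minpoly.dvd K β hx'
  obtain ⟨d, Q₁, hd, hQ₁⟩ := exists_lift_mul hK Q
  set N : A₁[X] := C d * P - m₁ * Q₁ with hN
  have hN0 : N.map (algebraMap A₁ K) = 0 := by
    rw [hN, Polynomial.map_sub, Polynomial.map_mul, Polynomial.map_mul, Polynomial.map_C, hQ₁, hQ,
      hβ]
    ring
  have hNnil : IsNilpotent N := isNilpotent_of_map_eq_zero hker₁ N hN0
  have hmkN : AdjoinRoot.mk m₁ N = AdjoinRoot.mk m₁ (C d) * AdjoinRoot.mk m₁ P := by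
    rw [hN, map_sub, map_mul, map_mul, AdjoinRoot.mk_self, zero_mul, sub_zero]
  have hmem : AdjoinRoot.mk m₁ (C d) * AdjoinRoot.mk m₁ P ∈ q' := by
    rw [← hmkN]
    obtain ⟨n, hn⟩ := hNnil
    refine Ideal.IsPrime.mem_of_pow_mem hq'prime n ?_
    rw [← map_pow, hn, map_zero]
    exact q'.zero_mem
  rcases hq'prime.mem_or_mem hmem with h1 | h1
  · exfalso
    apply hd
    have : d ∈ q'.under A₁ := by
      rw [Ideal.under_def, Ideal.mem_comap]
      exact h1
    rw [← hq'over.over] at this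
    exact this
  · exact h1

end Irred

end Groth.Agent.Lib.helper9.GenFibEt
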