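import Mathlib
import Groth.Agent.Lib.Helper9.Strat1

/-!
# helper9: transport of geometric irreducibility of reduced induced closed subschemes along
isomorphisms; residue field of the image of a field-valued point
-/

set_option autoImplicit false
set_option linter.style.haveILetI false
set_option backward.isDefEq.respectTransparency false
universe u

namespace Groth.Agent.Lib.helper9.GenFibEt

open AlgebraicGeometry CategoryTheory Limits TopologicalSpace

/-- the residue field at the image of a field valued point: compatibility -/
theorem residueField_compat {S U : Scheme.{u}} (g : U ⟶ S) (s : S) (k : Type u) [Field k]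
    [Algebra (S.residueField s) k] (τ : Spec (.of k) ⟶ U)
    (hτg : τ ≫ g = Spec.map (CommRingCat.ofHom (algebraMap (S.residueField s) k)) ≫
      S.fromSpecResidueField s) :
    ∃ hu : g (τ (IsLocalRing.closedPoint k)) = s,
      (S.residueFieldCongr hu).inv ≫ g.residueFieldMap (τ (IsLocalRing.closedPoint k)) ≫
        U.descResidueField (Scheme.stalkClosedPointTo τ) =
          CommRingCat.ofHom (algebraMap (S.residueField s) k) := by
  have key := congrArg (Scheme.SpecToEquivOfField k S) hτg
  have hR : Scheme.SpecToEquivOfField k S
      (Spec.map (CommRingCat.ofHom (algebraMap (S.residueField s) k)) ≫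
        S.fromSpecResidueField s) = ⟨s, CommRingCat.ofHom (algebraMap (S.residueField s) k)⟩ :=
    (Scheme.SpecToEquivOfField k S).apply_symm_apply ⟨s, _⟩
  rw [hR, Scheme.SpecToEquivOfField_eq_iff] at key
  obtain ⟨e, he⟩ := key
  have hu : g (τ (IsLocalRing.closedPoint k)) = s := e
  have he' : g.residueFieldMap (τ (IsLocalRing.closedPoint k)) ≫
      U.descResidueField (Scheme.stalkClosedPointTo τ) =
      (S.residueFieldCongr hu).hom ≫ CommRingCat.ofHom (algebraMap (S.residueField s) k) := by
    rw [← Scheme.descResidueField_stalkClosedPointTo_comp]
    exact he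
  refine ⟨hu, ?_⟩
  rw [he', Iso.inv_hom_id_assoc]

/-- geometric irreducibility descends along surjections of the source -/
theorem geometricallyIrreducible_of_surjective_comp {W W' B : Scheme.{u}} (h : W ⟶ W')
    (r : W' ⟶ B) [Surjective h] (H : GeometricallyIrreducible (h ≫ r)) :
    GeometricallyIrreducible r := by
  refine ⟨(geometrically_iff_of_isClosedUnderIsomorphisms).mpr fun K _ y => ?_⟩
  have h1 : IrreducibleSpace ↥(pullback (h ≫ r) y) :=
    (geometrically_iff_of_isClosedUnderIsomorphisms).mp H.1 K y
  let e := pullbackRightPullbackFstIso r y h
  -- `pullback h (pullback.fst r y) ≅ pullback (h ≫ r) y`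
  have h2 : IrreducibleSpace ↥(pullback h (pullback.fst r y)) :=
    e.hom.homeomorph.irreducibleSpace_iff.mpr h1
  have hs : Surjective (pullback.snd h (pullback.fst r y)) :=
    MorphismProperty.pullback_snd (P := @Surjective) _ _ inferInstance
  have hpre := (pullback.snd h (pullback.fst r y)).surjective.preirreducibleSpace
    (pullback.snd h (pullback.fst r y)).continuous
  have hne : Nonempty ↥(pullback r y) :=
    (inferInstance : Nonempty ↥(pullback h (pullback.fst r y))).map
      (pullback.snd h (pullback.fst r y))
  exact { toPreirreducibleSpace := hpre, toNonempty := hne }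

end Groth.Agent.Lib.helper9.GenFibEt
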