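import Mathlib
import Groth.Agent.Lib.Helper9.GenFibEt3

/-!
# helper9: the fibre of a base change over a point `y'` with residue field `k'` is the base change
of the fibre to `k'`; transport of "all irreducible components are geometrically irreducible"
-/

set_option autoImplicit false
set_option linter.style.haveILetI false
set_option backward.isDefEq.respectTransparency false
universe u

namespace Groth.Agent.Lib.helper9.GenFibEt

open AlgebraicGeometry CategoryTheory Limits TopologicalSpace

/-- transport of geometric irreducibility of a reduced induced closed subscheme along an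
isomorphism of arrows -/
theorem geometricallyIrreducible_transport {F' F'' B' B'' : Scheme.{u}} (q' : F' ⟶ B')
    (q'' : F'' ⟶ B'') (e : F' ≅ F'') (φ : B' ≅ B'') (w : q' ≫ φ.hom = e.hom ≫ q'')
    (Z : Closeds F') (T : Closeds F'') (hZT : e.hom '' (Z : Set F') = (T : Set F''))
    (hT : GeometricallyIrreducible
      ((Scheme.IdealSheafData.vanishingIdeal T).subschemeι ≫ q'')) :
    GeometricallyIrreducible ((Scheme.IdealSheafData.vanishingIdeal Z).subschemeι ≫ q') := by
  set ιZ := (Scheme.IdealSheafData.vanishingIdeal Z).subschemeι with hιZ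
  set ιT := (Scheme.IdealSheafData.vanishingIdeal T).subschemeι with hιT
  have hrZ : Set.range ιZ = (Z : Set F') := by
    rw [Scheme.IdealSheafData.range_subschemeι, Scheme.IdealSheafData.coe_support_vanishingIdeal]
  have hrT : Set.range ιT = (T : Set F'') := by
    rw [Scheme.IdealSheafData.range_subschemeι, Scheme.IdealSheafData.coe_support_vanishingIdeal]
  have hrZe : Set.range (ιZ ≫ e.hom) = (T : Set F'') := by
    rw [Scheme.Hom.comp_base, TopCat.coe_comp, Set.range_comp, hrZ, hZT]
  haveI : IsReduced (Scheme.IdealSheafData.vanishingIdeal T).subscheme :=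
    Groth.Agent.Lib.helper9.Strat.isReduced_subscheme_vanishingIdeal T
  let p1 := pullback.fst (ιZ ≫ e.hom) ιT
  let p2 := pullback.snd (ιZ ≫ e.hom) ιT
  haveI : IsClosedImmersion p2 :=
    MorphismProperty.pullback_snd (P := @IsClosedImmersion) _ _ inferInstance
  haveI : Surjective p2 := by
    refine ⟨fun x => ?_⟩
    have : x ∈ Set.range p2 := by
      rw [Scheme.Pullback.range_snd, hrZe, ← hrT]
      exact ⟨x, rfl⟩
    exact this
  haveI : IsIso p2 := isIso_of_isClosedImmersion_of_surjective p2
  haveI : Surjective p1 := by
    refine ⟨fun x => ?_⟩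
    have : x ∈ Set.range p1 := by
      rw [Scheme.Pullback.range_fst, hrT, ← hrZe]
      exact ⟨x, rfl⟩
    exact this
  let h := inv p2 ≫ p1
  haveI : Surjective h := inferInstance
  have hh : h ≫ ιZ ≫ e.hom = ιT := by
    simp only [h, Category.assoc]
    rw [IsIso.inv_comp_eq]
    exact pullback.condition
  have heq : ιT ≫ q'' = h ≫ ((ιZ ≫ q') ≫ φ.hom) := by
    rw [← hh]
    simp only [Category.assoc]
    rw [w]
  rw [heq] at hT
  have h3 := geometricallyIrreducible_of_surjective_comp h ((ιZ ≫ q') ≫ φ.hom) hT
  exact (MorphismProperty.cancel_right_of_respectsIso (P := @GeometricallyIrreducible)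
    (ιZ ≫ q') φ.hom).mp h3

theorem image_mem_irreducibleComponents_of_iso {F' F'' : Scheme.{u}} (e : F' ≅ F'')
    (Z : Set F') (hZ : Z ∈ irreducibleComponents F') :
    e.hom '' Z ∈ irreducibleComponents F'' := by
  let hh := e.hom.homeomorph
  have := image_mem_irreducibleComponents_of_isPreirreducible_fiber (f := hh) hh.continuous
    hh.isOpenMap (fun x => (Set.subsingleton_singleton.preimage hh.injective).isPreirreducible)
    hh.surjective hZ
  exact this

end Groth.Agent.Lib.helper9.GenFibEt
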