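import Mathlib
import Groth.Agent.Lib.Helper9.GenFibEt4

/-!
# helper9: the fibre of a base change over a point `y'` with residue field `k'` is the base change
of the fibre to `k'`; transport of "all irreducible components are geometrically irreducible"
-/

set_option autoImplicit false
set_option linter.style.haveILetI false
set_option backward.isDefEq.respectTransparency false
universe u

namespace Groth.Agent.Lib.helper9.GenFibEt

open AlgebraicGeometry CategoryTheory Limits TopologicalSpace

/-- the comparison isomorphism between the fibre of the base change and the base change of the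
fibre -/
theorem exists_fiber_iso {X Y Y' : Scheme.{u}} (f : X ⟶ Y) (g₀ : Y' ⟶ Y) (y' : Y') (s : Y)
    (hs : g₀ y' = s) (k' : Type u) [Field k'] [Algebra (Y.residueField s) k']
    (a : Y'.residueField y' ⟶ .of k') (ha : Function.Bijective a)
    (hcomp : (Y.residueFieldCongr hs).inv ≫ g₀.residueFieldMap y' ≫ a =
      CommRingCat.ofHom (algebraMap (Y.residueField s) k')) :
    ∃ (e : (pullback.snd f g₀).fiber y' ≅ pullback (f.fiberToSpecResidueField s)
        (Spec.map (CommRingCat.ofHom (algebraMap (Y.residueField s) k'))))
      (φ : Spec (Y'.residueField y') ≅ Spec (.of k')),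
      (pullback.snd f g₀).fiberToSpecResidueField y' ≫ φ.hom = e.hom ≫ pullback.snd _ _ := by
  subst hs
  have sq := isPullback_fiberToSpecResidueField_of_isPullback (IsPullback.of_hasPullback f g₀) y'
  rw [Scheme.residueFieldCongr_refl, Iso.refl_inv, Category.id_comp] at hcomp
  haveI : IsIso a := by
    rw [ConcreteCategory.isIso_iff_bijective]
    exact ha
  have hy : Spec.map (CommRingCat.ofHom (algebraMap (Y.residueField (g₀ y')) k')) =
      Spec.map a ≫ Spec.map (g₀.residueFieldMap y') := by
    rw [← Spec.map_comp, hcomp]
  have sq2 : IsPullback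
      (pullback.fst ((f.fiberToSpecResidueField (g₀ y')))
        (Spec.map (CommRingCat.ofHom (algebraMap (Y.residueField (g₀ y')) k'))))
      (pullback.snd ((f.fiberToSpecResidueField (g₀ y')))
        (Spec.map (CommRingCat.ofHom (algebraMap (Y.residueField (g₀ y')) k'))) ≫ Spec.map a)
      (f.fiberToSpecResidueField (g₀ y')) (Spec.map (g₀.residueFieldMap y')) := by
    refine IsPullback.of_iso (IsPullback.of_hasPullback (f.fiberToSpecResidueField (g₀ y'))
        (Spec.map (CommRingCat.ofHom (algebraMap (Y.residueField (g₀ y')) k'))))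
      (Iso.refl _) (Iso.refl _) (asIso (Spec.map a)) (Iso.refl _) ?_ ?_ ?_ ?_
    · simp
    · simp
    · simp
    · simp [hy]
  let e := sq.isoIsPullback _ _ sq2
  refine ⟨e, (asIso (Spec.map a)).symm, ?_⟩
  have h1 : e.hom ≫ (pullback.snd ((f.fiberToSpecResidueField (g₀ y')))
        (Spec.map (CommRingCat.ofHom (algebraMap (Y.residueField (g₀ y')) k'))) ≫ Spec.map a) =
      (pullback.snd f g₀).fiberToSpecResidueField y' := sq.isoIsPullback_hom_snd _ _ sq2
  rw [← h1]
  simp

theorem components_geomIrr_of_baseChange {X Y Y' : Scheme.{u}} (f : X ⟶ Y) (g₀ : Y' ⟶ Y)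
    (y' : Y') (s : Y)
    (hs : g₀ y' = s) (k' : Type u) [Field k'] [Algebra (Y.residueField s) k']
    (a : Y'.residueField y' ⟶ .of k') (ha : Function.Bijective a)
    (hcomp : (Y.residueFieldCongr hs).inv ≫ g₀.residueFieldMap y' ≫ a =
      CommRingCat.ofHom (algebraMap (Y.residueField s) k'))
    (H : ∀ (T : Set ↥(pullback (f.fiberToSpecResidueField s)
        (Spec.map (CommRingCat.ofHom (algebraMap (Y.residueField s) k')))))
        (hT : T ∈ irreducibleComponents ↥(pullback (f.fiberToSpecResidueField s)
        (Spec.map (CommRingCat.ofHom (algebraMap (Y.residueField s) k'))))),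
        GeometricallyIrreducible
          ((Scheme.IdealSheafData.vanishingIdeal
              ⟨T, isClosed_of_mem_irreducibleComponents T hT⟩).subschemeι ≫
            pullback.snd (f.fiberToSpecResidueField s)
              (Spec.map (CommRingCat.ofHom (algebraMap (Y.residueField s) k'))))) :
    ∀ (Z : Set ↥((pullback.snd f g₀).fiber y'))
      (hZ : Z ∈ irreducibleComponents ↥((pullback.snd f g₀).fiber y')),
      GeometricallyIrreducible
        ((Scheme.IdealSheafData.vanishingIdeal
            ⟨Z, isClosed_of_mem_irreducibleComponents Z hZ⟩).subschemeι ≫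
          (pullback.snd f g₀).fiberToSpecResidueField y') := by
  intro Z hZ
  obtain ⟨e, φ, w⟩ := exists_fiber_iso f g₀ y' s hs k' a ha hcomp
  have hT := image_mem_irreducibleComponents_of_iso e Z hZ
  exact geometricallyIrreducible_transport _ _ e φ w
    ⟨Z, isClosed_of_mem_irreducibleComponents Z hZ⟩
    ⟨e.hom '' Z, isClosed_of_mem_irreducibleComponents _ hT⟩ rfl (H _ hT)

end Groth.Agent.Lib.helper9.GenFibEt
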