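import Mathlib
import Groth.Agent.Lib.Helper9.GenFibEt2
import Groth.Agent.Lib.Helper9.GenFibEt3
import Groth.Agent.Lib.Helper13.EL5

/-!
# helper9: a finite étale cover of a nonempty open of an irreducible scheme realizing a given
finite separable extension of the residue field of the generic point
-/

set_option autoImplicit false
set_option linter.style.haveILetI false
set_option backward.isDefEq.respectTransparency false
universe u

namespace Groth.Agent.Lib.helper9.GenFibEt

open AlgebraicGeometry CategoryTheory Limits TopologicalSpace Polynomial IntermediateField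
open Groth.Agent.Lib.helper13.EL

theorem evaluation_res {Y : Scheme.{u}} {V V₀ : Y.Opens} (hle : V ≤ V₀) (η : Y) (hηV : η ∈ V) :
    Y.presheaf.map (homOfLE hle).op ≫ Y.evaluation V η hηV = Y.evaluation V₀ η (hle hηV) := by
  rw [← Scheme.germ_residue, ← Scheme.germ_residue, ← Category.assoc]
  congr 1
  exact Y.presheaf.germ_res (homOfLE hle) η hηV

theorem exists_finite_etale_cover_aux (Y : Scheme.{u}) (η : Y)
    (hgen : ∀ W : Y.Opens, (W : Set Y).Nonempty → η ∈ W) (k' : Type u) [Field k']
    [Algebra (Y.residueField η) k']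
    [FiniteDimensional (Y.residueField η) k']
    [Algebra.IsSeparable (Y.residueField η) k'] :
    ∃ (V : Y.Opens) (Y' : Scheme.{u}) (g : Y' ⟶ (V : Scheme.{u})) (hY' : IrreducibleSpace ↑Y'),
      (V : Set Y).Nonempty ∧ IsAffine Y' ∧ Surjective g ∧ IsFinite g ∧ Etale g ∧
      ∃ (hs : (g ≫ V.ι) (genericPoint Y') = η)
        (a : Y'.residueField (genericPoint Y') ⟶ .of k'), Function.Bijective a ∧
        (Y.residueFieldCongr hs).inv ≫ (g ≫ V.ι).residueFieldMap (genericPoint Y') ≫ a =
          CommRingCat.ofHom (algebraMap (Y.residueField η) k') := by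
  obtain ⟨_, ⟨V₀, hV₀, rfl⟩, hηV₀, -⟩ := Y.isBasis_affineOpens.exists_subset_of_mem_open
    (Set.mem_univ η) isOpen_univ
  letI algAK : Algebra Γ(Y, V₀) (Y.residueField η) := (Y.evaluation V₀ η hηV₀).hom.toAlgebra
  letI algAk : Algebra Γ(Y, V₀) k' :=
    ((algebraMap (Y.residueField η) k').comp (Y.evaluation V₀ η hηV₀).hom).toAlgebra
  haveI : IsScalarTower Γ(Y, V₀) (Y.residueField η) k' := IsScalarTower.of_algebraMap_eq' rfl
  have hK := exists_evaluation_div hV₀ η hηV₀
  obtain ⟨β, m, hβtop, hmonic, hm⟩ :=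
    exists_lift_minpoly (A := Γ(Y, V₀)) (K := Y.residueField η) (k' := k') hK
  have hsep : (m.map (algebraMap Γ(Y, V₀) (Y.residueField η))).Separable := by
    rw [hm]
    exact Algebra.IsSeparable.isSeparable _ β
  obtain ⟨h, a, b, hh, hw⟩ := exists_separable_witness hK m hsep
  -- the smaller affine open
  set V : Y.Opens := Y.basicOpen h with hVdef
  have hV : IsAffineOpen V := hV₀.basicOpen h
  have hle : V ≤ V₀ := Y.basicOpen_le h
  have hηV : η ∈ V := (Y.evaluation_ne_zero_iff_mem_basicOpen η hηV₀ h).mp hh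
  letI algAA₁ : Algebra Γ(Y, V₀) Γ(Y, V) := (Y.presheaf.map (homOfLE hle).op).hom.toAlgebra
  letI algA₁K : Algebra Γ(Y, V) (Y.residueField η) := (Y.evaluation V η hηV).hom.toAlgebra
  letI algA₁k : Algebra Γ(Y, V) k' :=
    ((algebraMap (Y.residueField η) k').comp (Y.evaluation V η hηV).hom).toAlgebra
  haveI : IsScalarTower Γ(Y, V) (Y.residueField η) k' := IsScalarTower.of_algebraMap_eq' rfl
  haveI : IsScalarTower Γ(Y, V₀) Γ(Y, V) (Y.residueField η) := by
    refine IsScalarTower.of_algebraMap_eq' ?_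
    have := evaluation_res hle η hηV
    exact (congrArg (fun φ => φ.hom) this).symm
  have hK₁ := exists_evaluation_div hV η hηV
  have hker₁ : ∀ x : Γ(Y, V), algebraMap Γ(Y, V) (Y.residueField η) x = 0 → IsNilpotent x := by
    intro x hx
    have hx' : η ∉ Y.basicOpen x := (Y.evaluation_eq_zero_iff_notMem_basicOpen η hηV x).mp hx
    rw [Scheme.isNilpotent_iff_basicOpen_eq_bot_of_isCompact hV.isCompact]
    by_contra hne
    apply hx'
    apply hgen
    exact Set.nonempty_iff_ne_empty.mpr (fun h0 => hne (SetLike.ext' h0))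
  have hu : IsUnit (algebraMap Γ(Y, V₀) Γ(Y, V) h) := Y.toRingedSpace.isUnit_res_basicOpen h
  -- the separable monic polynomial
  set m₁ : Γ(Y, V)[X] := m.map (algebraMap Γ(Y, V₀) Γ(Y, V)) with hm₁
  have hmonic₁ : m₁.Monic := hmonic.map _
  have hsep₁ : m₁.Separable := separable_map_of_witness hker₁ h a b m hw hu
  have hβ₁ : m₁.map (algebraMap Γ(Y, V) (Y.residueField η)) = minpoly (Y.residueField η) β := by
    rw [hm₁, Polynomial.map_map, ← IsScalarTower.algebraMap_eq, hm]
  -- the finite étale algebra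
  haveI hfin : Module.Finite Γ(Y, V) (AdjoinRoot m₁) := hmonic₁.finite_adjoinRoot
  haveI hfree : Module.Free Γ(Y, V) (AdjoinRoot m₁) := hmonic₁.free_adjoinRoot
  haveI het : Algebra.Etale Γ(Y, V) (AdjoinRoot m₁) := etale_adjoinRoot m₁ hmonic₁ hsep₁
  let ψ : AdjoinRoot m₁ →ₐ[Γ(Y, V)] k' := evalβ m₁ β hβ₁
  have hψroot : ψ (AdjoinRoot.root m₁) = β := evalβ_root m₁ β hβ₁
  have hkerle : ∀ (q : Ideal (AdjoinRoot m₁)) [q.IsPrime],
      RingHom.ker (ψ : AdjoinRoot m₁ →+* k') ≤ q :=
    fun q _ => ker_le_of_isPrime hK₁ hker₁ m₁ hmonic₁ β hβ₁ q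
  let B : CommRingCat.{u} := .of (AdjoinRoot m₁)
  let φ : Γ(Y, V) ⟶ B := CommRingCat.ofHom (algebraMap Γ(Y, V) (AdjoinRoot m₁))
  let g : Spec B ⟶ (V : Scheme.{u}) := Spec.map φ ≫ hV.isoSpec.inv
  have hgι : g ≫ V.ι = Spec.map φ ≫ hV.fromSpec := by
    simp only [g, Category.assoc]
    rw [IsAffineOpen.isoSpec_inv_ι]
  let τ : Spec (.of k') ⟶ Spec B := Spec.map (CommRingCat.ofHom ψ.toRingHom)
  obtain ⟨u, hu⟩ : ∃ u : Spec B, u = τ (IsLocalRing.closedPoint k') := ⟨_, rfl⟩
  have hu_ideal : u.asIdeal = RingHom.ker (ψ : AdjoinRoot m₁ →+* k') := by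
    rw [hu]
    change Ideal.comap ψ.toRingHom (IsLocalRing.maximalIdeal k') = _
    rw [IsLocalRing.maximalIdeal_eq_bot]
    rfl
  have hu_gen : IsGenericPoint u (Set.univ) := by
    rw [isGenericPoint_def]
    have h1 : closure ({u} : Set (Spec B)) = PrimeSpectrum.zeroLocus (u.asIdeal : Set B) :=
      PrimeSpectrum.closure_singleton u
    rw [h1, hu_ideal]
    ext x
    simp only [Set.mem_univ, iff_true]
    rw [PrimeSpectrum.mem_zeroLocus]
    exact hkerle x.asIdeal
  have hY' : IrreducibleSpace ↥(Spec B) := (irreducibleSpace_def _).mpr hu_gen.isIrreducible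
  have hgp : genericPoint ↥(Spec B) = u := (genericPoint_spec ↥(Spec B)).eq hu_gen
  -- properties of `g`
  have hfinite : IsFinite g := by
    haveI : IsFinite (Spec.map φ) := by
      rw [IsFinite.SpecMap_iff]
      exact RingHom.finite_algebraMap.mpr hfin
    infer_instance
  have hetale : Etale g := by
    haveI : Etale (Spec.map φ) :=
      HasRingHomProperty.Spec_iff.mpr (RingHom.etale_algebraMap.mpr het)
    infer_instance
  have hsurj : Surjective g := by
    haveI : Surjective (Spec.map φ) := by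
      refine ⟨fun x => ?_⟩
      haveI : Algebra.IsIntegral Γ(Y, V) (AdjoinRoot m₁) := Algebra.IsIntegral.of_finite _ _
      have hkerx : RingHom.ker (algebraMap Γ(Y, V) (AdjoinRoot m₁)) ≤ x.asIdeal := by
        intro z hz
        have hz' : algebraMap Γ(Y, V) (Y.residueField η) z = 0 := by
          have h1 : ψ (algebraMap Γ(Y, V) (AdjoinRoot m₁) z) = 0 := by
            rw [RingHom.mem_ker] at hz
            rw [hz, map_zero]
          rw [ψ.commutes] at h1
          have h2 : algebraMap (Y.residueField η) k' (algebraMap Γ(Y, V) (Y.residueField η) z) = 0 := h1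
          exact (map_eq_zero _).mp h2
        obtain ⟨n, hn⟩ := hker₁ z hz'
        exact x.isPrime.mem_of_pow_mem n (hn ▸ x.asIdeal.zero_mem)
      obtain ⟨Q, -, hQ, hQx⟩ := Ideal.exists_ideal_over_prime_of_isIntegral x.asIdeal
        (⊥ : Ideal (AdjoinRoot m₁)) (by rw [← RingHom.ker_eq_comap_bot]; exact hkerx)
      exact ⟨⟨Q, hQ⟩, PrimeSpectrum.ext hQx⟩
    infer_instance
  -- the residue field of `u`
  have hτg : τ ≫ (g ≫ V.ι) =
      Spec.map (CommRingCat.ofHom (algebraMap (Y.residueField η) k')) ≫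
        Y.fromSpecResidueField η := by
    have h1 : φ ≫ CommRingCat.ofHom ψ.toRingHom =
        Y.evaluation V η hηV ≫ CommRingCat.ofHom (algebraMap (Y.residueField η) k') := by
      ext z
      exact ψ.commutes z
    have h2 : Spec.map (Y.evaluation V η hηV) ≫ hV.fromSpec = Y.fromSpecResidueField η := by
      rw [← Scheme.germ_residue, Spec.map_comp, Category.assoc, ← IsAffineOpen.fromSpecStalk,
        hV.fromSpecStalk_eq_fromSpecStalk]
      rfl
    rw [hgι]
    simp only [τ]
    rw [← Category.assoc, ← Spec.map_comp, h1, Spec.map_comp, Category.assoc, h2]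
  subst hu
  obtain ⟨hus, hmain⟩ := residueField_compat (g ≫ V.ι) η k' τ hτg
  refine ⟨V, Spec B, g, hY', ⟨η, hηV⟩, inferInstance, hsurj, hfinite, hetale, ?_⟩
  rw [hgp]
  refine ⟨hus, _, ⟨RingHom.injective _, ?_⟩, hmain⟩
  -- surjectivity
  set a' := (Spec B).descResidueField (Scheme.stalkClosedPointTo τ) with ha'
  have h3 : Spec.map a' ≫ (Spec B).fromSpecResidueField (τ (IsLocalRing.closedPoint k')) = τ :=
    Scheme.descResidueField_stalkClosedPointTo_fromSpecResidueField k' (Spec B) τ
  rw [← Scheme.Spec.map_residueFieldIso_inv_eq_fromSpecResidueField, ← Spec.map_comp,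
    ← Spec.map_comp, Spec.map_inj] at h3
  let F : IntermediateField (Y.residueField η) k' :=
    Subfield.toIntermediateField a'.hom.fieldRange (fun x ↦ by
      refine ⟨((g ≫ V.ι).residueFieldMap (τ (IsLocalRing.closedPoint k')))
        ((Y.residueFieldCongr hus).inv x), ?_⟩
      exact congrArg (fun f ↦ f.hom x) hmain)
  have hbF : ψ (AdjoinRoot.root m₁) ∈ F := by
    refine ⟨(Scheme.Spec.residueFieldIso B (τ (IsLocalRing.closedPoint k'))).inv
      (algebraMap (AdjoinRoot m₁) _ (AdjoinRoot.root m₁)), ?_⟩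
    exact congrArg (fun f ↦ f.hom (AdjoinRoot.root m₁)) h3
  have hF : F = ⊤ := by
    rw [eq_top_iff, ← hβtop, IntermediateField.adjoin_simple_le_iff, ← hψroot]
    exact hbF
  intro y
  have : y ∈ F := hF ▸ IntermediateField.mem_top
  exact this

theorem exists_finite_etale_cover (Y : Scheme.{u}) [IrreducibleSpace Y] (k' : Type u) [Field k']
    [Algebra (Y.residueField (genericPoint Y)) k']
    [FiniteDimensional (Y.residueField (genericPoint Y)) k']
    [Algebra.IsSeparable (Y.residueField (genericPoint Y)) k'] :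
    ∃ (V : Y.Opens) (Y' : Scheme.{u}) (g : Y' ⟶ (V : Scheme.{u})) (hY' : IrreducibleSpace ↑Y'),
      (V : Set Y).Nonempty ∧ IsAffine Y' ∧ Surjective g ∧ IsFinite g ∧ Etale g ∧
      ∃ (hs : (g ≫ V.ι) (genericPoint Y') = genericPoint Y)
        (a : Y'.residueField (genericPoint Y') ⟶ .of k'), Function.Bijective a ∧
        (Y.residueFieldCongr hs).inv ≫ (g ≫ V.ι).residueFieldMap (genericPoint Y') ≫ a =
          CommRingCat.ofHom (algebraMap (Y.residueField (genericPoint Y)) k') :=
  exists_finite_etale_cover_aux Y (genericPoint Y)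
    (fun W hW => ((genericPoint_spec Y).mem_open_set_iff W.2).mpr (by simpa using hW)) k'

end Groth.Agent.Lib.helper9.GenFibEt
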