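import Mathlib

/-!
# helper9: a finite radicial subalgebra realizing a finite purely inseparable extension of the
"generic residue field" (ring level)

`A → K` with every element of `K` a quotient of images; `k'/K` finite purely inseparable.  Then
there is a finite `A`-subalgebra `A' ⊆ k'` containing a `K`-spanning set of `k'` such that ring maps
from `A'` to fields are determined by their restriction to `A`.
-/

set_option autoImplicit false
set_option linter.style.haveILetI false
universe u

namespace Groth.Agent.Lib.helper9.GenFibPI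

variable {A : Type u} {K k' : Type u} [CommRing A] [Field K] [Field k'] [Algebra A K]
  [Algebra K k'] [Algebra A k'] [IsScalarTower A K k']

theorem exists_generators (p : ℕ) [ExpChar K p] [IsPurelyInseparable K k']
    (hK : ∀ y : K, ∃ a b : A, algebraMap A K b ≠ 0 ∧ y * algebraMap A K b = algebraMap A K a)
    (s₀ : Finset k') :
    ∃ s : Finset k', Submodule.span K (s₀ : Set k') ≤ Submodule.span K (s : Set k') ∧
      ∀ b ∈ s, ∃ (n : ℕ) (a : A), b ^ (p ^ n) = algebraMap A k' a := by
  classical
  induction s₀ using Finset.induction_on with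
  | empty => exact ⟨∅, by simp, by simp⟩
  | insert b s₀ _ ih =>
    obtain ⟨s, hs, hs'⟩ := ih
    obtain ⟨n, y, hy⟩ := IsPurelyInseparable.pow_mem K p b
    obtain ⟨c, d, hd, hcd⟩ := hK y
    have hpos : 0 < p ^ n := pow_pos (expChar_pos K p) n
    refine ⟨insert (algebraMap A K d • b) s, ?_, ?_⟩
    · rw [Finset.coe_insert, Finset.coe_insert, Submodule.span_insert, Submodule.span_insert]
      refine sup_le ?_ (le_trans hs le_sup_right)
      rw [Submodule.span_singleton_le_iff_mem]
      have hb : b = (algebraMap A K d)⁻¹ • (algebraMap A K d • b) := by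
        rw [smul_smul, inv_mul_cancel₀ hd, one_smul]
      have hmem : (algebraMap A K d)⁻¹ • (algebraMap A K d • b) ∈
          Submodule.span K {algebraMap A K d • b} ⊔ Submodule.span K (s : Set k') :=
        Submodule.smul_mem _ _ (Submodule.mem_sup_left (Submodule.mem_span_singleton_self _))
      rw [← hb] at hmem
      exact hmem
    · intro b' hb'
      rcases Finset.mem_insert.mp hb' with rfl | hb'
      · refine ⟨n, d ^ (p ^ n - 1) * c, ?_⟩
        rw [Algebra.smul_def, mul_pow, ← hy, ← map_pow, ← map_mul,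
          IsScalarTower.algebraMap_apply A K k' (d ^ (p ^ n - 1) * c)]
        congr 1
        rw [map_mul, map_pow, ← hcd]
        have : algebraMap A K d ^ p ^ n = algebraMap A K d ^ (p ^ n - 1) * algebraMap A K d := by
          rw [← pow_succ, Nat.sub_add_cancel hpos]
        rw [this]
        ring
      · exact hs' b' hb'

theorem eq_of_pow_expChar_pow_eq {L : Type*} [Field L] (p : ℕ) (hp : p = 1 ∨ (p.Prime ∧ (p : L) = 0))
    (n : ℕ) {x y : L} (h : x ^ (p ^ n) = y ^ (p ^ n)) : x = y := by
  rcases hp with rfl | ⟨hp, hp0⟩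
  · simpa using h
  · haveI : Fact p.Prime := ⟨hp⟩
    haveI : CharP L p := (CharP.charP_iff_prime_eq_zero hp).mpr hp0
    exact iterateFrobenius_inj L p n h

theorem exists_pi_subalgebra [FiniteDimensional K k'] [IsPurelyInseparable K k']
    (hK : ∀ y : K, ∃ a b : A, algebraMap A K b ≠ 0 ∧ y * algebraMap A K b = algebraMap A K a) :
    ∃ A' : Subalgebra A k', Module.Finite A A' ∧
      (∀ (L : Type u) [Field L] (φ₁ φ₂ : A' →+* L),
        φ₁.comp (algebraMap A A') = φ₂.comp (algebraMap A A') → φ₁ = φ₂) ∧
      ∃ s : Finset k', Submodule.span K (s : Set k') = ⊤ ∧ (s : Set k') ⊆ A' := by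
  classical
  obtain ⟨p, hp⟩ : ∃ p, p = ringExpChar K := ⟨_, rfl⟩
  haveI hE : ExpChar K p := hp ▸ inferInstance
  obtain ⟨s₀, hs₀⟩ := (Module.Finite.fg_top : (⊤ : Submodule K k').FG)
  obtain ⟨s, hs, hs'⟩ := exists_generators p hK s₀
  have hspan : Submodule.span K (s : Set k') = ⊤ := top_le_iff.mp (hs₀ ▸ hs)
  obtain ⟨A', hA'⟩ : ∃ A' : Subalgebra A k', A' = Algebra.adjoin A (s : Set k') := ⟨_, rfl⟩
  have hint : ∀ x ∈ (s : Set k'), IsIntegral A x := by
    intro b hb
    obtain ⟨n, a, hna⟩ := hs' b hb
    refine ⟨Polynomial.X ^ (p ^ n) - Polynomial.C a,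
      Polynomial.monic_X_pow_sub_C a (pow_pos (expChar_pos K p) n).ne', ?_⟩
    simp [hna]
  refine ⟨A', ?_, ?_, s, hspan, ?_⟩
  · rw [hA']
    exact Algebra.finite_adjoin_of_finite_of_isIntegral s.finite_toSet hint
  · intro L _ φ₁ φ₂ h12
    have hpL : p = 1 ∨ (p.Prime ∧ (p : L) = 0) := by
      rcases hE with _ | ⟨hprime⟩
      · exact Or.inl rfl
      · right
        refine ⟨hprime, ?_⟩
        have h1 : (p : K) = 0 := CharP.cast_eq_zero K p
        have h2 : (p : k') = 0 := by
          rw [← map_natCast (algebraMap K k') p, h1, map_zero]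
        have h3 : (p : A') = 0 := by
          apply Subtype.ext
          simpa using h2
        have := congrArg φ₁ h3
        simpa using this
    letI : Algebra A L := (φ₁.comp (algebraMap A A')).toAlgebra
    let ψ₁ : A' →ₐ[A] L := { φ₁ with commutes' := fun r => rfl }
    let ψ₂ : A' →ₐ[A] L :=
      { φ₂ with commutes' := fun r => (congrArg (fun f => f r) h12).symm }
    have hψ : ψ₁ = ψ₂ := by
      subst hA'
      apply AlgHom.ext_of_adjoin_eq_top (Algebra.adjoin_adjoin_coe_preimage)
      rintro ⟨b, hbmem⟩ hb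
      have hbs : b ∈ (s : Set k') := hb
      obtain ⟨n, a, hna⟩ := hs' b hbs
      apply eq_of_pow_expChar_pow_eq p hpL n
      have e : (⟨b, hbmem⟩ : Algebra.adjoin A (s : Set k')) ^ (p ^ n) =
          algebraMap A (Algebra.adjoin A (s : Set k')) a := by
        apply Subtype.ext
        simpa using hna
      change φ₁ ⟨b, hbmem⟩ ^ (p ^ n) = φ₂ ⟨b, hbmem⟩ ^ (p ^ n)
      rw [← map_pow, ← map_pow, e]
      exact congrArg (fun f => f a) h12
    ext x
    exact congrArg (fun f => f x) hψ
  · rw [hA']
    exact Algebra.subset_adjoin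

end Groth.Agent.Lib.helper9.GenFibPI
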