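import Mathlib
import Groth.Agent.Lib.Helper9.GenFibPI1
import Groth.Agent.Lib.Helper9.GenFibEt6
import Groth.Agent.Lib.Helper2.SpecResidue

/-!
# helper9: a finite universal homeomorphism onto an affine open of an irreducible scheme from an
integral affine scheme whose function field is a given finite purely inseparable extension of the
residue field of the generic point
-/

set_option autoImplicit false
set_option linter.style.haveILetI false
set_option backward.isDefEq.respectTransparency false
universe u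

namespace Groth.Agent.Lib.helper9.GenFibPI

open AlgebraicGeometry CategoryTheory Limits TopologicalSpace
open Groth.Agent.Lib.helper13.EL Groth.Agent.Lib.helper9.GenFibEt

theorem exists_finite_univHomeo_cover_aux (Y : Scheme.{u}) (η : Y)
    (hgen : ∀ W : Y.Opens, (W : Set Y).Nonempty → η ∈ W) (k' : Type u) [Field k']
    [Algebra (Y.residueField η) k']
    [FiniteDimensional (Y.residueField η) k']
    [IsPurelyInseparable (Y.residueField η) k'] :
    ∃ (V₀ : Y.Opens) (_ : IsAffineOpen V₀) (Y'₀ : Scheme.{u}) (g₀ : Y'₀ ⟶ (V₀ : Scheme.{u}))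
      (_ : IsIntegral Y'₀),
      η ∈ V₀ ∧ IsAffine Y'₀ ∧ IsFinite g₀ ∧ FlatMor.IsUnivHomeo g₀ ∧
      ∃ (hs : (g₀ ≫ V₀.ι) (genericPoint Y'₀) = η)
        (a : Y'₀.residueField (genericPoint Y'₀) ⟶ .of k'), Function.Bijective a ∧
        (Y.residueFieldCongr hs).inv ≫ (g₀ ≫ V₀.ι).residueFieldMap (genericPoint Y'₀) ≫ a =
          CommRingCat.ofHom (algebraMap (Y.residueField η) k') := by
  obtain ⟨V, hV, hηV⟩ : ∃ V : Y.Opens, IsAffineOpen V ∧ η ∈ V := by
    obtain ⟨_, ⟨V, hV, rfl⟩, hηV, -⟩ := Y.isBasis_affineOpens.exists_subset_of_mem_open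
      (Set.mem_univ η) isOpen_univ
    exact ⟨V, hV, hηV⟩
  letI algA₁K : Algebra Γ(Y, V) (Y.residueField η) := (Y.evaluation V η hηV).hom.toAlgebra
  letI algA₁k : Algebra Γ(Y, V) k' :=
    ((algebraMap (Y.residueField η) k').comp (Y.evaluation V η hηV).hom).toAlgebra
  haveI : IsScalarTower Γ(Y, V) (Y.residueField η) k' := IsScalarTower.of_algebraMap_eq' rfl
  have hK₁ := exists_evaluation_div hV η hηV
  have hker₁ : ∀ x : Γ(Y, V), algebraMap Γ(Y, V) (Y.residueField η) x = 0 → IsNilpotent x := by
    intro x hx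
    have hx' : η ∉ Y.basicOpen x := (Y.evaluation_eq_zero_iff_notMem_basicOpen η hηV x).mp hx
    rw [Scheme.isNilpotent_iff_basicOpen_eq_bot_of_isCompact hV.isCompact]
    by_contra hne
    apply hx'
    apply hgen
    exact Set.nonempty_iff_ne_empty.mpr (fun h0 => hne (SetLike.ext' h0))
  obtain ⟨A', hfin, hinj, s, hspan, hsub⟩ :=
    exists_pi_subalgebra (A := Γ(Y, V)) (K := Y.residueField η) (k' := k') hK₁
  let B : CommRingCat.{u} := .of A'
  let φ : Γ(Y, V) ⟶ B := CommRingCat.ofHom (algebraMap Γ(Y, V) A')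
  let g : Spec B ⟶ (V : Scheme.{u}) := Spec.map φ ≫ hV.isoSpec.inv
  have hgι : g ≫ V.ι = Spec.map φ ≫ hV.fromSpec := by
    simp only [g, Category.assoc]
    rw [IsAffineOpen.isoSpec_inv_ι]
  let τ : Spec (.of k') ⟶ Spec B := Spec.map (CommRingCat.ofHom A'.val.toRingHom)
  have hu_ideal : (τ (IsLocalRing.closedPoint k')).asIdeal = ⊥ := by
    change Ideal.comap A'.val.toRingHom (IsLocalRing.maximalIdeal k') = _
    rw [IsLocalRing.maximalIdeal_eq_bot, ← RingHom.ker_eq_comap_bot]
    exact (RingHom.injective_iff_ker_eq_bot _).mp Subtype.val_injective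
  have hu_gen : IsGenericPoint (τ (IsLocalRing.closedPoint k')) (Set.univ) := by
    rw [isGenericPoint_def]
    have h1 : closure ({τ (IsLocalRing.closedPoint k')} : Set (Spec B)) =
        PrimeSpectrum.zeroLocus ((τ (IsLocalRing.closedPoint k')).asIdeal : Set B) :=
      PrimeSpectrum.closure_singleton _
    rw [h1, hu_ideal]
    ext x
    simp
  haveI hint : IsIntegral (Spec B) := inferInstance
  have hgp : genericPoint ↥(Spec B) = τ (IsLocalRing.closedPoint k') :=
    (genericPoint_spec ↥(Spec B)).eq hu_gen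
  have hfinite : IsFinite g := by
    haveI : IsFinite (Spec.map φ) := by
      rw [IsFinite.SpecMap_iff]
      exact RingHom.finite_algebraMap.mpr hfin
    infer_instance
  have hkerφ : ∀ z : Γ(Y, V), algebraMap Γ(Y, V) A' z = 0 → IsNilpotent z := by
    intro z hz
    apply hker₁
    have h1 : algebraMap Γ(Y, V) k' z = 0 := by
      have := congrArg (A'.val) hz
      simpa using this
    have h2 : algebraMap (Y.residueField η) k' (algebraMap Γ(Y, V) (Y.residueField η) z) = 0 := h1
    exact (map_eq_zero _).mp h2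
  have huh : FlatMor.IsUnivHomeo g := by
    have h1 : FlatMor.IsUnivHomeo (Spec.map φ) := by
      refine Groth.Agent.Lib.helper2.SpecResidue.isUnivHomeo_Spec_of (algebraMap Γ(Y, V) A') ?_ ?_ hinj
      · haveI : Algebra.IsIntegral Γ(Y, V) A' := Algebra.IsIntegral.of_finite _ _
        exact algebraMap_isIntegral_iff.mpr inferInstance
      · intro x
        haveI : Algebra.IsIntegral Γ(Y, V) A' := Algebra.IsIntegral.of_finite _ _
        have hkerx : RingHom.ker (algebraMap Γ(Y, V) A') ≤ x.asIdeal := by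
          intro z hz
          obtain ⟨n, hn⟩ := hkerφ z hz
          exact x.isPrime.mem_of_pow_mem n (hn ▸ x.asIdeal.zero_mem)
        obtain ⟨Q, -, hQ, hQx⟩ := Ideal.exists_ideal_over_prime_of_isIntegral x.asIdeal
          (⊥ : Ideal A') (by rw [← RingHom.ker_eq_comap_bot]; exact hkerx)
        exact ⟨⟨Q, hQ⟩, PrimeSpectrum.ext hQx⟩
    haveI : FlatMor.IsUnivHomeo.RespectsIso := by
      unfold FlatMor.IsUnivHomeo
      infer_instance
    exact (MorphismProperty.cancel_right_of_respectsIso (P := FlatMor.IsUnivHomeo)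
      (Spec.map φ) hV.isoSpec.inv).mpr h1
  have hτg : τ ≫ (g ≫ V.ι) =
      Spec.map (CommRingCat.ofHom (algebraMap (Y.residueField η) k')) ≫
        Y.fromSpecResidueField η := by
    have h1 : φ ≫ CommRingCat.ofHom A'.val.toRingHom =
        Y.evaluation V η hηV ≫ CommRingCat.ofHom (algebraMap (Y.residueField η) k') := by
      ext z
      exact A'.val.commutes z
    have h2 : Spec.map (Y.evaluation V η hηV) ≫ hV.fromSpec = Y.fromSpecResidueField η := by
      rw [← Scheme.germ_residue, Spec.map_comp, Category.assoc, ← IsAffineOpen.fromSpecStalk,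
        hV.fromSpecStalk_eq_fromSpecStalk]
      rfl
    rw [hgι]
    simp only [τ]
    rw [← Category.assoc, ← Spec.map_comp, h1, Spec.map_comp, Category.assoc, h2]
  obtain ⟨hus, hmain⟩ := residueField_compat (g ≫ V.ι) η k' τ hτg
  refine ⟨V, hV, Spec B, g, hint, hηV, inferInstance, hfinite, huh, ?_⟩
  rw [hgp]
  refine ⟨hus, _, ⟨RingHom.injective _, ?_⟩, hmain⟩
  -- surjectivity
  set a' := (Spec B).descResidueField (Scheme.stalkClosedPointTo τ) with ha'
  have h3 : Spec.map a' ≫ (Spec B).fromSpecResidueField (τ (IsLocalRing.closedPoint k')) = τ :=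
    Scheme.descResidueField_stalkClosedPointTo_fromSpecResidueField k' (Spec B) τ
  rw [← Scheme.Spec.map_residueFieldIso_inv_eq_fromSpecResidueField, ← Spec.map_comp,
    ← Spec.map_comp, Spec.map_inj] at h3
  let F : IntermediateField (Y.residueField η) k' :=
    Subfield.toIntermediateField a'.hom.fieldRange (fun x ↦ by
      refine ⟨((g ≫ V.ι).residueFieldMap (τ (IsLocalRing.closedPoint k')))
        ((Y.residueFieldCongr hus).inv x), ?_⟩
      exact congrArg (fun f ↦ f.hom x) hmain)
  have hbF : ∀ b ∈ (s : Set k'), b ∈ F := by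
    intro b hb
    refine ⟨(Scheme.Spec.residueFieldIso B (τ (IsLocalRing.closedPoint k'))).inv
      (algebraMap A' _ ⟨b, hsub hb⟩), ?_⟩
    exact congrArg (fun f ↦ f.hom ⟨b, hsub hb⟩) h3
  have hF : F.toSubalgebra.toSubmodule = ⊤ := by
    rw [eq_top_iff, ← hspan, Submodule.span_le]
    exact hbF
  intro y
  have : y ∈ F.toSubalgebra.toSubmodule := hF ▸ Submodule.mem_top
  exact this

end Groth.Agent.Lib.helper9.GenFibPI
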