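import Mathlib
import Groth.Agent.Lib.Helper11.GenFree9

/-!
# helper9: generic quasi-compactness of opens of the spectrum of a finite type algebra over a domain

* `exists_fg_le_of_finiteType`: `A` a domain, `C` a finite type `A`-algebra, `I` an ideal of `C`.
  There are `a ≠ 0` in `A` and a finite subset `T ⊆ I` such that every element of `I` is
  carried into `span T` by a power of `a`.
* `exists_isCompact_inter_basicOpen`: for every open `W` of `Spec C` there is `a ≠ 0` in `A`
  such that `W ∩ D(a a')` is quasi-compact for all `a'`.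
-/

set_option autoImplicit false
set_option linter.style.haveILetI false
universe u

namespace Groth.Agent.Lib.helper9.GenFibPI

open TensorProduct

theorem exists_fg_le_of_finiteType {A : Type u} [CommRing A] [IsDomain A] {C : Type u} [CommRing C]
    [Algebra A C] [Algebra.FiniteType A C] (I : Ideal C) :
    ∃ a : A, a ≠ 0 ∧ ∃ T : Finset C, (↑T : Set C) ⊆ I ∧
      ∀ x ∈ I, ∃ N : ℕ, a ^ N • x ∈ Ideal.span (T : Set C) := by
  classical
  let K := FractionRing A
  haveI : IsNoetherianRing (K ⊗[A] C) := Algebra.FiniteType.isNoetherianRing K (K ⊗[A] C)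
  let φ : C →+* K ⊗[A] C := (Algebra.TensorProduct.includeRight : C →ₐ[A] K ⊗[A] C).toRingHom
  have hfg : (Submodule.span (K ⊗[A] C) (φ '' (I : Set C))).FG :=
    (isNoetherianRing_iff_ideal_fg _).mp inferInstance (Ideal.map φ I)
  obtain ⟨s', hs'sub, hs'⟩ := (Submodule.fg_span_iff_fg_span_finset_subset _).mp hfg
  obtain ⟨T, hTI, hTs'⟩ := Finset.subset_set_image_iff.mp hs'sub
  let J : Ideal C := Ideal.span (T : Set C)
  have hJI : J ≤ I := Ideal.span_le.mpr hTI
  have hmap : Ideal.map φ I = Ideal.map φ J := by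
    change Submodule.span _ (φ '' (I : Set C)) = _
    rw [hs', ← hTs', Ideal.map_span]
    simp
  let C' := C ⧸ J
  obtain ⟨a, ha, -, hfree, -, -⟩ :=
    Groth.Agent.Lib.helper11.GenFree.generic_freeness_full (R := A) (S := C') (M := C')
  refine ⟨a, ha, T, hTI, ?_⟩
  intro x hx
  -- `1 ⊗ x̄ = 0` in `K ⊗ C'`
  let ψ : K ⊗[A] C →ₐ[A] K ⊗[A] C' :=
    Algebra.TensorProduct.map (AlgHom.id A K) (Ideal.Quotient.mkₐ A J)
  have hker : Ideal.map φ J ≤ RingHom.ker ψ.toRingHom := by
    rw [Ideal.map_le_iff_le_comap]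
    intro t ht
    change ψ (1 ⊗ₜ t) = 0
    simp only [ψ, Algebra.TensorProduct.map_tmul, AlgHom.coe_id, id_eq]
    have : (Ideal.Quotient.mkₐ A J) t = 0 := Ideal.Quotient.eq_zero_iff_mem.mpr ht
    rw [this, tmul_zero]
  have h1 : (1 : K) ⊗ₜ[A] (Ideal.Quotient.mk J x : C') = 0 := by
    have h2 : φ x ∈ Ideal.map φ J := hmap ▸ Ideal.mem_map_of_mem φ hx
    have h3 := hker h2
    change ψ (1 ⊗ₜ x) = 0 at h3
    simp only [ψ, Algebra.TensorProduct.map_tmul, AlgHom.coe_id, id_eq] at h3
    exact h3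
  obtain ⟨c, hc⟩ := (IsLocalizedModule.eq_zero_iff (nonZeroDivisors A)
    (TensorProduct.mk A K C' 1)).mp h1
  -- now in `A_a ⊗ C'`
  have hpow : Submonoid.powers a ≤ nonZeroDivisors A :=
    Submonoid.powers_le.mpr (mem_nonZeroDivisors_of_ne_zero ha)
  haveI : IsDomain (Localization.Away a) := IsLocalization.isDomain_localization hpow
  have hc0 : algebraMap A (Localization.Away a) (c : A) ≠ 0 := by
    intro h0
    have := (IsLocalization.injective (Localization.Away a) hpow)
      (h0.trans (map_zero _).symm)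
    exact nonZeroDivisors.ne_zero c.2 this
  have h4 : (1 : Localization.Away a) ⊗ₜ[A] (Ideal.Quotient.mk J x : C') = 0 := by
    have h5 : algebraMap A (Localization.Away a) (c : A) •
        ((1 : Localization.Away a) ⊗ₜ[A] (Ideal.Quotient.mk J x : C')) = 0 := by
      rw [algebraMap_smul, TensorProduct.smul_tmul', TensorProduct.smul_tmul]
      have : (c : A) • (Ideal.Quotient.mk J x : C') = 0 := hc
      rw [this, tmul_zero]
    haveI : Module.IsTorsionFree (Localization.Away a) (Localization.Away a ⊗[A] C') :=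
      Module.Free.instIsTorsionFree _ _
    exact (smul_eq_zero_iff_right hc0).mp h5
  obtain ⟨s, hs⟩ := (IsLocalizedModule.eq_zero_iff (Submonoid.powers a)
    (TensorProduct.mk A (Localization.Away a) C' 1)).mp h4
  obtain ⟨N, hN⟩ := s.2
  refine ⟨N, ?_⟩
  have h6 : (a ^ N) • (Ideal.Quotient.mk J x : C') = 0 := by
    have : (s : A) • (Ideal.Quotient.mk J x : C') = 0 := hs
    rwa [← hN] at this
  rw [← Ideal.Quotient.eq_zero_iff_mem]
  rw [Algebra.smul_def, map_mul]
  rw [Algebra.smul_def] at h6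
  exact h6

theorem exists_isCompact_inter_basicOpen {A : Type u} [CommRing A] [IsDomain A] {C : Type u}
    [CommRing C] [Algebra A C] [Algebra.FiniteType A C] (W : Set (PrimeSpectrum C))
    (hW : IsOpen W) :
    ∃ a : A, a ≠ 0 ∧ ∀ a' : A,
      IsCompact (W ∩ (PrimeSpectrum.basicOpen (algebraMap A C (a * a')) : Set (PrimeSpectrum C))) := by
  classical
  obtain ⟨a, ha, T, hTI, hT⟩ := exists_fg_le_of_finiteType (A := A)
    (PrimeSpectrum.vanishingIdeal Wᶜ)
  refine ⟨a, ha, fun a' => ?_⟩
  have hWc : PrimeSpectrum.zeroLocus (PrimeSpectrum.vanishingIdeal Wᶜ : Set C) = Wᶜ := by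
    rw [PrimeSpectrum.zeroLocus_vanishingIdeal_eq_closure, hW.isClosed_compl.closure_eq]
  have key : W ∩ (PrimeSpectrum.basicOpen (algebraMap A C (a * a')) : Set (PrimeSpectrum C)) =
      ⋃ t ∈ T, (PrimeSpectrum.basicOpen (t * algebraMap A C (a * a')) : Set (PrimeSpectrum C)) := by
    ext 𝔮
    simp only [Set.mem_inter_iff, Set.mem_iUnion, SetLike.mem_coe, PrimeSpectrum.mem_basicOpen,
      exists_prop]
    constructor
    · rintro ⟨hqW, hqa⟩
      have h1 : 𝔮 ∉ PrimeSpectrum.zeroLocus (PrimeSpectrum.vanishingIdeal Wᶜ : Set C) := by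
        rw [hWc]
        exact fun h => h hqW
      rw [PrimeSpectrum.mem_zeroLocus, Set.not_subset] at h1
      obtain ⟨x, hxI, hxq⟩ := h1
      obtain ⟨N, hN⟩ := hT x hxI
      have haq : algebraMap A C a ∉ 𝔮.asIdeal := by
        intro h
        apply hqa
        rw [map_mul]
        exact 𝔮.asIdeal.mul_mem_right _ h
      have h2 : a ^ N • x ∉ 𝔮.asIdeal := by
        rw [Algebra.smul_def, map_pow]
        intro h
        rcases 𝔮.isPrime.mem_or_mem h with h | h
        · exact haq (𝔮.isPrime.mem_of_pow_mem N h)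
        · exact hxq h
      have h3 : ¬ ((T : Set C) ⊆ 𝔮.asIdeal) := by
        intro h
        exact h2 (Ideal.span_le.mpr h hN)
      rw [Set.not_subset] at h3
      obtain ⟨t, htT, htq⟩ := h3
      refine ⟨t, htT, ?_⟩
      intro h
      rcases 𝔮.isPrime.mem_or_mem h with h | h
      · exact htq h
      · exact hqa h
    · rintro ⟨t, htT, htq⟩
      have h1 : t ∉ 𝔮.asIdeal := fun h => htq (𝔮.asIdeal.mul_mem_right _ h)
      have h2 : algebraMap A C (a * a') ∉ 𝔮.asIdeal := fun h => htq (𝔮.asIdeal.mul_mem_left _ h)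
      refine ⟨?_, h2⟩
      by_contra hqW
      have h3 : 𝔮 ∈ PrimeSpectrum.zeroLocus (PrimeSpectrum.vanishingIdeal Wᶜ : Set C) := by
        rw [hWc]
        exact hqW
      rw [PrimeSpectrum.mem_zeroLocus] at h3
      exact h1 (h3 (hTI htT))
  rw [key]
  exact T.finite_toSet.isCompact_biUnion fun t _ => PrimeSpectrum.isCompact_basicOpen _

end Groth.Agent.Lib.helper9.GenFibPI
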