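import Mathlib
import Groth.Agent.Lib.Helper9.GenFibPI3

/-!
# helper9: generic quasi-separatedness

`p : P ⟶ S` locally of finite type and quasi-compact over an integral affine scheme `S`: there is
`a ≠ 0` in `Γ(S, ⊤)` such that `p ⁻¹ D(a)` is quasi-separated.
-/

set_option autoImplicit false
set_option linter.style.haveILetI false
set_option backward.isDefEq.respectTransparency false
universe u

namespace Groth.Agent.Lib.helper9.GenFibPI

open AlgebraicGeometry CategoryTheory Limits TopologicalSpace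

theorem exists_isCompact_inter_preimage_basicOpen {P S : Scheme.{u}} (p : P ⟶ S) [IsAffine S]
    [IsIntegral S] [LocallyOfFiniteType p] {U : P.Opens} (hU : IsAffineOpen U) (W : P.Opens)
    (hWU : W ≤ U) :
    ∃ a : Γ(S, ⊤), a ≠ 0 ∧ ∀ a' : Γ(S, ⊤),
      IsCompact ((W : Set P) ∩ (p ⁻¹ᵁ S.basicOpen (a * a') : Set P)) := by
  have e : U ≤ p ⁻¹ᵁ (⊤ : S.Opens) := le_top
  letI := (p.appLE ⊤ U e).hom.toAlgebra
  haveI : Algebra.FiniteType Γ(S, ⊤) Γ(P, U) :=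
    HasRingHomProperty.appLE (P := @LocallyOfFiniteType) p inferInstance
      ⟨⊤, isAffineOpen_top S⟩ ⟨U, hU⟩ e
  obtain ⟨a, ha, hcomp⟩ := exists_isCompact_inter_basicOpen (A := Γ(S, ⊤)) (C := Γ(P, U))
    (hU.fromSpec ⁻¹' (W : Set P))
    (hU.fromSpec ⁻¹ᵁ W).isOpen
  refine ⟨a, ha, fun a' => ?_⟩
  have h1 := (hcomp a').image hU.fromSpec.continuous
  convert h1 using 1
  have h2 : ((PrimeSpectrum.basicOpen (algebraMap Γ(S, ⊤) Γ(P, U) (a * a')) :
      Opens (PrimeSpectrum Γ(P, U))) : Set (PrimeSpectrum Γ(P, U))) =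
      hU.fromSpec ⁻¹' (P.basicOpen (p.appLE ⊤ U e (a * a')) : Set P) := by
    rw [← hU.fromSpec_preimage_basicOpen]
    rfl
  rw [h2]
  change _ = hU.fromSpec '' (hU.fromSpec ⁻¹' (W : Set P) ∩ _)
  rw [← Set.preimage_inter, Set.image_preimage_eq_inter_range, hU.range_fromSpec,
    Scheme.basicOpen_appLE]
  ext z
  simp only [Set.mem_inter_iff, SetLike.mem_coe, Opens.coe_inf, Set.mem_inter_iff]
  constructor
  · rintro ⟨h3, h4⟩
    exact ⟨⟨h3, hWU h3, h4⟩, hWU h3⟩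
  · rintro ⟨⟨h3, -, h4⟩, -⟩
    exact ⟨h3, h4⟩

theorem exists_isQuasiSeparated_preimage_basicOpen {P S : Scheme.{u}} (p : P ⟶ S) [IsAffine S]
    [IsIntegral S] [LocallyOfFiniteType p] [QuasiCompact p] :
    ∃ a : Γ(S, ⊤), a ≠ 0 ∧ IsQuasiSeparated (p ⁻¹ᵁ S.basicOpen a : Set P) := by
  classical
  haveI : CompactSpace P := QuasiCompact.compactSpace_of_compactSpace p
  let 𝒰 := P.affineCover.finiteSubcover
  haveI : Finite 𝒰.I₀ := inferInstance
  letI : Fintype 𝒰.I₀ := Fintype.ofFinite _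
  let U : 𝒰.I₀ → P.Opens := fun i => (𝒰.f i).opensRange
  have hU : ∀ i, IsAffineOpen (U i) := fun i => isAffineOpen_opensRange (𝒰.f i)
  have hcov : ⨆ i, U i = ⊤ := 𝒰.iSup_opensRange
  have hcore : ∀ x : 𝒰.I₀ × 𝒰.I₀, ∃ a : Γ(S, ⊤), a ≠ 0 ∧ ∀ a' : Γ(S, ⊤),
      IsCompact (((U x.1 ⊓ U x.2 : P.Opens) : Set P) ∩ (p ⁻¹ᵁ S.basicOpen (a * a') : Set P)) :=
    fun x => exists_isCompact_inter_preimage_basicOpen p (hU x.1) (U x.1 ⊓ U x.2) inf_le_left
  choose a ha hcomp using hcore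
  let b : Γ(S, ⊤) := ∏ x, a x
  have hb : b ≠ 0 := Finset.prod_ne_zero_iff.mpr fun x _ => ha x
  refine ⟨b, hb, ?_⟩
  let Q : P.Opens := p ⁻¹ᵁ S.basicOpen b
  rw [isQuasiSeparated_iff_quasiSeparatedSpace _ Q.isOpen]
  change QuasiSeparatedSpace ↥(Q : Scheme.{u})
  refine Scheme.quasiSeparatedSpace_of_isOpenCover (X := (Q : Scheme.{u}))
    (fun i => Q.ι ⁻¹ᵁ U i) ?_ ?_ ?_
  · change (⨆ i, Q.ι ⁻¹ᵁ U i) = ⊤
    rw [← Scheme.Hom.preimage_iSup, hcov]
    rfl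
  · intro i
    apply Q.ι.isAffineOpen_iff_of_isOpenImmersion.mp
    rw [Scheme.Hom.image_preimage_eq_opensRange_inf, Scheme.Opens.opensRange_ι, inf_comm]
    have e : U i ≤ p ⁻¹ᵁ (⊤ : S.Opens) := le_top
    rw [← Scheme.basicOpen_appLE p (U i) ⊤ e b]
    exact (hU i).basicOpen _
  · intro i j
    rw [Q.ι.isOpenEmbedding.isInducing.isCompact_iff]
    have h1 := hcomp (i, j) (∏ x ∈ (Finset.univ.erase (i, j)), a x)
    rw [Finset.mul_prod_erase Finset.univ a (Finset.mem_univ _)] at h1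
    convert h1 using 1
    change Q.ι '' (Q.ι ⁻¹' (U i : Set P) ∩ Q.ι ⁻¹' (U j : Set P)) = _
    rw [← Set.preimage_inter, Set.image_preimage_eq_inter_range, Scheme.Opens.range_ι]
    rfl

theorem quasiSeparated_of_isPullback {P P' S S' : Scheme.{u}} {c : P' ⟶ P} {p' : P' ⟶ S'}
    {p : P ⟶ S} {j : S' ⟶ S} (h : IsPullback c p' p j) [IsOpenImmersion j] [IsAffine S']
    (Q : S.Opens) (hQ : IsQuasiSeparated (p ⁻¹ᵁ Q : Set P)) (hj : Set.range j ⊆ Q) :
    QuasiSeparated p' := by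
  haveI : IsOpenImmersion c := MorphismProperty.of_isPullback h.flip inferInstance
  have h1 : IsQuasiSeparated (c '' (Set.univ : Set P')) := by
    refine hQ.of_subset ?_
    rintro _ ⟨z, -, rfl⟩
    change p (c z) ∈ Q
    have h2 : p (c z) = j (p' z) := by
      rw [← Scheme.Hom.comp_apply, ← Scheme.Hom.comp_apply, h.w]
    rw [h2]
    exact hj ⟨_, rfl⟩
  haveI : QuasiSeparatedSpace P' :=
    isQuasiSeparated_univ_iff.mp (c.isOpenEmbedding.isQuasiSeparated_iff.mpr h1)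
  infer_instance

end Groth.Agent.Lib.helper9.GenFibPI
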