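import Mathlib
import Groth.Agent.Lib.Helper5.FiberReduced

/-!
# helper9: categorical kit for S1358

* `exists_baseChange_kit`: base change of `r₀ : X'₀ ⟶ X ×_Y Y'₀` along `Y' ⟶ Y'₀`.
* `of_isPullback_of_range_subset`: a base change of `q₀` along `j` with range in `U` has every
  base-change-stable property that `q₀ ∣_ U` has.
* `exists_fiber_comp`: the fibre of `r ≫ p` is the base change of `r` to the fibre of `p`.
* `isReduced_fiber_genericPoint`: the generic fibre of a reduced scheme over an irreducible scheme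
  is reduced.
* `residueField_transfer`.
-/

set_option autoImplicit false
set_option linter.style.haveILetI false
set_option backward.isDefEq.respectTransparency false
universe u

namespace Groth.Agent.Lib.helper9.GenFibPI

open AlgebraicGeometry CategoryTheory Limits TopologicalSpace

theorem exists_baseChange_kit {X Y Y'₀ Y' X'₀ : Scheme.{u}} (f : X ⟶ Y) (h₀ : Y'₀ ⟶ Y)
    (j : Y' ⟶ Y'₀) (h : Y' ⟶ Y) (hh : h = j ≫ h₀) (r₀ : X'₀ ⟶ pullback f h₀) :
    ∃ (X' : Scheme.{u}) (r : X' ⟶ pullback f h) (i : X' ⟶ X'₀)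
      (c : pullback f h ⟶ pullback f h₀),
      IsPullback i r r₀ c ∧ IsPullback c (pullback.snd f h) (pullback.snd f h₀) j ∧
      IsPullback i (r ≫ pullback.snd f h) (r₀ ≫ pullback.snd f h₀) j := by
  subst hh
  have hc := IsPullback.of_right' (IsPullback.of_hasPullback f (j ≫ h₀))
    (IsPullback.of_hasPullback f h₀)
  have h1 := IsPullback.of_hasPullback r₀ ((IsPullback.of_hasPullback f h₀).lift
    (pullback.fst f (j ≫ h₀)) (pullback.snd f (j ≫ h₀) ≫ j)
    (by rw [(IsPullback.of_hasPullback f (j ≫ h₀)).w, Category.assoc]))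
  exact ⟨_, _, _, _, h1, hc, h1.paste_vert hc⟩

theorem of_isPullback_of_range_subset (P : MorphismProperty Scheme.{u}) [P.IsStableUnderBaseChange]
    {X' X₀ Y' Y₀ : Scheme.{u}} {i : X' ⟶ X₀} {q' : X' ⟶ Y'} {q₀ : X₀ ⟶ Y₀} {j : Y' ⟶ Y₀}
    (h : IsPullback i q' q₀ j) (U : Y₀.Opens) (hU : P (q₀ ∣_ U)) (hj : Set.range j ⊆ U) :
    P q' := by
  have hr : Set.range j ⊆ Set.range U.ι := by
    rw [Scheme.Opens.range_ι]
    exact hj
  have hj' : IsOpenImmersion.lift U.ι j hr ≫ U.ι = j := IsOpenImmersion.lift_fac _ _ _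
  have s : IsPullback i q' q₀ (IsOpenImmersion.lift U.ι j hr ≫ U.ι) := by
    rw [hj']
    exact h
  exact MorphismProperty.of_isPullback (IsPullback.of_right' s (isPullback_morphismRestrict q₀ U).flip)
    hU

theorem exists_fiber_comp {X' P Y' : Scheme.{u}} (r : X' ⟶ P) (p : P ⟶ Y') (y : Y') :
    ∃ ρ : (r ≫ p).fiber y ⟶ p.fiber y, IsPullback ((r ≫ p).fiberι y) ρ r (p.fiberι y) ∧
      ρ ≫ p.fiberToSpecResidueField y = (r ≫ p).fiberToSpecResidueField y := by
  have s : IsPullback ((r ≫ p).fiberι y) ((r ≫ p).fiberToSpecResidueField y) (r ≫ p)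
      (Y'.fromSpecResidueField y) := IsPullback.of_hasPullback _ _
  have t : IsPullback (p.fiberι y) (p.fiberToSpecResidueField y) p
      (Y'.fromSpecResidueField y) := IsPullback.of_hasPullback _ _
  exact ⟨_, IsPullback.of_bot' s t, t.lift_snd _ _ _⟩

theorem isReduced_fiber_genericPoint {X' Y' : Scheme.{u}} (q : X' ⟶ Y') [IsReduced X']
    [IrreducibleSpace Y'] : IsReduced (q.fiber (genericPoint Y')) := by
  refine Groth.Agent.Lib.helper5.FiberReduced.isReduced_fiber_of_forall_specializes q _ ?_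
  intro y hy
  exact (hy.antisymm (genericPoint_specializes y)).eq

theorem residueField_transfer {Y Y'₀ Y' : Scheme.{u}} (j : Y' ⟶ Y'₀) [IsOpenImmersion j]
    (h₀ : Y'₀ ⟶ Y) (h : Y' ⟶ Y) (hh : h = j ≫ h₀) (y' : Y') (y₀ : Y'₀) (hy : j y' = y₀)
    (η : Y) (hs₀ : h₀ y₀ = η) (k' : Type u) [Field k'] [Algebra (Y.residueField η) k']
    (a₀ : Y'₀.residueField y₀ ⟶ .of k') (ha₀ : Function.Bijective a₀)
    (hcomp₀ : (Y.residueFieldCongr hs₀).inv ≫ h₀.residueFieldMap y₀ ≫ a₀ =
      CommRingCat.ofHom (algebraMap (Y.residueField η) k')) :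
    ∃ (hs : h y' = η) (a : Y'.residueField y' ⟶ .of k'), Function.Bijective a ∧
      (Y.residueFieldCongr hs).inv ≫ h.residueFieldMap y' ≫ a =
        CommRingCat.ofHom (algebraMap (Y.residueField η) k') := by
  subst hh
  subst hy
  subst hs₀
  refine ⟨rfl, inv (j.residueFieldMap y') ≫ a₀, ?_, ?_⟩
  · have h1 : Function.Bijective (inv (j.residueFieldMap y')) :=
      (ConcreteCategory.isIso_iff_bijective _).mp inferInstance
    have h2 : ⇑(ConcreteCategory.hom (inv (j.residueFieldMap y') ≫ a₀)) =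
        ⇑(ConcreteCategory.hom a₀) ∘ ⇑(ConcreteCategory.hom (inv (j.residueFieldMap y'))) := by
      ext z
      rfl
    rw [h2]
    exact ha₀.comp h1
  · rw [Scheme.residueFieldMap_comp]
    simp only [Category.assoc, IsIso.hom_inv_id_assoc]
    exact hcomp₀

end Groth.Agent.Lib.helper9.GenFibPI
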