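import Mathlib
import Groth.Prelude.Def_Flat
import Groth.Agent.S0416

/-!
# helper9: shrinking a finite universal homeomorphism `Y'₀ ⟶ V₀ ⊆ Y` over a smaller basic open
so that the source lands in a given nonempty open of `Y'₀`.
-/

set_option autoImplicit false
set_option linter.style.haveILetI false
set_option backward.isDefEq.respectTransparency false
universe u

namespace Groth.Agent.Lib.helper9.GenFibPI

open AlgebraicGeometry CategoryTheory Limits TopologicalSpace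

theorem exists_shrink {Y : Scheme.{u}} (η : Y) (V₀ : Y.Opens) (hV₀ : IsAffineOpen V₀)
    {Y'₀ : Scheme.{u}} (g₀ : Y'₀ ⟶ (V₀ : Scheme.{u})) [IsIntegral Y'₀] (hfin : IsFinite g₀)
    (huh : FlatMor.IsUnivHomeo g₀) (hs₀ : (g₀ ≫ V₀.ι) (genericPoint Y'₀) = η) (U : Y'₀.Opens)
    (hU : (U : Set Y'₀).Nonempty) :
    ∃ (V : Y.Opens) (Y' : Scheme.{u}) (g : Y' ⟶ (V : Scheme.{u})) (j : Y' ⟶ Y'₀)
      (_ : IsIntegral Y'),
      η ∈ V ∧ IsAffine Y' ∧ IsFinite g ∧ FlatMor.IsUnivHomeo g ∧ IsOpenImmersion j ∧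
      g ≫ V.ι = j ≫ (g₀ ≫ V₀.ι) ∧ Set.range j ⊆ U ∧ j (genericPoint Y') = genericPoint Y'₀ := by
  have hhomeo : IsHomeomorph g₀ := huh (𝟙 _) (𝟙 _) g₀ (IsPullback.of_id_snd)
  have hinj : Function.Injective (g₀ ≫ V₀.ι) := by
    intro x y hxy
    apply hhomeo.injective
    apply V₀.ι.isOpenEmbedding.injective
    exact hxy
  have hη'U : genericPoint Y'₀ ∈ U := by
    have := ((genericPoint_spec Y'₀).mem_open_set_iff U.isOpen).mpr (by simpa using hU)
    exact this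
  have hηV₀ : η ∈ V₀ := by
    rw [← hs₀]
    exact (g₀ (genericPoint Y'₀)).2
  let V₁ : Y.Opens := ⟨(g₀ ≫ V₀.ι) '' (U : Set Y'₀), by
    rw [Scheme.Hom.comp_base, TopCat.coe_comp, Set.image_comp]
    exact V₀.ι.isOpenEmbedding.isOpenMap _ (hhomeo.isOpenMap _ U.isOpen)⟩
  have hηV₁ : η ∈ V₁ := ⟨genericPoint Y'₀, hη'U, hs₀⟩
  obtain ⟨f, hfV₁, hηf⟩ := hV₀.exists_basicOpen_le (V := V₁) ⟨η, hηV₁⟩ hηV₀
  have hle : Y.basicOpen f ≤ V₀ := Y.basicOpen_le f
  have hVaff : IsAffineOpen (Y.basicOpen f) := hV₀.basicOpen f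
  let j : pullback g₀ (Y.homOfLE hle) ⟶ Y'₀ := pullback.fst _ _
  let g : pullback g₀ (Y.homOfLE hle) ⟶ (Y.basicOpen f : Scheme.{u}) := pullback.snd _ _
  have hgj : g ≫ (Y.basicOpen f).ι = j ≫ (g₀ ≫ V₀.ι) := by
    rw [← Y.homOfLE_ι hle, ← Category.assoc, ← Category.assoc]
    congr 1
    exact pullback.condition.symm
  have hrange : Set.range j = g₀ ⁻¹' Set.range (Y.homOfLE hle) := Scheme.Pullback.range_fst _ _
  have hmem : ∀ y' : Y'₀, y' ∈ Set.range j ↔ (g₀ ≫ V₀.ι) y' ∈ Y.basicOpen f := by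
    intro y'
    rw [hrange, Set.mem_preimage]
    constructor
    · rintro ⟨z, hz⟩
      have : (g₀ ≫ V₀.ι) y' = (Y.basicOpen f).ι z := by
        rw [← Y.homOfLE_ι hle, Scheme.Hom.comp_apply, Scheme.Hom.comp_apply, hz]
      rw [this]
      exact z.2
    · intro hy'
      refine ⟨⟨(g₀ ≫ V₀.ι) y', hy'⟩, ?_⟩
      rw [Scheme.homOfLE_apply']
      rfl
  have hjU : Set.range j ⊆ U := by
    intro y' hy'
    have h1 : (g₀ ≫ V₀.ι) y' ∈ V₁ := hfV₁ ((hmem y').mp hy')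
    obtain ⟨u, hu, huy⟩ := h1
    rw [← hinj huy]
    exact hu
  have hη'j : genericPoint Y'₀ ∈ Set.range j := by
    rw [hmem, hs₀]
    exact hηf
  haveI : Nonempty ↥(pullback g₀ (Y.homOfLE hle)) := by
    obtain ⟨z, -⟩ := hη'j
    exact ⟨z⟩
  haveI hint : IsIntegral (pullback g₀ (Y.homOfLE hle)) := isIntegral_of_isOpenImmersion j
  haveI : IsAffine (Y.basicOpen f : Scheme.{u}) := hVaff
  haveI : IsFinite g := MorphismProperty.pullback_snd (P := @IsFinite) _ _ hfin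
  haveI : IsAffine (pullback g₀ (Y.homOfLE hle)) := isAffine_of_isAffineHom g
  haveI := Groth.Agent.S0416.stableBC.{u}
  have huh' : FlatMor.IsUnivHomeo g :=
    MorphismProperty.pullback_snd (P := FlatMor.IsUnivHomeo) _ _ huh
  exact ⟨Y.basicOpen f, _, g, j, hint, hηf, inferInstance, inferInstance, huh', inferInstance,
    hgj, hjU, genericPoint_eq_of_isOpenImmersion j⟩

end Groth.Agent.Lib.helper9.GenFibPI
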