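import Mathlib
import Groth.Agent.Lib.Helper9.PISmooth2
import Groth.Agent.Lib.Helper12.Chow6
import Groth.Agent.Lib.Helper18.NilThickScheme
import Groth.Agent.Lib.Helper1.SmoothReduced

/-!
# helper9: the reduction of `X_{k'}` is geometrically reduced for a suitable finite purely
inseparable extension `k'/k` (`X` locally of finite type with finitely many irreducible components)

* `isReduced_nilradical_subscheme`
* `exists_iso_of_reduced_closedImmersions`: two reduced closed subschemes with full support
  are isomorphic.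
* `geometricallyReduced_of_dense_smooth`: a reduced scheme locally of finite type over a field with a
  dense smooth open is geometrically reduced.
* `exists_purelyInseparable_reduction_geometricallyReduced`.
-/

set_option autoImplicit false
set_option linter.style.haveILetI false
set_option backward.isDefEq.respectTransparency false

universe u

open CategoryTheory CategoryTheory.Limits AlgebraicGeometry TensorProduct

namespace Groth.Agent.Lib.helper9.PISmooth

theorem isReduced_radical_subscheme {X : Scheme.{u}} (I : X.IdealSheafData) :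
    AlgebraicGeometry.IsReduced I.radical.subscheme := by
  rw [IsReduced.iff_of_openCover (X := I.radical.subscheme) I.radical.subschemeCover.openCover]
  intro (U : X.affineOpens)
  change AlgebraicGeometry.IsReduced (Spec (.of (Γ(X, U.1) ⧸ I.radical.ideal U)))
  rw [affine_isReduced_iff, ← Ideal.isRadical_iff_quotient_reduced]
  change ((I.ideal U).radical).IsRadical
  exact Ideal.radical_isRadical _

instance isReduced_nilradical_subscheme (X : Scheme.{u}) :
    AlgebraicGeometry.IsReduced X.nilradical.subscheme :=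
  isReduced_radical_subscheme ⊥

theorem surjective_nilradical_subschemeι (X : Scheme.{u}) :
    Function.Surjective X.nilradical.subschemeι.base := by
  intro x
  have : x ∈ Set.range X.nilradical.subschemeι := by
    rw [Scheme.IdealSheafData.range_subschemeι, Scheme.support_nilradical]
    trivial
  exact this

theorem exists_iso_of_reduced_closedImmersions {P Z₁ Z₂ : Scheme.{u}} (i₁ : Z₁ ⟶ P) (i₂ : Z₂ ⟶ P)
    [IsClosedImmersion i₁] [IsClosedImmersion i₂] [AlgebraicGeometry.IsReduced Z₁]
    [AlgebraicGeometry.IsReduced Z₂] (h₁ : Function.Surjective i₁.base)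
    (h₂ : Function.Surjective i₂.base) : ∃ e : Z₁ ≅ Z₂, e.hom ≫ i₂ = i₁ := by
  haveI : Surjective i₁ := ⟨h₁⟩
  haveI : Surjective i₂ := ⟨h₂⟩
  haveI : IsIso (pullback.fst i₁ i₂) := isIso_of_isClosedImmersion_of_surjective _
  haveI : IsIso (pullback.snd i₁ i₂) := isIso_of_isClosedImmersion_of_surjective _
  refine ⟨(asIso (pullback.fst i₁ i₂)).symm ≪≫ asIso (pullback.snd i₁ i₂), ?_⟩
  simp only [Iso.trans_hom, Iso.symm_hom, asIso_inv, asIso_hom, Category.assoc,
    IsIso.inv_comp_eq]
  exact pullback.condition.symm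

theorem geometricallyReduced_of_dense_smooth {K : Type u} [Field K] {Z : Scheme.{u}}
    (g : Z ⟶ Spec (CommRingCat.of K)) [AlgebraicGeometry.IsReduced Z] [LocallyOfFiniteType g]
    (U : Z.Opens) (hU : Dense (U : Set Z)) (hsm : Smooth (U.ι ≫ g)) :
    GeometricallyReduced g := by
  refine ⟨(geometrically_iff_of_commRing_of_isClosedUnderIsomorphisms).mpr fun L _ _ => ?_⟩
  set ψ := Spec.map (CommRingCat.ofHom (algebraMap K L)) with hψ
  haveI : IsLocallyNoetherian Z := LocallyOfFiniteType.isLocallyNoetherian g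
  haveI : IsDominant U.ι := ⟨by
    rw [DenseRange, Scheme.Opens.range_ι]
    exact hU⟩
  haveI : IsSchemeTheoreticallyDominant U.ι := IsSchemeTheoreticallyDominant.of_isDominant U.ι
  haveI : Flat ψ := inferInstance
  haveI : Flat (pullback.fst g ψ) := inferInstance
  haveI : IsSchemeTheoreticallyDominant (pullback.snd U.ι (pullback.fst g ψ)) := inferInstance
  haveI : QuasiCompact (pullback.snd U.ι (pullback.fst g ψ)) := inferInstance
  haveI : Smooth (pullback.snd (U.ι ≫ g) ψ) := inferInstance
  haveI : AlgebraicGeometry.IsReduced (pullback (U.ι ≫ g) ψ) :=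
    Groth.Agent.H1.SmoothReduced.isReduced_of_smooth (pullback.snd (U.ι ≫ g) ψ)
  haveI : AlgebraicGeometry.IsReduced (pullback U.ι (pullback.fst g ψ)) :=
    isReduced_of_isOpenImmersion (pullbackRightPullbackFstIso g ψ U.ι).hom
  exact IsSchemeTheoreticallyDominant.isReduced (pullback.snd U.ι (pullback.fst g ψ))

theorem range_comp_of_surjective {A B C : Scheme.{u}} (e : A ⟶ B) (a : B ⟶ C)
    (he : Function.Surjective e.base) : Set.range (e ≫ a) = Set.range a := by
  ext x
  constructor
  · rintro ⟨y, rfl⟩
    exact ⟨e y, (Scheme.Hom.comp_apply e a y).symm⟩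
  · rintro ⟨y, rfl⟩
    obtain ⟨z, rfl⟩ := he y
    exact ⟨z, Scheme.Hom.comp_apply e a z⟩

theorem range_fst_of_isPullback {P A B S : Scheme.{u}} {fst : P ⟶ A} {snd : P ⟶ B} {f : A ⟶ S}
    {g : B ⟶ S} (h : IsPullback fst snd f g) : Set.range fst = f.base ⁻¹' Set.range g := by
  have h1 := range_comp_of_surjective h.isoPullback.hom (pullback.fst f g)
    h.isoPullback.hom.homeomorph.surjective
  rw [h.isoPullback_hom_fst] at h1
  rw [h1, Scheme.Pullback.range_fst]

theorem exists_purelyInseparable_reduction_geometricallyReduced (k : Type u) [Field k]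
    {X : Scheme.{u}} (p : X ⟶ Spec (CommRingCat.of k)) [LocallyOfFiniteType p]
    (hirr : (irreducibleComponents X).Finite) :
    ∃ (k' : Type u) (_ : Field k') (_ : Algebra k k'), FiniteDimensional k k' ∧
      IsPurelyInseparable k k' ∧
      GeometricallyReduced
        ((pullback p (Spec.map (CommRingCat.ofHom (algebraMap k k')))).nilradical.subschemeι ≫
          pullback.snd p (Spec.map (CommRingCat.ofHom (algebraMap k k')))) := by
  obtain ⟨U₀, -, hU₀aff, hU₀dense, -, -, -⟩ :=
    Groth.Agent.Lib.helper12.Chow6.exists_good_opens hirr (fun i : Fin 0 => i.elim0)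
      (fun i => i.elim0)
  haveI : IsAffine U₀ := hU₀aff
  obtain ⟨k', _, _, hfin, hpi, Z₀, hZ₀, i₀, W₀, h1, h2, h3, h4⟩ := affine_case' k (U₀.ι ≫ p)
  refine ⟨k', _, _, hfin, hpi, ?_⟩
  let ψ : Spec (CommRingCat.of k') ⟶ Spec (CommRingCat.of k) :=
    Spec.map (CommRingCat.ofHom (algebraMap k k'))
  let X' : Scheme.{u} := pullback p ψ
  let Z : Scheme.{u} := X'.nilradical.subscheme
  let ι : Z ⟶ X' := X'.nilradical.subschemeι
  change GeometricallyReduced (ι ≫ pullback.snd p ψ)
  -- the open immersion `P ⟶ X'`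
  let j : pullback (U₀.ι ≫ p) ψ ⟶ X' :=
    pullback.map (U₀.ι ≫ p) ψ p ψ U₀.ι (𝟙 _) (𝟙 _) (by simp) (by simp)
  have hj_snd : j ≫ pullback.snd p ψ = pullback.snd _ _ := by simp [j]
  have hj_fst : j ≫ pullback.fst p ψ = pullback.fst _ _ ≫ U₀.ι := by simp [j]
  have hjpb : IsPullback j (pullback.fst (U₀.ι ≫ p) ψ) (pullback.fst p ψ) U₀.ι := by
    refine IsPullback.of_right ?_ hj_fst (IsPullback.of_hasPullback p ψ).flip
    rw [hj_snd]
    exact (IsPullback.of_hasPullback (U₀.ι ≫ p) ψ).flip
  -- the open part of the reduction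
  let a : pullback ι j ⟶ Z := pullback.fst ι j
  let b : pullback ι j ⟶ pullback (U₀.ι ≫ p) ψ := pullback.snd ι j
  haveI : Surjective ι := ⟨surjective_nilradical_subschemeι X'⟩
  haveI : AlgebraicGeometry.IsReduced (pullback ι j) := isReduced_of_isOpenImmersion a
  obtain ⟨e, he⟩ := exists_iso_of_reduced_closedImmersions i₀ b h2 b.surjective
  let l : Z₀ ⟶ Z := e.hom ≫ a
  have hl : l ≫ ι = i₀ ≫ j := by
    simp only [l, Category.assoc]
    rw [show a ≫ ι = b ≫ j from pullback.condition, ← Category.assoc, he]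
  -- density
  have hrange_l : Set.range l = ι.base ⁻¹' ((pullback.fst p ψ).base ⁻¹' (U₀ : Set X)) := by
    have h5 : Set.range l = Set.range a :=
      range_comp_of_surjective e.hom a e.hom.homeomorph.surjective
    rw [h5, Scheme.Pullback.range_fst]
    congr 1
    rw [range_fst_of_isPullback hjpb, Scheme.Opens.range_ι]
  have hι_open : IsOpenMap ι := by
    intro s hs
    have hbij : Function.Bijective ι :=
      ⟨ι.isClosedEmbedding.injective, surjective_nilradical_subschemeι X'⟩
    have : ι '' s = (ι '' sᶜ)ᶜ := by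
      rw [Set.image_compl_eq hbij, compl_compl]
    rw [this]
    exact (ι.isClosedEmbedding.isClosedMap _ hs.isClosed_compl).isOpen_compl
  haveI : Subsingleton (Spec (CommRingCat.of k)) :=
    inferInstanceAs (Subsingleton (PrimeSpectrum k))
  haveI : UniversallyOpen ψ := inferInstance
  have hq_open : IsOpenMap (pullback.fst p ψ) := (pullback.fst p ψ).isOpenMap
  have hdense_l : Dense (Set.range l) := by
    rw [hrange_l]
    exact (hU₀dense.preimage hq_open).preimage hι_open
  let O : Z.Opens := l ''ᵁ W₀
  have hO : Dense (O : Set Z) := by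
    have : (O : Set Z) = l '' (W₀ : Set Z₀) := rfl
    rw [this]
    exact DenseRange.dense_image hdense_l l.continuous h3
  -- smoothness
  have hsm : Smooth (O.ι ≫ ι ≫ pullback.snd p ψ) := by
    have hr : Set.range (W₀.ι ≫ l) = Set.range O.ι := by
      rw [Scheme.Opens.range_ι, Scheme.Hom.comp_base, TopCat.coe_comp, Set.range_comp,
        Scheme.Opens.range_ι]
      rfl
    let φ : (W₀ : Scheme.{u}) ≅ O := IsOpenImmersion.isoOfRangeEq (W₀.ι ≫ l) O.ι hr
    have hφ : φ.hom ≫ O.ι = W₀.ι ≫ l := IsOpenImmersion.isoOfRangeEq_hom_fac _ _ _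
    have h6 : O.ι ≫ ι ≫ pullback.snd p ψ =
        φ.inv ≫ (W₀.ι ≫ i₀ ≫ pullback.snd (U₀.ι ≫ p) ψ) := by
      rw [Iso.eq_inv_comp, ← Category.assoc, hφ, Category.assoc, ← Category.assoc l, hl,
        Category.assoc, hj_snd]
    rw [h6]
    infer_instance
  haveI : LocallyOfFiniteType (ι ≫ pullback.snd p ψ) := inferInstance
  exact geometricallyReduced_of_dense_smooth (ι ≫ pullback.snd p ψ) O hO hsm

end Groth.Agent.Lib.helper9.PISmooth
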