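import Mathlib
import Groth.Agent.Lib.Helper9.GenFibPI2
import Groth.Agent.Lib.Helper9.GenFibPI4
import Groth.Agent.Lib.Helper9.GenFibPI5
import Groth.Agent.Lib.Helper9.GenFibPI6
import Groth.Agent.Lib.Helper9.GenFibEt5
import Groth.Agent.Lib.Helper9.PISmooth3
import Groth.Agent.S1629
import Groth.Agent.S0414

/-!
# helper9: generic geometric reducedness after a finite universal homeomorphism (main assembly for
S1358), stated for a point `η` lying in every nonempty open of the base.
-/

set_option autoImplicit false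
set_option linter.style.haveILetI false
set_option backward.isDefEq.respectTransparency false
universe u

namespace Groth.Agent.Lib.helper9.GenFibPI

open AlgebraicGeometry CategoryTheory Limits TopologicalSpace
open Groth.Agent.Lib.helper9.GenFibEt Groth.Agent.Lib.helper9.PISmooth

theorem generic_geometricallyReduced_aux {X Y : Scheme.{u}} (f : X ⟶ Y) [LocallyOfFiniteType f]
    [QuasiCompact f] (η : Y) (hgen : ∀ W : Y.Opens, (W : Set Y).Nonempty → η ∈ W) :
    ∃ (V : Y.Opens) (Y' : Scheme.{u}) (g : Y' ⟶ (V : Scheme.{u})) (X' : Scheme.{u})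
      (r : X' ⟶ pullback f (g ≫ V.ι)) (hY' : IsIntegral Y'),
      (V : Set ↑Y).Nonempty ∧ IsAffine Y' ∧ IsFinite g ∧ FlatMor.IsUnivHomeo g ∧
      IsClosedImmersion r ∧ Surjective r ∧ IsReduced X' ∧
      Flat (r ≫ pullback.snd f (g ≫ V.ι)) ∧
      LocallyOfFinitePresentation (r ≫ pullback.snd f (g ≫ V.ι)) ∧
      QuasiCompact (r ≫ pullback.snd f (g ≫ V.ι)) ∧
      QuasiSeparated (r ≫ pullback.snd f (g ≫ V.ι)) ∧
      GeometricallyReduced
        ((r ≫ pullback.snd f (g ≫ V.ι)).fiberToSpecResidueField (genericPoint ↑Y')) := by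
  -- Step 1: the generic fibre and the purely inseparable extension
  have hlft : LocallyOfFiniteType (f.fiberToSpecResidueField η) :=
    MorphismProperty.pullback_snd (P := @LocallyOfFiniteType) _ _ inferInstance
  have hqc : QuasiCompact (f.fiberToSpecResidueField η) :=
    MorphismProperty.pullback_snd (P := @QuasiCompact) _ _ inferInstance
  letI : (f.fiber η).Over (Spec (CommRingCat.of (Y.residueField η))) :=
    ⟨f.fiberToSpecResidueField η⟩
  haveI : LocallyOfFiniteType ((f.fiber η) ↘ Spec (CommRingCat.of (Y.residueField η))) := hlft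
  have hirr : (irreducibleComponents (f.fiber η)).Finite := by
    haveI : IsLocallyNoetherian (f.fiber η) :=
      LocallyOfFiniteType.isLocallyNoetherian (f.fiberToSpecResidueField η)
    haveI : IsNoetherian (f.fiber η) := { }
    exact finite_irreducibleComponents_of_isNoetherian
  obtain ⟨k', _, _, hfd, hpi, H⟩ :=
    Groth.Agent.S1629.result (Y.residueField η) (f.fiber η) hirr
  -- Step 2: the finite universal homeomorphism
  obtain ⟨V₀, hV₀, Y'₀, g₀, hint₀, hηV₀, haff₀, hfin₀, huh₀, hs₀, a₀, ha₀, hcomp₀⟩ :=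
    exists_finite_univHomeo_cover_aux Y η hgen k'
  -- Step 3: the reduction of the base change
  haveI : IsReduced (pullback f (g₀ ≫ V₀.ι)).nilradical.subscheme :=
    isReduced_nilradical_subscheme _
  haveI : Surjective (pullback f (g₀ ≫ V₀.ι)).nilradical.subschemeι :=
    ⟨surjective_nilradical_subschemeι _⟩
  haveI : LocallyOfFiniteType (pullback.snd f (g₀ ≫ V₀.ι)) :=
    MorphismProperty.pullback_snd (P := @LocallyOfFiniteType) _ _ inferInstance
  haveI : QuasiCompact (pullback.snd f (g₀ ≫ V₀.ι)) :=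
    MorphismProperty.pullback_snd (P := @QuasiCompact) _ _ inferInstance
  -- Step 4: generic flatness and generic quasi-separatedness
  obtain ⟨U₁, hU₁dense, hflat, hlfp⟩ := Groth.Agent.S0414.result
    ((pullback f (g₀ ≫ V₀.ι)).nilradical.subschemeι ≫ pullback.snd f (g₀ ≫ V₀.ι))
  obtain ⟨a, ha, hqs⟩ := exists_isQuasiSeparated_preimage_basicOpen (pullback.snd f (g₀ ≫ V₀.ι))
  have hUne : ((U₁ ⊓ Y'₀.basicOpen a : Y'₀.Opens) : Set Y'₀).Nonempty := by
    have hne : ((Y'₀.basicOpen a : Y'₀.Opens) : Set Y'₀).Nonempty := by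
      rw [Set.nonempty_iff_ne_empty]
      intro h0
      apply ha
      rw [← AlgebraicGeometry.basicOpen_eq_bot_iff]
      exact SetLike.ext' h0
    have := hU₁dense.inter_open_nonempty _ (Y'₀.basicOpen a).isOpen hne
    rw [Set.inter_comm] at this
    exact this
  -- Step 5: shrinking
  obtain ⟨V, Y', g, j, hY', hηV, haff, hfin, huh, hjoi, hgj, hjU, hjgen⟩ :=
    exists_shrink η V₀ hV₀ g₀ hfin₀ huh₀ hs₀ _ hUne
  -- Step 6: the base change kit
  obtain ⟨X', r, i, c, hpb1, hpb2, hpb3⟩ := exists_baseChange_kit f (g₀ ≫ V₀.ι) j (g ≫ V.ι) hgj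
    (pullback f (g₀ ≫ V₀.ι)).nilradical.subschemeι
  haveI hrci : IsClosedImmersion r := MorphismProperty.of_isPullback hpb1 inferInstance
  haveI hrsurj : Surjective r := MorphismProperty.of_isPullback hpb1 inferInstance
  haveI : IsOpenImmersion i := MorphismProperty.of_isPullback hpb3.flip hjoi
  haveI hred : IsReduced X' := isReduced_of_isOpenImmersion i
  haveI : QuasiCompact (pullback.snd f (g ≫ V.ι)) :=
    MorphismProperty.pullback_snd (P := @QuasiCompact) _ _ inferInstance
  haveI : QuasiSeparated (pullback.snd f (g ≫ V.ι)) :=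
    quasiSeparated_of_isPullback hpb2 (Y'₀.basicOpen a) hqs (hjU.trans inf_le_right)
  refine ⟨V, Y', g, X', r, hY', ⟨η, hηV⟩, haff, hfin, huh, hrci, hrsurj, hred, ?_, ?_,
    inferInstance, inferInstance, ?_⟩
  · exact of_isPullback_of_range_subset @Flat hpb3 U₁ hflat (hjU.trans inf_le_left)
  · exact of_isPullback_of_range_subset @LocallyOfFinitePresentation hpb3 U₁ hlfp
      (hjU.trans inf_le_left)
  -- Step 7: the generic fibre
  haveI : IrreducibleSpace Y' := inferInstance
  have hredfib : IsReduced ((r ≫ pullback.snd f (g ≫ V.ι)).fiber (genericPoint Y')) :=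
    isReduced_fiber_genericPoint _
  obtain ⟨ρ, hρpb, hρ⟩ := exists_fiber_comp r (pullback.snd f (g ≫ V.ι)) (genericPoint Y')
  haveI : IsClosedImmersion ρ := MorphismProperty.of_isPullback hρpb hrci
  haveI : Surjective ρ := MorphismProperty.of_isPullback hρpb hrsurj
  obtain ⟨hs, a', ha', hcomp'⟩ := residueField_transfer j (g₀ ≫ V₀.ι) (g ≫ V.ι) hgj
    (genericPoint Y') (genericPoint Y'₀) hjgen η hs₀ k' a₀ ha₀ hcomp₀
  obtain ⟨e, φ, w⟩ := exists_fiber_iso f (g ≫ V.ι) (genericPoint Y') η hs k' a' ha' hcomp'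
  haveI : IsClosedImmersion (ρ ≫ e.hom) := inferInstance
  obtain ⟨θ, hθ⟩ := exists_iso_of_reduced_closedImmersions (ρ ≫ e.hom)
    (pullback (f.fiberToSpecResidueField η)
      (Spec.map (CommRingCat.ofHom (algebraMap (Y.residueField η) k')))).nilradical.subschemeι
    (ρ ≫ e.hom).surjective (surjective_nilradical_subschemeι _)
  have key : (r ≫ pullback.snd f (g ≫ V.ι)).fiberToSpecResidueField (genericPoint Y') ≫ φ.hom =
      θ.hom ≫ ((pullback (f.fiberToSpecResidueField η)
        (Spec.map (CommRingCat.ofHom (algebraMap (Y.residueField η) k')))).nilradical.subschemeι ≫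
        pullback.snd _ _) := by
    rw [← hρ, Category.assoc, w, ← Category.assoc, ← hθ, Category.assoc]
  have h1 : GeometricallyReduced
      ((r ≫ pullback.snd f (g ≫ V.ι)).fiberToSpecResidueField (genericPoint Y') ≫ φ.hom) := by
    rw [key]
    exact (MorphismProperty.cancel_left_of_respectsIso (P := @GeometricallyReduced) θ.hom _).mpr H
  exact (MorphismProperty.cancel_right_of_respectsIso (P := @GeometricallyReduced) _ φ.hom).mp h1

end Groth.Agent.Lib.helper9.GenFibPI
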