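import Mathlib
import Groth.Agent.Lib.Helper9.UnramBrnchGeom
import Groth.Agent.Lib.Helper24.EtaleDescent
import Groth.Agent.Lib.Helper24.StrictHens

/-!
# Stages of the strict henselization of a stalk as stalks of étale neighbourhoods (helper9)
-/

set_option autoImplicit false
set_option linter.style.haveILetI false
set_option backward.isDefEq.respectTransparency false

universe u

namespace Groth.Agent.Lib.helper9.GeomBranchCount

open AlgebraicGeometry CategoryTheory TensorProduct IsLocalRing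
open Groth.Agent.Lib.Helper24.StrictHens Groth.Agent.Lib.Helper24.StrictHens.SIdx
open Groth.Agent.Lib.helper9.UnramCore Groth.Agent.Lib.helper9.UnramGeom

attribute [local instance] Algebra.TensorProduct.rightAlgebra in
/-- Every stage of the strict henselization of the local ring at `x` is the local ring of an étale
neighbourhood of `(X, x)`. -/
theorem exists_etale_stalk_equiv (X : Scheme.{u}) (x : X) {Ω : Type u} [Field Ω]
    [Algebra (X.presheaf.stalk x) Ω] [Algebra (ResidueField (X.presheaf.stalk x)) Ω]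
    [IsScalarTower (X.presheaf.stalk x) (ResidueField (X.presheaf.stalk x)) Ω]
    (i : SIdx (X.presheaf.stalk x) Ω) :
    ∃ (U : Scheme.{u}) (g : U ⟶ X) (u : U), Etale g ∧ g u = x ∧
      Nonempty (U.presheaf.stalk u ≃+* i.G) := by
  obtain ⟨Z, hZfin, hZ⟩ :=
    Groth.Agent.Lib.Helper24.EtaleDescent.exists_finite_descent (X.presheaf.stalk x) i.C
  obtain ⟨V, hV, hxV, hVZ⟩ := exists_affineOpen_germ_range X x Z hZfin
  let algR₀A : Algebra Γ(X, V) (X.presheaf.stalk x) :=
    TopCat.Presheaf.algebra_section_stalk X.presheaf ⟨x, hxV⟩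
  have hloc := hV.isLocalization_stalk ⟨x, hxV⟩
  obtain ⟨E₀, _, _, het, ⟨e⟩⟩ := hZ Γ(X, V) (fun z hz => by
    obtain ⟨s, hs⟩ := hVZ z hz
    exact ⟨s, hs⟩)
  let φ : E₀ →+* i.C := (e : (X.presheaf.stalk x) ⊗[Γ(X, V)] E₀ →+* i.C).comp
    (algebraMap E₀ ((X.presheaf.stalk x) ⊗[Γ(X, V)] E₀))
  have hφ : ∀ r : Γ(X, V), φ (algebraMap Γ(X, V) E₀ r) =
      algebraMap (X.presheaf.stalk x) i.C (algebraMap Γ(X, V) (X.presheaf.stalk x) r) := by
    intro r
    show e ((1 : X.presheaf.stalk x) ⊗ₜ[Γ(X, V)] (algebraMap Γ(X, V) E₀ r)) = _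
    rw [Algebra.algebraMap_eq_smul_one, ← TensorProduct.smul_tmul, ← Algebra.algebraMap_eq_smul_one]
    exact e.commutes _
  have hq₀ : (i.q.comap φ).IsPrime := Ideal.comap_isPrime _ _
  let ψ : Γ(X, V) ⟶ CommRingCat.of E₀ := CommRingCat.ofHom (algebraMap Γ(X, V) E₀)
  let g : Spec (CommRingCat.of E₀) ⟶ X := Spec.map ψ ≫ hV.fromSpec
  have hg1 : Etale (Spec.map ψ) := by
    rw [HasRingHomProperty.Spec_iff (P := @Etale)]
    exact RingHom.etale_algebraMap.2 het
  have hg : Etale g := inferInstance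
  let u : Spec (CommRingCat.of E₀) := (⟨i.q.comap φ, hq₀⟩ : PrimeSpectrum E₀)
  have hcomap : (i.q.comap φ).comap (algebraMap Γ(X, V) E₀) =
      (hV.primeIdealOf ⟨x, hxV⟩).asIdeal := by
    ext r
    rw [Ideal.mem_comap, Ideal.mem_comap, hφ, mem_q, AlgHom.commutes, algebraMap_Ω_eq_zero_iff,
      IsLocalization.AtPrime.to_map_mem_maximal_iff (X.presheaf.stalk x)
        (hV.primeIdealOf ⟨x, hxV⟩).asIdeal r]
  have hgu : g u = x := by
    show (Spec.map ψ ≫ hV.fromSpec) u = x
    rw [Scheme.Hom.comp_apply]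
    have h1 : (Spec.map ψ) u = hV.primeIdealOf ⟨x, hxV⟩ := by
      apply PrimeSpectrum.ext
      exact hcomap
    rw [h1]
    exact hV.fromSpec_primeIdealOf ⟨x, hxV⟩
  refine ⟨Spec (CommRingCat.of E₀), g, u, hg, hgu, ?_⟩
  -- `i.C` is a localization of `E₀`
  let algE₀C : Algebra E₀ i.C := φ.toAlgebra
  let eE : ((X.presheaf.stalk x) ⊗[Γ(X, V)] E₀) ≃ₐ[E₀] i.C :=
    { (e : ((X.presheaf.stalk x) ⊗[Γ(X, V)] E₀) ≃+* i.C) with
      commutes' := fun r => rfl }
  have hloc1 : IsLocalization (Algebra.algebraMapSubmonoid E₀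
      (hV.primeIdealOf ⟨x, hxV⟩).asIdeal.primeCompl) ((X.presheaf.stalk x) ⊗[Γ(X, V)] E₀) :=
    IsLocalization.tensorRight (X.presheaf.stalk x) (hV.primeIdealOf ⟨x, hxV⟩).asIdeal.primeCompl
  have hloc2 : IsLocalization (Algebra.algebraMapSubmonoid E₀
      (hV.primeIdealOf ⟨x, hxV⟩).asIdeal.primeCompl) i.C :=
    IsLocalization.isLocalization_of_algEquiv _ eE
  let algE₀G : Algebra E₀ i.G := ((algebraMap i.C i.G).comp φ).toAlgebra
  have st : IsScalarTower E₀ i.C i.G := .of_algebraMap_eq' rfl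
  have hloc3 : IsLocalization.AtPrime i.G (i.q.comap (algebraMap E₀ i.C)) :=
    IsLocalization.isLocalization_isLocalization_atPrime_isLocalization
      (Algebra.algebraMapSubmonoid E₀ (hV.primeIdealOf ⟨x, hxV⟩).asIdeal.primeCompl) i.G i.q
  let algE₀S : Algebra E₀ ((Spec (CommRingCat.of E₀)).presheaf.stalk u) :=
    StructureSheaf.stalkAlgebra E₀ u
  have hloc4 : IsLocalization.AtPrime ((Spec (CommRingCat.of E₀)).presheaf.stalk u) (i.q.comap φ) :=
    StructureSheaf.IsLocalization.to_stalk E₀ u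
  exact ⟨(IsLocalization.algEquiv (i.q.comap φ).primeCompl
    ((Spec (CommRingCat.of E₀)).presheaf.stalk u) i.G).toRingEquiv⟩

end Groth.Agent.Lib.helper9.GeomBranchCount
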