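import Mathlib
import Groth.Agent.Lib.Helper14.GeomConnFinSep

/-!
# helper9: geometric connectedness of an arbitrary scheme over a field can be tested on finite
separable extensions (no quasi-compactness)

* `connectedSpace_sepClosure`: if `X_K` is connected for every finite separable `K/k`, then
  `X_{k^sep}` is connected.
* `geometricallyConnected_of_forall_finite_separable`.
-/

set_option autoImplicit false
set_option linter.style.haveILetI false
set_option backward.isDefEq.respectTransparency false
universe u
open CategoryTheory CategoryTheory.Limits AlgebraicGeometry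

namespace Groth.Agent.Lib.helper9.GeomConnGen

open Groth.Agent.Lib.helper5.FGLimit Groth.Agent.Lib.helper5.PBLimit
open Groth.Agent.Lib.Helper14.GeomConnFinSep

variable {k : Type u} [Field k] {X : Scheme.{u}} (f : X ⟶ Spec (CommRingCat.of k))

theorem isIntegralHom_specMap_val {K : Type u} [Field K] [Algebra k K] [Algebra.IsAlgebraic k K]
    (A : Subalgebra k K) :
    IsIntegralHom (Spec.map (CommRingCat.ofHom A.val.toRingHom)) := by
  rw [IsIntegralHom.SpecMap_iff]
  intro y
  have hy : IsIntegral k y := Algebra.IsIntegral.isIntegral y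
  obtain ⟨p, hp, hpy⟩ := hy
  refine ⟨p.map (algebraMap k A), hp.map _, ?_⟩
  rw [Polynomial.eval₂_map]
  exact hpy

theorem universallyOpen_specMap_val {K : Type u} [Field K] [Algebra k K] [Algebra.IsAlgebraic k K]
    (A : Subalgebra k K) :
    UniversallyOpen (Spec.map (CommRingCat.ofHom A.val.toRingHom)) := by
  have hA : IsField A := Subalgebra.isField_of_algebraic A
  letI : Field A := hA.toField
  infer_instance

theorem connectedSpace_sepClosure
    (H : ∀ (K : Type u) [Field K] [Algebra k K] [Module.Finite k K] [Algebra.IsSeparable k K],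
        ConnectedSpace ↥(pullback f (Spec.map (CommRingCat.ofHom (algebraMap k K))))) :
    ConnectedSpace
      ↥(pullback f (Spec.map (CommRingCat.ofHom (algebraMap k (SeparableClosure k))))) := by
  set Ks := SeparableClosure k with hKs
  -- finite levels are connected
  have hlevel : ∀ s : Finset Ks,
      ConnectedSpace ↥(pullback f (pS k Ks (𝟙 (Spec (CommRingCat.of k))) s)) := by
    intro s
    have h1 : pS k Ks (𝟙 (Spec (CommRingCat.of k))) s =
        Spec.map (CommRingCat.ofHom (algebraMap k (adj k Ks s))) := Category.comp_id _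
    rw [h1]
    let K' := IntermediateField.adjoin k (s : Set Ks)
    haveI : Module.Finite k K' :=
      IntermediateField.finiteDimensional_adjoin (fun x _ => Algebra.IsIntegral.isIntegral x)
    have heq : K'.toSubalgebra = adj k Ks s :=
      IntermediateField.adjoin_toSubalgebra_of_isAlgebraic
        (fun x _ => Algebra.IsAlgebraic.isAlgebraic x)
    let e : K' ≃ₐ[k] adj k Ks s := Subalgebra.equivOfEq _ _ heq
    exact connectedSpace_of_algEquiv f e (H K')
  -- the limit cone
  let c := pbCone (specDiagram k Ks) (specτ k Ks (𝟙 (Spec (CommRingCat.of k)))) f (specCone k Ks)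
    (tK k Ks (𝟙 _)) (specCone_specτ k Ks (𝟙 _))
  let hc : IsLimit c := isLimitPbCone _ _ f _ _ (specCone_specτ k Ks (𝟙 _)) (isLimitSpecCone k Ks)
  have htK : tK k Ks (𝟙 (Spec (CommRingCat.of k))) =
      Spec.map (CommRingCat.ofHom (algebraMap k Ks)) := Category.comp_id _
  rw [← htK]
  show ConnectedSpace ↥c.pt
  have hsq : ∀ i, IsPullback (c.π.app i) (pullback.snd f (tK k Ks (𝟙 _)))
      (pullback.snd f ((specτ k Ks (𝟙 (Spec (CommRingCat.of k)))).app i))
      ((specCone k Ks).π.app i) := fun i =>
    isPullback_pbCone (specDiagram k Ks) (specτ k Ks (𝟙 (Spec (CommRingCat.of k)))) f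
      (specCone k Ks) (tK k Ks (𝟙 _)) (specCone_specτ k Ks (𝟙 _)) i
  have hsurj : ∀ i, Surjective (c.π.app i) := by
    intro i
    have h0 : Surjective ((specCone k Ks).π.app i) :=
      surjective_specMap_val (adj k Ks i.unop)
    exact MorphismProperty.of_isPullback (P := @Surjective) (hsq i).flip h0
  have hopen : ∀ i, UniversallyOpen (c.π.app i) := by
    intro i
    have h0 : UniversallyOpen ((specCone k Ks).π.app i) :=
      universallyOpen_specMap_val (adj k Ks i.unop)
    exact MorphismProperty.of_isPullback (P := @UniversallyOpen) (hsq i).flip h0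
  have hclosed : ∀ i, IsIntegralHom (c.π.app i) := by
    intro i
    have h0 : IsIntegralHom ((specCone k Ks).π.app i) :=
      isIntegralHom_specMap_val (adj k Ks i.unop)
    exact MorphismProperty.of_isPullback (P := @IsIntegralHom) (hsq i).flip h0
  rw [connectedSpace_iff_clopen]
  constructor
  · haveI := hlevel ∅
    obtain ⟨y⟩ : Nonempty ↥(pullback f (pS k Ks (𝟙 (Spec (CommRingCat.of k))) ∅)) := inferInstance
    obtain ⟨z, -⟩ := (hsurj (Opposite.op ∅)).surj y
    exact ⟨z⟩
  · intro T hT
    by_contra hcon
    rw [not_or] at hcon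
    obtain ⟨hne, hnu⟩ := hcon
    obtain ⟨t, ht⟩ : T.Nonempty := Set.nonempty_iff_ne_empty.mpr hne
    obtain ⟨v, hv⟩ : ∃ v, v ∉ T := by
      by_contra h
      push Not at h
      exact hnu (Set.eq_univ_of_forall h)
    -- affine open neighbourhood of `v`
    obtain ⟨W0, hW0, hvW, -⟩ := (c.pt.isBasis_affineOpens).exists_subset_of_mem_open
      (Set.mem_univ v) isOpen_univ
    obtain ⟨W, hW, rfl⟩ : ∃ W' : c.pt.Opens, IsAffineOpen W' ∧ (W' : Set c.pt) = W0 := by
      obtain ⟨W', hW', rfl⟩ := hW0
      exact ⟨W', hW', rfl⟩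
    let U : c.pt.Opens := ⟨Tᶜ ∩ (W : Set c.pt), hT.1.isOpen_compl.inter W.2⟩
    have hU : IsCompact (U : Set c.pt) := hW.isCompact.inter_left hT.2.isClosed_compl
    obtain ⟨i, V, -, hV⟩ := exists_preimage_eq _ c hc U hU
    have hV' : (c.π.app i).base ⁻¹' V.1 = Tᶜ ∩ (W : Set c.pt) :=
      congrArg (fun W : c.pt.Opens => W.1) hV
    haveI := hopen i
    haveI := hclosed i
    have hclopen : IsClopen ((c.π.app i).base '' T) :=
      ⟨(c.π.app i).isClosedMap _ hT.1, (c.π.app i).isOpenMap _ hT.2⟩
    haveI : ConnectedSpace ↥((pbDiagram (specDiagram k Ks)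
        (specτ k Ks (𝟙 (Spec (CommRingCat.of k)))) f).obj i) := hlevel i.unop
    rcases isClopen_iff.mp hclopen with h | h
    · have : (c.π.app i).base t ∈ (c.π.app i).base '' T := ⟨t, ht, rfl⟩
      rw [h] at this
      exact this
    · have hvm : (c.π.app i).base v ∈ (c.π.app i).base '' T := by
        rw [h]
        exact Set.mem_univ _
      obtain ⟨t', ht', hEq⟩ := hvm
      have hvV : v ∈ (c.π.app i).base ⁻¹' V.1 := by
        rw [hV']
        exact ⟨hv, hvW⟩
      have ht'V : t' ∈ (c.π.app i).base ⁻¹' V.1 := by
        change (c.π.app i).base t' ∈ V.1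
        rw [hEq]
        exact hvV
      rw [hV'] at ht'V
      exact ht'V.1 ht'

theorem geometricallyConnected_of_forall_finite_separable
    (H : ∀ (K : Type u) [Field K] [Algebra k K] [Module.Finite k K] [Algebra.IsSeparable k K],
        ConnectedSpace ↥(pullback f (Spec.map (CommRingCat.ofHom (algebraMap k K))))) :
    GeometricallyConnected f :=
  Groth.Agent.Lib.helper3.GeomSep.geometricallyConnected_of_connectedSpace_sepClosed f
    (SeparableClosure k) (connectedSpace_sepClosure f H)

end Groth.Agent.Lib.helper9.GeomConnGen
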