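import Mathlib
import Groth.Agent.Lib.Helper9.HensCouple1

/-!
# Henselian couples: existence of sections of étale separated morphisms (helper9)
-/

set_option autoImplicit false
set_option linter.style.haveILetI false
set_option backward.isDefEq.respectTransparency false

namespace Groth.Agent.Lib.helper9.HensCouple

open AlgebraicGeometry CategoryTheory Limits

universe u

variable {S S₀ : Scheme.{u}} (i : S₀ ⟶ S)

theorem exists_section [IsClosedImmersion i] [CompactSpace S] [QuasiSeparatedSpace S]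
    (ha : IsHC i) {S' : Scheme.{u}} (g : S' ⟶ S) [Etale g] [IsSeparated g] (w₀ : S₀ ⟶ S')
    (hw₀ : w₀ ≫ g = i) : ∃ u : S ⟶ S', u ≫ g = 𝟙 S ∧ i ≫ u = w₀ := by
  haveI : CompactSpace S₀ := i.isClosedEmbedding.compactSpace
  obtain ⟨S'', hS''c, hS''⟩ := exists_compact_open_of_isCompact S' (Set.range w₀.base)
    (isCompact_range w₀.continuous)
  haveI : CompactSpace ↥S''.toScheme := isCompact_iff_compactSpace.1 hS''c
  let g'' : S''.toScheme ⟶ S := S''.ι ≫ g
  haveI : QuasiCompact g'' := inferInstance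
  haveI : Etale g'' := inferInstance
  haveI : IsSeparated g'' := inferInstance
  haveI : LocallyQuasiFinite g'' := H1.FinAff.locallyQuasiFinite_of_etale g''
  obtain ⟨T, j, π, hj, hjqc, hπ, hjπ⟩ := ZMTFin.zmt_finite g''
  let w₀'' : S₀ ⟶ S''.toScheme := IsOpenImmersion.lift S''.ι w₀ (by simpa using hS'')
  have hw₀'' : w₀'' ≫ S''.ι = w₀ := IsOpenImmersion.lift_fac _ _ _
  have hw₀''g : w₀'' ≫ g'' = i := by
    show w₀'' ≫ S''.ι ≫ g = i
    rw [← Category.assoc, hw₀'', hw₀]
  let t₀ : S₀ ⟶ T := w₀'' ≫ j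
  have ht₀ : t₀ ≫ π = i := by rw [Category.assoc, hjπ, hw₀''g]
  -- the section `v₀` of `pullback π i ⟶ S₀`
  let v₀ : S₀ ⟶ pullback π i := pullback.lift t₀ (𝟙 S₀) (by rw [ht₀, Category.id_comp])
  have hv₀snd : v₀ ≫ pullback.snd π i = 𝟙 S₀ := pullback.lift_snd _ _ _
  have hv₀fst : v₀ ≫ pullback.fst π i = t₀ := pullback.lift_fst _ _ _
  haveI : IsClosedImmersion v₀ := isClosedImmersion_of_section (pullback.snd π i) v₀ hv₀snd
  haveI : IsOpenImmersion v₀ := by
    let v₀'' : S₀ ⟶ pullback g'' i :=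
      pullback.lift w₀'' (𝟙 S₀) (by rw [hw₀''g, Category.id_comp])
    haveI : IsOpenImmersion v₀'' :=
      isOpenImmersion_of_section (pullback.snd g'' i) v₀'' (pullback.lift_snd _ _ _)
    let m : pullback g'' i ⟶ pullback π i :=
      pullback.map g'' i π i j (𝟙 _) (𝟙 _) (by rw [hjπ, Category.comp_id]) (by simp)
    haveI : IsOpenImmersion m := inferInstance
    have : v₀ = v₀'' ≫ m := by
      apply pullback.hom_ext <;> simp [v₀, v₀'', m, t₀]
    rw [this]; infer_instance
  let V : Set ↥(pullback π i) := Set.range v₀.base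
  have hV : IsClopen V := ⟨v₀.isClosedEmbedding.isClosed_range, v₀.isOpenEmbedding.isOpen_range⟩
  obtain ⟨U, ⟨hUclopen, hUV⟩, -⟩ := ha T π hπ V hV
  have hfstv₀ : ∀ s₁ : S₀, (pullback.fst π i).base (v₀.base s₁) = j.base (w₀''.base s₁) := by
    intro s₁
    have := congrArg (fun f => f.base s₁) hv₀fst
    simpa [t₀] using this
  -- `U ⊆ range j`
  have hUj : U ⊆ Set.range j.base := by
    have hZ : IsClosed (π.base '' (U \ Set.range j.base)) :=
      π.isClosedMap _ (hUclopen.isClosed.sdiff j.isOpenEmbedding.isOpen_range)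
    have hempty := eq_empty_of_disjoint i ha _ hZ (by
      rintro s₀ ⟨t, ⟨htU, htj⟩, hts⟩
      obtain ⟨p, hp1, hp2⟩ := Scheme.Pullback.exists_preimage_pullback (f := π) (g := i) t s₀ hts
      have hpV : p ∈ V := by
        rw [← hUV]
        show (pullback.fst π i).base p ∈ U
        rw [hp1]; exact htU
      obtain ⟨s₁, rfl⟩ := hpV
      apply htj
      exact ⟨w₀''.base s₁, by rw [← hp1, hfstv₀]⟩)
    intro t ht
    by_contra htj
    have : π.base t ∈ π.base '' (U \ Set.range j.base) := ⟨t, ⟨ht, htj⟩, rfl⟩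
    rw [hempty] at this
    exact this
  let U' : S''.toScheme.Opens := j ⁻¹ᵁ ⟨U, hUclopen.isOpen⟩
  let h : U'.toScheme ⟶ S := U'.ι ≫ g''
  haveI : Etale h := inferInstance
  haveI : IsClosedImmersion (U'.ι ≫ j) := by
    apply IsClosedImmersion.of_isPreimmersion
    have : Set.range (U'.ι ≫ j).base = U := by
      rw [Scheme.Hom.comp_base, TopCat.coe_comp, Set.range_comp, Scheme.Opens.range_ι]
      show j.base '' (j.base ⁻¹' U) = U
      rw [Set.image_preimage_eq_inter_range, Set.inter_eq_left.mpr hUj]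
    rw [this]; exact hUclopen.isClosed
  haveI : IsFinite h := by
    have : h = (U'.ι ≫ j) ≫ π := by simp only [h, Category.assoc, hjπ]
    rw [this]; infer_instance
  have hrange : Set.range w₀''.base ⊆ (U' : Set S''.toScheme) := by
    rintro _ ⟨s₀, rfl⟩
    show j.base (w₀''.base s₀) ∈ U
    have : v₀.base s₀ ∈ V := ⟨s₀, rfl⟩
    rw [← hUV] at this
    rw [← hfstv₀]; exact this
  let w₁ : S₀ ⟶ U'.toScheme := IsOpenImmersion.lift U'.ι w₀'' (by simpa using hrange)
  have hw₁ : w₁ ≫ U'.ι = w₀'' := IsOpenImmersion.lift_fac _ _ _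
  have hw₁h : w₁ ≫ h = i := by
    show w₁ ≫ U'.ι ≫ g'' = i
    rw [← Category.assoc, hw₁, hw₀''g]
  let σ : S₀ ⟶ pullback h i := pullback.lift w₁ (𝟙 S₀) (by rw [hw₁h, Category.id_comp])
  have hσ : σ ≫ pullback.snd h i = 𝟙 S₀ := pullback.lift_snd _ _ _
  have hσfst : σ ≫ pullback.fst h i = w₁ := pullback.lift_fst _ _ _
  haveI : IsOpenImmersion σ := isOpenImmersion_of_section (pullback.snd h i) σ hσ
  have hσsurj : Function.Surjective σ.base := by
    intro p
    have hcond : π.base (j.base (U'.ι.base ((pullback.fst h i).base p))) =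
        i.base ((pullback.snd h i).base p) := by
      have hcomp : pullback.fst h i ≫ U'.ι ≫ j ≫ π = pullback.snd h i ≫ i := by
        rw [← pullback.condition, hjπ]
      have := congrArg (fun f => f.base p) hcomp
      simpa using this
    obtain ⟨p', hp1, hp2⟩ :=
      Scheme.Pullback.exists_preimage_pullback (f := π) (g := i) _ _ hcond
    have hp'V : p' ∈ V := by
      rw [← hUV]
      show (pullback.fst π i).base p' ∈ U
      rw [hp1]
      exact ((pullback.fst h i).base p).2
    obtain ⟨s₁, hs₁⟩ := hp'V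
    refine ⟨s₁, ?_⟩
    apply (pullback.fst h i).isClosedEmbedding.injective
    apply (U'.ι ≫ j).isOpenEmbedding.injective
    have e1 : (U'.ι ≫ j).base ((pullback.fst h i).base (σ.base s₁)) = j.base (w₀''.base s₁) := by
      have := congrArg (fun f => f.base s₁) (hσfst.trans (show w₁ = w₁ from rfl))
      have h2 := congrArg (fun f => f.base s₁) hw₁
      simp only [Scheme.Hom.comp_base, TopCat.comp_app] at this h2 ⊢
      rw [this, h2]
    rw [e1, ← hfstv₀, hs₁, hp1]
    simp
  haveI : IsIso σ := by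
    rw [isIso_iff_isOpenImmersion_and_epi_base]
    exact ⟨inferInstance, (TopCat.epi_iff_surjective _).mpr hσsurj⟩
  haveI : IsIso (pullback.snd h i) := by
    haveI : IsIso (σ ≫ pullback.snd h i) := by rw [hσ]; infer_instance
    exact IsIso.of_isIso_comp_left σ _
  haveI : IsIso h := isIso_of_isIso_snd i ha h
  refine ⟨inv h ≫ U'.ι ≫ S''.ι, ?_, ?_⟩
  · have : (U'.ι ≫ S''.ι) ≫ g = h := by simp only [h, g'', Category.assoc]
    rw [Category.assoc, this, IsIso.inv_hom_id]
  · have : i ≫ inv h = w₁ := by rw [← hw₁h, Category.assoc, IsIso.hom_inv_id, Category.comp_id]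
    rw [← Category.assoc, this, ← Category.assoc, hw₁, hw₀'']

end Groth.Agent.Lib.helper9.HensCouple
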