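import Mathlib
import Groth.Prelude.Def_FEt
import Groth.Agent.Lib.Helper14.FEtHensel

/-!
# helper9: base change of finite étale covers of an affine scheme along `Spec K ⟶ Spec A`

For an `A`-algebra `K`, the functor `FEt.restrict (Spec K ⟶ Spec A)` is faithful / full /
essentially surjective as soon as the corresponding algebraic statement holds for finite étale
algebras (`K ⊗[A] -`).  (Generalises helper14's `FEtHensel.full_restrict_residue_aux`.)
-/

set_option autoImplicit false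
set_option linter.style.haveILetI false
universe u
open CategoryTheory CategoryTheory.Limits AlgebraicGeometry TensorProduct

namespace Groth.Agent.Lib.helper9.HensFEt

open Groth.Agent.Lib.Helper14.FEtHensel

variable (A : Type u) [CommRing A] (K : Type u) [CommRing K] [Algebra A K]

/-- The base change of the model `Spec S` to `K` is `Spec (K ⊗ S)`. -/
theorem isPullback_model (S : Type u) [CommRing S] [Algebra A S] {Y : Scheme.{u}}
    (g : Y ⟶ Spec (CommRingCat.of A)) (e : Y ≅ Spec (CommRingCat.of S))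
    (he : e.hom ≫ Spec.map (CommRingCat.ofHom (algebraMap A S)) = g) :
    IsPullback
      (Spec.map (CommRingCat.ofHom (S := K ⊗[A] S)
        (Algebra.TensorProduct.includeRight : S →ₐ[A] K ⊗[A] S).toRingHom)
          ≫ e.inv)
      (Spec.map (CommRingCat.ofHom (S := K ⊗[A] S)
        Algebra.TensorProduct.includeLeftRingHom))
      g (Spec.map (CommRingCat.ofHom (algebraMap A K))) := by
  have h0 := isPullback_SpecMap_of_isPushout _ _ _ _
    (CommRingCat.isPushout_tensorProduct A K S)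
  refine h0.flip.of_iso (Iso.refl _) e.symm (Iso.refl _) (Iso.refl _) ?_ ?_ ?_ ?_
  · simp
  · simp
  · rw [← he]
    simp
  · simp

section Homs

variable {A K}
variable {r : Spec (CommRingCat.of K) ⟶ Spec (CommRingCat.of A)}
  (hr : r = Spec.map (CommRingCat.ofHom (algebraMap A K)))
  {T₁ T₂ : FEt.Cat (Spec (CommRingCat.of A))}
  {S₁ S₂ : Type u} [CommRing S₁] [CommRing S₂] [Algebra A S₁] [Algebra A S₂]
  (e₁ : T₁.left ≅ Spec (CommRingCat.of S₁))
  (he₁ : e₁.hom ≫ Spec.map (CommRingCat.ofHom (algebraMap A S₁)) = T₁.hom)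
  (e₂ : T₂.left ≅ Spec (CommRingCat.of S₂))
  (he₂ : e₂.hom ≫ Spec.map (CommRingCat.ofHom (algebraMap A S₂)) = T₂.hom)

include hr he₁ in
/-- The comparison iso `T ×_A K ≅ Spec (K ⊗ S)`. -/
theorem exists_uIso : ∃ u : pullback T₁.hom r ≅ Spec (CommRingCat.of (K ⊗[A] S₁)),
    u.hom ≫ (Spec.map (CommRingCat.ofHom (S := K ⊗[A] S₁)
        (Algebra.TensorProduct.includeRight : S₁ →ₐ[A] K ⊗[A] S₁).toRingHom) ≫ e₁.inv) =
      pullback.fst T₁.hom r ∧
    u.hom ≫ Spec.map (CommRingCat.ofHom (S := K ⊗[A] S₁)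
        Algebra.TensorProduct.includeLeftRingHom) = pullback.snd T₁.hom r := by
  have sq₁ := isPullback_model A K S₁ T₁.hom e₁ he₁
  rw [← hr] at sq₁
  exact ⟨(IsPullback.of_hasPullback T₁.hom r).isoIsPullback _ _ sq₁,
    IsPullback.isoIsPullback_hom_fst _ _ _ _, IsPullback.isoIsPullback_hom_snd _ _ _ _⟩

include he₁ he₂ in
theorem homOf_w (ψ : S₂ →ₐ[A] S₁) :
    (e₁.hom ≫ Spec.map (CommRingCat.ofHom ψ.toRingHom) ≫ e₂.inv) ≫ T₂.hom = T₁.hom := by
  rw [← he₂, ← he₁]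
  simp only [Category.assoc, Iso.inv_hom_id_assoc]
  rw [← Spec.map_comp]
  congr 2
  ext a
  simp

/-- The morphism of covers attached to an algebra map of models. -/
noncomputable def homOf (ψ : S₂ →ₐ[A] S₁) : T₁ ⟶ T₂ :=
  MorphismProperty.Over.homMk (e₁.hom ≫ Spec.map (CommRingCat.ofHom ψ.toRingHom) ≫ e₂.inv)
    (homOf_w e₁ he₁ e₂ he₂ ψ) trivial

@[simp]
theorem homOf_left (ψ : S₂ →ₐ[A] S₁) : (homOf e₁ he₁ e₂ he₂ ψ).left =
    e₁.hom ≫ Spec.map (CommRingCat.ofHom ψ.toRingHom) ≫ e₂.inv := rfl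

include he₁ he₂ in
/-- Every morphism of covers comes from an algebra map of models. -/
theorem exists_homOf (φ : T₁ ⟶ T₂) : ∃ ψ : S₂ →ₐ[A] S₁, φ = homOf e₁ he₁ e₂ he₂ ψ := by
  obtain ⟨c, hc⟩ : ∃ c : CommRingCat.of S₂ ⟶ CommRingCat.of S₁,
      Spec.map c = e₁.inv ≫ φ.left ≫ e₂.hom := ⟨Spec.preimage _, Spec.map_preimage _⟩
  have hw : φ.left ≫ T₂.hom = T₁.hom := MorphismProperty.Over.w φ
  have hc2 : CommRingCat.ofHom (algebraMap A S₂) ≫ c = CommRingCat.ofHom (algebraMap A S₁) := by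
    apply Spec.map_injective
    rw [Spec.map_comp, hc, Category.assoc, Category.assoc, he₂, hw, ← he₁, Iso.inv_hom_id_assoc]
  let ψ : S₂ →ₐ[A] S₁ :=
    { c.hom with
      commutes' := fun x => by
        have := congrArg (fun t => t.hom x) hc2
        simpa using this }
  refine ⟨ψ, ?_⟩
  apply MorphismProperty.Over.Hom.ext
  rw [homOf_left]
  have : CommRingCat.ofHom ψ.toRingHom = c := rfl
  rw [this, hc]
  simp

/-- The restriction of `homOf ψ` is `Spec (id ⊗ ψ)` under the comparison isos. -/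
theorem restrict_map_homOf (ψ : S₂ →ₐ[A] S₁)
    (u₁ : pullback T₁.hom r ≅ Spec (CommRingCat.of (K ⊗[A] S₁)))
    (hu₁f : u₁.hom ≫ (Spec.map (CommRingCat.ofHom (S := K ⊗[A] S₁)
        (Algebra.TensorProduct.includeRight : S₁ →ₐ[A] K ⊗[A] S₁).toRingHom) ≫ e₁.inv) =
      pullback.fst T₁.hom r)
    (hu₁s : u₁.hom ≫ Spec.map (CommRingCat.ofHom (S := K ⊗[A] S₁)
        Algebra.TensorProduct.includeLeftRingHom) = pullback.snd T₁.hom r)
    (u₂ : pullback T₂.hom r ≅ Spec (CommRingCat.of (K ⊗[A] S₂)))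
    (hu₂f : u₂.hom ≫ (Spec.map (CommRingCat.ofHom (S := K ⊗[A] S₂)
        (Algebra.TensorProduct.includeRight : S₂ →ₐ[A] K ⊗[A] S₂).toRingHom) ≫ e₂.inv) =
      pullback.fst T₂.hom r)
    (hu₂s : u₂.hom ≫ Spec.map (CommRingCat.ofHom (S := K ⊗[A] S₂)
        Algebra.TensorProduct.includeLeftRingHom) = pullback.snd T₂.hom r) :
    ((FEt.restrict r).map (homOf e₁ he₁ e₂ he₂ ψ)).left =
      u₁.hom ≫ Spec.map (CommRingCat.ofHom
        (Algebra.TensorProduct.map (AlgHom.id K K) ψ).toRingHom) ≫ u₂.inv := by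
  have hu₂f' : u₂.inv ≫ pullback.fst T₂.hom r =
      Spec.map (CommRingCat.ofHom (S := K ⊗[A] S₂)
        (Algebra.TensorProduct.includeRight : S₂ →ₐ[A] K ⊗[A] S₂).toRingHom) ≫ e₂.inv := by
    rw [← hu₂f, Iso.inv_hom_id_assoc]
  have hu₂s' : u₂.inv ≫ pullback.snd T₂.hom r =
      Spec.map (CommRingCat.ofHom (S := K ⊗[A] S₂)
        Algebra.TensorProduct.includeLeftRingHom) := by
    rw [← hu₂s, Iso.inv_hom_id_assoc]
  have key1 : pullback.fst T₁.hom r ≫
      (e₁.hom ≫ Spec.map (CommRingCat.ofHom ψ.toRingHom) ≫ e₂.inv) =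
      (u₁.hom ≫ Spec.map (CommRingCat.ofHom
        (Algebra.TensorProduct.map (AlgHom.id K K) ψ).toRingHom) ≫ u₂.inv) ≫
        pullback.fst T₂.hom r := by
    rw [← hu₁f]
    simp only [Category.assoc, Iso.inv_hom_id_assoc]
    rw [hu₂f', ← Spec.map_comp_assoc, ← Spec.map_comp_assoc]
    congr 3
  have key2 : pullback.snd T₁.hom r =
      (u₁.hom ≫ Spec.map (CommRingCat.ofHom
        (Algebra.TensorProduct.map (AlgHom.id K K) ψ).toRingHom) ≫ u₂.inv) ≫
        pullback.snd T₂.hom r := by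
    rw [← hu₁s]
    simp only [Category.assoc]
    rw [hu₂s', ← Spec.map_comp]
    congr 3
    ext k
    show k ⊗ₜ[A] (1 : S₁) = Algebra.TensorProduct.map (AlgHom.id K K) ψ (k ⊗ₜ[A] (1 : S₂))
    simp
  apply pullback.hom_ext
  · have e1 : ((FEt.restrict r).map (homOf e₁ he₁ e₂ he₂ ψ)).left ≫ pullback.fst T₂.hom r =
        pullback.fst T₁.hom r ≫ (homOf e₁ he₁ e₂ he₂ ψ).left :=
      pullback.lift_fst _ _ _
    exact e1.trans key1
  · have e2 : ((FEt.restrict r).map (homOf e₁ he₁ e₂ he₂ ψ)).left ≫ pullback.snd T₂.hom r =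
        pullback.snd T₁.hom r :=
      pullback.lift_snd _ _ _
    exact e2.trans key2

/-- Every morphism between restricted covers comes from a `K`-algebra map. -/
theorem exists_algHom_of_restrict_hom
    (χ : (FEt.restrict r).obj T₁ ⟶ (FEt.restrict r).obj T₂)
    (u₁ : pullback T₁.hom r ≅ Spec (CommRingCat.of (K ⊗[A] S₁)))
    (hu₁s : u₁.hom ≫ Spec.map (CommRingCat.ofHom (S := K ⊗[A] S₁)
        Algebra.TensorProduct.includeLeftRingHom) = pullback.snd T₁.hom r)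
    (u₂ : pullback T₂.hom r ≅ Spec (CommRingCat.of (K ⊗[A] S₂)))
    (hu₂s : u₂.hom ≫ Spec.map (CommRingCat.ofHom (S := K ⊗[A] S₂)
        Algebra.TensorProduct.includeLeftRingHom) = pullback.snd T₂.hom r) :
    ∃ c : K ⊗[A] S₂ →ₐ[K] K ⊗[A] S₁,
      χ.left = u₁.hom ≫ Spec.map (CommRingCat.ofHom c.toRingHom) ≫ u₂.inv := by
  obtain ⟨χl, hχl⟩ : ∃ χl : pullback T₁.hom r ⟶ pullback T₂.hom r, χl = χ.left := ⟨χ.left, rfl⟩
  have hχ : χl ≫ pullback.snd T₂.hom r = pullback.snd T₁.hom r := by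
    rw [hχl]
    exact MorphismProperty.Over.w χ
  obtain ⟨csch, hcsch⟩ : ∃ csch : Spec (CommRingCat.of (K ⊗[A] S₁)) ⟶
      Spec (CommRingCat.of (K ⊗[A] S₂)),
      csch = u₁.inv ≫ χl ≫ u₂.hom := ⟨_, rfl⟩
  have hc1 : csch ≫ Spec.map (CommRingCat.ofHom (S := K ⊗[A] S₂)
        Algebra.TensorProduct.includeLeftRingHom) =
      Spec.map (CommRingCat.ofHom (S := K ⊗[A] S₁)
        Algebra.TensorProduct.includeLeftRingHom) := by
    rw [hcsch, Category.assoc, Category.assoc, hu₂s, hχ, ← hu₁s, Iso.inv_hom_id_assoc]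
  obtain ⟨c, hc⟩ : ∃ c : CommRingCat.of (K ⊗[A] S₂) ⟶
      CommRingCat.of (K ⊗[A] S₁), Spec.map c = csch :=
    ⟨Spec.preimage csch, Spec.map_preimage _⟩
  have hc2 : CommRingCat.ofHom (S := K ⊗[A] S₂)
        Algebra.TensorProduct.includeLeftRingHom ≫ c =
      CommRingCat.ofHom (S := K ⊗[A] S₁)
        Algebra.TensorProduct.includeLeftRingHom := by
    apply Spec.map_injective
    rw [Spec.map_comp, hc, hc1]
  let calg : K ⊗[A] S₂ →ₐ[K] K ⊗[A] S₁ :=
    { c.hom with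
      commutes' := fun x => by
        have := congrArg (fun t => t.hom x) hc2
        simpa [Algebra.TensorProduct.algebraMap_apply] using this }
  refine ⟨calg, ?_⟩
  have h1 : CommRingCat.ofHom calg.toRingHom = c := rfl
  have h2 : χl = u₁.hom ≫ Spec.map (CommRingCat.ofHom calg.toRingHom) ≫ u₂.inv := by
    rw [h1, hc, hcsch]
    simp
  rw [← hχl]
  exact h2

end Homs

section Main

variable {A K}
variable {r : Spec (CommRingCat.of K) ⟶ Spec (CommRingCat.of A)}
  (hr : r = Spec.map (CommRingCat.ofHom (algebraMap A K)))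

include hr in
/-- Faithfulness of restriction from injectivity of `id ⊗ -` on algebra maps. -/
theorem faithful_restrict
    (hinj : ∀ (S₁ S₂ : Type u) [CommRing S₁] [CommRing S₂] [Algebra A S₁] [Algebra A S₂]
      [Module.Finite A S₁] [Algebra.Etale A S₁] [Module.Finite A S₂] [Algebra.Etale A S₂],
      Function.Injective (fun φ : S₂ →ₐ[A] S₁ =>
        Algebra.TensorProduct.map (AlgHom.id K K) φ)) :
    (FEt.restrict r).Faithful := by
  constructor
  intro T₁ T₂ φ₁ φ₂ h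
  obtain ⟨S₁, _, _, _, _, e₁, he₁⟩ := exists_model A T₁
  obtain ⟨S₂, _, _, _, _, e₂, he₂⟩ := exists_model A T₂
  obtain ⟨u₁, hu₁f, hu₁s⟩ := exists_uIso hr e₁ he₁
  obtain ⟨u₂, hu₂f, hu₂s⟩ := exists_uIso hr e₂ he₂
  obtain ⟨ψ₁, rfl⟩ := exists_homOf e₁ he₁ e₂ he₂ φ₁
  obtain ⟨ψ₂, rfl⟩ := exists_homOf e₁ he₁ e₂ he₂ φ₂
  have h1 := restrict_map_homOf e₁ he₁ e₂ he₂ ψ₁ u₁ hu₁f hu₁s u₂ hu₂f hu₂s
  have h2 := restrict_map_homOf e₁ he₁ e₂ he₂ ψ₂ u₁ hu₁f hu₁s u₂ hu₂f hu₂s
  have h3 : u₁.hom ≫ Spec.map (CommRingCat.ofHom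
        (Algebra.TensorProduct.map (AlgHom.id K K) ψ₁).toRingHom) ≫ u₂.inv =
      u₁.hom ≫ Spec.map (CommRingCat.ofHom
        (Algebra.TensorProduct.map (AlgHom.id K K) ψ₂).toRingHom) ≫ u₂.inv := by
    rw [← h1, ← h2, h]
  have h4 : Spec.map (CommRingCat.ofHom
        (Algebra.TensorProduct.map (AlgHom.id K K) ψ₁).toRingHom) =
      Spec.map (CommRingCat.ofHom
        (Algebra.TensorProduct.map (AlgHom.id K K) ψ₂).toRingHom) := by
    have := (cancel_epi u₁.hom).mp h3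
    exact (cancel_mono u₂.inv).mp this
  have h5 := Spec.map_injective h4
  have h6 : Algebra.TensorProduct.map (AlgHom.id K K) ψ₁ =
      Algebra.TensorProduct.map (AlgHom.id K K) ψ₂ := by
    apply AlgHom.ext
    intro x
    have := congrArg (fun t => t.hom x) h5
    exact this
  have h7 : ψ₁ = ψ₂ := hinj S₁ S₂ h6
  rw [h7]

include hr in
/-- Fullness of restriction from surjectivity of `id ⊗ -` on algebra maps. -/
theorem full_restrict
    (hsurj : ∀ (S₁ S₂ : Type u) [CommRing S₁] [CommRing S₂] [Algebra A S₁] [Algebra A S₂]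
      [Module.Finite A S₁] [Algebra.Etale A S₁] [Module.Finite A S₂] [Algebra.Etale A S₂],
      Function.Surjective (fun φ : S₂ →ₐ[A] S₁ =>
        Algebra.TensorProduct.map (AlgHom.id K K) φ)) :
    (FEt.restrict r).Full := by
  constructor
  intro T₁ T₂ χ
  obtain ⟨S₁, _, _, _, _, e₁, he₁⟩ := exists_model A T₁
  obtain ⟨S₂, _, _, _, _, e₂, he₂⟩ := exists_model A T₂
  obtain ⟨u₁, hu₁f, hu₁s⟩ := exists_uIso hr e₁ he₁
  obtain ⟨u₂, hu₂f, hu₂s⟩ := exists_uIso hr e₂ he₂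
  obtain ⟨c, hc⟩ := exists_algHom_of_restrict_hom χ u₁ hu₁s u₂ hu₂s
  obtain ⟨ψ, hψ⟩ := hsurj S₁ S₂ c
  refine ⟨homOf e₁ he₁ e₂ he₂ ψ, ?_⟩
  apply MorphismProperty.Over.Hom.ext
  rw [restrict_map_homOf e₁ he₁ e₂ he₂ ψ u₁ hu₁f hu₁s u₂ hu₂f hu₂s, hc]
  have : Algebra.TensorProduct.map (AlgHom.id K K) ψ = c := hψ
  rw [this]

include hr in
/-- Essential surjectivity of restriction from lifting of finite étale algebras. -/
theorem essSurj_restrict
    (hlift : ∀ (C : Type u) [CommRing C] [Algebra K C] [Module.Finite K C] [Algebra.Etale K C],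
      ∃ (B : Type u) (_ : CommRing B) (_ : Algebra A B), Module.Finite A B ∧ Algebra.Etale A B ∧
        Nonempty (K ⊗[A] B ≃ₐ[K] C)) :
    (FEt.restrict r).EssSurj := by
  constructor
  intro T₀
  obtain ⟨C, _, _, _, _, e₀, he₀⟩ := exists_model K T₀
  obtain ⟨B, _, _, hfin, het, ⟨ε⟩⟩ := hlift C
  have hprop : FEt.prop (Spec.map (CommRingCat.ofHom (algebraMap A B))) := by
    refine ⟨?_, ?_⟩
    · rw [IsFinite.SpecMap_iff]
      exact RingHom.finite_algebraMap.mpr hfin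
    · rw [HasRingHomProperty.Spec_iff (P := @Etale)]
      exact RingHom.etale_algebraMap.mpr het
  obtain ⟨T, hT⟩ : ∃ T : FEt.Cat (Spec (CommRingCat.of A)),
      T = MorphismProperty.Over.mk ⊤ (Spec.map (CommRingCat.ofHom (algebraMap A B))) hprop :=
    ⟨_, rfl⟩
  obtain ⟨e, he⟩ : ∃ e : T.left ≅ Spec (CommRingCat.of B),
      e.hom ≫ Spec.map (CommRingCat.ofHom (algebraMap A B)) = T.hom := by
    subst hT
    exact ⟨Iso.refl _, Category.id_comp _⟩
  obtain ⟨u, huf, hus⟩ := exists_uIso hr e he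
  let j : Spec (CommRingCat.of (K ⊗[A] B)) ≅ Spec (CommRingCat.of C) :=
    { hom := Spec.map (CommRingCat.ofHom (ε.symm : C →+* K ⊗[A] B))
      inv := Spec.map (CommRingCat.ofHom (ε : K ⊗[A] B →+* C))
      hom_inv_id := by
        rw [← Spec.map_comp, ← Spec.map_id]
        congr 1
        refine CommRingCat.hom_ext (RingHom.ext fun x => ?_)
        show ε.symm (ε x) = x
        simp
      inv_hom_id := by
        rw [← Spec.map_comp, ← Spec.map_id]
        congr 1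
        refine CommRingCat.hom_ext (RingHom.ext fun x => ?_)
        show ε (ε.symm x) = x
        simp }
  have hw : (u ≪≫ j ≪≫ e₀.symm).hom ≫ T₀.hom = pullback.snd T.hom r := by
    rw [← hus, ← he₀]
    simp only [Iso.trans_hom, Iso.symm_hom, Category.assoc, Iso.inv_hom_id_assoc, j]
    rw [← Spec.map_comp]
    congr 3
    ext k
    show ε.symm (algebraMap K C k) = k ⊗ₜ[A] (1 : B)
    rw [AlgEquiv.commutes]
    rfl
  exact ⟨T, ⟨MorphismProperty.Over.isoMk (u ≪≫ j ≪≫ e₀.symm) hw⟩⟩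

end Main

end Groth.Agent.Lib.helper9.HensFEt
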