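/-
Helper library (helper9): a directed system of closed subschemes of the stages of a directed
inverse system of schemes, through all of which the limit factors, has the same limit.
-/
import Mathlib

set_option autoImplicit false
set_option linter.style.haveILetI false
set_option backward.isDefEq.respectTransparency false

namespace Groth.Agent.Lib.helper9.IntApprox

open AlgebraicGeometry CategoryTheory Limits Opposite

universe u

variable {I : Type u} [Preorder I] (D : Iᵒᵖ ⥤ Scheme.{u})

/-- the transition maps -/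
abbrev tr {i j : I} (h : i ≤ j) : D.obj (op j) ⟶ D.obj (op i) := D.map (homOfLE h).op

theorem tr_refl (i : I) : tr D (le_refl i) = 𝟙 _ :=
  D.map_id (op i)

theorem tr_trans {i j k : I} (h₁ : i ≤ j) (h₂ : j ≤ k) :
    tr D h₂ ≫ tr D h₁ = tr D (h₁.trans h₂) := by
  rw [tr, tr, ← D.map_comp, ← op_comp, homOfLE_comp]

variable (Q : ∀ i : I, (D.obj (op i)).IdealSheafData → Prop)

/-- the index set: pairs of an index and an admissible ideal sheaf on the corresponding stage -/
structure Idx where
  i : I
  K : (D.obj (op i)).IdealSheafData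
  hQ : Q i K

variable {D Q}

instance : Preorder (Idx D Q) where
  le a b := ∃ h : a.i ≤ b.i, a.K ≤ b.K.map (tr D h)
  le_refl a := ⟨le_rfl, by rw [tr_refl, Scheme.IdealSheafData.map_id]⟩
  le_trans a b c := by
    rintro ⟨h₁, H₁⟩ ⟨h₂, H₂⟩
    refine ⟨h₁.trans h₂, H₁.trans ?_⟩
    rw [← tr_trans D h₁ h₂, Scheme.IdealSheafData.map_comp]
    exact Scheme.IdealSheafData.map_mono _ H₂

theorem Idx.le_def (a b : Idx D Q) : a ≤ b ↔ ∃ h : a.i ≤ b.i, a.K ≤ b.K.map (tr D h) := Iff.rfl

variable (D Q)

/-- the system of closed subschemes -/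
noncomputable abbrev sysD : (Idx D Q)ᵒᵖ ⥤ Scheme.{u} where
  obj a := a.unop.K.subscheme
  map {a b} φ := Scheme.IdealSheafData.subschemeMap a.unop.K b.unop.K
    (tr D (Exists.fst (leOfHom φ.unop))) (Exists.snd (leOfHom φ.unop))
  map_id a := by
    rw [← cancel_mono a.unop.K.subschemeι, Scheme.IdealSheafData.subschemeMap_subschemeι,
      tr_refl, Category.comp_id, Category.id_comp]
  map_comp {a b c} φ ψ := by
    rw [← cancel_mono c.unop.K.subschemeι, Scheme.IdealSheafData.subschemeMap_subschemeι,
      Category.assoc, Scheme.IdealSheafData.subschemeMap_subschemeι,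
      Scheme.IdealSheafData.subschemeMap_subschemeι_assoc, tr_trans]

@[reassoc]
theorem sysD_map_ι {a b : (Idx D Q)ᵒᵖ} (φ : a ⟶ b) :
    (sysD D Q).map φ ≫ b.unop.K.subschemeι =
      a.unop.K.subschemeι ≫ tr D (Exists.fst (leOfHom φ.unop)) :=
  Scheme.IdealSheafData.subschemeMap_subschemeι _ _ _ (Exists.snd (leOfHom φ.unop))

@[reassoc]
theorem sysD_map_ι' {a b : Idx D Q} (h : a ≤ b) :
    (sysD D Q).map (homOfLE h).op ≫ a.K.subschemeι = b.K.subschemeι ≫ tr D (Exists.fst h) :=
  Scheme.IdealSheafData.subschemeMap_subschemeι _ _ _ (Exists.snd h)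

variable (c : Cone D) (hker : ∀ i K, Q i K → K ≤ (c.π.app (op i)).ker)

/-- the cone over the system of closed subschemes with vertex the limit -/
noncomputable def sysCone : Cone (sysD D Q) where
  pt := c.pt
  π :=
  { app := fun a => IsClosedImmersion.lift a.unop.K.subschemeι (c.π.app (op a.unop.i))
      (by rw [Scheme.IdealSheafData.ker_subschemeι]; exact hker _ _ a.unop.hQ)
    naturality := fun a b φ => by
      rw [← cancel_mono b.unop.K.subschemeι]
      simp only [Functor.const_obj_obj, Functor.const_obj_map, Category.id_comp, Category.assoc,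
        IsClosedImmersion.lift_fac, Scheme.IdealSheafData.subschemeMap_subschemeι,
        IsClosedImmersion.lift_fac_assoc]
      exact (c.w _).symm }

@[reassoc]
theorem sysCone_π_ι (a : (Idx D Q)ᵒᵖ) :
    (sysCone D Q c hker).π.app a ≫ a.unop.K.subschemeι = c.π.app (op a.unop.i) :=
  IsClosedImmersion.lift_fac _ _ _

section IsLimit

variable [hdir : IsDirected (Idx D Q) (· ≤ ·)] (hne : ∀ i, ∃ K, Q i K)

include hdir in
/-- the composite of a cone component with the inclusion into the stage only depends on the
index of the stage -/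
theorem cone_π_ι_eq (s : Cone (sysD D Q)) (a b : Idx D Q) (h : a.i ≤ b.i) :
    s.π.app (op b) ≫ b.K.subschemeι ≫ tr D h = s.π.app (op a) ≫ a.K.subschemeι := by
  obtain ⟨l, hal, hbl⟩ := exists_ge_ge a b
  have h1 := s.w (homOfLE hal).op
  have h2 := s.w (homOfLE hbl).op
  have e1 : (sysD D Q).map (homOfLE hal).op ≫ a.K.subschemeι =
      l.K.subschemeι ≫ tr D (Exists.fst hal) := sysD_map_ι' D Q hal
  have e2 : (sysD D Q).map (homOfLE hbl).op ≫ b.K.subschemeι =
      l.K.subschemeι ≫ tr D (Exists.fst hbl) := sysD_map_ι' D Q hbl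
  calc s.π.app (op b) ≫ b.K.subschemeι ≫ tr D h
      = (s.π.app (op l) ≫ (sysD D Q).map (homOfLE hbl).op) ≫ b.K.subschemeι ≫ tr D h := by
        rw [h2]
    _ = s.π.app (op l) ≫ l.K.subschemeι ≫ tr D (Exists.fst hbl) ≫ tr D h := by
        rw [Category.assoc, reassoc_of% e2]
    _ = s.π.app (op l) ≫ l.K.subschemeι ≫ tr D (Exists.fst hal) := by rw [tr_trans]
    _ = (s.π.app (op l) ≫ (sysD D Q).map (homOfLE hal).op) ≫ a.K.subschemeι := by
        rw [Category.assoc, e1]
    _ = _ := by rw [h1]

/-- the chosen index over `i` -/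
noncomputable def chosen (i : I) : Idx D Q := ⟨i, (hne i).choose, (hne i).choose_spec⟩

include hdir in
/-- the cone over the original system induced by a cone over the system of subschemes -/
noncomputable def coneOfSys (s : Cone (sysD D Q)) : Cone D where
  pt := s.pt
  π :=
  { app := fun i => s.π.app (op (chosen D Q hne i.unop)) ≫ (chosen D Q hne i.unop).K.subschemeι
    naturality := fun i j φ => by
      have h : j.unop ≤ i.unop := leOfHom φ.unop
      have := cone_π_ι_eq D Q s (chosen D Q hne j.unop) (chosen D Q hne i.unop) h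
      simp only [Functor.const_obj_obj, Functor.const_obj_map, Category.id_comp, Category.assoc]
      rw [← this]
      rfl }

/-- the limit of the system of closed subschemes is the limit of the original system -/
noncomputable def isLimitSysCone (hc : IsLimit c) : IsLimit (sysCone D Q c hker) where
  lift s := hc.lift (coneOfSys D Q hne s)
  fac s a := by
    rw [← cancel_mono a.unop.K.subschemeι, Category.assoc, sysCone_π_ι, hc.fac]
    have := cone_π_ι_eq D Q s (chosen D Q hne a.unop.i) a.unop (le_refl a.unop.i)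
    have e2 : s.π.app a ≫ a.unop.K.subschemeι ≫ tr D (le_refl a.unop.i) =
        s.π.app a ≫ a.unop.K.subschemeι := by rw [tr_refl, Category.comp_id]
    exact this.symm.trans e2
  uniq s m hm := by
    apply hc.hom_ext
    intro i
    rw [hc.fac]
    show m ≫ c.π.app i = s.π.app (op (chosen D Q hne i.unop)) ≫ _
    rw [← hm, Category.assoc, sysCone_π_ι]
    rfl

end IsLimit

end Groth.Agent.Lib.helper9.IntApprox
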