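/-
Helper library (helper9): an integral morphism to a qcqs scheme is a directed limit of finite
morphisms of finite presentation (Stacks 09YZ), part 2: the closed subschemes.
-/
import Groth.Agent.Lib.Helper9.IntApprox1
import Groth.Agent.Lib.Helper9.AbsApprox29
import Groth.Agent.Lib.Helper9.AbsApprox25

set_option autoImplicit false
set_option linter.style.haveILetI false
set_option backward.isDefEq.respectTransparency false

namespace Groth.Agent.Lib.helper9.IntApprox

open AlgebraicGeometry CategoryTheory Limits Opposite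

universe u

/-- The scheme-theoretic image of an integral morphism in an affine `S`-scheme is integral over
`S`. -/
theorem isIntegralHom_imageι_comp {X Y S : Scheme.{u}} (f : X ⟶ Y) (t : Y ⟶ S) [QuasiCompact f]
    [IsAffineHom t] [IsIntegralHom (f ≫ t)] : IsIntegralHom (f.imageι ≫ t) := by
  refine { toIsAffineHom := inferInstance, isIntegral_app := fun U hU => ?_ }
  let U' : Y.affineOpens := ⟨t ⁻¹ᵁ U, hU.preimage t⟩
  have hinj : Function.Injective (f.toImage.app ((f.imageι ≫ t) ⁻¹ᵁ U)).hom :=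
    f.toImage_app_injective U'
  haveI : IsIntegralHom (f.toImage ≫ f.imageι ≫ t) := by
    rw [Scheme.Hom.toImage_imageι_assoc]; infer_instance
  have h1 : ((f.toImage ≫ f.imageι ≫ t).app U).hom.IsIntegral :=
    (f.toImage ≫ f.imageι ≫ t).isIntegral_app U hU
  rw [Scheme.Hom.comp_app, CommRingCat.hom_comp] at h1
  exact RingHom.IsIntegral.tower_bot _ _ hinj h1

theorem ker_subschemeι_eq {W Y : Scheme.{u}} (j : W ⟶ Y) [IsClosedImmersion j] :
    j.ker.subschemeι = inv j.toImage ≫ j := by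
  rw [IsIso.eq_inv_comp, Scheme.Hom.toImage_imageι]

/-- The ideal sheaf of the intersection of two closed subschemes of finite presentation. -/
theorem exists_combine {Y : Scheme.{u}} (K₁ K₂ : Y.IdealSheafData)
    [LocallyOfFinitePresentation K₁.subschemeι] [LocallyOfFinitePresentation K₂.subschemeι] :
    ∃ K : Y.IdealSheafData, K₁ ≤ K ∧ K₂ ≤ K ∧ LocallyOfFinitePresentation K.subschemeι ∧
      (∀ {X : Scheme.{u}} (f : X ⟶ Y), K₁ ≤ f.ker → K₂ ≤ f.ker → K ≤ f.ker) ∧
      ∃ a : K.subscheme ⟶ K₂.subscheme, IsClosedImmersion a ∧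
        a ≫ K₂.subschemeι = K.subschemeι := by
  obtain ⟨j, hj⟩ : ∃ j : pullback K₁.subschemeι K₂.subschemeι ⟶ Y,
    j = pullback.fst K₁.subschemeι K₂.subschemeι ≫ K₁.subschemeι := ⟨_, rfl⟩
  have hj' : j = pullback.snd K₁.subschemeι K₂.subschemeι ≫ K₂.subschemeι := by
    rw [hj, pullback.condition]
  haveI : IsClosedImmersion j := by rw [hj]; infer_instance
  haveI : LocallyOfFinitePresentation j := by rw [hj]; infer_instance
  refine ⟨j.ker, ?_, ?_, ?_, ?_, ?_⟩
  · have := Scheme.Hom.le_ker_comp (pullback.fst K₁.subschemeι K₂.subschemeι) K₁.subschemeι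
    rw [Scheme.IdealSheafData.ker_subschemeι, ← hj] at this
    exact this
  · have := Scheme.Hom.le_ker_comp (pullback.snd K₁.subschemeι K₂.subschemeι) K₂.subschemeι
    rw [Scheme.IdealSheafData.ker_subschemeι, ← hj'] at this
    exact this
  · rw [ker_subschemeι_eq]; infer_instance
  · intro X f h1 h2
    have e1 : IsClosedImmersion.lift K₁.subschemeι f
        (by rw [Scheme.IdealSheafData.ker_subschemeι]; exact h1) ≫ K₁.subschemeι = f :=
      IsClosedImmersion.lift_fac _ _ _
    have e2 : IsClosedImmersion.lift K₂.subschemeι f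
        (by rw [Scheme.IdealSheafData.ker_subschemeι]; exact h2) ≫ K₂.subschemeι = f :=
      IsClosedImmersion.lift_fac _ _ _
    have e3 : pullback.lift _ _ (e1.trans e2.symm) ≫ j = f := by
      rw [hj, pullback.lift_fst_assoc, e1]
    rw [← e3]
    exact Scheme.Hom.le_ker_comp _ _
  · refine ⟨inv j.toImage ≫ pullback.snd K₁.subschemeι K₂.subschemeι, inferInstance, ?_⟩
    rw [ker_subschemeι_eq, Category.assoc, ← hj']

section Tower

variable {I : Type u} [Preorder I] [IsDirected I (· ≤ ·)] [Nonempty I] {S : Scheme.{u}}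
  [CompactSpace S] [QuasiSeparatedSpace S]
  (D : Iᵒᵖ ⥤ Scheme.{u}) (t : D ⟶ (Functor.const Iᵒᵖ).obj S) (c : Cone D) (hc : IsLimit c)
  [hDaff : ∀ (i j : Iᵒᵖ) (a : i ⟶ j), IsAffineHom (D.map a)]
  [∀ i, IsAffineHom (t.app i)] [∀ i, LocallyOfFinitePresentation (t.app i)]
  (g : c.pt ⟶ S) (hg : ∀ i, c.π.app i ≫ t.app i = g) [IsIntegralHom g]

/-- admissible ideal sheaves: of finite presentation, finite over `S`, and through which the
limit factors -/
def Adm (i : I) (K : (D.obj (op i)).IdealSheafData) : Prop :=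
  LocallyOfFinitePresentation K.subschemeι ∧ IsFinite (K.subschemeι ≫ t.app (op i)) ∧
    K ≤ (c.π.app (op i)).ker

include hc hg in
theorem exists_adm_ge (i : I) (K₀ : (D.obj (op i)).IdealSheafData)
    [LocallyOfFinitePresentation K₀.subschemeι] (hK₀ : K₀ ≤ (c.π.app (op i)).ker) :
    ∃ K, K₀ ≤ K ∧ Adm D t c i K := by
  classical
  haveI hDaff' : ∀ {i j : Iᵒᵖ} (a : i ⟶ j), IsAffineHom (D.map a) := fun a => hDaff _ _ a
  haveI : CompactSpace ↥(D.obj (op i)) :=
    QuasiCompact.compactSpace_of_compactSpace (Y := S) (t.app (op i))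
  haveI : QuasiSeparatedSpace ↥(D.obj (op i)) :=
    quasiSeparatedSpace_of_quasiSeparated (Y := S) (t.app (op i))
  obtain ⟨f, hf⟩ : ∃ f : c.pt ⟶ D.obj (op i), f = c.π.app (op i) := ⟨_, rfl⟩
  haveI : IsAffineHom f := hf ▸ isAffineHom_π_app D c hc (op i)
  haveI : IsIntegralHom (f ≫ t.app (op i)) := by rw [hf, hg]; infer_instance
  haveI hint : IsIntegralHom (f.imageι ≫ t.app (op i)) := isIntegralHom_imageι_comp f _
  obtain ⟨I', hI1, hI2, hI3, D'', t'', c'', hc'', e'', h1, h2, h3, h4⟩ :=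
    AbsApprox.exists_closed_approx f.imageι
  let t3 : D'' ⟶ (Functor.const I'ᵒᵖ).obj S :=
    { app := fun b => t''.app b ≫ t.app (op i)
      naturality := fun b b' a => by
        have := t''.naturality a
        simp only [Functor.const_obj_obj, Functor.const_obj_map, Category.comp_id] at this ⊢
        rw [reassoc_of% this] }
  haveI : ∀ (b b' : I'ᵒᵖ) (a : b ⟶ b'), IsFinite (D''.map a) := fun b b' a => by
    have := h3 b b' a
    infer_instance
  haveI : ∀ b, CompactSpace ↥(D''.obj b) := fun b => by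
    have := (h2 b).1
    exact QuasiCompact.compactSpace_of_compactSpace (Y := D.obj (op i)) (t''.app b)
  haveI : ∀ b, QuasiSeparatedSpace ↥(D''.obj b) := fun b => by
    have := (h2 b).1
    exact quasiSeparatedSpace_of_quasiSeparated (Y := D.obj (op i)) (t''.app b)
  haveI : ∀ b, LocallyOfFiniteType (t3.app b) := fun b => by
    have := (h2 b).2
    show LocallyOfFiniteType (t''.app b ≫ t.app (op i))
    infer_instance
  obtain ⟨b₀⟩ : Nonempty I'ᵒᵖ := ⟨op hI3.some⟩
  haveI : IsIntegralHom (c''.π.app b₀ ≫ t3.app b₀) := by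
    show IsIntegralHom (c''.π.app b₀ ≫ t''.app b₀ ≫ t.app (op i))
    rw [reassoc_of% h1 b₀]
    infer_instance
  obtain ⟨b₁, hb₁⟩ := Groth.Agent.Lib.helper9.exists_forall_isFinite_structure S D'' t3 c'' hc'' b₀
  obtain ⟨τ, hτ⟩ : ∃ τ : D''.obj b₁ ⟶ D.obj (op i), τ = t''.app b₁ := ⟨_, rfl⟩
  haveI hfin : IsFinite (τ ≫ t.app (op i)) := hτ ▸ hb₁ b₁ (𝟙 _)
  haveI : IsClosedImmersion τ := hτ ▸ (h2 b₁).1
  haveI : LocallyOfFinitePresentation τ := hτ ▸ (h2 b₁).2
  have h1τ : c''.π.app b₁ ≫ τ = e''.hom ≫ f.imageι := hτ ▸ h1 b₁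
  -- the ideal sheaf of the stage `b₁`
  have hK₁ι : τ.ker.subschemeι = inv τ.toImage ≫ τ := ker_subschemeι_eq _
  haveI : LocallyOfFinitePresentation τ.ker.subschemeι := by rw [hK₁ι]; infer_instance
  have hK₁fin : IsFinite (τ.ker.subschemeι ≫ t.app (op i)) := by
    rw [hK₁ι, Category.assoc]; infer_instance
  have hK₁le : τ.ker ≤ f.ker := by
    have e1 : (c''.π.app b₁ ≫ τ).ker = f.ker := by
      rw [h1τ, Scheme.Hom.ker_comp_of_isIso, Scheme.IdealSheafData.ker_subschemeι]
    rw [← e1]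
    exact Scheme.Hom.le_ker_comp _ _
  obtain ⟨K, hK1, hK2, hK3, hK4, a, ha, haι⟩ := exists_combine K₀ τ.ker
  refine ⟨K, hK1, hK3, ?_, ?_⟩
  · rw [← haι, Category.assoc]
    infer_instance
  · rw [← hf]
    exact hK4 f (hf ▸ hK₀) hK₁le

include hc hg in
theorem exists_adm (i : I) : ∃ K, Adm D t c i K := by
  obtain ⟨K, -, hK⟩ := exists_adm_ge D t c hc g hg i ⊥ bot_le
  exact ⟨K, hK⟩

include hc hg in
theorem isDirected_idx : IsDirected (Idx D (Adm D t c)) (· ≤ ·) := by
  refine ⟨fun a b => ?_⟩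
  obtain ⟨l, hal, hbl⟩ := exists_ge_ge a.i b.i
  haveI := a.hQ.1
  haveI := b.hQ.1
  -- the pullbacks of the two ideal sheaves to the stage `l`
  have hlfp : ∀ {i : I} (h : i ≤ l) (K : (D.obj (op i)).IdealSheafData)
      [LocallyOfFinitePresentation K.subschemeι],
      LocallyOfFinitePresentation (K.comap (tr D h)).subschemeι := by
    intro i h K _
    rw [← Scheme.IdealSheafData.comapIso_hom_fst]
    infer_instance
  have hle : ∀ {i : I} (h : i ≤ l) (K : (D.obj (op i)).IdealSheafData),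
      K ≤ (c.π.app (op i)).ker → K.comap (tr D h) ≤ (c.π.app (op l)).ker := by
    intro i h K hK
    rw [← Scheme.IdealSheafData.le_map_iff_comap_le, Scheme.IdealSheafData.map_ker]
    have : c.π.app (op l) ≫ tr D h = c.π.app (op i) := c.w _
    rw [this]
    exact hK
  haveI := hlfp hal a.K
  haveI := hlfp hbl b.K
  obtain ⟨K₀, h1, h2, h3, h4, -⟩ := exists_combine (a.K.comap (tr D hal)) (b.K.comap (tr D hbl))
  haveI := h3
  obtain ⟨K, hK₀, hK⟩ := exists_adm_ge D t c hc g hg l K₀
    (h4 _ (hle hal a.K a.hQ.2.2) (hle hbl b.K b.hQ.2.2))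
  refine ⟨⟨l, K, hK⟩, ⟨hal, ?_⟩, ⟨hbl, ?_⟩⟩
  · rw [Scheme.IdealSheafData.le_map_iff_comap_le]
    exact h1.trans hK₀
  · rw [Scheme.IdealSheafData.le_map_iff_comap_le]
    exact h2.trans hK₀

include hc hg in
/-- The system of admissible closed subschemes of the stages has limit `lim D`. -/
theorem exists_finite_system :
    ∃ (J : Type u) (_ : Preorder J) (_ : IsDirected J (fun a b => a ≤ b)) (_ : Nonempty J)
      (D' : Jᵒᵖ ⥤ Scheme.{u}) (t' : D' ⟶ (Functor.const Jᵒᵖ).obj S) (c' : Cone D')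
      (_ : IsLimit c') (e : c'.pt ≅ c.pt),
      (∀ j, c'.π.app j ≫ t'.app j = e.hom ≫ g) ∧
      (∀ j, IsFinite (t'.app j) ∧ LocallyOfFinitePresentation (t'.app j)) := by
  haveI hdir : IsDirected (Idx D (Adm D t c)) (· ≤ ·) := isDirected_idx D t c hc g hg
  have hne : ∀ i, ∃ K, Adm D t c i K := exists_adm D t c hc g hg
  have hker : ∀ i K, Adm D t c i K → K ≤ (c.π.app (op i)).ker := fun i K h => h.2.2
  obtain ⟨i₀⟩ := ‹Nonempty I›
  let t' : sysD D (Adm D t c) ⟶ (Functor.const (Idx D (Adm D t c))ᵒᵖ).obj S :=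
    { app := fun a => a.unop.K.subschemeι ≫ t.app (op a.unop.i)
      naturality := fun a b φ => by
        have h1 := sysD_map_ι D (Adm D t c) φ
        have h2 := t.naturality (homOfLE (Exists.fst (leOfHom φ.unop))).op
        simp only [Functor.const_obj_obj, Functor.const_obj_map, Category.comp_id] at h2 ⊢
        rw [reassoc_of% h1, h2] }
  refine ⟨Idx D (Adm D t c), inferInstance, hdir, ⟨chosen D (Adm D t c) hne i₀⟩,
    sysD D (Adm D t c), t', sysCone D (Adm D t c) c hker,
    isLimitSysCone D (Adm D t c) c hker hne hc, Iso.refl _, ?_, ?_⟩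
  · intro a
    show (sysCone D (Adm D t c) c hker).π.app a ≫ a.unop.K.subschemeι ≫ t.app (op a.unop.i) =
      𝟙 _ ≫ g
    rw [sysCone_π_ι_assoc, hg, Category.id_comp]
  · intro a
    haveI := a.unop.hQ.1
    refine ⟨a.unop.hQ.2.1, ?_⟩
    show LocallyOfFinitePresentation (a.unop.K.subschemeι ≫ t.app (op a.unop.i))
    infer_instance

end Tower

end Groth.Agent.Lib.helper9.IntApprox
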