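/-
Helper library (helper9): an integral morphism to a qcqs scheme is a directed limit of finite
morphisms of finite presentation (Stacks 09YZ).
-/
import Groth.Agent.Lib.Helper9.IntApprox2
import Groth.Agent.Lib.Helper9.AbsApprox26

set_option autoImplicit false
set_option linter.style.haveILetI false
set_option backward.isDefEq.respectTransparency false

namespace Groth.Agent.Lib.helper9.IntApprox

open AlgebraicGeometry CategoryTheory Limits Opposite
open Groth.Agent.Lib.helper9.AbsApprox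

universe u

/-- **An integral morphism to a qcqs scheme is a directed limit of finite morphisms of finite
presentation.** -/
theorem exists_integral_approx {X S : Scheme.{u}} (f : X ⟶ S) [IsIntegralHom f] [CompactSpace S]
    [QuasiSeparatedSpace S] :
    ∃ (I : Type u) (_ : Preorder I) (_ : IsDirected I (fun a b => a ≤ b)) (_ : Nonempty I)
      (D : Iᵒᵖ ⥤ Scheme.{u}) (t : D ⟶ (Functor.const Iᵒᵖ).obj S) (c : Cone D) (_ : IsLimit c)
      (e : c.pt ≅ X),
      (∀ i, c.π.app i ≫ t.app i = e.hom ≫ f) ∧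
      (∀ i, IsFinite (t.app i) ∧ LocallyOfFinitePresentation (t.app i)) := by
  haveI : CompactSpace X := QuasiCompact.compactSpace_of_compactSpace f
  haveI : QuasiSeparatedSpace X := quasiSeparatedSpace_of_quasiSeparated f
  obtain ⟨I, hI1, hI2, hI3, D, t, c, hc, e, h1, h2, h3, h4⟩ := exists_relative_approx' f
  haveI : ∀ {i j : Iᵒᵖ} (a : i ⟶ j), IsAffineHom (D.map a) := fun a => h3 _ _ a
  haveI : ∀ i, QuasiSeparatedSpace (D.obj i) := fun i => (h4 i).2
  haveI : ∀ i, QuasiCompact (t.app i) := fun i => (h2 i).2.1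
  haveI : IsAffineHom (e.hom ≫ f) := inferInstance
  obtain ⟨i₁, hi₁⟩ := exists_isAffineHom_stage D t c hc (e.hom ≫ f) h1
  -- restrict to the indices above `i₁`
  let D₁ : (Ge i₁.unop)ᵒᵖ ⥤ Scheme.{u} := (geIncl i₁.unop).op ⋙ D
  let t₁ : D₁ ⟶ (Functor.const (Ge i₁.unop)ᵒᵖ).obj S := Functor.whiskerLeft (geIncl i₁.unop).op t
  let c₁ : Cone D₁ := c.whisker (geIncl i₁.unop).op
  have hc₁ : IsLimit c₁ := isLimitWhiskerGe i₁.unop c hc
  haveI : ∀ (i j : (Ge i₁.unop)ᵒᵖ) (a : i ⟶ j), IsAffineHom (D₁.map a) := fun i j a =>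
    h3 _ _ _
  haveI : ∀ i, IsAffineHom (t₁.app i) := fun i => hi₁ _ (homOfLE i.unop.2).op
  haveI : ∀ i, LocallyOfFinitePresentation (t₁.app i) := fun i => (h2 _).1
  haveI : IsIntegralHom (e.hom ≫ f) := inferInstance
  obtain ⟨J, hJ1, hJ2, hJ3, D', t', c', hc', e', h1', h2'⟩ :=
    exists_finite_system D₁ t₁ c₁ hc₁ (e.hom ≫ f) (fun i => h1 _)
  exact ⟨J, hJ1, hJ2, hJ3, D', t', c', hc', e' ≪≫ e, fun j => by
    rw [h1' j, Iso.trans_hom, Category.assoc], h2'⟩

end Groth.Agent.Lib.helper9.IntApprox
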