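import Mathlib
import Groth.Agent.Lib.Helper9.ClosedImmIntoStage
import Groth.Agent.Lib.Helper9.IntApprox3

/-!
# Immersions into a limit descend to a stage (helper9)

* `ImmStage.exists_isImmersion_comp_π`: an immersion `g : X ⟶ lim Dᵢ` with `X` quasi-compact and
  locally of finite type over a stage is an immersion into some stage.
* `ImmStage.exists_immersion_finite_fac_iff`: a separated morphism of finite type to a qcqs scheme
  factors as an immersion followed by a finite morphism iff `toNormalization` is an immersion.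
-/

set_option autoImplicit false
set_option linter.style.haveILetI false
set_option backward.isDefEq.respectTransparency false

universe u

open AlgebraicGeometry CategoryTheory Limits

namespace ImmStage

open Groth.Agent.Lib.helper9

/-- Between a compact set and an open set of a scheme there is a compact open. -/
theorem exists_compact_open_between {X : Scheme.{u}} (K : Set X) (hK : IsCompact K) (U : X.Opens)
    (hKU : K ⊆ U) : ∃ U' : X.Opens, IsCompact (U' : Set X) ∧ K ⊆ U' ∧ U' ≤ U := by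
  have hA : ∀ x : K, ∃ A : X.Opens, IsAffineOpen A ∧ (x : X) ∈ A ∧ A ≤ U := fun x => by
    obtain ⟨A, hA, hxA, hAU⟩ := exists_isAffineOpen_mem_and_subset (hKU x.2)
    exact ⟨A, hA, hxA, hAU⟩
  choose A hAaff hxA hAU using hA
  obtain ⟨s, hs⟩ := hK.elim_finite_subcover (fun x : K => (A x : Set X)) (fun x => (A x).2)
    (fun x hx => Set.mem_iUnion.mpr ⟨⟨x, hx⟩, hxA _⟩)
  refine ⟨⨆ x ∈ s, A x, ?_, ?_, ?_⟩
  · have : ((⨆ x ∈ s, A x : X.Opens) : Set X) = ⋃ x ∈ s, (A x : Set X) := by
      simp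
    rw [this]
    exact s.isCompact_biUnion fun x _ => (hAaff x).isCompact
  · intro x hx
    have := hs hx
    simpa using this
  · exact iSup₂_le fun x _ => hAU x

section

variable {I : Type u} [SmallCategory I] [IsCofiltered I] (D : I ⥤ Scheme.{u}) (c : Cone D)
  (hc : IsLimit c) [hD : ∀ {i j : I} (f : i ⟶ j), IsAffineHom (D.map f)]

include hc in
theorem exists_isImmersion_comp_π (i₀ : I) {X : Scheme.{u}} [CompactSpace X] (g : X ⟶ c.pt)
    [IsImmersion g] [LocallyOfFiniteType (g ≫ c.π.app i₀)] :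
    ∃ i : I, IsImmersion (g ≫ c.π.app i) := by
  obtain ⟨U', hU'c, hKU', hU'U⟩ := exists_compact_open_between (Set.range g)
    (isCompact_range g.continuous) g.coborderRange (by
      exact subset_coborder)
  obtain ⟨i₁, V₁, hV₁c, hV₁⟩ := exists_preimage_eq D c hc U' hU'c
  let i₂ := IsCofiltered.min i₀ i₁
  let a₀ : i₂ ⟶ i₀ := IsCofiltered.minToLeft i₀ i₁
  let a₁ : i₂ ⟶ i₁ := IsCofiltered.minToRight i₀ i₁
  obtain ⟨V₂, hV₂⟩ : ∃ V₂ : (D.obj i₂).Opens, V₂ = D.map a₁ ⁻¹ᵁ V₁ := ⟨_, rfl⟩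
  have hV₂c : IsCompact (V₂ : Set (D.obj i₂)) := by
    rw [hV₂]
    exact QuasiCompact.isCompact_preimage _ V₁.2 hV₁c
  have hV₂U' : c.π.app i₂ ⁻¹ᵁ V₂ = U' := by
    rw [hV₂, ← Scheme.Hom.comp_preimage, c.w, hV₁]
  haveI hlft : LocallyOfFiniteType (g ≫ c.π.app i₂) := by
    have : LocallyOfFiniteType ((g ≫ c.π.app i₂) ≫ D.map a₀) := by
      rw [Category.assoc, c.w]; infer_instance
    exact locallyOfFiniteType_of_comp _ (D.map a₀)
  have hrange : Set.range g ⊆ Set.range (c.π.app i₂ ⁻¹ᵁ V₂).ι := by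
    rw [Scheme.Opens.range_ι, hV₂U']
    exact hKU'
  let h : X ⟶ ((c.π.app i₂ ⁻¹ᵁ V₂ : c.pt.Opens) : Scheme.{u}) :=
    IsOpenImmersion.lift (c.π.app i₂ ⁻¹ᵁ V₂).ι g hrange
  have hh : h ≫ (c.π.app i₂ ⁻¹ᵁ V₂).ι = g := IsOpenImmersion.lift_fac _ _ _
  have hle : c.π.app i₂ ⁻¹ᵁ V₂ ≤ g.coborderRange := hV₂U' ▸ hU'U
  haveI : IsClosedImmersion h := by
    have e : h ≫ c.pt.homOfLE hle = g.liftCoborder := by
      rw [← cancel_mono g.coborderRange.ι, Category.assoc, Scheme.homOfLE_ι, hh,
        g.liftCoborder_ι]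
    have : IsClosedImmersion (h ≫ c.pt.homOfLE hle) := e ▸ inferInstance
    exact IsClosedImmersion.of_comp h (c.pt.homOfLE hle)
  haveI : ∀ l : Over i₂, CompactSpace ((opensDiagram D i₂ V₂).obj l) := fun l =>
    isCompact_iff_compactSpace.mp (QuasiCompact.isCompact_preimage _ V₂.2 hV₂c)
  have hπ : (opensCone D c i₂ V₂).π.app (Over.mk (𝟙 i₂)) ≫ (D.map (𝟙 i₂) ⁻¹ᵁ V₂).ι =
      (c.π.app i₂ ⁻¹ᵁ V₂).ι ≫ c.π.app i₂ := by
    simp only [opensCone_π_app]
    exact Scheme.Hom.resLE_comp_ι _ _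
  haveI : LocallyOfFiniteType (h ≫ (opensCone D c i₂ V₂).π.app (Over.mk (𝟙 i₂))) := by
    have : LocallyOfFiniteType ((h ≫ (opensCone D c i₂ V₂).π.app (Over.mk (𝟙 i₂))) ≫
        (D.map (𝟙 i₂) ⁻¹ᵁ V₂).ι) := by
      rw [Category.assoc, hπ, reassoc_of% hh]; infer_instance
    exact locallyOfFiniteType_of_comp _ (D.map (𝟙 i₂) ⁻¹ᵁ V₂).ι
  obtain ⟨l, hl⟩ := exists_isClosedImmersion_comp_π (opensDiagram D i₂ V₂) (opensCone D c i₂ V₂)
    (isLimitOpensCone D c hc i₂ V₂) (Over.mk (𝟙 i₂)) h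
  refine ⟨l.left, ?_⟩
  have e : g ≫ c.π.app l.left =
      (h ≫ (opensCone D c i₂ V₂).π.app l) ≫ (D.map l.hom ⁻¹ᵁ V₂).ι := by
    simp only [opensCone_π_app, Category.assoc]
    rw [Scheme.Hom.resLE_comp_ι, reassoc_of% hh]
  rw [e]
  infer_instance

end

open Groth.Agent.Lib.helper9.IntApprox in
/-- A separated morphism of finite type to a qcqs scheme factors as an immersion followed by a
finite morphism iff the canonical morphism to the relative normalization is an immersion. -/
theorem exists_immersion_finite_fac_iff {X Y : Scheme.{u}} (f : X ⟶ Y)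
    [CompactSpace Y] [QuasiSeparatedSpace Y] [IsSeparated f] [LocallyOfFiniteType f]
    [QuasiCompact f] :
    (∃ (Y' : Scheme.{u}) (f' : X ⟶ Y') (u : Y' ⟶ Y), IsImmersion f' ∧ IsFinite u ∧ f' ≫ u = f) ↔
      IsImmersion f.toNormalization := by
  constructor
  · rintro ⟨Y', f', u, hf', hu, hfu⟩
    have : IsImmersion (f.toNormalization ≫ f.normalizationDesc f' u hfu.symm) := by
      rw [Scheme.Hom.toNormalization_normalizationDesc]; exact hf'
    exact IsImmersion.of_comp _ (f.normalizationDesc f' u hfu.symm)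
  · intro himm
    haveI : CompactSpace X := QuasiCompact.compactSpace_of_compactSpace f
    obtain ⟨I, hI1, hI2, hI3, D, t, c, hc, e, h1, h2⟩ := exists_integral_approx f.fromNormalization
    haveI haff : ∀ {i j : Iᵒᵖ} (a : i ⟶ j), IsAffineHom (D.map a) := fun {i j} a => by
      have h3 := t.naturality a
      simp only [Functor.const_obj_obj, Functor.const_obj_map, Category.comp_id] at h3
      have := (h2 i).1
      have := (h2 j).1
      have : IsFinite (D.map a ≫ t.app j) := h3 ▸ inferInstance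
      have : IsFinite (D.map a) := IsFinite.of_comp (D.map a) (t.app j)
      infer_instance
    have i₀ : I := Classical.choice hI3
    obtain ⟨g, hg⟩ : ∃ g : X ⟶ c.pt, g = f.toNormalization ≫ e.inv := ⟨_, rfl⟩
    haveI : IsImmersion g := hg ▸ inferInstance
    have hgf : ∀ i, (g ≫ c.π.app i) ≫ t.app i = f := fun i => by
      rw [Category.assoc, h1, hg, Category.assoc, Iso.inv_hom_id_assoc,
        Scheme.Hom.toNormalization_fromNormalization]
    haveI : LocallyOfFiniteType (g ≫ c.π.app (Opposite.op i₀)) := by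
      have : LocallyOfFiniteType ((g ≫ c.π.app (Opposite.op i₀)) ≫ t.app (Opposite.op i₀)) := by
        rw [hgf]; infer_instance
      exact locallyOfFiniteType_of_comp _ (t.app (Opposite.op i₀))
    obtain ⟨i, hi⟩ := exists_isImmersion_comp_π D c hc (Opposite.op i₀) g
    exact ⟨D.obj i, g ≫ c.π.app i, t.app i, hi, (h2 i).1, hgf i⟩

end ImmStage
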