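/-
Helper library (helper9): a morphism locally of finite type from a qcqs scheme factors as an
immersion followed by a morphism of finite presentation (no hypothesis on the target).
-/
import Groth.Agent.Lib.Helper9.AbsApprox20
import Groth.Agent.Lib.Helper9.ClosedImmRing

set_option autoImplicit false
set_option linter.style.haveILetI false
set_option backward.isDefEq.respectTransparency false

namespace Groth.Agent.Lib.helper9.AbsApprox

open AlgebraicGeometry CategoryTheory Limits Opposite

universe u

/-- A morphism whose restriction over an affine open has affine source and is surjective on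
sections is a closed immersion over that open. -/
theorem isClosedImmersion_morphismRestrict_of_surjective {X Y : Scheme.{u}} (f : X ⟶ Y)
    (U : Y.Opens) (hU : IsAffineOpen U) (V : X.Opens) (hV : IsAffineOpen V) (heq : V = f ⁻¹ᵁ U)
    (h : Function.Surjective (f.appLE U V heq.le).hom) : IsClosedImmersion (f ∣_ U) := by
  subst heq
  rw [← Scheme.Hom.resLE_eq_morphismRestrict]
  have : IsAffine U.toScheme := hU
  have : IsAffine (f ⁻¹ᵁ U).toScheme := hV
  apply IsClosedImmersion.of_surjective_of_isAffine
  show Function.Surjective ((f.resLE U (f ⁻¹ᵁ U) le_rfl).app ⊤).hom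
  rw [Scheme.Hom.resLE_app_top]
  simp only [CommRingCat.hom_comp, RingHom.coe_comp]
  exact ((ConcreteCategory.bijective_of_isIso (f ⁻¹ᵁ U).topIso.inv).surjective.comp h).comp
    (ConcreteCategory.bijective_of_isIso U.topIso.hom).surjective

/-- A morphism which is a closed immersion over each member of a family of opens of the target
whose preimages cover the source is an immersion. -/
theorem isImmersion_of_cover {X P : Scheme.{u}} (γ : X ⟶ P) {ι : Type*} (O : ι → P.Opens)
    (hcov : ⨆ m, γ ⁻¹ᵁ O m = ⊤) (h : ∀ m, IsClosedImmersion (γ ∣_ O m)) : IsImmersion γ := by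
  let W : P.Opens := ⨆ m, O m
  have hW : γ ⁻¹ᵁ W = ⊤ := by
    rw [Scheme.Hom.preimage_iSup]
    exact hcov
  have h1 : IsClosedImmersion (γ ∣_ W) := by
    refine IsZariskiLocalAtTarget.of_iSup_eq_top (P := @IsClosedImmersion)
      (fun m => W.ι ⁻¹ᵁ O m) ?_ (fun m => ?_)
    · rw [← Scheme.Hom.preimage_iSup]
      exact Scheme.Opens.ι_preimage_self W
    · have e : W.ι ''ᵁ (W.ι ⁻¹ᵁ O m) = O m := by
        rw [Scheme.Hom.image_preimage_eq_opensRange_inf, Scheme.Opens.opensRange_ι]
        exact inf_eq_right.mpr (le_iSup O m)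
      exact (MorphismProperty.arrow_mk_iso_iff @IsClosedImmersion
        (morphismRestrictRestrict γ W _ ≪≫ morphismRestrictEq γ e)).mpr (h m)
  have h2 : IsIso (γ ⁻¹ᵁ W).ι := by
    rw [hW]
    exact inferInstanceAs (IsIso X.topIso.hom)
  have h3 : γ = inv (γ ⁻¹ᵁ W).ι ≫ (γ ∣_ W) ≫ W.ι := by
    rw [morphismRestrict_ι, IsIso.inv_hom_id_assoc]
  rw [h3]
  infer_instance

end Groth.Agent.Lib.helper9.AbsApprox
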