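/-
Helper library (helper9): a morphism locally of finite type from a qcqs scheme factors as an
immersion followed by a morphism of finite presentation (no hypothesis on the target), part 2.
-/
import Groth.Agent.Lib.Helper9.ImmersionFP
import Groth.Agent.Lib.Helper9.AbsApprox19

set_option autoImplicit false
set_option linter.style.haveILetI false
set_option backward.isDefEq.respectTransparency false

namespace Groth.Agent.Lib.helper9.AbsApprox

open AlgebraicGeometry CategoryTheory Limits Opposite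

universe u

/-- The stage data at an affine open `U` of the limit of an approximation, mapping into an affine
open `V` of `S`. -/
theorem Sys.exists_stage_generators (T : Sys.{u}) {S : Scheme.{u}} (g : T.c.pt ⟶ S)
    [LocallyOfFiniteType g] (V : S.Opens) (hV : IsAffineOpen V) (U : T.c.pt.Opens)
    (hU : IsAffineOpen U) (hUV : U ≤ g ⁻¹ᵁ V) :
    ∃ (i : T.I) (W : (T.X i).Opens) (s : Finset Γ(T.c.pt, U)), IsAffineOpen W ∧
      T.pr i ⁻¹ᵁ W = U ∧
      (∀ R : Subring Γ(T.c.pt, U), (g.appLE V U hUV).hom.range ≤ R →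
        (↑s : Set Γ(T.c.pt, U)) ⊆ (R : Set Γ(T.c.pt, U)) → R = ⊤) ∧
      ∀ (j : T.I) (hij : i ≤ j), ∀ b ∈ s, ∃ (hle : U ≤ T.pr j ⁻¹ᵁ (T.tr hij ⁻¹ᵁ W))
        (t : Γ(T.X j, T.tr hij ⁻¹ᵁ W)), ((T.pr j).appLE _ _ hle).hom t = b := by
  classical
  obtain ⟨i₀, W₀, hW₀, hW₀U⟩ := T.exists_isAffineOpen U hU
  have hft : (g.appLE V U hUV).hom.FiniteType :=
    HasRingHomProperty.appLE (P := @LocallyOfFiniteType) g inferInstance ⟨V, hV⟩ ⟨U, hU⟩ hUV
  obtain ⟨s, hs⟩ := exists_finset_forall_subring_eq_top _ hft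
  have h1 : ∀ b : Γ(T.c.pt, U), ∃ (i' : T.I) (h : i₀ ≤ i') (t : Γ(T.X i', T.tr h ⁻¹ᵁ W₀)),
      ((T.pr i').appLE (T.tr h ⁻¹ᵁ W₀) U (by rw [T.pr_preimage_tr, hW₀U])).hom t = b :=
    fun b => T.exists_section W₀ U hW₀U b
  choose ib hib tb htb using h1
  obtain ⟨i₁, hi₁⟩ := (s.image ib).exists_le
  obtain ⟨i, h0i, h1i⟩ := exists_ge_ge i₀ i₁
  refine ⟨i, T.tr h0i ⁻¹ᵁ W₀, s, hW₀.preimage _, ?_, hs, ?_⟩
  · rw [T.pr_preimage_tr, hW₀U]
  · intro j hij b hb
    have hbj : ib b ≤ j := ((hi₁ _ (Finset.mem_image_of_mem _ hb)).trans h1i).trans hij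
    have e1 : T.tr hij ⁻¹ᵁ T.tr h0i ⁻¹ᵁ W₀ = T.tr hbj ⁻¹ᵁ T.tr (hib b) ⁻¹ᵁ W₀ := by
      rw [T.tr_preimage_tr, T.tr_preimage_tr]
    refine ⟨by rw [T.pr_preimage_tr, T.pr_preimage_tr, hW₀U], ?_⟩
    refine ⟨((T.tr hbj).appLE (T.tr (hib b) ⁻¹ᵁ W₀) (T.tr hij ⁻¹ᵁ T.tr h0i ⁻¹ᵁ W₀) e1.le).hom
      (tb b), ?_⟩
    refine Eq.trans ?_ (htb b)
    rw [← CommRingCat.comp_apply, Scheme.Hom.appLE_comp_appLE]
    exact congrArg (fun φ => (CommRingCat.Hom.hom φ) (tb b))
      (appLE_congr_hom (T.pr_tr hbj) _ _ _)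

/-- **A morphism locally of finite type from a qcqs scheme factors as an immersion followed by
a morphism of finite presentation.** -/
theorem exists_immersion_fp {X S : Scheme.{u}} (f : X ⟶ S) [LocallyOfFiniteType f]
    [CompactSpace X] [QuasiSeparatedSpace X] :
    ∃ (X' : Scheme.{u}) (f' : X' ⟶ S) (j : X ⟶ X'), LocallyOfFinitePresentation f' ∧
      QuasiCompact f' ∧ QuasiSeparated f' ∧ IsImmersion j ∧ j ≫ f' = f := by
  classical
  obtain ⟨T, ⟨e⟩⟩ := hasApprox_of_qcqs X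
  obtain ⟨g, hg⟩ : ∃ g : T.c.pt ⟶ S, g = e.hom ≫ f := ⟨_, rfl⟩
  have : LocallyOfFiniteType g := by
    rw [hg]
    infer_instance
  -- the local data
  have hloc : ∀ x : T.c.pt, ∃ (V : S.Opens) (U : T.c.pt.Opens), IsAffineOpen V ∧ IsAffineOpen U ∧
      x ∈ U ∧ U ≤ g ⁻¹ᵁ V := by
    intro x
    obtain ⟨V, hV, hxV, -⟩ := exists_isAffineOpen_mem_and_subset (X := S) (x := g x)
      (U := ⊤) trivial
    obtain ⟨U, hU, hxU, hUV⟩ := exists_isAffineOpen_mem_and_subset (X := T.c.pt) (x := x)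
      (U := g ⁻¹ᵁ V) hxV
    exact ⟨V, U, hV, hU, hxU, hUV⟩
  choose V U hV hU hxU hUV using hloc
  have hst := fun x => T.exists_stage_generators g (V x) (hV x) (U x) (hU x) (hUV x)
  choose i W s hW hWU hs hgen using hst
  -- the finite cover
  obtain ⟨t, ht⟩ := isCompact_univ.elim_finite_subcover (fun x => ((U x : T.c.pt.Opens) : Set T.c.pt))
    (fun x => (U x).isOpen) (fun x _ => Set.mem_iUnion.mpr ⟨x, hxU x⟩)
  obtain ⟨j, hj⟩ := (t.image i).exists_le
  have hij : ∀ x : t, i x.1 ≤ j := fun x => hj _ (Finset.mem_image_of_mem _ x.2)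
  -- the product
  let a : T.X j ⟶ Spec (CommRingCat.of (ULift.{u} ℤ)) := specULiftZIsTerminal.from _
  let b : S ⟶ Spec (CommRingCat.of (ULift.{u} ℤ)) := specULiftZIsTerminal.from _
  let γ : T.c.pt ⟶ pullback a b := pullback.lift (T.pr j) g (specULiftZIsTerminal.hom_ext _ _)
  have hγ1 : γ ≫ pullback.fst a b = T.pr j := pullback.lift_fst _ _ _
  have hγ2 : γ ≫ pullback.snd a b = g := pullback.lift_snd _ _ _
  let W' : ∀ x : t, (T.X j).Opens := fun x => T.tr (hij x) ⁻¹ᵁ W x.1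
  let O : ∀ x : t, (pullback a b).Opens := fun x =>
    pullback.fst a b ⁻¹ᵁ W' x ⊓ pullback.snd a b ⁻¹ᵁ V x.1
  have hO : ∀ x : t, γ ⁻¹ᵁ O x = U x.1 := fun x => by
    show γ ⁻¹ᵁ (pullback.fst a b ⁻¹ᵁ W' x ⊓ pullback.snd a b ⁻¹ᵁ V x.1) = _
    have h1 : γ ⁻¹ᵁ pullback.fst a b ⁻¹ᵁ W' x = U x.1 := by
      rw [← Scheme.Hom.comp_preimage, hγ1]
      show T.pr j ⁻¹ᵁ T.tr (hij x) ⁻¹ᵁ W x.1 = _
      rw [T.pr_preimage_tr, hWU]
    have h2 : γ ⁻¹ᵁ pullback.snd a b ⁻¹ᵁ V x.1 = g ⁻¹ᵁ V x.1 := by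
      rw [← Scheme.Hom.comp_preimage, hγ2]
    rw [Scheme.Hom.preimage_inf, h1, h2]
    exact inf_eq_left.mpr (hUV x.1)
  have hOaff : ∀ x : t, IsAffineOpen (O x) := fun x => by
    have : IsAffine (W' x).toScheme := (hW x.1).preimage _
    have : IsAffine (V x.1).toScheme := hV x.1
    let κ : pullback ((W' x).ι ≫ a) ((V x.1).ι ≫ b) ⟶ pullback a b :=
      pullback.map _ _ _ _ (W' x).ι (V x.1).ι (𝟙 _) (Category.comp_id _) (Category.comp_id _)
    have hκ : O x = κ.opensRange := by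
      ext z
      show z ∈ (pullback.fst a b ⁻¹ᵁ W' x ⊓ pullback.snd a b ⁻¹ᵁ V x.1 : (pullback a b).Opens) ↔
        z ∈ Set.range κ
      rw [Scheme.Pullback.range_map]
      simp only [Scheme.Opens.range_ι]
      rfl
    rw [hκ]
    exact isAffineOpen_opensRange κ
  have hcl : ∀ x : t, IsClosedImmersion (γ ∣_ O x) := fun x => by
    refine isClosedImmersion_morphismRestrict_of_surjective γ (O x) (hOaff x) (U x.1) (hU x.1)
      (hO x).symm ?_
    let R : Subring Γ(T.c.pt, U x.1) := (γ.appLE (O x) (U x.1) (hO x).symm.le).hom.range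
    have hR : R = ⊤ := by
      refine hs x.1 R ?_ ?_
      · rintro _ ⟨y, rfl⟩
        refine ⟨((pullback.snd a b).appLE (V x.1) (O x) inf_le_right).hom y, ?_⟩
        rw [← CommRingCat.comp_apply, Scheme.Hom.appLE_comp_appLE]
        exact congrArg (fun φ => (CommRingCat.Hom.hom φ) y) (appLE_congr_hom hγ2 _ _ _)
      · intro y hy
        obtain ⟨hle, t', ht'⟩ := hgen x.1 j (hij x) y hy
        refine ⟨((pullback.fst a b).appLE (W' x) (O x) inf_le_left).hom t', ?_⟩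
        rw [← ht', ← CommRingCat.comp_apply, Scheme.Hom.appLE_comp_appLE]
        exact congrArg (fun φ => (CommRingCat.Hom.hom φ) t') (appLE_congr_hom hγ1 _ _ _)
    intro y
    have hy : y ∈ R := hR ▸ Subring.mem_top y
    exact hy
  have hcov : ⨆ x : t, γ ⁻¹ᵁ O x = ⊤ := by
    rw [eq_top_iff]
    intro z _
    obtain ⟨x, hx⟩ := Set.mem_iUnion.mp (ht (Set.mem_univ z))
    obtain ⟨hxt, hzx⟩ := Set.mem_iUnion.mp hx
    refine TopologicalSpace.Opens.mem_iSup.mpr ⟨⟨x, hxt⟩, ?_⟩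
    rw [hO]
    exact hzx
  have himm : IsImmersion γ := isImmersion_of_cover γ O hcov hcl
  -- finite presentation of the projection
  have ha1 : LocallyOfFinitePresentation a := (T.ftz j).locallyOfFinitePresentation
  have ha2 : QuasiCompact a := by
    haveI := (T.ftz j).1
    exact (quasiCompact_iff_compactSpace a).mpr inferInstance
  have ha3 : QuasiSeparated a := by
    haveI : IsNoetherian (T.X j) := (T.ftz j).isNoetherian
    exact (quasiSeparated_iff_quasiSeparatedSpace a).mpr inferInstance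
  refine ⟨pullback a b, pullback.snd a b, e.inv ≫ γ,
    MorphismProperty.pullback_snd (P := @LocallyOfFinitePresentation) _ _ ha1,
    MorphismProperty.pullback_snd (P := @QuasiCompact) _ _ ha2,
    MorphismProperty.pullback_snd (P := @QuasiSeparated) _ _ ha3, inferInstance, ?_⟩
  rw [Category.assoc, hγ2, hg, Iso.inv_hom_id_assoc]

end Groth.Agent.Lib.helper9.AbsApprox
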