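import Mathlib

/-!
# helper9: an element all of whose `c ^ n - 1` are zero or units, in a finite type algebra over a
field, is integral over the field.
-/

set_option autoImplicit false

open Polynomial

namespace Groth.Agent.Lib.helper9.IntIndep

/-- Chevalley: for an injective finitely presented ring map out of a domain, the image on spectra
contains a nonempty basic open. -/
theorem exists_basicOpen_subset_range {R S : Type*} [CommRing R] [IsDomain R] [CommRing S]
    (f : R →+* S) (hf : f.FinitePresentation) (hinj : Function.Injective f) :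
    ∃ g : R, g ≠ 0 ∧ ∀ J : Ideal R, J.IsPrime → g ∉ J →
      ∃ Q : Ideal S, Q.IsPrime ∧ Q.comap f = J := by
  have hc := PrimeSpectrum.isConstructible_range_comap hf
  obtain ⟨D, hD⟩ := PrimeSpectrum.exists_constructibleSetData_iff.mpr hc
  have hbot : (⟨⊥, Ideal.isPrime_bot⟩ : PrimeSpectrum R) ∈ Set.range (PrimeSpectrum.comap f) := by
    obtain ⟨p', hp', hcomap⟩ := Ideal.exists_comap_eq_of_mem_minimalPrimes_of_injective hinj ⊥
      (by rw [IsDomain.minimalPrimes_eq_singleton_bot]; rfl)
    exact ⟨⟨p', hp'⟩, PrimeSpectrum.ext hcomap⟩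
  rw [← hD] at hbot
  simp only [PrimeSpectrum.ConstructibleSetData.toSet, Set.mem_iUnion] at hbot
  obtain ⟨C, hCD, hC⟩ := hbot
  simp only [PrimeSpectrum.BasicConstructibleSetData.toSet, Set.mem_sdiff,
    PrimeSpectrum.mem_zeroLocus, Set.singleton_subset_iff, SetLike.mem_coe] at hC
  obtain ⟨hC1, hC2⟩ := hC
  refine ⟨C.f, fun h0 => hC2 (by rw [h0]; exact zero_mem _), fun J hJ hgJ => ?_⟩
  have hmem : (⟨J, hJ⟩ : PrimeSpectrum R) ∈ Set.range (PrimeSpectrum.comap f) := by
    rw [← hD]
    simp only [PrimeSpectrum.ConstructibleSetData.toSet, Set.mem_iUnion]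
    refine ⟨C, hCD, ?_⟩
    simp only [PrimeSpectrum.BasicConstructibleSetData.toSet, Set.mem_sdiff,
      PrimeSpectrum.mem_zeroLocus, Set.singleton_subset_iff, SetLike.mem_coe]
    refine ⟨?_, hgJ⟩
    rintro _ ⟨i, rfl⟩
    have : C.g i ∈ (⊥ : Ideal R) := hC1 ⟨i, rfl⟩
    rw [Ideal.mem_bot] at this
    rw [this]
    exact zero_mem _
  obtain ⟨Q, hQ⟩ := hmem
  exact ⟨Q.asIdeal, Q.2, congrArg PrimeSpectrum.asIdeal hQ⟩

/-- A prime containing a squarefree polynomial of large degree but not a given nonzero `g`. -/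
theorem exists_prime_of_squarefree {k : Type*} [Field k] (q g : k[X]) (hq : Squarefree q)
    (hg : g ≠ 0) (hdeg : g.natDegree < q.natDegree) :
    ∃ J : Ideal k[X], J.IsPrime ∧ q ∈ J ∧ g ∉ J := by
  have hnot : g ∉ (Ideal.span {q}).radical := by
    rintro ⟨N, hN⟩
    rw [Ideal.mem_span_singleton] at hN
    have hN0 : N ≠ 0 := by
      rintro rfl
      rw [pow_zero] at hN
      have := Polynomial.natDegree_eq_zero_of_isUnit (isUnit_of_dvd_one hN)
      omega
    have hdvd : q ∣ g := (hq.dvd_pow_iff_dvd hN0).mp hN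
    have := Polynomial.eq_zero_of_dvd_of_natDegree_lt hdvd hdeg
    exact hg this
  rw [Ideal.radical_eq_sInf, Ideal.mem_sInf] at hnot
  push Not at hnot
  obtain ⟨J, ⟨hJ1, hJ2⟩, hJ3⟩ := hnot
  exact ⟨J, hJ2, hJ1 (Ideal.mem_span_singleton_self q), hJ3⟩

/-- **Ring lemma.** In a finite type algebra over a field, an element `c` such that every
`c ^ n - 1` is zero or a unit is integral over the field. -/
theorem isIntegralElem_of_pow_sub_one {k A : Type*} [Field k] [CommRing A] (ψ : k →+* A)
    (hψ : ψ.FiniteType) (c : A) (hc : ∀ n : ℕ, c ^ n - 1 = 0 ∨ IsUnit (c ^ n - 1)) :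
    ψ.IsIntegralElem c := by
  let _ : Algebra k A := ψ.toAlgebra
  suffices h : IsAlgebraic k c from h.isIntegral
  by_contra htr
  have hinj : Function.Injective (aeval c : k[X] →ₐ[k] A) :=
    transcendental_iff_injective.mp htr
  set f : k[X] →+* A := (aeval c : k[X] →ₐ[k] A).toRingHom with hf
  have hfC : f.comp (C : k →+* k[X]) = ψ := by
    ext a
    simp [hf]
    rfl
  have hft : f.FiniteType := by
    have : (f.comp (C : k →+* k[X])).FiniteType := by rw [hfC]; exact hψ
    exact RingHom.FiniteType.of_comp_finiteType this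
  have hfp : f.FinitePresentation := RingHom.FinitePresentation.of_finiteType.mp hft
  obtain ⟨g, hg0, hg⟩ := exists_basicOpen_subset_range f hfp hinj
  -- choose `n > deg g` with `(n : k) ≠ 0`
  obtain ⟨n, hn1, hn2⟩ : ∃ n : ℕ, g.natDegree < n ∧ (n : k) ≠ 0 := by
    by_cases h : ((g.natDegree + 1 : ℕ) : k) = 0
    · refine ⟨g.natDegree + 2, by omega, ?_⟩
      intro h2
      have : ((g.natDegree + 2 : ℕ) : k) = ((g.natDegree + 1 : ℕ) : k) + 1 := by push_cast; ring
      rw [this, h, zero_add] at h2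
      exact one_ne_zero h2
    · exact ⟨g.natDegree + 1, by omega, h⟩
  have hsep : (X ^ n - C (1 : k)).Separable := Polynomial.separable_X_pow_sub_C 1 hn2 one_ne_zero
  have hn0 : n ≠ 0 := by omega
  have hdegq : (X ^ n - C (1 : k)).natDegree = n := Polynomial.natDegree_X_pow_sub_C
  obtain ⟨J, hJ, hqJ, hgJ⟩ := exists_prime_of_squarefree (X ^ n - C (1 : k)) g hsep.squarefree hg0
    (by rw [hdegq]; exact hn1)
  obtain ⟨Q, hQ, hQJ⟩ := hg J hJ hgJ
  have hfq : f (X ^ n - C (1 : k)) = c ^ n - 1 := by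
    simp [hf]
  have hmem : c ^ n - 1 ∈ Q := by
    rw [← hfq]
    have : X ^ n - C (1 : k) ∈ Q.comap f := by rw [hQJ]; exact hqJ
    exact this
  rcases hc n with h0 | hu
  · rw [← hfq] at h0
    have : X ^ n - C (1 : k) = 0 := hinj (by rw [map_zero]; exact h0)
    have h2 := congrArg Polynomial.natDegree this
    rw [hdegq, Polynomial.natDegree_zero] at h2
    exact hn0 h2
  · exact hQ.ne_top (Ideal.eq_top_of_isUnit_mem _ hmem hu)

end Groth.Agent.Lib.helper9.IntIndep
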