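import Mathlib
import Groth.Agent.Lib.Helper9.IntIndep1

/-!
# helper9: on a reduced connected scheme locally of finite type over a field `k₁`, the image of any
field in the global functions is integral over `k₁`.
-/

set_option autoImplicit false
set_option linter.style.haveILetI false
set_option backward.isDefEq.respectTransparency false

universe u
open CategoryTheory AlgebraicGeometry Opposite TopologicalSpace

namespace Groth.Agent.Lib.helper9.IntIndep

/-- Globalisation: a global function on a reduced connected scheme which is locally integral over a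
field is integral over the field. -/
theorem isIntegralElem_of_local {X : Scheme.{u}} [IsReduced X] [ConnectedSpace X]
    {k : Type*} [Field k] (φ : k →+* Γ(X, ⊤)) (c : Γ(X, ⊤))
    (H : ∀ p : X, ∃ V : X.Opens, p ∈ V ∧ ∃ M : Polynomial k, M.Monic ∧
       X.presheaf.map (homOfLE (le_top : V ≤ ⊤)).op (Polynomial.eval₂ φ c M) = 0) :
    φ.IsIntegralElem c := by
  classical
  let E : Polynomial k →+* Γ(X, ⊤) := Polynomial.eval₂RingHom φ c
  obtain ⟨p₀⟩ := (inferInstance : Nonempty X)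
  obtain ⟨V₀, hpV₀, M₀, hM₀, hM₀0⟩ := H p₀
  have key : ∀ (V : X.Opens) (M : Polynomial k),
      X.presheaf.map (homOfLE (le_top : V ≤ ⊤)).op (E M) = 0 → V ⊓ X.basicOpen (E M) = ⊥ := by
    intro V M h
    rw [← Scheme.basicOpen_res, h, Scheme.basicOpen_zero]
  have h₀ : p₀ ∉ X.basicOpen (E M₀) := fun h => by
    have : p₀ ∈ V₀ ⊓ X.basicOpen (E M₀) := ⟨hpV₀, h⟩
    rw [key V₀ M₀ hM₀0] at this
    exact this
  -- a polynomial of minimal degree vanishing at `p₀`
  have hS : ∃ n, ∃ Q : Polynomial k, Q ≠ 0 ∧ Q.natDegree = n ∧ p₀ ∉ X.basicOpen (E Q) :=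
    ⟨_, M₀, hM₀.ne_zero, rfl, h₀⟩
  obtain ⟨Q₀, hQ₀0, hQ₀deg, hQ₀p⟩ := Nat.find_spec hS
  have hmin : ∀ Q : Polynomial k, Q ≠ 0 → p₀ ∉ X.basicOpen (E Q) →
      Q₀.natDegree ≤ Q.natDegree := by
    intro Q hQ hQp
    rw [hQ₀deg]
    exact Nat.find_min' hS ⟨Q, hQ, rfl, hQp⟩
  have hunit : ∀ b : Polynomial k, b ≠ 0 → b.natDegree = 0 → IsUnit b := by
    intro b hb0 hb
    rw [Polynomial.isUnit_iff]
    refine ⟨b.coeff 0, ?_, (Polynomial.eq_C_of_natDegree_eq_zero hb).symm⟩
    rw [isUnit_iff_ne_zero]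
    intro h0
    apply hb0
    rw [Polynomial.eq_C_of_natDegree_eq_zero hb, h0, map_zero]
  have hirr : Irreducible Q₀ := by
    rw [irreducible_iff]
    refine ⟨fun hu => hQ₀p ?_, fun a b hab => ?_⟩
    · rw [X.basicOpen_of_isUnit (hu.map E)]; trivial
    · have ha0 : a ≠ 0 := by rintro rfl; rw [zero_mul] at hab; exact hQ₀0 hab
      have hb0 : b ≠ 0 := by rintro rfl; rw [mul_zero] at hab; exact hQ₀0 hab
      have hdeg : Q₀.natDegree = a.natDegree + b.natDegree := by
        rw [hab, Polynomial.natDegree_mul ha0 hb0]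
      have : p₀ ∉ X.basicOpen (E a) ∨ p₀ ∉ X.basicOpen (E b) := by
        by_contra hcon
        push Not at hcon
        apply hQ₀p
        rw [hab, map_mul, Scheme.basicOpen_mul]
        exact ⟨hcon.1, hcon.2⟩
      rcases this with h | h
      · right
        have := hmin a ha0 h
        exact hunit b hb0 (by omega)
      · left
        have := hmin b hb0 h
        exact hunit a ha0 (by omega)
  have hopen : IsOpen ((X.basicOpen (E Q₀) : Set X)ᶜ) := by
    rw [isOpen_iff_forall_mem_open]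
    intro p hp
    obtain ⟨V, hpV, M, hM, hM0⟩ := H p
    obtain ⟨n, a, hPa, hMa⟩ := WfDvdMonoid.max_power_factor hM.ne_zero hirr
    obtain ⟨α, β, hαβ⟩ := (hirr.coprime_iff_not_dvd).mpr hPa
    have h1 : E α * E Q₀ + E β * E a = 1 := by
      rw [← map_mul, ← map_mul, ← map_add, hαβ, map_one]
    have hpa : p ∈ X.basicOpen (E a) := by
      have h2 : p ∈ X.basicOpen (E α * E Q₀ + E β * E a) := by
        rw [h1, Scheme.basicOpen_one]; trivial
      have h3 := X.basicOpen_add_le _ _ h2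
      rcases (show p ∈ (X.basicOpen (E α * E Q₀) : Set X) ∪ X.basicOpen (E β * E a) from h3)
        with h | h
      · rw [SetLike.mem_coe, Scheme.basicOpen_mul] at h
        exact absurd h.2 hp
      · rw [SetLike.mem_coe, Scheme.basicOpen_mul] at h
        exact h.2
    refine ⟨(V ⊓ X.basicOpen (E a) : X.Opens), ?_, (V ⊓ X.basicOpen (E a)).2, ⟨hpV, hpa⟩⟩
    rintro p' ⟨hp'V, hp'a⟩ hp'Q
    have : p' ∈ V ⊓ X.basicOpen (E M) := by
      refine ⟨hp'V, ?_⟩
      rw [hMa, map_mul, map_pow, Scheme.basicOpen_mul]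
      refine ⟨?_, hp'a⟩
      rw [SetLike.mem_coe, Scheme.mem_basicOpen_top] at hp'Q
      rw [SetLike.mem_coe, Scheme.mem_basicOpen_top, map_pow]
      exact hp'Q.pow n
    rw [key V M hM0] at this
    exact this
  have hclopen : IsClopen ((X.basicOpen (E Q₀) : Set X)ᶜ) :=
    ⟨(X.basicOpen (E Q₀)).2.isClosed_compl, hopen⟩
  have huniv := hclopen.eq_univ ⟨p₀, hQ₀p⟩
  have hbot : X.basicOpen (E Q₀) = ⊥ := by
    rw [← Opens.coe_eq_empty, ← Set.compl_univ_iff]
    exact huniv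
  have hzero : E Q₀ = 0 := (basicOpen_eq_bot_iff _).mp hbot
  refine ⟨Q₀ * Polynomial.C Q₀.leadingCoeff⁻¹, Polynomial.monic_mul_leadingCoeff_inv hQ₀0, ?_⟩
  change E (Q₀ * Polynomial.C Q₀.leadingCoeff⁻¹) = 0
  rw [map_mul, hzero, zero_mul]

/-- On a reduced connected scheme locally of finite type over a field `k₁`, the image of any element
of any field mapping to the global functions is integral over `k₁`. -/
theorem isIntegralElem_of_field {X : Scheme.{u}} [IsReduced X] [ConnectedSpace X]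
    {k₁ : Type u} {k₂ : Type*} [Field k₁] [Field k₂]
    (a : X ⟶ Spec (CommRingCat.of k₁)) [LocallyOfFiniteType a] (φ₂ : k₂ →+* Γ(X, ⊤)) (c₂ : k₂) :
    ((a.appTop).hom.comp (Scheme.ΓSpecIso (CommRingCat.of k₁)).inv.hom).IsIntegralElem
      (φ₂ c₂) := by
  apply isIntegralElem_of_local
  intro p
  obtain ⟨_, ⟨(V : X.Opens), hV, rfl⟩, hpV, -⟩ :=
    X.isBasis_affineOpens.exists_subset_of_mem_open (Set.mem_univ p) isOpen_univ
  refine ⟨V, hpV, ?_⟩
  set φ₁ := (a.appTop).hom.comp (Scheme.ΓSpecIso (CommRingCat.of k₁)).inv.hom with hφ₁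
  let r : Γ(X, ⊤) →+* Γ(X, V) := (X.presheaf.map (homOfLE (le_top : V ≤ ⊤)).op).hom
  have hft : (r.comp φ₁).FiniteType := by
    have h1 := a.finiteType_appLE (isAffineOpen_top _) hV (le_top : V ≤ a ⁻¹ᵁ ⊤)
    have h2 : r.comp φ₁ = (a.appLE ⊤ V le_top).hom.comp
        (Scheme.ΓSpecIso (CommRingCat.of k₁)).inv.hom := by
      rw [hφ₁, ← RingHom.comp_assoc]; rfl
    rw [h2]
    refine h1.comp (RingHom.FiniteType.of_surjective _ ?_)
    exact (ConcreteCategory.bijective_of_isIso (Scheme.ΓSpecIso (CommRingCat.of k₁)).inv).2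
  have hc : ∀ n : ℕ, (r (φ₂ c₂)) ^ n - 1 = 0 ∨ IsUnit ((r (φ₂ c₂)) ^ n - 1) := by
    intro n
    have : (r (φ₂ c₂)) ^ n - 1 = (r.comp φ₂) (c₂ ^ n - 1) := by simp
    rw [this]
    by_cases h : c₂ ^ n - 1 = 0
    · left; rw [h, map_zero]
    · right; exact (isUnit_iff_ne_zero.mpr h).map _
  obtain ⟨M, hM, hM0⟩ := isIntegralElem_of_pow_sub_one (r.comp φ₁) hft (r (φ₂ c₂)) hc
  refine ⟨M, hM, ?_⟩
  rw [← hM0]
  exact Polynomial.hom_eval₂ M φ₁ r (φ₂ c₂)

/-- Transfer of integrality between two fields of definition. -/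
theorem isIntegralElem_transfer {X : Scheme.{u}} [IsReduced X] [ConnectedSpace X]
    {k₁ : Type u} {k₂ : Type*} [Field k₁] [Field k₂]
    (a : X ⟶ Spec (CommRingCat.of k₁)) [LocallyOfFiniteType a] (φ₂ : k₂ →+* Γ(X, ⊤))
    (x : Γ(X, ⊤)) (hx : φ₂.IsIntegralElem x) :
    ((a.appTop).hom.comp (Scheme.ΓSpecIso (CommRingCat.of k₁)).inv.hom).IsIntegralElem x := by
  set φ₁ := (a.appTop).hom.comp (Scheme.ΓSpecIso (CommRingCat.of k₁)).inv.hom with hφ₁
  letI : Algebra k₁ Γ(X, ⊤) := φ₁.toAlgebra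
  have hint : ∀ c : k₂, φ₂ c ∈ integralClosure k₁ Γ(X, ⊤) := fun c =>
    isIntegralElem_of_field a φ₂ c
  let φ₂' : k₂ →+* integralClosure k₁ Γ(X, ⊤) := φ₂.codRestrict _ hint
  obtain ⟨P, hP, hP0⟩ := hx
  have h1 : IsIntegral (integralClosure k₁ Γ(X, ⊤)) x := by
    refine ⟨P.map φ₂', hP.map _, ?_⟩
    rw [Polynomial.eval₂_map]
    exact hP0
  exact isIntegral_trans x h1

end Groth.Agent.Lib.helper9.IntIndep
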