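/-
Helper library (helper9): irreducible components of a cofiltered limit of schemes with affine
dominant transition maps.
-/
import Mathlib.AlgebraicGeometry.AffineTransitionLimit
import Mathlib.Topology.NoetherianSpace

set_option autoImplicit false
set_option linter.style.haveILetI false

namespace Groth.Agent.Lib.helper9

open AlgebraicGeometry CategoryTheory Limits Topology

universe u

section top

variable {S X : Type*} [TopologicalSpace S] [TopologicalSpace X]

/-- A continuous map with dense range, from a space with finitely many irreducible components which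
are separated by preimages of opens, induces a bijection on irreducible components. -/
theorem bijOn_irreducibleComponents_closure_image (p : S → X) (hp : Continuous p)
    (hd : DenseRange p) (hfin : (irreducibleComponents S).Finite)
    (hsep : ∀ Y ∈ irreducibleComponents S, ∀ Y' ∈ irreducibleComponents S, Y ≠ Y' →
      ∃ V : Set X, IsOpen V ∧ (p ⁻¹' V ∩ Y).Nonempty ∧ p ⁻¹' V ∩ Y' = ∅) :
    Set.BijOn (fun Y : Set S => closure (p '' Y)) (irreducibleComponents S)
      (irreducibleComponents X) := by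
  classical
  have F1 : ∀ Y ∈ irreducibleComponents S, IsIrreducible (closure (p '' Y)) := fun Y hY =>
    (hY.1.image p hp.continuousOn).closure
  have hcov : (Set.univ : Set X) = ⋃ Y ∈ irreducibleComponents S, closure (p '' Y) := by
    rw [← hfin.closure_biUnion, ← Set.image_iUnion₂, ← Set.sUnion_eq_biUnion,
      sUnion_irreducibleComponents, Set.image_univ, hd.closure_range]
  have F2 : ∀ Z : Set X, IsIrreducible Z →
      ∃ Y ∈ irreducibleComponents S, Z ⊆ closure (p '' Y) := by
    intro Z hZ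
    obtain ⟨z, hz, hZz⟩ := (isIrreducible_iff_sUnion_isClosed.mp hZ)
      (hfin.toFinset.image fun Y => closure (p '' Y))
      (by
        intro z hz
        obtain ⟨Y, -, rfl⟩ := Finset.mem_image.mp hz
        exact isClosed_closure)
      (by
        intro x _
        have hx : x ∈ ⋃ Y ∈ irreducibleComponents S, closure (p '' Y) := hcov ▸ Set.mem_univ x
        obtain ⟨Y, hY, hxY⟩ := Set.mem_iUnion₂.mp hx
        exact Set.mem_sUnion.mpr ⟨_, Finset.mem_coe.mpr
          (Finset.mem_image.mpr ⟨Y, hfin.mem_toFinset.mpr hY, rfl⟩), hxY⟩)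
    obtain ⟨Y, hY, rfl⟩ := Finset.mem_image.mp hz
    exact ⟨Y, hfin.mem_toFinset.mp hY, hZz⟩
  have F3 : ∀ Y ∈ irreducibleComponents S, ∀ Y' ∈ irreducibleComponents S, Y ≠ Y' →
      ¬ closure (p '' Y) ⊆ closure (p '' Y') := by
    intro Y hY Y' hY' hne hsub
    obtain ⟨V, hV, ⟨y, hyV, hyY⟩, hV'⟩ := hsep Y hY Y' hY' hne
    have h1 : p y ∈ closure (p '' Y') := hsub (subset_closure ⟨y, hyY, rfl⟩)
    obtain ⟨_, hxV, ⟨y', hy', rfl⟩⟩ := mem_closure_iff.mp h1 V hV hyV
    have : y' ∈ p ⁻¹' V ∩ Y' := ⟨hxV, hy'⟩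
    rw [hV'] at this
    exact this
  refine ⟨?_, ?_, ?_⟩
  · intro Y hY
    refine ⟨F1 Y hY, fun Z hZ hle => ?_⟩
    obtain ⟨Y', hY', hZY'⟩ := F2 Z hZ
    have : Y = Y' := by
      by_contra hne
      exact F3 Y hY Y' hY' hne (hle.trans hZY')
    rw [this]
    exact hZY'
  · intro Y hY Y' hY' heq
    by_contra hne
    exact F3 Y hY Y' hY' hne (le_of_eq heq)
  · intro Z hZ
    obtain ⟨Y, hY, hZY⟩ := F2 Z hZ.1
    exact ⟨Y, hY, le_antisymm (hZ.2 (F1 Y hY) hZY) hZY⟩

end top

section

variable {I : Type u} [SmallCategory I] [IsCofiltered I] (D : I ⥤ Scheme.{u}) (c : Cone D)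
  (hc : IsLimit c) [hD : ∀ (i j : I) (f : i ⟶ j), IsAffineHom (D.map f)]

include hc in
/-- If all transition maps are dominant, so are the projections from the limit. -/
theorem denseRange_π_app_of_isDominant (hd : ∀ (i j : I) (φ : i ⟶ j), IsDominant (D.map φ))
    (j : I) : DenseRange (c.π.app j).base := by
  have hD' : ∀ {i j : I} (f : i ⟶ j), IsAffineHom (D.map f) := fun f => hD _ _ f
  rw [DenseRange, dense_iff_inter_open]
  intro U hU ⟨x, hxU⟩
  obtain ⟨_, ⟨V, hV : IsAffineOpen V, rfl⟩, hxV, hVU⟩ :=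
    (D.obj j).isBasis_affineOpens.exists_subset_of_mem_open hxU hU
  have hne : ∀ k : Over j, Nonempty ↥((opensDiagram D j V).obj k) := by
    intro k
    have := (hd _ _ k.hom).denseRange
    obtain ⟨_, hyV, ⟨y, rfl⟩⟩ := (dense_iff_inter_open.mp this) V V.isOpen ⟨x, hxV⟩
    exact ⟨⟨y, hyV⟩⟩
  have hcomp : ∀ k : Over j, CompactSpace ↥((opensDiagram D j V).obj k) := by
    intro k
    have : IsAffine ((opensDiagram D j V).obj k) := hV.preimage (D.map k.hom)
    infer_instance
  obtain ⟨s⟩ := Scheme.nonempty_of_isLimit (opensDiagram D j V) (opensCone D c j V)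
    (isLimitOpensCone D c hc j V)
  have hs : s.1 ∈ c.π.app j ⁻¹ᵁ V := s.2
  exact ⟨(c.π.app j).base s.1, hVU hs, ⟨s.1, rfl⟩⟩

end

end Groth.Agent.Lib.helper9
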