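/-
Helper library (helper9): connected components of spaces with finitely many irreducible
components, and of targets of maps with dense range.
-/
import Mathlib.Topology.NoetherianSpace
import Mathlib.Topology.Connected.Clopen

set_option autoImplicit false
set_option linter.style.haveILetI false

namespace Groth.Agent.Lib.helper9

open Topology

section top

variable {S X : Type*} [TopologicalSpace S] [TopologicalSpace X]

/-- A space with finitely many irreducible components has finitely many connected components. -/
theorem finite_range_connectedComponent (hfin : (irreducibleComponents S).Finite) :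
    (Set.range (connectedComponent : S → Set S)).Finite := by
  classical
  let g : Set S → Set S := fun Y => if h : Y.Nonempty then connectedComponent h.some else ∅
  refine (hfin.image g).subset ?_
  rintro _ ⟨x, rfl⟩
  refine ⟨irreducibleComponent x, irreducibleComponent_mem_irreducibleComponents x, ?_⟩
  have hne : (irreducibleComponent x).Nonempty := ⟨x, mem_irreducibleComponent⟩
  show (if h : (irreducibleComponent x).Nonempty then connectedComponent h.some else ∅) = _
  rw [dif_pos hne]
  have hpre : IsPreconnected (irreducibleComponent x) :=
    (isIrreducible_irreducibleComponent (x := x)).isPreirreducible.isPreconnected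
  have hsub := hpre.subset_connectedComponent hne.some_mem
  exact connectedComponent_eq (hsub mem_irreducibleComponent)

/-- If there are finitely many connected components, they are open. -/
theorem isOpen_connectedComponent_of_finite
    (hfin : (Set.range (connectedComponent : S → Set S)).Finite) (x : S) :
    IsOpen (connectedComponent x) := by
  have hcl : IsClosed (⋃ C ∈ Set.range (connectedComponent : S → Set S) \ {connectedComponent x},
      C) := by
    refine (hfin.subset Set.sdiff_subset).isClosed_biUnion ?_
    rintro _ ⟨⟨y, rfl⟩, -⟩
    exact isClosed_connectedComponent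
  have heq : connectedComponent x =
      (⋃ C ∈ Set.range (connectedComponent : S → Set S) \ {connectedComponent x}, C)ᶜ := by
    ext y
    simp only [Set.mem_compl_iff, Set.mem_iUnion, not_exists]
    constructor
    · rintro hy C ⟨⟨z, rfl⟩, hne⟩ hyz
      apply hne
      show connectedComponent z = connectedComponent x
      exact (connectedComponent_eq hyz).trans (connectedComponent_eq hy).symm
    · intro h
      by_contra hy
      refine h (connectedComponent y) ⟨⟨y, rfl⟩, ?_⟩ mem_connectedComponent
      intro heq
      apply hy
      have : connectedComponent y = connectedComponent x := heq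
      rw [← this]
      exact mem_connectedComponent
  rw [heq]
  exact hcl.isOpen_compl

/-- A continuous map with dense range whose target is partitioned into opens `W C` indexed by the
(finitely many, open) connected components `C` of the source, with `p ⁻¹' W C = C`, induces a
bijection on connected components. -/
theorem bijOn_connectedComponents_closure_image (p : S → X) (hp : Continuous p)
    (hd : DenseRange p) (W : Set S → Set X)
    (hWo : ∀ C ∈ Set.range (connectedComponent : S → Set S), IsOpen (W C))
    (hWp : ∀ C ∈ Set.range (connectedComponent : S → Set S), p ⁻¹' W C = C)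
    (hWd : ∀ C ∈ Set.range (connectedComponent : S → Set S),
      ∀ C' ∈ Set.range (connectedComponent : S → Set S), C ≠ C' → Disjoint (W C) (W C'))
    (hWc : ∀ x : X, ∃ C ∈ Set.range (connectedComponent : S → Set S), x ∈ W C) :
    Set.BijOn (fun C : Set S => closure (p '' C)) (Set.range (connectedComponent : S → Set S))
      (Set.range (connectedComponent : X → Set X)) := by
  -- each `W C` is closed
  have hWcl : ∀ C ∈ Set.range (connectedComponent : S → Set S), IsClosed (W C) := by
    intro C hC
    rw [← isOpen_compl_iff]
    have : (W C)ᶜ = ⋃ C' ∈ {C' | C' ∈ Set.range (connectedComponent : S → Set S) ∧ C ≠ C'},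
        W C' := by
      ext x
      simp only [Set.mem_compl_iff, Set.mem_iUnion, Set.mem_ofPred_eq, exists_prop]
      constructor
      · intro hx
        obtain ⟨C', hC', hxC'⟩ := hWc x
        refine ⟨C', ⟨hC', ?_⟩, hxC'⟩
        rintro rfl
        exact hx hxC'
      · rintro ⟨C', ⟨hC', hne⟩, hxC'⟩ hxC
        exact Set.disjoint_left.mp (hWd C hC C' hC' hne) hxC hxC'
    rw [this]
    exact isOpen_biUnion fun C' hC' => hWo C' hC'.1
  -- the closure of the image of `C` is `W C`
  have hcl : ∀ C ∈ Set.range (connectedComponent : S → Set S), closure (p '' C) = W C := by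
    intro C hC
    apply le_antisymm
    · refine (hWcl C hC).closure_subset_iff.mpr ?_
      rintro _ ⟨s, hs, rfl⟩
      have : s ∈ p ⁻¹' W C := by rw [hWp C hC]; exact hs
      exact this
    · intro x hx
      rw [mem_closure_iff]
      intro N hN hxN
      obtain ⟨_, ⟨hyN, hyW⟩, ⟨s, rfl⟩⟩ := (dense_iff_inter_open.mp hd) (N ∩ W C)
        (hN.inter (hWo C hC)) ⟨x, hxN, hx⟩
      refine ⟨p s, hyN, ⟨s, ?_, rfl⟩⟩
      rw [← hWp C hC]
      exact hyW
  -- `W C` is a connected component
  have hconn : ∀ C ∈ Set.range (connectedComponent : S → Set S), ∀ x ∈ W C,
      connectedComponent x = W C := by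
    intro C hC x hx
    obtain ⟨s, rfl⟩ := hC
    have h1 : IsPreconnected (W (connectedComponent s)) := by
      rw [← hcl _ ⟨s, rfl⟩]
      exact ((isPreconnected_connectedComponent (x := s)).image p hp.continuousOn).closure
    apply le_antisymm
    · exact IsClopen.connectedComponent_subset ⟨hWcl _ ⟨s, rfl⟩, hWo _ ⟨s, rfl⟩⟩ hx
    · exact h1.subset_connectedComponent hx
  refine ⟨?_, ?_, ?_⟩
  · intro C hC
    show closure (p '' C) ∈ Set.range (connectedComponent : X → Set X)
    rw [hcl C hC]
    obtain ⟨s, rfl⟩ := hC
    have hps : p s ∈ W (connectedComponent s) := by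
      have : s ∈ p ⁻¹' W (connectedComponent s) := by
        rw [hWp _ ⟨s, rfl⟩]; exact mem_connectedComponent
      exact this
    exact ⟨p s, hconn _ ⟨s, rfl⟩ _ hps⟩
  · intro C hC C' hC' heq
    have h2 : closure (p '' C) = closure (p '' C') := heq
    rw [hcl C hC, hcl C' hC'] at h2
    rw [← hWp C hC, ← hWp C' hC', h2]
  · intro Z hZ
    obtain ⟨x, rfl⟩ := hZ
    obtain ⟨C, hC, hxC⟩ := hWc x
    exact ⟨C, hC, (hcl C hC).trans (hconn C hC x hxC).symm⟩

end top

end Groth.Agent.Lib.helper9
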