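/-
Helper library (helper9): the underlying topological space of a cofiltered limit of schemes with
affine transition maps is the limit of the underlying spaces.
-/
import Groth.Agent.Lib.Helper9.LimProCons
import Mathlib.Topology.Category.TopCat.Limits.Basic

set_option autoImplicit false
set_option linter.style.haveILetI false

namespace Groth.Agent.Lib.helper9

open AlgebraicGeometry CategoryTheory Limits Topology

universe u

section

variable {I : Type u} [SmallCategory I] [IsCofiltered I] (D : I ⥤ Scheme.{u}) (c : Cone D)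
  (hc : IsLimit c) [hD : ∀ (i j : I) (f : i ⟶ j), IsAffineHom (D.map f)]

include hc in
/-- Compatible families of points come from a point of the limit: quasi-compact case. -/
theorem exists_point_of_compatible_of_compact [∀ j, CompactSpace (D.obj j)]
    (t : ∀ j, D.obj j) (ht : ∀ {j j' : I} (m : j ⟶ j'), (D.map m).base (t j) = t j') :
    ∃ x : c.pt, ∀ j, (c.π.app j).base x = t j := by
  classical
  have hcpt : CompactSpace c.pt := Scheme.compactSpace_of_isLimit D c hc
  let F : I → Set c.pt := fun j => (c.π.app j).base ⁻¹' {t j}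
  have hF : ∀ j, ProCons.IsProConstructible (F j) := fun j =>
    Groth.Agent.S15542.result (c.π.app j) {t j} (isProConstructible_singleton (t j))
  by_contra hcon
  push_neg at hcon
  have hInter : ⋂ j, F j ⊆ (∅ : Set c.pt) := by
    intro x hx
    obtain ⟨j, hj⟩ := hcon x
    exact hj (Set.mem_iInter.mp hx j)
  obtain ⟨K, hK⟩ := Groth.Agent.S3439.result c.pt ∅
    (isIndConstructible_of_isOpen isOpen_empty) F hF hInter
  obtain ⟨l, hl⟩ := IsCofiltered.inf_objs_exists K
  have hFl : (c.π.app l).base ⁻¹' {t l} = ∅ := by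
    rw [Set.eq_empty_iff_forall_notMem]
    intro (x : c.pt) hx
    have hxK : x ∈ ⋂ i ∈ K, F i := by
      refine Set.mem_iInter₂.mpr fun j hj => ?_
      obtain ⟨m⟩ := hl hj
      show (c.π.app j).base x = t j
      have h1 : (c.π.app l ≫ D.map m).base x = t j := by
        rw [Scheme.Hom.comp_apply, (hx : (c.π.app l).base x = t l), ht m]
      rwa [c.w m] at h1
    exact hK hxK
  obtain ⟨l', ψ, hψ⟩ := exists_preimage_map_eq_empty D c hc l {t l}
    (isProConstructible_singleton _) hFl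
  have : t l' ∈ (D.map ψ).base ⁻¹' {t l} := ht ψ
  rw [hψ] at this
  exact this

include hc in
/-- Compatible families of points come from a point of the limit. -/
theorem exists_point_of_compatible
    (t : ∀ j, D.obj j) (ht : ∀ {j j' : I} (m : j ⟶ j'), (D.map m).base (t j) = t j') :
    ∃ x : c.pt, ∀ j, (c.π.app j).base x = t j := by
  have hD' : ∀ {i j : I} (f : i ⟶ j), IsAffineHom (D.map f) := fun f => hD _ _ f
  obtain ⟨i₀⟩ := IsCofiltered.nonempty (C := I)
  obtain ⟨_, ⟨U₀, hU₀ : IsAffineOpen U₀, rfl⟩, hxU₀, -⟩ :=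
    (D.obj i₀).isBasis_affineOpens.exists_subset_of_mem_open (Set.mem_univ (t i₀)) isOpen_univ
  let D₁ : Over i₀ ⥤ Scheme.{u} := opensDiagram D i₀ U₀
  let c₁ : Cone D₁ := opensCone D c i₀ U₀
  have hc₁ : IsLimit c₁ := isLimitOpensCone D c hc i₀ U₀
  have hD₁ : ∀ (j j' : Over i₀) (m : j ⟶ j'), IsAffineHom (D₁.map m) := fun _ _ m =>
    (inferInstance : IsAffineHom ((opensDiagram D i₀ U₀).map m))
  have hcomp : ∀ j : Over i₀, CompactSpace (D₁.obj j) := fun j => by
    have : IsAffine (D₁.obj j) := hU₀.preimage (D.map j.hom)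
    infer_instance
  let π₁ : ∀ j : Over i₀, (c.π.app i₀ ⁻¹ᵁ U₀ : Scheme.{u}) ⟶ (D.map j.hom ⁻¹ᵁ U₀ : Scheme.{u}) :=
    fun j => (opensCone D c i₀ U₀).π.app j
  have hπ₁ : ∀ j : Over i₀, π₁ j ≫ (D.map j.hom ⁻¹ᵁ U₀).ι =
      (c.π.app i₀ ⁻¹ᵁ U₀).ι ≫ c.π.app j.left := fun j => Scheme.Hom.resLE_comp_ι _ _
  have hmap : ∀ {j j' : Over i₀} (m : j ⟶ j'),
      (opensDiagram D i₀ U₀).map m ≫ (D.map j'.hom ⁻¹ᵁ U₀).ι =
        (D.map j.hom ⁻¹ᵁ U₀).ι ≫ D.map m.left := fun m => Scheme.Hom.resLE_comp_ι _ _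
  have hmem : ∀ j : Over i₀, t j.left ∈ D.map j.hom ⁻¹ᵁ U₀ := fun j => by
    show (D.map j.hom).base (t j.left) ∈ U₀
    rw [ht j.hom]; exact hxU₀
  let t₁ : ∀ j : Over i₀, (D.map j.hom ⁻¹ᵁ U₀ : Scheme.{u}) := fun j => ⟨t j.left, hmem j⟩
  let τ : ∀ {j j' : Over i₀} (_ : j ⟶ j'),
      (D.map j.hom ⁻¹ᵁ U₀ : Scheme.{u}) ⟶ (D.map j'.hom ⁻¹ᵁ U₀ : Scheme.{u}) :=
    fun m => (opensDiagram D i₀ U₀).map m
  have hτ : ∀ {j j' : Over i₀} (m : j ⟶ j'),
      τ m ≫ (D.map j'.hom ⁻¹ᵁ U₀).ι = (D.map j.hom ⁻¹ᵁ U₀).ι ≫ D.map m.left := fun m => hmap m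
  have ht₁ : ∀ {j j' : Over i₀} (m : j ⟶ j'), (τ m).base (t₁ j) = t₁ j' := by
    intro j j' m
    apply (D.map j'.hom ⁻¹ᵁ U₀).ι.isOpenEmbedding.injective
    rw [← Scheme.Hom.comp_apply, hτ m, Scheme.Hom.comp_apply]
    exact ht m.left
  obtain ⟨x₁, hx₁⟩ := exists_point_of_compatible_of_compact D₁ c₁ hc₁ t₁ ht₁
  refine ⟨(c.π.app i₀ ⁻¹ᵁ U₀).ι.base x₁, ?_⟩
  have key : ∀ j : Over i₀,
      (c.π.app j.left).base ((c.π.app i₀ ⁻¹ᵁ U₀).ι.base x₁) = t j.left := by
    intro j
    have h1 : (π₁ j).base x₁ = t₁ j := hx₁ j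
    rw [← Scheme.Hom.comp_apply, ← hπ₁ j, Scheme.Hom.comp_apply, h1]
    rfl
  intro i
  have h2 := key (Over.mk (IsCofiltered.minToRight i i₀))
  have h3 : (c.π.app (IsCofiltered.min i i₀) ≫ D.map (IsCofiltered.minToLeft i i₀)).base
      ((c.π.app i₀ ⁻¹ᵁ U₀).ι.base x₁) = t i := by
    rw [Scheme.Hom.comp_apply]
    exact (congrArg _ h2).trans (ht _)
  rwa [c.w] at h3

include hc in
/-- A point of the limit is determined by its images in the stages. -/
theorem eq_of_forall_π_app_eq {x y : c.pt}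
    (h : ∀ j, (c.π.app j).base x = (c.π.app j).base y) : x = y := by
  have hD' : ∀ {i j : I} (f : i ⟶ j), IsAffineHom (D.map f) := fun f => hD _ _ f
  have hB := isBasis_preimage_isAffineOpen D c hc
  refine ((TopologicalSpace.IsTopologicalBasis.inseparable_iff hB).mpr ?_).eq
  rintro _ ⟨_, ⟨i, V, hV, rfl⟩, rfl⟩
  show (c.π.app i).base x ∈ V ↔ (c.π.app i).base y ∈ V
  rw [h i]

include hc in
/-- The topology of the limit is the initial topology for the projections. -/
theorem topology_eq_iInf_induced :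
    (inferInstance : TopologicalSpace c.pt) =
      ⨅ j, TopologicalSpace.induced (fun x : c.pt => (c.π.app j).base x)
        (inferInstance : TopologicalSpace (D.obj j)) := by
  have hD' : ∀ {i j : I} (f : i ⟶ j), IsAffineHom (D.map f) := fun f => hD _ _ f
  have hB := isBasis_preimage_isAffineOpen D c hc
  apply le_antisymm
  · exact le_iInf fun j => (c.π.app j).continuous.le_induced
  · rw [TopologicalSpace.le_def]
    intro U hU
    rw [TopologicalSpace.IsTopologicalBasis.open_eq_sUnion' hB hU]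
    refine @isOpen_sUnion _ (⨅ j, TopologicalSpace.induced (fun x : c.pt => (c.π.app j).base x)
      (inferInstance : TopologicalSpace (D.obj j))) _ ?_
    rintro _ ⟨⟨_, ⟨i, V, hV, rfl⟩, rfl⟩, -⟩
    have h1 : IsOpen[TopologicalSpace.induced (fun x : c.pt => (c.π.app i).base x)
        (inferInstance : TopologicalSpace (D.obj i))]
        ((c.π.app i ⁻¹ᵁ V : c.pt.Opens) : Set c.pt) :=
      isOpen_induced_iff.mpr ⟨V, V.isOpen, rfl⟩
    exact TopologicalSpace.le_def.mp (iInf_le _ i) _ h1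

end

end Groth.Agent.Lib.helper9
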