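/-
Helper library (helper9): specialization in a cofiltered limit of schemes with affine transition
maps is detected at the stages; maximal generizations.
-/
import Groth.Agent.Lib.Helper9.LimTop

set_option autoImplicit false
set_option linter.style.haveILetI false

namespace Groth.Agent.Lib.helper9

open AlgebraicGeometry CategoryTheory Limits Topology

universe u

/-- Every point of a quasi-sober `T0` space has a generization which is a maximal point. -/
theorem exists_maximal_generization {X : Type*} [TopologicalSpace X] [QuasiSober X] [T0Space X]
    (x : X) : ∃ η : X, η ⤳ x ∧ ∀ z : X, z ⤳ η → z = η := by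
  obtain ⟨η, hη⟩ := QuasiSober.sober (isIrreducible_irreducibleComponent (x := x))
    isClosed_irreducibleComponent
  refine ⟨η, hη.specializes mem_irreducibleComponent, fun z hz => ?_⟩
  have h1 : irreducibleComponent x ⊆ closure {z} := by
    have := specializes_iff_closure_subset.mp hz
    rwa [hη.def] at this
  have h2 : closure {z} ⊆ irreducibleComponent x :=
    (irreducibleComponent_mem_irreducibleComponents x).2 isIrreducible_singleton.closure h1
  have h3 : closure {z} = closure {η} := by
    rw [hη.def]
    exact le_antisymm h2 h1
  exact (inseparable_iff_closure_eq.mpr h3).eq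

section

variable {I : Type u} [SmallCategory I] [IsCofiltered I] (D : I ⥤ Scheme.{u}) (c : Cone D)
  (hc : IsLimit c) [hD : ∀ (i j : I) (f : i ⟶ j), IsAffineHom (D.map f)]

include hc in
/-- Specialization in the limit is detected at the stages. -/
theorem specializes_of_forall_π_app {x y : c.pt}
    (h : ∀ j, (c.π.app j).base x ⤳ (c.π.app j).base y) : x ⤳ y := by
  have hD' : ∀ {i j : I} (f : i ⟶ j), IsAffineHom (D.map f) := fun f => hD _ _ f
  have hB := isBasis_preimage_isAffineOpen D c hc
  rw [specializes_iff_forall_open]
  intro U hU hyU
  obtain ⟨_, ⟨_, ⟨i, V, hV, rfl⟩, rfl⟩, hyV, hVU⟩ :=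
    TopologicalSpace.IsTopologicalBasis.exists_subset_of_mem_open hB hyU hU
  exact hVU ((h i).mem_open V.isOpen hyV)

end

end Groth.Agent.Lib.helper9
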