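import Mathlib
import Groth.Agent.Lib.Helper3.QFinAffineSpace3
import Groth.Agent.Lib.Helper13.EL2

/-!
# Helper library (helper9): local structure of morphisms locally of finite type (EGA IV 18.12 / 00UJ-type
statement): étale-locally a morphism of finite type is finite over a smooth morphism.
-/

set_option autoImplicit false
set_option linter.style.haveILetI false
set_option backward.isDefEq.respectTransparency false
universe u

open CategoryTheory CategoryTheory.Limits AlgebraicGeometry

namespace Groth.Agent.Lib.helper9.LocStrFT

/-- the polynomial ring in `n` variables is standard smooth of relative dimension `n`. -/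
theorem isStandardSmoothOfRelativeDimension_mvPolynomial (A : Type u) [CommRing A] [Nontrivial A]
    (σ : Type u) (n : ℕ) (e : σ ≃ Fin n) :
    Algebra.IsStandardSmoothOfRelativeDimension n A (MvPolynomial σ A) := by
  haveI : Finite σ := Finite.of_equiv _ e.symm
  haveI : Algebra.IsStandardSmooth A (MvPolynomial σ A) := by
    rw [Algebra.IsStandardSmooth.iff_exists_basis_kaehlerDifferential]
    refine ⟨inferInstance, ⟨Fin n, (KaehlerDifferential.mvPolynomialBasis A σ).reindex e, ?_⟩⟩
    rintro _ ⟨i, rfl⟩
    refine ⟨MvPolynomial.X (e.symm i), ?_⟩
    rw [Module.Basis.reindex_apply, KaehlerDifferential.mvPolynomialBasis_apply]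
  rw [Algebra.IsStandardSmoothOfRelativeDimension.iff_of_isStandardSmooth]
  rw [rank_eq_card_basis ((KaehlerDifferential.mvPolynomialBasis A σ).reindex e)]
  simp

/-- Affine space of dimension `n` over any base is smooth of relative dimension `n`. -/
theorem smoothOfRelativeDimension_affineSpace_over (n : ℕ) (S : Scheme.{u}) :
    SmoothOfRelativeDimension n (𝔸(ULift.{u} (Fin n); S) ↘ S) := by
  have h1 : SmoothOfRelativeDimension n
      (Limits.terminal.from (Spec (CommRingCat.of (MvPolynomial (ULift.{u} (Fin n)) (ULift.{u} ℤ))))) := by
    have := Limits.isIso_of_isTerminal specULiftZIsTerminal.{u} Limits.terminalIsTerminal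
      (Limits.terminal.from _)
    rw [← Limits.terminal.comp_from (Spec.map (CommRingCat.ofHom MvPolynomial.C)),
      MorphismProperty.cancel_right_of_respectsIso (P := @SmoothOfRelativeDimension n),
      HasRingHomProperty.Spec_iff (P := @SmoothOfRelativeDimension n)]
    apply RingHom.locally_of (RingHom.isStandardSmoothOfRelativeDimension_respectsIso (n := n))
    have h2 := isStandardSmoothOfRelativeDimension_mvPolynomial (ULift.{u} ℤ) (ULift.{u} (Fin n)) n
      Equiv.ulift
    exact (RingHom.isStandardSmoothOfRelativeDimension_algebraMap (n := n) (R := ULift.{u} ℤ)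
      (S := MvPolynomial (ULift.{u} (Fin n)) (ULift.{u} ℤ))).2 h2
  haveI := smoothOfRelativeDimension_isStableUnderBaseChange n
  exact MorphismProperty.pullback_fst (P := @SmoothOfRelativeDimension n) _ _ h1

end Groth.Agent.Lib.helper9.LocStrFT
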