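import Mathlib
import Groth.Agent.Lib.Helper9.LocStrFT1

/-!
# Helper library (helper9): local structure of morphisms locally of finite type: étale-locally
around a point where the fibre has dimension `≤ n`, the morphism is finite over a smooth morphism of
relative dimension `n`.
-/

set_option autoImplicit false
set_option linter.style.haveILetI false
set_option backward.isDefEq.respectTransparency false
universe u

open CategoryTheory CategoryTheory.Limits AlgebraicGeometry

namespace Groth.Agent.Lib.helper9.LocStrFT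

theorem local_structure {X S : Scheme.{u}} (f : X ⟶ S) [LocallyOfFiniteType f] (x : X) (n : ℕ)
    (hn : FlatMor.fibreDimAt f x ≤ (n : WithBot ℕ∞)) :
    ∃ (X' Y : Scheme.{u}) (g : X' ⟶ X) (π : X' ⟶ Y) (h : Y ⟶ S) (x' : X'), g ≫ f = π ≫ h ∧ Etale g ∧
      g x' = x ∧ Function.Surjective (g.residueFieldMap x') ∧ IsFinite π ∧
      SmoothOfRelativeDimension n h ∧ ∀ z : ↑X', π z = π x' → z = x' := by
  obtain ⟨V, hV, hxV, -⟩ := exists_isAffineOpen_mem_and_subset (x := f x) (U := ⊤) trivial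
  obtain ⟨U, hU, hxU, -, g₀, π₀, hg₀, hπ₀, hlqf, hlft⟩ :=
    Groth.Agent.Lib.helper3.QFinAffineSpace.exists_qfin_affineSpace' f x V hV hxV n hn ⊤ trivial
  set x₀ : (U : Scheme.{u}) := ⟨x, hxU⟩ with hx₀
  obtain ⟨Y, g', y, hg'et, hg'y, hbij, W, v, hvW, hfin, hsnd, hfst, huniq, -⟩ :=
    Groth.Agent.Lib.helper13.EL.exists_etale_nbhd_of_quasiFiniteAt π₀ x₀ (π₀.quasiFiniteAt x₀)
  haveI : SmoothOfRelativeDimension n
      (𝔸(ULift.{u} (Fin n); (V : Scheme.{u})) ↘ (V : Scheme.{u})) :=
    smoothOfRelativeDimension_affineSpace_over n V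
  have hWv : W.ι ⟨v, hvW⟩ = v := rfl
  refine ⟨W, Y, W.ι ≫ pullback.fst π₀ g' ≫ U.ι, W.ι ≫ pullback.snd π₀ g',
    g' ≫ (𝔸(ULift.{u} (Fin n); (V : Scheme.{u})) ↘ (V : Scheme.{u})) ≫ V.ι, ⟨v, hvW⟩,
    ?_, ?_, ?_, ?_, hfin, ?_, ?_⟩
  · simp only [Category.assoc]
    rw [← hg₀, ← hπ₀]
    simp only [Category.assoc]
    rw [pullback.condition_assoc]
  · infer_instance
  · rw [Scheme.Hom.comp_apply, Scheme.Hom.comp_apply, hWv, hfst]
    rfl
  · rw [Scheme.residueFieldMap_comp, Scheme.residueFieldMap_comp]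
    have h1 : Function.Surjective (W.ι.residueFieldMap ⟨v, hvW⟩).hom :=
      Groth.Agent.Lib.helper3.FibreField.residueFieldMap_surjective W.ι _
    have h2 : Function.Bijective ((pullback.fst π₀ g').residueFieldMap (W.ι ⟨v, hvW⟩)) := by
      apply Groth.Agent.Lib.helper13.EL.bijective_residueFieldMap_fst
      rw [hWv]
      exact Groth.Agent.Lib.helper13.EL.bijective_residueFieldMap_of_eq g' hsnd.symm hbij
    have h3 : Function.Surjective
        (U.ι.residueFieldMap ((pullback.fst π₀ g') (W.ι ⟨v, hvW⟩))).hom :=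
      Groth.Agent.Lib.helper3.FibreField.residueFieldMap_surjective U.ι _
    exact h1.comp (h2.surjective.comp h3)
  · have h0 : SmoothOfRelativeDimension (0 + (n + 0))
        (g' ≫ (𝔸(ULift.{u} (Fin n); (V : Scheme.{u})) ↘ (V : Scheme.{u})) ≫ V.ι) := inferInstance
    simpa using h0
  · intro z hz
    have h1 : pullback.snd π₀ g' (W.ι z) = y := by
      have h2 : pullback.snd π₀ g' (W.ι z) = pullback.snd π₀ g' (W.ι ⟨v, hvW⟩) := by
        rw [← Scheme.Hom.comp_apply, ← Scheme.Hom.comp_apply]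
        exact hz
      rw [h2, hWv, hsnd]
    have h3 : W.ι z = v := huniq (W.ι z) z.2 h1
    exact Subtype.ext h3

end Groth.Agent.Lib.helper9.LocStrFT
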