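import Mathlib
import Groth.Agent.S1249
import Groth.Agent.Lib.Helper3.OneStep1
import Groth.Agent.Lib.Helper3.UnivInjGlobal1
import Groth.Agent.Lib.Helper3.FibreRingBridge
import Groth.Agent.Lib.Helper5.FibreDimLocal
import Groth.Agent.Lib.Helper13.EL2

/-!
# Helper library (helper9): ring form of the local structure theorem with geometrically integral
fibres, extracted from the existence of elementary dévissages (S1249) for the module `N = S`.
-/

set_option autoImplicit false
set_option linter.style.haveILetI false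
universe u

open CategoryTheory AlgebraicGeometry TensorProduct

namespace Groth.Agent.Lib.helper9.LocStrGI

/-- the support of the fibre module of the ring itself is everything. -/
theorem mem_support_fiberMod_self {R S : Type u} [CommRing R] [CommRing S] [Algebra R S]
    (p : Ideal R) [p.IsPrime] (Q : PrimeSpectrum (p.Fiber S)) :
    Q ∈ Module.support (p.Fiber S) (FlatCA.fiberMod p S S) := by
  rw [Groth.Agent.Lib.helper3.OneStep.mem_support_fiberMod_iff]
  have h : Module.annihilator S S = ⊥ := by
    rw [Submodule.eq_bot_iff]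
    intro a ha
    have := Module.mem_annihilator.mp ha (1 : S)
    simpa using this
  rw [h]
  exact bot_le

theorem localDim_univ {X : Type*} [TopologicalSpace X] (Z : Set X) (hZ : ∀ x, x ∈ Z) (x : X) :
    FlatMor.localDim Z ⟨x, hZ x⟩ = FlatMor.localDim X x := by
  have hZu : Z = Set.univ := Set.eq_univ_of_forall hZ
  have hopen : IsOpen Z := hZu ▸ isOpen_univ
  exact Groth.Agent.Lib.helper5.FibreDimLocal.localDim_eq_of_isOpenEmbedding
    (Subtype.val : Z → X) hopen.isOpenEmbedding_subtypeVal ⟨x, hZ x⟩

/-- **Ring form of the local structure theorem with geometrically integral fibres.** -/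
theorem exists_ring_local_structure {R S : Type u} [CommRing R] [CommRing S] [Algebra R S]
    [Algebra.FiniteType R S] (q : PrimeSpectrum S) (n : ℕ)
    (hn : FlatMor.fibreDimAt (Spec.map (CommRingCat.ofHom (algebraMap R S))) q = n) :
    ∃ (R' D S' C : Type u) (_ : CommRing R') (_ : CommRing D) (_ : CommRing S') (_ : CommRing C)
      (α : R →+* R') (β : R' →+* D) (γ : D →+* C) (δ₁ : S →+* S') (δ₂ : S' →+* C)
      (p' : Ideal R') (y : Ideal D) (q' : Ideal S') (z : Ideal C)
      (_ : p'.IsPrime) (_ : y.IsPrime) (_ : q'.IsPrime) (_ : z.IsPrime),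
      γ.comp (β.comp α) = (δ₂.comp δ₁).comp (algebraMap R S) ∧
      α.Etale ∧ δ₁.Etale ∧ Function.Bijective δ₂ ∧ γ.Finite ∧
      p'.comap α = q.asIdeal.under R ∧ q'.comap δ₁ = q.asIdeal ∧ z.comap δ₂ = q' ∧
      z.comap γ = y ∧ y.comap β = p' ∧
      Function.Bijective (Ideal.ResidueField.map (p'.comap α) p' α rfl) ∧
      Function.Bijective (Ideal.ResidueField.map (q'.comap δ₁) q' δ₁ rfl) ∧
      (∀ z₁ : Ideal C, z₁.IsPrime → z₁.comap γ = y → z₁ = z) ∧
      SmoothOfRelativeDimension n (Spec.map (CommRingCat.ofHom β)) ∧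
      GeometricallyIntegral (Spec.map (CommRingCat.ofHom β)) := by
  set p : Ideal R := q.asIdeal.under R with hp
  haveI hqp : q.asIdeal.LiesOver p := ⟨rfl⟩
  set x : PrimeSpectrum (p.Fiber S) := Groth.Agent.Lib.helper3.FibreRingBridge.fibrePoint R S q
    with hx
  have hxc : x.asIdeal.comap (Algebra.TensorProduct.includeRight.toRingHom) = q.asIdeal :=
    Groth.Agent.Lib.helper3.FibreRingBridge.fibrePoint_comap R S q
  have hxq : x.asIdeal = FlatCA.fiberIdeal p q.asIdeal := by
    have h1 := Groth.Agent.Lib.helper3.UnivInjGlobal.fiberIdeal_comap (S := S) p x.asIdeal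
    rw [hxc] at h1
    exact h1.symm
  have hxs : x ∈ Module.support (p.Fiber S) (FlatCA.fiberMod p S S) :=
    mem_support_fiberMod_self p x
  have hn' : FlatMor.localDim (Module.support (p.Fiber S) (FlatCA.fiberMod p S S)) ⟨x, hxs⟩ = n := by
    rw [localDim_univ _ (mem_support_fiberMod_self p) x,
      Groth.Agent.Lib.helper3.FibreRingBridge.localDim_fibrePoint]
    exact hn
  obtain ⟨E⟩ := Groth.Agent.S1249.result S p q.asIdeal n x hxq hxs hn'
  obtain ⟨hEt, hLO, hbij⟩ := E.etaleR
  obtain ⟨hEtS, hLOS, hbijS⟩ := E.etaleS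
  refine ⟨E.R', E.D, E.S', E.C, inferInstance, inferInstance, inferInstance, inferInstance,
    algebraMap R E.R', algebraMap E.R' E.D, algebraMap E.D E.C, algebraMap S E.S',
    algebraMap E.S' E.C, E.p', E.y, E.q', E.z, inferInstance, inferInstance, inferInstance,
    inferInstance, ?_, ?_, ?_, ?_, ?_, ?_, ?_, ?_, ?_, ?_, ?_, ?_, ?_, E.smooth, E.geomInt⟩
  · -- compatibility
    calc (algebraMap E.D E.C).comp ((algebraMap E.R' E.D).comp (algebraMap R E.R'))
        = ((algebraMap E.D E.C).comp (algebraMap E.R' E.D)).comp (algebraMap R E.R') :=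
          (RingHom.comp_assoc _ _ _).symm
      _ = (algebraMap E.R' E.C).comp (algebraMap R E.R') := by
          rw [← IsScalarTower.algebraMap_eq E.R' E.D E.C]
      _ = ((algebraMap E.S' E.C).comp (algebraMap E.R' E.S')).comp (algebraMap R E.R') := by
          rw [IsScalarTower.algebraMap_eq E.R' E.S' E.C]
      _ = (algebraMap E.S' E.C).comp ((algebraMap E.R' E.S').comp (algebraMap R E.R')) :=
          RingHom.comp_assoc _ _ _
      _ = (algebraMap E.S' E.C).comp (algebraMap R E.S') := by
          rw [← IsScalarTower.algebraMap_eq R E.R' E.S']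
      _ = (algebraMap E.S' E.C).comp ((algebraMap S E.S').comp (algebraMap R S)) := by
          rw [IsScalarTower.algebraMap_eq R S E.S']
      _ = _ := (RingHom.comp_assoc _ _ _).symm
  · exact RingHom.etale_algebraMap.mpr hEt
  · exact RingHom.etale_algebraMap.mpr hEtS
  · -- bijectivity of `S' → C`
    refine ⟨?_, E.surjC⟩
    rw [injective_iff_map_eq_zero]
    intro a ha
    have h1 : ∀ g : E.G, a • g = 0 := by
      intro g
      rw [← one_smul E.C g, ← smul_assoc, Algebra.smul_def, ha, zero_mul, zero_smul]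
    have h2 : a • E.f 1 = 0 := by
      apply E.iso.injective
      rw [map_smul, h1, map_zero]
    have h3 := E.isBaseChange
    have h4 : a • h3.equiv ((1 : E.S') ⊗ₜ[S] (1 : S)) = 0 := by
      rw [IsBaseChange.equiv_tmul, one_smul]
      exact h2
    rw [← map_smul, LinearEquiv.map_eq_zero_iff] at h4
    have h5 : a • ((1 : E.S') ⊗ₜ[S] (1 : S)) = a ⊗ₜ[S] (1 : S) := by
      rw [TensorProduct.smul_tmul', smul_eq_mul, mul_one]
    rw [h5] at h4
    have h6 := congrArg (TensorProduct.rid S E.S') h4
    simpa using h6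
  · exact RingHom.finite_algebraMap.mpr E.finiteDC
  · exact hLO.over.symm
  · exact hLOS.over.symm
  · exact (E.zOver.over).symm
  · exact (E.zOverY.over).symm
  · exact (E.yOver.over).symm
  · exact Groth.Agent.Lib.helper13.EL.bijective_residueField_map_congr _ _ _ _ hLO.over rfl hbij
  · exact Groth.Agent.Lib.helper13.EL.bijective_residueField_map_congr _ _ _ _ hLOS.over rfl hbijS
  · intro z₁ hz₁ hz₁y
    exact E.uniq z₁ ⟨hz₁y.symm⟩

end Groth.Agent.Lib.helper9.LocStrGI
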