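import Mathlib
import Groth.Agent.Lib.Helper9.LocStrGI1
import Groth.Agent.Lib.Helper16.FinDeg3

/-!
# Helper library (helper9): the local structure theorem with geometrically integral fibres
(scheme form), from the ring form `exists_ring_local_structure`.
-/

set_option autoImplicit false
set_option linter.style.haveILetI false
set_option backward.isDefEq.respectTransparency false
universe u

open CategoryTheory CategoryTheory.Limits AlgebraicGeometry

namespace Groth.Agent.Lib.helper9.LocStrGI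

theorem isEtaleNbhd_of_eq {U S : Scheme.{u}} {g : U ⟶ S} {u : U} {s s' : S}
    (h : Hens2.IsEtaleNbhd g u s) (e : s = s') : Hens2.IsEtaleNbhd g u s' := by
  subst e; exact h

theorem isEtaleNbhd_comp {U V W : Scheme.{u}} (g₁ : U ⟶ V) (g₂ : V ⟶ W) (u : U) (v : V) (w : W)
    (h₁ : Hens2.IsEtaleNbhd g₁ u v) (h₂ : Hens2.IsEtaleNbhd g₂ v w) :
    Hens2.IsEtaleNbhd (g₁ ≫ g₂) u w := by
  haveI := h₁.etale
  haveI := h₂.etale
  have hv : g₁ u = v := h₁.base_eq
  refine ⟨inferInstance, ?_, ?_⟩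
  · change g₂ (g₁ u) = w
    rw [hv]
    exact h₂.base_eq
  · rw [Scheme.residueFieldMap_comp]
    have h3 : Function.Bijective (g₂.residueFieldMap (g₁ u)) :=
      Groth.Agent.Lib.helper13.EL.bijective_residueFieldMap_of_eq g₂ hv.symm h₂.residue_bijective
    exact h₁.residue_bijective.comp h3

theorem isEtaleNbhd_of_isOpenImmersion {U V : Scheme.{u}} (j : U ⟶ V) [IsOpenImmersion j] (u : U) :
    Hens2.IsEtaleNbhd j u (j u) :=
  ⟨inferInstance, rfl, Groth.Agent.Lib.helper16.FinDeg.residueFieldMap_bijective j u⟩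

theorem isEtaleNbhd_SpecMap {A B : CommRingCat.{u}} (φ : A ⟶ B) (hφ : φ.hom.Etale) (y : Spec B)
    (J : Ideal B) [J.IsPrime] (hJ : y.asIdeal = J)
    (hbij : Function.Bijective (Ideal.ResidueField.map (J.comap φ.hom) J φ.hom rfl)) :
    Hens2.IsEtaleNbhd (Spec.map φ) y (Spec.map φ y) := by
  subst hJ
  refine ⟨HasRingHomProperty.Spec_iff.mpr hφ, rfl, ?_⟩
  rw [Groth.Agent.Lib.helper13.EL.Spec_residueFieldMap_eq]
  have h2 : IsIso (CommRingCat.ofHom (Ideal.ResidueField.map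
      (Spec.map φ y).asIdeal y.asIdeal φ.hom rfl)) :=
    (ConcreteCategory.isIso_iff_bijective _).mpr hbij
  exact ConcreteCategory.bijective_of_isIso _

/-- **Local structure theorem with geometrically integral fibres** (scheme form). -/
theorem local_structure_gi {X S : Scheme.{u}} (f : X ⟶ S) [LocallyOfFiniteType f] (x : X) (n : ℕ)
    (hn : FlatMor.fibreDimAt f x = n) :
    ∃ (S' Y' X' : Scheme.{u}) (e : S' ⟶ S) (h : Y' ⟶ S') (π : X' ⟶ Y') (g : X' ⟶ X) (s' : S')
      (x' : X'), IsAffine S' ∧ IsAffine Y' ∧ IsAffine X' ∧ Hens2.IsEtaleNbhd e s' (f x) ∧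
      Hens2.IsEtaleNbhd g x' x ∧ g ≫ f = π ≫ h ≫ e ∧ SmoothOfRelativeDimension n h ∧
      GeometricallyIntegral h ∧ IsFinite π ∧ h (π x') = s' ∧ ∀ z : X', π z = π x' → z = x' := by
  obtain ⟨_, ⟨V, hV₀, rfl⟩, hxV, -⟩ := S.isBasis_affineOpens.exists_subset_of_mem_open
    (Set.mem_univ (f x)) isOpen_univ
  obtain ⟨_, ⟨U, hU₀, rfl⟩, hxU, hUV : U ≤ f ⁻¹ᵁ V⟩ :=
    X.isBasis_affineOpens.exists_subset_of_mem_open hxV (f ⁻¹ᵁ V).2
  have hV : IsAffineOpen V := hV₀
  have hU : IsAffineOpen U := hU₀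
  have hft : (f.appLE V U hUV).hom.FiniteType := f.finiteType_appLE hV hU hUV
  algebraize [(f.appLE V U hUV).hom]
  set q : Spec Γ(X, U) := hU.primeIdealOf ⟨x, hxU⟩ with hq
  have hqx : hU.fromSpec q = x := hU.fromSpec_primeIdealOf ⟨x, hxU⟩
  have hsq : Spec.map (f.appLE V U hUV) ≫ hV.fromSpec = hU.fromSpec ≫ f :=
    IsAffineOpen.SpecMap_appLE_fromSpec ..
  have hdim : FlatMor.fibreDimAt
      (Spec.map (CommRingCat.ofHom (algebraMap Γ(S, V) Γ(X, U)))) q = n := by
    have h1 : Spec.map (CommRingCat.ofHom (algebraMap Γ(S, V) Γ(X, U))) =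
        Spec.map (f.appLE V U hUV) := rfl
    have e1 : FlatMor.fibreDimAt (hU.fromSpec ≫ f) q = FlatMor.fibreDimAt f (hU.fromSpec q) :=
      Groth.Agent.Lib.helper5.FibreDimLocal.fibreDimAt_comp_etale_left hU.fromSpec f q
    have e2 : FlatMor.fibreDimAt (Spec.map (f.appLE V U hUV) ≫ hV.fromSpec) q =
        FlatMor.fibreDimAt (Spec.map (f.appLE V U hUV)) q :=
      Groth.Agent.Lib.helper5.FibreDimLocal.fibreDimAt_comp_etale_right _ _ q
    have e3 : FlatMor.fibreDimAt f (hU.fromSpec q) = FlatMor.fibreDimAt f x := congrArg _ hqx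
    rw [h1, ← e2, hsq, e1, e3]
    exact hn
  obtain ⟨R', D, S'', C, _, _, _, _, α, β, γ, δ₁, δ₂, p', y, q', z, _, _, _, _, hcomm, hα, hδ₁,
    hδ₂, hγ, hp', hq', hz, hzy, hyp, hbα, hbδ, huniq, hsm, hgi⟩ :=
    exists_ring_local_structure (R := Γ(S, V)) (S := Γ(X, U)) q n hdim
  set s' : Spec (CommRingCat.of R') := ⟨p', inferInstance⟩ with hs'
  set x' : Spec (CommRingCat.of C) := ⟨z, inferInstance⟩ with hx'
  haveI : IsIso (CommRingCat.ofHom δ₂) := (ConcreteCategory.isIso_iff_bijective _).mpr hδ₂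
  have hc : f.appLE V U hUV ≫ CommRingCat.ofHom δ₁ ≫ CommRingCat.ofHom δ₂ =
      CommRingCat.ofHom α ≫ CommRingCat.ofHom β ≫ CommRingCat.ofHom γ := by
    ext a
    exact (congrArg (fun φ => φ a) hcomm).symm
  have hc' : Spec.map (CommRingCat.ofHom δ₂) ≫ Spec.map (CommRingCat.ofHom δ₁) ≫
      Spec.map (f.appLE V U hUV) = Spec.map (CommRingCat.ofHom γ) ≫ Spec.map (CommRingCat.ofHom β) ≫
      Spec.map (CommRingCat.ofHom α) := by
    have := congrArg Spec.map hc
    simpa only [Spec.map_comp, Category.assoc] using this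
  refine ⟨Spec (CommRingCat.of R'), Spec (CommRingCat.of D), Spec (CommRingCat.of C),
    Spec.map (CommRingCat.ofHom α) ≫ hV.fromSpec, Spec.map (CommRingCat.ofHom β),
    Spec.map (CommRingCat.ofHom γ),
    Spec.map (CommRingCat.ofHom δ₂) ≫ Spec.map (CommRingCat.ofHom δ₁) ≫ hU.fromSpec, s', x',
    inferInstance, inferInstance, inferInstance, ?_, ?_, ?_, hsm, hgi, ?_, ?_, ?_⟩
  · -- étale neighbourhood of the base
    have h1 : Hens2.IsEtaleNbhd (Spec.map (CommRingCat.ofHom α)) s'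
        (Spec.map (CommRingCat.ofHom α) s') :=
      isEtaleNbhd_SpecMap (CommRingCat.ofHom α) hα s' p' rfl hbα
    have h2 := isEtaleNbhd_of_isOpenImmersion hV.fromSpec (Spec.map (CommRingCat.ofHom α) s')
    refine isEtaleNbhd_of_eq (isEtaleNbhd_comp _ _ _ _ _ h1 h2) ?_
    have h3 : Spec.map (CommRingCat.ofHom α) s' = Spec.map (f.appLE V U hUV) q :=
      PrimeSpectrum.ext hp'
    rw [h3, ← Scheme.Hom.comp_apply, hsq, Scheme.Hom.comp_apply, hqx]
  · -- étale neighbourhood of `x`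
    have h0 := isEtaleNbhd_of_isOpenImmersion (Spec.map (CommRingCat.ofHom δ₂)) x'
    have h1 : Hens2.IsEtaleNbhd (Spec.map (CommRingCat.ofHom δ₁))
        (Spec.map (CommRingCat.ofHom δ₂) x')
        (Spec.map (CommRingCat.ofHom δ₁) (Spec.map (CommRingCat.ofHom δ₂) x')) :=
      isEtaleNbhd_SpecMap (CommRingCat.ofHom δ₁) hδ₁ _ q' hz hbδ
    have h2 := isEtaleNbhd_of_isOpenImmersion hU.fromSpec
      (Spec.map (CommRingCat.ofHom δ₁) (Spec.map (CommRingCat.ofHom δ₂) x'))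
    refine isEtaleNbhd_of_eq (isEtaleNbhd_comp _ _ _ _ _ h0 (isEtaleNbhd_comp _ _ _ _ _ h1 h2)) ?_
    have h3 : Spec.map (CommRingCat.ofHom δ₁) (Spec.map (CommRingCat.ofHom δ₂) x') = q := by
      apply PrimeSpectrum.ext
      change (z.comap δ₂).comap δ₁ = q.asIdeal
      rw [hz, hq']
    rw [h3, hqx]
  · -- commutativity
    simp only [Category.assoc]
    rw [← hsq, ← Category.assoc (Spec.map (CommRingCat.ofHom δ₁)), ← Category.assoc, hc']
    simp only [Category.assoc]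
  · exact (IsFinite.SpecMap_iff _).mpr hγ
  · apply PrimeSpectrum.ext
    change (z.comap γ).comap β = p'
    rw [hzy, hyp]
  · intro w hw
    have h1 : w.asIdeal.comap γ = y := by
      have := congrArg PrimeSpectrum.asIdeal hw
      rw [← hzy]
      exact this
    exact PrimeSpectrum.ext (huniq w.asIdeal w.isPrime h1)

end Groth.Agent.Lib.helper9.LocStrGI
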