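/-
Helper library (helper9): density of open subsets in terms of maximal points.
-/
import Groth.Agent.Lib.Helper9.LimSpecializes

set_option autoImplicit false
set_option linter.style.haveILetI false

namespace Groth.Agent.Lib.helper9

open Topology

variable {X : Type*} [TopologicalSpace X] [QuasiSober X] [T0Space X]

/-- An open subset containing all maximal points is dense. -/
theorem dense_of_forall_maximal_mem {V : Set X}
    (h : ∀ η : X, (∀ z : X, z ⤳ η → z = η) → η ∈ V) : Dense V := by
  rw [dense_iff_inter_open]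
  intro U hU ⟨x, hx⟩
  obtain ⟨η, h1, h2⟩ := exists_maximal_generization x
  exact ⟨η, h1.mem_open hU hx, h η h2⟩

/-- If there are finitely many maximal points, a dense open subset contains all of them. -/
theorem maximal_mem_of_dense {V : Set X} (hV : IsOpen V) (hd : Dense V)
    (hfin : {s : X | ∀ z : X, z ⤳ s → z = s}.Finite) (η : X) (hη : ∀ z : X, z ⤳ η → z = η) :
    η ∈ V := by
  classical
  let M : Set X := {s : X | ∀ z : X, z ⤳ s → z = s}
  let C : Set X := ⋃ μ ∈ M \ {η}, closure {μ}
  have hC : IsClosed C :=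
    (hfin.subset Set.sdiff_subset).isClosed_biUnion fun μ _ => isClosed_closure
  have hηC : η ∉ C := by
    intro hmem
    obtain ⟨μ, ⟨hμM, hμη⟩, hμ⟩ := Set.mem_iUnion₂.mp hmem
    have : μ ⤳ η := specializes_iff_mem_closure.mpr hμ
    exact hμη (hη μ this)
  obtain ⟨x, hxC, hxV⟩ := (dense_iff_inter_open.mp hd) Cᶜ hC.isOpen_compl ⟨η, hηC⟩
  obtain ⟨μ, h1, h2⟩ := exists_maximal_generization x
  have hμ : μ = η := by
    by_contra hne
    exact hxC (Set.mem_iUnion₂.mpr ⟨μ, ⟨h2, hne⟩, specializes_iff_mem_closure.mp h1⟩)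
  rw [hμ] at h1
  exact h1.mem_open hV hxV

end Groth.Agent.Lib.helper9
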