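import Groth.Agent.Lib.Helper9.FinExt1
import Groth.Agent.Lib.Helper16.ModPairLib

/-!
# Extending finite surjective morphisms over the interior of a modulus pair (helper9)

`exists_finite_extension_modPair`: `(S, I)` a qcqs modulus pair with interior `U`, `t₀ : T₀ ⟶ U`
finite surjective.  Then `t₀` is the interior of a finite surjective minimal morphism of modulus
pairs `t : T ⟶ S`.  (Zariski's main theorem + scheme-theoretic closure.)
-/

set_option autoImplicit false
set_option linter.style.haveILetI false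
set_option backward.isDefEq.respectTransparency false

namespace Groth.Agent.Lib.helper9.ModPairExt

open AlgebraicGeometry CategoryTheory Limits TopologicalSpace
open Groth.Agent.Lib.helper16.EffCartier Groth.Agent.Lib.helper16.EffCartier2

universe u

/-- Variant of helper16's `isEffCartier_comap_imageι` for a general quasi-compact morphism. -/
theorem isEffCartier_comap_imageι' {X P T₀ : Scheme.{u}} (I : X.IdealSheafData)
    (hI : BlowUp.IsEffCartierIdeal I) (j : T₀ ⟶ P) [QuasiCompact j] (ρ : P ⟶ X)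
    (h : ∀ u : T₀, ρ (j u) ∈ ModPair.interior I) :
    BlowUp.IsEffCartierIdeal (I.comap (j.imageι ≫ ρ)) := by
  haveI := toImage_isSchemeTheoreticallyDominant j
  set r := j.imageι ≫ ρ with hr
  intro y
  obtain ⟨V, hyV, t, ht, hV⟩ := hI (r y)
  obtain ⟨_, ⟨V', hV', rfl⟩, hyV', hVU⟩ :=
    ((j.image).isBasis_affineOpens).exists_subset_of_mem_open
      (show y ∈ ((r ⁻¹ᵁ V.1 : (j.image).Opens) : Set _) from hyV) (r ⁻¹ᵁ V.1).2
  refine ⟨⟨V', hV'⟩, hyV', (r.appLE V.1 V' hVU).hom t, ?_, ?_⟩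
  · apply appLE_mem_nonZeroDivisors_of_dominant j.toImage r V.1 t V' hVU
    intro u hu
    rw [← interior_inf_chart I V t hV]
    refine ⟨?_, hVU hu⟩
    have h1 : r (j.toImage u) = ρ (j u) := by
      rw [hr, ← Scheme.Hom.comp_apply, ← Category.assoc, Scheme.Hom.toImage_imageι,
        Scheme.Hom.comp_apply]
    rw [h1]
    exact h u
  · rw [Groth.Agent.Lib.helper7.IdealComap.ideal_comap r I V.2 hV' hVU, hV, Ideal.map_span,
      Set.image_singleton]

theorem exists_finite_extension_modPair_aux {S : Scheme.{u}}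
    [CompactSpace S] [QuasiSeparatedSpace S] (I : S.IdealSheafData)
    (hI : BlowUp.IsEffCartierIdeal I) {T₀ : Scheme.{u}} (U : S.Opens) (hU : U = ModPair.interior I)
    (t₀ : T₀ ⟶ (U : Scheme.{u})) [IsFinite t₀] [Surjective t₀] :
    ∃ (T : Scheme.{u}) (t : T ⟶ S) (j : T₀ ⟶ T), IsFinite t ∧ Surjective t ∧
      BlowUp.IsEffCartierIdeal (I.comap t) ∧ IsOpenImmersion j ∧
      Set.range j.base = t.base ⁻¹' (U : Set S) ∧
      j ≫ t = t₀ ≫ U.ι := by
  haveI : IsAffineHom U.ι := by rw [hU]; exact isAffineHom_interior_ι I hI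
  haveI : LocallyQuasiFinite (t₀ ≫ U.ι) := inferInstance
  obtain ⟨P, j, π, hj1, hj2, hπ, hjπ⟩ := ZMTFin.zmt_finite (t₀ ≫ U.ι)
  haveI := FinExt.isOpenImmersion_toImage j
  have hπj : ∀ x : T₀, π (j x) ∈ U := by
    intro x
    rw [← Scheme.Hom.comp_apply, hjπ, Scheme.Hom.comp_apply]
    exact (t₀ x).2
  -- the range of `T₀` in its scheme-theoretic image
  have hrange : ∀ x' : j.image, π (j.imageι x') ∈ U → x' ∈ Set.range j.toImage := by
    intro x' h
    have hle : Set.range ⇑j ⊆ Set.range ⇑(π ⁻¹ᵁ U).ι := by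
      rintro _ ⟨x, rfl⟩
      rw [Scheme.Opens.range_ι]
      exact hπj x
    obtain ⟨jU, hjU⟩ : ∃ jU : T₀ ⟶ ((π ⁻¹ᵁ U : P.Opens) : Scheme.{u}), jU ≫ (π ⁻¹ᵁ U).ι = j :=
      ⟨IsOpenImmersion.lift (π ⁻¹ᵁ U).ι j hle, IsOpenImmersion.lift_fac _ _ _⟩
    have hjUv : jU ≫ (π ∣_ U) = t₀ := by
      rw [← cancel_mono U.ι, Category.assoc, morphismRestrict_ι, reassoc_of% hjU, hjπ]
    haveI : IsProper (jU ≫ (π ∣_ U)) := by rw [hjUv]; infer_instance
    haveI : IsProper jU := IsProper.of_comp jU (π ∣_ U)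
    have hcl : IsClosed (Set.range ⇑jU) := jU.isClosedMap.isClosed_range
    have hy : j.imageι x' ∈ closure (Set.range ⇑j) := by
      rw [← Scheme.Hom.support_ker, ← Scheme.IdealSheafData.range_subschemeι]
      exact ⟨x', rfl⟩
    have hmem : (⟨j.imageι x', h⟩ : ↥(π ⁻¹ᵁ U : P.Opens)) ∈ closure (Set.range ⇑jU) := by
      rw [(π ⁻¹ᵁ U).ι.isEmbedding.closure_eq_preimage_closure_image, ← Set.range_comp]
      have : (⇑(π ⁻¹ᵁ U).ι ∘ ⇑jU) = ⇑j := by
        ext x; rw [Function.comp_apply, ← Scheme.Hom.comp_apply, hjU]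
      rw [this]
      exact hy
    rw [hcl.closure_eq] at hmem
    obtain ⟨x, hx⟩ := hmem
    refine ⟨x, j.imageι.isEmbedding.injective ?_⟩
    rw [← Scheme.Hom.comp_apply, Scheme.Hom.toImage_imageι]
    have e1 : j x = (π ⁻¹ᵁ U).ι (jU x) := by
      rw [← Scheme.Hom.comp_apply, hjU]
    rw [e1, hx]
    rfl
  have hcomm : j.toImage ≫ j.imageι ≫ π = t₀ ≫ U.ι := by
    rw [Scheme.Hom.toImage_imageι_assoc, hjπ]
  -- density of the interior
  have hdense : closure (U : Set S) = Set.univ := by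
    have h1 : U.ι.ker = ⊥ := ker_ι_eq_bot_of_isEffCartier I hI U (fun x hx => by rw [hU]; exact hx)
    have h2 := Scheme.Hom.support_ker U.ι
    rw [h1, Scheme.Opens.range_ι] at h2
    rw [← h2]
    simp
  refine ⟨j.image, j.imageι ≫ π, j.toImage, inferInstance, ⟨?_⟩, ?_, inferInstance, ?_, hcomm⟩
  · -- surjectivity
    have hcl : IsClosed (Set.range ⇑(j.imageι ≫ π)) := (j.imageι ≫ π).isClosedMap.isClosed_range
    have hsub : (U : Set S) ⊆ Set.range ⇑(j.imageι ≫ π) := by
      intro s hs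
      obtain ⟨x, hx⟩ := t₀.surjective ⟨s, hs⟩
      refine ⟨j.toImage x, ?_⟩
      rw [← Scheme.Hom.comp_apply, hcomm, Scheme.Hom.comp_apply, hx]
      rfl
    have := closure_minimal hsub hcl
    rw [hdense] at this
    intro s
    exact this (Set.mem_univ s)
  · exact isEffCartier_comap_imageι' I hI j π (fun u => hU ▸ hπj u)
  · ext x'
    constructor
    · rintro ⟨x, rfl⟩
      show (j.imageι ≫ π) (j.toImage x) ∈ U
      rw [← Scheme.Hom.comp_apply, hcomm, Scheme.Hom.comp_apply]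
      exact (t₀ x).2
    · intro h
      apply hrange x'
      have : (j.imageι ≫ π) x' ∈ U := h
      rwa [Scheme.Hom.comp_apply] at this

theorem exists_finite_extension_modPair {S : Scheme.{u}}
    [CompactSpace S] [QuasiSeparatedSpace S] (I : S.IdealSheafData)
    (hI : BlowUp.IsEffCartierIdeal I) {T₀ : Scheme.{u}}
    (t₀ : T₀ ⟶ (ModPair.interior I : Scheme.{u})) [IsFinite t₀] [Surjective t₀] :
    ∃ (T : Scheme.{u}) (t : T ⟶ S) (j : T₀ ⟶ T), IsFinite t ∧ Surjective t ∧
      BlowUp.IsEffCartierIdeal (I.comap t) ∧ IsOpenImmersion j ∧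
      Set.range j.base = t.base ⁻¹' (ModPair.interior I : Set S) ∧
      j ≫ t = t₀ ≫ (ModPair.interior I).ι :=
  exists_finite_extension_modPair_aux I hI (ModPair.interior I) rfl t₀

end Groth.Agent.Lib.helper9.ModPairExt
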