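/-
Helper library (helper9): from a descent statement for a source-local property `P` (valid for
affine source) to the "neighbourhood of a point" version along a cofiltered limit `S = lim S_i`
with affine transition maps.
-/
import Groth.Agent.Lib.Helper9.UnramDescend

set_option autoImplicit false
set_option linter.style.haveILetI false

namespace Groth.Agent.Lib.helper9

open AlgebraicGeometry CategoryTheory Limits

universe u

section

variable {I : Type u} [SmallCategory I] [IsCofiltered I] (D : I ⥤ Scheme.{u}) (c : Cone D)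
  (hc : IsLimit c) [hD : ∀ (i j : I) (f : i ⟶ j), IsAffineHom (D.map f)]

include hc in
/-- Neighbourhood version of a descent statement. `hdesc` is the descent statement for affine
sources (under the hypothesis `Q`). -/
theorem exists_nhd_stage_of_descent (P : MorphismProperty Scheme.{u}) [IsZariskiLocalAtSource P]
    (Q : MorphismProperty Scheme.{u})
    (hdesc : ∀ (j : I) {V Y' : Scheme.{u}} (f' : V ⟶ Y') (g' : Y' ⟶ D.obj j), IsAffine V → Q f' →
      P (stageMap (c.π.app j) f' g') → ∃ l : Over j, P (stageMap (D.map l.hom) f' g'))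
    (i₀ : I) {X₀ Y₀ : Scheme.{u}} (f₀ : X₀ ⟶ Y₀) (g₀ : Y₀ ⟶ D.obj i₀)
    (hQ : ∀ (j : Over i₀) (V : (pullback (D.map j.hom) (f₀ ≫ g₀)).Opens),
      Q (V.ι ≫ stageMap (D.map j.hom) f₀ g₀))
    {X Y : Scheme.{u}} (f : X ⟶ Y) (g : Y ⟶ c.pt) (qY : Y ⟶ Y₀) (qX : X ⟶ X₀)
    (hY : IsPullback qY g g₀ (c.π.app i₀)) (hX : IsPullback qX f f₀ qY) (x : X)
    (U : X.Opens) (hxU : x ∈ U) (hU : P (U.ι ≫ f)) :
    ∃ (k : Over i₀) (rX : X ⟶ pullback (D.map k.hom) (f₀ ≫ g₀))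
      (V : (pullback (D.map k.hom) (f₀ ≫ g₀)).Opens),
      rX ≫ pullback.fst (D.map k.hom) (f₀ ≫ g₀) = f ≫ g ≫ c.π.app k.left ∧
      rX ≫ pullback.snd (D.map k.hom) (f₀ ≫ g₀) = qX ∧ rX.base x ∈ V ∧
      P (V.ι ≫ stageMap (D.map k.hom) f₀ g₀) := by
  let D' : Over i₀ ⥤ Scheme.{u} := bcDiagram D i₀ (f₀ ≫ g₀)
  let c' : Cone D' := bcCone D c i₀ (f₀ ≫ g₀)
  have hc' : IsLimit c' := isLimitBcCone D c i₀ (f₀ ≫ g₀) hc
  have hD' : ∀ {j j' : Over i₀} (m : j ⟶ j'), IsAffineHom (D'.map m) := fun m =>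
    (inferInstance : IsAffineHom ((bcDiagram D i₀ (f₀ ≫ g₀)).map m))
  have hXY : IsPullback (f ≫ g) qX (c.π.app i₀) (f₀ ≫ g₀) := (hX.paste_vert hY).flip
  let e : X ≅ pullback (c.π.app i₀) (f₀ ≫ g₀) := hXY.isoPullback
  have he1 : e.hom ≫ pullback.fst (c.π.app i₀) (f₀ ≫ g₀) = f ≫ g := hXY.isoPullback_hom_fst
  have he2 : e.hom ≫ pullback.snd (c.π.app i₀) (f₀ ≫ g₀) = qX := hXY.isoPullback_hom_snd
  let πc : ∀ j : Over i₀, pullback (c.π.app i₀) (f₀ ≫ g₀) ⟶ pullback (D.map j.hom) (f₀ ≫ g₀) :=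
    fun j => (bcCone D c i₀ (f₀ ≫ g₀)).π.app j
  have hπ1 : ∀ j : Over i₀, πc j ≫ pullback.fst (D.map j.hom) (f₀ ≫ g₀) =
      pullback.fst (c.π.app i₀) (f₀ ≫ g₀) ≫ c.π.app j.left := fun j => pullback.lift_fst _ _ _
  have hπ2 : ∀ j : Over i₀, πc j ≫ pullback.snd (D.map j.hom) (f₀ ≫ g₀) =
      pullback.snd (c.π.app i₀) (f₀ ≫ g₀) := fun j => bcCone_π_snd D c i₀ (f₀ ≫ g₀) j
  have hπw : ∀ {j j' : Over i₀} (m : j ⟶ j'),
      πc j ≫ (bcDiagram D i₀ (f₀ ≫ g₀)).map m = πc j' := fun m =>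
    (bcCone D c i₀ (f₀ ≫ g₀)).w m
  -- the projections `X ⟶ X_j`
  let r : ∀ j : Over i₀, X ⟶ pullback (D.map j.hom) (f₀ ≫ g₀) := fun j => e.hom ≫ πc j
  have hr1 : ∀ j : Over i₀, r j ≫ pullback.fst (D.map j.hom) (f₀ ≫ g₀) =
      f ≫ g ≫ c.π.app j.left := by
    intro j
    show (e.hom ≫ πc j) ≫ _ = _
    rw [Category.assoc, hπ1, ← Category.assoc, he1, Category.assoc]
  have hr2 : ∀ j : Over i₀, r j ≫ pullback.snd (D.map j.hom) (f₀ ≫ g₀) = qX := by
    intro j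
    show (e.hom ≫ πc j) ≫ _ = _
    rw [Category.assoc, hπ2, he2]
  -- an affine open neighbourhood coming from a stage
  obtain ⟨_, ⟨j, V₁, hV₁, rfl⟩, hxV₁, hVU₁⟩ := TopologicalSpace.Opens.isBasis_iff_nbhd.mp
    (isBasis_preimage_isAffineOpen D' c' hc') (U := e.inv ⁻¹ᵁ U) (x := e.hom.base x)
    (by
      show e.inv.base (e.hom.base x) ∈ U
      rw [← Scheme.Hom.comp_apply, e.hom_inv_id]
      exact hxU)
  let V : (pullback (D.map j.hom) (f₀ ≫ g₀)).Opens := V₁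
  have hV : IsAffineOpen V := hV₁
  have hxV : (r j).base x ∈ V := hxV₁
  have hVU : ∀ y : X, (r j).base y ∈ V → y ∈ U := by
    intro y hy
    have hy' : e.hom.base y ∈ c'.π.app j ⁻¹ᵁ V₁ := hy
    have h2 : e.inv.base (e.hom.base y) ∈ U := hVU₁ hy'
    rwa [← Scheme.Hom.comp_apply, e.hom_inv_id] at h2
  let fj := stageMap (D.map j.hom) f₀ g₀
  let f₀' : (V : Scheme.{u}) ⟶ pullback (D.map j.hom) g₀ := V.ι ≫ fj
  let g₀' : pullback (D.map j.hom) g₀ ⟶ D.obj j.left := pullback.fst (D.map j.hom) g₀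
  have hVa : IsAffine (V : Scheme.{u}) := hV
  -- limit-level squares
  let qY' : Y ⟶ pullback (D.map j.hom) g₀ := pullback.lift (g ≫ c.π.app j.left) qY
    (by rw [Category.assoc, c.w, hY.w])
  have hqY'1 : qY' ≫ pullback.fst (D.map j.hom) g₀ = g ≫ c.π.app j.left := pullback.lift_fst _ _ _
  have hqY'2 : qY' ≫ pullback.snd (D.map j.hom) g₀ = qY := pullback.lift_snd _ _ _
  have hY' : IsPullback qY' g g₀' (c.π.app j.left) :=
    isPullback_rebase_base (c.w j.hom) hY qY' hqY'1 hqY'2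
  have hk1 : r j ≫ fj = f ≫ qY' := by
    apply pullback.hom_ext
    · rw [Category.assoc, stageMap_fst, hr1, Category.assoc, hqY'1]
    · rw [Category.assoc, stageMap_snd, ← Category.assoc, hr2, Category.assoc, hqY'2, hX.w]
  have hXj : IsPullback (r j) f fj qY' :=
    isPullback_rebase_top hX qY' hqY'2 (r j) hk1 (hr2 j)
  let U'' : X.Opens := r j ⁻¹ᵁ V
  have hU''U : U'' ≤ U := fun y hy => hVU y hy
  have hX' : IsPullback (r j ∣_ V) (U''.ι ≫ f) f₀' qY' :=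
    (isPullback_morphismRestrict (r j) V).paste_vert hXj
  have hPU'' : P (U''.ι ≫ f) := by
    have h1 : U''.ι = X.homOfLE hU''U ≫ U.ι := (Scheme.homOfLE_ι _ hU''U).symm
    rw [h1, Category.assoc]
    exact IsZariskiLocalAtSource.comp hU _
  have h : P (stageMap (c.π.app j.left) f₀' g₀') :=
    (stageMap_iff_of_isPullback P hY' hX').mpr hPU''
  obtain ⟨l, hl⟩ := hdesc j.left f₀' g₀' hVa (hQ j V) h
  -- stage-level squares
  let k : Over i₀ := Over.mk (l.hom ≫ j.hom)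
  let m : k ⟶ j := Over.homMk l.hom
  let tY : pullback (D.map k.hom) g₀ ⟶ pullback (D.map j.hom) g₀ := (bcDiagram D i₀ g₀).map m
  let tX : pullback (D.map k.hom) (f₀ ≫ g₀) ⟶ pullback (D.map j.hom) (f₀ ≫ g₀) :=
    (bcDiagram D i₀ (f₀ ≫ g₀)).map m
  have htY1 : tY ≫ pullback.fst (D.map j.hom) g₀ = pullback.fst (D.map k.hom) g₀ ≫ D.map l.hom :=
    pullback.lift_fst _ _ _
  have hY'' : IsPullback tY (pullback.fst (D.map k.hom) g₀) g₀' (D.map l.hom) :=
    isPullback_rebase_base (D.map_comp l.hom j.hom).symm (isPullback_stage_base (D.map k.hom) g₀)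
      tY htY1 (bcDiagram_map_snd D i₀ g₀ m)
  have hXk : IsPullback tX (stageMap (D.map k.hom) f₀ g₀) fj tY :=
    isPullback_stageF_map D i₀ f₀ g₀ m
  have hX'' : IsPullback (tX ∣_ V) ((tX ⁻¹ᵁ V).ι ≫ stageMap (D.map k.hom) f₀ g₀) f₀' tY :=
    (isPullback_morphismRestrict tX V).paste_vert hXk
  refine ⟨k, r k, tX ⁻¹ᵁ V, hr1 k, hr2 k, ?_,
    (stageMap_iff_of_isPullback P hY'' hX'').mp hl⟩
  show tX.base ((r k).base x) ∈ V
  rw [← Scheme.Hom.comp_apply]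
  have : r k ≫ tX = r j :=
    (Category.assoc _ _ _).trans (congrArg (fun t => e.hom ≫ t) (hπw m))
  rw [this]
  exact hxV

end

end Groth.Agent.Lib.helper9
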