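/-
Helper library (helper9): neighbourhood versions of étale / smooth descent along cofiltered
limits with affine transition maps.
-/
import Groth.Agent.Lib.Helper9.ModelDescendGen
import Groth.Agent.Lib.Helper9.NhdDescend

set_option autoImplicit false
set_option linter.style.haveILetI false
set_option backward.isDefEq.respectTransparency false

namespace Groth.Agent.Lib.helper9

open AlgebraicGeometry CategoryTheory Limits Topology

universe u

section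

variable {I : Type u} [SmallCategory I] [IsCofiltered I] (D : I ⥤ Scheme.{u}) (c : Cone D)
  (hc : IsLimit c) [hD : ∀ (i j : I) (f : i ⟶ j), IsAffineHom (D.map f)]

include hc in
/-- Generic neighbourhood statement, for a property with descent for affine sources. -/
theorem nhd_iff_exists_stage (P : MorphismProperty Scheme.{u}) [IsZariskiLocalAtSource P]
    [P.IsStableUnderBaseChange]
    (hdesc : ∀ (j : I) {V Y' : Scheme.{u}} (f' : V ⟶ Y') (g' : Y' ⟶ D.obj j), IsAffine V →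
      LocallyOfFinitePresentation f' →
      P (stageMap (c.π.app j) f' g') → ∃ l : Over j, P (stageMap (D.map l.hom) f' g'))
    (i₀ : I) {X₀ Y₀ : Scheme.{u}} (f₀ : X₀ ⟶ Y₀) (g₀ : Y₀ ⟶ D.obj i₀)
    [LocallyOfFinitePresentation f₀]
    {X Y : Scheme.{u}} (f : X ⟶ Y) (g : Y ⟶ c.pt) (qY : Y ⟶ Y₀) (qX : X ⟶ X₀)
    (hY : IsPullback qY g g₀ (c.π.app i₀)) (hX : IsPullback qX f f₀ qY) (x : ↥X) :
    (∃ U : X.Opens, x ∈ U ∧ P (U.ι ≫ f)) ↔
      ∃ (j : I) (φ : j ⟶ i₀) (Xj Yj : Scheme.{u}) (fj : Xj ⟶ Yj) (gj : Yj ⟶ D.obj j)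
        (pY : Yj ⟶ Y₀) (pX : Xj ⟶ X₀) (rX : X ⟶ Xj), IsPullback pY gj g₀ (D.map φ) ∧
          IsPullback pX fj f₀ pY ∧ rX ≫ pX = qX ∧ rX ≫ fj ≫ gj = f ≫ g ≫ c.π.app j ∧
            ∃ V : Xj.Opens, rX.base x ∈ V ∧ P (V.ι ≫ fj) := by
  constructor
  · rintro ⟨U, hxU, hU⟩
    obtain ⟨k, rX, V, h1, h2, hxV, hV⟩ := exists_nhd_stage_of_descent D c hc
      P @LocallyOfFinitePresentation
      (fun j V Y' f' g' hVa hQ hP => hdesc j f' g' hVa hQ hP)
      i₀ f₀ g₀ (fun j V => by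
        have : LocallyOfFinitePresentation (stageMap (D.map j.hom) f₀ g₀) :=
          MorphismProperty.of_isPullback (P := @LocallyOfFinitePresentation)
            (isPullback_stageMap (D.map j.hom) f₀ g₀) inferInstance
        show LocallyOfFinitePresentation (V.ι ≫ stageMap (D.map j.hom) f₀ g₀)
        infer_instance) f g qY qX hY hX x U hxU hU
    refine ⟨k.left, k.hom, _, _, stageMap (D.map k.hom) f₀ g₀, pullback.fst (D.map k.hom) g₀,
      pullback.snd (D.map k.hom) g₀, pullback.snd (D.map k.hom) (f₀ ≫ g₀), rX,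
      isPullback_stage_base _ _, isPullback_stageMap _ _ _, h2, ?_, V, hxV, hV⟩
    rw [stageMap_fst, h1]
  · rintro ⟨j, φ, Xj, Yj, fj, gj, pY, pX, rX, hYj, hXj, h1, h2, V, hxV, hV⟩
    let rY : Y ⟶ Yj := hYj.lift qY (g ≫ c.π.app j) (by rw [hY.w, Category.assoc, c.w])
    have hrY1 : rY ≫ pY = qY := hYj.lift_fst _ _ _
    have hrY2 : rY ≫ gj = g ≫ c.π.app j := hYj.lift_snd _ _ _
    have hcomm : rX ≫ fj = f ≫ rY := by
      apply hYj.hom_ext
      · simp only [Category.assoc]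
        rw [← hXj.w, hrY1, ← Category.assoc, h1, hX.w]
      · simp only [Category.assoc]
        rw [h2, hrY2]
    have hsq : IsPullback rX f fj rY := by
      refine IsPullback.of_right ?_ hcomm hXj
      rw [h1, hrY1]; exact hX
    refine ⟨rX ⁻¹ᵁ V, hxV, ?_⟩
    have hsq' : IsPullback (rX ∣_ V) ((rX ⁻¹ᵁ V).ι ≫ f) (V.ι ≫ fj) rY :=
      (isPullback_morphismRestrict rX V).paste_vert hsq
    exact MorphismProperty.of_isPullback (P := P) hsq' hV

include hc in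
theorem etale_nhd_iff_exists_stage
    (i₀ : I) {X₀ Y₀ : Scheme.{u}} (f₀ : X₀ ⟶ Y₀) (g₀ : Y₀ ⟶ D.obj i₀)
    [LocallyOfFinitePresentation f₀]
    {X Y : Scheme.{u}} (f : X ⟶ Y) (g : Y ⟶ c.pt) (qY : Y ⟶ Y₀) (qX : X ⟶ X₀)
    (hY : IsPullback qY g g₀ (c.π.app i₀)) (hX : IsPullback qX f f₀ qY) (x : ↥X) :
    (∃ U : X.Opens, x ∈ U ∧ Etale (U.ι ≫ f)) ↔
      ∃ (j : I) (φ : j ⟶ i₀) (Xj Yj : Scheme.{u}) (fj : Xj ⟶ Yj) (gj : Yj ⟶ D.obj j)
        (pY : Yj ⟶ Y₀) (pX : Xj ⟶ X₀) (rX : X ⟶ Xj), IsPullback pY gj g₀ (D.map φ) ∧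
          IsPullback pX fj f₀ pY ∧ rX ≫ pX = qX ∧ rX ≫ fj ≫ gj = f ≫ g ≫ c.π.app j ∧
            ∃ V : Xj.Opens, rX.base x ∈ V ∧ Etale (V.ι ≫ fj) :=
  nhd_iff_exists_stage D c hc @Etale
    (fun j V Y' f' g' hVa hQ hP => by
      have : IsAffine V := hVa
      have : LocallyOfFinitePresentation f' := hQ
      exact exists_etale_stageMap D c hc j f' g' hP)
    i₀ f₀ g₀ f g qY qX hY hX x

include hc in
theorem smooth_nhd_iff_exists_stage
    (i₀ : I) {X₀ Y₀ : Scheme.{u}} (f₀ : X₀ ⟶ Y₀) (g₀ : Y₀ ⟶ D.obj i₀)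
    [LocallyOfFinitePresentation f₀]
    {X Y : Scheme.{u}} (f : X ⟶ Y) (g : Y ⟶ c.pt) (qY : Y ⟶ Y₀) (qX : X ⟶ X₀)
    (hY : IsPullback qY g g₀ (c.π.app i₀)) (hX : IsPullback qX f f₀ qY) (x : ↥X) :
    (∃ U : X.Opens, x ∈ U ∧ Smooth (U.ι ≫ f)) ↔
      ∃ (j : I) (φ : j ⟶ i₀) (Xj Yj : Scheme.{u}) (fj : Xj ⟶ Yj) (gj : Yj ⟶ D.obj j)
        (pY : Yj ⟶ Y₀) (pX : Xj ⟶ X₀) (rX : X ⟶ Xj), IsPullback pY gj g₀ (D.map φ) ∧
          IsPullback pX fj f₀ pY ∧ rX ≫ pX = qX ∧ rX ≫ fj ≫ gj = f ≫ g ≫ c.π.app j ∧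
            ∃ V : Xj.Opens, rX.base x ∈ V ∧ Smooth (V.ι ≫ fj) :=
  nhd_iff_exists_stage D c hc @Smooth
    (fun j V Y' f' g' hVa hQ hP => by
      have : IsAffine V := hVa
      have : LocallyOfFinitePresentation f' := hQ
      exact exists_smooth_stageMap D c hc j f' g' hP)
    i₀ f₀ g₀ f g qY qX hY hX x

end

end Groth.Agent.Lib.helper9
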