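/-
Helper library (helper9): geometric irreducibility / connectedness of a morphism in terms of the
geometric numbers of components of the fibres; generic geometric irreducibility / connectedness
(EGA IV 9.7.7).
-/
import Mathlib
import Groth.Prelude.Def_MoreMor
import Groth.Agent.Lib.Helper3.GeomSep
import Groth.Agent.Lib.Helper3.GeomFiberBC
import Groth.Agent.Lib.Helper9.NGeom10

set_option autoImplicit false
set_option linter.style.haveILetI false
set_option backward.isDefEq.respectTransparency false

namespace Groth.Agent.Lib.helper9.NGeom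

open AlgebraicGeometry CategoryTheory Limits TopologicalSpace

universe u

section Top

variable {T : Type*} [TopologicalSpace T]

theorem encard_irreducibleComponents_eq_one_iff :
    (irreducibleComponents T).encard = 1 ↔ IrreducibleSpace T := by
  constructor
  · intro h
    obtain ⟨Z, hZ⟩ := Set.encard_eq_one.mp h
    have hZmem : Z ∈ irreducibleComponents T := by rw [hZ]; rfl
    have huniv : Z = Set.univ := by
      rw [Set.eq_univ_iff_forall]
      intro t
      obtain ⟨Z', hZ', htZ'⟩ := exists_mem_irreducibleComponents_subset_of_isIrreducible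
        ({t} : Set T) isIrreducible_singleton
      have : Z' = Z := by
        rw [hZ] at hZ'
        exact hZ'
      rw [← this]
      exact htZ' rfl
    rw [irreducibleSpace_def]
    change IsIrreducible (Set.univ : Set T)
    rw [← huniv]
    exact hZmem.1
  · intro h
    rw [irreducibleComponents_eq_singleton, Set.encard_singleton]

theorem card_connectedComponents_eq_one_iff :
    ENat.card (_root_.ConnectedComponents T) = 1 ↔ ConnectedSpace T := by
  rw [ENat.card_eq_one_iff_unique]
  constructor
  · rintro ⟨hu⟩
    obtain ⟨t, -⟩ := ConnectedComponents.surjective_coe (default : _root_.ConnectedComponents T)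
    haveI : Nonempty T := ⟨t⟩
    haveI : PreconnectedSpace T := by
      rw [preconnectedSpace_iff_connectedComponent]
      intro x
      rw [Set.eq_univ_iff_forall]
      intro y
      have h1 : (ConnectedComponents.mk y : _root_.ConnectedComponents T) =
          ConnectedComponents.mk x := Subsingleton.elim _ _
      exact ConnectedComponents.coe_eq_coe'.mp h1
    exact { toPreconnectedSpace := inferInstance, toNonempty := inferInstance }
  · intro h
    obtain ⟨t⟩ := (inferInstance : Nonempty T)
    haveI : Inhabited (_root_.ConnectedComponents T) := ⟨ConnectedComponents.mk t⟩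
    exact ⟨Unique.mk' _⟩

end Top

section Link

variable {X Y : Scheme.{u}} (f : X ⟶ Y)

theorem geometricallyIrreducible_fiber_iff (y : Y) :
    GeometricallyIrreducible (f.fiberToSpecResidueField y) ↔ MoreMor.nGeomIrredComp f y = 1 := by
  unfold MoreMor.nGeomIrredComp
  rw [encard_irreducibleComponents_eq_one_iff]
  constructor
  · intro h
    exact GeometricallyIrreducible.geometrically_irreducibleSpace _ _ _ (.of_hasPullback _ _)
  · intro h
    exact Groth.Agent.Lib.helper3.GeomSep.geometricallyIrreducible_of_irreducibleSpace_sepClosed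
      (k := Y.residueField y) (f.fiberToSpecResidueField y)
      (SeparableClosure (Y.residueField y)) h

theorem geometricallyConnected_fiber_iff (y : Y) :
    GeometricallyConnected (f.fiberToSpecResidueField y) ↔ MoreMor.nGeomConnComp f y = 1 := by
  unfold MoreMor.nGeomConnComp
  rw [card_connectedComponents_eq_one_iff]
  constructor
  · intro h
    exact GeometricallyConnected.geometrically_connectedSpace _ _ _ (.of_hasPullback _ _)
  · intro h
    exact Groth.Agent.Lib.helper3.GeomSep.geometricallyConnected_of_connectedSpace_sepClosed
      (k := Y.residueField y) (f.fiberToSpecResidueField y)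
      (SeparableClosure (Y.residueField y)) h

theorem geometricallyIrreducible_iff :
    GeometricallyIrreducible f ↔ ∀ y, MoreMor.nGeomIrredComp f y = 1 := by
  rw [GeometricallyIrreducible.iff_geometricallyIrreducible_fiber]
  exact forall_congr' (geometricallyIrreducible_fiber_iff f)

theorem geometricallyConnected_iff :
    GeometricallyConnected f ↔ ∀ y, MoreMor.nGeomConnComp f y = 1 := by
  rw [GeometricallyConnected.iff_geometricallyConnected_fiber]
  exact forall_congr' (geometricallyConnected_fiber_iff f)

end Link

section Generic

variable {X Y : Scheme.{u}} (f : X ⟶ Y) [IrreducibleSpace ↑Y] [LocallyOfFiniteType f]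
  [QuasiCompact f]

/-- On an irreducible base the geometric numbers of components are constant on an open
neighbourhood of the generic point. -/
theorem exists_opens_const :
    ∃ V : Y.Opens, genericPoint ↑Y ∈ V ∧ ∀ y ∈ V,
      MoreMor.nGeomIrredComp f y = MoreMor.nGeomIrredComp f (genericPoint ↑Y) ∧
        MoreMor.nGeomConnComp f y = MoreMor.nGeomConnComp f (genericPoint ↑Y) := by
  obtain ⟨V, hVsub, hηV, hVopen, H⟩ := exists_open_in_closure f (genericPoint ↑Y)
  have hcl : closure ({genericPoint ↑Y} : Set Y) = Set.univ := (genericPoint_spec ↑Y).def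
  have hclopen : IsOpen (closure ({genericPoint ↑Y} : Set Y)) := hcl ▸ isOpen_univ
  have hVo : IsOpen V := by
    have h1 := hclopen.isOpenMap_subtype_val _ hVopen
    rwa [Subtype.image_preimage_coe, Set.inter_eq_right.mpr hVsub] at h1
  exact ⟨⟨V, hVo⟩, hηV, H⟩

/-- **EGA IV 9.7.7 (i)**. -/
theorem exists_opens_geometricallyIrreducible
    (h : GeometricallyIrreducible (f.fiberToSpecResidueField (genericPoint ↑Y))) :
    ∃ V : Y.Opens, (V : Set ↑Y).Nonempty ∧ GeometricallyIrreducible (f ∣_ V) := by
  obtain ⟨V, hηV, H⟩ := exists_opens_const f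
  refine ⟨V, ⟨_, hηV⟩, ?_⟩
  rw [geometricallyIrreducible_iff]
  intro s
  rw [Groth.Agent.Lib.helper3.GeomFiberBC.nGeomIrredComp_baseChange f (f ∣_ V) (f ⁻¹ᵁ V).ι V.ι
    (isPullback_morphismRestrict f V).flip s]
  have hs : V.ι s ∈ V := s.2
  rw [(H _ hs).1]
  exact (geometricallyIrreducible_fiber_iff f _).mp h

/-- **EGA IV 9.7.7 (ii)**. -/
theorem exists_opens_geometricallyConnected
    (h : GeometricallyConnected (f.fiberToSpecResidueField (genericPoint ↑Y))) :
    ∃ V : Y.Opens, (V : Set ↑Y).Nonempty ∧ GeometricallyConnected (f ∣_ V) := by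
  obtain ⟨V, hηV, H⟩ := exists_opens_const f
  refine ⟨V, ⟨_, hηV⟩, ?_⟩
  rw [geometricallyConnected_iff]
  intro s
  rw [Groth.Agent.Lib.helper3.GeomFiberBC.nGeomConnComp_baseChange f (f ∣_ V) (f ⁻¹ᵁ V).ι V.ι
    (isPullback_morphismRestrict f V).flip s]
  have hs : V.ι s ∈ V := s.2
  rw [(H _ hs).2]
  exact (geometricallyConnected_fiber_iff f _).mp h

end Generic

end Groth.Agent.Lib.helper9.NGeom
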