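import Mathlib
import Groth.Prelude.Def_MoreMor
import Groth.Agent.Lib.Helper13.GF3
import Groth.Agent.Lib.Helper13.EL8
import Groth.Agent.Lib.Helper13.WT8

/-!
# helper9: counting the points of a fibre of a base change of a quasi-finite morphism

If `f : X ⟶ Y` is quasi-finite, `g : T ⟶ Y` and `t : T` is a point such that the residue field of `t`
splits the minimal polynomials (over `κ(g t)`) of all elements of the residue fields of the points of
`X` over `g t`, then the fibre of `X ×_Y T ⟶ T` over `t` has exactly `n(g t)` points, `n` being the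
geometric number of points of the fibres of `f`.
-/

set_option autoImplicit false
set_option linter.style.haveILetI false
set_option backward.isDefEq.respectTransparency false

namespace Groth.Agent.Lib.helper9.NGeomDvr

open AlgebraicGeometry CategoryTheory Limits

universe u

variable {X Y T : Scheme.{u}} (f : X ⟶ Y) (g : T ⟶ Y)

/-- The residue field of `t` splits the minimal polynomials of the elements of the residue fields of
all points of `X` lying over the image of `t`. -/
def SplitsAt (t : T) : Prop :=
  ∀ (x : X) (s : Y) (hx : f x = s) (ht : g t = s) (a : X.residueField x),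
    letI := ((Y.residueFieldCongr hx).inv ≫ f.residueFieldMap x).hom.toAlgebra
    ((minpoly (Y.residueField s) a).map
      ((Y.residueFieldCongr ht).inv ≫ g.residueFieldMap t).hom).Splits

/-- Field-theoretic core: a root, in an extension `F` of `L`, of a polynomial over `K` that splits
in `L`, lies in `L`. -/
lemma mem_range_of_splits {K E L F : Type*} [Field K] [Field E] [Field L] [Field F]
    (iE : K →+* E) (iL : K →+* L) (lam : E →+* F) (mu : L →+* F)
    (hcomp : lam.comp iE = mu.comp iL) (a : E)
    (hint : letI := iE.toAlgebra; IsIntegral K a)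
    (hs : letI := iE.toAlgebra; ((minpoly K a).map iL).Splits) :
    lam a ∈ mu.range := by
  letI := iE.toAlgebra
  letI := iL.toAlgebra
  letI : Algebra K F := (mu.comp iL).toAlgebra
  have hc : ∀ r : K, lam (iE r) = mu (iL r) := fun r ↦ congrArg (fun φ : K →+* F ↦ φ r) hcomp
  let lam' : E →ₐ[K] F := { lam with commutes' := fun r ↦ hc r }
  let mu' : L →ₐ[K] F := { mu with commutes' := fun r ↦ rfl }
  have hint' : IsIntegral K (lam' a) := hint.map lam'
  have hmin : minpoly K (lam' a) = minpoly K a := minpoly.algHom_eq lam' lam'.injective a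
  have := IsIntegral.mem_range_algHom_of_minpoly_splits (R := K) (K := L) (L := F) hint'
    (by rw [hmin]; exact hs) mu'
  obtain ⟨b, hb⟩ := this
  exact ⟨b, hb⟩

variable {f g}

/-- Under the splitting hypothesis, the residue field extension of `X ×_Y T ⟶ T` at any point over
`t` is purely inseparable (in fact trivial). -/
theorem isPurelyInseparable_snd_of_splitsAt [LocallyQuasiFinite f] (w : ↑(pullback f g))
    (hs : SplitsAt f g (pullback.snd f g w)) :
    ((pullback.snd f g).residueFieldMap w).hom.IsPurelyInseparable := by
  set T' := Scheme.Pullback.Triplet.ofPoint w with hT'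
  obtain ⟨p, hp⟩ := Groth.Agent.Lib.helper13.EL.exists_eq_SpecTensorTo T' w rfl rfl
  have hfinres : (f.residueFieldMap T'.x).hom.Finite :=
    Groth.Agent.Lib.helper13.EL.finite_residueFieldMap_of_quasiFiniteAt (f.quasiFiniteAt T'.x)
  haveI : IsArtinianRing T'.tensor := Groth.Agent.Lib.helper13.EL.isArtinianRing_tensor T' hfinres
  have hmax : p.asIdeal.IsMaximal := Ideal.IsPrime.isMaximal' (R := T'.tensor) p.isPrime
  obtain ⟨q, hq⟩ := ExpChar.exists (T.residueField T'.y)
  have key := Groth.Agent.Lib.helper13.EL.isPurelyInseparable_snd_SpecTensorTo T' p hmax q ?_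
  · rw [hp] at key
    exact key
  · intro F _ lam mu hcomp a
    refine ⟨0, ?_⟩
    rw [pow_zero, pow_one]
    have hfin : ((Y.residueFieldCongr T'.hx).inv ≫ f.residueFieldMap T'.x).hom.Finite := by
      rw [CommRingCat.hom_comp]
      exact hfinres.comp (RingHom.Finite.of_surjective _
        (ConcreteCategory.bijective_of_isIso (Y.residueFieldCongr T'.hx).inv).surjective)
    refine mem_range_of_splits _ _ lam mu hcomp a ?_ (hs T'.x T'.s T'.hx T'.hy a)
    letI := ((Y.residueFieldCongr T'.hx).inv ≫ f.residueFieldMap T'.x).hom.toAlgebra
    haveI : Module.Finite (Y.residueField T'.s) (X.residueField T'.x) := hfin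
    exact Algebra.IsIntegral.isIntegral a

variable (f g)

/-- **Counting the points of a fibre of a base change.** Under the splitting hypothesis at `t`, the
fibre of `X ×_Y T ⟶ T` over `t` has exactly `n(g t)` points. -/
theorem nGeomConnComp_eq_card_fiber [LocallyQuasiFinite f] [LocallyOfFiniteType f] [QuasiCompact f]
    (t : T) (hs : SplitsAt f g t) :
    MoreMor.nGeomConnComp f (g t) = ENat.card ↥((pullback.snd f g).fiber t) := by
  have hfin : (f ⁻¹' {g t}).Finite := f.finite_preimage_singleton _
  obtain ⟨n, hn1, -, hn3⟩ := Groth.Agent.Lib.helper13.GF.nGeom_eq f (g t) hfin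
  have sq : IsPullback (pullback.fst f g) (pullback.snd f g) f g := IsPullback.of_hasPullback f g
  have hres : ∀ p, (f.residueFieldMap p).hom.Finite := fun p ↦
    Groth.Agent.Lib.helper13.EL.finite_residueFieldMap_of_quasiFiniteAt (f.quasiFiniteAt p)
  have hres' : ∀ p, ((pullback.snd f g).residueFieldMap p).hom.Finite := fun p ↦
    Groth.Agent.Lib.helper13.EL.finite_residueFieldMap_of_quasiFiniteAt
      ((pullback.snd f g).quasiFiniteAt p)
  have hbc := Groth.Agent.Lib.helper13.WT.fibreIntegral_baseChange sq (fun _ ↦ 1) t hfin hres hres'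
  have hfin' : ((pullback.snd f g) ⁻¹' {t}).Finite := (pullback.snd f g).finite_preimage_singleton _
  haveI hF : Finite {p : ↑(pullback f g) // pullback.snd f g p = t} := hfin'.to_subtype
  have hone : ∀ p : {p : ↑(pullback f g) // pullback.snd f g p = t},
      (letI := ((pullback.snd f g).residueFieldMap p.1).hom.toAlgebra;
        Field.finSepDegree (T.residueField (pullback.snd f g p.1))
          ((pullback f g).residueField p.1)) = 1 := by
    intro p
    have hsp : SplitsAt f g (pullback.snd f g p.1) := by rw [p.2]; exact hs
    have hPI := isPurelyInseparable_snd_of_splitsAt p.1 hsp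
    letI := ((pullback.snd f g).residueFieldMap p.1).hom.toAlgebra
    haveI : IsPurelyInseparable (T.residueField (pullback.snd f g p.1))
      ((pullback f g).residueField p.1) := hPI
    exact IsPurelyInseparable.finSepDegree_eq_one _ _
  have hL : (∑ᶠ p : {p : ↑(pullback f g) // pullback.snd f g p = t}, (1 : ℤ) *
      (letI := ((pullback.snd f g).residueFieldMap p.1).hom.toAlgebra;
        (Field.finSepDegree (T.residueField (pullback.snd f g p.1))
          ((pullback f g).residueField p.1) : ℤ))) =
      (Nat.card {p : ↑(pullback f g) // pullback.snd f g p = t} : ℤ) := by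
    have h1 : ∀ p : {p : ↑(pullback f g) // pullback.snd f g p = t}, (1 : ℤ) *
      (letI := ((pullback.snd f g).residueFieldMap p.1).hom.toAlgebra;
        (Field.finSepDegree (T.residueField (pullback.snd f g p.1))
          ((pullback f g).residueField p.1) : ℤ)) = 1 := by
      intro p
      rw [one_mul]
      exact_mod_cast hone p
    rw [finsum_congr h1]
    letI := Fintype.ofFinite {p : ↑(pullback f g) // pullback.snd f g p = t}
    rw [finsum_eq_sum_of_fintype, Finset.sum_const, Finset.card_univ, Nat.card_eq_fintype_card]
    simp
  have hR : (n : ℤ) = (Nat.card {p : ↑(pullback f g) // pullback.snd f g p = t} : ℤ) := by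
    rw [hn3, ← hL]
    exact hbc.symm
  have hn : n = Nat.card {p : ↑(pullback f g) // pullback.snd f g p = t} := by exact_mod_cast hR
  rw [hn1, hn]
  have e : ↥((pullback.snd f g).fiber t) ≃ {p : ↑(pullback f g) // pullback.snd f g p = t} :=
    ((pullback.snd f g).fiberHomeo t).toEquiv
  rw [ENat.card_congr e]
  letI := Fintype.ofFinite {p : ↑(pullback f g) // pullback.snd f g p = t}
  rw [ENat.card_eq_coe_fintype_card, Nat.card_eq_fintype_card]

end Groth.Agent.Lib.helper9.NGeomDvr
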