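import Mathlib

/-!
# helper9: a finite extension splitting finitely many finite extensions
-/

set_option autoImplicit false
set_option linter.style.haveILetI false

namespace Groth.Agent.Lib.helper9.NGeomDvr

open IntermediateField Polynomial

universe u

/-- Finitely many finite extensions `E i` of a field `k` are all split by a common finite extension
`N` of `k`: the minimal polynomial of every element of every `E i` splits in `N`. -/
theorem exists_finite_splitting (k : Type u) [Field k] {ι : Type*} [Finite ι]
    (E : ι → Type u) [∀ i, Field (E i)] [∀ i, Algebra k (E i)] [∀ i, FiniteDimensional k (E i)] :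
    ∃ (N : Type u) (_ : Field N) (_ : Algebra k N), FiniteDimensional k N ∧
      ∀ i (a : E i), ((minpoly k a).map (algebraMap k N)).Splits := by
  let Ω := AlgebraicClosure k
  let N : IntermediateField k Ω := ⨆ i, normalClosure k (E i) Ω
  haveI : Normal k N := IntermediateField.normal_iSup (F := k) (K := Ω) (fun i ↦ normalClosure k (E i) Ω)
  refine ⟨N, inferInstance, inferInstance, inferInstance, ?_⟩
  intro i a
  let σ : E i →ₐ[k] Ω := IsAlgClosed.lift
  have hmem : σ a ∈ N := by
    have h1 : σ a ∈ normalClosure k (E i) Ω := σ.fieldRange_le_normalClosure ⟨a, rfl⟩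
    exact (le_iSup (fun i ↦ normalClosure k (E i) Ω) i) h1
  have h2 : minpoly k a = minpoly k (⟨σ a, hmem⟩ : N) := by
    rw [← minpoly.algHom_eq σ σ.injective a]
    exact (IntermediateField.minpoly_eq (⟨σ a, hmem⟩ : N)).symm
  rw [h2]
  exact Normal.splits inferInstance _

end Groth.Agent.Lib.helper9.NGeomDvr
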