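import Mathlib
import Groth.Prelude.Def_MoreMor
import Groth.Agent.Lib.Helper9.NGeomDvr1
import Groth.Agent.Lib.Helper9.NGeomDvr3
import Groth.Agent.Lib.Helper9.NGeomDvr4
import Groth.Agent.Lib.Helper9.NGeomDvr6

/-!
# helper9: a discrete valuation ring realizing the geometric numbers of points of two fibres
(EGA IV 15.5.x)
-/

set_option autoImplicit false
set_option linter.style.haveILetI false
set_option backward.isDefEq.respectTransparency false

namespace Groth.Agent.Lib.helper9.NGeomDvr

open AlgebraicGeometry CategoryTheory Limits IsLocalRing

universe u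

/-- The residue field of the closed point of the spectrum of a local ring with algebraically closed
residue field is algebraically closed. -/
lemma isAlgClosed_residueField_closedPoint (A : Type u) [CommRing A] [IsLocalRing A]
    [IsAlgClosed (ResidueField A)] :
    IsAlgClosed ((Spec (CommRingCat.of A)).residueField (closedPoint A)) := by
  let c : Spec (CommRingCat.of A) := closedPoint A
  have hmax : c.asIdeal.IsMaximal := maximalIdeal.isMaximal A
  let q : ResidueField A →+* (Spec (CommRingCat.of A)).residueField c :=
    Ideal.Quotient.lift (maximalIdeal A) (toResidueField (CommRingCat.of A) c).hom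
      (fun a ha ↦ (toResidueField_eq_zero_iff (CommRingCat.of A) c a).mpr ha)
  have hq : Function.Bijective q := by
    refine ⟨q.injective, ?_⟩
    exact Ideal.Quotient.lift_surjective_of_surjective _ _
      (toResidueField_surjective_of_isMaximal (CommRingCat.of A) c hmax)
  exact IsAlgClosed.of_ringEquiv _ _ (RingEquiv.ofBijective q hq)

theorem exists_dvr_realizing {X Y : Scheme.{u}} [IsLocallyNoetherian Y] (f : X ⟶ Y)
    [LocallyQuasiFinite f] [LocallyOfFiniteType f] [QuasiCompact f] (y y' : Y) (hne : y' ≠ y)
    (hgen : y' ⤳ y) :
    ∃ (A : Type u) (_ : CommRing A) (_ : IsDomain A) (_ : IsDiscreteValuationRing A)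
      (g : Spec (CommRingCat.of A) ⟶ Y),
      g.base (IsLocalRing.closedPoint A) = y ∧
      g.base (genericPoint (Spec (CommRingCat.of A))) = y' ∧
      MoreMor.nGeomConnComp f y =
        ENat.card ↥((pullback.snd f g).fiber (IsLocalRing.closedPoint A)) ∧
      MoreMor.nGeomConnComp f y' =
        ENat.card ↥((pullback.snd f g).fiber (genericPoint (Spec (CommRingCat.of A)))) := by
  -- the finite set of points over `y'` and a finite extension splitting their residue fields
  let S := {x : X // f x = y'}
  haveI : Finite S := (f.finite_preimage_singleton y').to_subtype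
  letI algE : ∀ x : S, Algebra (Y.residueField y') (X.residueField x.1) := fun x ↦
    ((Y.residueFieldCongr x.2).inv ≫ f.residueFieldMap x.1).hom.toAlgebra
  haveI : ∀ x : S, FiniteDimensional (Y.residueField y') (X.residueField x.1) := by
    intro x
    have hfinres : (f.residueFieldMap x.1).hom.Finite :=
      Groth.Agent.Lib.helper13.EL.finite_residueFieldMap_of_quasiFiniteAt (f.quasiFiniteAt x.1)
    have hfin : ((Y.residueFieldCongr x.2).inv ≫ f.residueFieldMap x.1).hom.Finite := by
      rw [CommRingCat.hom_comp]
      exact hfinres.comp (RingHom.Finite.of_surjective _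
        (ConcreteCategory.bijective_of_isIso (Y.residueFieldCongr x.2).inv).surjective)
    exact hfin
  obtain ⟨N, _, _, hNfin, hNsplit⟩ :=
    exists_finite_splitting (Y.residueField y') (fun x : S ↦ X.residueField x.1)
  -- the discrete valuation ring
  obtain ⟨t, htm, ht⟩ := exists_mem_maximalIdeal_specResidue_ne_zero hgen hne
  obtain ⟨A, _, _, _, φ, hφm, hac, hK⟩ :=
    exists_dvr_of_ringHom (Y.presheaf.stalk y) (maximalIdeal (Y.presheaf.stalk y))
      (Y.residueField y') (specResidue hgen).hom (specResidue_frac hgen) (ker_specResidue_le hgen)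
      t htm ht N
  haveI := hac
  let g : Spec (CommRingCat.of A) ⟶ Y := Spec.map (CommRingCat.ofHom φ) ≫ Y.fromSpecStalk y
  -- the closed point
  have hclosed : g (closedPoint A) = y := by
    have h1 : Spec.map (CommRingCat.ofHom φ) (closedPoint A) =
        closedPoint (Y.presheaf.stalk y) := by
      apply PrimeSpectrum.ext
      exact hφm
    show (Spec.map (CommRingCat.ofHom φ) ≫ Y.fromSpecStalk y) (closedPoint A) = y
    rw [Scheme.Hom.comp_apply, h1]
    exact Scheme.fromSpecStalk_closedPoint
  -- the generic point
  set η : Spec (CommRingCat.of A) := genericPoint (Spec (CommRingCat.of A)) with hη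
  have hηbot : η.asIdeal = ⊥ := by
    rw [hη, genericPoint_eq_bot_of_affine (CommRingCat.of A)]
    rfl
  have hj : Function.Injective (toResidueField (CommRingCat.of A) η).hom :=
    toResidueField_injective_of_eq_bot _ η hηbot
  obtain ⟨ψ, hψ⟩ := hK ((Spec (CommRingCat.of A)).residueField η)
    (toResidueField (CommRingCat.of A) η).hom hj
  let ψ' : Y.residueField y' ⟶ (Spec (CommRingCat.of A)).residueField η :=
    CommRingCat.ofHom (ψ.comp (algebraMap (Y.residueField y') N))
  have key : (Spec (CommRingCat.of A)).fromSpecResidueField η ≫ g =
      Spec.map ψ' ≫ Y.fromSpecResidueField y' := by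
    rw [← SpecMap_toResidueField, ← SpecMap_specResidue hgen, ← Category.assoc (Spec.map ψ'),
      ← Spec.map_comp]
    show Spec.map _ ≫ Spec.map (CommRingCat.ofHom φ) ≫ Y.fromSpecStalk y = _
    rw [← Category.assoc, ← Spec.map_comp]
    congr 2
    ext a
    exact (congrArg (fun h : Y.presheaf.stalk y →+* _ ↦ h a) hψ).symm
  have hgeneric : g η = y' := by
    let pt : Spec ((Spec (CommRingCat.of A)).residueField η) := closedPoint _
    have h1 := congrArg (fun φ : Spec ((Spec (CommRingCat.of A)).residueField η) ⟶ Y ↦ φ pt) key
    simp only [Scheme.Hom.comp_apply] at h1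
    rw [Scheme.fromSpecResidueField_apply, Scheme.fromSpecResidueField_apply] at h1
    exact h1
  refine ⟨A, inferInstance, inferInstance, inferInstance, g, hclosed, hgeneric, ?_, ?_⟩
  · -- the closed fibre
    haveI := isAlgClosed_residueField_closedPoint A
    have hs : SplitsAt f g (closedPoint A) := by
      intro x s hx hts a
      exact IsAlgClosed.splits _
    have := nGeomConnComp_eq_card_fiber f g (closedPoint A) hs
    rw [hclosed] at this
    exact this
  · -- the generic fibre
    have hs : SplitsAt f g η := by
      intro x s hx hts a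
      obtain rfl : y' = s := hgeneric.symm.trans hts
      have hα : (Y.residueFieldCongr hts).inv ≫ g.residueFieldMap η = ψ' := by
        apply Spec.map_injective
        rw [← cancel_mono (Y.fromSpecResidueField y'), ← key, Spec.map_comp, Category.assoc,
          Scheme.residueFieldCongr_inv, Scheme.residueFieldCongr_fromSpecResidueField,
          Scheme.Hom.SpecMap_residueFieldMap_fromSpecResidueField]
      rw [hα]
      letI := algE ⟨x, hx⟩
      show ((minpoly (Y.residueField y') a).map
        (ψ.comp (algebraMap (Y.residueField y') N))).Splits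
      rw [← Polynomial.map_map]
      exact (hNsplit ⟨x, hx⟩ a).map ψ
    have := nGeomConnComp_eq_card_fiber f g η hs
    rw [hgeneric] at this
    exact this

end Groth.Agent.Lib.helper9.NGeomDvr
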