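/-
Helper library (helper9): valuative criteria over a Nagata base via curves, part 1.
Commutative algebra: a height bound for "G-type" primes and the selection of a special
specialization witnessing the non-closedness of a constructible subset of a Noetherian spectrum.
-/
import Mathlib

set_option autoImplicit false
set_option linter.style.haveILetI false

namespace Groth.Agent.Lib.helper9.NagCurve

open PrimeSpectrum Topology

/-- In a Noetherian domain, if some nonzero element lies in every nonzero prime contained in the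
prime `n`, then `n` has height at most one. -/
theorem height_le_one_of_forall_mem {D : Type*} [CommRing D] [IsDomain D] [IsNoetherianRing D]
    (n : Ideal D) [n.IsPrime] (g : D) (hg : g ≠ 0)
    (H : ∀ p : Ideal D, p.IsPrime → p ≠ ⊥ → p ≤ n → g ∈ p) : n.height ≤ 1 := by
  classical
  by_contra hcon
  have hnbot : n ≠ ⊥ := by
    rintro rfl
    exact hcon (by rw [Ideal.height_bot]; exact bot_le)
  have hgn : g ∈ n := H n inferInstance hnbot le_rfl
  have hfin : (Ideal.span {g}).minimalPrimes.Finite :=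
    Ideal.finite_minimalPrimes_of_isNoetherianRing D _
  have hht : ∀ P ∈ (Ideal.span {g}).minimalPrimes, P.height ≤ 1 := fun P hP =>
    Ideal.height_le_one_of_isPrincipal_of_mem_minimalPrimes (Ideal.span {g}) P hP
  have hnle : ¬ ((n : Set D) ⊆ ⋃ P ∈ (hfin.toFinset : Set (Ideal D)), (P : Set D)) := by
    rw [Ideal.subset_union_prime ⊥ ⊥ (fun P hP _ _ => ((hfin.mem_toFinset).mp hP).1.1)]
    rintro ⟨P, hP, hnP⟩
    exact hcon ((Ideal.height_mono hnP).trans (hht P ((hfin.mem_toFinset).mp hP)))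
  obtain ⟨h, hhn, hh⟩ := Set.not_subset.mp hnle
  have hh' : ∀ P ∈ (Ideal.span {g}).minimalPrimes, h ∉ P := fun P hP hhP =>
    hh (Set.mem_biUnion (Finset.mem_coe.mpr ((hfin.mem_toFinset).mpr hP)) hhP)
  -- a minimal prime over `(h)` inside `n`
  obtain ⟨p₁, hp₁, hp₁n⟩ := Ideal.exists_minimalPrimes_le
    (show Ideal.span {h} ≤ n from (Ideal.span_singleton_le_iff_mem n).mpr hhn)
  haveI : p₁.IsPrime := hp₁.1.1
  have hhp₁ : h ∈ p₁ := hp₁.1.2 (Ideal.mem_span_singleton_self h)
  have hp₁ht : p₁.height ≤ 1 :=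
    Ideal.height_le_one_of_isPrincipal_of_mem_minimalPrimes (Ideal.span {h}) p₁ hp₁
  -- `span {g}` has a minimal prime since `g ∈ n`
  obtain ⟨P₀, hP₀, -⟩ := Ideal.exists_minimalPrimes_le
    (show Ideal.span {g} ≤ n from (Ideal.span_singleton_le_iff_mem n).mpr hgn)
  have hh0 : h ≠ 0 := by
    rintro rfl
    exact hh' P₀ hP₀ (Ideal.zero_mem P₀)
  have hp₁bot : p₁ ≠ ⊥ := by
    rintro rfl
    exact hh0 ((Ideal.mem_bot).mp hhp₁)
  have hgp₁ : g ∈ p₁ := H p₁ inferInstance hp₁bot hp₁n
  obtain ⟨P, hP, hPp₁⟩ := Ideal.exists_minimalPrimes_le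
    (show Ideal.span {g} ≤ p₁ from (Ideal.span_singleton_le_iff_mem p₁).mpr hgp₁)
  haveI : P.IsPrime := hP.1.1
  have hPbot : P ≠ ⊥ := by
    rintro rfl
    exact hg ((Ideal.mem_bot).mp (hP.1.2 (Ideal.mem_span_singleton_self g)))
  have hPht : 1 ≤ P.height := by
    rw [Order.one_le_iff_ne_zero]
    intro h0
    exact hPbot (Ideal.height_eq_zero_iff_eq_bot.mp h0)
  haveI : P.FiniteHeight := ⟨Or.inr ((lt_of_le_of_lt (hht P hP) (by simp)).ne)⟩
  have hPeq : P = p₁ := Ideal.eq_of_le_of_height_le P hPp₁ (hp₁ht.trans hPht)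
  exact hh' P hP (hPeq ▸ hhp₁)

/-- A constructible subset of a prime spectrum containing a point `q` contains the trace on
the closure of `q` of a basic open neighbourhood of `q`. -/
theorem exists_basicOpen_of_mem_isConstructible {B : Type*} [CommRing B]
    {E : Set (PrimeSpectrum B)} (hE : IsConstructible E) (q : PrimeSpectrum B) (hq : q ∈ E) :
    ∃ g : B, g ∉ q.asIdeal ∧ ∀ p : PrimeSpectrum B, q ≤ p → g ∉ p.asIdeal → p ∈ E := by
  obtain ⟨S, rfl⟩ := exists_constructibleSetData_iff.mpr hE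
  simp only [ConstructibleSetData.toSet, Set.mem_iUnion, exists_prop] at hq
  obtain ⟨C, hC, hqC⟩ := hq
  simp only [BasicConstructibleSetData.toSet, Set.mem_sdiff, mem_zeroLocus,
    Set.singleton_subset_iff, SetLike.mem_coe] at hqC
  refine ⟨C.f, hqC.2, fun p hqp hp => ?_⟩
  simp only [ConstructibleSetData.toSet, Set.mem_iUnion, exists_prop]
  refine ⟨C, hC, ?_⟩
  simp only [BasicConstructibleSetData.toSet, Set.mem_sdiff, mem_zeroLocus,
    Set.singleton_subset_iff, SetLike.mem_coe]
  exact ⟨fun x hx => hqp (hqC.1 hx), hp⟩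

/-- **Selection of a special specialization.** A constructible subset `E` of a Noetherian spectrum
which is not closed admits primes `q < n` with `q ∈ E`, `n ∉ E`, `n` closed in a basic open
neighbourhood `D(b)`, and `n / q` of height at most one. -/
theorem exists_special_specialization {B : Type*} [CommRing B] [IsNoetherianRing B]
    (E : Set (PrimeSpectrum B)) (hE : IsConstructible E) (hnc : ¬ IsClosed E) :
    ∃ (q n : PrimeSpectrum B) (b : B), q ∈ E ∧ n ∉ E ∧ q < n ∧ b ∉ n.asIdeal ∧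
      (∀ p : PrimeSpectrum B, n ≤ p → b ∉ p.asIdeal → p = n) ∧
      (n.asIdeal.map (Ideal.Quotient.mk q.asIdeal)).height ≤ 1 := by
  classical
  -- `E` is not stable under specialization
  have hns : ¬ StableUnderSpecialization E := fun h =>
    hnc (isClosed_of_stableUnderSpecialization_of_isConstructible h hE)
  let N : Set (PrimeSpectrum B) := {y | y ∉ E ∧ ∃ x ∈ E, x ≤ y}
  have hN : N.Nonempty := by
    simp only [StableUnderSpecialization, not_forall] at hns
    obtain ⟨x, y, hxy, hx, hy⟩ := hns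
    exact ⟨y, hy, x, hx, (le_iff_specializes x y).mpr hxy⟩
  -- a maximal element of `N`
  obtain ⟨nI, ⟨n, hnN, rfl⟩, hnmax⟩ := (wellFounded_gt (α := Ideal B)).has_min
    (PrimeSpectrum.asIdeal '' N) (hN.image _)
  have hnmax' : ∀ p ∈ N, n ≤ p → p = n := by
    intro p hp hnp
    by_contra hne
    exact hnmax p.asIdeal ⟨p, hp, rfl⟩ (lt_of_le_of_ne hnp (fun h => hne (PrimeSpectrum.ext h.symm)))
  obtain ⟨hnE, x₀, hx₀E, hx₀n⟩ := hnN
  -- everything strictly above `n` lies in `E`
  have habove : ∀ p : PrimeSpectrum B, n ≤ p → p ≠ n → p ∈ E := by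
    intro p hnp hne
    by_contra hpE
    exact hne (hnmax' p ⟨hpE, x₀, hx₀E, hx₀n.trans hnp⟩ hnp)
  -- the element `b`
  obtain ⟨b, hbn, hb⟩ := exists_basicOpen_of_mem_isConstructible hE.compl n hnE
  have hb' : ∀ p : PrimeSpectrum B, n ≤ p → b ∉ p.asIdeal → p = n := by
    intro p hnp hbp
    by_contra hne
    exact hb p hnp hbp (habove p hnp hne)
  -- a maximal element of `E` below `n`
  let M : Set (PrimeSpectrum B) := {x | x ∈ E ∧ x ≤ n}
  obtain ⟨qI, ⟨q, hqM, rfl⟩, hqmax⟩ := (wellFounded_gt (α := Ideal B)).has_min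
    (PrimeSpectrum.asIdeal '' M) (Set.Nonempty.image _ ⟨x₀, hx₀E, hx₀n⟩)
  obtain ⟨hqE, hqn⟩ := hqM
  have hqn' : q < n := lt_of_le_of_ne hqn (fun h => hnE (h ▸ hqE))
  have hbetween : ∀ p : PrimeSpectrum B, q < p → p ≤ n → p ∉ E := by
    intro p hqp hpn hpE
    exact hqmax p.asIdeal ⟨p, ⟨hpE, hpn⟩, rfl⟩ hqp
  obtain ⟨g, hgq, hg⟩ := exists_basicOpen_of_mem_isConstructible hE q hqE
  have hgmem : ∀ p : PrimeSpectrum B, q < p → p ≤ n → g ∈ p.asIdeal := by
    intro p hqp hpn
    by_contra hgp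
    exact hbetween p hqp hpn (hg p hqp.le hgp)
  refine ⟨q, n, b, hqE, hnE, hqn', hbn, hb', ?_⟩
  -- the height bound in the quotient
  have hker : RingHom.ker (Ideal.Quotient.mk q.asIdeal) ≤ n.asIdeal := by
    rw [Ideal.mk_ker]
    exact hqn
  haveI : (n.asIdeal.map (Ideal.Quotient.mk q.asIdeal)).IsPrime :=
    Ideal.map_isPrime_of_surjective Ideal.Quotient.mk_surjective hker
  refine height_le_one_of_forall_mem _ (Ideal.Quotient.mk q.asIdeal g)
    (fun h => hgq (Ideal.Quotient.eq_zero_iff_mem.mp h)) ?_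
  intro P hP hPbot hPn
  let p : PrimeSpectrum B := ⟨P.comap (Ideal.Quotient.mk q.asIdeal), inferInstance⟩
  have hqp : q ≤ p := by
    intro x hx
    show Ideal.Quotient.mk q.asIdeal x ∈ P
    rw [Ideal.Quotient.eq_zero_iff_mem.mpr hx]
    exact P.zero_mem
  have hqp' : q < p := by
    refine lt_of_le_of_ne hqp (fun h => hPbot ?_)
    rw [eq_bot_iff]
    intro y hy
    obtain ⟨x, rfl⟩ := Ideal.Quotient.mk_surjective y
    have : x ∈ p.asIdeal := hy
    rw [← h] at this
    exact (Ideal.mem_bot).mpr (Ideal.Quotient.eq_zero_iff_mem.mpr this)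
  have hpn : p ≤ n := by
    intro x hx
    have h1 : Ideal.Quotient.mk q.asIdeal x ∈ n.asIdeal.map (Ideal.Quotient.mk q.asIdeal) :=
      hPn hx
    have h2 := Ideal.mem_comap.mpr h1
    rw [Ideal.comap_map_of_surjective _ Ideal.Quotient.mk_surjective, ← RingHom.ker_eq_comap_bot,
      sup_eq_left.mpr hker] at h2
    exact h2
  exact hgmem p hqp' hpn

end Groth.Agent.Lib.helper9.NagCurve
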