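/-
Helper library (helper9): valuative criteria over a Nagata base via curves, part 2.
Commutative algebra: over an N-2 Noetherian domain `D₀` with a height-one prime `n₀` which is
closed in a basic open, and a finite extension `L` of the fraction field, we construct a normal
domain `R` of finite type over `D₀` inside `L` with a maximal ideal `m` of height one over `n₀`
cut out set-theoretically by one element `h`, such that finitely many given elements of `L`
become sections over `D(h)`.
-/
import Mathlib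
import Groth.Prelude.Def_Found

set_option autoImplicit false
set_option linter.style.haveILetI false

namespace Groth.Agent.Lib.helper9.NagCurve

universe u

/-- In a Noetherian domain, if `m` is a prime all of whose smaller primes are zero and
`0 ≠ h₁ ∈ m`, then some `a ∉ m` lies in all other minimal primes of `h₁`. -/
theorem exists_avoid {D : Type*} [CommRing D] [IsDomain D] [IsNoetherianRing D] (m : Ideal D)
    [m.IsPrime] (hbelow : ∀ P : Ideal D, P.IsPrime → P < m → P = ⊥) (h₁ : D) (hne : h₁ ≠ 0) :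
    ∃ a : D, a ∉ m ∧ ∀ P : Ideal D, P.IsPrime → h₁ ∈ P → a ∉ P → m ≤ P := by
  classical
  have hfin := Ideal.finite_minimalPrimes_of_isNoetherianRing D (Ideal.span {h₁})
  have hex : ∀ P' ∈ (Ideal.span {h₁}).minimalPrimes, P' ≠ m → ∃ a ∈ P', a ∉ m := by
    intro P' hP' hne'
    by_contra hcon
    push Not at hcon
    have hle : P' ≤ m := hcon
    have hlt : P' < m := lt_of_le_of_ne hle hne'
    have hbot := hbelow P' hP'.1.1 hlt
    have hmem : h₁ ∈ P' := hP'.1.2 (Ideal.mem_span_singleton_self h₁)
    rw [hbot] at hmem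
    exact hne ((Ideal.mem_bot).mp hmem)
  choose! a ha1 ha2 using hex
  refine ⟨∏ P' ∈ hfin.toFinset.filter (· ≠ m), a P', ?_, ?_⟩
  · intro hmem
    obtain ⟨P', hP', hP'm⟩ := Ideal.IsPrime.prod_mem_iff.mp hmem
    rw [Finset.mem_filter, Set.Finite.mem_toFinset] at hP'
    exact ha2 P' hP'.1 hP'.2 hP'm
  · intro P hP hhP haP
    obtain ⟨P', hP', hP'P⟩ := Ideal.exists_minimalPrimes_le
      (show Ideal.span {h₁} ≤ P from (Ideal.span_singleton_le_iff_mem P).mpr hhP)
    by_cases hP'm : P' = m
    · exact hP'm ▸ hP'P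
    · exfalso
      apply haP
      have hmemf : P' ∈ hfin.toFinset.filter (· ≠ m) := by
        rw [Finset.mem_filter, Set.Finite.mem_toFinset]
        exact ⟨hP', hP'm⟩
      exact Ideal.IsPrime.prod_mem_iff.mpr ⟨P', hmemf, hP'P (ha1 P' hP' hP'm)⟩

/-- **The curve ring.** -/
theorem exists_curve_ring {D₀ : Type u} [CommRing D₀] [IsDomain D₀] [IsNoetherianRing D₀]
    (hN2 : CAlg.IsN2 D₀) (L : Type u) [Field L] [Algebra D₀ L] [Algebra (FractionRing D₀) L]
    [IsScalarTower D₀ (FractionRing D₀) L] [FiniteDimensional (FractionRing D₀) L]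
    (n₀ : Ideal D₀) [n₀.IsPrime] (hn₀ : n₀ ≠ ⊥) (hht : n₀.height ≤ 1) (b₀ : D₀) (hb₀ : b₀ ∉ n₀)
    (hb : ∀ p : Ideal D₀, p.IsPrime → n₀ ≤ p → b₀ ∉ p → p = n₀) (β : Finset L) :
    ∃ (R : Type u) (_ : CommRing R) (_ : IsDomain R) (_ : IsIntegrallyClosed R)
      (_ : Algebra D₀ R) (_ : Algebra.FiniteType D₀ R) (m : Ideal R) (_ : m.IsMaximal) (h : R)
      (j : R →ₐ[D₀] L),
      m.comap (algebraMap D₀ R) = n₀ ∧ m.height = 1 ∧
      (∀ P : Ideal R, P.IsPrime → (h ∈ P ↔ P = m)) ∧
      Function.Injective j ∧ ∀ x ∈ β, ∃ r : R, x * j h = j r := by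
  classical
  let F := FractionRing D₀
  let D' : Subalgebra D₀ L := integralClosure D₀ L
  haveI hfinite : Module.Finite D₀ D' := hN2 L inferInstance
  haveI : Algebra.FiniteType D₀ D' := inferInstance
  haveI : IsNoetherianRing D' := Algebra.FiniteType.isNoetherianRing D₀ D'
  haveI : IsIntegrallyClosed D' := integralClosure.isIntegrallyClosedOfFiniteExtension F
  haveI : Algebra.IsIntegral D₀ D' := inferInstance
  have hinjL : Function.Injective (algebraMap D₀ L) := by
    rw [IsScalarTower.algebraMap_eq D₀ F L]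
    exact (algebraMap F L).injective.comp (IsFractionRing.injective D₀ F)
  have hinj : Function.Injective (algebraMap D₀ D') := by
    intro x y hxy
    apply hinjL
    have := congrArg (algebraMap D' L) hxy
    rwa [← IsScalarTower.algebraMap_apply, ← IsScalarTower.algebraMap_apply] at this
  have hker : RingHom.ker (algebraMap D₀ D') ≤ n₀ := by
    rw [(RingHom.injective_iff_ker_eq_bot _).mp hinj]
    exact bot_le
  obtain ⟨m', hm'prime, hm'comap⟩ := Ideal.exists_ideal_over_prime_of_isIntegral_of_isDomain n₀ hker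
  haveI := hm'prime
  have hm'bot : m' ≠ ⊥ := by
    rintro rfl
    apply hn₀
    rw [← hm'comap, eq_bot_iff]
    intro x hx
    exact (Ideal.mem_bot).mpr (hinj (by simpa using hx))
  -- primes below `m'` are zero
  have hbelow : ∀ P : Ideal D', P.IsPrime → P < m' → P = ⊥ := by
    intro P hP hlt
    haveI := hP
    have h1 : P.comap (algebraMap D₀ D') < n₀ := hm'comap ▸ Ideal.IsIntegral.comap_lt_comap hlt
    have h2 : (P.comap (algebraMap D₀ D')).height < 1 :=
      (Ideal.height_le_iff (n := 1)).mp (by exact_mod_cast hht) _ inferInstance h1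
    have h3 : (P.comap (algebraMap D₀ D')).height = 0 := by
      rwa [Order.lt_one_iff] at h2
    exact Ideal.eq_bot_of_comap_eq_bot (Ideal.height_eq_zero_iff_eq_bot.mp h3)
  -- denominators
  obtain ⟨s, hs0, hs⟩ := exists_integral_multiples D₀ F β
  obtain ⟨π₀, hπ₀n, hπ₀0⟩ := Submodule.exists_mem_ne_zero_of_ne_bot hn₀
  let h₀ : D₀ := s * π₀
  have hh₀0 : h₀ ≠ 0 := mul_ne_zero hs0 hπ₀0
  have hh₀n : h₀ ∈ n₀ := Ideal.mul_mem_left _ _ hπ₀n
  let h₁ : D' := algebraMap D₀ D' h₀
  have hh₁0 : h₁ ≠ 0 := fun h => hh₀0 (hinj (by rw [map_zero]; exact h))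
  have hh₁m : h₁ ∈ m' := by
    have : h₀ ∈ m'.comap (algebraMap D₀ D') := hm'comap ▸ hh₀n
    exact this
  obtain ⟨a, ham, ha⟩ := exists_avoid m' hbelow h₁ hh₁0
  let e : D' := a * algebraMap D₀ D' b₀
  have hbm : algebraMap D₀ D' b₀ ∉ m' := by
    intro h
    apply hb₀
    rw [← hm'comap]
    exact h
  have hem : e ∉ m' := fun h => (hm'prime.mem_or_mem h).elim ham hbm
  have he0 : e ≠ 0 := fun h => hem (h ▸ m'.zero_mem)
  -- key claim
  have hkey : ∀ P : Ideal D', P.IsPrime → e ∉ P → (h₁ ∈ P ↔ P = m') := by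
    intro P hP heP
    haveI := hP
    constructor
    · intro hh₁P
      have haP : a ∉ P := fun h => heP (Ideal.mul_mem_right _ _ h)
      have hbP : algebraMap D₀ D' b₀ ∉ P := fun h => heP (Ideal.mul_mem_left _ _ h)
      have hle : m' ≤ P := ha P hP hh₁P haP
      have hcomap : P.comap (algebraMap D₀ D') = n₀ :=
        hb _ inferInstance (hm'comap ▸ Ideal.comap_mono hle) hbP
      by_contra hne
      have hlt : m' < P := lt_of_le_of_ne hle (Ne.symm hne)
      have := Ideal.IsIntegral.comap_lt_comap (R := D₀) hlt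
      rw [hm'comap, hcomap] at this
      exact lt_irrefl _ this
    · rintro rfl
      exact hh₁m
  -- the localization
  let R := Localization.Away e
  have hM : Submonoid.powers e ≤ nonZeroDivisors D' :=
    Submonoid.powers_le.mpr (mem_nonZeroDivisors_of_ne_zero he0)
  haveI : IsDomain R := IsLocalization.isDomain_of_le_nonZeroDivisors R hM
  haveI : IsIntegrallyClosed R := isIntegrallyClosed_of_isLocalization R (Submonoid.powers e) hM
  haveI : Algebra.FinitePresentation D' R := IsLocalization.Away.finitePresentation e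
  haveI : Algebra.FiniteType D' R := Algebra.FiniteType.of_finitePresentation
  haveI hftR : Algebra.FiniteType D₀ R := Algebra.FiniteType.trans ‹Algebra.FiniteType D₀ D'› ‹_›
  have hdisj : Disjoint (Submonoid.powers e : Set D') (m' : Set D') := by
    rw [Set.disjoint_left]
    rintro x ⟨k, rfl⟩ hx
    exact hem (hm'prime.mem_of_pow_mem k hx)
  let m : Ideal R := m'.map (algebraMap D' R)
  haveI hmprime : m.IsPrime :=
    IsLocalization.isPrime_of_isPrime_disjoint (Submonoid.powers e) R m' hm'prime hdisj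
  have hmcomap : m.comap (algebraMap D' R) = m' :=
    IsLocalization.under_map_of_isPrime_disjoint (Submonoid.powers e) R hm'prime hdisj
  let h : R := algebraMap D' R h₁
  have hhP : ∀ P : Ideal R, P.IsPrime → (h ∈ P ↔ P = m) := by
    intro P hP
    haveI := hP
    have heP : e ∉ P.comap (algebraMap D' R) := by
      intro he
      apply hP.ne_top
      exact Ideal.eq_top_of_isUnit_mem _ he (IsLocalization.Away.algebraMap_isUnit e)
    have := hkey (P.comap (algebraMap D' R)) inferInstance heP
    constructor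
    · intro hh
      have h2 : P.comap (algebraMap D' R) = m' := this.mp hh
      rw [← IsLocalization.map_under (Submonoid.powers e) R P]
      show (Ideal.comap (algebraMap D' R) P).map _ = m
      rw [h2]
    · rintro rfl
      exact Ideal.mem_map_of_mem _ hh₁m
  have hmmax : m.IsMaximal := by
    obtain ⟨M, hM, hmM⟩ := Ideal.exists_le_maximal m hmprime.ne_top
    have : M = m := (hhP M hM.isPrime).mp (hmM (Ideal.mem_map_of_mem _ hh₁m))
    exact this ▸ hM
  have hm'ht : m'.height = 1 := by
    apply le_antisymm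
    · refine (Ideal.height_le_iff (n := 1)).mpr fun q hq hlt => ?_
      rw [hbelow q hq hlt, Ideal.height_bot]
      exact zero_lt_one
    · rw [Order.one_le_iff_ne_zero]
      intro h0
      exact hm'bot (Ideal.height_eq_zero_iff_eq_bot.mp h0)
  have hmht : m.height = 1 := by
    rw [← hm'ht]
    exact IsLocalization.height_map_of_disjoint (Submonoid.powers e) m' hdisj
  -- the map to `L`
  have hunit : ∀ y : Submonoid.powers e, IsUnit (D'.val (y : D')) := by
    rintro ⟨_, k, rfl⟩
    refine IsUnit.mk0 _ ?_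
    simp only [map_pow]
    exact pow_ne_zero _ (fun h => he0 (Subtype.ext h))
  let j : R →ₐ[D₀] L := IsLocalization.liftAlgHom (M := Submonoid.powers e) (f := D'.val) hunit
  have hjinj : Function.Injective j := by
    refine (IsLocalization.lift_injective_iff (M := Submonoid.powers e) (S := R)
      (g := (D'.val : D' →+* L)) hunit).mpr ?_
    intro x y
    constructor
    · intro hxy
      have := IsLocalization.injective R hM hxy
      rw [this]
    · intro hxy
      have : x = y := Subtype.ext hxy
      rw [this]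
  have hjalg : ∀ x : D', j (algebraMap D' R x) = (x : L) := fun x =>
    IsLocalization.lift_eq (M := Submonoid.powers e) (g := (D'.val : D' →+* L)) hunit x
  refine ⟨R, inferInstance, inferInstance, inferInstance, inferInstance, hftR, m, hmmax, h, j,
    ?_, hmht, hhP, hjinj, ?_⟩
  · rw [IsScalarTower.algebraMap_eq D₀ D' R, ← Ideal.comap_comap, hmcomap, hm'comap]
  · intro x hx
    have hint : IsIntegral D₀ (s • x) := hs x hx
    let y : D' := ⟨s • x, hint⟩
    refine ⟨algebraMap D' R (algebraMap D₀ D' π₀ * y), ?_⟩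
    rw [hjalg, hjalg]
    show x * ((algebraMap D₀ D' h₀ : D') : L) = ((algebraMap D₀ D' π₀ * y : D') : L)
    simp only [h₀, map_mul, Subalgebra.coe_mul, Subalgebra.coe_algebraMap, y, Algebra.smul_def]
    ring

/-- Factoring a ring map into a field through the localization `R_h`. -/
theorem exists_factor {B B₁ R L : Type*} [CommRing B] [CommRing B₁] [Algebra B B₁] [CommRing R]
    [IsDomain R] [Field L] (G : Finset B₁) (hG : Algebra.adjoin B (G : Set B₁) = ⊤) (ρ : B →+* R)
    (j : R →+* L) (hj : Function.Injective j) (h : R) (hh : h ≠ 0) (τ : B₁ →+* L)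
    (hτ : ∀ b, τ (algebraMap B B₁ b) = j (ρ b)) (H : ∀ x ∈ G, ∃ r : R, τ x * j h = j r) :
    ∃ (ψ : B₁ →+* Localization.Away h) (j' : Localization.Away h →+* L),
      Function.Injective j' ∧ (∀ r, j' (algebraMap R _ r) = j r) ∧
      (∀ b, ψ (algebraMap B B₁ b) = algebraMap R _ (ρ b)) ∧ ∀ y, j' (ψ y) = τ y := by
  have hjh : j h ≠ 0 := fun h0 => hh (hj (by rw [h0, map_zero]))
  have hunit : IsUnit (j h) := isUnit_iff_ne_zero.mpr hjh
  let j' : Localization.Away h →+* L := IsLocalization.Away.lift h hunit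
  have hj'alg : ∀ r, j' (algebraMap R _ r) = j r := fun r => IsLocalization.Away.lift_eq h hunit r
  have hM : Submonoid.powers h ≤ nonZeroDivisors R :=
    Submonoid.powers_le.mpr (mem_nonZeroDivisors_of_ne_zero hh)
  have hunit' : ∀ y : Submonoid.powers h, IsUnit (j (y : R)) := by
    rintro ⟨_, k, rfl⟩
    rw [map_pow]
    exact hunit.pow k
  have hj'inj : Function.Injective j' := by
    refine (IsLocalization.lift_injective_iff (M := Submonoid.powers h) (S := Localization.Away h)
      (g := j) hunit').mpr ?_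
    intro x y
    constructor
    · intro hxy
      rw [IsLocalization.injective _ hM hxy]
    · intro hxy
      rw [hj hxy]
  -- the range condition
  have hrange : ∀ y : B₁, τ y ∈ j'.range := by
    intro y
    have hy : y ∈ Algebra.adjoin B (G : Set B₁) := hG ▸ Algebra.mem_top
    induction hy using Algebra.adjoin_induction with
    | mem x hx =>
      obtain ⟨r, hr⟩ := H x hx
      refine ⟨IsLocalization.mk' _ r (⟨h, Submonoid.mem_powers h⟩ : Submonoid.powers h), ?_⟩
      have h1 : j' (IsLocalization.mk' _ r (⟨h, Submonoid.mem_powers h⟩ : Submonoid.powers h)) *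
          j h = j r := by
        rw [← hj'alg h, ← map_mul, ← hj'alg r]
        congr 1
        exact IsLocalization.mk'_spec' _ r (⟨h, Submonoid.mem_powers h⟩ : Submonoid.powers h) |>
          fun e => by rw [mul_comm]; exact e
      exact mul_right_cancel₀ hjh (h1.trans hr.symm)
    | algebraMap b => exact ⟨algebraMap R _ (ρ b), by rw [hj'alg, hτ]⟩
    | add x y _ _ hx hy =>
      rw [map_add]
      exact j'.range.add_mem hx hy
    | mul x y _ _ hx hy =>
      rw [map_mul]
      exact j'.range.mul_mem hx hy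
  let eqv : Localization.Away h ≃+* j'.range :=
    RingEquiv.ofBijective j'.rangeRestrict ⟨by
      intro x y hxy
      exact hj'inj (congrArg Subtype.val hxy), j'.rangeRestrict_surjective⟩
  let ψ : B₁ →+* Localization.Away h :=
    eqv.symm.toRingHom.comp (τ.codRestrict j'.range hrange)
  have hψ : ∀ y, j' (ψ y) = τ y := by
    intro y
    have : eqv (ψ y) = τ.codRestrict j'.range hrange y := eqv.apply_symm_apply _
    exact congrArg Subtype.val this
  refine ⟨ψ, j', hj'inj, hj'alg, fun b => hj'inj ?_, hψ⟩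
  rw [hψ, hj'alg, hτ]

/-- **The curve package** over a Nagata ring `B`: for primes `q < n` with `n / q` of height at
most one and `n` closed in `D(b)`, a finite extension `L` of the fraction field of `B / q` and a
`B`-algebra of finite type `B₁` with a point `τ : B₁ → L` over the generic point of `B / q`,
there is a normal domain `R` of finite type over `B` with a maximal ideal `m` of height one over
`n`, cut out by `h`, such that `τ` factors through `R_h`. -/
theorem exists_curve_package {B : Type u} [CommRing B] (hB : CAlg.IsNagata B) (q n : Ideal B)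
    [q.IsPrime] [n.IsPrime] (hqn : q < n) (b : B) (hbn : b ∉ n)
    (hb : ∀ p : Ideal B, p.IsPrime → n ≤ p → b ∉ p → p = n)
    (hht : (n.map (Ideal.Quotient.mk q)).height ≤ 1)
    (L : Type u) [Field L] [Algebra (FractionRing (B ⧸ q)) L]
    [FiniteDimensional (FractionRing (B ⧸ q)) L]
    {B₁ : Type u} [CommRing B₁] (φ₁ : B →+* B₁) (hφ₁ : φ₁.FiniteType) (τ : B₁ →+* L)
    (hτ : τ.comp φ₁ = (algebraMap (FractionRing (B ⧸ q)) L).comp
      ((algebraMap (B ⧸ q) (FractionRing (B ⧸ q))).comp (Ideal.Quotient.mk q))) :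
    ∃ (R : Type u) (_ : CommRing R) (_ : IsDomain R) (_ : IsIntegrallyClosed R) (ρ : B →+* R)
      (m : Ideal R) (_ : m.IsMaximal) (h : R) (ψ : B₁ →+* Localization.Away h)
      (j' : Localization.Away h →+* L),
      ρ.FiniteType ∧ m.comap ρ = n ∧ m.height = 1 ∧
      (∀ P : Ideal R, P.IsPrime → (h ∈ P ↔ P = m)) ∧
      ψ.comp φ₁ = (algebraMap R (Localization.Away h)).comp ρ ∧ Function.Injective j' ∧
      j'.comp ψ = τ := by
  classical
  haveI : IsNoetherianRing B := hB.1
  let D₀ := B ⧸ q
  let F := FractionRing D₀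
  letI : Algebra D₀ L := ((algebraMap F L).comp (algebraMap D₀ F)).toAlgebra
  haveI : IsScalarTower D₀ F L := IsScalarTower.of_algebraMap_eq (fun _ => rfl)
  have hker : RingHom.ker (Ideal.Quotient.mk q) ≤ n := by
    rw [Ideal.mk_ker]
    exact hqn.le
  let n₀ : Ideal D₀ := n.map (Ideal.Quotient.mk q)
  haveI : n₀.IsPrime := Ideal.map_isPrime_of_surjective Ideal.Quotient.mk_surjective hker
  have hn₀comap : n₀.comap (Ideal.Quotient.mk q) = n := by
    rw [Ideal.comap_map_of_surjective _ Ideal.Quotient.mk_surjective, ← RingHom.ker_eq_comap_bot,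
      sup_eq_left.mpr hker]
  have hn₀ : n₀ ≠ ⊥ := by
    intro h0
    have h1 : n ≤ q := by
      rw [← hn₀comap, h0, ← RingHom.ker_eq_comap_bot, Ideal.mk_ker]
    exact (not_le_of_gt hqn) h1
  have hb₀ : Ideal.Quotient.mk q b ∉ n₀ := by
    intro hmem
    apply hbn
    rw [← hn₀comap]
    exact hmem
  have hb' : ∀ p : Ideal D₀, p.IsPrime → n₀ ≤ p → Ideal.Quotient.mk q b ∉ p → p = n₀ := by
    intro p hp hle hbp
    haveI := hp
    have h1 : p.comap (Ideal.Quotient.mk q) = n :=
      hb _ inferInstance (hn₀comap ▸ Ideal.comap_mono hle) hbp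
    rw [← Ideal.map_comap_of_surjective _ Ideal.Quotient.mk_surjective p, h1]
  -- generators of `B₁`
  letI : Algebra B B₁ := φ₁.toAlgebra
  obtain ⟨G, hG⟩ := (hφ₁ : Algebra.FiniteType B B₁).out
  obtain ⟨R, iR1, iR2, iR3, iR4, hft, m, hmmax, h, j, hmcomap, hmht, hhP, hjinj, hβ⟩ :=
    exists_curve_ring (hB.2 q) L n₀ hn₀ hht (Ideal.Quotient.mk q b) hb₀ hb' (G.image τ)
  let ρ : B →+* R := (algebraMap D₀ R).comp (Ideal.Quotient.mk q)
  have hh : h ≠ 0 := by
    intro h0
    have h1 : (⊥ : Ideal R) = m := (hhP ⊥ Ideal.isPrime_bot).mp (h0 ▸ Ideal.zero_mem _)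
    rw [← h1, Ideal.height_bot] at hmht
    exact zero_ne_one hmht
  have hτ' : ∀ x, τ (algebraMap B B₁ x) = (j : R →+* L) (ρ x) := by
    intro x
    have h1 := congrArg (fun f => f x) hτ
    simp only [RingHom.comp_apply] at h1
    show τ (φ₁ x) = j (algebraMap D₀ R (Ideal.Quotient.mk q x))
    rw [h1, j.commutes]
    rfl
  obtain ⟨ψ, j', hj'inj, hj'alg, hψalg, hψ⟩ := exists_factor G hG ρ (j : R →+* L) hjinj h hh τ hτ'
    (fun x hx => hβ (τ x) (Finset.mem_image_of_mem τ hx))
  refine ⟨R, iR1, iR2, iR3, ρ, m, hmmax, h, ψ, j', ?_, ?_, hmht, hhP, ?_, hj'inj, ?_⟩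
  · exact RingHom.FiniteType.comp (RingHom.finiteType_algebraMap.mpr hft)
      (RingHom.FiniteType.of_surjective _ Ideal.Quotient.mk_surjective)
  · rw [← Ideal.comap_comap, hmcomap, hn₀comap]
  · ext x
    exact hψalg x
  · ext y
    exact hψ y

end Groth.Agent.Lib.helper9.NagCurve
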