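/-
Helper library (helper9): valuative criteria over a Nagata base via curves, part 3.
The curve lifting property and its application to an affine test curve `Spec R` with a maximal
ideal of height one cut out by one element.
-/
import Groth.Agent.Lib.Helper9.NagCurve2
import Mathlib.AlgebraicGeometry.Stalk
import Mathlib.AlgebraicGeometry.Morphisms.UniversallyClosed
import Mathlib.AlgebraicGeometry.Morphisms.Separated
import Mathlib.AlgebraicGeometry.Morphisms.FiniteType
import Mathlib.AlgebraicGeometry.Morphisms.QuasiCompact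
import Mathlib.AlgebraicGeometry.Properties
import Mathlib.AlgebraicGeometry.Noetherian

set_option autoImplicit false
set_option linter.style.haveILetI false
set_option backward.isDefEq.respectTransparency false

namespace Groth.Agent.Lib.helper9.NagCurve

open AlgebraicGeometry CategoryTheory Limits

universe u

/-- The curve lifting property (existence part) of a morphism `f : X ⟶ Y` over `S`. -/
def CurveLift (S : Scheme.{u}) {X Y : Scheme.{u}} (q : Y ⟶ S) (f : X ⟶ Y) : Prop :=
  ∀ (C : Scheme.{u}) (r : C ⟶ S) [IsIntegral C] [LocallyOfFiniteType r] [QuasiCompact r],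
    (∀ x : C, IsIntegrallyClosed (C.presheaf.stalk x)) →
    ∀ (c : C), IsClosed ({c} : Set C) → ringKrullDim (C.presheaf.stalk c) = 1 →
    ∀ (U : C.Opens), (U : Set C) = {c}ᶜ →
    ∀ (u : (U : Scheme.{u}) ⟶ X) (g : C ⟶ Y), g ≫ q = r → u ≫ f = U.ι ≫ g →
    ∀ (k : Spec (CommRingCat.of (FractionRing (C.presheaf.stalk c))) ⟶ (U : Scheme.{u})),
      k ≫ U.ι = Spec.map (CommRingCat.ofHom (algebraMap (C.presheaf.stalk c)
        (FractionRing (C.presheaf.stalk c)))) ≫ C.fromSpecStalk c →
    ∃ l : Spec (C.presheaf.stalk c) ⟶ X, l ≫ f = C.fromSpecStalk c ≫ g ∧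
      Spec.map (CommRingCat.ofHom (algebraMap (C.presheaf.stalk c)
        (FractionRing (C.presheaf.stalk c)))) ≫ l = k ≫ u

/-- Applying the curve lifting property to an affine test curve. -/
theorem exists_point_of_curveLift {S X Y : Scheme.{u}} [IsLocallyNoetherian S] (q : Y ⟶ S)
    [LocallyOfFiniteType q] (f : X ⟶ Y) (hH : CurveLift S q f)
    {O : Y.Opens} (hO : IsAffineOpen O) {X₁ : X.Opens} (hX₁ : IsAffineOpen X₁)
    (e : X₁ ≤ f ⁻¹ᵁ O) (R : Type u) [CommRing R] [IsDomain R] [IsIntegrallyClosed R]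
    (ρ : Γ(Y, O) →+* R) (hρ : ρ.FiniteType) (m : Ideal R) [m.IsMaximal] (hmht : m.height = 1)
    (h : R) (hhP : ∀ P : Ideal R, P.IsPrime → (h ∈ P ↔ P = m))
    (ψ : Γ(X, X₁) →+* Localization.Away h)
    (hψ : ψ.comp (f.appLE O X₁ e).hom = (algebraMap R (Localization.Away h)).comp ρ)
    (T : Set X) (hT : IsClosed T)
    (hgen : ∃ w : Spec (CommRingCat.of (Localization.Away h)), w.asIdeal = ⊥ ∧
      (Spec.map (CommRingCat.ofHom ψ) ≫ hX₁.fromSpec) w ∈ T) :
    ∃ x₀ ∈ T, f x₀ = hO.fromSpec ⟨m.comap ρ, inferInstance⟩ := by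
  classical
  let RC : CommRingCat.{u} := CommRingCat.of R
  let C : Scheme.{u} := Spec RC
  let c : C := ⟨m, inferInstance⟩
  let g : C ⟶ Y := Spec.map (CommRingCat.ofHom ρ) ≫ hO.fromSpec
  let r : C ⟶ S := g ≫ q
  haveI : IsIntegral C := inferInstanceAs (IsIntegral (Spec (CommRingCat.of R)))
  haveI : LocallyOfFiniteType (Spec.map (CommRingCat.ofHom ρ)) :=
    (HasRingHomProperty.Spec_iff (P := @LocallyOfFiniteType)).mpr hρ
  haveI : LocallyOfFiniteType r := inferInstance
  haveI : CompactSpace C := inferInstanceAs (CompactSpace (Spec (CommRingCat.of R)))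
  haveI : QuasiSeparatedSpace S := inferInstance
  haveI : QuasiCompact r := quasiCompact_of_compactSpace r
  have hnormal : ∀ x : C, IsIntegrallyClosed (C.presheaf.stalk x) := by
    intro x
    let _ : Algebra R (C.presheaf.stalk x) := StructureSheaf.stalkAlgebra R x
    have : IsLocalization.AtPrime (C.presheaf.stalk x) x.asIdeal :=
      StructureSheaf.IsLocalization.to_stalk R x
    exact isIntegrallyClosed_of_isLocalization _ x.asIdeal.primeCompl
      (Ideal.primeCompl_le_nonZeroDivisors _)
  have hclosed : IsClosed ({c} : Set C) :=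
    (PrimeSpectrum.isClosed_singleton_iff_isMaximal c).mpr inferInstance
  have hdim : ringKrullDim (C.presheaf.stalk c) = 1 := by
    let _ : Algebra R (C.presheaf.stalk c) := StructureSheaf.stalkAlgebra R c
    have : IsLocalization.AtPrime (C.presheaf.stalk c) m :=
      StructureSheaf.IsLocalization.to_stalk R c
    rw [IsLocalization.AtPrime.ringKrullDim_eq_height m (C.presheaf.stalk c), hmht]
    rfl
  let U : C.Opens := PrimeSpectrum.basicOpen h
  have hU : (U : Set C) = {c}ᶜ := by
    ext x
    show h ∉ x.asIdeal ↔ x ∉ ({c} : Set C)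
    rw [Set.mem_singleton_iff]
    constructor
    · intro hx hxc
      rw [hxc] at hx
      exact hx ((hhP m inferInstance).mpr rfl)
    · intro hx hh
      exact hx (PrimeSpectrum.ext ((hhP x.asIdeal x.2).mp hh))
  let iso := basicOpenIsoSpecAway (R := RC) h
  let v : Spec (CommRingCat.of (Localization.Away h)) ⟶ X :=
    Spec.map (CommRingCat.ofHom ψ) ≫ hX₁.fromSpec
  let u : (U : Scheme.{u}) ⟶ X := iso.hom ≫ v
  have hg : g ≫ q = r := rfl
  have huf : u ≫ f = U.ι ≫ g := by
    show (iso.hom ≫ Spec.map (CommRingCat.ofHom ψ) ≫ hX₁.fromSpec) ≫ f =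
      U.ι ≫ Spec.map (CommRingCat.ofHom ρ) ≫ hO.fromSpec
    have hring : f.appLE O X₁ e ≫ CommRingCat.ofHom ψ =
        CommRingCat.ofHom ρ ≫ CommRingCat.ofHom (algebraMap R (Localization.Away h)) := by
      ext x
      exact congrArg (fun φ => φ x) hψ
    rw [Category.assoc, Category.assoc, ← IsAffineOpen.SpecMap_appLE_fromSpec f hO hX₁ e,
      ← Spec.map_comp_assoc, hring, Spec.map_comp_assoc,
      ← basicOpenIsoSpecAway_hom_SpecMap (R := RC) h, Category.assoc]
  -- the generic point
  let A := C.presheaf.stalk c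
  let gen : Spec (CommRingCat.of (FractionRing A)) ⟶ Spec A :=
    Spec.map (CommRingCat.ofHom (algebraMap A (FractionRing A)))
  have hgenpt : ∀ pt : Spec (CommRingCat.of (FractionRing A)), (gen pt).asIdeal = ⊥ := by
    intro pt
    have h1 : pt.asIdeal = ⊥ := Ideal.eq_bot_of_prime pt.asIdeal
    show pt.asIdeal.comap (algebraMap A (FractionRing A)) = ⊥
    rw [h1]
    exact Ideal.comap_bot_of_injective _ (IsFractionRing.injective A (FractionRing A))
  have hmaxne : IsLocalRing.maximalIdeal A ≠ ⊥ := by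
    intro h0
    have hf : IsField A := IsLocalRing.isField_iff_maximalIdeal_eq.mpr h0
    have : ringKrullDim A = 0 := ringKrullDim_eq_zero_of_isField hf
    rw [hdim] at this
    exact one_ne_zero this
  have hrange : Set.range (gen ≫ C.fromSpecStalk c) ⊆ Set.range U.ι := by
    rintro _ ⟨pt, rfl⟩
    rw [Scheme.Opens.range_ι, hU]
    intro hpt
    have hpt' : (gen ≫ C.fromSpecStalk c) pt = c := hpt
    have h1 : gen pt = IsLocalRing.closedPoint A := by
      apply (C.fromSpecStalk c).isEmbedding.injective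
      rw [Scheme.fromSpecStalk_closedPoint]
      exact hpt'
    apply hmaxne
    rw [← hgenpt pt, h1]
    rfl
  let k : Spec (CommRingCat.of (FractionRing A)) ⟶ (U : Scheme.{u}) :=
    IsOpenImmersion.lift U.ι (gen ≫ C.fromSpecStalk c) hrange
  have hk : k ≫ U.ι = gen ≫ C.fromSpecStalk c := IsOpenImmersion.lift_fac _ _ _
  obtain ⟨l, hl1, hl2⟩ := hH C r hnormal c hclosed hdim U hU u g hg huf k hk
  refine ⟨l (IsLocalRing.closedPoint A), ?_, ?_⟩
  · -- membership in `T`
    have hvT : ∀ w, v w ∈ T := by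
      obtain ⟨w₀, hw₀, hw₀T⟩ := hgen
      intro w
      have hsp : w₀ ⤳ w := by
        rw [← PrimeSpectrum.le_iff_specializes]
        show w₀.asIdeal ≤ w.asIdeal
        rw [hw₀]
        exact bot_le
      exact (hsp.map v.continuous).mem_closed hT hw₀T
    let pt : Spec (CommRingCat.of (FractionRing A)) := ⟨⊥, Ideal.isPrime_bot⟩
    have h1 : l (gen pt) ∈ T := by
      have e1 : l (gen pt) = (gen ≫ l) pt := rfl
      rw [e1, hl2]
      exact hvT _
    have h2 : gen pt ⤳ IsLocalRing.closedPoint A := IsLocalRing.specializes_closedPoint _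
    exact (h2.map l.continuous).mem_closed hT h1
  · have e1 : f (l (IsLocalRing.closedPoint A)) = (l ≫ f) (IsLocalRing.closedPoint A) := rfl
    rw [e1, hl1]
    show g (C.fromSpecStalk c (IsLocalRing.closedPoint A)) = _
    rw [Scheme.fromSpecStalk_closedPoint]
    rfl

end Groth.Agent.Lib.helper9.NagCurve
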