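/-
Helper library (helper9): valuative criteria over a Nagata base via curves, part 4.
A quasi-compact morphism between schemes locally of finite type over a Nagata scheme which has
the curve lifting property is a closed map.
-/
import Groth.Agent.Lib.Helper9.NagCurve1
import Groth.Agent.Lib.Helper9.NagCurve3
import Groth.Agent.Lib.Helper9.EtRad1
import Groth.Agent.Lib.Helper24.NagFT10
import Mathlib.AlgebraicGeometry.Morphisms.FinitePresentation
import Mathlib.AlgebraicGeometry.IdealSheaf.Subscheme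
import Mathlib.AlgebraicGeometry.PullbackCarrier

set_option autoImplicit false
set_option linter.style.haveILetI false
set_option backward.isDefEq.respectTransparency false

namespace Groth.Agent.Lib.helper9.NagCurve

open AlgebraicGeometry CategoryTheory Limits Topology

universe u

/-- **Main lemma**: over a Nagata base, the curve lifting property implies closedness. -/
theorem isClosedMap_of_curveLift (S : Scheme.{u})
    (hS : ∀ W : S.affineOpens, CAlg.IsNagata Γ(S, W)) {X Y : Scheme.{u}} (p : X ⟶ S) (q : Y ⟶ S)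
    [LocallyOfFiniteType p] [LocallyOfFiniteType q] (f : X ⟶ Y) (hf : f ≫ q = p)
    [QuasiCompact f] (hH : CurveLift S q f) : IsClosedMap f := by
  classical
  haveI : IsLocallyNoetherian S := ⟨fun W => (hS W).1⟩
  haveI : IsLocallyNoetherian Y := LocallyOfFiniteType.isLocallyNoetherian q
  haveI : LocallyOfFiniteType f := by
    haveI : LocallyOfFiniteType (f ≫ q) := hf ▸ inferInstance
    exact locallyOfFiniteType_of_comp f q
  intro T hT
  -- the reduced closed subscheme on `T`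
  let Zc : TopologicalSpace.Closeds X := ⟨T, hT⟩
  let 𝒵 := Scheme.IdealSheafData.vanishingIdeal Zc
  let ιT : 𝒵.subscheme ⟶ X := 𝒵.subschemeι
  have hιT : Set.range ιT = T := by
    rw [Scheme.IdealSheafData.range_subschemeι, Scheme.IdealSheafData.coe_support_vanishingIdeal]
    rfl
  let fT : 𝒵.subscheme ⟶ Y := ιT ≫ f
  have hE : f '' T = Set.range fT := by
    rw [← hιT, ← Set.range_comp]
    rfl
  haveI : LocallyOfFiniteType fT := inferInstance
  haveI : LocallyOfFinitePresentation fT := inferInstance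
  haveI : QuasiCompact fT := inferInstance
  have hlc : IsLocallyConstructible (f '' T) := by
    rw [hE, ← Set.image_univ]
    exact fT.isLocallyConstructible_image IsLocallyConstructible.univ
  -- reduce to affine pieces
  rw [← isOpen_compl_iff, isOpen_iff_forall_mem_open]
  intro y hy
  obtain ⟨W, hW, hyW, -⟩ := exists_isAffineOpen_mem_and_subset (X := S) (x := q y)
    (U := ⊤) trivial
  obtain ⟨O, hO, hyO, hOW⟩ := exists_isAffineOpen_mem_and_subset (X := Y) (x := y)
    (U := q ⁻¹ᵁ W) hyW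
  let B := Γ(Y, O)
  let EB : Set (PrimeSpectrum B) := hO.fromSpec ⁻¹' (f '' T)
  suffices hclosed : IsClosed EB by
    refine ⟨hO.fromSpec '' EBᶜ, ?_, hO.fromSpec.isOpenEmbedding.isOpenMap _ hclosed.isOpen_compl,
      ?_⟩
    · rintro _ ⟨w, hw, rfl⟩
      exact hw
    · obtain ⟨w, rfl⟩ : y ∈ Set.range hO.fromSpec := by
        rw [hO.range_fromSpec]
        exact hyO
      exact ⟨w, hy, rfl⟩
  by_contra hnc
  haveI : IsNoetherianRing B := IsLocallyNoetherian.component_noetherian ⟨O, hO⟩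
  have hEB : IsConstructible EB :=
    (hlc.preimage_of_isOpenEmbedding hO.fromSpec.isOpenEmbedding).isConstructible
  obtain ⟨𝔮, 𝔫, b, hqE, hnE, hqn, hbn, hb, hht⟩ := exists_special_specialization EB hEB hnc
  -- `B` is Nagata
  have hBft : (q.appLE W O hOW).hom.FiniteType := q.finiteType_appLE hW hO hOW
  letI : Algebra Γ(S, W) B := (q.appLE W O hOW).hom.toAlgebra
  haveI : Algebra.FiniteType Γ(S, W) B := hBft
  have hB : CAlg.IsNagata B := Groth.Agent.Lib.Helper24.NagFT.isNagata_of_finiteType (hS ⟨W, hW⟩) B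
  -- the generic point of `V(𝔮)` as a field valued point
  let D₀ := B ⧸ 𝔮.asIdeal
  let F := FractionRing D₀
  let κ : B →+* F := (algebraMap D₀ F).comp (Ideal.Quotient.mk 𝔮.asIdeal)
  let sF : Spec (CommRingCat.of F) ⟶ Y := Spec.map (CommRingCat.ofHom κ) ≫ hO.fromSpec
  obtain ⟨z, hz⟩ : hO.fromSpec 𝔮 ∈ Set.range fT := hE ▸ hqE
  let pt : Spec (CommRingCat.of F) := ⟨⊥, Ideal.isPrime_bot⟩
  have hpt : sF pt = hO.fromSpec 𝔮 := by
    show hO.fromSpec (Spec.map (CommRingCat.ofHom κ) pt) = _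
    congr 1
    apply PrimeSpectrum.ext
    show Ideal.comap κ ⊥ = 𝔮.asIdeal
    rw [← RingHom.ker_eq_comap_bot]
    show RingHom.ker ((algebraMap D₀ F).comp (Ideal.Quotient.mk 𝔮.asIdeal)) = _
    rw [RingHom.ker_comp_of_injective _ (IsFractionRing.injective D₀ F), Ideal.mk_ker]
  obtain ⟨w, -, -⟩ := Scheme.Pullback.exists_preimage_pullback (f := fT) (g := sF) z pt
    (hz.trans hpt.symm)
  haveI : Nonempty ↑(pullback fT sF) := ⟨w⟩
  obtain ⟨L, iL1, iL2, iL3, σ, hσ⟩ :=
    Groth.Agent.Lib.helper9.EtRad.exists_finite_field_point F (pullback.snd fT sF)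
  let tL : Spec (CommRingCat.of L) ⟶ X := σ ≫ pullback.fst fT sF ≫ ιT
  have htLf : tL ≫ f = Spec.map (CommRingCat.ofHom (algebraMap F L)) ≫ sF := by
    show (σ ≫ pullback.fst fT sF ≫ ιT) ≫ f = _
    rw [Category.assoc, Category.assoc]
    show σ ≫ pullback.fst fT sF ≫ fT = _
    rw [pullback.condition, ← Category.assoc, hσ]
  have htLT : ∀ a, tL a ∈ T := fun a => hιT ▸ ⟨_, rfl⟩
  let ptL : Spec (CommRingCat.of L) := ⟨⊥, Ideal.isPrime_bot⟩
  have hx''O : f (tL ptL) ∈ O := by
    have e1 : f (tL ptL) = (tL ≫ f) ptL := rfl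
    rw [e1, htLf]
    show hO.fromSpec _ ∈ (O : Set Y)
    rw [← hO.range_fromSpec]
    exact ⟨_, rfl⟩
  obtain ⟨X₁, hX₁, hx''X₁, hX₁O⟩ := exists_isAffineOpen_mem_and_subset (X := X) (x := tL ptL)
    (U := f ⁻¹ᵁ O) hx''O
  have hrange : Set.range tL ⊆ Set.range hX₁.fromSpec := by
    rw [hX₁.range_fromSpec]
    rintro _ ⟨a, rfl⟩
    have : a = ptL := Subsingleton.elim _ _
    rw [this]
    exact hx''X₁
  let t₁ : Spec (CommRingCat.of L) ⟶ Spec Γ(X, X₁) := IsOpenImmersion.lift hX₁.fromSpec tL hrange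
  have ht₁ : t₁ ≫ hX₁.fromSpec = tL := IsOpenImmersion.lift_fac _ _ _
  let τ' : Γ(X, X₁) ⟶ CommRingCat.of L := Spec.preimage t₁
  have hτ' : Spec.map τ' = t₁ := Spec.map_preimage _
  let φ₁ := f.appLE O X₁ hX₁O
  have hτ : τ'.hom.comp φ₁.hom = (algebraMap F L).comp κ := by
    have h1 : Spec.map (φ₁ ≫ τ') ≫ hO.fromSpec =
        Spec.map (CommRingCat.ofHom κ ≫ CommRingCat.ofHom (algebraMap F L)) ≫ hO.fromSpec := by
      rw [Spec.map_comp, Category.assoc, IsAffineOpen.SpecMap_appLE_fromSpec f hO hX₁ hX₁O, hτ',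
        ← Category.assoc, ht₁, htLf, Spec.map_comp, Category.assoc]
    have h2 := (cancel_mono hO.fromSpec).mp h1
    have h3 := Spec.map_injective h2
    ext x
    exact congrArg (fun φ => φ.hom x) h3
  -- the curve package
  obtain ⟨R, iR1, iR2, iR3, ρ, m, hmmax, h, ψ, j', hρ, hmcomap, hmht, hhP, hψ, hj'inj, hj'ψ⟩ :=
    exists_curve_package hB 𝔮.asIdeal 𝔫.asIdeal hqn b hbn
      (fun p hp hnp hbp => congrArg PrimeSpectrum.asIdeal (hb ⟨p, hp⟩ hnp hbp)) hht L φ₁.hom
      (f.finiteType_appLE hO hX₁ hX₁O) τ'.hom hτ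
  -- apply the curve lifting property
  have hgen : ∃ w : Spec (CommRingCat.of (Localization.Away h)), w.asIdeal = ⊥ ∧
      (Spec.map (CommRingCat.ofHom ψ) ≫ hX₁.fromSpec) w ∈ T := by
    refine ⟨Spec.map (CommRingCat.ofHom j') ptL, ?_, ?_⟩
    · show Ideal.comap j' ⊥ = ⊥
      exact Ideal.comap_bot_of_injective _ hj'inj
    · have e1 : (Spec.map (CommRingCat.ofHom ψ) ≫ hX₁.fromSpec)
          (Spec.map (CommRingCat.ofHom j') ptL) =
          (Spec.map (CommRingCat.ofHom j') ≫ Spec.map (CommRingCat.ofHom ψ) ≫ hX₁.fromSpec) ptL :=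
        rfl
      have e2 : Spec.map (CommRingCat.ofHom j') ≫ Spec.map (CommRingCat.ofHom ψ) = t₁ := by
        rw [← Spec.map_comp, ← hτ']
        congr 1
        ext x
        exact congrArg (fun φ => φ x) hj'ψ
      rw [e1, ← Category.assoc, e2, ht₁]
      exact htLT _
  obtain ⟨x₀, hx₀T, hx₀⟩ := exists_point_of_curveLift q f hH hO hX₁ hX₁O R ρ hρ m hmht h hhP ψ hψ
    T hT hgen
  apply hnE
  show hO.fromSpec 𝔫 ∈ f '' T
  refine ⟨x₀, hx₀T, ?_⟩
  rw [hx₀]
  congr 1
  exact PrimeSpectrum.ext hmcomap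

end Groth.Agent.Lib.helper9.NagCurve
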