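/-
Helper library (helper9): valuative criteria over a Nagata base via curves, part 5.
Universal closedness and separatedness from the curve lifting / uniqueness properties.
-/
import Groth.Agent.Lib.Helper9.NagCurve4
import Groth.Agent.Lib.Helper13.UCA4
import Mathlib.AlgebraicGeometry.ValuativeCriterion
import Mathlib.AlgebraicGeometry.Morphisms.Immersion
import Mathlib.RingTheory.DiscreteValuationRing.TFAE

set_option autoImplicit false
set_option linter.style.haveILetI false
set_option backward.isDefEq.respectTransparency false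

namespace Groth.Agent.Lib.helper9.NagCurve

open AlgebraicGeometry CategoryTheory Limits Topology

universe u

/-- The curve lifting property is stable under base change. -/
theorem curveLift_baseChange {S X Y Y' : Scheme.{u}} (q : Y ⟶ S) (f : X ⟶ Y) (π : Y' ⟶ Y)
    (hH : CurveLift S q f) : CurveLift S (π ≫ q) (pullback.snd f π) := by
  intro C r _ _ _ hnormal c hc hdim U hU u' g' hg' hu' k hk
  obtain ⟨l, hl1, hl2⟩ := hH C r hnormal c hc hdim U hU (u' ≫ pullback.fst f π) (g' ≫ π)
    (by rw [Category.assoc, hg'])
    (by rw [Category.assoc, pullback.condition, ← Category.assoc, hu', Category.assoc]) k hk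
  refine ⟨pullback.lift l (C.fromSpecStalk c ≫ g') (by rw [hl1, Category.assoc]),
    pullback.lift_snd _ _ _, ?_⟩
  apply pullback.hom_ext
  · rw [Category.assoc, pullback.lift_fst, hl2, Category.assoc]
  · rw [Category.assoc, pullback.lift_snd, ← Category.assoc, ← hk, Category.assoc, Category.assoc,
      hu']

/-- Over a Nagata base, the curve lifting property implies universal closedness. -/
theorem universallyClosed_of_curveLift (S : Scheme.{u})
    (hS : ∀ W : S.affineOpens, CAlg.IsNagata Γ(S, W)) {X Y : Scheme.{u}} (p : X ⟶ S) (q : Y ⟶ S)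
    [LocallyOfFiniteType p] [LocallyOfFiniteType q] (f : X ⟶ Y) (hf : f ≫ q = p)
    [QuasiCompact f] (hH : CurveLift S q f) : UniversallyClosed f := by
  refine Groth.Agent.Lib.helper13.UCA.universallyClosed_of_affineSpace f fun n => ?_
  exact isClosedMap_of_curveLift S hS
    (pullback.fst f (𝔸(ULift.{u} (Fin n); Y) ↘ Y) ≫ p) ((𝔸(ULift.{u} (Fin n); Y) ↘ Y) ≫ q)
    (pullback.snd f (𝔸(ULift.{u} (Fin n); Y) ↘ Y))
    (by rw [← Category.assoc, ← pullback.condition, Category.assoc, hf])
    (curveLift_baseChange q f _ hH)

/-- The local ring of a normal integral locally Noetherian scheme at a point of codimension one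
is a valuation ring. -/
theorem valuationRing_stalk {C : Scheme.{u}} [IsIntegral C] [IsLocallyNoetherian C] (c : C)
    (hnormal : IsIntegrallyClosed (C.presheaf.stalk c))
    (hdim : ringKrullDim (C.presheaf.stalk c) = 1) : ValuationRing (C.presheaf.stalk c) := by
  let A := C.presheaf.stalk c
  haveI : IsNoetherianRing A := inferInstance
  haveI : IsDomain A := inferInstance
  haveI : Ring.KrullDimLE 1 A := Ring.krullDimLE_iff.mpr hdim.le
  have hnf : ¬ IsField A := by
    intro hf
    have : ringKrullDim A = 0 := ringKrullDim_eq_zero_of_isField hf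
    rw [hdim] at this
    exact one_ne_zero this
  have hmax : IsLocalRing.maximalIdeal A ≠ ⊥ := fun h =>
    hnf (IsLocalRing.isField_iff_maximalIdeal_eq.mpr h)
  have h31 : (IsIntegrallyClosed A ∧ ∃! P : Ideal A, P ≠ ⊥ ∧ P.IsPrime) → ValuationRing A :=
    ((IsDiscreteValuationRing.TFAE A hnf).out 3 1).mp
  refine h31 ⟨hnormal, ?_⟩
  refine ⟨IsLocalRing.maximalIdeal A, ⟨hmax, inferInstance⟩, ?_⟩
  rintro P ⟨hP0, hP⟩
  exact IsLocalRing.eq_maximalIdeal (hP.isMaximal_of_ne_bot hP0)

/-- Universally closed morphisms have the curve lifting property. -/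
theorem curveLift_of_universallyClosed {S X Y : Scheme.{u}} [IsLocallyNoetherian S] (q : Y ⟶ S)
    (f : X ⟶ Y) [UniversallyClosed f] : CurveLift S q f := by
  intro C r _ _ _ hnormal c hc hdim U hU u g hg hu k hk
  haveI : IsLocallyNoetherian C := LocallyOfFiniteType.isLocallyNoetherian r
  haveI : ValuationRing (C.presheaf.stalk c) := valuationRing_stalk c (hnormal c) hdim
  have hex : ValuativeCriterion.Existence f := by
    have h1 : (ValuativeCriterion.Existence ⊓ @QuasiCompact) f :=
      UniversallyClosed.eq_valuativeCriterion ▸ ‹UniversallyClosed f›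
    exact h1.1
  let Sq : ValuativeCommSq f :=
    { R := C.presheaf.stalk c
      K := FractionRing (C.presheaf.stalk c)
      i₁ := k ≫ u
      i₂ := C.fromSpecStalk c ≫ g
      commSq := ⟨by rw [Category.assoc, hu, ← Category.assoc, hk, Category.assoc]⟩ }
  obtain ⟨⟨l⟩⟩ := hex Sq
  exact ⟨l.l, l.fac_right, l.fac_left⟩

end Groth.Agent.Lib.helper9.NagCurve
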