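/-
Helper library (helper9): valuative criteria over a Nagata base via curves, part 6.
Separatedness from the uniqueness part of the curve criterion.
-/
import Groth.Agent.Lib.Helper9.NagCurve5

set_option autoImplicit false
set_option linter.style.haveILetI false
set_option backward.isDefEq.respectTransparency false

namespace Groth.Agent.Lib.helper9.NagCurve

open AlgebraicGeometry CategoryTheory Limits Topology

universe u

/-- The uniqueness part of the curve criterion for a morphism `f : X ⟶ Y` over `S`. -/
def CurveUnique (S : Scheme.{u}) {X Y : Scheme.{u}} (q : Y ⟶ S) (f : X ⟶ Y) : Prop :=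
  ∀ (C : Scheme.{u}) (r : C ⟶ S) [IsIntegral C] [LocallyOfFiniteType r] [QuasiCompact r],
    (∀ x : C, IsIntegrallyClosed (C.presheaf.stalk x)) →
    ∀ (c : C), IsClosed ({c} : Set C) → ringKrullDim (C.presheaf.stalk c) = 1 →
    ∀ (U : C.Opens), (U : Set C) = {c}ᶜ →
    ∀ (u : (U : Scheme.{u}) ⟶ X) (g : C ⟶ Y), g ≫ q = r → u ≫ f = U.ι ≫ g →
    ∀ (k : Spec (CommRingCat.of (FractionRing (C.presheaf.stalk c))) ⟶ (U : Scheme.{u})),
      k ≫ U.ι = Spec.map (CommRingCat.ofHom (algebraMap (C.presheaf.stalk c)
        (FractionRing (C.presheaf.stalk c)))) ≫ C.fromSpecStalk c →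
    ∀ l l' : Spec (C.presheaf.stalk c) ⟶ X,
      l ≫ f = C.fromSpecStalk c ≫ g →
      Spec.map (CommRingCat.ofHom (algebraMap (C.presheaf.stalk c)
        (FractionRing (C.presheaf.stalk c)))) ≫ l = k ≫ u →
      l' ≫ f = C.fromSpecStalk c ≫ g →
      Spec.map (CommRingCat.ofHom (algebraMap (C.presheaf.stalk c)
        (FractionRing (C.presheaf.stalk c)))) ≫ l' = k ≫ u → l = l'

/-- Separated morphisms satisfy the uniqueness part of the curve criterion. -/
theorem curveUnique_of_isSeparated {S X Y : Scheme.{u}} [IsLocallyNoetherian S] (q : Y ⟶ S)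
    (f : X ⟶ Y) [IsSeparated f] : CurveUnique S q f := by
  intro C r _ _ _ hnormal c hc hdim U hU u g hg hu k hk l l' hl1 hl2 hl1' hl2'
  haveI : IsLocallyNoetherian C := LocallyOfFiniteType.isLocallyNoetherian r
  haveI : ValuationRing (C.presheaf.stalk c) := valuationRing_stalk c (hnormal c) hdim
  have huniq : ValuativeCriterion.Uniqueness f := by
    have h1 : (ValuativeCriterion.Uniqueness ⊓ @QuasiSeparated) f :=
      IsSeparated.eq_valuativeCriterion ▸ ‹IsSeparated f›
    exact h1.1
  let Sq : ValuativeCommSq f :=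
    { R := C.presheaf.stalk c
      K := FractionRing (C.presheaf.stalk c)
      i₁ := k ≫ u
      i₂ := C.fromSpecStalk c ≫ g
      commSq := ⟨by rw [Category.assoc, hu, ← Category.assoc, hk, Category.assoc]⟩ }
  have hsub := huniq Sq
  have : (⟨l, hl2, hl1⟩ : Sq.commSq.LiftStruct) = ⟨l', hl2', hl1'⟩ := Subsingleton.elim _ _
  exact congrArg CommSq.LiftStruct.l this

/-- The uniqueness part of the curve criterion for `f` gives the curve lifting property of the
diagonal of `f`. -/
theorem curveLift_diagonal {S X Y : Scheme.{u}} (p : X ⟶ S) (q : Y ⟶ S) (f : X ⟶ Y)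
    (hf : f ≫ q = p) (hH : CurveUnique S q f) :
    CurveLift S (pullback.fst f f ≫ p) (pullback.diagonal f) := by
  intro C r _ _ _ hnormal c hc hdim U hU u g hg hu k hk
  let a : C ⟶ X := g ≫ pullback.fst f f
  let b : C ⟶ X := g ≫ pullback.snd f f
  have hab : a ≫ f = b ≫ f := by
    show (g ≫ pullback.fst f f) ≫ f = (g ≫ pullback.snd f f) ≫ f
    rw [Category.assoc, Category.assoc, pullback.condition]
  have hua : U.ι ≫ a = u := by
    show U.ι ≫ g ≫ pullback.fst f f = u
    rw [← Category.assoc, ← hu, Category.assoc, pullback.diagonal_fst, Category.comp_id]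
  have hub : U.ι ≫ b = u := by
    show U.ι ≫ g ≫ pullback.snd f f = u
    rw [← Category.assoc, ← hu, Category.assoc, pullback.diagonal_snd, Category.comp_id]
  have hg0 : (a ≫ f) ≫ q = r := by
    rw [Category.assoc, hf, ← hg]
    rfl
  have hu0 : u ≫ f = U.ι ≫ a ≫ f := by rw [← Category.assoc, hua]
  have hll' : C.fromSpecStalk c ≫ a = C.fromSpecStalk c ≫ b :=
    hH C r hnormal c hc hdim U hU u (a ≫ f) hg0 hu0 k hk (C.fromSpecStalk c ≫ a)
      (C.fromSpecStalk c ≫ b) (Category.assoc _ _ _)
      (by rw [← Category.assoc, ← hk, Category.assoc, hua])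
      (by rw [Category.assoc, hab])
      (by rw [← Category.assoc, ← hk, Category.assoc, hub])
  refine ⟨C.fromSpecStalk c ≫ a, ?_, ?_⟩
  · apply pullback.hom_ext
    · rw [Category.assoc, pullback.diagonal_fst, Category.comp_id, Category.assoc]
    · rw [Category.assoc, pullback.diagonal_snd, Category.comp_id, Category.assoc, hll']
  · rw [← Category.assoc, ← hk, Category.assoc, hua]

/-- Over a Nagata base, the uniqueness part of the curve criterion implies separatedness. -/
theorem isSeparated_of_curveUnique (S : Scheme.{u})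
    (hS : ∀ W : S.affineOpens, CAlg.IsNagata Γ(S, W)) {X Y : Scheme.{u}} (p : X ⟶ S) (q : Y ⟶ S)
    [LocallyOfFiniteType p] [LocallyOfFiniteType q] (f : X ⟶ Y) (hf : f ≫ q = p)
    (hH : CurveUnique S q f) : IsSeparated f := by
  haveI : IsLocallyNoetherian S := ⟨fun W => (hS W).1⟩
  haveI : IsLocallyNoetherian X := LocallyOfFiniteType.isLocallyNoetherian p
  haveI : LocallyOfFiniteType f := by
    haveI : LocallyOfFiniteType (f ≫ q) := hf ▸ inferInstance
    exact locallyOfFiniteType_of_comp f q
  haveI : QuasiSeparated f := QuasiSeparated.of_quasiSeparatedSpace f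
  haveI : QuasiCompact (pullback.diagonal f) := QuasiSeparated.quasiCompact_diagonal
  haveI : UniversallyClosed (pullback.diagonal f) :=
    universallyClosed_of_curveLift S hS p (pullback.fst f f ≫ p) (pullback.diagonal f)
      (by rw [← Category.assoc, pullback.diagonal_fst, Category.id_comp])
      (curveLift_diagonal p q f hf hH)
  constructor
  exact IsClosedImmersion.of_isPreimmersion _
    (pullback.diagonal f).isClosedMap.isClosed_range

end Groth.Agent.Lib.helper9.NagCurve
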