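/-
Helper library (helper9): valuative criteria over a Nagata base via curves, part 7.
Local rings of schemes locally of finite type over `S` are essentially of finite type over `S`;
the curve properties follow from the valuative properties for discrete valuation rings
essentially of finite type over the base.
-/
import Groth.Agent.Lib.Helper9.NagCurve6
import Mathlib.RingTheory.EssentialFiniteness

set_option autoImplicit false
set_option linter.style.haveILetI false
set_option backward.isDefEq.respectTransparency false

namespace Groth.Agent.Lib.helper9.NagCurve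

open AlgebraicGeometry CategoryTheory Limits Topology

universe u

/-- The local ring of a scheme locally of finite type over `S` is essentially of finite type over
an affine open of `S`. -/
theorem exists_essFiniteType_stalk {S C : Scheme.{u}} (r : C ⟶ S) [LocallyOfFiniteType r] (c : C) :
    ∃ (U : S.affineOpens) (φ : Γ(S, U.1) ⟶ CommRingCat.of (C.presheaf.stalk c)),
      Spec.map φ ≫ U.2.fromSpec = C.fromSpecStalk c ≫ r ∧ φ.hom.EssFiniteType := by
  obtain ⟨U, hU, hcU, -⟩ := exists_isAffineOpen_mem_and_subset (X := S) (x := r c) (U := ⊤) trivial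
  obtain ⟨C₁, hC₁, hcC₁, hle⟩ := exists_isAffineOpen_mem_and_subset (X := C) (x := c)
    (U := r ⁻¹ᵁ U) hcU
  refine ⟨⟨U, hU⟩, r.appLE U C₁ hle ≫ C.presheaf.germ C₁ c hcC₁, ?_, ?_⟩
  · rw [Spec.map_comp, Category.assoc, IsAffineOpen.SpecMap_appLE_fromSpec r hU hC₁ hle,
      ← Category.assoc]
    congr 1
    exact hC₁.fromSpecStalk_eq_fromSpecStalk hcC₁
  · have e1 : (r.appLE U C₁ hle).hom.EssFiniteType :=
      RingHom.FiniteType.essFiniteType (r.finiteType_appLE hU hC₁ hle)
    have e2 : (C.presheaf.germ C₁ c hcC₁).hom.EssFiniteType := by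
      let _ : Algebra Γ(C, C₁) (C.presheaf.stalk c) :=
        C.presheaf.algebra_section_stalk ⟨c, hcC₁⟩
      have := hC₁.isLocalization_stalk ⟨c, hcC₁⟩
      have h2 : Algebra.EssFiniteType Γ(C, C₁) (C.presheaf.stalk c) :=
        Algebra.EssFiniteType.of_isLocalization _
          (hC₁.primeIdealOf ⟨c, hcC₁⟩).asIdeal.primeCompl
      exact h2
    exact e1.comp e2

/-- The valuative square attached to curve data. -/
noncomputable def curveSq {X Y C : Scheme.{u}} (f : X ⟶ Y) (c : C)
    [IsDomain (C.presheaf.stalk c)] [ValuationRing (C.presheaf.stalk c)] (U : C.Opens)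
    (u : (U : Scheme.{u}) ⟶ X) (g : C ⟶ Y) (hu : u ≫ f = U.ι ≫ g)
    (k : Spec (CommRingCat.of (FractionRing (C.presheaf.stalk c))) ⟶ (U : Scheme.{u}))
    (hk : k ≫ U.ι = Spec.map (CommRingCat.ofHom (algebraMap (C.presheaf.stalk c)
      (FractionRing (C.presheaf.stalk c)))) ≫ C.fromSpecStalk c) : ValuativeCommSq f :=
  { R := C.presheaf.stalk c
    K := FractionRing (C.presheaf.stalk c)
    i₁ := k ≫ u
    i₂ := C.fromSpecStalk c ≫ g
    commSq := ⟨by rw [Category.assoc, hu, ← Category.assoc, hk, Category.assoc]⟩ }

/-- A normal Noetherian local domain of dimension one is a discrete valuation ring. -/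
theorem isDiscreteValuationRing_stalk {C : Scheme.{u}} [IsIntegral C] [IsLocallyNoetherian C]
    (c : C) (hnormal : IsIntegrallyClosed (C.presheaf.stalk c))
    (hdim : ringKrullDim (C.presheaf.stalk c) = 1) :
    IsDiscreteValuationRing (C.presheaf.stalk c) := by
  let A := C.presheaf.stalk c
  haveI : IsNoetherianRing A := inferInstance
  haveI : IsDomain A := inferInstance
  have hnf : ¬ IsField A := by
    intro hf
    have : ringKrullDim A = 0 := ringKrullDim_eq_zero_of_isField hf
    rw [hdim] at this
    exact one_ne_zero this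
  have h10 : ValuationRing A → IsDiscreteValuationRing A :=
    ((IsDiscreteValuationRing.TFAE A hnf).out 1 0).mp
  exact h10 (valuationRing_stalk c hnormal hdim)

end Groth.Agent.Lib.helper9.NagCurve
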