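import Mathlib
import Groth.Prelude

/-!
# Limits of towers of rings with surjective transition maps and nil kernels (helper9)

`FlatCA.IsRingLimit A A' φ π`, `φ n` surjective with nil kernel.
* `isUnit_of_isUnit_zero`: `a : A` is a unit as soon as `π 0 a` is.
* `surjective_pi_zero`, `ker_le_maximal`.
* `eq_univ_of_isOpen`: an open of `Spec A` containing the image of `Spec (A' 0)` is everything.
* `exists_lift`: compatible ring maps `B → A' n` come from a ring map `B → A`.
-/

set_option autoImplicit false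

namespace Groth.Agent.Lib.helper9.NilLimit

universe u

lemma isUnit_of_isUnit_map_of_nil {R S : Type*} [CommRing R] [CommRing S] (f : R →+* S)
    (hf : Function.Surjective f) (hnil : ∀ x ∈ RingHom.ker f, IsNilpotent x) (u : R)
    (hu : IsUnit (f u)) : IsUnit u := by
  obtain ⟨w, hw⟩ := hu.exists_right_inv
  obtain ⟨v, rfl⟩ := hf w
  have hker : u * v - 1 ∈ RingHom.ker f := by
    rw [RingHom.mem_ker, map_sub, map_mul, hw, map_one, sub_self]
  have h1 : IsUnit (u * v) := by
    have := (hnil _ hker).isUnit_one_add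
    simpa using this
  exact isUnit_of_mul_isUnit_left h1

variable {A : Type u} [CommRing A] {A' : ℕ → Type u} [∀ n, CommRing (A' n)]
  {φ : ∀ n, A' (n + 1) →+* A' n} {π : ∀ n, A →+* A' n}

lemma isUnit_of_isUnit_zero (hlim : FlatCA.IsRingLimit A A' φ π)
    (hsurj : ∀ n, Function.Surjective (φ n)) (hnil : ∀ n, ∀ x ∈ RingHom.ker (φ n), IsNilpotent x)
    (a : A) (h0 : IsUnit (π 0 a)) : IsUnit a := by
  have hn : ∀ n, IsUnit (π n a) := by
    intro n
    induction n with
    | zero => exact h0
    | succ n ih =>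
      apply isUnit_of_isUnit_map_of_nil (φ n) (hsurj n) (hnil n)
      rw [← RingHom.comp_apply, hlim.1 n]; exact ih
  choose x hx using fun n => (hn n).exists_right_inv
  have hcompat : ∀ n, φ n (x (n + 1)) = x n := by
    intro n
    have h1 : π n a * φ n (x (n + 1)) = 1 := by
      have := congrArg (φ n) (hx (n + 1))
      rw [map_mul, map_one, ← RingHom.comp_apply, hlim.1 n] at this
      exact this
    calc φ n (x (n + 1)) = (x n * π n a) * φ n (x (n + 1)) := by
          rw [mul_comm (x n), hx n, one_mul]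
      _ = x n * (π n a * φ n (x (n + 1))) := mul_assoc _ _ _
      _ = x n := by rw [h1, mul_one]
  obtain ⟨b, hb⟩ := hlim.2.2 x hcompat
  exact IsUnit.of_mul_eq_one b (hlim.2.1 _ _ fun n => by rw [map_mul, hb, hx, map_one])

lemma surjective_pi_zero (hlim : FlatCA.IsRingLimit A A' φ π)
    (hsurj : ∀ n, Function.Surjective (φ n)) : Function.Surjective (π 0) := by
  intro x0
  choose lift hlift using fun n (y : A' n) => hsurj n y
  let x : ∀ n, A' n := fun n => Nat.rec (motive := fun n => A' n) x0 (fun n y => lift n y) n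
  have hcompat : ∀ n, φ n (x (n + 1)) = x n := fun n => hlift n (x n)
  obtain ⟨a, ha⟩ := hlim.2.2 x hcompat
  exact ⟨a, ha 0⟩

lemma ker_le_maximal (hlim : FlatCA.IsRingLimit A A' φ π)
    (hsurj : ∀ n, Function.Surjective (φ n)) (hnil : ∀ n, ∀ x ∈ RingHom.ker (φ n), IsNilpotent x)
    (m : Ideal A) (hm : m.IsMaximal) : RingHom.ker (π 0) ≤ m := by
  intro x hx
  by_contra hxm
  obtain ⟨y, i, hi, hyi⟩ := hm.exists_inv hxm
  have h1 : π 0 i = 1 := by
    have := congrArg (π 0) hyi
    rw [map_add, map_mul, (RingHom.mem_ker).mp hx, mul_zero, zero_add, map_one] at this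
    exact this
  have hu : IsUnit i := isUnit_of_isUnit_zero hlim hsurj hnil i (by rw [h1]; exact isUnit_one)
  exact hm.ne_top (Ideal.eq_top_of_isUnit_mem _ hi hu)

lemma eq_univ_of_isOpen (hlim : FlatCA.IsRingLimit A A' φ π)
    (hsurj : ∀ n, Function.Surjective (φ n)) (hnil : ∀ n, ∀ x ∈ RingHom.ker (φ n), IsNilpotent x)
    (W : Set (PrimeSpectrum A)) (hW : IsOpen W)
    (h : Set.range (PrimeSpectrum.comap (π 0)) ⊆ W) : W = Set.univ := by
  by_contra hne
  obtain ⟨J, hJ⟩ := (PrimeSpectrum.isClosed_iff_zeroLocus_ideal _).mp hW.isClosed_compl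
  have hJtop : J ≠ ⊤ := by
    rintro rfl
    rw [Submodule.top_coe, PrimeSpectrum.zeroLocus_univ, Set.compl_empty_iff] at hJ
    exact hne hJ
  obtain ⟨m, hm, hJm⟩ := Ideal.exists_le_maximal J hJtop
  have hmW : (⟨m, hm.isPrime⟩ : PrimeSpectrum A) ∈ Wᶜ := by
    rw [hJ, PrimeSpectrum.mem_zeroLocus]; exact hJm
  apply hmW
  apply h
  rw [range_comap_of_surjective _ _ (surjective_pi_zero hlim hsurj), PrimeSpectrum.mem_zeroLocus]
  exact ker_le_maximal hlim hsurj hnil m hm

/-- compatible ring maps into the tower come from a ring map into the limit. -/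
lemma exists_lift (hlim : FlatCA.IsRingLimit A A' φ π) {B : Type*} [CommRing B]
    (κ : ∀ n, B →+* A' n) (hκ : ∀ n, (φ n).comp (κ (n + 1)) = κ n) :
    ∃ κ' : B →+* A, ∀ n, (π n).comp κ' = κ n := by
  have hex : ∀ b : B, ∃ a : A, ∀ n, π n a = κ n b := fun b =>
    hlim.2.2 (fun n => κ n b) (fun n => by rw [← RingHom.comp_apply, hκ n])
  choose k hk using hex
  refine ⟨{ toFun := k, map_one' := ?_, map_mul' := ?_, map_zero' := ?_, map_add' := ?_ }, ?_⟩
  · exact hlim.2.1 _ _ fun n => by rw [hk, map_one, map_one]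
  · intro a b
    exact hlim.2.1 _ _ fun n => by rw [hk, map_mul, map_mul, hk, hk]
  · exact hlim.2.1 _ _ fun n => by rw [hk, map_zero, map_zero]
  · intro a b
    exact hlim.2.1 _ _ fun n => by rw [hk, map_add, map_add, hk, hk]
  · intro n
    ext b
    exact hk b n

end Groth.Agent.Lib.helper9.NilLimit
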