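import Mathlib
import Groth.Agent.Lib.Helper9.NilLimit1
import Groth.Agent.Lib.Helper9.HensCouple1

/-!
# Monomorphisms locally of finite type over a nil-limit with sections at all stages (helper9)
-/

set_option autoImplicit false
set_option linter.style.haveILetI false
set_option backward.isDefEq.respectTransparency false

namespace Groth.Agent.Lib.helper9.NilLimit

open AlgebraicGeometry CategoryTheory Limits

universe u

theorem isIso_of_mono_of_sections {A : Type u} [CommRing A] (A' : ℕ → Type u)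
    [∀ n, CommRing (A' n)] (φ : ∀ n, A' (n + 1) →+* A' n) (π : ∀ n, A →+* A' n)
    (hlim : FlatCA.IsRingLimit A A' φ π) (hsurj : ∀ n, Function.Surjective (φ n))
    (hnil : ∀ n, ∀ x ∈ RingHom.ker (φ n), IsNilpotent x)
    {T : Scheme.{u}} (h : T ⟶ Spec (CommRingCat.of A)) [Mono h] [LocallyOfFiniteType h]
    (hsec : ∀ n, ∃ g : Spec (CommRingCat.of (A' n)) ⟶ T,
      g ≫ h = Spec.map (CommRingCat.ofHom (π n))) : IsIso h := by
  choose g hg using hsec
  -- compatibility of the `g n`
  have hgcompat : ∀ n, Spec.map (CommRingCat.ofHom (φ n)) ≫ g (n + 1) = g n := by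
    intro n
    rw [← cancel_mono h, Category.assoc, hg, hg, ← Spec.map_comp, ← CommRingCat.ofHom_comp,
      hlim.1 n]
  -- `Spec (φ n)` is surjective on points
  have hφsurj : ∀ n, Function.Surjective (Spec.map (CommRingCat.ofHom (φ n))).base := by
    intro n
    rw [← Set.range_eq_univ]
    show Set.range (PrimeSpectrum.comap (φ n)) = Set.univ
    rw [range_comap_of_surjective _ _ (hsurj n), Set.eq_univ_iff_forall]
    intro p
    rw [PrimeSpectrum.mem_zeroLocus]
    intro x hx
    obtain ⟨k, hk⟩ := hnil n x hx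
    exact p.2.mem_of_pow_mem k (hk ▸ zero_mem _)
  -- all `g n` have the same range
  have hrange : ∀ n, Set.range (g n).base = Set.range (g 0).base := by
    intro n
    induction n with
    | zero => rfl
    | succ n ih =>
      rw [← ih, ← hgcompat n, Scheme.Hom.comp_base, TopCat.coe_comp, Set.range_comp,
        Set.range_eq_univ.mpr (hφsurj n), Set.image_univ]
  -- a quasi-compact open containing the range
  obtain ⟨T'', hT''c, hT''⟩ := HensCouple.exists_compact_open_of_isCompact T (Set.range (g 0).base)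
    (isCompact_range (g 0).continuous)
  haveI : CompactSpace ↥T''.toScheme := isCompact_iff_compactSpace.1 hT''c
  let h'' : T''.toScheme ⟶ Spec (CommRingCat.of A) := T''.ι ≫ h
  haveI : QuasiCompact h'' := inferInstance
  haveI : Mono h'' := inferInstance
  haveI : IsSeparated h'' := inferInstance
  haveI : LocallyOfFiniteType h'' := inferInstance
  haveI : LocallyQuasiFinite h'' := inferInstance
  obtain ⟨T', j, ρ, hj, hjqc, hρ, hjρ⟩ := ZMTFin.zmt_finite h''
  let g'' : ∀ n, Spec (CommRingCat.of (A' n)) ⟶ T''.toScheme := fun n =>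
    IsOpenImmersion.lift T''.ι (g n) (by
      rw [Scheme.Opens.range_ι]
      exact (hrange n).le.trans hT'')
  have hg'' : ∀ n, g'' n ≫ T''.ι = g n := fun n => IsOpenImmersion.lift_fac _ _ _
  have hg''compat : ∀ n, Spec.map (CommRingCat.ofHom (φ n)) ≫ g'' (n + 1) = g'' n := by
    intro n
    rw [← cancel_mono T''.ι, Category.assoc, hg'', hg'', hgcompat]
  -- pass to rings on `T'`
  haveI : IsAffine T' := isAffine_of_isAffineHom ρ
  obtain ⟨α, hα⟩ := Spec.map_surjective (T'.isoSpec.inv ≫ ρ)
  have hκex : ∀ n, ∃ κ : Γ(T', ⊤) ⟶ CommRingCat.of (A' n),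
      Spec.map κ = g'' n ≫ j ≫ T'.isoSpec.hom := fun n => Spec.map_surjective _
  choose κ hκ using hκex
  have hκα : ∀ n, α ≫ κ n = CommRingCat.ofHom (π n) := by
    intro n
    apply Spec.map_injective
    rw [Spec.map_comp, hκ, hα, Category.assoc, Category.assoc, Iso.hom_inv_id_assoc, hjρ]
    show g'' n ≫ T''.ι ≫ h = _
    rw [← Category.assoc, hg'', hg]
  have hκcompat : ∀ n, κ (n + 1) ≫ CommRingCat.ofHom (φ n) = κ n := by
    intro n
    apply Spec.map_injective
    rw [Spec.map_comp, hκ, hκ, ← Category.assoc, hg''compat]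
  obtain ⟨κ', hκ'⟩ := exists_lift hlim (fun n => (κ n).hom) (fun n => by
    have := congrArg CommRingCat.Hom.hom (hκcompat n)
    simpa using this)
  have hακ' : α ≫ CommRingCat.ofHom κ' = 𝟙 _ := by
    ext1
    apply RingHom.ext
    intro a
    apply hlim.2.1
    intro n
    have h1 := congrArg (fun f => f a) (congrArg CommRingCat.Hom.hom (hκα n))
    have h2 := congrArg (fun f => f (α.hom a)) (hκ' n)
    simp only [CommRingCat.hom_comp, CommRingCat.hom_ofHom, RingHom.coe_comp,
      Function.comp_apply, CommRingCat.hom_id, RingHom.id_apply] at h1 h2 ⊢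
    rw [h2, h1]
  -- the section of `ρ`
  let σ : Spec (CommRingCat.of A) ⟶ T' := Spec.map (CommRingCat.ofHom κ') ≫ T'.isoSpec.inv
  have hσρ : σ ≫ ρ = 𝟙 _ := by
    show (Spec.map (CommRingCat.ofHom κ') ≫ T'.isoSpec.inv) ≫ ρ = 𝟙 _
    rw [Category.assoc, ← hα, ← Spec.map_comp, hακ', Spec.map_id]
  have hσ0 : Spec.map (CommRingCat.ofHom (π 0)) ≫ σ = g'' 0 ≫ j := by
    show Spec.map (CommRingCat.ofHom (π 0)) ≫ Spec.map (CommRingCat.ofHom κ') ≫ T'.isoSpec.inv = _
    rw [← Spec.map_comp_assoc, ← CommRingCat.ofHom_comp, hκ' 0, CommRingCat.ofHom_hom, hκ,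
      Category.assoc, Category.assoc, Iso.hom_inv_id, Category.comp_id]
  -- `σ` lands in the open `T''`
  have hσrange : Set.range σ.base ⊆ Set.range j.base := by
    have hW : σ.base ⁻¹' Set.range j.base = Set.univ := by
      apply eq_univ_of_isOpen hlim hsurj hnil _
        (j.isOpenEmbedding.isOpen_range.preimage σ.continuous)
      rintro _ ⟨q, rfl⟩
      show σ.base ((Spec.map (CommRingCat.ofHom (π 0))).base q) ∈ Set.range j.base
      have := congrArg (fun f => f.base q) hσ0
      simp only [Scheme.Hom.comp_base, TopCat.comp_app] at this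
      rw [this]
      exact ⟨_, rfl⟩
    rintro _ ⟨s, rfl⟩
    have : s ∈ σ.base ⁻¹' Set.range j.base := by rw [hW]; trivial
    exact this
  let σ'' : Spec (CommRingCat.of A) ⟶ T''.toScheme := IsOpenImmersion.lift j σ hσrange
  have hσ'' : σ'' ≫ j = σ := IsOpenImmersion.lift_fac _ _ _
  have hsplit : (σ'' ≫ T''.ι) ≫ h = 𝟙 _ := by
    rw [Category.assoc]
    show σ'' ≫ h'' = 𝟙 _
    rw [← hjρ, ← Category.assoc, hσ'', hσρ]
  haveI : IsSplitEpi h := ⟨⟨⟨σ'' ≫ T''.ι, hsplit⟩⟩⟩
  exact isIso_of_mono_of_isSplitEpi h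

end Groth.Agent.Lib.helper9.NilLimit
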