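import Mathlib
import Groth.Agent.S6294
import Groth.Agent.S6295

/-!
# Total rings of fractions of reduced rings with finitely many minimal primes (helper9)

* `isArtinianRing_fractionRing`: the total ring of fractions of a reduced ring with finitely many
  minimal primes is Artinian (a finite product of fields).
* `isLocalization_fractionRing_of_quasiFinite_flat`: for a flat quasi-finite `A`-algebra `E`
  (`A` reduced with finitely many minimal primes), the total ring of fractions of `E` is the
  localization of `E` at the image of the nonzerodivisors of `A`, and it is finite over the total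
  ring of fractions of `A`.
-/

set_option autoImplicit false
set_option linter.style.haveILetI false

universe u

namespace Groth.Agent.Lib.helper9.TotFrac

open scoped nonZeroDivisors TensorProduct

/-- The total ring of fractions of a reduced ring with finitely many minimal primes is Artinian. -/
theorem isArtinianRing_fractionRing (A : Type u) [CommRing A] [IsReduced A]
    (hmin : (minimalPrimes A).Finite) : IsArtinianRing (FractionRing A) := by
  classical
  obtain ⟨n, f, hf⟩ := hmin.fin_embedding
  obtain ⟨hfield, -, hzd⟩ := Groth.Agent.S6295.result A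
  have hfmem : ∀ i, f i ∈ minimalPrimes A := fun i => hf ▸ Set.mem_range_self i
  haveI : ∀ i, (f i).IsPrime := fun i => (hfmem i).1.1
  have hloc := Groth.Agent.S6294.result (R := A) (ι := Fin n) (fun i => f i) f.injective
    (fun P => by rw [← hf])
    (fun x => by
      constructor
      · intro hx i hxi
        exact (hzd x).2 ⟨f i, hfmem i, hxi⟩ hx
      · intro hx
        by_contra hcon
        obtain ⟨p, hp, hxp⟩ := (hzd x).1 hcon
        rw [← hf] at hp
        obtain ⟨i, rfl⟩ := hp
        exact hx i hxp)
  haveI : ∀ i : Fin n, IsArtinianRing (Localization.AtPrime (f i)) := by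
    intro i
    have hF : IsField (Localization.AtPrime (f i)) := hfield ⟨f i, inferInstance⟩ (hfmem i)
    letI := hF.toField
    exact inferInstanceAs (IsArtinianRing (Localization.AtPrime (f i)))
  haveI : IsArtinianRing (∀ i : Fin n, Localization.AtPrime (f i)) := inferInstance
  exact (IsLocalization.algEquiv A⁰ (∀ i : Fin n, Localization.AtPrime (f i))
    (FractionRing A)).toRingEquiv.isArtinianRing

/-- For a flat quasi-finite algebra `E` over a reduced ring `A` with finitely many minimal primes,
the total ring of fractions of `E` is the localization of `E` at the image of the nonzerodivisors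
of `A`, and it is finite over the total ring of fractions of `A`. -/
theorem isLocalization_fractionRing_of_quasiFinite_flat (A E : Type u) [CommRing A] [IsReduced A]
    (hmin : (minimalPrimes A).Finite) [CommRing E] [Algebra A E] [Module.Flat A E]
    [Algebra.QuasiFinite A E] :
    IsLocalization ((nonZeroDivisors A).map (algebraMap A E)) (FractionRing E) ∧
      ∃ t : Finset (FractionRing E), ∀ x : FractionRing E, ∃ a ∈ nonZeroDivisors A,
        algebraMap A (FractionRing E) a * x ∈ Submodule.span A (t : Set (FractionRing E)) := by
  classical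
  let K := FractionRing A
  haveI : IsArtinianRing K := isArtinianRing_fractionRing A hmin
  -- `K ⊗ E` is finite over `K`, hence Artinian
  haveI : Algebra.QuasiFinite K (K ⊗[A] E) := inferInstance
  haveI : Module.Finite K (K ⊗[A] E) := Module.Finite.of_quasiFinite
  haveI : IsArtinianRing (K ⊗[A] E) := IsArtinianRing.of_finite K _
  haveI : IsArtinianRing (E ⊗[A] K) :=
    (Algebra.TensorProduct.comm A K E).toRingEquiv.isArtinianRing
  let M : Submonoid E := Algebra.algebraMapSubmonoid E A⁰
  haveI hlocM : IsLocalization M (E ⊗[A] K) := IsLocalization.tensor K A⁰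
  have hMle : M ≤ E⁰ := by
    rintro _ ⟨a, ha, rfl⟩
    have h1 : IsSMulRegular E a := Module.Flat.isSMulRegular_of_nonZeroDivisors ha
    rw [mem_nonZeroDivisors_iff_right]
    intro x hx
    apply h1
    show a • x = a • 0
    rw [smul_zero, Algebra.smul_def, mul_comm]
    exact hx
  haveI hlocE : IsLocalization E⁰ (E ⊗[A] K) := by
    refine IsLocalization.of_le M E⁰ hMle ?_
    intro r hr
    apply IsArtinianRing.isUnit_of_mem_nonZeroDivisors
    exact IsLocalization.map_nonZeroDivisors_le M (E ⊗[A] K) ⟨r, hr, rfl⟩
  let e : (E ⊗[A] K) ≃ₐ[E] FractionRing E := IsLocalization.algEquiv E⁰ _ _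
  refine ⟨IsLocalization.isLocalization_of_algEquiv M e, ?_⟩
  -- finiteness
  obtain ⟨t₀, ht₀⟩ := (Module.finite_def.1 (inferInstance : Module.Finite K (K ⊗[A] E)))
  let ψ : (K ⊗[A] E) →ₗ[A] FractionRing E :=
    ((e.restrictScalars A).toLinearMap).comp (Algebra.TensorProduct.comm A K E).toLinearMap
  have hψsurj : Function.Surjective ψ :=
    e.surjective.comp (Algebra.TensorProduct.comm A K E).surjective
  have hψA : ∀ (a : A) (y : K ⊗[A] E), ψ (a • y) = algebraMap A (FractionRing E) a * ψ y := by
    intro a y
    rw [map_smul, Algebra.smul_def]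
  refine ⟨t₀.image ψ, ?_⟩
  intro x
  obtain ⟨y, rfl⟩ := hψsurj x
  have hy : y ∈ Submodule.span K (t₀ : Set (K ⊗[A] E)) := ht₀ ▸ Submodule.mem_top
  obtain ⟨c, hc⟩ := (Submodule.mem_span_finset (R := K)).1 hy
  obtain ⟨b, hb⟩ := IsLocalization.exist_integer_multiples_of_finset A⁰ (t₀.image c)
  refine ⟨b.1, b.2, ?_⟩
  rw [← hψA]
  have h3 : (b.1 : A) • y ∈ Submodule.span A (t₀ : Set (K ⊗[A] E)) := by
    rw [← hc.2, Finset.smul_sum]
    refine Submodule.sum_mem _ (fun i hi => ?_)
    obtain ⟨a', ha'⟩ := hb (c i) (Finset.mem_image_of_mem _ hi)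
    have h4 : (b.1 : A) • (c i • i) = a' • i := by
      rw [← smul_assoc, ← ha', algebraMap_smul]
    rw [h4]
    exact Submodule.smul_mem _ _ (Submodule.subset_span hi)
  have h5 : ∀ z ∈ Submodule.span A (t₀ : Set (K ⊗[A] E)),
      ψ z ∈ Submodule.span A ((t₀.image ψ : Finset (FractionRing E)) : Set (FractionRing E)) := by
    intro z hz
    induction hz using Submodule.span_induction with
    | mem z hz =>
      apply Submodule.subset_span
      rw [Finset.coe_image]
      exact ⟨z, hz, rfl⟩
    | zero => rw [map_zero]; exact Submodule.zero_mem _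
    | add z w _ _ hz hw => rw [map_add]; exact Submodule.add_mem _ hz hw
    | smul a z _ hz =>
      rw [map_smul]
      exact Submodule.smul_mem _ _ hz
  exact h5 _ h3

end Groth.Agent.Lib.helper9.TotFrac
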