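import Mathlib
import Groth.Agent.Lib.Helper9.TotFrac1

/-!
# The integral closure of a reduced ring in its total ring of fractions (helper9)

`R` a reduced ring with finitely many minimal primes, `K = FractionRing R` its total ring of
fractions and `B' = integralClosure R K`.

* `isLocalization_nrm`: `K` is the localisation of `B'` at the image of the nonzerodivisors of `R`.
* `mem_minimalPrimes_iff_disjoint`, `mem_minimalPrimes_nrm_iff_disjoint`: minimal primes of `R`
  (resp. `B'`) are the primes disjoint from the nonzerodivisors of `R`.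
* `mem_minimalPrimes_nrm_iff`: a prime of `B'` is minimal iff its contraction to `R` is.
* `eq_of_comap_eq_of_mem_minimalPrimes`: a minimal prime of `R` has at most one prime of `B'`
  over it; `exists_comap_eq_of_mem_minimalPrimes`: and at least one.
* `exists_mul_eq_algebraMap`: denominators.
-/

set_option autoImplicit false
set_option linter.style.haveILetI false

universe u

namespace Groth.Agent.Lib.helper9.NormRedLoc

open scoped nonZeroDivisors

variable (R : Type u) [CommRing R]

/-- The integral closure of `R` in its total ring of fractions. -/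
abbrev Nrm : Type u := integralClosure R (FractionRing R)

/-- The image in `Nrm R` of the nonzerodivisors of `R`. -/
abbrev nzdImage : Submonoid (Nrm R) := Algebra.algebraMapSubmonoid (Nrm R) R⁰

theorem isLocalization_nrm : IsLocalization (nzdImage R) (FractionRing R) := by
  rw [isLocalization_iff]
  refine ⟨?_, ?_, ?_⟩
  · rintro ⟨_, s, hs, rfl⟩
    show IsUnit (algebraMap (Nrm R) (FractionRing R) (algebraMap R (Nrm R) s))
    rw [← IsScalarTower.algebraMap_apply R (Nrm R) (FractionRing R)]
    exact IsLocalization.map_units (FractionRing R) (⟨s, hs⟩ : R⁰)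
  · intro z
    obtain ⟨⟨r, s⟩, h⟩ := IsLocalization.surj R⁰ z
    refine ⟨(algebraMap R (Nrm R) r, ⟨algebraMap R (Nrm R) s, s, s.2, rfl⟩), ?_⟩
    show z * algebraMap (Nrm R) (FractionRing R) (algebraMap R (Nrm R) s) =
      algebraMap (Nrm R) (FractionRing R) (algebraMap R (Nrm R) r)
    rw [← IsScalarTower.algebraMap_apply R (Nrm R) (FractionRing R),
      ← IsScalarTower.algebraMap_apply R (Nrm R) (FractionRing R)]
    exact h
  · intro x y hxy
    refine ⟨1, ?_⟩
    have : x = y := Subtype.ext hxy
    rw [this]

theorem nzdImage_le : nzdImage R ≤ (Nrm R)⁰ := by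
  rintro _ ⟨s, hs, rfl⟩
  rw [mem_nonZeroDivisors_iff_right]
  intro b hb
  have h1 : IsUnit (algebraMap R (FractionRing R) s) :=
    IsLocalization.map_units (FractionRing R) (⟨s, hs⟩ : R⁰)
  have h2 : (b : FractionRing R) * algebraMap R (FractionRing R) s = 0 := by
    have := congrArg (fun z : Nrm R => (z : FractionRing R)) hb
    simpa using this
  have h3 : (b : FractionRing R) = 0 := (h1.mul_left_eq_zero).1 h2
  exact Subtype.ext h3

/-- Denominators: every element of `Nrm R` becomes an element of `R` after multiplication by a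
nonzerodivisor of `R`. -/
theorem exists_mul_eq_algebraMap (b : Nrm R) :
    ∃ s ∈ R⁰, ∃ a : R, algebraMap R (Nrm R) s * b = algebraMap R (Nrm R) a := by
  obtain ⟨⟨r, s⟩, h⟩ := IsLocalization.surj R⁰ (b : FractionRing R)
  refine ⟨s, s.2, r, ?_⟩
  apply Subtype.ext
  show algebraMap R (FractionRing R) s * (b : FractionRing R) = algebraMap R (FractionRing R) r
  rw [mul_comm]
  exact h

variable [IsReduced R] (hmin : (minimalPrimes R).Finite)

include hmin

theorem mem_minimalPrimes_iff_disjoint (p : Ideal R) [hp : p.IsPrime] :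
    p ∈ minimalPrimes R ↔ Disjoint ((R⁰ : Submonoid R) : Set R) (p : Set R) := by
  haveI : IsArtinianRing (FractionRing R) :=
    Groth.Agent.Lib.helper9.TotFrac.isArtinianRing_fractionRing R hmin
  constructor
  · intro h
    exact (Ideal.disjoint_nonZeroDivisors_of_mem_minimalPrimes h).symm
  · intro hd
    obtain ⟨p₀, hp₀, hle⟩ := Ideal.exists_minimalPrimes_le (I := (⊥ : Ideal R)) (J := p) bot_le
    haveI hp₀' : p₀.IsPrime := hp₀.1.1
    have hd₀ : Disjoint ((R⁰ : Submonoid R) : Set R) (p₀ : Set R) :=
      hd.mono_right hle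
    have h1 : (p₀.map (algebraMap R (FractionRing R))).IsPrime :=
      IsLocalization.isPrime_of_isPrime_disjoint R⁰ _ p₀ hp₀' hd₀
    have h2 : (p.map (algebraMap R (FractionRing R))).IsPrime :=
      IsLocalization.isPrime_of_isPrime_disjoint R⁰ _ p hp hd
    have h3 : p₀.map (algebraMap R (FractionRing R)) ≤ p.map (algebraMap R (FractionRing R)) :=
      Ideal.map_mono hle
    have h4 : (p₀.map (algebraMap R (FractionRing R))).IsMaximal := inferInstance
    have h5 : p₀.map (algebraMap R (FractionRing R)) = p.map (algebraMap R (FractionRing R)) :=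
      h4.eq_of_le h2.ne_top h3
    have h6 : p₀ = p := by
      rw [← IsLocalization.under_map_of_isPrime_disjoint R⁰ (FractionRing R) hp₀' hd₀,
        ← IsLocalization.under_map_of_isPrime_disjoint R⁰ (FractionRing R) hp hd, h5]
    rw [← h6]
    exact hp₀

theorem mem_minimalPrimes_nrm_iff_disjoint (P : Ideal (Nrm R)) [hP : P.IsPrime] :
    P ∈ minimalPrimes (Nrm R) ↔ Disjoint ((nzdImage R : Submonoid (Nrm R)) : Set (Nrm R))
      (P : Set (Nrm R)) := by
  haveI : IsArtinianRing (FractionRing R) :=
    Groth.Agent.Lib.helper9.TotFrac.isArtinianRing_fractionRing R hmin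
  haveI := isLocalization_nrm R
  constructor
  · intro h
    refine Set.disjoint_left.2 fun x hx hxP => ?_
    exact Set.disjoint_left.1 (Ideal.disjoint_nonZeroDivisors_of_mem_minimalPrimes h) hxP
      (nzdImage_le R hx)
  · intro hd
    obtain ⟨P₀, hP₀, hle⟩ := Ideal.exists_minimalPrimes_le (I := (⊥ : Ideal (Nrm R))) (J := P)
      bot_le
    haveI hP₀' : P₀.IsPrime := hP₀.1.1
    have hd₀ : Disjoint ((nzdImage R : Submonoid (Nrm R)) : Set (Nrm R)) (P₀ : Set (Nrm R)) :=
      hd.mono_right hle
    have h1 : (P₀.map (algebraMap (Nrm R) (FractionRing R))).IsPrime :=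
      IsLocalization.isPrime_of_isPrime_disjoint (nzdImage R) _ P₀ hP₀' hd₀
    have h2 : (P.map (algebraMap (Nrm R) (FractionRing R))).IsPrime :=
      IsLocalization.isPrime_of_isPrime_disjoint (nzdImage R) _ P hP hd
    have h3 : P₀.map (algebraMap (Nrm R) (FractionRing R)) ≤
        P.map (algebraMap (Nrm R) (FractionRing R)) := Ideal.map_mono hle
    have h4 : (P₀.map (algebraMap (Nrm R) (FractionRing R))).IsMaximal := inferInstance
    have h5 : P₀.map (algebraMap (Nrm R) (FractionRing R)) =
        P.map (algebraMap (Nrm R) (FractionRing R)) := h4.eq_of_le h2.ne_top h3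
    have h6 : P₀ = P := by
      rw [← IsLocalization.under_map_of_isPrime_disjoint (nzdImage R) (FractionRing R) hP₀' hd₀,
        ← IsLocalization.under_map_of_isPrime_disjoint (nzdImage R) (FractionRing R) hP hd, h5]
    rw [← h6]
    exact hP₀

omit [IsReduced R] hmin in
theorem disjoint_nzdImage_iff (P : Ideal (Nrm R)) :
    Disjoint ((nzdImage R : Submonoid (Nrm R)) : Set (Nrm R)) (P : Set (Nrm R)) ↔
      Disjoint ((R⁰ : Submonoid R) : Set R) ((P.comap (algebraMap R (Nrm R)) : Ideal R) : Set R) := by
  constructor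
  · intro h
    refine Set.disjoint_left.2 fun s hs hsP => ?_
    exact Set.disjoint_left.1 h ⟨s, hs, rfl⟩ hsP
  · intro h
    refine Set.disjoint_left.2 fun x hx hxP => ?_
    obtain ⟨s, hs, rfl⟩ := hx
    exact Set.disjoint_left.1 h hs hxP

theorem mem_minimalPrimes_nrm_iff (P : Ideal (Nrm R)) [hP : P.IsPrime] :
    P ∈ minimalPrimes (Nrm R) ↔ P.comap (algebraMap R (Nrm R)) ∈ minimalPrimes R := by
  haveI : (P.comap (algebraMap R (Nrm R))).IsPrime := Ideal.comap_isPrime _ _
  rw [mem_minimalPrimes_nrm_iff_disjoint R hmin, mem_minimalPrimes_iff_disjoint R hmin,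
    disjoint_nzdImage_iff]

/-- Over a minimal prime of `R` there is at most one prime of `Nrm R`. -/
theorem eq_of_comap_eq_of_mem_minimalPrimes (P P' : Ideal (Nrm R)) [hP : P.IsPrime]
    [hP' : P'.IsPrime] (h : P.comap (algebraMap R (Nrm R)) = P'.comap (algebraMap R (Nrm R)))
    (hminp : P.comap (algebraMap R (Nrm R)) ∈ minimalPrimes R) : P = P' := by
  haveI := isLocalization_nrm R
  have hd : Disjoint ((nzdImage R : Submonoid (Nrm R)) : Set (Nrm R)) (P : Set (Nrm R)) :=
    (mem_minimalPrimes_nrm_iff_disjoint R hmin P).1 ((mem_minimalPrimes_nrm_iff R hmin P).2 hminp)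
  have hd' : Disjoint ((nzdImage R : Submonoid (Nrm R)) : Set (Nrm R)) (P' : Set (Nrm R)) :=
    (mem_minimalPrimes_nrm_iff_disjoint R hmin P').1
      ((mem_minimalPrimes_nrm_iff R hmin P').2 (h ▸ hminp))
  -- the primes of `K`
  have key : ∀ (Q : Ideal (Nrm R)) [Q.IsPrime],
      Disjoint ((nzdImage R : Submonoid (Nrm R)) : Set (Nrm R)) (Q : Set (Nrm R)) →
      Q.map (algebraMap (Nrm R) (FractionRing R)) =
        (Q.comap (algebraMap R (Nrm R))).map (algebraMap R (FractionRing R)) := by
    intro Q hQ hdQ
    have e1 : (Q.map (algebraMap (Nrm R) (FractionRing R))).comap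
        (algebraMap (Nrm R) (FractionRing R)) = Q :=
      IsLocalization.under_map_of_isPrime_disjoint (nzdImage R) (FractionRing R) hQ hdQ
    have e2 : ((Q.map (algebraMap (Nrm R) (FractionRing R))).comap
        (algebraMap R (FractionRing R))).map (algebraMap R (FractionRing R)) =
        Q.map (algebraMap (Nrm R) (FractionRing R)) :=
      IsLocalization.map_under R⁰ (FractionRing R) _
    rw [← e2]
    congr 1
    rw [IsScalarTower.algebraMap_eq R (Nrm R) (FractionRing R), ← Ideal.comap_comap, e1]
  have e : P.map (algebraMap (Nrm R) (FractionRing R)) =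
      P'.map (algebraMap (Nrm R) (FractionRing R)) := by
    rw [key P hd, key P' hd', h]
  rw [← IsLocalization.under_map_of_isPrime_disjoint (nzdImage R) (FractionRing R) hP hd,
    ← IsLocalization.under_map_of_isPrime_disjoint (nzdImage R) (FractionRing R) hP' hd', e]

omit [IsReduced R] hmin in
/-- Over every prime of `R` there is a prime of `Nrm R` (lying over). -/
theorem exists_comap_eq (p : Ideal R) [hp : p.IsPrime] :
    ∃ P : Ideal (Nrm R), P.IsPrime ∧ P.comap (algebraMap R (Nrm R)) = p := by
  haveI : Algebra.IsIntegral R (Nrm R) := inferInstance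
  have hinj : Function.Injective (algebraMap R (Nrm R)) := by
    intro x y hxy
    have h1 : algebraMap R (FractionRing R) x = algebraMap R (FractionRing R) y := by
      rw [IsScalarTower.algebraMap_apply R (Nrm R) (FractionRing R), hxy,
        ← IsScalarTower.algebraMap_apply R (Nrm R) (FractionRing R)]
    exact IsLocalization.injective (FractionRing R) (le_refl R⁰) h1
  have hker : (⊥ : Ideal (Nrm R)).comap (algebraMap R (Nrm R)) ≤ p := by
    intro x hx
    rw [Ideal.mem_comap, Ideal.mem_bot] at hx
    have : x = 0 := hinj (by rw [hx, map_zero])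
    rw [this]
    exact p.zero_mem
  obtain ⟨P, -, hPprime, hPp⟩ :=
    Ideal.exists_ideal_over_prime_of_isIntegral p (⊥ : Ideal (Nrm R)) hker
  exact ⟨P, hPprime, hPp⟩

end Groth.Agent.Lib.helper9.NormRedLoc
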