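import Mathlib
import Groth.Agent.Lib.Helper9.NormRedLoc1

/-!
# Local rings of the normalisation of a reduced ring are normal domains (helper9)

* `eq_zero_or_isUnit_of_artinian`: in a reduced Artinian ring with only trivial idempotents every
  element is zero or a unit.
* `isIntegrallyClosed_localization`: let `N ⊆ K` be integrally closed in `K`, with `K` a reduced
  Artinian ring that is a localisation of `N`, and `M` a submonoid of `N` such that `M⁻¹N` is local.
  Then `M⁻¹N` is an integrally closed domain.
* `isIntegrallyClosed_localization_nrm`: the case `N = Nrm R`, `K = FractionRing R`, `M` the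
  complement of a prime.
-/

set_option autoImplicit false
set_option linter.style.haveILetI false

universe u

namespace Groth.Agent.Lib.helper9.NormRedLoc

open scoped nonZeroDivisors
open Polynomial

theorem eq_zero_or_isUnit_of_artinian {K : Type*} [CommRing K] [IsArtinianRing K] [IsReduced K]
    (hid : ∀ e : K, e * e = e → e = 0 ∨ e = 1) (x : K) : x = 0 ∨ IsUnit x := by
  obtain ⟨n, y, hy⟩ := IsArtinian.exists_pow_succ_smul_dvd x (1 : K)
  simp only [smul_eq_mul, mul_one, Nat.succ_eq_add_one] at hy
  have h1 : x ^ n = x ^ n * (x * y) := by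
    calc x ^ n = x ^ (n + 1) * y := hy.symm
      _ = x ^ n * (x * y) := by ring
  have h2 : ∀ k : ℕ, x ^ n = x ^ n * (x * y) ^ k := by
    intro k
    induction k with
    | zero => simp
    | succ k ih => rw [pow_succ, ← mul_assoc, ← ih, ← h1]
  have he : (x * y) ^ (n + 1) * (x * y) ^ (n + 1) = (x * y) ^ (n + 1) := by
    calc (x * y) ^ (n + 1) * (x * y) ^ (n + 1)
        = (x ^ n * (x * y) ^ (n + 1)) * (x * y ^ (n + 1)) := by ring
      _ = x ^ n * (x * y ^ (n + 1)) := by rw [← h2 (n + 1)]
      _ = (x * y) ^ (n + 1) := by ring
  rcases hid _ he with h0 | h1'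
  · left
    have h3 : x ^ n = 0 := by rw [h2 (n + 1), h0, mul_zero]
    exact IsReduced.eq_zero _ ⟨n, h3⟩
  · right
    refine IsUnit.of_mul_eq_one (y * (x * y) ^ n) ?_
    rw [← h1']; ring

section Abstract

variable (N K : Type u) [CommRing N] [CommRing K] [Algebra N K]

theorem isIntegrallyClosed_localization
    (hinj : Function.Injective (algebraMap N K)) [IsArtinianRing K] [IsReduced K]
    (T : Submonoid N) [IsLocalization T K]
    (hic : ∀ x : K, IsIntegral N x → x ∈ (algebraMap N K).range)
    (M : Submonoid N) [IsLocalRing (Localization M)] :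
    ∃ _ : IsDomain (Localization M), IsIntegrallyClosed (Localization M) := by
  obtain ⟨KQ, hKQ⟩ : ∃ KQ : Type u, KQ = Localization (Algebra.algebraMapSubmonoid K M) := ⟨_, rfl⟩
  subst hKQ
  have hAinj : Function.Injective (algebraMap (Localization M)
      (Localization (Algebra.algebraMapSubmonoid K M))) :=
    localizationAlgebra_injective (Localization M) (Localization (Algebra.algebraMapSubmonoid K M))
      hinj
  haveI : Nontrivial (Localization (Algebra.algebraMapSubmonoid K M)) := hAinj.nontrivial
  -- units
  have hMunit : ∀ m ∈ M, IsUnit (algebraMap N (Localization (Algebra.algebraMapSubmonoid K M)) m) := by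
    intro m hm
    exact IsLocalization.map_units_map_submonoid K
      (Localization (Algebra.algebraMapSubmonoid K M)) (⟨m, hm⟩ : M)
  -- integrally closed in `KQ`
  have hcl : ∀ x : Localization (Algebra.algebraMapSubmonoid K M),
      IsIntegral (Localization M) x →
        ∃ a : Localization M, algebraMap (Localization M) _ a = x := by
    intro x hx
    obtain ⟨m, hm⟩ := IsIntegral.exists_multiple_integral_of_isLocalization M x hx
    rw [Submonoid.smul_def] at hm
    obtain ⟨⟨k, ⟨_, m₂, hm₂, rfl⟩⟩, hk⟩ :=
      IsLocalization.surj (Algebra.algebraMapSubmonoid K M) ((m : N) • x)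
    simp only at hk
    have hk' : IsIntegral N (algebraMap K (Localization (Algebra.algebraMapSubmonoid K M)) k) := by
      rw [← hk, ← IsScalarTower.algebraMap_apply N K]
      exact hm.mul isIntegral_algebraMap
    obtain ⟨m₃, hm₃, hint⟩ := IsLocalization.exists_isIntegral_smul_of_isIntegral_map M hk'
    obtain ⟨n, hn⟩ := hic _ hint
    have hs : m₃ * m₂ * (m : N) ∈ M := M.mul_mem (M.mul_mem hm₃ hm₂) m.2
    refine ⟨IsLocalization.mk' (Localization M) n ⟨m₃ * m₂ * (m : N), hs⟩, ?_⟩
    have hu := hMunit _ hs
    apply hu.mul_left_injective
    show algebraMap (Localization M) _ _ * algebraMap N _ (m₃ * m₂ * (m : N)) =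
      x * algebraMap N _ (m₃ * m₂ * (m : N))
    have e1 : algebraMap (Localization M) (Localization (Algebra.algebraMapSubmonoid K M))
        (IsLocalization.mk' (Localization M) n ⟨m₃ * m₂ * (m : N), hs⟩) *
          algebraMap N _ (m₃ * m₂ * (m : N)) = algebraMap N _ n := by
      rw [IsScalarTower.algebraMap_apply N (Localization M)
        (Localization (Algebra.algebraMapSubmonoid K M)) (m₃ * m₂ * (m : N)), ← map_mul]
      have := IsLocalization.mk'_spec (Localization M) n (⟨m₃ * m₂ * (m : N), hs⟩ : M)
      simp only at this
      rw [this, ← IsScalarTower.algebraMap_apply]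
    have e2 : x * algebraMap N (Localization (Algebra.algebraMapSubmonoid K M))
        (m₃ * m₂ * (m : N)) = algebraMap N _ n := by
      have hk2 : algebraMap K (Localization (Algebra.algebraMapSubmonoid K M)) k =
          (algebraMap N _ (m : N) * x) * algebraMap N _ m₂ := by
        rw [← hk, Algebra.smul_def, ← IsScalarTower.algebraMap_apply]
      have hn2 : algebraMap N (Localization (Algebra.algebraMapSubmonoid K M)) n =
          algebraMap N _ m₃ * algebraMap K _ k := by
        rw [IsScalarTower.algebraMap_apply N K (Localization (Algebra.algebraMapSubmonoid K M)) n,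
          hn, Algebra.smul_def, map_mul, ← IsScalarTower.algebraMap_apply]
      rw [hn2, hk2, map_mul, map_mul]
      ring
    rw [e1, e2]
  -- idempotents of `KQ`
  have hid : ∀ e : Localization (Algebra.algebraMapSubmonoid K M), e * e = e → e = 0 ∨ e = 1 := by
    intro e he
    have hint : IsIntegral (Localization M) e := by
      refine ⟨X * (X - C 1), monic_X.mul (monic_X_sub_C 1), ?_⟩
      simp only [eval₂_mul, eval₂_X, eval₂_sub, map_one, eval₂_one]
      rw [mul_sub, he, mul_one, sub_self]
    obtain ⟨a, rfl⟩ := hcl e hint
    have ha : a * a = a := hAinj (by rw [map_mul, he])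
    rcases IsLocalRing.isUnit_or_isUnit_one_sub_self a with h | h
    · right
      have h1 : a = 1 := by
        apply h.mul_left_cancel
        rw [ha, mul_one]
      rw [h1, map_one]
    · left
      have h0 : (1 - a) * a = 0 := by
        rw [sub_mul, one_mul, ha, sub_self]
      have h1 : a = 0 := (h.mul_right_eq_zero).1 h0
      rw [h1, map_zero]
  have hfield : ∀ z : Localization (Algebra.algebraMapSubmonoid K M), z = 0 ∨ IsUnit z :=
    eq_zero_or_isUnit_of_artinian hid
  haveI hdomKQ : IsDomain (Localization (Algebra.algebraMapSubmonoid K M)) := by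
    haveI : NoZeroDivisors (Localization (Algebra.algebraMapSubmonoid K M)) := by
      refine ⟨fun {a b} hab => ?_⟩
      rcases hfield a with h | h
      · exact Or.inl h
      · exact Or.inr ((h.mul_right_eq_zero).1 hab)
    exact NoZeroDivisors.to_isDomain _
  haveI hdom : IsDomain (Localization M) := hAinj.isDomain (algebraMap _ _)
  refine ⟨hdom, ?_⟩
  haveI hfrac : IsFractionRing (Localization M) (Localization (Algebra.algebraMapSubmonoid K M)) := by
    rw [IsFractionRing, isLocalization_iff]
    refine ⟨?_, ?_, ?_⟩
    · rintro ⟨a, ha⟩
      rcases hfield (algebraMap _ _ a) with h | h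
      · exfalso
        have : a = 0 := hAinj (by rw [h, map_zero])
        rw [this] at ha
        exact zero_notMem_nonZeroDivisors ha
      · exact h
    · intro z
      obtain ⟨⟨k, ⟨_, m, hm, rfl⟩⟩, hk⟩ := IsLocalization.surj (Algebra.algebraMapSubmonoid K M) z
      obtain ⟨⟨n, t⟩, hn⟩ := IsLocalization.surj T k
      simp only at hk hn
      have hu : IsUnit (algebraMap N (Localization (Algebra.algebraMapSubmonoid K M))
          (m * (t : N))) := by
        rw [map_mul]
        refine (hMunit m hm).mul ?_
        rw [IsScalarTower.algebraMap_apply N K]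
        exact (IsLocalization.map_units K t).map _
      have hne : algebraMap N (Localization M) (m * (t : N)) ∈ (Localization M)⁰ := by
        apply mem_nonZeroDivisors_of_ne_zero
        intro h0
        have : algebraMap N (Localization (Algebra.algebraMapSubmonoid K M)) (m * (t : N)) = 0 := by
          rw [IsScalarTower.algebraMap_apply N (Localization M), h0, map_zero]
        rw [this] at hu
        exact not_isUnit_zero hu
      refine ⟨(algebraMap N (Localization M) n, ⟨_, hne⟩), ?_⟩
      show z * algebraMap (Localization M) _ (algebraMap N (Localization M) (m * (t : N))) =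
        algebraMap (Localization M) _ (algebraMap N (Localization M) n)
      rw [← IsScalarTower.algebraMap_apply, ← IsScalarTower.algebraMap_apply,
        IsScalarTower.algebraMap_apply N K, IsScalarTower.algebraMap_apply N K _ n, ← hn,
        map_mul, map_mul, map_mul, ← hk]
      ring
    · intro a b hab
      exact ⟨1, by rw [hAinj hab]⟩
  exact (isIntegrallyClosed_iff (Localization (Algebra.algebraMapSubmonoid K M))).2
    fun {x} hx => hcl x hx

end Abstract

theorem isIntegrallyClosed_localization_nrm (R : Type u) [CommRing R] [IsReduced R]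
    (hmin : (minimalPrimes R).Finite) (Q : Ideal (Nrm R)) [Q.IsPrime] :
    ∃ _ : IsDomain (Localization.AtPrime Q), IsIntegrallyClosed (Localization.AtPrime Q) := by
  haveI : IsArtinianRing (FractionRing R) :=
    Groth.Agent.Lib.helper9.TotFrac.isArtinianRing_fractionRing R hmin
  haveI : IsReduced (FractionRing R) := inferInstance
  haveI := isLocalization_nrm R
  refine isIntegrallyClosed_localization (Nrm R) (FractionRing R) Subtype.val_injective
    (nzdImage R) ?_ Q.primeCompl
  intro x hx
  have : IsIntegral R x := isIntegral_trans x hx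
  exact ⟨⟨x, this⟩, rfl⟩

end Groth.Agent.Lib.helper9.NormRedLoc
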