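import Mathlib
import Groth.Prelude.Def_CAlg2
import Groth.Prelude.Def_EGA4Misc
import Groth.Agent.Lib.Helper9.NormRedLoc2
import Groth.Agent.Lib.Helper9.QFAff1
import Groth.Agent.Lib.Helper14.GUBirat2

/-!
# The normalisation morphism `Spec (normRed B) ⟶ Spec B` (helper9)

`B` a ring whose reduction has finitely many minimal primes.

* `isGeomUnibranch_stalk_spec_nrm`: all local rings of `Spec (Nrm R)` are geometrically unibranch.
* `isBirational_toNorm`: `Spec (normRed B) ⟶ Spec B` is birational (`RadPt.IsBirational`).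
-/

set_option autoImplicit false
set_option linter.style.haveILetI false
set_option backward.isDefEq.respectTransparency false

universe u

namespace Groth.Agent.Lib.helper9.NormRedLoc

open scoped nonZeroDivisors
open AlgebraicGeometry CategoryTheory Groth.Agent.Lib.Helper14.GUBirat

theorem isGeomUnibranch_stalk_spec_nrm (R : Type u) [CommRing R] [IsReduced R]
    (hmin : (minimalPrimes R).Finite) (p : Spec (CommRingCat.of (Nrm R))) :
    CAlg2.IsGeomUnibranch ((Spec (CommRingCat.of (Nrm R))).presheaf.stalk p) := by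
  let p' : PrimeSpectrum (Nrm R) := p
  haveI : p'.asIdeal.IsPrime := p'.isPrime
  let alg : Algebra (Nrm R) ((Spec (CommRingCat.of (Nrm R))).presheaf.stalk p) :=
    (StructureSheaf.toStalk (Nrm R) p').hom.toAlgebra
  have hloc : IsLocalization.AtPrime ((Spec (CommRingCat.of (Nrm R))).presheaf.stalk p)
      p'.asIdeal := StructureSheaf.IsLocalization.to_stalk (Nrm R) p'
  obtain ⟨hdom, hic⟩ := isIntegrallyClosed_localization_nrm R hmin p'.asIdeal
  have hGU : CAlg2.IsGeomUnibranch (Localization.AtPrime p'.asIdeal) :=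
    Groth.Agent.Lib.helper9.QFAff.isGeomUnibranch_of_isIntegrallyClosed _
  let e : Localization.AtPrime p'.asIdeal ≃+*
      (Spec (CommRingCat.of (Nrm R))).presheaf.stalk p :=
    (IsLocalization.algEquiv p'.asIdeal.primeCompl _ _).toRingEquiv
  exact isGeomUnibranch_of_ringEquiv e hGU

section Birat

variable (B : Type u) [CommRing B]

instance : IsReduced (CAlg2.red B) :=
  (Ideal.isRadical_iff_quotient_reduced (nilradical B)).1 (Ideal.radical_isRadical ⊥)

theorem minimalPrimes_eq_image :
    minimalPrimes B = Ideal.comap (Ideal.Quotient.mk (nilradical B)) '' minimalPrimes (CAlg2.red B) := by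
  have hmp : (nilradical B).minimalPrimes = minimalPrimes B := by
    show ((⊥ : Ideal B).radical).minimalPrimes = (⊥ : Ideal B).minimalPrimes
    exact Ideal.radical_minimalPrimes
  rw [← hmp]
  exact Ideal.minimalPrimes_eq_comap

theorem comap_mem_minimalPrimes_iff (p' : Ideal (CAlg2.red B)) :
    p'.comap (Ideal.Quotient.mk (nilradical B)) ∈ minimalPrimes B ↔
      p' ∈ minimalPrimes (CAlg2.red B) := by
  rw [minimalPrimes_eq_image]
  constructor
  · rintro ⟨q, hq, h⟩
    have := Ideal.comap_injective_of_surjective _ Ideal.Quotient.mk_surjective h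
    rw [← this]
    exact hq
  · intro h
    exact ⟨p', h, rfl⟩

/-- The contraction of a prime of `normRed B` to `red B`. -/
noncomputable def contr (x : Spec (CommRingCat.of (CAlg2.normRed B))) : Ideal (CAlg2.red B) :=
  x.asIdeal.comap (algebraMap (CAlg2.red B) (CAlg2.normRed B))

theorem map_asIdeal (x : Spec (CommRingCat.of (CAlg2.normRed B))) :
    (Spec.map (CommRingCat.ofHom (toNorm B)) x).asIdeal =
      (contr B x).comap (Ideal.Quotient.mk (nilradical B)) := rfl

theorem contr_eq_of_map_eq (x x' : Spec (CommRingCat.of (CAlg2.normRed B)))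
    (h : Spec.map (CommRingCat.ofHom (toNorm B)) x = Spec.map (CommRingCat.ofHom (toNorm B)) x') :
    contr B x = contr B x' := by
  have h1 := congrArg PrimeSpectrum.asIdeal h
  rw [map_asIdeal, map_asIdeal] at h1
  exact Ideal.comap_injective_of_surjective _ Ideal.Quotient.mk_surjective h1

theorem mem_genericPoints_iff (R : CommRingCat.{u}) (x : Spec R) :
    x ∈ genericPoints (Spec R) ↔ x.asIdeal ∈ minimalPrimes R := by
  constructor
  · intro hx
    obtain ⟨p, hp, hle⟩ := Ideal.exists_minimalPrimes_le (I := (⊥ : Ideal R)) (J := x.asIdeal)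
      bot_le
    have hp' : p.IsPrime := hp.1.1
    have h1 : (⟨p, hp'⟩ : Spec R) ⤳ x := (PrimeSpectrum.le_iff_specializes _ x).mp hle
    have h2 := Groth.Agent.Lib.Helper14.BiratBC.eq_of_specializes_of_mem_genericPoints hx h1
    rw [← h2]
    exact hp
  · exact mem_genericPoints_of_mem_minimalPrimes R x

variable (hmin : (minimalPrimes (CAlg2.red B)).Finite)

include hmin

theorem mem_genericPoints_normRed_iff (x : Spec (CommRingCat.of (CAlg2.normRed B))) :
    x ∈ genericPoints (Spec (CommRingCat.of (CAlg2.normRed B))) ↔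
      contr B x ∈ minimalPrimes (CAlg2.red B) := by
  haveI : x.asIdeal.IsPrime := x.isPrime
  rw [mem_genericPoints_iff]
  exact mem_minimalPrimes_nrm_iff (CAlg2.red B) hmin x.asIdeal

theorem map_mem_genericPoints_iff (x : Spec (CommRingCat.of (CAlg2.normRed B))) :
    Spec.map (CommRingCat.ofHom (toNorm B)) x ∈ genericPoints (Spec (CommRingCat.of B)) ↔
      x ∈ genericPoints (Spec (CommRingCat.of (CAlg2.normRed B))) := by
  rw [mem_genericPoints_iff, map_asIdeal, mem_genericPoints_normRed_iff B hmin]
  exact comap_mem_minimalPrimes_iff B _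

theorem eq_of_map_eq_of_mem_genericPoints (x x' : Spec (CommRingCat.of (CAlg2.normRed B)))
    (h : Spec.map (CommRingCat.ofHom (toNorm B)) x = Spec.map (CommRingCat.ofHom (toNorm B)) x')
    (hx : x ∈ genericPoints (Spec (CommRingCat.of (CAlg2.normRed B)))) : x = x' := by
  haveI : x.asIdeal.IsPrime := x.isPrime
  haveI : x'.asIdeal.IsPrime := x'.isPrime
  apply PrimeSpectrum.ext
  exact eq_of_comap_eq_of_mem_minimalPrimes (CAlg2.red B) hmin x.asIdeal x'.asIdeal
    (contr_eq_of_map_eq B x x' h) ((mem_genericPoints_normRed_iff B hmin x).1 hx)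

theorem isBirational_toNorm :
    RadPt.IsBirational (Spec.map (CommRingCat.ofHom (toNorm B))) := by
  refine ⟨⟨?_, ?_, ?_⟩, ?_⟩
  · intro x hx
    exact (map_mem_genericPoints_iff B hmin x).2 hx
  · intro x hx x' _ h
    exact eq_of_map_eq_of_mem_genericPoints B hmin x x' h hx
  · intro y hy
    rw [mem_genericPoints_iff, minimalPrimes_eq_image] at hy
    obtain ⟨q, hq, hqy⟩ := hy
    haveI : q.IsPrime := hq.1.1
    obtain ⟨P, hP, hPq⟩ := exists_comap_eq (CAlg2.red B) q
    let x : Spec (CommRingCat.of (CAlg2.normRed B)) := ⟨P, hP⟩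
    have hxy : Spec.map (CommRingCat.ofHom (toNorm B)) x = y := by
      apply PrimeSpectrum.ext
      rw [map_asIdeal]
      show (P.comap (algebraMap (CAlg2.red B) (CAlg2.normRed B))).comap _ = _
      rw [hPq, hqy]
    refine ⟨x, ?_, hxy⟩
    rw [mem_genericPoints_normRed_iff B hmin]
    show P.comap (algebraMap (CAlg2.red B) (CAlg2.normRed B)) ∈ _
    rw [hPq]
    exact hq
  · intro y hy
    refine ⟨fun x x' hx hx' => ?_, fun x hx => ?_⟩
    · have hxg : x ∈ genericPoints (Spec (CommRingCat.of (CAlg2.normRed B))) := by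
        rw [← map_mem_genericPoints_iff B hmin, hx]
        exact hy
      exact eq_of_map_eq_of_mem_genericPoints B hmin x x' (hx.trans hx'.symm) hxg
    · have hxg : x ∈ genericPoints (Spec (CommRingCat.of (CAlg2.normRed B))) := by
        rw [← map_mem_genericPoints_iff B hmin, hx]
        exact hy
      have hmp : x.asIdeal ∈ minimalPrimes (CAlg2.normRed B) :=
        (mem_genericPoints_iff (CommRingCat.of (CAlg2.normRed B)) x).1 hxg
      haveI : x.asIdeal.IsPrime := x.isPrime
      have hdisj := (mem_minimalPrimes_nrm_iff_disjoint (CAlg2.red B) hmin x.asIdeal).1 hmp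
      obtain ⟨ρ, hρ⟩ : ∃ ρ, ρ = ((Spec.map (CommRingCat.ofHom (toNorm B))).residueFieldMap x).hom :=
        ⟨_, rfl⟩
      rw [← hρ]
      have hev : ∀ r : CAlg2.normRed B,
          ∃ u, ρ u = ev (CommRingCat.of (CAlg2.normRed B)) x r := by
        intro r
        obtain ⟨s, hs, a, hsa⟩ := exists_mul_eq_algebraMap (CAlg2.red B) r
        obtain ⟨s', rfl⟩ := Ideal.Quotient.mk_surjective s
        obtain ⟨a', rfl⟩ := Ideal.Quotient.mk_surjective a
        have h1 : toNorm B s' * r = toNorm B a' := hsa
        have h2 : toNorm B s' ∉ x.asIdeal := fun hmem =>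
          Set.disjoint_left.1 hdisj ⟨_, hs, rfl⟩ hmem
        have h3 : ev (CommRingCat.of (CAlg2.normRed B)) x (toNorm B s') ≠ 0 := fun h0 =>
          h2 ((ev_eq_zero_iff _ x _).1 h0)
        have n1 := ev_naturality (CommRingCat.ofHom (toNorm B)) x s'
        have n2 := ev_naturality (CommRingCat.ofHom (toNorm B)) x a'
        rw [← hρ] at n1 n2
        refine ⟨ev _ _ a' / ev _ _ s', ?_⟩
        rw [map_div₀, n1, n2]
        show ev (CommRingCat.of (CAlg2.normRed B)) x (toNorm B a') /
          ev (CommRingCat.of (CAlg2.normRed B)) x (toNorm B s') = _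
        rw [div_eq_iff h3, ← map_mul, mul_comm, h1]
      refine ⟨ρ.injective, fun z => ?_⟩
      obtain ⟨r, s, hs, hrs⟩ := exists_ev_frac _ x z
      obtain ⟨ur, hur⟩ := hev r
      obtain ⟨us, hus⟩ := hev s
      have hs0 : ev (CommRingCat.of (CAlg2.normRed B)) x s ≠ 0 := fun h0 =>
        hs ((ev_eq_zero_iff _ x _).1 h0)
      refine ⟨ur / us, ?_⟩
      rw [map_div₀, hur, hus, div_eq_iff hs0, hrs]

end Birat

end Groth.Agent.Lib.helper9.NormRedLoc
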