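import Mathlib
import Groth.Prelude.Def_CAlg2
import Groth.Prelude.Def_EGA4Misc
import Groth.Agent.Lib.Helper9.NormRedLoc3
import Groth.Agent.Lib.Helper14.GUBirat3
import Groth.Agent.Lib.Helper14.RadPtBC
import Groth.Agent.S3444

/-!
# Constructibility of the geometrically unibranch locus: the affine case (helper9)

* `isLocallyConstructible_setOf_isRadicialAt`: for `f : X ⟶ Y` of finite presentation the set of
  `y` at which `f` is radicial is locally constructible (from S3444 with `g = 𝟙`).
* `isLocallyConstructible_setOf_isGeomUnibranch_spec`: for `B` Noetherian with `normRed B` finite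
  over `red B`, the geometrically unibranch locus of `Spec B` is locally constructible.
-/

set_option autoImplicit false
set_option linter.style.haveILetI false
set_option backward.isDefEq.respectTransparency false

universe u

namespace Groth.Agent.Lib.helper9.NormRedLoc

open AlgebraicGeometry CategoryTheory Limits Groth.Agent.Lib.Helper14.GUBirat

theorem universallyInjective_iff_isRadicialAt_of_subsingleton {P T : Scheme.{u}} (p : P ⟶ T)
    [Subsingleton T] (t : T) : UniversallyInjective p ↔ RadPt.IsRadicialAt p t := by
  have h02 : UniversallyInjective p ↔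
      (Function.Injective p ∧ ∀ x, (p.residueFieldMap x).hom.IsPurelyInseparable) :=
    (tfae_universallyInjective p).out 0 2
  rw [h02]
  constructor
  · rintro ⟨hinj, hpi⟩
    exact ⟨fun x x' hx hx' => hinj (hx.trans hx'.symm), fun x _ => hpi x⟩
  · rintro ⟨h1, h2⟩
    exact ⟨fun x x' _ => h1 x x' (Subsingleton.elim _ _) (Subsingleton.elim _ _),
      fun x => h2 x (Subsingleton.elim _ _)⟩

theorem isLocallyConstructible_setOf_isRadicialAt {X Y : Scheme.{u}} (f : X ⟶ Y)
    [LocallyOfFinitePresentation f] [QuasiCompact f] [QuasiSeparated f] :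
    Topology.IsLocallyConstructible {y : Y | RadPt.IsRadicialAt f y} := by
  have h := Groth.Agent.S3444.result f (𝟙 Y)
  have key : ∀ s : Y, UniversallyInjective (pullback.lift
      (pullback.fst (f ≫ 𝟙 Y) (Y.fromSpecResidueField s) ≫ f)
      (pullback.snd (f ≫ 𝟙 Y) (Y.fromSpecResidueField s))
      ((Category.assoc _ _ _).trans pullback.condition) :
        pullback (f ≫ 𝟙 Y) (Y.fromSpecResidueField s) ⟶ pullback (𝟙 Y) (Y.fromSpecResidueField s)) ↔
      RadPt.IsRadicialAt f s := by
    intro s
    haveI : Subsingleton ↥(Spec (Y.residueField s)) :=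
      inferInstanceAs (Subsingleton (PrimeSpectrum (Y.residueField s)))
    let t : ↥(Spec (Y.residueField s)) := IsLocalRing.closedPoint _
    have hcomp : pullback.lift
        (pullback.fst (f ≫ 𝟙 Y) (Y.fromSpecResidueField s) ≫ f)
        (pullback.snd (f ≫ 𝟙 Y) (Y.fromSpecResidueField s))
        ((Category.assoc _ _ _).trans pullback.condition) ≫
          pullback.snd (𝟙 Y) (Y.fromSpecResidueField s) =
        pullback.snd (f ≫ 𝟙 Y) (Y.fromSpecResidueField s) := pullback.lift_snd _ _ _
    rw [← MorphismProperty.cancel_right_of_respectsIso (P := @UniversallyInjective) _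
      (pullback.snd (𝟙 Y) (Y.fromSpecResidueField s)), hcomp,
      universallyInjective_iff_isRadicialAt_of_subsingleton _ t,
      ← Groth.Agent.Lib.Helper14.RadPtBC.isRadicialAt_iff_of_isPullback
        (IsPullback.of_hasPullback (f ≫ 𝟙 Y) (Y.fromSpecResidueField s)) t,
      Scheme.fromSpecResidueField_apply, Category.comp_id]
  have hset : {s : Y | UniversallyInjective (pullback.lift
      (pullback.fst (f ≫ 𝟙 Y) (Y.fromSpecResidueField s) ≫ f)
      (pullback.snd (f ≫ 𝟙 Y) (Y.fromSpecResidueField s))
      ((Category.assoc _ _ _).trans pullback.condition) :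
        pullback (f ≫ 𝟙 Y) (Y.fromSpecResidueField s) ⟶
          pullback (𝟙 Y) (Y.fromSpecResidueField s))} = {y : Y | RadPt.IsRadicialAt f y} :=
    Set.ext key
  rw [← hset]
  exact h

theorem isLocallyConstructible_setOf_isGeomUnibranch_spec (B : Type u) [CommRing B]
    [IsNoetherianRing B] (hfin : Module.Finite (CAlg2.red B) (CAlg2.normRed B)) :
    Topology.IsLocallyConstructible {y : Spec (CommRingCat.of B) |
      CAlg2.IsGeomUnibranch ((Spec (CommRingCat.of B)).presheaf.stalk y)} := by
  have hmin : (minimalPrimes (CAlg2.red B)).Finite := minimalPrimes.finite_of_isNoetherianRing _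
  obtain ⟨f, hf⟩ : ∃ f, f = Spec.map (CommRingCat.ofHom (toNorm B)) := ⟨_, rfl⟩
  haveI : IsIntegralHom f := by
    rw [hf, IsIntegralHom.SpecMap_iff]
    exact toNorm_isIntegral B
  have hb : RadPt.IsBirational f := hf ▸ isBirational_toNorm B hmin
  have hset : {y : Spec (CommRingCat.of B) |
      CAlg2.IsGeomUnibranch ((Spec (CommRingCat.of B)).presheaf.stalk y)} =
        {y | RadPt.IsRadicialAt f y} := by
    ext y
    rw [Set.mem_ofPred_eq, Set.mem_ofPred_eq, isGeomUnibranch_iff_of_integral_birational f hb y]
    exact ⟨fun h => h.1, fun h => ⟨h, fun x _ =>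
      isGeomUnibranch_stalk_spec_nrm (CAlg2.red B) hmin x⟩⟩
  rw [hset]
  have hfinite : (toNorm B).Finite := by
    refine RingHom.Finite.comp (f := Ideal.Quotient.mk (nilradical B))
      (g := algebraMap (CAlg2.red B) (CAlg2.normRed B)) ?_
      (RingHom.Finite.of_surjective _ Ideal.Quotient.mk_surjective)
    exact RingHom.finite_algebraMap.2 hfin
  have hfp : (toNorm B).FinitePresentation :=
    RingHom.FinitePresentation.of_finiteType.1 (RingHom.FiniteType.of_finite hfinite)
  haveI : LocallyOfFinitePresentation f := by
    rw [hf, HasRingHomProperty.Spec_iff (P := @LocallyOfFinitePresentation)]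
    exact hfp
  haveI : IsAffineHom f := by rw [hf]; infer_instance
  exact isLocallyConstructible_setOf_isRadicialAt f

end Groth.Agent.Lib.helper9.NormRedLoc
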