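import Mathlib
import Groth.Agent.Lib.Helper24.SmoothNormal

/-!
# helper9: smoothness of an integral closure from a smooth birational integral model

* `isIntegrallyClosed_of_smooth_field`: a domain smooth over a field is integrally closed.
* `smooth_integralClosure_of_birational`: `R'` a domain over a field `E`, `L'` its fraction field,
  `C` a domain smooth over `E` with an injective integral birational map `R' → C`: then the integral
  closure of `R'` in `L'` is isomorphic to `C`, hence smooth over `E`.
-/

set_option autoImplicit false
set_option linter.style.haveILetI false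
universe u

namespace Groth.Agent.Lib.helper9.PINorm

theorem isIntegrallyClosed_of_smooth_field (E C : Type u) [Field E] [CommRing C] [IsDomain C]
    [Algebra E C] [Algebra.Smooth E C] : IsIntegrallyClosed C := by
  refine IsIntegrallyClosed.of_localization_maximal fun q _ _ => ?_
  have hcomap : q.comap (algebraMap E C) = ⊥ := by
    ext x
    simp only [Ideal.mem_comap, Ideal.mem_bot]
    constructor
    · intro hx
      by_contra hne
      have hu : IsUnit (algebraMap E C x) := (isUnit_iff_ne_zero.mpr hne).map _
      exact (inferInstance : q.IsPrime).ne_top (Ideal.eq_top_of_isUnit_mem _ hx hu)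
    · rintro rfl
      simp
  have h1 : IsDomain (Localization.AtPrime (q.comap (algebraMap E C))) := inferInstance
  have h2 : IsIntegrallyClosed (Localization.AtPrime (q.comap (algebraMap E C))) := by
    haveI : (q.comap (algebraMap E C)).IsPrime := inferInstance
    have hfield : IsField (Localization.AtPrime (q.comap (algebraMap E C))) := by
      have e := IsLocalization.atUnits E (q.comap (algebraMap E C)).primeCompl
        (S := Localization.AtPrime (q.comap (algebraMap E C))) (by
          intro x hx
          have : x ≠ 0 := by
            rintro rfl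
            exact hx (Ideal.zero_mem _)
          exact isUnit_iff_ne_zero.mpr this)
      exact e.symm.toMulEquiv.isField (Field.toIsField E)
    letI := hfield.toField
    infer_instance
  exact (Groth.Agent.Lib.Helper24.SmoothNormal.isDomain_isIntegrallyClosed_atPrime_of_smooth E C q
    h1 h2).2

theorem smooth_integralClosure_of_birational {E : Type u} [Field E] {R' : Type u} [CommRing R']
    [IsDomain R'] [Algebra E R'] {L' : Type u} [CommRing L'] [Algebra R' L'] [IsFractionRing R' L']
    [Algebra E L'] [IsScalarTower E R' L']
    {C : Type u} [CommRing C] [IsDomain C] [Algebra E C] [Algebra.Smooth E C] [Algebra R' C]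
    [IsScalarTower E R' C] (hinj : Function.Injective (algebraMap R' C))
    [Algebra.IsIntegral R' C]
    (hbir : ∀ c : C, ∃ u v : R', v ≠ 0 ∧ c * algebraMap R' C v = algebraMap R' C u) :
    Algebra.Smooth E (integralClosure R' L') := by
  haveI : IsIntegrallyClosed C := isIntegrallyClosed_of_smooth_field E C
  let F := FractionRing C
  haveI : IsScalarTower R' C F := inferInstance
  have hinjF : Function.Injective (algebraMap R' F) := by
    rw [IsScalarTower.algebraMap_eq R' C F]
    exact (IsFractionRing.injective C F).comp hinj
  haveI : IsFractionRing R' F := by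
    refine ⟨?_, ?_, ?_⟩
    · rintro ⟨y, hy⟩
      have hy0 : y ≠ 0 := nonZeroDivisors.ne_zero hy
      exact isUnit_iff_ne_zero.mpr (fun h => hy0 (hinjF (h.trans (map_zero _).symm)))
    · intro z
      obtain ⟨c₁, c₂, hc₂, rfl⟩ := IsFractionRing.div_surjective (A := C) z
      obtain ⟨u₁, v₁, hv₁, h₁⟩ := hbir c₁
      obtain ⟨u₂, v₂, hv₂, h₂⟩ := hbir c₂
      have hc₂0 : c₂ ≠ 0 := nonZeroDivisors.ne_zero hc₂
      have hu₂ : u₂ ≠ 0 := by
        rintro rfl
        rw [map_zero] at h₂
        rcases mul_eq_zero.mp h₂ with h | h
        · exact hc₂0 h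
        · exact hv₂ (hinj (h.trans (map_zero _).symm))
      refine ⟨(u₁ * v₂, ⟨u₂ * v₁, mem_nonZeroDivisors_of_ne_zero (mul_ne_zero hu₂ hv₁)⟩), ?_⟩
      have hc₂F : algebraMap C F c₂ ≠ 0 := fun h =>
        hc₂0 ((IsFractionRing.injective C F) (h.trans (map_zero _).symm))
      simp only [IsScalarTower.algebraMap_apply R' C F, map_mul]
      rw [← h₁, ← h₂]
      simp only [map_mul]
      rw [div_mul_eq_mul_div, div_eq_iff hc₂F]
      ring
    · intro x y hxy
      exact ⟨1, by simpa using hinjF hxy⟩
  let e : F ≃ₐ[R'] L' := IsLocalization.algEquiv (nonZeroDivisors R') F L'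
  -- `C` is the integral closure of `R'` in `F`
  haveI : IsIntegralClosure C R' F := by
    refine ⟨IsFractionRing.injective C F, ?_⟩
    intro x
    constructor
    · intro hx
      have hx' : IsIntegral C x := hx.tower_top
      exact IsIntegrallyClosed.isIntegral_iff.mp hx'
    · rintro ⟨y, rfl⟩
      exact (Algebra.IsIntegral.isIntegral (R := R') y).map (IsScalarTower.toAlgHom R' C F)
  let e₁ : C ≃ₐ[R'] integralClosure R' F := IsIntegralClosure.equiv R' C F (integralClosure R' F)
  let e₂ : integralClosure R' F ≃ₐ[R'] integralClosure R' L' := e.mapIntegralClosure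
  let e₃ : C ≃ₐ[E] integralClosure R' L' := (e₁.trans e₂).restrictScalars E
  exact Algebra.Smooth.of_equiv e₃

end Groth.Agent.Lib.helper9.PINorm
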