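import Mathlib

/-!
# helper9: two small lemmas on tensor products used for descending along a directed union of fields

* `exists_finset_mem_range`: every element of `P ⊗[R] M` comes from `E ⊗[R] M` as soon as the
  image of `E → P` contains a certain finite subset of `P`.
* `subalgebra_eq_top_of_tmul_mem`: a subalgebra of `E ⊗[R] B` over `E` containing `1 ⊗ β` for
  a family of algebra generators `β` of `B` over `R` is everything.
-/

set_option autoImplicit false
set_option linter.style.haveILetI false
universe u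

namespace Groth.Agent.Lib.helper9.PINorm

open TensorProduct

theorem exists_finset_mem_range {R P M : Type u} [CommRing R] [CommRing P] [Algebra R P]
    [AddCommGroup M] [Module R M] (z : P ⊗[R] M) :
    ∃ S : Finset P, ∀ (E : Type u) [CommRing E] [Algebra R E] [Algebra E P] [IsScalarTower R E P],
      (↑S : Set P) ⊆ Set.range (algebraMap E P) →
      z ∈ LinearMap.range (LinearMap.rTensor M (IsScalarTower.toAlgHom R E P).toLinearMap) := by
  classical
  induction z using TensorProduct.induction_on with
  | zero => exact ⟨∅, fun E _ _ _ _ _ => Submodule.zero_mem _⟩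
  | tmul p m =>
    refine ⟨{p}, fun E _ _ _ _ hS => ?_⟩
    obtain ⟨e, he⟩ := hS (by simp : p ∈ (↑({p} : Finset P) : Set P))
    refine ⟨e ⊗ₜ m, ?_⟩
    simp [he]
  | add x y hx hy =>
    obtain ⟨Sx, hSx⟩ := hx
    obtain ⟨Sy, hSy⟩ := hy
    refine ⟨Sx ∪ Sy, fun E _ _ _ _ hS => ?_⟩
    refine Submodule.add_mem _ (hSx E ?_) (hSy E ?_)
    · exact fun p hp => hS (by simp only [Finset.coe_union]; exact Or.inl hp)
    · exact fun p hp => hS (by simp only [Finset.coe_union]; exact Or.inr hp)

theorem subalgebra_eq_top_of_tmul_mem {R E B : Type u} [CommRing R] [CommRing E] [Algebra R E]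
    [CommRing B] [Algebra R B] (H : Set B) (hH : Algebra.adjoin R H = ⊤)
    (Q : Subalgebra E (E ⊗[R] B)) (hQ : ∀ β ∈ H, (1 : E) ⊗ₜ[R] β ∈ Q) : Q = ⊤ := by
  rw [eq_top_iff]
  rintro z -
  have h1 : ∀ b : B, (1 : E) ⊗ₜ[R] b ∈ Q := by
    intro b
    have hb : b ∈ Algebra.adjoin R H := hH ▸ Algebra.mem_top
    induction hb using Algebra.adjoin_induction with
    | mem x hx => exact hQ x hx
    | algebraMap r =>
      have : (1 : E) ⊗ₜ[R] (algebraMap R B r) = algebraMap E (E ⊗[R] B) (algebraMap R E r) := by
        rw [Algebra.TensorProduct.algebraMap_apply, Algebra.algebraMap_eq_smul_one,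
          ← TensorProduct.smul_tmul, ← Algebra.algebraMap_eq_smul_one]
        rfl
      rw [this]
      exact Q.algebraMap_mem _
    | add x y _ _ hx hy =>
      rw [TensorProduct.tmul_add]
      exact Q.add_mem hx hy
    | mul x y _ _ hx hy =>
      have : (1 : E) ⊗ₜ[R] (x * y) = ((1 : E) ⊗ₜ[R] x) * ((1 : E) ⊗ₜ[R] y) := by
        rw [Algebra.TensorProduct.tmul_mul_tmul, one_mul]
      rw [this]
      exact Q.mul_mem hx hy
  induction z using TensorProduct.induction_on with
  | zero => exact Q.zero_mem
  | tmul e b =>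
    have : e ⊗ₜ[R] b = e • ((1 : E) ⊗ₜ[R] b) := by
      rw [TensorProduct.smul_tmul', smul_eq_mul, mul_one]
    rw [this]
    exact Q.smul_mem (h1 b) e
  | add x y hx hy => exact Q.add_mem hx hy

end Groth.Agent.Lib.helper9.PINorm
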