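import Mathlib
import Groth.Agent.Lib.Helper9.PINorm1
import Groth.Agent.Lib.Helper9.PINorm2

/-!
# helper9: descent of the smooth normalization from an algebraic extension `P/k` to every
sufficiently large intermediate field (ring level core)
-/

set_option autoImplicit false
set_option linter.style.haveILetI false
universe u

namespace Groth.Agent.Lib.helper9.PINorm

open TensorProduct

/-- The conclusion for the field `E`: for every reduced quotient `R'` of `E ⊗ A` (a domain) with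
fraction field `L'`, the integral closure of `R'` in `L'` is smooth over `E`. -/
def Good (k A E : Type u) [Field k] [CommRing A] [Algebra k A] [Field E] [Algebra k E] : Prop :=
  ∀ (R' : Type u) [CommRing R'] [IsDomain R'] [Algebra E R'] (π : E ⊗[k] A →ₐ[E] R'),
    Function.Surjective π → (∀ x, π x = 0 ↔ IsNilpotent x) →
    ∀ (L' : Type u) [CommRing L'] [Algebra R' L'] [IsFractionRing R' L'] [Algebra E L']
      [IsScalarTower E R' L'], Algebra.Smooth E (integralClosure R' L')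

variable {k P : Type u} [Field k] [Field P] [Algebra k P]
  {A : Type u} [CommRing A] [Algebra k A] [Algebra.FiniteType k A]
  {E₁ : Type u} [CommRing E₁] [Algebra E₁ P]
  {B₁ : Type u} [CommRing B₁] [Algebra E₁ B₁] [Algebra.Smooth E₁ B₁]

theorem descent_core [IsDomain (P ⊗[E₁] B₁)]
    (ψ : P ⊗[k] A →ₐ[P] P ⊗[E₁] B₁) (hint : ψ.toRingHom.IsIntegral)
    (hker : ∀ x, ψ x = 0 → IsNilpotent x)
    (hbir : ∀ b : P ⊗[E₁] B₁, ∃ u v : P ⊗[k] A, ψ v ≠ 0 ∧ b * ψ v = ψ u) :
    ∃ S₀ : Finset P, ∀ (E : Type u) [Field E] [Algebra k E] [Algebra E₁ E] [Algebra E P]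
      [IsScalarTower k E P] [IsScalarTower E₁ E P],
      (↑S₀ : Set P) ⊆ Set.range (algebraMap E P) → Good k A E := by
  classical
  obtain ⟨G, hG⟩ := (inferInstance : Algebra.FiniteType k A).out
  haveI : Algebra.FinitePresentation E₁ B₁ := Algebra.Smooth.finitePresentation
  haveI : Algebra.FiniteType E₁ B₁ := inferInstance
  obtain ⟨H, hH⟩ := (inferInstance : Algebra.FiniteType E₁ B₁).out
  have hβ : ∀ β : B₁, ∃ p : Polynomial (P ⊗[k] A), p.Monic ∧
      Polynomial.eval₂ ψ.toRingHom ((1 : P) ⊗ₜ[E₁] β) p = 0 := fun β => hint _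
  choose pβ hpβm hpβ0 using hβ
  have hb : ∀ β : B₁, ∃ u v : P ⊗[k] A, ψ v ≠ 0 ∧ ((1 : P) ⊗ₜ[E₁] β) * ψ v = ψ u :=
    fun β => hbir _
  choose uβ vβ hvβ huvβ using hb
  choose SA hSA using fun z : P ⊗[k] A => exists_finset_mem_range z
  choose SB hSB using fun z : P ⊗[E₁] B₁ => exists_finset_mem_range z
  refine ⟨(G.biUnion fun g => SB (ψ ((1 : P) ⊗ₜ[k] g))) ∪
    (H.biUnion fun β => ((pβ β).support.biUnion fun i => SA ((pβ β).coeff i)) ∪
      SA (uβ β) ∪ SA (vβ β)), ?_⟩
  intro E _ _ _ _ _ _ hS R' _ _ _ π hπ hπker L' _ _ _ _ _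
  -- the comparison maps
  let jE : E ⊗[E₁] B₁ →ₐ[E] P ⊗[E₁] B₁ :=
    Algebra.TensorProduct.map (Algebra.ofId E P) (AlgHom.id E₁ B₁)
  let jA : E ⊗[k] A →ₐ[E] P ⊗[k] A :=
    Algebra.TensorProduct.map (Algebra.ofId E P) (AlgHom.id k A)
  have hjE_eq : ∀ x, jE x =
      LinearMap.rTensor B₁ (IsScalarTower.toAlgHom E₁ E P).toLinearMap x := by
    intro x
    induction x using TensorProduct.induction_on with
    | zero => simp
    | tmul e b => simp [jE]
    | add x y hx hy => rw [map_add, map_add, hx, hy]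
  have hjA_eq : ∀ x, jA x =
      LinearMap.rTensor A (IsScalarTower.toAlgHom k E P).toLinearMap x := by
    intro x
    induction x using TensorProduct.induction_on with
    | zero => simp
    | tmul e b => simp [jA]
    | add x y hx hy => rw [map_add, map_add, hx, hy]
  haveI : Module.Flat E₁ B₁ := Algebra.Smooth.flat E₁ B₁
  have hjE : Function.Injective jE := by
    have h1 := Module.Flat.rTensor_preserves_injective_linearMap (M := B₁)
      (IsScalarTower.toAlgHom E₁ E P).toLinearMap (algebraMap E P).injective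
    intro x y hxy
    apply h1
    rw [← hjE_eq, ← hjE_eq]
    exact hxy
  have hjA : Function.Injective jA := by
    have h1 := Module.Flat.rTensor_preserves_injective_linearMap (M := A)
      (IsScalarTower.toAlgHom k E P).toLinearMap (algebraMap E P).injective
    intro x y hxy
    apply h1
    rw [← hjA_eq, ← hjA_eq]
    exact hxy
  have hrangeA : ∀ z : P ⊗[k] A, (↑(SA z) : Set P) ⊆ Set.range (algebraMap E P) →
      ∃ z' : E ⊗[k] A, jA z' = z := by
    intro z hz
    obtain ⟨z', hz'⟩ := hSA z E hz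
    exact ⟨z', (hjA_eq z').trans hz'⟩
  have hrangeB : ∀ z : P ⊗[E₁] B₁, (↑(SB z) : Set P) ⊆ Set.range (algebraMap E P) →
      ∃ z' : E ⊗[E₁] B₁, jE z' = z := by
    intro z hz
    obtain ⟨z', hz'⟩ := hSB z E hz
    exact ⟨z', (hjE_eq z').trans hz'⟩
  haveI : IsDomain (E ⊗[E₁] B₁) := hjE.isDomain jE.toRingHom
  -- `ψ` restricted to `E ⊗ A`
  let ψE : E ⊗[k] A →ₐ[E] P ⊗[E₁] B₁ := (ψ.restrictScalars E).comp jA
  have hψE_range : ∀ x : E ⊗[k] A, ψE x ∈ jE.range := by
    have h1 : ∀ a : A, ψE ((1 : E) ⊗ₜ[k] a) ∈ jE.range := by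
      intro a
      have ha : a ∈ Algebra.adjoin k (G : Set A) := hG ▸ Algebra.mem_top
      induction ha using Algebra.adjoin_induction with
      | mem g hg =>
        have h2 : (↑(SB (ψ ((1 : P) ⊗ₜ[k] g))) : Set P) ⊆ Set.range (algebraMap E P) := by
          refine subset_trans ?_ hS
          intro p hp
          simp only [Finset.coe_union, Finset.coe_biUnion, Set.mem_union, Set.mem_iUnion]
          exact Or.inl ⟨g, hg, hp⟩
        obtain ⟨z', hz'⟩ := hrangeB _ h2
        refine ⟨z', ?_⟩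
        change jE z' = ψ (jA ((1 : E) ⊗ₜ[k] g))
        rw [hz']
        simp [jA]
      | algebraMap r =>
        have : (1 : E) ⊗ₜ[k] (algebraMap k A r) = algebraMap E (E ⊗[k] A) (algebraMap k E r) := by
          rw [Algebra.TensorProduct.algebraMap_apply, Algebra.algebraMap_eq_smul_one,
            ← TensorProduct.smul_tmul, ← Algebra.algebraMap_eq_smul_one]
          rfl
        rw [this, AlgHom.commutes]
        exact jE.range.algebraMap_mem _
      | add x y _ _ hx hy =>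
        rw [TensorProduct.tmul_add, map_add]
        exact jE.range.add_mem hx hy
      | mul x y _ _ hx hy =>
        have : (1 : E) ⊗ₜ[k] (x * y) = ((1 : E) ⊗ₜ[k] x) * ((1 : E) ⊗ₜ[k] y) := by
          rw [Algebra.TensorProduct.tmul_mul_tmul, one_mul]
        rw [this, map_mul]
        exact jE.range.mul_mem hx hy
    intro x
    induction x using TensorProduct.induction_on with
    | zero => rw [map_zero]; exact jE.range.zero_mem
    | tmul e a =>
      have : e ⊗ₜ[k] a = e • ((1 : E) ⊗ₜ[k] a) := by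
        rw [TensorProduct.smul_tmul', smul_eq_mul, mul_one]
      rw [this, map_smul]
      exact jE.range.smul_mem (h1 a) e
    | add x y hx hy => rw [map_add]; exact jE.range.add_mem hx hy
  let eE : (E ⊗[E₁] B₁) ≃ₐ[E] jE.range := AlgEquiv.ofInjective jE hjE
  let θ : E ⊗[k] A →ₐ[E] E ⊗[E₁] B₁ := eE.symm.toAlgHom.comp (ψE.codRestrict jE.range hψE_range)
  have hθ : ∀ x, jE (θ x) = ψ (jA x) := by
    intro x
    have h2 : eE (θ x) = ψE.codRestrict jE.range hψE_range x := eE.apply_symm_apply _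
    have h1 : (eE (θ x) : P ⊗[E₁] B₁) = jE (θ x) := rfl
    rw [← h1, h2]
    rfl
  have hθker : ∀ x, θ x = 0 ↔ IsNilpotent x := by
    intro x
    constructor
    · intro hx
      have h1 : ψ (jA x) = 0 := by rw [← hθ, hx, map_zero]
      obtain ⟨n, hn⟩ := hker _ h1
      refine ⟨n, hjA ?_⟩
      rw [map_pow, hn, map_zero]
    · intro hx
      exact (hx.map θ).eq_zero
  -- the algebra structure `R' → E ⊗ B₁`
  have hle : RingHom.ker π.toRingHom ≤ RingHom.ker θ.toRingHom := by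
    intro x hx
    rw [RingHom.mem_ker] at hx ⊢
    exact (hθker x).mpr ((hπker x).mp hx)
  let ρ : R' →+* E ⊗[E₁] B₁ := RingHom.liftOfSurjective π.toRingHom hπ ⟨θ.toRingHom, hle⟩
  have hρ : ∀ x, ρ (π x) = θ x := fun x =>
    RingHom.liftOfSurjective_comp_apply π.toRingHom hπ ⟨θ.toRingHom, hle⟩ x
  letI : Algebra R' (E ⊗[E₁] B₁) := ρ.toAlgebra
  have hρalg : ∀ r, algebraMap R' (E ⊗[E₁] B₁) r = ρ r := fun _ => rfl
  haveI : IsScalarTower E R' (E ⊗[E₁] B₁) := by
    refine IsScalarTower.of_algebraMap_eq fun e => ?_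
    rw [hρalg, ← AlgHom.commutes π, hρ, AlgHom.commutes]
  have hinj : Function.Injective (algebraMap R' (E ⊗[E₁] B₁)) := by
    rw [injective_iff_map_eq_zero]
    intro r hr
    obtain ⟨x, rfl⟩ := hπ r
    rw [hρalg, hρ] at hr
    exact (hπker x).mpr ((hθker x).mp hr)
  -- the generators `1 ⊗ β`
  have hcoef : ∀ β ∈ H, ∀ i, ∃ c' : E ⊗[k] A, jA c' = (pβ β).coeff i := by
    intro β hβ i
    by_cases hi : i ∈ (pβ β).support
    · refine hrangeA _ (subset_trans ?_ hS)
      intro p hp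
      simp only [Finset.coe_union, Finset.coe_biUnion, Set.mem_union, Set.mem_iUnion]
      exact Or.inr ⟨β, hβ, Or.inl (Or.inl ⟨i, hi, hp⟩)⟩
    · exact ⟨0, by rw [map_zero, Polynomial.notMem_support_iff.mp hi]⟩
  haveI : Nontrivial (P ⊗[k] A) := ψ.toRingHom.domain_nontrivial
  have hgen_int : ∀ β ∈ H, IsIntegral R' ((1 : E) ⊗ₜ[E₁] β : E ⊗[E₁] B₁) := by
    intro β hβ
    have hl : pβ β ∈ Polynomial.lifts jA.toRingHom := by
      rw [Polynomial.lifts_iff_coeff_lifts]
      intro i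
      obtain ⟨c', hc'⟩ := hcoef β hβ i
      exact ⟨c', hc'⟩
    obtain ⟨q, hq, -, hqm⟩ := Polynomial.lifts_and_degree_eq_and_monic hl (hpβm β)
    refine ⟨q.map π.toRingHom, hqm.map _, ?_⟩
    rw [Polynomial.eval₂_map]
    have h1 : (algebraMap R' (E ⊗[E₁] B₁)).comp π.toRingHom = θ.toRingHom :=
      RingHom.ext fun x => hρ x
    rw [h1]
    apply hjE
    rw [map_zero]
    have h2 : jE (Polynomial.eval₂ θ.toRingHom ((1 : E) ⊗ₜ[E₁] β) q) =
        Polynomial.eval₂ (jE.toRingHom.comp θ.toRingHom) (jE ((1 : E) ⊗ₜ[E₁] β)) q :=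
      Polynomial.hom_eval₂ q θ.toRingHom jE.toRingHom _
    rw [h2]
    have h3 : jE.toRingHom.comp θ.toRingHom = ψ.toRingHom.comp jA.toRingHom :=
      RingHom.ext fun x => hθ x
    have h4 : jE ((1 : E) ⊗ₜ[E₁] β) = (1 : P) ⊗ₜ[E₁] β := by simp [jE]
    rw [h3, h4, ← Polynomial.eval₂_map, hq]
    exact hpβ0 β
  haveI : Algebra.IsIntegral R' (E ⊗[E₁] B₁) := by
    have h1 := subalgebra_eq_top_of_tmul_mem (R := E₁) (E := E) (B := B₁) (H : Set B₁) hH
      ((integralClosure R' (E ⊗[E₁] B₁)).restrictScalars E) (fun β hβ => hgen_int β hβ)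
    refine ⟨fun c => ?_⟩
    have : c ∈ (integralClosure R' (E ⊗[E₁] B₁)).restrictScalars E := h1 ▸ Algebra.mem_top
    exact this
  -- birationality
  let Q : Subalgebra E (E ⊗[E₁] B₁) :=
    { carrier := {c | ∃ u v : R', v ≠ 0 ∧ c * ρ v = ρ u}
      mul_mem' := by
        rintro c₁ c₂ ⟨u₁, v₁, hv₁, h₁⟩ ⟨u₂, v₂, hv₂, h₂⟩
        refine ⟨u₁ * u₂, v₁ * v₂, mul_ne_zero hv₁ hv₂, ?_⟩
        rw [map_mul, map_mul, ← h₁, ← h₂]
        ring
      add_mem' := by
        rintro c₁ c₂ ⟨u₁, v₁, hv₁, h₁⟩ ⟨u₂, v₂, hv₂, h₂⟩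
        refine ⟨u₁ * v₂ + u₂ * v₁, v₁ * v₂, mul_ne_zero hv₁ hv₂, ?_⟩
        rw [map_add, map_mul, map_mul, map_mul, ← h₁, ← h₂]
        ring
      algebraMap_mem' := by
        intro e
        refine ⟨algebraMap E R' e, 1, one_ne_zero, ?_⟩
        rw [map_one, mul_one, ← hρalg, ← IsScalarTower.algebraMap_apply] }
  have hQgen : ∀ β ∈ H, (1 : E) ⊗ₜ[E₁] β ∈ Q := by
    intro β hβ
    have hu : (↑(SA (uβ β)) : Set P) ⊆ Set.range (algebraMap E P) := by
      refine subset_trans ?_ hS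
      intro p hp
      simp only [Finset.coe_union, Finset.coe_biUnion, Set.mem_union, Set.mem_iUnion]
      exact Or.inr ⟨β, hβ, Or.inl (Or.inr hp)⟩
    have hv : (↑(SA (vβ β)) : Set P) ⊆ Set.range (algebraMap E P) := by
      refine subset_trans ?_ hS
      intro p hp
      simp only [Finset.coe_union, Finset.coe_biUnion, Set.mem_union, Set.mem_iUnion]
      exact Or.inr ⟨β, hβ, Or.inr hp⟩
    obtain ⟨u', hu'⟩ := hrangeA _ hu
    obtain ⟨v', hv'⟩ := hrangeA _ hv
    refine ⟨π u', π v', ?_, ?_⟩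
    · intro h0
      apply hvβ β
      have : θ v' = 0 := by rw [← hρ, h0, map_zero]
      rw [← hv', ← hθ, this, map_zero]
    · rw [hρ, hρ]
      apply hjE
      rw [map_mul, hθ, hθ, hu', hv']
      have h4 : jE ((1 : E) ⊗ₜ[E₁] β) = (1 : P) ⊗ₜ[E₁] β := by simp [jE]
      rw [h4]
      exact huvβ β
  have hQtop : Q = ⊤ := subalgebra_eq_top_of_tmul_mem (R := E₁) (E := E) (B := B₁) (H : Set B₁) hH
    Q hQgen
  have hbir' : ∀ c : E ⊗[E₁] B₁, ∃ u v : R', v ≠ 0 ∧
      c * algebraMap R' (E ⊗[E₁] B₁) v = algebraMap R' (E ⊗[E₁] B₁) u := by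
    intro c
    have : c ∈ Q := hQtop ▸ Algebra.mem_top
    exact this
  exact smooth_integralClosure_of_birational (E := E) (R' := R') (L' := L')
    (C := E ⊗[E₁] B₁) hinj hbir'

end Groth.Agent.Lib.helper9.PINorm
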