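import Mathlib
import Groth.Agent.Lib.Helper13.PIns2
import Groth.Agent.Lib.Helper13.Normal4
import Groth.Agent.Lib.Helper17.RegSmooth
import Groth.Agent.Lib.Helper19.CohenK4
import Groth.Agent.Lib.Helper24.SerreNormal4

/-!
# helper9: the normalization of the reduction of `P ⊗ A` is smooth over a perfect purely
inseparable extension `P` of `k`, for a domain `A` of finite type and of dimension `≤ 1` over `k`
-/

set_option autoImplicit false
set_option linter.style.haveILetI false
universe u

namespace Groth.Agent.Lib.helper9.PINorm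

open TensorProduct

theorem irreducibleSpace_of_surjective {X Y : Type*} [TopologicalSpace X] [TopologicalSpace Y]
    [IrreducibleSpace X] (f : X → Y) (hf : Continuous f) (hs : Function.Surjective f) :
    IrreducibleSpace Y := by
  have h1 : IsIrreducible (f '' Set.univ) := (IrreducibleSpace.isIrreducible_univ X).image f
    hf.continuousOn
  rw [Set.image_univ, hs.range_eq] at h1
  exact (irreducibleSpace_def Y).mpr h1

theorem ringKrullDim_le_of_isIntegral' {R S : Type*} [CommRing R] [CommRing S] (φ : R →+* S)
    (hφ : φ.IsIntegral) : ringKrullDim S ≤ ringKrullDim R := by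
  refine Order.krullDim_le_of_strictMono (PrimeSpectrum.comap φ) ?_
  letI := φ.toAlgebra
  haveI : Algebra.IsIntegral R S := ⟨hφ⟩
  intro p q hpq
  haveI := p.isPrime
  exact Ideal.IsIntegral.comap_lt_comap (R := R) (I := p.asIdeal) (J := q.asIdeal) hpq

theorem smooth_of_normal_dim_le_one {P B : Type u} [Field P] [PerfectField P] [CommRing B]
    [IsDomain B] [IsIntegrallyClosed B] [Algebra P B] [Algebra.FiniteType P B]
    (hdim : ringKrullDim B ≤ 1) : Algebra.Smooth P B := by
  haveI : Algebra.FinitePresentation P B := Algebra.FinitePresentation.of_finiteType.mp inferInstance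
  haveI : IsNoetherianRing B := Algebra.FiniteType.isNoetherianRing P B
  have hfs : Algebra.FormallySmooth P B := by
    rw [← Algebra.smoothLocus_eq_univ_iff]
    ext q
    simp only [Set.mem_univ, iff_true]
    change Algebra.FormallySmooth P (Localization.AtPrime q.asIdeal)
    haveI : IsIntegrallyClosed (Localization.AtPrime q.asIdeal) :=
      isIntegrallyClosed_of_isLocalization _ q.asIdeal.primeCompl
        q.asIdeal.primeCompl_le_nonZeroDivisors
    have hd : ringKrullDim (Localization.AtPrime q.asIdeal) ≤ 1 := by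
      rw [IsLocalization.AtPrime.ringKrullDim_eq_height q.asIdeal]
      exact le_trans (Ideal.height_le_ringKrullDim_of_ne_top q.isPrime.ne_top) hdim
    haveI : IsRegularLocalRing (Localization.AtPrime q.asIdeal) :=
      Groth.Agent.Lib.Helper24.SerreNormal.regular_of_normal_dim_le_one _ hd
    haveI : Algebra.FormallySmooth P
        (IsLocalRing.ResidueField (Localization.AtPrime q.asIdeal)) :=
      Groth.Agent.Lib.helper19.CohenK.formallySmooth_of_perfectField P _
    exact Groth.Agent.Lib.helper17.RegSmooth.formallySmooth_of_isRegularLocalRing P _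
  exact ⟨hfs, inferInstance⟩

theorem exists_smooth_normalization {k P : Type u} [Field k] [Field P] [Algebra k P]
    [PerfectField P] [IsPurelyInseparable k P]
    {A : Type u} [CommRing A] [IsDomain A] [Algebra k A] [Algebra.FiniteType k A]
    (hdim : ringKrullDim A ≤ 1) :
    ∃ (B : Type u) (_ : CommRing B) (_ : IsDomain B) (_ : Algebra P B) (_ : Algebra.Smooth P B)
      (ψ : P ⊗[k] A →ₐ[P] B), ψ.toRingHom.IsIntegral ∧ (∀ x, ψ x = 0 → IsNilpotent x) ∧
      ∀ b : B, ∃ u v, ψ v ≠ 0 ∧ b * ψ v = ψ u := by
  -- the nilradical of `P ⊗ A` is prime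
  have h1 := PrimeSpectrum.isHomeomorph_comap_of_isPurelyInseparable k P A
  haveI : IrreducibleSpace (PrimeSpectrum (A ⊗[k] P)) :=
    irreducibleSpace_of_surjective (h1.homeomorph _).symm (h1.homeomorph _).symm.continuous
      (h1.homeomorph _).symm.surjective
  let c : P ⊗[k] A ≃ₐ[k] A ⊗[k] P := Algebra.TensorProduct.comm k P A
  haveI : IrreducibleSpace (PrimeSpectrum (P ⊗[k] A)) := by
    refine irreducibleSpace_of_surjective (PrimeSpectrum.comap c.toRingEquiv.toRingHom)
      (PrimeSpectrum.continuous_comap c.toRingEquiv.toRingHom) ?_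
    intro x
    refine ⟨PrimeSpectrum.comap c.symm.toRingEquiv.toRingHom x, ?_⟩
    rw [← PrimeSpectrum.comap_comp_apply]
    have : c.symm.toRingEquiv.toRingHom.comp c.toRingEquiv.toRingHom = RingHom.id _ :=
      RingHom.ext fun z => by simp
    rw [this]
    rfl
  haveI hprime : (nilradical (P ⊗[k] A)).IsPrime :=
    PrimeSpectrum.irreducibleSpace_iff_isPrime_nilradical.mp inferInstance
  let R := (P ⊗[k] A) ⧸ nilradical (P ⊗[k] A)
  haveI : IsDomain R := Ideal.Quotient.isDomain _
  let L := FractionRing R
  let B := integralClosure R L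
  have hN1 : Module.Finite R B := Groth.Agent.Lib.helper13.PIns.isN1_of_finiteType_field P R
  haveI : IsIntegrallyClosed B :=
    (Groth.Agent.Lib.helper13.Normal.isNormalDomain_integralClosure_of_isField
      (A := R) (B := L) (Field.toIsField L)).2
  haveI : Algebra.FiniteType P B :=
    Algebra.FiniteType.trans (inferInstance : Algebra.FiniteType P R)
      (Module.Finite.finiteType B)
  let ψ : P ⊗[k] A →ₐ[P] B :=
    (IsScalarTower.toAlgHom P R B).comp (Ideal.Quotient.mkₐ P (nilradical (P ⊗[k] A)))
  have hψ : ∀ x, ψ x = algebraMap R B (Ideal.Quotient.mk _ x) := fun _ => rfl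
  have hinjRB : Function.Injective (algebraMap R B) := by
    intro x y hxy
    have := congrArg (algebraMap B L) hxy
    rw [← IsScalarTower.algebraMap_apply, ← IsScalarTower.algebraMap_apply] at this
    exact IsFractionRing.injective R L this
  have hψint : ψ.toRingHom.IsIntegral := by
    have h2 : ψ.toRingHom = (algebraMap R B).comp (Ideal.Quotient.mk (nilradical (P ⊗[k] A))) :=
      rfl
    rw [h2]
    refine RingHom.IsIntegral.trans _ _
      (RingHom.isIntegral_of_surjective _ Ideal.Quotient.mk_surjective) ?_
    intro b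
    exact (integralClosure.isIntegral b)
  -- dimension
  have hdimB : ringKrullDim B ≤ 1 := by
    let φ : A →+* B := ψ.toRingHom.comp
      (Algebra.TensorProduct.includeRight : A →ₐ[k] P ⊗[k] A).toRingHom
    have hφ : φ.IsIntegral := by
      refine RingHom.IsIntegral.trans _ _ ?_ hψint
      have h3 : (Algebra.TensorProduct.includeRight : A →ₐ[k] P ⊗[k] A).toRingHom =
          c.symm.toRingEquiv.toRingHom.comp (algebraMap A (A ⊗[k] P)) := by
        ext a
        simp [c]
      rw [h3]
      refine RingHom.IsIntegral.trans _ _ ?_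
        (RingHom.isIntegral_of_surjective _ c.symm.surjective)
      exact algebraMap_isIntegral_iff.mpr inferInstance
    exact le_trans (ringKrullDim_le_of_isIntegral' φ hφ) hdim
  refine ⟨B, inferInstance, inferInstance, inferInstance, smooth_of_normal_dim_le_one hdimB, ψ,
    hψint, ?_, ?_⟩
  · intro x hx
    rw [hψ, ← map_zero (algebraMap R B)] at hx
    have h4 := hinjRB hx
    rw [Ideal.Quotient.eq_zero_iff_mem] at h4
    exact h4
  · intro b
    obtain ⟨r₁, r₂, hr₂, hb⟩ := IsFractionRing.div_surjective (A := R) (b : L)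
    obtain ⟨u, rfl⟩ := Ideal.Quotient.mk_surjective r₁
    obtain ⟨v, rfl⟩ := Ideal.Quotient.mk_surjective r₂
    have hv0 : (Ideal.Quotient.mk (nilradical (P ⊗[k] A)) v) ≠ 0 := nonZeroDivisors.ne_zero hr₂
    refine ⟨u, v, ?_, ?_⟩
    · rw [hψ]
      exact fun h => hv0 (hinjRB (h.trans (map_zero _).symm))
    · rw [hψ, hψ]
      apply Subtype.ext
      have hvL : algebraMap R L (Ideal.Quotient.mk _ v) ≠ 0 := fun h =>
        hv0 (IsFractionRing.injective R L (h.trans (map_zero _).symm))
      change (b : L) * algebraMap R L (Ideal.Quotient.mk _ v) = algebraMap R L (Ideal.Quotient.mk _ u)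
      rw [← hb, div_mul_cancel₀ _ hvL]

end Groth.Agent.Lib.helper9.PINorm
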