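import Mathlib
import Groth.Agent.Lib.Helper9.PINorm3
import Groth.Agent.Lib.Helper9.PINorm4

/-!
# helper9: ring level main theorem for S12130

`A` a domain of finite type and dimension `≤ 1` over `k`, `P` a perfect purely inseparable
extension of `k`: for every intermediate field `F` containing a certain finite subset of `P`,
the normalization of the reduction of `F ⊗ A` is smooth over `F`.
-/

set_option autoImplicit false
set_option linter.style.haveILetI false
universe u

namespace Groth.Agent.Lib.helper9.PINorm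

open TensorProduct

theorem exists_good {k P : Type u} [Field k] [Field P] [Algebra k P] [PerfectField P]
    [IsPurelyInseparable k P]
    {A : Type u} [CommRing A] [IsDomain A] [Algebra k A] [Algebra.FiniteType k A]
    (hdim : ringKrullDim A ≤ 1) :
    ∃ S₀ : Finset P, ∀ F : IntermediateField k P, (↑S₀ : Set P) ⊆ F → Good k A F := by
  classical
  obtain ⟨B, _, _, _, _, ψ₀, hint₀, hker₀, hbir₀⟩ :=
    exists_smooth_normalization (k := k) (P := P) (A := A) hdim
  obtain ⟨A₀, B₀, _, _, hfg, hsm, ⟨e⟩⟩ := Algebra.Smooth.exists_subalgebra_fg k P B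
  haveI := hsm
  haveI : IsDomain (P ⊗[↥A₀] B₀) := e.symm.injective.isDomain e.symm.toRingHom
  let ψ : P ⊗[k] A →ₐ[P] P ⊗[↥A₀] B₀ := e.toAlgHom.comp ψ₀
  have hψ : ∀ x, ψ x = e (ψ₀ x) := fun _ => rfl
  have hint : ψ.toRingHom.IsIntegral := by
    have : ψ.toRingHom = e.toRingEquiv.toRingHom.comp ψ₀.toRingHom := rfl
    rw [this]
    exact RingHom.IsIntegral.trans _ _ hint₀ (RingHom.isIntegral_of_surjective _ e.surjective)
  have hker : ∀ x, ψ x = 0 → IsNilpotent x := fun x hx =>
    hker₀ x (e.injective ((hψ x).symm.trans (hx.trans (map_zero e).symm)))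
  have hbir : ∀ b, ∃ u v, ψ v ≠ 0 ∧ b * ψ v = ψ u := by
    intro b
    obtain ⟨u, v, hv, huv⟩ := hbir₀ (e.symm b)
    refine ⟨u, v, fun h => hv (e.injective (((hψ v).symm.trans h).trans (map_zero e).symm)), ?_⟩
    rw [hψ, hψ, ← huv, map_mul, e.apply_symm_apply]
  obtain ⟨S₁, hS₁⟩ := descent_core (E₁ := ↥A₀) (B₁ := B₀) ψ hint hker hbir
  obtain ⟨g, hg⟩ := hfg
  refine ⟨S₁ ∪ g, fun F hF => ?_⟩
  have hle : ∀ x : P, x ∈ A₀ → x ∈ F := by
    intro x hx
    have h1 : A₀ ≤ F.toSubalgebra := by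
      rw [← hg]
      refine Algebra.adjoin_le fun y hy => hF ?_
      simp only [Finset.coe_union, Set.mem_union]
      exact Or.inr hy
    exact h1 hx
  let ι : ↥A₀ →+* ↥F :=
    { toFun := fun x => ⟨x.1, hle x.1 x.2⟩
      map_one' := rfl
      map_mul' := fun _ _ => rfl
      map_zero' := rfl
      map_add' := fun _ _ => rfl }
  letI : Algebra ↥A₀ ↥F := ι.toAlgebra
  haveI : IsScalarTower ↥A₀ ↥F P := IsScalarTower.of_algebraMap_eq (fun x => rfl)
  refine hS₁ ↥F ?_
  intro p hp
  refine ⟨⟨p, hF ?_⟩, rfl⟩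
  simp only [Finset.coe_union, Set.mem_union]
  exact Or.inl hp

end Groth.Agent.Lib.helper9.PINorm
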