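import Mathlib
import Groth.Agent.Lib.Helper9.PINorm4
import Groth.Agent.Lib.Helper9.PISmooth3
import Groth.Agent.Lib.Helper2.SpecResidue
import Groth.Agent.Lib.Helper13.Normal5

/-!
# helper9: scheme level generalities for S12130

* `isHomeomorph_pullback_fst`: base change along a purely inseparable field extension is a
  homeomorphism.
* `isIntegral_nilradical_subscheme`: the reduction of a scheme with irreducible underlying space is
  integral.
* `isFractionRing_sections_fromSpecStalk`: sections of the spectrum of the function field over the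
  preimage of a nonempty affine open form a fraction ring.
* `smooth_fromNormalization_comp_of_cover`: smoothness of a relative normalization over a field can
  be checked on the integral closures over a family of affine opens covering the base.
* `ringKrullDim_sections_le`.
-/

set_option autoImplicit false
set_option linter.style.haveILetI false
set_option backward.isDefEq.respectTransparency false

universe u

open CategoryTheory CategoryTheory.Limits AlgebraicGeometry TensorProduct

namespace Groth.Agent.Lib.helper9.PINorm

noncomputable section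

theorem isHomeomorph_pullback_fst (k k' : Type u) [Field k] [Field k'] [Algebra k k']
    [IsPurelyInseparable k k'] {X : Scheme.{u}} (f : X ⟶ Spec (CommRingCat.of k)) :
    IsHomeomorph (pullback.fst f (Spec.map (CommRingCat.ofHom (algebraMap k k')))) := by
  set g := Spec.map (CommRingCat.ofHom (algebraMap k k')) with hg
  haveI : Algebra.IsIntegral k k' := inferInstance
  haveI : IsIntegralHom g := by
    rw [hg, IsIntegralHom.SpecMap_iff]
    exact algebraMap_isIntegral_iff.mpr inferInstance
  haveI : UniversallyInjective g := by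
    refine ((tfae_universallyInjective _).out 0 1).mpr ?_
    intro L _ g₁ g₂ hg'
    obtain ⟨φ₁, rfl⟩ := Spec.map_surjective g₁
    obtain ⟨φ₂, rfl⟩ := Spec.map_surjective g₂
    simp only [hg, ← Spec.map_comp] at hg'
    have h := Spec.map_injective hg'
    congr 1
    ext : 1
    apply IsPurelyInseparable.injective_comp_algebraMap k k' L
    exact congrArg CommRingCat.Hom.hom h
  haveI : Surjective g := by
    haveI : Unique ↥(Spec (CommRingCat.of k)) := inferInstanceAs (Unique (PrimeSpectrum k))
    haveI : Unique ↥(Spec (CommRingCat.of k')) := inferInstanceAs (Unique (PrimeSpectrum k'))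
    exact ⟨fun x => ⟨default, Subsingleton.elim _ _⟩⟩
  exact Groth.Agent.Lib.helper2.SpecResidue.isUnivHomeo_of_integral g
    (pullback.snd f g) f (pullback.fst f g) (IsPullback.of_hasPullback f g)

theorem isIntegral_nilradical_subscheme (X : Scheme.{u}) [IrreducibleSpace X] :
    IsIntegral X.nilradical.subscheme := by
  haveI : AlgebraicGeometry.IsReduced X.nilradical.subscheme :=
    Groth.Agent.Lib.helper9.PISmooth.isReduced_nilradical_subscheme X
  have hemb : Topology.IsEmbedding X.nilradical.subschemeι :=
    (X.nilradical.subschemeι).isEmbedding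
  have hsurj := Groth.Agent.Lib.helper9.PISmooth.surjective_nilradical_subschemeι X
  let e : X.nilradical.subscheme ≃ₜ X := hemb.toHomeomorphOfSurjective hsurj
  haveI : IrreducibleSpace X.nilradical.subscheme :=
    irreducibleSpace_of_surjective e.symm e.symm.continuous e.symm.surjective
  exact isIntegral_of_irreducibleSpace_of_isReduced _

theorem isFractionRing_sections_fromSpecStalk (Z : Scheme.{u}) [IsIntegral Z] (W : Z.Opens)
    (hW : IsAffineOpen W) (hne : Nonempty W) :
    letI := ((Z.fromSpecStalk (genericPoint Z)).app W).hom.toAlgebra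
    IsFractionRing Γ(Z, W)
      Γ(Spec (Z.presheaf.stalk (genericPoint Z)), (Z.fromSpecStalk (genericPoint Z)) ⁻¹ᵁ W) := by
  set g := Z.fromSpecStalk (genericPoint Z) with hg
  letI := (g.app W).hom.toAlgebra
  have hη : genericPoint Z ∈ W :=
    ((genericPoint_spec Z).mem_open_set_iff W.isOpen).mpr (by simpa using hne)
  haveI := functionField_isFractionRing_of_isAffineOpen Z W hW
  haveI : Unique ↥(Spec Z.functionField) :=
    inferInstanceAs (Unique (PrimeSpectrum Z.functionField))
  have htop : g ⁻¹ᵁ W = ⊤ := by
    ext p
    simp only [TopologicalSpace.Opens.coe_top, Set.mem_univ, iff_true]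
    have hp : p = IsLocalRing.closedPoint _ := Subsingleton.elim _ _
    show g p ∈ W
    rw [hp, hg, Scheme.fromSpecStalk_closedPoint]
    exact hη
  have hiso : IsIso ((Spec Z.functionField).presheaf.map
      (homOfLE (le_top : g ⁻¹ᵁ W ≤ ⊤)).op) := by
    have : (homOfLE (le_top : g ⁻¹ᵁ W ≤ ⊤)) = eqToHom htop := Subsingleton.elim _ _
    rw [this, eqToHom_op, eqToHom_map]
    infer_instance
  let ψ : Z.functionField ⟶ Γ(Spec Z.functionField, g ⁻¹ᵁ W) :=
    (Scheme.ΓSpecIso Z.functionField).inv ≫
      (Spec Z.functionField).presheaf.map (homOfLE (le_top : g ⁻¹ᵁ W ≤ ⊤)).op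
  haveI : IsIso ψ := inferInstance
  have happ : g.app W = Z.presheaf.germ W (genericPoint Z) hη ≫ ψ :=
    Scheme.fromSpecStalk_app hη
  let e : Z.functionField ≃ₐ[Γ(Z, W)] Γ(Spec Z.functionField, g ⁻¹ᵁ W) :=
    AlgEquiv.ofRingEquiv (f := (asIso ψ).commRingCatIsoToRingEquiv) (by
      intro a
      show _ = (g.app W).hom a
      rw [happ]
      rfl)
  exact IsLocalization.isLocalization_of_algEquiv (nonZeroDivisors Γ(Z, W)) e

theorem ringKrullDim_sections_le (X : Scheme.{u}) (U : X.Opens) (hU : IsAffineOpen U) :
    ringKrullDim Γ(X, U) ≤ topologicalKrullDim X := by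
  rw [← PrimeSpectrum.topologicalKrullDim_eq_ringKrullDim]
  have h1 : Topology.IsEmbedding hU.fromSpec := hU.fromSpec.isEmbedding
  exact h1.topologicalKrullDim_le

theorem smooth_fromNormalization_comp_of_cover {Y Z : Scheme.{u}} (g : Y ⟶ Z) [QuasiCompact g]
    [QuasiSeparated g] {k' : Type u} [Field k'] (t : Z ⟶ Spec (CommRingCat.of k'))
    {ι : Type*} (W : ι → Z.Opens) (hW : ∀ i, IsAffineOpen (W i)) (hcov : iSup W = ⊤)
    (H : ∀ i, letI := (g.app (W i)).hom.toAlgebra
      ((algebraMap Γ(Z, W i) (integralClosure Γ(Z, W i) Γ(Y, g ⁻¹ᵁ W i))).comp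
        ((t.appLE ⊤ (W i) le_top).hom.comp
          (Scheme.ΓSpecIso (CommRingCat.of k')).inv.hom)).Smooth) :
    Smooth (g.fromNormalization ≫ t) := by
  refine IsZariskiLocalAtSource.of_iSup_eq_top (P := @Smooth)
    (fun i => g.fromNormalization ⁻¹ᵁ W i) ?_ fun i => ?_
  · rw [← Scheme.Hom.preimage_iSup, hcov]
    rfl
  · set j := g.normalizationOpenCover.f ⟨W i, hW i⟩ with hj
    have key : ∀ (U : g.normalization.Opens), U = j.opensRange →
        Smooth (U.ι ≫ g.fromNormalization ≫ t) := by
      rintro _ rfl
      rw [← (MorphismProperty.cancel_left_of_respectsIso (P := @Smooth) j.isoOpensRange.hom),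
        ← Category.assoc, Scheme.Hom.isoOpensRange_hom_ι, hj, g.ι_fromNormalization_assoc]
      have h1 : (hW i).fromSpec ≫ t = Spec.map ((Scheme.ΓSpecIso (CommRingCat.of k')).inv ≫
          t.appLE ⊤ (W i) le_top) := by
        rw [← IsAffineOpen.SpecMap_appLE_fromSpec t (isAffineOpen_top _) (hW i) le_top,
          IsAffineOpen.fromSpec_top, Scheme.isoSpec_Spec_inv, ← Spec.map_comp]
      rw [Category.assoc, h1, ← Spec.map_comp, HasRingHomProperty.Spec_iff (P := @Smooth)]
      exact H i
    exact key _ (g.fromNormalization_preimage ⟨W i, hW i⟩)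

end

end Groth.Agent.Lib.helper9.PINorm
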