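import Mathlib
import Groth.Agent.Lib.Helper9.PINorm5
import Groth.Agent.Lib.Helper9.PINorm6

/-!
# helper9: the chart computation for S12130

For a `k`-scheme `X`, an affine open `U` of `X`, a field extension `k'/k`, and `Z` the reduction of
`X_{k'}`: the sections of `Z` over the preimage `W` of `U` are the reduction of `k' ⊗[k] Γ(X, U)`.
-/

set_option autoImplicit false
set_option linter.style.haveILetI false
set_option backward.isDefEq.respectTransparency false

universe u

open CategoryTheory CategoryTheory.Limits AlgebraicGeometry TensorProduct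

namespace Groth.Agent.Lib.helper9.PINorm

noncomputable section

variable (k k' : Type u) [Field k] [Field k'] [Algebra k k'] {X : Scheme.{u}}
  (f : X ⟶ Spec (CommRingCat.of k))

/-- the structure map `k → Γ(X, U)` -/
abbrev algA (U : X.Opens) : k →+* Γ(X, U) :=
  (f.appLE ⊤ U le_top).hom.comp (Scheme.ΓSpecIso (CommRingCat.of k)).inv.hom

theorem exists_chart_map (U : X.Opens) (hU : IsAffineOpen U) :
    letI : Algebra k Γ(X, U) := (algA k f U).toAlgebra
    letI : Algebra k' Γ((pullback f (Spec.map (CommRingCat.ofHom (algebraMap k k')))).nilradical.subscheme,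
        (pullback f (Spec.map (CommRingCat.ofHom (algebraMap k k')))).nilradical.subschemeι ⁻¹ᵁ
          ((pullback.fst f (Spec.map (CommRingCat.ofHom (algebraMap k k')))) ⁻¹ᵁ U)) :=
      (algA k' ((pullback f (Spec.map (CommRingCat.ofHom (algebraMap k k')))).nilradical.subschemeι ≫
        pullback.snd f (Spec.map (CommRingCat.ofHom (algebraMap k k')))) _).toAlgebra
    IsAffineOpen ((pullback f (Spec.map (CommRingCat.ofHom (algebraMap k k')))).nilradical.subschemeι ⁻¹ᵁ
          ((pullback.fst f (Spec.map (CommRingCat.ofHom (algebraMap k k')))) ⁻¹ᵁ U)) ∧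
    ∃ π : k' ⊗[k] Γ(X, U) →ₐ[k']
        Γ((pullback f (Spec.map (CommRingCat.ofHom (algebraMap k k')))).nilradical.subscheme,
        (pullback f (Spec.map (CommRingCat.ofHom (algebraMap k k')))).nilradical.subschemeι ⁻¹ᵁ
          ((pullback.fst f (Spec.map (CommRingCat.ofHom (algebraMap k k')))) ⁻¹ᵁ U)),
      Function.Surjective π ∧ ∀ x, π x = 0 ↔ IsNilpotent x := by
  set g := Spec.map (CommRingCat.ofHom (algebraMap k k')) with hg
  set X' := pullback f g with hX'
  set pr := pullback.fst f g with hpr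
  set q := pullback.snd f g with hq
  set ι := X'.nilradical.subschemeι with hι
  set V : X'.Opens := pr ⁻¹ᵁ U with hVdef
  haveI : IsAffineHom g := by rw [hg]; infer_instance
  haveI : IsAffineHom pr := MorphismProperty.pullback_fst (P := @IsAffineHom) f g ‹_›
  haveI : IsClosedImmersion ι := by rw [hι]; infer_instance
  have hV : IsAffineOpen V := hU.preimage pr
  have hW : IsAffineOpen (ι ⁻¹ᵁ V) := hV.preimage ι
  refine ⟨hW, ?_⟩
  -- the pushout square
  have hiso := isIso_pushoutSection_of_isAffineOpen (IsPullback.of_hasPullback f g) (US := ⊤)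
    (UT := ⊤) (UX := U) (UY := V) le_top le_top (by simp [V, pr]) (isAffineOpen_top _)
    (isAffineOpen_top _) hU
  have hpo := (isIso_pushoutSection_iff ..).mp hiso
  -- algebra structures
  letI iA : Algebra k Γ(X, U) := (algA k f U).toAlgebra
  letI iΓ' : Algebra k' Γ(X', V) := (algA k' q V).toAlgebra
  letI iAΓ' : Algebra Γ(X, U) Γ(X', V) := (pr.appLE U V le_rfl).hom.toAlgebra
  letI ikΓ' : Algebra k Γ(X', V) :=
    ((algebraMap Γ(X, U) Γ(X', V)).comp (algebraMap k Γ(X, U))).toAlgebra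
  haveI : IsScalarTower k Γ(X, U) Γ(X', V) := IsScalarTower.of_algebraMap_eq fun _ => rfl
  have hw : f.appLE ⊤ U le_top ≫ pr.appLE U V le_rfl =
      g.appLE ⊤ ⊤ le_top ≫ q.appLE ⊤ V le_top := by
    rw [Scheme.Hom.appLE_comp_appLE, Scheme.Hom.appLE_comp_appLE]
    congr 1
    exact pullback.condition
  have hgk : g.appLE ⊤ ⊤ le_top ≫ (Scheme.ΓSpecIso (CommRingCat.of k')).hom =
      (Scheme.ΓSpecIso (CommRingCat.of k)).hom ≫ CommRingCat.ofHom (algebraMap k k') := by
    have : g.appLE ⊤ ⊤ le_top = g.appTop := Scheme.Hom.appLE_eq_app g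
    rw [this, hg]
    exact Scheme.ΓSpecIso_naturality _
  have hgk' : (Scheme.ΓSpecIso (CommRingCat.of k)).inv ≫ g.appLE ⊤ ⊤ le_top =
      CommRingCat.ofHom (algebraMap k k') ≫ (Scheme.ΓSpecIso (CommRingCat.of k')).inv := by
    rw [Iso.inv_comp_eq, ← Category.assoc, Iso.eq_comp_inv]
    exact hgk
  haveI : IsScalarTower k k' Γ(X', V) := IsScalarTower.of_algebraMap_eq fun x => by
    have h1 := congrArg (fun φ => φ.hom ((Scheme.ΓSpecIso (CommRingCat.of k)).inv.hom x)) hw
    have h2 := congrArg (fun φ => φ.hom x) hgk'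
    simp only [CommRingCat.hom_comp, RingHom.comp_apply, CommRingCat.hom_ofHom] at h1 h2
    show (pr.appLE U V le_rfl).hom ((f.appLE ⊤ U le_top).hom
      ((Scheme.ΓSpecIso (CommRingCat.of k)).inv.hom x)) = (q.appLE ⊤ V le_top).hom
        ((Scheme.ΓSpecIso (CommRingCat.of k')).inv.hom (algebraMap k k' x))
    rw [h1, ← h2]
  have hpo' : IsPushout (CommRingCat.ofHom (algebraMap k k'))
      (CommRingCat.ofHom (algebraMap k Γ(X, U)))
      (CommRingCat.ofHom (algebraMap k' Γ(X', V)))
      (CommRingCat.ofHom (algebraMap Γ(X, U) Γ(X', V))) := by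
    refine hpo.flip.of_iso (Scheme.ΓSpecIso (CommRingCat.of k))
      (Scheme.ΓSpecIso (CommRingCat.of k')) (Iso.refl _) (Iso.refl _) hgk ?_ ?_ ?_
    · ext x
      simp [RingHom.algebraMap_toAlgebra, algA]
    · ext x
      simp [RingHom.algebraMap_toAlgebra, algA]
      rfl
    · ext x
      simp [RingHom.algebraMap_toAlgebra]
      rfl
  have hpush : Algebra.IsPushout k k' Γ(X, U) Γ(X', V) :=
    CommRingCat.isPushout_iff_isPushout.mp hpo'
  let e : k' ⊗[k] Γ(X, U) ≃ₐ[k'] Γ(X', V) := Algebra.IsPushout.equiv k k' Γ(X, U) Γ(X', V)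
  have hιq : (ι ≫ q).appLE ⊤ (ι ⁻¹ᵁ V) le_top = q.appLE ⊤ V le_top ≫ ι.app V := by
    rw [Scheme.Hom.app_eq_appLE, Scheme.Hom.appLE_comp_appLE]
  letI iW : Algebra k' Γ(X'.nilradical.subscheme, ι ⁻¹ᵁ V) := (algA k' (ι ≫ q) _).toAlgebra
  let ιalg : Γ(X', V) →ₐ[k'] Γ(X'.nilradical.subscheme, ι ⁻¹ᵁ V) :=
    { (ι.app V).hom with
      commutes' := fun x => by
        show (ι.app V).hom ((q.appLE ⊤ V le_top).hom
          ((Scheme.ΓSpecIso (CommRingCat.of k')).inv.hom x)) =
          ((ι ≫ q).appLE ⊤ (ι ⁻¹ᵁ V) le_top).hom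
            ((Scheme.ΓSpecIso (CommRingCat.of k')).inv.hom x)
        rw [hιq]
        rfl }
  refine ⟨ιalg.comp e.toAlgHom, ?_, ?_⟩
  · exact (X'.nilradical.subschemeι_app_surjective ⟨V, hV⟩).comp e.surjective
  · intro x
    have hker := X'.nilradical.ker_subschemeι_app ⟨V, hV⟩
    have hnil : X'.nilradical.ideal ⟨V, hV⟩ = nilradical Γ(X', V) := by
      show ((⊥ : X'.IdealSheafData).ideal ⟨V, hV⟩).radical = _
      rw [Scheme.IdealSheafData.ideal_bot]
      rfl
    show (ι.app V).hom (e x) = 0 ↔ _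
    rw [← RingHom.mem_ker, hι, hker, hnil, mem_nilradical]
    constructor
    · intro h
      have := h.map e.symm
      rwa [e.symm_apply_apply] at this
    · intro h
      exact h.map e

/-- the reduction of the base change -/
abbrev bcZ : Scheme.{u} :=
  (pullback f (Spec.map (CommRingCat.ofHom (algebraMap k k')))).nilradical.subscheme

/-- its structure morphism -/
abbrev bcT : bcZ k k' f ⟶ Spec (CommRingCat.of k') :=
  (pullback f (Spec.map (CommRingCat.ofHom (algebraMap k k')))).nilradical.subschemeι ≫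
    pullback.snd f (Spec.map (CommRingCat.ofHom (algebraMap k k')))

/-- the chart over `U` -/
abbrev bcW (U : X.Opens) : (bcZ k k' f).Opens :=
  (pullback f (Spec.map (CommRingCat.ofHom (algebraMap k k')))).nilradical.subschemeι ⁻¹ᵁ
    ((pullback.fst f (Spec.map (CommRingCat.ofHom (algebraMap k k')))) ⁻¹ᵁ U)

theorem isAffineOpen_bcW (U : X.Opens) (hU : IsAffineOpen U) : IsAffineOpen (bcW k k' f U) :=
  (exists_chart_map k k' f U hU).1

theorem smooth_chart (U : X.Opens) (hU : IsAffineOpen U)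
    (hgood : letI : Algebra k Γ(X, U) := (algA k f U).toAlgebra
      Good k Γ(X, U) k')
    [IsIntegral (bcZ k k' f)] (hne : Nonempty (bcW k k' f U)) :
    letI := (((bcZ k k' f).fromSpecStalk (genericPoint (bcZ k k' f))).app (bcW k k' f U)).hom.toAlgebra
    ((algebraMap Γ(bcZ k k' f, bcW k k' f U)
      (integralClosure Γ(bcZ k k' f, bcW k k' f U)
        Γ(Spec ((bcZ k k' f).presheaf.stalk (genericPoint (bcZ k k' f))),
          ((bcZ k k' f).fromSpecStalk (genericPoint (bcZ k k' f))) ⁻¹ᵁ (bcW k k' f U)))).comp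
      (((bcT k k' f).appLE ⊤ (bcW k k' f U) le_top).hom.comp
        (Scheme.ΓSpecIso (CommRingCat.of k')).inv.hom)).Smooth := by
  obtain ⟨hW, π, hπ, hker⟩ := exists_chart_map k k' f U hU
  letI : Algebra k Γ(X, U) := (algA k f U).toAlgebra
  letI : Algebra k' Γ(bcZ k k' f, bcW k k' f U) := (algA k' (bcT k k' f) (bcW k k' f U)).toAlgebra
  letI : Algebra Γ(bcZ k k' f, bcW k k' f U)
      Γ(Spec ((bcZ k k' f).presheaf.stalk (genericPoint (bcZ k k' f))),
          ((bcZ k k' f).fromSpecStalk (genericPoint (bcZ k k' f))) ⁻¹ᵁ (bcW k k' f U)) :=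
    (((bcZ k k' f).fromSpecStalk (genericPoint (bcZ k k' f))).app (bcW k k' f U)).hom.toAlgebra
  letI : Algebra k' Γ(Spec ((bcZ k k' f).presheaf.stalk (genericPoint (bcZ k k' f))),
          ((bcZ k k' f).fromSpecStalk (genericPoint (bcZ k k' f))) ⁻¹ᵁ (bcW k k' f U)) :=
    ((algebraMap Γ(bcZ k k' f, bcW k k' f U) _).comp
      (algebraMap k' Γ(bcZ k k' f, bcW k k' f U))).toAlgebra
  haveI : IsScalarTower k' Γ(bcZ k k' f, bcW k k' f U)
      Γ(Spec ((bcZ k k' f).presheaf.stalk (genericPoint (bcZ k k' f))),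
          ((bcZ k k' f).fromSpecStalk (genericPoint (bcZ k k' f))) ⁻¹ᵁ (bcW k k' f U)) :=
    IsScalarTower.of_algebraMap_eq fun _ => rfl
  haveI : IsDomain Γ(bcZ k k' f, bcW k k' f U) :=
    @IsIntegral.component_integral (bcZ k k' f) _ (bcW k k' f U) hne
  haveI : IsFractionRing Γ(bcZ k k' f, bcW k k' f U)
      Γ(Spec ((bcZ k k' f).presheaf.stalk (genericPoint (bcZ k k' f))),
          ((bcZ k k' f).fromSpecStalk (genericPoint (bcZ k k' f))) ⁻¹ᵁ (bcW k k' f U)) :=
    isFractionRing_sections_fromSpecStalk (bcZ k k' f) (bcW k k' f U) hW hne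
  have hsm : Algebra.Smooth k' (integralClosure Γ(bcZ k k' f, bcW k k' f U)
      Γ(Spec ((bcZ k k' f).presheaf.stalk (genericPoint (bcZ k k' f))),
          ((bcZ k k' f).fromSpecStalk (genericPoint (bcZ k k' f))) ⁻¹ᵁ (bcW k k' f U))) :=
    hgood Γ(bcZ k k' f, bcW k k' f U) π hπ hker _
  have heq : (algebraMap Γ(bcZ k k' f, bcW k k' f U)
      (integralClosure Γ(bcZ k k' f, bcW k k' f U)
        Γ(Spec ((bcZ k k' f).presheaf.stalk (genericPoint (bcZ k k' f))),
          ((bcZ k k' f).fromSpecStalk (genericPoint (bcZ k k' f))) ⁻¹ᵁ (bcW k k' f U)))).comp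
      (((bcT k k' f).appLE ⊤ (bcW k k' f U) le_top).hom.comp
        (Scheme.ΓSpecIso (CommRingCat.of k')).inv.hom) =
      algebraMap k' (integralClosure Γ(bcZ k k' f, bcW k k' f U)
        Γ(Spec ((bcZ k k' f).presheaf.stalk (genericPoint (bcZ k k' f))),
          ((bcZ k k' f).fromSpecStalk (genericPoint (bcZ k k' f))) ⁻¹ᵁ (bcW k k' f U))) :=
    RingHom.ext fun x => Subtype.ext rfl
  rw [heq, RingHom.smooth_algebraMap]
  exact hsm

end

end Groth.Agent.Lib.helper9.PINorm
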