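import Mathlib
import Groth.Agent.Lib.Helper9.PINorm7

/-!
# helper9: the normalization of the reduction of `X_{k'}` is smooth over `k'` for a suitable finite
purely inseparable extension `k'/k`, `X` an integral curve of finite type over `k` (S12130)
-/

set_option autoImplicit false
set_option linter.style.haveILetI false
set_option backward.isDefEq.respectTransparency false

universe u

open CategoryTheory CategoryTheory.Limits AlgebraicGeometry TensorProduct

namespace Groth.Agent.Lib.helper9.PINorm

noncomputable section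

theorem finiteType_algA (k : Type u) [Field k] {X : Scheme.{u}}
    (f : X ⟶ Spec (CommRingCat.of k)) [LocallyOfFiniteType f] (U : X.Opens) (hU : IsAffineOpen U) :
    (algA k f U).FiniteType := by
  have h1 : (f.appLE ⊤ U le_top).hom.FiniteType :=
    HasRingHomProperty.appLE (P := @LocallyOfFiniteType) f inferInstance
      ⟨⊤, isAffineOpen_top _⟩ ⟨U, hU⟩ le_top
  refine RingHom.FiniteType.comp h1 (RingHom.FiniteType.of_surjective _ ?_)
  exact (ConcreteCategory.bijective_of_isIso (Scheme.ΓSpecIso (CommRingCat.of k)).inv).2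

theorem main (k : Type u) [Field k] {X : Scheme.{u}} (f : X ⟶ Spec (CommRingCat.of k))
    [IsIntegral X] [LocallyOfFiniteType f] [QuasiCompact f] (hdim : topologicalKrullDim X ≤ 1) :
    ∃ (k' : Type u) (_ : Field k') (_ : Algebra k k'), FiniteDimensional k k' ∧
      IsPurelyInseparable k k' ∧
      ∃ (_ : IsIntegral (bcZ k k' f))
        (_ : QuasiCompact ((bcZ k k' f).fromSpecStalk (genericPoint (bcZ k k' f))))
        (_ : QuasiSeparated ((bcZ k k' f).fromSpecStalk (genericPoint (bcZ k k' f)))),
        Smooth (((bcZ k k' f).fromSpecStalk (genericPoint (bcZ k k' f))).fromNormalization ≫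
          bcT k k' f) := by
  classical
  haveI : CompactSpace X := QuasiCompact.compactSpace_of_compactSpace f
  obtain ⟨s, hs, hcov⟩ := isCompact_iff_finite_and_eq_biUnion_affineOpens.mp
    (show IsCompact ((⊤ : X.Opens) : Set X) from isCompact_univ)
  let P : IntermediateField k (AlgebraicClosure k) := perfectClosure k (AlgebraicClosure k)
  haveI : PerfectField P := inferInstance
  haveI : IsPurelyInseparable k P := inferInstance
  have hex : ∀ U : X.affineOpens, Nonempty U.1 → ∃ S₀ : Finset P,
      ∀ F : IntermediateField k P, (↑S₀ : Set P) ⊆ F →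
        (letI : Algebra k Γ(X, U.1) := (algA k f U.1).toAlgebra
         Good k Γ(X, U.1) F) := by
    intro U hne
    letI : Algebra k Γ(X, U.1) := (algA k f U.1).toAlgebra
    haveI : IsDomain Γ(X, U.1) := @IsIntegral.component_integral X _ U.1 hne
    haveI : Algebra.FiniteType k Γ(X, U.1) := finiteType_algA k f U.1 U.2
    exact exists_good (le_trans (ringKrullDim_sections_le X U.1 U.2) hdim)
  let T : Finset P := hs.toFinset.biUnion fun U =>
    if h : Nonempty U.1 then Classical.choose (hex U h) else ∅
  let F : IntermediateField k P := IntermediateField.adjoin k (T : Set P)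
  have hTF : ∀ U ∈ s, ∀ h : Nonempty U.1, (↑(Classical.choose (hex U h)) : Set P) ⊆ F := by
    intro U hU h x hx
    refine IntermediateField.subset_adjoin k _ ?_
    simp only [T, Finset.coe_biUnion, Set.mem_iUnion]
    refine ⟨U, hs.mem_toFinset.mpr hU, ?_⟩
    rw [dif_pos h]
    exact hx
  have hgood : ∀ U ∈ s, Nonempty U.1 →
      (letI : Algebra k Γ(X, U.1) := (algA k f U.1).toAlgebra
       Good k Γ(X, U.1) F) := fun U hU h =>
    Classical.choose_spec (hex U h) F (hTF U hU h)
  haveI : Algebra.IsAlgebraic k P := inferInstance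
  have hfd : FiniteDimensional k F :=
    IntermediateField.finiteDimensional_adjoin fun x _ => Algebra.IsIntegral.isIntegral x
  have hpi : IsPurelyInseparable k F := IsPurelyInseparable.tower_bot k F P
  refine ⟨F, inferInstance, inferInstance, hfd, hpi, ?_⟩
  haveI := hpi
  have hhomeo := isHomeomorph_pullback_fst k F f
  haveI : IrreducibleSpace ↥(pullback f (Spec.map (CommRingCat.ofHom (algebraMap k F)))) :=
    irreducibleSpace_of_surjective (hhomeo.homeomorph _).symm
      (hhomeo.homeomorph _).symm.continuous (hhomeo.homeomorph _).symm.surjective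
  have hZint : IsIntegral (bcZ k F f) := isIntegral_nilradical_subscheme _
  haveI := hZint
  have hQC : QuasiCompact ((bcZ k F f).fromSpecStalk (genericPoint (bcZ k F f))) :=
    Groth.Agent.Lib.helper13.Normal.quasiCompact_fromSpecStalk_genericPoint _
  have hQS : QuasiSeparated ((bcZ k F f).fromSpecStalk (genericPoint (bcZ k F f))) :=
    inferInstance
  refine ⟨hZint, hQC, hQS, ?_⟩
  -- surjectivity of `Z → X`
  have hsurj : ∀ x : X, ∃ z : bcZ k F f,
      (pullback.fst f (Spec.map (CommRingCat.ofHom (algebraMap k F))))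
        ((pullback f (Spec.map (CommRingCat.ofHom (algebraMap k F)))).nilradical.subschemeι z)
          = x := by
    intro x
    obtain ⟨x', rfl⟩ := hhomeo.surjective x
    obtain ⟨z, rfl⟩ := Groth.Agent.Lib.helper9.PISmooth.surjective_nilradical_subschemeι _ x'
    exact ⟨z, rfl⟩
  refine smooth_fromNormalization_comp_of_cover
    ((bcZ k F f).fromSpecStalk (genericPoint (bcZ k F f))) (bcT k F f)
    (fun i : {U : X.affineOpens // U ∈ s ∧ Nonempty U.1} => bcW k F f i.1.1)
    (fun i => isAffineOpen_bcW k F f i.1.1 i.1.2) ?_ ?_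
  · rw [eq_top_iff]
    intro z _
    have hx : (pullback.fst f (Spec.map (CommRingCat.ofHom (algebraMap k F))))
        ((pullback f (Spec.map (CommRingCat.ofHom (algebraMap k F)))).nilradical.subschemeι z) ∈
          (⊤ : X.Opens) := trivial
    rw [hcov] at hx
    simp only [TopologicalSpace.Opens.mem_iSup] at hx
    obtain ⟨U, hU, hxU⟩ := hx
    rw [TopologicalSpace.Opens.mem_iSup]
    exact ⟨⟨U, hU, ⟨⟨_, hxU⟩⟩⟩, hxU⟩
  · rintro ⟨U, hU, hne⟩
    obtain ⟨⟨x, hx⟩⟩ := hne
    have hz' := hsurj x
    obtain ⟨z, hz⟩ := hz'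
    have hne' : Nonempty (bcW k F f U.1) := ⟨⟨z, by
      show (pullback.fst f (Spec.map (CommRingCat.ofHom (algebraMap k F))))
        ((pullback f (Spec.map (CommRingCat.ofHom (algebraMap k F)))).nilradical.subschemeι z) ∈ U.1
      rw [hz]
      exact hx⟩⟩
    have h := smooth_chart k F f U.1 U.2 (hgood U hU ⟨⟨x, hx⟩⟩) hne'
    exact h

end

end Groth.Agent.Lib.helper9.PINorm
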