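import Mathlib

/-!
# helper9: ring level lemma for S13836

Ring maps from the integral closure of `A` in `L'` to a field are determined by their values on the
integral closure of `A` in `K'`, if `L'` is `p`-radicial over `K'`.
-/

set_option autoImplicit false
set_option linter.style.haveILetI false
universe u

namespace Groth.Agent.Lib.helper9.PINormUH

theorem hom_ext_of_pRadical {A K' L' : Type u} [CommRing A] [CommRing K'] [CommRing L']
    [Algebra A K'] [Algebra A L'] (ψ : K' →ₐ[A] L') (hψ : Function.Injective ψ) (q : ℕ)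
    [hq : ExpChar L' q] (hrad : ∀ l : L', ∃ n : ℕ, l ^ q ^ n ∈ ψ.range)
    {Ω : Type u} [Field Ω] (α₁ α₂ : integralClosure A L' →+* Ω)
    (h : ∀ (κ : K') (hκ : IsIntegral A κ),
      α₁ ⟨ψ κ, hκ.map ψ⟩ = α₂ ⟨ψ κ, hκ.map ψ⟩) : α₁ = α₂ := by
  refine RingHom.ext fun c => ?_
  obtain ⟨n, κ, hκ'⟩ := hrad c.1
  have hκ : ψ κ = c.1 ^ q ^ n := hκ'
  have hκint : IsIntegral A κ := by
    have h1 : IsIntegral A (ψ κ) := by
      rw [hκ]
      exact c.2.pow _
    exact (isIntegral_algHom_iff ψ hψ).mp h1
  have hc : (⟨ψ κ, hκint.map ψ⟩ : integralClosure A L') = c ^ q ^ n := Subtype.ext hκ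
  have h2 : α₁ c ^ q ^ n = α₂ c ^ q ^ n := by
    rw [← map_pow, ← map_pow, ← hc]
    exact h κ hκint
  cases hq with
  | zero =>
    simpa using h2
  | prime hprime =>
    have hq0 : ((q : ℕ) : integralClosure A L') = 0 := by
      apply Subtype.ext
      show ((q : ℕ) : L') = 0
      exact CharP.cast_eq_zero L' q
    have hΩ0 : ((q : ℕ) : Ω) = 0 := by
      have := congrArg α₁ hq0
      simpa using this
    haveI : CharP Ω q := (CharP.charP_iff_prime_eq_zero hprime).mpr hΩ0
    haveI : ExpChar Ω q := ExpChar.prime hprime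
    exact iterateFrobenius_inj Ω q n (by simpa [iterateFrobenius_def] using h2)

end Groth.Agent.Lib.helper9.PINormUH
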