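import Mathlib
import Groth.Agent.Lib.Helper9.PINormUH1
import Groth.Agent.Lib.Helper13.Br8
import Groth.Agent.Lib.Helper13.Normal5
import Groth.Agent.Lib.Helper2.SpecResidue

/-!
# helper9: the normalization of a geometrically unibranch integral scheme in a purely inseparable
extension of its function field is a universal homeomorphism (S13836)
-/

set_option autoImplicit false
set_option linter.style.haveILetI false
set_option backward.isDefEq.respectTransparency false

universe u

open CategoryTheory CategoryTheory.Limits AlgebraicGeometry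

namespace Groth.Agent.Lib.helper9.PINormUH

noncomputable section

/-- Sections of `Spec L → Spec K` over the whole space, for a purely inseparable extension. -/
theorem app_props (K L : Type u) [Field K] [Field L] [Algebra K L] [IsPurelyInseparable K L]
    (W : (Spec (CommRingCat.of K)).Opens) (hW : W = ⊤) :
    Function.Injective ((Spec.map (CommRingCat.ofHom (algebraMap K L))).app W).hom ∧
    ExpChar Γ(Spec (CommRingCat.of L), (Spec.map (CommRingCat.ofHom (algebraMap K L))) ⁻¹ᵁ W)
      (ringExpChar K) ∧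
    ∀ l : Γ(Spec (CommRingCat.of L), (Spec.map (CommRingCat.ofHom (algebraMap K L))) ⁻¹ᵁ W),
      ∃ n : ℕ, l ^ (ringExpChar K) ^ n ∈
        ((Spec.map (CommRingCat.ofHom (algebraMap K L))).app W).hom.range := by
  subst hW
  set j := Spec.map (CommRingCat.ofHom (algebraMap K L)) with hj
  have hnat : j.appTop ≫ (Scheme.ΓSpecIso (CommRingCat.of L)).hom =
      (Scheme.ΓSpecIso (CommRingCat.of K)).hom ≫ CommRingCat.ofHom (algebraMap K L) :=
    Scheme.ΓSpecIso_naturality _
  have hnat' : ∀ x, (Scheme.ΓSpecIso (CommRingCat.of L)).hom.hom (j.appTop.hom x) =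
      algebraMap K L ((Scheme.ΓSpecIso (CommRingCat.of K)).hom.hom x) := fun x =>
    congrArg (fun φ => φ.hom x) hnat
  have hbL := ConcreteCategory.bijective_of_isIso (Scheme.ΓSpecIso (CommRingCat.of L)).hom
  have hbK := ConcreteCategory.bijective_of_isIso (Scheme.ΓSpecIso (CommRingCat.of K)).hom
  haveI : ExpChar K (ringExpChar K) := inferInstance
  haveI : ExpChar L (ringExpChar K) :=
    expChar_of_injective_algebraMap (algebraMap K L).injective _
  refine ⟨?_, ?_, ?_⟩
  · intro x y hxy
    apply hbK.1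
    apply (algebraMap K L).injective
    have h1 := hnat' x
    have h2 := hnat' y
    have hxy' : j.appTop.hom x = j.appTop.hom y := hxy
    rw [← h1, ← h2, hxy']
  · exact expChar_of_injective_ringHom (f := (Scheme.ΓSpecIso (CommRingCat.of L)).inv.hom)
      (ConcreteCategory.bijective_of_isIso (Scheme.ΓSpecIso (CommRingCat.of L)).inv).1 _
  · intro l
    obtain ⟨n, κ₀, hκ₀⟩ := IsPurelyInseparable.pow_mem K (ringExpChar K)
      ((Scheme.ΓSpecIso (CommRingCat.of L)).hom.hom l)
    obtain ⟨κ, rfl⟩ := hbK.2 κ₀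
    refine ⟨n, κ, ?_⟩
    apply hbL.1
    show (Scheme.ΓSpecIso (CommRingCat.of L)).hom.hom (j.appTop.hom κ) = _
    rw [hnat', hκ₀, map_pow]

theorem surjective_fromNormalization_of_genericPoint_mem {X Y : Scheme.{u}} [IrreducibleSpace Y]
    (g : X ⟶ Y) [QuasiCompact g] [QuasiSeparated g] (x : X) (hx : g x = genericPoint Y) :
    Surjective g.fromNormalization := by
  have hcl : IsClosed (Set.range g.fromNormalization) :=
    g.fromNormalization.isClosedMap.isClosed_range
  have hmem : genericPoint Y ∈ Set.range g.fromNormalization := by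
    refine ⟨g.toNormalization x, ?_⟩
    rw [← Scheme.Hom.comp_apply, Scheme.Hom.toNormalization_fromNormalization, hx]
  have h1 : closure {genericPoint Y} ⊆ Set.range g.fromNormalization :=
    hcl.closure_subset_iff.mpr (Set.singleton_subset_iff.mpr hmem)
  rw [(genericPoint_spec Y).def] at h1
  exact ⟨fun y => h1 (Set.mem_univ y)⟩

set_option maxHeartbeats 1600000 in
open Groth.Agent.Lib.helper13.Normal in
theorem universallyInjective_fromNormalization_of_pi (Y : Scheme.{u}) [IsIntegral Y]
    (hY : ∀ y : Y, CAlg2.IsGeomUnibranch (Y.presheaf.stalk y))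
    (L : Type u) [Field L] [Algebra Y.functionField L] [IsPurelyInseparable Y.functionField L]
    [QuasiCompact (Spec.map (CommRingCat.ofHom (algebraMap Y.functionField L)) ≫
      Y.fromSpecStalk (genericPoint Y))]
    [QuasiSeparated (Spec.map (CommRingCat.ofHom (algebraMap Y.functionField L)) ≫
      Y.fromSpecStalk (genericPoint Y))] :
    UniversallyInjective (Spec.map (CommRingCat.ofHom (algebraMap Y.functionField L)) ≫
      Y.fromSpecStalk (genericPoint Y)).fromNormalization := by
  set fK := Y.fromSpecStalk (genericPoint Y) with hfK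
  set j := Spec.map (CommRingCat.ofHom (algebraMap Y.functionField L)) with hj
  haveI : QuasiCompact fK := quasiCompact_fromSpecStalk_genericPoint Y
  haveI : QuasiSeparated fK := inferInstance
  have hνK : UniversallyInjective fK.fromNormalization :=
    Groth.Agent.Lib.helper13.Br.universallyInjective_fromNormalization Y hY
  have hK01 := ((tfae_universallyInjective fK.fromNormalization).out 0 1).mp hνK
  refine ((tfae_universallyInjective _).out 0 1).mpr ?_
  intro Ω _ a₁ a₂ ha
  dsimp only at ha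
  haveI : Unique ↥(Spec (CommRingCat.of Ω)) := inferInstanceAs (Unique (PrimeSpectrum Ω))
  obtain ⟨_, ⟨U, hU, rfl⟩, hyU, -⟩ := (Y.isBasis_affineOpens).exists_subset_of_mem_open
    (Set.mem_univ ((a₁ ≫ (j ≫ fK).fromNormalization) default)) isOpen_univ
  have hyU : (a₁ ≫ (j ≫ fK).fromNormalization) default ∈ U := hyU
  have hne : Nonempty U := ⟨⟨_, hyU⟩⟩
  have hη : genericPoint Y ∈ U :=
    ((genericPoint_spec Y).mem_open_set_iff U.isOpen).mpr (by simpa using hne)
  haveI : Unique ↥(Spec Y.functionField) :=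
    inferInstanceAs (Unique (PrimeSpectrum Y.functionField))
  have htop : fK ⁻¹ᵁ U = ⊤ := by
    ext p
    simp only [TopologicalSpace.Opens.coe_top, Set.mem_univ, iff_true]
    have hp : p = IsLocalRing.closedPoint _ := Subsingleton.elim _ _
    show fK p ∈ U
    rw [hp, hfK, Scheme.fromSpecStalk_closedPoint]
    exact hη
  obtain ⟨hψinj, hexp, hrad⟩ := app_props (↑Y.functionField) L (fK ⁻¹ᵁ U) htop
  -- the charts
  set cL := (j ≫ fK).normalizationOpenCover.f ⟨U, hU⟩ with hcL
  set cK := fK.normalizationOpenCover.f ⟨U, hU⟩ with hcK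
  have hr : ∀ a : Spec (CommRingCat.of Ω) ⟶ (j ≫ fK).normalization,
      (a ≫ (j ≫ fK).fromNormalization) default ∈ U → Set.range a ⊆ Set.range cL := by
    intro a ha' z hz
    obtain ⟨p, rfl⟩ := hz
    have hp : p = default := Subsingleton.elim _ _
    rw [hp]
    have h1 : a default ∈ (j ≫ fK).fromNormalization ⁻¹ᵁ U := ha'
    rw [(j ≫ fK).fromNormalization_preimage ⟨U, hU⟩] at h1
    exact h1
  have hyU₂ : (a₂ ≫ (j ≫ fK).fromNormalization) default ∈ U := by rw [← ha]; exact hyU
  letI iL : Algebra Γ(Y, U) Γ(Spec (CommRingCat.of L), (j ≫ fK) ⁻¹ᵁ U) :=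
    ((j ≫ fK).app U).hom.toAlgebra
  letI iK : Algebra Γ(Y, U) Γ(Spec Y.functionField, fK ⁻¹ᵁ U) := (fK.app U).hom.toAlgebra
  let b₁ : Spec (CommRingCat.of Ω) ⟶ Spec (CommRingCat.of (integralClosure Γ(Y, U)
      Γ(Spec (CommRingCat.of L), (j ≫ fK) ⁻¹ᵁ U))) := IsOpenImmersion.lift cL a₁ (hr a₁ hyU)
  let b₂ : Spec (CommRingCat.of Ω) ⟶ Spec (CommRingCat.of (integralClosure Γ(Y, U)
      Γ(Spec (CommRingCat.of L), (j ≫ fK) ⁻¹ᵁ U))) := IsOpenImmersion.lift cL a₂ (hr a₂ hyU₂)
  have hb₁ : b₁ ≫ cL = a₁ := IsOpenImmersion.lift_fac _ _ _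
  have hb₂ : b₂ ≫ cL = a₂ := IsOpenImmersion.lift_fac _ _ _
  obtain ⟨β₁, hβ₁⟩ := Spec.map_surjective b₁
  obtain ⟨β₂, hβ₂⟩ := Spec.map_surjective b₂
  suffices hβ : β₁ = β₂ by
    rw [← hb₁, ← hb₂, ← hβ₁, ← hβ₂, hβ]
  -- step 4: `β₁`, `β₂` agree on `Γ(Y, U)`
  have hA : (j ≫ fK).normalizationDiagramMap.app (.op U) ≫ β₁ =
      (j ≫ fK).normalizationDiagramMap.app (.op U) ≫ β₂ := by
    apply Spec.map_injective
    rw [← cancel_mono hU.fromSpec, Spec.map_comp, Spec.map_comp, Category.assoc, Category.assoc,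
      ← (j ≫ fK).ι_fromNormalization ⟨U, hU⟩, hβ₁, hβ₂, ← hcL, ← Category.assoc, ← Category.assoc,
      hb₁, hb₂]
    exact ha
  -- step 5
  let ψ : Γ(Spec Y.functionField, fK ⁻¹ᵁ U) →ₐ[Γ(Y, U)]
      Γ(Spec (CommRingCat.of L), (j ≫ fK) ⁻¹ᵁ U) :=
    { (j.app (fK ⁻¹ᵁ U)).hom with
      commutes' := fun a => rfl }
  let ψ' := ψ.mapIntegralClosure
  have hAK : ∀ β : CommRingCat.of (integralClosure Γ(Y, U)
      Γ(Spec (CommRingCat.of L), (j ≫ fK) ⁻¹ᵁ U)) ⟶ CommRingCat.of Ω,
      fK.normalizationDiagramMap.app (.op U) ≫ CommRingCat.ofHom (β.hom.comp ψ'.toRingHom) =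
        (j ≫ fK).normalizationDiagramMap.app (.op U) ≫ β := by
    intro β
    ext a
    show β.hom (ψ' (algebraMap Γ(Y, U) _ a)) = β.hom (algebraMap Γ(Y, U) _ a)
    rw [ψ'.commutes]
  have hd : Spec.map (CommRingCat.ofHom (β₁.hom.comp ψ'.toRingHom)) ≫ cK =
      Spec.map (CommRingCat.ofHom (β₂.hom.comp ψ'.toRingHom)) ≫ cK := by
    apply hK01 Ω
    show (Spec.map (CommRingCat.ofHom (β₁.hom.comp ψ'.toRingHom)) ≫ cK) ≫ fK.fromNormalization =
      (Spec.map (CommRingCat.ofHom (β₂.hom.comp ψ'.toRingHom)) ≫ cK) ≫ fK.fromNormalization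
    rw [Category.assoc, Category.assoc, hcK, fK.ι_fromNormalization ⟨U, hU⟩, ← Spec.map_comp_assoc,
      ← Spec.map_comp_assoc, hAK β₁, hAK β₂, hA]
  have hβψ : β₁.hom.comp ψ'.toRingHom = β₂.hom.comp ψ'.toRingHom := by
    have h1 := Spec.map_injective ((cancel_mono cK).mp hd)
    exact congrArg CommRingCat.Hom.hom h1
  -- step 6
  haveI := hexp
  apply CommRingCat.hom_ext
  refine hom_ext_of_pRadical (hq := hexp) ψ hψinj (ringExpChar ↑Y.functionField) hrad
    β₁.hom β₂.hom ?_
  intro κ hκ
  exact congrArg (fun φ => φ ⟨κ, hκ⟩) hβψ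

theorem isUnivHomeo_fromNormalization_of_pi (Y : Scheme.{u}) [IsIntegral Y]
    (hY : ∀ y : Y, CAlg2.IsGeomUnibranch (Y.presheaf.stalk y))
    (L : Type u) [Field L] [Algebra Y.functionField L] [IsPurelyInseparable Y.functionField L]
    [QuasiCompact (Spec.map (CommRingCat.ofHom (algebraMap Y.functionField L)) ≫
      Y.fromSpecStalk (genericPoint Y))]
    [QuasiSeparated (Spec.map (CommRingCat.ofHom (algebraMap Y.functionField L)) ≫
      Y.fromSpecStalk (genericPoint Y))] :
    FlatMor.IsUnivHomeo (Spec.map (CommRingCat.ofHom (algebraMap Y.functionField L)) ≫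
      Y.fromSpecStalk (genericPoint Y)).fromNormalization := by
  haveI := universallyInjective_fromNormalization_of_pi Y hY L
  haveI : Unique ↥(Spec Y.functionField) :=
    inferInstanceAs (Unique (PrimeSpectrum Y.functionField))
  haveI : Unique ↥(Spec (CommRingCat.of L)) := inferInstanceAs (Unique (PrimeSpectrum L))
  haveI : Surjective (Spec.map (CommRingCat.ofHom (algebraMap Y.functionField L)) ≫
      Y.fromSpecStalk (genericPoint Y)).fromNormalization := by
    refine surjective_fromNormalization_of_genericPoint_mem _ default ?_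
    rw [Scheme.Hom.comp_apply]
    have hp : (Spec.map (CommRingCat.ofHom (algebraMap Y.functionField L))) default =
        (IsLocalRing.closedPoint (Y.presheaf.stalk (genericPoint Y)) :
          ↥(Spec (Y.presheaf.stalk (genericPoint Y)))) := Subsingleton.elim _ _
    rw [hp]
    exact Scheme.fromSpecStalk_closedPoint
  exact Groth.Agent.Lib.helper2.SpecResidue.isUnivHomeo_of_integral _

end

end Groth.Agent.Lib.helper9.PINormUH
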