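/-
Helper library (helper9): perfection of a scheme of characteristic `p`, part 1.
The perfection as the limit of the Frobenius tower (existence via helper11 `AffLim`),
its universal property and functoriality.
-/
import Mathlib
import Groth.Prelude.Def_Frob
import Groth.Agent.Lib.Helper11.AffLim

set_option autoImplicit false
set_option linter.style.haveILetI false
set_option backward.isDefEq.respectTransparency false

namespace Groth.Agent.Lib.helper9.PerfSch

open AlgebraicGeometry CategoryTheory Limits Opposite FrobSch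

universe u

variable (p : ℕ) [Fact p.Prime]

section frobPow

variable (Y : Scheme.{u}) [IsCharP Y p]

/-- iterates of the absolute Frobenius -/
noncomputable def frobPow : ℕ → (Y ⟶ Y)
  | 0 => 𝟙 Y
  | k + 1 => frobPow k ≫ frob Y p

@[simp] theorem frobPow_zero : frobPow p Y 0 = 𝟙 Y := rfl

theorem frobPow_succ (k : ℕ) : frobPow p Y (k + 1) = frobPow p Y k ≫ frob Y p := rfl

theorem frobPow_one : frobPow p Y 1 = frob Y p := by
  rw [frobPow_succ, frobPow_zero, Category.id_comp]

theorem frobPow_add (a b : ℕ) : frobPow p Y (a + b) = frobPow p Y a ≫ frobPow p Y b := by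
  induction b with
  | zero => simp
  | succ b ih => rw [← add_assoc, frobPow_succ, ih, frobPow_succ, Category.assoc]

variable {Y} in
@[reassoc]
theorem frobPow_comp {Z : Scheme.{u}} [IsCharP Z p] (f : Y ⟶ Z) (k : ℕ) :
    frobPow p Y k ≫ f = f ≫ frobPow p Z k := by
  induction k with
  | zero => simp
  | succ k ih =>
    rw [frobPow_succ, Category.assoc, frob_comp p f, reassoc_of% ih, frobPow_succ]

instance isAffineHom_frob : IsAffineHom (frob Y p) := ⟨fun _ hU => hU⟩

instance isAffineHom_frobPow (k : ℕ) : IsAffineHom (frobPow p Y k) := by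
  induction k with
  | zero => rw [frobPow_zero]; infer_instance
  | succ k ih => rw [frobPow_succ]; infer_instance

theorem isIso_frobPow [IsPerfect Y p] (k : ℕ) : IsIso (frobPow p Y k) := by
  induction k with
  | zero => rw [frobPow_zero]; infer_instance
  | succ k ih => rw [frobPow_succ]; infer_instance

end frobPow

instance : IsDirected (ULift.{u} ℕ) (· ≤ ·) :=
  ⟨fun a b => ⟨⟨max a.down b.down⟩, le_max_left a.down b.down, le_max_right a.down b.down⟩⟩

section tower

variable (Y : Scheme.{u}) [IsCharP Y p]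

/-- The Frobenius tower `⋯ → Y → Y → Y`. -/
noncomputable def tower : (ULift.{u} ℕ)ᵒᵖ ⥤ Scheme.{u} where
  obj _ := Y
  map {i j} _ := frobPow p Y (i.unop.down - j.unop.down)
  map_id i := by simp
  map_comp {i j k} f g := by
    have h1' : j.unop ≤ i.unop := leOfHom f.unop
    have h2' : k.unop ≤ j.unop := leOfHom g.unop
    have h1 : j.unop.down ≤ i.unop.down := h1'
    have h2 : k.unop.down ≤ j.unop.down := h2'
    rw [← frobPow_add]
    congr 1
    omega

instance isAffineHom_tower_map (i j : (ULift.{u} ℕ)ᵒᵖ) (f : i ⟶ j) :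
    IsAffineHom ((tower p Y).map f) := by
  show IsAffineHom (frobPow p Y _)
  infer_instance

instance hasLimit_tower : HasLimit (tower p Y) :=
  Groth.Agent.Lib.helper11.AffLim.hasLimit_of_isAffineHom (tower p Y)

/-- The perfection of `Y`. -/
noncomputable def perf : Scheme.{u} := limit (tower p Y)

/-- The projections of the perfection. -/
noncomputable def perfπ (n : ℕ) : perf p Y ⟶ Y := limit.π (tower p Y) (op ⟨n⟩)

instance isCharP_perf : IsCharP (perf p Y) p := IsCharP.of_hom (perfπ p Y 0) p

instance isAffineHom_perfπ (n : ℕ) : IsAffineHom (perfπ p Y n) := by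
  haveI : ∀ {i j : (ULift.{u} ℕ)ᵒᵖ} (f : i ⟶ j), IsAffineHom ((tower p Y).map f) :=
    fun f => inferInstance
  exact isAffineHom_π_app (tower p Y) _ (limit.isLimit (tower p Y)) (op ⟨n⟩)

@[reassoc]
theorem perfπ_frobPow (n k : ℕ) : perfπ p Y (n + k) ≫ frobPow p Y k = perfπ p Y n := by
  have h : (⟨n⟩ : ULift.{u} ℕ) ≤ ⟨n + k⟩ := Nat.le_add_right n k
  have := limit.w (tower p Y) (homOfLE h).op
  have e : (n + k) - n = k := by omega
  simpa [tower, perfπ, e] using this

@[reassoc]
theorem perfπ_succ (n : ℕ) : perfπ p Y (n + 1) ≫ frob Y p = perfπ p Y n := by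
  rw [← frobPow_one, perfπ_frobPow]

theorem perf_hom_ext {Z : Scheme.{u}} {a b : Z ⟶ perf p Y}
    (h : ∀ n, a ≫ perfπ p Y n = b ≫ perfπ p Y n) : a = b :=
  limit.hom_ext fun i => h i.unop.down

/-- Morphisms into the perfection from compatible sequences. -/
noncomputable def perfLift {Z : Scheme.{u}} (g : ℕ → (Z ⟶ Y))
    (hg : ∀ n, g (n + 1) ≫ frob Y p = g n) : Z ⟶ perf p Y :=
  limit.lift (tower p Y)
    { pt := Z
      π :=
        { app := fun i => g i.unop.down
          naturality := fun i j f => by
            have h1' : j.unop ≤ i.unop := leOfHom f.unop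
            have h1 : j.unop.down ≤ i.unop.down := h1'
            have key : ∀ k n, g (n + k) ≫ frobPow p Y k = g n := by
              intro k
              induction k with
              | zero => intro n; simp
              | succ k ih =>
                intro n
                have e : n + (k + 1) = (n + 1) + k := by omega
                rw [frobPow_succ, ← Category.assoc, e, ih (n + 1), hg]
            have e : i.unop.down = j.unop.down + (i.unop.down - j.unop.down) := by omega
            simp only [Functor.const_obj_obj, Functor.const_obj_map, Category.id_comp]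
            show g j.unop.down = g i.unop.down ≫ frobPow p Y (i.unop.down - j.unop.down)
            conv_rhs => rw [e]
            rw [Nat.add_sub_cancel_left]
            exact (key _ _).symm } }

@[reassoc (attr := simp)]
theorem perfLift_π {Z : Scheme.{u}} (g : ℕ → (Z ⟶ Y))
    (hg : ∀ n, g (n + 1) ≫ frob Y p = g n) (n : ℕ) :
    perfLift p Y g hg ≫ perfπ p Y n = g n :=
  limit.lift_π _ _

@[reassoc]
theorem frobPow_perfπ (n : ℕ) : frobPow p (perf p Y) n ≫ perfπ p Y n = perfπ p Y 0 := by
  rw [frobPow_comp, ← perfπ_frobPow p Y 0 n, zero_add]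

/-- The shift map on the perfection, inverse to Frobenius. -/
noncomputable def perfShift : perf p Y ⟶ perf p Y :=
  perfLift p Y (fun n => perfπ p Y (n + 1)) (fun n => perfπ_succ p Y (n + 1))

theorem frob_perfShift : frob (perf p Y) p ≫ perfShift p Y = 𝟙 _ := by
  refine perf_hom_ext p Y fun n => ?_
  rw [Category.assoc, perfShift, perfLift_π, frob_comp, perfπ_succ, Category.id_comp]

theorem perfShift_frob : perfShift p Y ≫ frob (perf p Y) p = 𝟙 _ := by
  refine perf_hom_ext p Y fun n => ?_
  rw [Category.assoc, frob_comp, perfShift, perfLift_π_assoc, perfπ_succ, Category.id_comp]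

instance isPerfect_perf : IsPerfect (perf p Y) p :=
  ⟨⟨perfShift p Y, frob_perfShift p Y, perfShift_frob p Y⟩⟩

variable {Y} in
/-- Two maps from a perfect scheme to the perfection agreeing after the zeroth projection are
equal. -/
theorem perf_hom_ext_of_isPerfect {Z : Scheme.{u}} [IsCharP Z p] [IsPerfect Z p]
    {a b : Z ⟶ perf p Y} (h : a ≫ perfπ p Y 0 = b ≫ perfπ p Y 0) : a = b := by
  refine perf_hom_ext p Y fun n => ?_
  haveI := isIso_frobPow p Z n
  rw [← cancel_epi (frobPow p Z n), frobPow_comp_assoc, frobPow_comp_assoc, frobPow_perfπ, h]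

variable {Y} in
/-- The lift of a morphism from a perfect scheme to the perfection. -/
noncomputable def perfLiftOfPerfect {Z : Scheme.{u}} [IsCharP Z p] [IsPerfect Z p] (g : Z ⟶ Y) :
    Z ⟶ perf p Y :=
  perfLift p Y (fun n => (haveI := isIso_frobPow p Z n; inv (frobPow p Z n)) ≫ g) (fun n => by
    haveI := isIso_frobPow p Z n
    haveI := isIso_frobPow p Z (n + 1)
    rw [Category.assoc, ← frob_comp, IsIso.inv_comp_eq, frobPow_succ, Category.assoc,
      frobPow_comp_assoc, IsIso.hom_inv_id_assoc])

variable {Y} in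
@[reassoc (attr := simp)]
theorem perfLiftOfPerfect_π {Z : Scheme.{u}} [IsCharP Z p] [IsPerfect Z p] (g : Z ⟶ Y) :
    perfLiftOfPerfect p g ≫ perfπ p Y 0 = g := by
  rw [perfLiftOfPerfect, perfLift_π]
  simp

variable {Y} in
@[reassoc]
theorem perfLiftOfPerfect_π' {Z : Scheme.{u}} [IsCharP Z p] [IsPerfect Z p] (g : Z ⟶ Y) (n : ℕ) :
    frobPow p Z n ≫ perfLiftOfPerfect p g ≫ perfπ p Y n = g := by
  haveI := isIso_frobPow p Z n
  rw [perfLiftOfPerfect, perfLift_π, IsIso.hom_inv_id_assoc]

/-- The perfection has the universal property `IsPerfection`. -/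
theorem isPerfection_perfπ : IsPerfection (perfπ p Y 0) p := by
  refine ⟨isPerfect_perf p Y, fun Z _ hZ => ⟨fun a b h => ?_, fun g => ?_⟩⟩
  · haveI : IsPerfect Z p := hZ
    exact perf_hom_ext_of_isPerfect p h
  · haveI : IsPerfect Z p := hZ
    exact ⟨perfLiftOfPerfect p g, perfLiftOfPerfect_π p g⟩

end tower

section functoriality

variable {Y Y' Y'' : Scheme.{u}} [IsCharP Y p] [IsCharP Y' p] [IsCharP Y'' p]

/-- Functoriality of the perfection. -/
noncomputable def perfMap (f : Y ⟶ Y') : perf p Y ⟶ perf p Y' :=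
  perfLift p Y' (fun n => perfπ p Y n ≫ f) (fun n => by
    rw [Category.assoc, ← frob_comp, perfπ_succ_assoc])

@[reassoc (attr := simp)]
theorem perfMap_π (f : Y ⟶ Y') (n : ℕ) : perfMap p f ≫ perfπ p Y' n = perfπ p Y n ≫ f :=
  perfLift_π _ _ _ _ _

@[simp]
theorem perfMap_id : perfMap p (𝟙 Y) = 𝟙 _ :=
  perf_hom_ext p Y fun n => by rw [perfMap_π, Category.comp_id, Category.id_comp]

@[reassoc]
theorem perfMap_comp (f : Y ⟶ Y') (g : Y' ⟶ Y'') :
    perfMap p (f ≫ g) = perfMap p f ≫ perfMap p g :=
  perf_hom_ext p Y'' fun n => by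
    rw [perfMap_π, Category.assoc, perfMap_π, perfMap_π_assoc]

instance isAffineHom_perfMap (f : Y ⟶ Y') [IsAffineHom f] : IsAffineHom (perfMap p f) := by
  haveI : IsAffineHom (perfMap p f ≫ perfπ p Y' 0) := by
    rw [perfMap_π]; infer_instance
  exact IsAffineHom.of_comp (perfMap p f) (perfπ p Y' 0)

@[reassoc]
theorem perfLiftOfPerfect_perfMap {Z : Scheme.{u}} [IsCharP Z p] [IsPerfect Z p] (g : Z ⟶ Y)
    (f : Y ⟶ Y') : perfLiftOfPerfect p g ≫ perfMap p f = perfLiftOfPerfect p (g ≫ f) :=
  perf_hom_ext_of_isPerfect p (by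
    rw [Category.assoc, perfMap_π, perfLiftOfPerfect_π_assoc, perfLiftOfPerfect_π])

instance compactSpace_perf [CompactSpace Y] : CompactSpace (perf p Y) :=
  QuasiCompact.compactSpace_of_compactSpace (perfπ p Y 0)

instance quasiSeparatedSpace_perf [QuasiSeparatedSpace Y] : QuasiSeparatedSpace (perf p Y) :=
  quasiSeparatedSpace_of_quasiSeparated (perfπ p Y 0)

end functoriality

end Groth.Agent.Lib.helper9.PerfSch
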