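/-
Helper library (helper9): perfection of a scheme of characteristic `p`, part 2.
Morphisms to `Spec 𝔽_p`, perfectness of limits of perfect schemes.
-/
import Groth.Agent.Lib.Helper9.PerfSch1

set_option autoImplicit false
set_option linter.style.haveILetI false
set_option backward.isDefEq.respectTransparency false

namespace Groth.Agent.Lib.helper9.PerfSch

open AlgebraicGeometry CategoryTheory Limits Opposite FrobSch

universe u

variable (p : ℕ) [Fact p.Prime]

/-- The spectrum of the prime field. -/
noncomputable abbrev SpecFp : Scheme.{u} := Spec (CommRingCat.of (ULift.{u} (ZMod p)))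

instance : IsCharP (SpecFp.{u} p) p := isCharP_Spec (ULift.{u} (ZMod p)) p

/-- Any two morphisms to `Spec 𝔽_p` agree. -/
theorem hom_SpecFp_ext {Z : Scheme.{u}} (a b : Z ⟶ SpecFp.{u} p) : a = b := by
  refine ext_to_Spec ?_
  ext x
  have h : ∀ φ ψ : ULift.{u} (ZMod p) →+* Γ(Z, ⊤), φ = ψ := by
    intro φ ψ
    have h1 : φ.comp (ULift.ringEquiv (R := ZMod p)).symm.toRingHom =
        ψ.comp (ULift.ringEquiv (R := ZMod p)).symm.toRingHom := Subsingleton.elim _ _
    ext y
    exact congrArg (fun f => f y.down) h1
  exact congrArg (fun f => f x) (h _ _)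

/-- The structure morphism of a scheme of characteristic `p` to `Spec 𝔽_p`. -/
noncomputable def toFp (X : Scheme.{u}) [IsCharP X p] : X ⟶ SpecFp.{u} p :=
  X.toSpecΓ ≫ Spec.map (CommRingCat.ofHom
    (((Ideal.Quotient.lift (Ideal.span {(p : ℤ)}) (Int.castRingHom Γ(X, ⊤)) (by
        intro a ha
        obtain ⟨c, rfl⟩ := Ideal.mem_span_singleton.mp ha
        have h0 : (p : Γ(X, ⊤)) = 0 := IsCharP.natCast_eq_zero
        simp [h0])).comp (Int.quotientSpanNatEquivZMod p).symm.toRingHom).comp
      (ULift.ringEquiv (R := ZMod p)).toRingHom))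

section limits

variable {J : Type u} [SmallCategory J] (F : J ⥤ Scheme.{u})
  [∀ j, IsCharP (F.obj j) p]

/-- A limit of perfect schemes is perfect. -/
theorem isPerfect_of_isLimit (c : Cone F) (hc : IsLimit c) [IsCharP c.pt p]
    (h : ∀ j, IsPerfect (F.obj j) p) : IsPerfect c.pt p := by
  haveI := h
  let σ : c.pt ⟶ c.pt := hc.lift
    { pt := c.pt
      π :=
        { app := fun j => c.π.app j ≫ inv (frob (F.obj j) p)
          naturality := fun i j a => by
            simp only [Functor.const_obj_obj, Functor.const_obj_map, Category.id_comp,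
              Category.assoc]
            rw [← c.w a, Category.assoc]
            congr 1
            rw [IsIso.eq_inv_comp, frob_comp_assoc, IsIso.hom_inv_id, Category.comp_id] } }
  have hσ : ∀ j, σ ≫ c.π.app j = c.π.app j ≫ inv (frob (F.obj j) p) := fun j => hc.fac _ j
  refine ⟨⟨σ, hc.hom_ext fun j => ?_, hc.hom_ext fun j => ?_⟩⟩
  · rw [Category.assoc, hσ, frob_comp_assoc, IsIso.hom_inv_id, Category.comp_id,
      Category.id_comp]
  · rw [Category.assoc, frob_comp, reassoc_of% hσ, IsIso.inv_hom_id, Category.comp_id,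
      Category.id_comp]

end limits

end Groth.Agent.Lib.helper9.PerfSch
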