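/-
Helper library (helper9): perfection of a scheme of characteristic `p`, part 3.
A quasi-compact quasi-separated perfect scheme which is compact with respect to cofiltered limits
of perfect qcqs schemes is the perfection of a scheme of finite presentation over `𝔽_p`.
-/
import Groth.Agent.Lib.Helper9.PerfSch2
import Groth.Agent.Lib.Helper9.AbsApprox24

set_option autoImplicit false
set_option linter.style.haveILetI false
set_option backward.isDefEq.respectTransparency false

namespace Groth.Agent.Lib.helper9.PerfSch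

open AlgebraicGeometry CategoryTheory Limits Opposite FrobSch

universe u

variable (p : ℕ) [Fact p.Prime]

/-- the perfection of a diagram -/
noncomputable def perfDiagram {J : Type u} [SmallCategory J] (D : J ⥤ Scheme.{u})
    [∀ j, IsCharP (D.obj j) p] : J ⥤ Scheme.{u} where
  obj j := perf p (D.obj j)
  map a := perfMap p (D.map a)
  map_id j := by rw [D.map_id, perfMap_id]
  map_comp a b := by rw [D.map_comp, perfMap_comp]

instance {J : Type u} [SmallCategory J] (D : J ⥤ Scheme.{u})
    [∀ j, IsCharP (D.obj j) p] (j : J) : IsCharP ((perfDiagram p D).obj j) p :=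
  isCharP_perf p (D.obj j)

theorem exists_model (X : Scheme.{u}) [IsCharP X p] [CompactSpace X] [QuasiSeparatedSpace X]
    [IsPerfect X p]
    (hc : ∀ (J : Type u) [SmallCategory J] [IsCofiltered J] (F : J ⥤ Scheme.{u})
      [∀ j, IsCharP (F.obj j) p] (c : Cone F) [IsCharP c.pt p], IsLimit c →
      (∀ ⦃i j : J⦄ (a : i ⟶ j), IsAffineHom (F.map a)) →
      (∀ j, IsPerfect (F.obj j) p ∧ CompactSpace (F.obj j) ∧ QuasiSeparatedSpace (F.obj j)) →
      IsPerfect c.pt p → CompactSpace c.pt → QuasiSeparatedSpace c.pt →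
      (∀ g : c.pt ⟶ X, ∃ (j : J) (gj : F.obj j ⟶ X), c.π.app j ≫ gj = g)) :
    ∃ (X0 : Scheme.{u}) (s : X0 ⟶ SpecFp.{u} p) (_ : LocallyOfFinitePresentation s)
      (_ : CompactSpace X0) (_ : QuasiSeparatedSpace X0) (π : X ⟶ X0), IsPerfection π p := by
  obtain ⟨I, _, _, _, D, t, c₀, hc₀, e, hcomm, ht, haff, hqcqs⟩ :=
    Groth.Agent.Lib.helper9.AbsApprox.exists_relative_approx' (toFp p X)
  haveI : ∀ i, IsCharP (D.obj i) p := fun i =>
    @IsCharP.of_hom (D.obj i) (SpecFp.{u} p) (t.app i) p inferInstance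
  haveI : ∀ i, CompactSpace (D.obj i) := fun i => (hqcqs i).1
  haveI : ∀ i, QuasiSeparatedSpace (D.obj i) := fun i => (hqcqs i).2
  haveI : ∀ {i j : Iᵒᵖ} (a : i ⟶ j), IsAffineHom (D.map a) := fun a => haff _ _ a
  -- projections
  let q : ∀ i, X ⟶ D.obj i := fun i => e.inv ≫ c₀.π.app i
  have hq : ∀ {i j : Iᵒᵖ} (a : i ⟶ j), q i ≫ D.map a = q j := fun a => by
    simp only [q, Category.assoc, c₀.w]
  -- the perfected diagram
  haveI : ∀ (i j : Iᵒᵖ) (a : i ⟶ j), IsAffineHom ((perfDiagram p D).map a) := fun i j a => by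
    show IsAffineHom (perfMap p (D.map a))
    infer_instance
  haveI : HasLimit (perfDiagram p D) :=
    Groth.Agent.Lib.helper11.AffLim.hasLimit_of_isAffineHom (perfDiagram p D)
  obtain ⟨i₀⟩ : Nonempty Iᵒᵖ := inferInstance
  haveI : IsCharP (limit (perfDiagram p D)) p := IsCharP.of_hom (limit.π (perfDiagram p D) i₀) p
  haveI : IsCharP (limit.cone (perfDiagram p D)).pt p := ‹IsCharP (limit (perfDiagram p D)) p›
  have hLperf : IsPerfect (limit (perfDiagram p D)) p :=
    isPerfect_of_isLimit p (perfDiagram p D) (limit.cone _) (limit.isLimit _)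
      (fun j => isPerfect_perf p _)
  haveI : ∀ {i j : Iᵒᵖ} (a : i ⟶ j), IsAffineHom ((perfDiagram p D).map a) :=
    fun a => inferInstance
  haveI : ∀ i, CompactSpace ((perfDiagram p D).obj i) := fun i =>
    compactSpace_perf p (Y := D.obj i)
  haveI : ∀ i, QuasiSeparatedSpace ((perfDiagram p D).obj i) := fun i =>
    quasiSeparatedSpace_perf p (Y := D.obj i)
  have hLc : CompactSpace (limit (perfDiagram p D) : Scheme.{u}) :=
    Scheme.compactSpace_of_isLimit (perfDiagram p D) (limit.cone _) (limit.isLimit _)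
  haveI : IsAffineHom (limit.π (perfDiagram p D) i₀) :=
    isAffineHom_π_app (perfDiagram p D) (limit.cone _) (limit.isLimit _) i₀
  have hLqs : QuasiSeparatedSpace (limit (perfDiagram p D) : Scheme.{u}) :=
    quasiSeparatedSpace_of_quasiSeparated (limit.π (perfDiagram p D) i₀)
  -- the comparison maps
  let ψ : limit (perfDiagram p D) ⟶ X := hc₀.lift
    { pt := limit (perfDiagram p D)
      π :=
        { app := fun i => limit.π (perfDiagram p D) i ≫ perfπ p (D.obj i) 0
          naturality := fun i j a => by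
            simp only [Functor.const_obj_obj, Functor.const_obj_map, Category.id_comp,
              Category.assoc]
            rw [← limit.w (perfDiagram p D) a, Category.assoc]
            congr 1
            exact (perfMap_π p (D.map a) 0) } } ≫ e.hom
  have hψ : ∀ i, ψ ≫ q i = limit.π (perfDiagram p D) i ≫ perfπ p (D.obj i) 0 := fun i => by
    simp only [ψ, q, Category.assoc, Iso.hom_inv_id_assoc]
    exact hc₀.fac _ i
  let φ' : X ⟶ limit (perfDiagram p D) := limit.lift (perfDiagram p D)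
    { pt := X
      π :=
        { app := fun i => (perfLiftOfPerfect p (q i) : X ⟶ perf p (D.obj i))
          naturality := fun i j a => by
            simp only [Functor.const_obj_obj, Functor.const_obj_map, Category.id_comp]
            show _ = perfLiftOfPerfect p (q i) ≫ perfMap p (D.map a)
            rw [perfLiftOfPerfect_perfMap, hq] } }
  have hφ' : ∀ i, φ' ≫ limit.π (perfDiagram p D) i = perfLiftOfPerfect p (q i) := fun i =>
    limit.lift_π _ _
  have hφψ : φ' ≫ ψ = 𝟙 X := by
    have h1 : ∀ i, (φ' ≫ ψ) ≫ q i = 𝟙 X ≫ q i := fun i => by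
      rw [Category.assoc, hψ, reassoc_of% hφ', perfLiftOfPerfect_π, Category.id_comp]
    have h2 : (φ' ≫ ψ) ≫ e.inv = 𝟙 X ≫ e.inv := hc₀.hom_ext fun i => by
      simpa only [q, Category.assoc] using h1 i
    simpa using congrArg (fun f => f ≫ e.hom) h2
  obtain ⟨j, r, hr⟩ := hc Iᵒᵖ (perfDiagram p D) (limit.cone _) (limit.isLimit _)
    (fun i j a => inferInstance)
    (fun j => ⟨isPerfect_perf p _, inferInstance, inferInstance⟩) hLperf hLc hLqs ψ
  have hr' : limit.π (perfDiagram p D) j ≫ r = ψ := hr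
  let s : X ⟶ perf p (D.obj j) := perfLiftOfPerfect p (q j)
  have hsr : s ≫ r = 𝟙 X := by
    have h1 : s = φ' ≫ limit.π (perfDiagram p D) j := (hφ' j).symm
    rw [h1, Category.assoc, hr', hφψ]
  -- factor through a finite stage of the Frobenius tower
  haveI : LocallyOfFinitePresentation (t.app j) := (ht j).1
  haveI : ∀ {a b : (ULift.{u} ℕ)ᵒᵖ} (f : a ⟶ b), IsAffineHom ((tower p (D.obj j)).map f) :=
    fun f => inferInstance
  haveI : ∀ a, CompactSpace ((tower p (D.obj j)).obj a) := fun a => (hqcqs j).1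
  haveI : ∀ a, QuasiSeparatedSpace ((tower p (D.obj j)).obj a) := fun a => (hqcqs j).2
  obtain ⟨i, g₀, hg₀, -⟩ := Scheme.exists_π_app_comp_eq_of_locallyOfFinitePresentation
    (tower p (D.obj j))
    { app := fun _ => t.app j, naturality := fun _ _ _ => hom_SpecFp_ext p _ _ } (t.app j)
    (limit.cone (tower p (D.obj j))) (limit.isLimit _) (r ≫ s ≫ perfπ p (D.obj j) 0)
    (by ext a : 2; exact hom_SpecFp_ext p _ _)
  obtain ⟨n, hn⟩ : ∃ n : ℕ, i = op ⟨n⟩ := ⟨i.unop.down, rfl⟩
  subst hn
  obtain ⟨g, hg'⟩ : ∃ g : D.obj j ⟶ D.obj j,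
      perfπ p (D.obj j) n ≫ g = r ≫ s ≫ perfπ p (D.obj j) 0 := ⟨g₀, hg₀⟩
  clear hg₀ g₀
  have hqe : (s ≫ perfπ p (D.obj j) 0) ≫ g =
      (s ≫ perfπ p (D.obj j) 0) ≫ frobPow p (D.obj j) n := by
    calc (s ≫ perfπ p (D.obj j) 0) ≫ g
        = s ≫ (frobPow p (perf p (D.obj j)) n ≫ perfπ p (D.obj j) n) ≫ g := by
          rw [frobPow_perfπ, Category.assoc]
      _ = s ≫ frobPow p (perf p (D.obj j)) n ≫ r ≫ s ≫ perfπ p (D.obj j) 0 := by
          rw [Category.assoc, hg']
      _ = frobPow p X n ≫ (s ≫ r) ≫ s ≫ perfπ p (D.obj j) 0 := by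
          rw [← frobPow_comp_assoc p s n, Category.assoc]
      _ = frobPow p X n ≫ s ≫ perfπ p (D.obj j) 0 := by rw [hsr, Category.id_comp]
      _ = (s ≫ perfπ p (D.obj j) 0) ≫ frobPow p (D.obj j) n := by
          rw [frobPow_comp]
  haveI : IsLocallyNoetherian (D.obj j) :=
    @LocallyOfFiniteType.isLocallyNoetherian (D.obj j) (SpecFp.{u} p) (t.app j) inferInstance
      inferInstance
  have hπι : equalizer.lift (s ≫ perfπ p (D.obj j) 0) hqe ≫
      equalizer.ι g (frobPow p (D.obj j) n) = s ≫ perfπ p (D.obj j) 0 := equalizer.lift_ι _ _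
  refine ⟨equalizer g (frobPow p (D.obj j) n), equalizer.ι g (frobPow p (D.obj j) n) ≫ t.app j,
    inferInstance, inferInstance,
    quasiSeparatedSpace_of_quasiSeparated (equalizer.ι g (frobPow p (D.obj j) n)),
    equalizer.lift (s ≫ perfπ p (D.obj j) 0) hqe, ‹IsPerfect X p›, ?_⟩
  intro Z _ hZ
  haveI : IsPerfect Z p := hZ
  refine ⟨fun h1 h2 h => ?_, fun w => ?_⟩
  · have h' : h1 ≫ s ≫ perfπ p (D.obj j) 0 = h2 ≫ s ≫ perfπ p (D.obj j) 0 := by
      rw [← hπι, ← Category.assoc, ← Category.assoc]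
      exact congrArg (· ≫ equalizer.ι g (frobPow p (D.obj j) n)) h
    have h'' : h1 ≫ s = h2 ≫ s := perf_hom_ext_of_isPerfect p (by simpa using h')
    calc h1 = h1 ≫ s ≫ r := by rw [hsr, Category.comp_id]
      _ = h2 ≫ s ≫ r := by rw [← Category.assoc, h'', Category.assoc]
      _ = h2 := by rw [hsr, Category.comp_id]
  · have hw' : (w ≫ equalizer.ι g (frobPow p (D.obj j) n)) ≫ g =
        (w ≫ equalizer.ι g (frobPow p (D.obj j) n)) ≫ frobPow p (D.obj j) n := by
      rw [Category.assoc, Category.assoc, equalizer.condition]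
    refine ⟨perfLiftOfPerfect p (w ≫ equalizer.ι g (frobPow p (D.obj j) n)) ≫ r, ?_⟩
    show (perfLiftOfPerfect p (w ≫ equalizer.ι g (frobPow p (D.obj j) n)) ≫ r) ≫
      equalizer.lift (s ≫ perfπ p (D.obj j) 0) hqe = w
    haveI := isIso_frobPow p Z n
    rw [← cancel_mono (equalizer.ι g (frobPow p (D.obj j) n)), Category.assoc, Category.assoc,
      hπι, ← hg', ← cancel_epi (frobPow p Z n), perfLiftOfPerfect_π'_assoc, hw', frobPow_comp]

end Groth.Agent.Lib.helper9.PerfSch
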