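import Mathlib
import Groth.Prelude.Def_HTop

/-!
# fppf coverings are ph coverings (helper9)

`PhFppf.isPhCover_of_fppf`: parametrised by the domination statement (S0441).
-/

set_option autoImplicit false
set_option linter.style.haveILetI false
set_option backward.isDefEq.respectTransparency false

universe w u

open AlgebraicGeometry CategoryTheory Limits

namespace PhFppf

/-- The domination statement (S0441), as a hypothesis. -/
def Dom : Prop :=
  ∀ {U S : Scheme.{u}} (g : U ⟶ S) [Flat g] [LocallyOfFinitePresentation g] [Surjective g]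
    [CompactSpace ↑S] [QuasiSeparatedSpace ↑S],
    ∃ (S' : Scheme.{u}) (π : S' ⟶ S), Surjective π ∧ IsFinite π ∧ LocallyOfFinitePresentation π ∧
      ∀ y : ↑S', ∃ (V : S'.Opens) (h : ↑V ⟶ U), y ∈ V ∧ h ≫ g = V.ι ≫ π

theorem isPhCover_of_fppf (hDom : Dom.{u}) {T : Scheme.{u}} (E : PreZeroHypercover.{w} T)
    (hflat : ∀ i, Flat (E.f i)) (hfp : ∀ i, LocallyOfFinitePresentation (E.f i))
    (hsurj : ∀ t : T, ∃ (i : E.I₀) (x : E.X i), E.f i x = t) : HTop.IsPhCover E := by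
  classical
  refine ⟨fun i => inferInstance, fun U => ?_⟩
  haveI : IsAffine ((U : T.Opens) : Scheme.{u}) := U.2
  -- finitely many members suffice
  have hopen : ∀ i, IsOpen (Set.range (E.f i)) := fun i => (E.f i).isOpenMap.isOpen_range
  obtain ⟨s, hs⟩ := U.2.isCompact.elim_finite_subcover (fun i => Set.range (E.f i)) hopen
    (fun t _ => by
      obtain ⟨i, x, hx⟩ := hsurj t
      exact Set.mem_iUnion.mpr ⟨i, x, hx⟩)
  -- the coproduct of the base changes
  let Yk : s → Scheme.{u} := fun k => pullback (E.f k.1) (U : T.Opens).ι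
  let fk : ∀ k : s, Yk k ⟶ ((U : T.Opens) : Scheme.{u}) := fun k =>
    pullback.snd (E.f k.1) (U : T.Opens).ι
  obtain ⟨g, hg⟩ : ∃ g : (∐ Yk) ⟶ ((U : T.Opens) : Scheme.{u}), g = Sigma.desc fk := ⟨_, rfl⟩
  have hιg : ∀ k, Sigma.ι Yk k ≫ g = fk k := fun k => by rw [hg, Sigma.ι_desc]
  haveI : Flat g := hg ▸ IsZariskiLocalAtSource.sigmaDesc (fun k => inferInstance)
  haveI : LocallyOfFinitePresentation g :=
    hg ▸ IsZariskiLocalAtSource.sigmaDesc (fun k => inferInstance)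
  haveI : Surjective g := by
    rw [hg]
    refine Surjective.sigmaDesc_of_union_range_eq_univ ?_
    rw [Set.eq_univ_iff_forall]
    intro x
    have hx : (U : T.Opens).ι x ∈ ⋃ i ∈ s, Set.range (E.f i) := hs x.2
    obtain ⟨i, hi, hxi⟩ := Set.mem_iUnion₂.mp hx
    refine Set.mem_iUnion.mpr ⟨⟨i, hi⟩, ?_⟩
    simp only [fk]
    rw [Scheme.Pullback.range_snd]
    exact hxi
  obtain ⟨S', π, hπs, hπf, -, hlift⟩ := hDom g
  haveI : IsAffine S' := isAffine_of_isAffineHom π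
  -- affine refinement mapping into single members
  have hA : ∀ y : S', ∃ (A : S'.Opens) (i : E.I₀) (a : (A : Scheme.{u}) ⟶ E.X i),
      IsAffineOpen A ∧ y ∈ A ∧ a ≫ E.f i = (A.ι ≫ π) ≫ (U : T.Opens).ι := by
    intro y
    obtain ⟨V, h, hyV, hh⟩ := hlift y
    obtain ⟨k, z, hz⟩ : ∃ (k : s) (z : Yk k), Sigma.ι Yk k z = h ⟨y, hyV⟩ :=
      (sigmaOpenCover Yk).exists_eq (h ⟨y, hyV⟩)
    have hz' : h ⟨y, hyV⟩ ∈ (Sigma.ι Yk k).opensRange := ⟨z, hz⟩
    have hyO : y ∈ V.ι ''ᵁ (h ⁻¹ᵁ (Sigma.ι Yk k).opensRange) := ⟨⟨y, hyV⟩, hz', rfl⟩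
    obtain ⟨A, hA, hyA, hAO⟩ := exists_isAffineOpen_mem_and_subset hyO
    have hAV : A ≤ V := fun x hx => by
      obtain ⟨x', -, rfl⟩ := hAO hx
      exact x'.2
    have hrange : Set.range (S'.homOfLE hAV ≫ h) ⊆ Set.range (Sigma.ι Yk k) := by
      rintro _ ⟨x, rfl⟩
      obtain ⟨x', hx', hxx'⟩ := hAO x.2
      have : S'.homOfLE hAV x = x' := by
        apply V.ι.isOpenEmbedding.injective
        have e1 : V.ι (S'.homOfLE hAV x) = x.1 := by
          rw [← Scheme.Hom.comp_apply, Scheme.homOfLE_ι]; rfl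
        exact e1.trans hxx'.symm
      rw [Scheme.Hom.comp_apply, this]
      exact hx'
    let b : (A : Scheme.{u}) ⟶ Yk k := IsOpenImmersion.lift (Sigma.ι Yk k) _ hrange
    have hb : b ≫ Sigma.ι Yk k = S'.homOfLE hAV ≫ h := IsOpenImmersion.lift_fac _ _ _
    refine ⟨A, k.1, b ≫ pullback.fst (E.f k.1) (U : T.Opens).ι, hA, hyA, ?_⟩
    rw [Category.assoc, pullback.condition]
    change b ≫ fk k ≫ _ = _
    rw [← hιg k]
    simp only [← Category.assoc]
    rw [hb, Category.assoc (S'.homOfLE hAV), hh, ← Category.assoc (S'.homOfLE hAV),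
      Scheme.homOfLE_ι]
  choose A i a hAaff hyA ha using hA
  obtain ⟨r, hr⟩ := isCompact_univ.elim_finite_subcover (fun y : S' => (A y : Set S'))
    (fun y => (A y).2) (fun y _ => Set.mem_iUnion.mpr ⟨y, hyA y⟩)
  -- the standard ph covering, indexed by `Fin`
  let m := r.card
  let ε : Fin m ≃ r := r.equivFin.symm
  let F : PreZeroHypercover.{0} ((U : T.Opens) : Scheme.{u}) :=
    { I₀ := Fin m
      X := fun l => (A (ε l).1 : Scheme.{u})
      f := fun l => (A (ε l).1).ι ≫ π }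
  refine ⟨F, ⟨inferInstance, inferInstanceAs (Finite (Fin m)), fun l => hAaff _,
    S', π, fun l => (A (ε l).1).ι, inferInstance, hπs, fun l => inferInstance, fun l => rfl,
    fun x => ?_⟩, fun l => ⟨i (ε l).1, a (ε l).1, ha _⟩⟩
  have hx : x ∈ ⋃ y ∈ r, (A y : Set S') := hr trivial
  obtain ⟨y, hy, hxy⟩ := Set.mem_iUnion₂.mp hx
  obtain ⟨l, hl⟩ := ε.surjective ⟨y, hy⟩
  refine ⟨l, ?_⟩
  change x ∈ Set.range (A (ε l).1).ι
  rw [hl]
  exact ⟨⟨x, hxy⟩, rfl⟩

end PhFppf
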