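/-
Helper library (helper9): the spectrum of a product of fields, and realising a constructibly
closed subset of `Spec A` as the image of `Spec B → Spec A` with `B` a product of residue fields.
-/
import Groth.Agent.Lib.Helper9.ConsBasis
import Groth.Agent.Lib.Helper9.SpectralMap
import Mathlib.RingTheory.Spectrum.Prime.Topology
import Mathlib.RingTheory.LocalRing.ResidueField.Ideal

set_option autoImplicit false
set_option linter.style.haveILetI false

namespace Groth.Agent.Lib.helper9

open Topology TopologicalSpace Set PrimeSpectrum

universe u v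

section PiFields

variable {ι : Type u} {K : ι → Type v} [∀ i, Field (K i)]

/-- In a product of fields every basic open is clopen. -/
theorem isClopen_basicOpen_pi (b : ∀ i, K i) :
    IsClopen (basicOpen b : Set (PrimeSpectrum (∀ i, K i))) := by
  classical
  set e : ∀ i, K i := fun i => if b i = 0 then 0 else 1 with he_def
  set g : ∀ i, K i := fun i => (b i)⁻¹ with hg_def
  have hbg : b * g = e := by
    funext i
    by_cases h : b i = 0 <;> simp [he_def, hg_def, h]
  have heb : e * b = b := by
    funext i
    by_cases h : b i = 0 <;> simp [he_def, h]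
  have he : IsIdempotentElem e := by
    funext i
    by_cases h : b i = 0 <;> simp [he_def, h]
  have hb : basicOpen b = basicOpen e := by
    apply le_antisymm
    · rw [← heb, basicOpen_mul]; exact inf_le_left
    · rw [← hbg, basicOpen_mul]; exact inf_le_left
  rw [hb]
  exact isClopen_iff.mpr ⟨e, he, rfl⟩

/-- The "principal" point of the spectrum of a product of fields attached to an index. -/
noncomputable def piPoint (i : ι) : PrimeSpectrum (∀ i, K i) :=
  ⟨RingHom.ker (Pi.evalRingHom K i), RingHom.ker_isPrime _⟩

theorem mem_piPoint {i : ι} {b : ∀ i, K i} : b ∈ (piPoint (K := K) i).asIdeal ↔ b i = 0 :=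
  Iff.rfl

/-- The principal points are dense in the spectrum of a product of fields. -/
theorem dense_range_piPoint : Dense (Set.range (piPoint (K := K))) := by
  rw [isTopologicalBasis_basic_opens.dense_iff]
  rintro _ ⟨b, rfl⟩ ⟨x, hx⟩
  have hb : b ≠ 0 := by
    rintro rfl
    exact hx (zero_mem _)
  obtain ⟨i, hi⟩ : ∃ i, b i ≠ 0 := by
    by_contra h
    push Not at h
    exact hb (funext h)
  exact ⟨piPoint i, hi, ⟨i, rfl⟩⟩

variable {A : Type*} [CommRing A]

/-- The preimage of a constructible set in the spectrum of a product of fields is clopen. -/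
theorem isClopen_preimage_comap_pi (f : A →+* (∀ i, K i)) {C : Set (PrimeSpectrum A)}
    (hC : IsConstructible C) : IsClopen (comap f ⁻¹' C) := by
  induction hC using IsConstructible.empty_union_induction with
  | open_retrocompact U hUo hUr =>
    have hUc : IsCompact U := by simpa using hUr isCompact_univ isOpen_univ
    obtain ⟨s, hs, rfl⟩ := (isCompact_open_iff_eq_finite_iUnion_of_isTopologicalBasis
      (fun r : A => (basicOpen r : Set (PrimeSpectrum A)))
      isTopologicalBasis_basic_opens isCompact_basicOpen U).mp ⟨hUc, hUo⟩
    rw [Set.preimage_iUnion₂]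
    exact hs.isClopen_biUnion fun r _ => isClopen_basicOpen_pi (f r)
  | union s hs t ht hs' ht' => exact hs'.union ht'
  | compl s hs hs' => exact hs'.compl

end PiFields

/-- `comap` of a ring homomorphism is a spectral map. -/
theorem isSpectralMap_comap {A B : Type*} [CommRing A] [CommRing B] (f : A →+* B) :
    IsSpectralMap (comap f) := by
  refine ⟨continuous_comap f, fun U hUo hUc => ?_⟩
  obtain ⟨t, rfl⟩ := isCompact_isOpen_iff.mp ⟨hUc, hUo⟩
  classical
  rw [Set.preimage_compl, preimage_comap_zeroLocus]
  exact (isCompact_isOpen_iff.mpr ⟨t.image f, by simp⟩).1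

/-- A subset of `Spec A` which can be separated from each outside point by a constructible set is
the image of `Spec B → Spec A` for `B` the product of the residue fields of its points. -/
theorem exists_ringHom_range_comap_eq {A : Type u} [CommRing A] (E : Set (PrimeSpectrum A))
    (hE : ∀ p ∉ E, ∃ C : Set (PrimeSpectrum A), IsConstructible C ∧ E ⊆ C ∧ p ∉ C) :
    ∃ (B : Type u) (_ : CommRing B) (f : A →+* B), Set.range (comap f) = E := by
  classical
  let K : ↥E → Type u := fun p => p.1.asIdeal.ResidueField
  let f : A →+* (∀ p : ↥E, K p) := RingHom.pi fun p => algebraMap A (K p)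
  have hpt : ∀ p : ↥E, comap f (piPoint (K := K) p) = p.1 := by
    intro p
    ext a
    change f a ∈ (piPoint (K := K) p).asIdeal ↔ a ∈ p.1.asIdeal
    rw [mem_piPoint]
    exact Ideal.algebraMap_residueField_eq_zero
  refine ⟨∀ p : ↥E, K p, inferInstance, f, ?_⟩
  apply subset_antisymm
  · rintro _ ⟨q, rfl⟩
    by_contra hq
    obtain ⟨C, hC, hEC, hqC⟩ := hE _ hq
    have hclopen := isClopen_preimage_comap_pi f hC
    have hsub : Set.range (piPoint (K := K)) ⊆ comap f ⁻¹' C := by
      rintro _ ⟨p, rfl⟩
      show comap f (piPoint p) ∈ C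
      rw [hpt p]
      exact hEC p.2
    have : (Set.univ : Set (PrimeSpectrum (∀ p : ↥E, K p))) ⊆ comap f ⁻¹' C := by
      rw [← dense_range_piPoint.closure_eq]
      exact hclopen.1.closure_subset_iff.mpr hsub
    exact hqC (this (Set.mem_univ q))
  · intro p hp
    exact ⟨piPoint (K := K) ⟨p, hp⟩, hpt ⟨p, hp⟩⟩

/-- The image of `Spec B → Spec A` is an intersection of constructible sets. -/
theorem exists_sInter_isConstructible_of_range_comap {A B : Type*} [CommRing A] [CommRing B]
    (f : A →+* B) : ∃ S : Set (Set (PrimeSpectrum A)),
      (∀ s ∈ S, IsConstructible s) ∧ Set.range (comap f) = ⋂₀ S :=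
  isClosed_constructibleTopology_iff_sInter.mp
    (isClosed_constructibleTopology_range_of_isSpectralMap (isSpectralMap_comap f))

end Groth.Agent.Lib.helper9
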