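/-
Helper library (helper9): a pro-constructible subset of a quasi-compact scheme is the image of an
affine scheme.
-/
import Groth.Agent.Lib.Helper9.ProdFields
import Groth.Agent.Lib.Helper9.ProConsScheme
import Groth.Agent.S15542
import Mathlib.AlgebraicGeometry.Limits

set_option autoImplicit false
set_option linter.style.haveILetI false

namespace Groth.Agent.Lib.helper9

open Topology TopologicalSpace Set AlgebraicGeometry CategoryTheory Limits

universe u

/-- In a spectral (and locally spectral) space, a pro-constructible set is an intersection of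
constructible sets. -/
theorem exists_sInter_isConstructible_of_isProConstructible {X : Type u} [TopologicalSpace X]
    [QuasiSober X] [T0Space X] [LocallySpectral X] [CompactSpace X] [QuasiSeparatedSpace X]
    {E : Set X} (hE : ProCons.IsProConstructible E) :
    ∃ S : Set (Set X), (∀ s ∈ S, IsConstructible s) ∧ E = ⋂₀ S := by
  have hV : IsSpectralOpen (Set.univ : Set X) :=
    ⟨isOpen_univ, isCompact_univ, isQuasiSeparated_univ⟩
  have h := consClosedOn_of_isProConstructible hE hV
  haveI := hV.spectralSpace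
  obtain ⟨S', hS', hES'⟩ := isClosed_constructibleTopology_iff_sInter.mp h
  refine ⟨(fun T => Subtype.val '' T) '' S', ?_, ?_⟩
  · rintro _ ⟨T, hT, rfl⟩
    exact (hS' T hT).image_of_isOpenEmbedding isOpen_univ.isOpenEmbedding_subtypeVal (by simp)
  · ext x
    have hx : x ∈ E ↔ (⟨x, trivial⟩ : ↥(Set.univ : Set X)) ∈ Subtype.val ⁻¹' E := Iff.rfl
    rw [hx, hES']
    simp only [Set.mem_sInter, Set.mem_image, forall_exists_index, and_imp,
      forall_apply_eq_imp_iff₂]
    constructor
    · intro h T hT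
      exact ⟨⟨x, trivial⟩, h T hT, rfl⟩
    · intro h T hT
      obtain ⟨y, hy, hyx⟩ := h T hT
      have : y = ⟨x, trivial⟩ := Subtype.ext hyx
      exact this ▸ hy

/-- An intersection of constructible sets is pro-constructible. -/
theorem isProConstructible_sInter_of_isConstructible {X : Type u} [TopologicalSpace X]
    {S : Set (Set X)} (hS : ∀ s ∈ S, IsConstructible s) : ProCons.IsProConstructible (⋂₀ S) := by
  intro x
  refine ⟨Set.univ, isOpen_univ, Set.mem_univ x, (fun T => Subtype.val ⁻¹' T) '' S, ?_, ?_⟩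
  · rintro _ ⟨T, hT, rfl⟩
    exact ((hS T hT).preimage_of_isOpenEmbedding
      isOpen_univ.isOpenEmbedding_subtypeVal).isLocallyConstructible
  · rw [Set.sInter_image, Set.sInter_eq_biInter, Set.preimage_iInter₂]

/-- A pro-constructible subset of a quasi-compact scheme is the image of an affine scheme. -/
theorem exists_isAffine_range_eq_of_isProConstructible {X : Scheme.{u}} [CompactSpace X]
    {E : Set X} (hE : ProCons.IsProConstructible E) :
    ∃ (X' : Scheme.{u}) (f : X' ⟶ X), IsAffine X' ∧ Set.range f.base = E := by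
  classical
  have hloc : ∀ x : X, ∃ (U : X.Opens) (Y : Scheme.{u}) (g : Y ⟶ X), x ∈ U ∧ IsAffine Y ∧
      Set.range g.base = E ∩ (U : Set X) := by
    intro x
    obtain ⟨_, ⟨U, hU, rfl⟩, hxU, -⟩ :=
      X.isBasis_affineOpens.exists_subset_of_mem_open (Set.mem_univ x) isOpen_univ
    have hU' : IsAffineOpen U := hU
    have hE' : ProCons.IsProConstructible (hU'.fromSpec.base ⁻¹' E) :=
      Groth.Agent.S15542.result hU'.fromSpec E hE
    obtain ⟨S, hS, hES⟩ := exists_sInter_isConstructible_of_isProConstructible hE'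
    have hsep : ∀ p : ↥(Spec Γ(X, U)), p ∉ hU'.fromSpec.base ⁻¹' E →
        ∃ C : Set ↥(Spec Γ(X, U)), IsConstructible C ∧ hU'.fromSpec.base ⁻¹' E ⊆ C ∧ p ∉ C := by
      intro p hp
      rw [hES, Set.mem_sInter] at hp
      push Not at hp
      obtain ⟨C, hCS, hpC⟩ := hp
      exact ⟨C, hS C hCS, hES ▸ Set.sInter_subset_of_mem hCS, hpC⟩
    obtain ⟨B, _, φ, hφ⟩ := exists_ringHom_range_comap_eq (A := Γ(X, U))
      (hU'.fromSpec.base ⁻¹' E) hsep
    refine ⟨U, Spec (CommRingCat.of B), Spec.map (CommRingCat.ofHom φ) ≫ hU'.fromSpec, hxU,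
      inferInstance, ?_⟩
    have h1 : Set.range (Spec.map (CommRingCat.ofHom φ)).base = hU'.fromSpec.base ⁻¹' E := hφ
    have h2 : Set.range hU'.fromSpec.base = (U : Set X) := hU'.range_fromSpec
    rw [Scheme.Hom.comp_base, TopCat.coe_comp, Set.range_comp, h1,
      Set.image_preimage_eq_inter_range, h2]
  choose U Y g hxU hY hg using hloc
  obtain ⟨t, ht⟩ := isCompact_univ.elim_nhds_subcover (fun x => (U x : Set X))
    (fun x _ => (U x).2.mem_nhds (hxU x))
  refine ⟨∐ (fun i : ↥t => Y i.1), Sigma.desc (fun i : ↥t => g i.1), inferInstance, ?_⟩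
  ext y
  constructor
  · rintro ⟨z, rfl⟩
    obtain ⟨i, w, rfl⟩ := (sigmaOpenCover (fun i : ↥t => Y i.1)).exists_eq z
    have h3 : (Sigma.desc (fun i : ↥t => g i.1)).base
        ((Sigma.ι (fun i : ↥t => Y i.1) i).base w) = (g i.1).base w := by
      have := Scheme.Hom.comp_apply (Sigma.ι (fun i : ↥t => Y i.1) i)
        (Sigma.desc (fun i : ↥t => g i.1)) w
      rw [Sigma.ι_desc] at this
      exact this.symm
    have h4 : (g i.1).base w ∈ E ∩ (U i.1 : Set X) := (hg i.1) ▸ Set.mem_range_self w
    exact h3 ▸ h4.1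
  · intro hy
    have hyU := ht.2 (Set.mem_univ y)
    simp only [Set.mem_iUnion] at hyU
    obtain ⟨i, hi, hyi⟩ := hyU
    obtain ⟨w, hw⟩ : y ∈ Set.range (g i).base := by
      rw [hg i]
      exact ⟨hy, hyi⟩
    refine ⟨(Sigma.ι (fun i : ↥t => Y i.1) ⟨i, hi⟩).base w, ?_⟩
    have := Scheme.Hom.comp_apply (Sigma.ι (fun i : ↥t => Y i.1) ⟨i, hi⟩)
      (Sigma.desc (fun i : ↥t => g i.1)) w
    rw [Sigma.ι_desc] at this
    exact this.symm.trans hw

end Groth.Agent.Lib.helper9
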