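import Mathlib

/-!
# Properness over a henselian DVR: the topological core (helper9)

`isClosed_range_of_clopen_split`: the purely topological heart of "a separated scheme of finite type
over a henselian discrete valuation ring with proper closed fibre, connected generic fibre, and
whose generic fibre is not closed, is proper" (EGA IV 15.7.10, DVR case).  `X'` plays the role of
a Chow cover of `X` immersed by `j` into a proper `P`; the closure of `range j` is split into two
closed pieces `PA ⊔ PB` restricting on the closed fibre to `range j` and its complement.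
-/

set_option autoImplicit false

namespace Groth.Agent.Lib.helper9.PropDvr

open Set Topology

theorem isClosed_range_of_clopen_split {X' X P B : Type*} [TopologicalSpace X']
    [TopologicalSpace X] [TopologicalSpace P] [TopologicalSpace B]
    (π : X' → X) (hπc : Continuous π) (hπcl : IsClosedMap π) (hπs : Function.Surjective π)
    (j : X' → P) (hj : IsInducing j)
    (q : P → B) (hqcl : IsClosedMap q)
    (h : X → B) (hcomm : ∀ w, q (j w) = h (π w))
    (s η : B) (hB : ∀ b : B, b = s ∨ b = η) (hsη : η ≠ s)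
    (hs : ∀ C : Set B, IsClosed C → C.Nonempty → s ∈ C)
    (hopen : IsClosed (closure (range j) \ range j))
    (PA PB : Set P) (hPA : IsClosed PA) (hPB : IsClosed PB)
    (hcov : PA ∪ PB = closure (range j)) (hdisj : Disjoint PA PB)
    (hfib : ∀ p ∈ closure (range j), q p = s → (p ∈ PA ↔ p ∈ range j))
    (hconn : IsPreconnected (h ⁻¹' {η})) (hncl : ¬ IsClosed (h ⁻¹' {η})) :
    IsClosed (range j) := by
  have hPAT : PA ⊆ closure (range j) := hcov ▸ subset_union_left
  have hPBT : PB ⊆ closure (range j) := hcov ▸ subset_union_right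
  -- step (f): `PA ⊆ range j`
  have hPAj : PA ⊆ range j := by
    by_contra hcon
    have hC : IsClosed (PA ∩ (closure (range j) \ range j)) := hPA.inter hopen
    have hCne : (PA ∩ (closure (range j) \ range j)).Nonempty := by
      rw [not_subset] at hcon
      obtain ⟨p, hp, hpn⟩ := hcon
      exact ⟨p, hp, hPAT hp, hpn⟩
    have h1 := hs _ (hqcl _ hC) (hCne.image q)
    obtain ⟨p, ⟨hpA, hpT, hpn⟩, hqp⟩ := h1
    exact hpn ((hfib p hpT hqp).mp hpA)
  by_contra hne
  -- `PB` is nonempty
  have hPBne : PB.Nonempty := by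
    by_contra hemp
    rw [not_nonempty_iff_eq_empty] at hemp
    apply hne
    have : range j = closure (range j) := by
      apply subset_antisymm subset_closure
      rw [← hcov, hemp, union_empty]
      exact hPAj
    rw [this]
    exact isClosed_closure
  set V : Set X' := j ⁻¹' PB with hV
  set XA : Set X' := j ⁻¹' PA with hXA
  have hVcl : IsClosed V := hPB.preimage hj.continuous
  have hXAcl : IsClosed XA := hPA.preimage hj.continuous
  have hVXA : ∀ w, w ∈ XA ∨ w ∈ V := by
    intro w
    have : j w ∈ PA ∪ PB := by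
      rw [hcov]
      exact subset_closure (mem_range_self w)
    exact this
  have hVne : V.Nonempty := by
    obtain ⟨p, hp⟩ := hPBne
    have hp' : p ∈ closure (range j) := hPBT hp
    have hpA : p ∉ PA := fun hpA => (disjoint_left.mp hdisj hpA hp)
    rw [mem_closure_iff] at hp'
    obtain ⟨_, hx1, ⟨w, rfl⟩⟩ := hp' PAᶜ hPA.isOpen_compl hpA
    rcases hVXA w with h1 | h1
    · exact (hx1 h1).elim
    · exact ⟨w, h1⟩
  have hVη : ∀ w ∈ V, h (π w) = η := by
    intro w hw
    rcases hB (h (π w)) with h1 | h1
    · exfalso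
      have h2 : q (j w) = s := by rw [hcomm, h1]
      have h3 : j w ∈ PA := (hfib (j w) (subset_closure (mem_range_self w)) h2).mpr
        (mem_range_self w)
      exact disjoint_left.mp hdisj h3 hw
    · exact h1
  -- step (h)
  have hπV : IsClosed (π '' V) := hπcl _ hVcl
  have hπXA : IsClosed (π '' XA) := hπcl _ hXAcl
  have hcovX : h ⁻¹' {η} ⊆ π '' XA ∪ π '' V := by
    intro x _
    obtain ⟨w, rfl⟩ := hπs x
    rcases hVXA w with h1 | h1
    · exact Or.inl ⟨w, h1, rfl⟩
    · exact Or.inr ⟨w, h1, rfl⟩
  have hne1 : (h ⁻¹' {η} ∩ π '' V).Nonempty := by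
    obtain ⟨w, hw⟩ := hVne
    exact ⟨π w, hVη w hw, w, hw, rfl⟩
  have hne2 : (h ⁻¹' {η} ∩ π '' XA).Nonempty := by
    by_contra hemp
    rw [not_nonempty_iff_eq_empty] at hemp
    apply hncl
    have : h ⁻¹' {η} = π '' V := by
      apply subset_antisymm
      · intro x hx
        rcases hcovX hx with h1 | h1
        · have : x ∈ h ⁻¹' {η} ∩ π '' XA := ⟨hx, h1⟩
          rw [hemp] at this
          exact this.elim
        · exact h1
      · rintro _ ⟨w, hw, rfl⟩
        exact hVη w hw
    rw [this]
    exact hπV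
  obtain ⟨x, hxη, ⟨a, haA, rfl⟩, hxV⟩ :=
    (isPreconnected_closed_iff.mp hconn) _ _ hπXA hπV hcovX hne2 hne1
  have hC' : IsClosed (closure {j a}) := isClosed_closure
  have h1 := hs _ (hqcl _ hC') ⟨q (j a), j a, subset_closure rfl, rfl⟩
  obtain ⟨p₀, hp₀, hqp₀⟩ := h1
  have hp₀A : p₀ ∈ PA := (hPA.closure_subset_iff.mpr (singleton_subset_iff.mpr haA)) hp₀
  obtain ⟨a₀, rfl⟩ := hPAj hp₀A
  have hsp : j a ⤳ j a₀ := specializes_iff_mem_closure.mpr hp₀
  have hsp' : a ⤳ a₀ := hj.specializes_iff.mp hsp
  have hsp'' : π a ⤳ π a₀ := hsp'.map hπc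
  have h2 : π a₀ ∈ π '' V := hsp''.mem_closed hπV hxV
  obtain ⟨w, hw, hwe⟩ := h2
  have h3 : h (π a₀) = η := by rw [← hwe]; exact hVη w hw
  have h4 : h (π a₀) = s := by rw [← hcomm]; exact hqp₀
  exact hsη (h3.symm.trans h4)

end Groth.Agent.Lib.helper9.PropDvr
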