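import Groth.Agent.Lib.Helper9.PropDvr9
import Groth.Agent.Lib.Helper3.ConsNhds
import Groth.Agent.Lib.Helper5.ConsApprox1

/-!
# EGA IV 15.7.5 via henselian DVRs: the Noetherian case (helper9)

`DvrModelAt f Z y`: for every henselian DVR `R` and `g : Spec R ⟶ Y` whose closed point goes to a
generization of `y`, the preimage of `Z` in `X ×_Y Spec R` is the image of a scheme proper over `R`.

`exists_proper_model_aux`: if `Y` is Noetherian, `f` separated of finite type, `Z` locally
constructible and `DvrModelAt f Z y`, then over an open neighbourhood `U` of `y` the set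
`Z ∩ f⁻¹(U)` is the image of a scheme proper over `U`.
-/

set_option autoImplicit false
set_option linter.style.haveILetI false
set_option backward.isDefEq.respectTransparency false

universe u

open CategoryTheory CategoryTheory.Limits AlgebraicGeometry TopologicalSpace IsLocalRing Topology

namespace Groth.Agent.Lib.helper9.PropDvr

/-- hypothesis (HD): proper models over henselian DVRs centred at generizations of `y`. -/
def DvrModelAt {X Y : Scheme.{u}} (f : X ⟶ Y) (Z : Set X) (y : Y) : Prop :=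
  ∀ (R : Type u) [CommRing R] [IsDomain R] [IsDiscreteValuationRing R] [HenselianLocalRing R]
    (g : Spec (CommRingCat.of R) ⟶ Y), g (closedPoint R) ⤳ y →
    ∃ (T : Scheme.{u}) (i : T ⟶ pullback f g),
      Set.range i = (pullback.fst f g) ⁻¹' Z ∧ IsProper (i ≫ pullback.snd f g)

theorem exists_specializes_of_mem_closure {P : Scheme.{u}} {A : Set P} (hA : IsConstructible A)
    (b : P) (hb : b ∈ closure A) : ∃ a ∈ A, a ⤳ b := by
  by_contra hcon
  push Not at hcon
  have h1 : Aᶜ ∈ nhds b :=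
    Groth.Agent.Lib.helper3.ConsNhds.mem_nhds_of_isLocallyConstructible
      (isConstructible_compl.mpr hA).isLocallyConstructible b
      (fun y' hy' hA' => hcon y' hA' hy')
  obtain ⟨z, hz1, hz2⟩ := mem_closure_iff_nhds.mp hb _ h1
  exact hz1 hz2

theorem mem_image_of_mem_closure {X X' Y P : Scheme.{u}} [IsLocallyNoetherian P] (f : X ⟶ Y)
    (q : P ⟶ Y) [IsSeparated q] (π : X' ⟶ X) [IsProper π] (j : X' ⟶ P) (hjq : j ≫ q = π ≫ f)
    (Z : Set X) (y : Y) (H : DvrModelAt f Z y) (hA : IsConstructible (j '' (π ⁻¹' Z))) (b : P)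
    (hb : b ∈ closure (j '' (π ⁻¹' Z))) (hby : q b ⤳ y) : b ∈ j '' (π ⁻¹' Z) := by
  by_contra hbA
  obtain ⟨a, haA, hab⟩ := exists_specializes_of_mem_closure hA b hb
  obtain ⟨c, hcZ, rfl⟩ := haA
  have hne : j c ≠ b := fun h => hbA (h ▸ ⟨c, hcZ, rfl⟩)
  obtain ⟨R, _, _, _, _, g', hg'c, hg'η⟩ := exists_henselian_dvr b (j c) hne hab
  set g : Spec (CommRingCat.of R) ⟶ Y := g' ≫ q with hg
  have hgc : g (closedPoint R) ⤳ y := by
    rw [hg, Scheme.Hom.comp_apply, hg'c]
    exact hby
  obtain ⟨T₀, i, hrange, hprop⟩ := H R g hgc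
  haveI := hprop
  let πR : pullback (π ≫ f) g ⟶ pullback f g :=
    pullback.map (π ≫ f) g f g π (𝟙 _) (𝟙 _) (by simp) (by simp)
  have hπR1 : πR ≫ pullback.fst f g = pullback.fst (π ≫ f) g ≫ π := pullback.lift_fst _ _ _
  have hπR2 : πR ≫ pullback.snd f g = pullback.snd (π ≫ f) g := by simp [πR]
  have hsqπ : IsPullback πR (pullback.fst (π ≫ f) g) (pullback.fst f g) π := by
    have hright : IsPullback (pullback.snd f g) (pullback.fst f g) g f :=
      (IsPullback.of_hasPullback f g).flip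
    have houter : IsPullback (πR ≫ pullback.snd f g) (pullback.fst (π ≫ f) g) g (π ≫ f) := by
      rw [hπR2]
      exact (IsPullback.of_hasPullback (π ≫ f) g).flip
    exact IsPullback.of_right houter hπR1 hright
  haveI : IsProper πR := MorphismProperty.of_isPullback (P := @IsProper) hsqπ.flip inferInstance
  let jR : pullback (π ≫ f) g ⟶ pullback q g :=
    pullback.map (π ≫ f) g q g j (𝟙 _) (𝟙 _) (by rw [Category.comp_id, hjq]) (by simp)
  have hjR1 : jR ≫ pullback.fst q g = pullback.fst (π ≫ f) g ≫ j := pullback.lift_fst _ _ _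
  have hjR2 : jR ≫ pullback.snd q g = pullback.snd (π ≫ f) g := by simp [jR]
  have hsq : IsPullback jR (pullback.fst (π ≫ f) g) (pullback.fst q g) j := by
    have hright : IsPullback (pullback.snd q g) (pullback.fst q g) g q :=
      (IsPullback.of_hasPullback q g).flip
    have houter : IsPullback (jR ≫ pullback.snd q g) (pullback.fst (π ≫ f) g) g (j ≫ q) := by
      rw [hjR2, hjq]
      exact (IsPullback.of_hasPullback (π ≫ f) g).flip
    exact IsPullback.of_right houter hjR1 hright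
  let lam : pullback πR i ⟶ pullback q g := pullback.fst πR i ≫ jR
  have hlam : lam ≫ pullback.snd q g = pullback.snd πR i ≫ i ≫ pullback.snd f g := by
    change (pullback.fst πR i ≫ jR) ≫ pullback.snd q g = _
    rw [Category.assoc, hjR2, ← hπR2, ← Category.assoc, pullback.condition, Category.assoc]
  haveI : IsProper (lam ≫ pullback.snd q g) := by
    rw [hlam]
    infer_instance
  haveI : IsProper lam := IsProper.of_comp lam (pullback.snd q g)
  have hlamcl : IsClosed (Set.range lam) := lam.isClosedMap.isClosed_range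
  let σ : Spec (CommRingCat.of R) ⟶ pullback q g :=
    pullback.lift g' (𝟙 _) (by rw [Category.id_comp])
  have hσ1 : σ ≫ pullback.fst q g = g' := pullback.lift_fst _ _ _
  have hση : σ (⟨⊥, Ideal.isPrime_bot⟩ : PrimeSpectrum R) ∈ Set.range lam := by
    have h1 : (pullback.fst q g) (σ (⟨⊥, Ideal.isPrime_bot⟩ : PrimeSpectrum R)) = j c := by
      rw [← Scheme.Hom.comp_apply, hσ1, hg'η]
    obtain ⟨o, ho, ho2⟩ := Scheme.exists_preimage_of_isPullback hsq _ _ h1
    have ho3 : o ∈ Set.range (pullback.fst πR i) := by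
      rw [Scheme.Pullback.range_fst, hrange]
      change (pullback.fst f g) (πR o) ∈ Z
      rw [← Scheme.Hom.comp_apply, hπR1, Scheme.Hom.comp_apply, ho2]
      exact hcZ
    obtain ⟨t₁, ht₁⟩ := ho3
    refine ⟨t₁, ?_⟩
    change (pullback.fst πR i ≫ jR) t₁ = _
    rw [Scheme.Hom.comp_apply, ht₁, ho]
  have hsp : σ (⟨⊥, Ideal.isPrime_bot⟩ : PrimeSpectrum R) ⤳ σ (closedPoint R) :=
    (specializes_closedPoint (R := R) _).map σ.continuous
  obtain ⟨t₁, ht₁⟩ := hsp.mem_closed hlamcl hση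
  apply hbA
  refine ⟨(pullback.fst (π ≫ f) g) ((pullback.fst πR i) t₁), ?_, ?_⟩
  · change π ((pullback.fst (π ≫ f) g) ((pullback.fst πR i) t₁)) ∈ Z
    rw [← Scheme.Hom.comp_apply, ← hπR1, Scheme.Hom.comp_apply, ← Scheme.Hom.comp_apply _ πR,
      pullback.condition, Scheme.Hom.comp_apply]
    have : i ((pullback.snd πR i) t₁) ∈ Set.range i := ⟨_, rfl⟩
    rw [hrange] at this
    exact this
  · rw [← Scheme.Hom.comp_apply, ← hjR1, Scheme.Hom.comp_apply, ← Scheme.Hom.comp_apply _ jR]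
    change (pullback.fst q g) (lam t₁) = b
    rw [ht₁, ← Scheme.Hom.comp_apply, hσ1, hg'c]

theorem exists_proper_model_aux {X Y : Scheme.{u}} [IsNoetherian Y] (f : X ⟶ Y)
    [IsSeparated f] [LocallyOfFiniteType f] [QuasiCompact f] (Z : Set X)
    (hZ : IsLocallyConstructible Z) (y : Y) (H : DvrModelAt f Z y) :
    ∃ U : Y.Opens, y ∈ U ∧ ∃ (T : Scheme.{u}) (i : T ⟶ (f ⁻¹ᵁ U).toScheme),
      Set.range i = (f ⁻¹ᵁ U).ι ⁻¹' Z ∧ IsProper (i ≫ f ∣_ U) := by
  classical
  haveI : IsLocallyNoetherian X := LocallyOfFiniteType.isLocallyNoetherian f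
  haveI : CompactSpace X := QuasiCompact.compactSpace_of_compactSpace f
  haveI : IsNoetherian X :=
    { toIsLocallyNoetherian := inferInstance, toCompactSpace := inferInstance }
  have hfin : (irreducibleComponents X).Finite := NoetherianSpace.finite_irreducibleComponents
  obtain ⟨n, X', π, j, hjimm, hjq, hπp, hπs, -, -, -⟩ :=
    Groth.Agent.Lib.helper12.Chow11.chow_finite_components' f hfin
  haveI := hjimm
  haveI := hπp
  haveI := hπs
  set q : CohB1.ProjSpaceOver n Y ⟶ Y := CohB1.ProjSpaceOver.toBase n Y with hq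
  haveI : IsProper q := Groth.Agent.Lib.helper19.ProjSpaceProper.proper_toBase n _
  haveI : IsLocallyNoetherian X' := LocallyOfFiniteType.isLocallyNoetherian (π ≫ f)
  haveI : CompactSpace X' := QuasiCompact.compactSpace_of_compactSpace (π ≫ f)
  haveI : IsNoetherian X' :=
    { toIsLocallyNoetherian := inferInstance, toCompactSpace := inferInstance }
  haveI : IsLocallyNoetherian (CohB1.ProjSpaceOver n Y) :=
    LocallyOfFiniteType.isLocallyNoetherian q
  haveI : CompactSpace (CohB1.ProjSpaceOver n Y) := QuasiCompact.compactSpace_of_compactSpace q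
  haveI : IsNoetherian (CohB1.ProjSpaceOver n Y) :=
    { toIsLocallyNoetherian := inferInstance, toCompactSpace := inferInstance }
  have hZ' : IsLocallyConstructible (π ⁻¹' Z) :=
    Groth.Agent.Lib.helper5.ConsApprox.isLocallyConstructible_preimage π hZ
  haveI : LocallyOfFinitePresentation j :=
    LocallyOfFinitePresentation.iff_locallyOfFiniteType.mpr inferInstance
  haveI : LocallyOfFinitePresentation q :=
    LocallyOfFinitePresentation.iff_locallyOfFiniteType.mpr inferInstance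
  have hA : IsConstructible (j '' (π ⁻¹' Z)) := (j.isLocallyConstructible_image hZ').isConstructible
  have hclA : IsConstructible (closure (j '' (π ⁻¹' Z))) := by
    rw [← isConstructible_compl]
    exact (NoetherianSpace.isCompact _).isConstructible isClosed_closure.isOpen_compl
  have hB : IsConstructible (closure (j '' (π ⁻¹' Z)) \ j '' (π ⁻¹' Z)) := hclA.sdiff hA
  have hqB : IsConstructible (q '' (closure (j '' (π ⁻¹' Z)) \ j '' (π ⁻¹' Z))) :=
    q.isConstructible_image hB
  have hkey : ∀ y' : Y, y' ⤳ y →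
      y' ∈ (q '' (closure (j '' (π ⁻¹' Z)) \ j '' (π ⁻¹' Z)))ᶜ := by
    rintro y' hy' ⟨b, ⟨hb1, hb2⟩, rfl⟩
    exact hb2 (mem_image_of_mem_closure f q π j hjq Z y H hA b hb1 hy')
  have hnhds : (q '' (closure (j '' (π ⁻¹' Z)) \ j '' (π ⁻¹' Z)))ᶜ ∈ nhds y :=
    Groth.Agent.Lib.helper3.ConsNhds.mem_nhds_of_isLocallyConstructible
      (isConstructible_compl.mpr hqB).isLocallyConstructible y hkey
  obtain ⟨U₀, hU₀sub, hU₀o, hyU₀⟩ := mem_nhds_iff.mp hnhds
  let U : Y.Opens := ⟨U₀, hU₀o⟩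
  refine ⟨U, hyU₀, ?_⟩
  have hclU : ∀ p : CohB1.ProjSpaceOver n Y, p ∈ closure (j '' (π ⁻¹' Z)) → q p ∈ U →
      p ∈ j '' (π ⁻¹' Z) := by
    intro p hp hqp
    by_contra hpA
    exact hU₀sub hqp ⟨p, ⟨hp, hpA⟩, rfl⟩
  have hqj : ∀ w : X', q (j w) = f (π w) := by
    intro w
    rw [← Scheme.Hom.comp_apply, ← Scheme.Hom.comp_apply, hjq]
  let O' : X'.Opens := π ⁻¹ᵁ (f ⁻¹ᵁ U)
  have hO'mem : ∀ x : ↥O', f (π (O'.ι x)) ∈ U := by
    intro x
    rw [Scheme.Opens.ι_apply]
    exact x.2
  have hS : IsClosed (O'.ι ⁻¹' (π ⁻¹' Z)) := by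
    have : O'.ι ⁻¹' (π ⁻¹' Z) = (O'.ι ≫ j) ⁻¹' (closure (j '' (π ⁻¹' Z))) := by
      ext x
      constructor
      · intro hx
        change (O'.ι ≫ j) x ∈ closure (j '' (π ⁻¹' Z))
        rw [Scheme.Hom.comp_apply]
        exact subset_closure ⟨O'.ι x, hx, rfl⟩
      · intro hx
        have hx' : j (O'.ι x) ∈ closure (j '' (π ⁻¹' Z)) := by
          rw [← Scheme.Hom.comp_apply]
          exact hx
        have hU : q (j (O'.ι x)) ∈ U := by
          rw [hqj]
          exact hO'mem x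
        obtain ⟨z', hz', hz'j⟩ := hclU _ hx' hU
        have h5 : z' = O'.ι x := j.isEmbedding.injective hz'j
        change O'.ι x ∈ π ⁻¹' Z
        rw [← h5]
        exact hz'
    rw [this]
    exact isClosed_closure.preimage (O'.ι ≫ j).continuous
  let I := Scheme.IdealSheafData.vanishingIdeal (⟨O'.ι ⁻¹' (π ⁻¹' Z), hS⟩ : Closeds ↥(O'.toScheme))
  let i₀ : I.subscheme ⟶ O'.toScheme := I.subschemeι
  have hi₀ : Set.range i₀ = O'.ι ⁻¹' (π ⁻¹' Z) := by
    rw [Scheme.IdealSheafData.range_subschemeι, Scheme.IdealSheafData.coe_support_vanishingIdeal]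
    rfl
  let k : I.subscheme ⟶ CohB1.ProjSpaceOver n Y := i₀ ≫ O'.ι ≫ j
  have hkapp : ∀ t, k t = j (O'.ι (i₀ t)) := by
    intro t
    change (i₀ ≫ O'.ι ≫ j) t = _
    rw [Scheme.Hom.comp_apply, Scheme.Hom.comp_apply]
  have hk : Set.range k = closure (j '' (π ⁻¹' Z)) ∩ q ⁻¹' (U : Set Y) := by
    ext p
    constructor
    · rintro ⟨t, rfl⟩
      rw [hkapp]
      have h1 : i₀ t ∈ O'.ι ⁻¹' (π ⁻¹' Z) := by
        rw [← hi₀]
        exact ⟨t, rfl⟩
      refine ⟨subset_closure ⟨O'.ι (i₀ t), h1, rfl⟩, ?_⟩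
      change q (j (O'.ι (i₀ t))) ∈ U
      rw [hqj]
      exact hO'mem _
    · rintro ⟨hp1, hp2⟩
      obtain ⟨z', hz', rfl⟩ := hclU p hp1 hp2
      have hz'O : z' ∈ O' := by
        change f (π z') ∈ U
        rw [← hqj]
        exact hp2
      have h1 : (⟨z', hz'O⟩ : ↥O') ∈ Set.range i₀ := by
        rw [hi₀]
        change O'.ι ⟨z', hz'O⟩ ∈ π ⁻¹' Z
        rw [Scheme.Opens.ι_apply]
        exact hz'
      obtain ⟨t, ht⟩ := h1
      refine ⟨t, ?_⟩
      rw [hkapp, ht, Scheme.Opens.ι_apply]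
  let W : (CohB1.ProjSpaceOver n Y).Opens := q ⁻¹ᵁ U
  have hkW : Set.range k ⊆ Set.range W.ι := by
    rw [Scheme.Opens.range_ι, hk]
    exact Set.inter_subset_right
  let k' : I.subscheme ⟶ W.toScheme := IsOpenImmersion.lift W.ι k hkW
  have hk' : k' ≫ W.ι = k := IsOpenImmersion.lift_fac _ _ _
  haveI : IsImmersion k := inferInstance
  haveI : IsPreimmersion (k' ≫ W.ι) := by
    rw [hk']
    infer_instance
  haveI : IsPreimmersion k' := IsPreimmersion.of_comp k' W.ι
  have hk'cl : IsClosed (Set.range k') := by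
    have : Set.range k' = W.ι ⁻¹' (closure (j '' (π ⁻¹' Z))) := by
      ext w
      constructor
      · rintro ⟨t, rfl⟩
        have h1 : W.ι (k' t) ∈ Set.range k := ⟨t, by rw [← hk', Scheme.Hom.comp_apply]⟩
        rw [hk] at h1
        exact h1.1
      · intro hw
        have h1 : W.ι w ∈ Set.range k := by
          rw [hk]
          refine ⟨hw, ?_⟩
          change q (W.ι w) ∈ U
          rw [Scheme.Opens.ι_apply]
          exact w.2
        obtain ⟨t, ht⟩ := h1
        refine ⟨t, W.ι.isOpenEmbedding.injective ?_⟩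
        rw [← Scheme.Hom.comp_apply, hk']
        exact ht
    rw [this]
    exact isClosed_closure.preimage W.ι.continuous
  haveI : IsClosedImmersion k' := IsClosedImmersion.of_isPreimmersion k' hk'cl
  haveI : IsProper (q ∣_ U) := IsZariskiLocalAtTarget.restrict (P := @IsProper) inferInstance U
  refine ⟨I.subscheme, i₀ ≫ (π ∣_ (f ⁻¹ᵁ U)), ?_, ?_⟩
  · ext x
    constructor
    · rintro ⟨t, rfl⟩
      have h1 : i₀ t ∈ O'.ι ⁻¹' (π ⁻¹' Z) := by
        rw [← hi₀]
        exact ⟨t, rfl⟩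
      change (f ⁻¹ᵁ U).ι ((i₀ ≫ (π ∣_ (f ⁻¹ᵁ U))) t) ∈ Z
      rw [Scheme.Hom.comp_apply, Scheme.Opens.ι_apply, morphismRestrict_base_coe]
      rw [Set.mem_preimage, Scheme.Opens.ι_apply] at h1
      exact h1
    · intro hx
      have hx' : (f ⁻¹ᵁ U).ι x ∈ Z := hx
      obtain ⟨x', hx'π⟩ := π.surjective ((f ⁻¹ᵁ U).ι x)
      have hx'O : x' ∈ O' := by
        change π x' ∈ f ⁻¹ᵁ U
        rw [hx'π, Scheme.Opens.ι_apply]
        exact x.2
      have h1 : (⟨x', hx'O⟩ : ↥O') ∈ Set.range i₀ := by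
        rw [hi₀]
        change O'.ι ⟨x', hx'O⟩ ∈ π ⁻¹' Z
        rw [Scheme.Opens.ι_apply]
        change π x' ∈ Z
        rw [hx'π]
        exact hx'
      obtain ⟨t, ht⟩ := h1
      refine ⟨t, ?_⟩
      rw [Scheme.Hom.comp_apply, ht]
      apply Subtype.ext
      rw [morphismRestrict_base_coe, hx'π, Scheme.Opens.ι_apply]
  · have h1 : (i₀ ≫ (π ∣_ (f ⁻¹ᵁ U))) ≫ f ∣_ U = k' ≫ q ∣_ U := by
      rw [← cancel_mono U.ι]
      simp only [Category.assoc, morphismRestrict_ι]
      rw [morphismRestrict_ι_assoc, ← hjq, ← Category.assoc k', hk']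
      change _ = (i₀ ≫ O'.ι ≫ j) ≫ q
      simp only [Category.assoc]
      rfl
    rw [h1]
    infer_instance

end Groth.Agent.Lib.helper9.PropDvr
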