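import Groth.Agent.Lib.Helper9.PropDvr10

/-!
# EGA IV 15.7.5 (helper9)

* `exists_proper_model_of_dvrModelAt`: `PropDvr10.exists_proper_model_aux` over a locally Noetherian
  base.
* `dvrModelAt_of_fibrewise`: the fibrewise hypotheses of EGA IV 15.7.5 imply `DvrModelAt`.
* `isProper_subschemeι_of_model`: a set which is the image of a scheme proper over the base is closed
  and proper over the base with its reduced structure.
* `exists_isProper_reduced_of_fibrewise`: **EGA IV 15.7.5**.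
-/

set_option autoImplicit false
set_option linter.style.haveILetI false
set_option backward.isDefEq.respectTransparency false

universe u

open CategoryTheory CategoryTheory.Limits AlgebraicGeometry TopologicalSpace IsLocalRing Topology

namespace Groth.Agent.Lib.helper9.PropDvr

theorem dvrModelAt_morphismRestrict {X Y : Scheme.{u}} (f : X ⟶ Y) (Z : Set X) (V : Y.Opens)
    (y : Y) (hyV : y ∈ V) (H : DvrModelAt f Z y) :
    DvrModelAt (f ∣_ V) ((f ⁻¹ᵁ V).ι ⁻¹' Z) ⟨y, hyV⟩ := by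
  intro R _ _ _ _ g hgc
  have h1 : (g ≫ V.ι) (closedPoint R) ⤳ y := by
    rw [Scheme.Hom.comp_apply, Scheme.Opens.ι_apply]
    exact (subtype_specializes_iff _ _).mp hgc
  obtain ⟨T, i, hrange, hprop⟩ := H R (g ≫ V.ι) h1
  have hp : IsPullback (pullback.fst (f ∣_ V) g ≫ (f ⁻¹ᵁ V).ι) (pullback.snd (f ∣_ V) g) f
      (g ≫ V.ι) :=
    (IsPullback.of_hasPullback (f ∣_ V) g).paste_horiz (isPullback_morphismRestrict f V).flip
  refine ⟨T, i ≫ hp.isoPullback.inv, ?_, ?_⟩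
  · ext w
    constructor
    · rintro ⟨t, rfl⟩
      have h2 : i t ∈ (pullback.fst f (g ≫ V.ι)) ⁻¹' Z := by
        rw [← hrange]
        exact ⟨t, rfl⟩
      change (f ⁻¹ᵁ V).ι ((pullback.fst (f ∣_ V) g) ((i ≫ hp.isoPullback.inv) t)) ∈ Z
      rw [← Scheme.Hom.comp_apply, Scheme.Hom.comp_apply i, ← Scheme.Hom.comp_apply,
        hp.isoPullback_inv_fst]
      exact h2
    · intro hw
      have hw' : (f ⁻¹ᵁ V).ι ((pullback.fst (f ∣_ V) g) w) ∈ Z := hw
      have h2 : hp.isoPullback.hom w ∈ Set.range i := by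
        rw [hrange]
        change (pullback.fst f (g ≫ V.ι)) (hp.isoPullback.hom w) ∈ Z
        rw [← Scheme.Hom.comp_apply, hp.isoPullback_hom_fst, Scheme.Hom.comp_apply]
        exact hw'
      obtain ⟨t, ht⟩ := h2
      refine ⟨t, ?_⟩
      rw [Scheme.Hom.comp_apply, ht, ← Scheme.Hom.comp_apply, Iso.hom_inv_id]
      rfl
  · rw [Category.assoc, hp.isoPullback_inv_snd]
    exact hprop

/-- **EGA IV 15.7.5, the DVR form** (locally Noetherian base). -/
theorem exists_proper_model_of_dvrModelAt {X Y : Scheme.{u}} [IsLocallyNoetherian Y]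
    (f : X ⟶ Y) [IsSeparated f] [LocallyOfFiniteType f] [QuasiCompact f] (Z : Set X)
    (hZ : IsLocallyConstructible Z) (y : Y) (H : DvrModelAt f Z y) :
    ∃ U : Y.Opens, y ∈ U ∧ ∃ (T : Scheme.{u}) (i : T ⟶ (f ⁻¹ᵁ U).toScheme),
      Set.range i = (f ⁻¹ᵁ U).ι ⁻¹' Z ∧ IsProper (i ≫ f ∣_ U) := by
  obtain ⟨V, hV, hyV, -⟩ := exists_isAffineOpen_mem_and_subset (show y ∈ (⊤ : Y.Opens) from trivial)
  haveI : IsLocallyNoetherian (V : Scheme.{u}) := isLocallyNoetherian_of_isOpenImmersion V.ι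
  haveI : IsAffine (V : Scheme.{u}) := hV
  haveI : CompactSpace (V : Scheme.{u}) := inferInstance
  haveI : IsNoetherian (V : Scheme.{u}) :=
    { toIsLocallyNoetherian := inferInstance, toCompactSpace := inferInstance }
  haveI : IsSeparated (f ∣_ V) := IsZariskiLocalAtTarget.restrict (P := @IsSeparated) inferInstance V
  haveI : LocallyOfFiniteType (f ∣_ V) :=
    IsZariskiLocalAtTarget.restrict (P := @LocallyOfFiniteType) inferInstance V
  haveI : QuasiCompact (f ∣_ V) :=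
    IsZariskiLocalAtTarget.restrict (P := @QuasiCompact) inferInstance V
  have hZV : IsLocallyConstructible ((f ⁻¹ᵁ V).ι ⁻¹' Z) :=
    hZ.preimage_of_isOpenEmbedding (f ⁻¹ᵁ V).ι.isOpenEmbedding
  obtain ⟨U', hyU', T, i, hrange, hprop⟩ := exists_proper_model_aux (f ∣_ V) _ hZV ⟨y, hyV⟩
    (dvrModelAt_morphismRestrict f Z V y hyV H)
  obtain ⟨eL, eLinv, eR, heR, h3, hι, hw⟩ :
      ∃ (eL : ((f ∣_ V) ⁻¹ᵁ U').toScheme ⟶ (f ⁻¹ᵁ (V.ι ''ᵁ U')).toScheme)
        (eLinv : (f ⁻¹ᵁ (V.ι ''ᵁ U')).toScheme ⟶ ((f ∣_ V) ⁻¹ᵁ U').toScheme)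
        (eR : U'.toScheme ⟶ (V.ι ''ᵁ U').toScheme), IsIso eR ∧ eLinv ≫ eL = 𝟙 _ ∧
        eL ≫ (f ⁻¹ᵁ (V.ι ''ᵁ U')).ι = ((f ∣_ V) ⁻¹ᵁ U').ι ≫ (f ⁻¹ᵁ V).ι ∧
        eL ≫ (f ∣_ (V.ι ''ᵁ U')) = (f ∣_ V ∣_ U') ≫ eR := by
    refine ⟨(morphismRestrictRestrict f V U').hom.left, (morphismRestrictRestrict f V U').inv.left,
      (morphismRestrictRestrict f V U').hom.right, ?_, ?_, ?_, ?_⟩
    · infer_instance
    · rw [← Arrow.comp_left, Iso.inv_hom_id]
      rfl
    · simp [morphismRestrictRestrict]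
    · exact (morphismRestrictRestrict f V U').hom.w
  refine ⟨V.ι ''ᵁ U', ⟨⟨y, hyV⟩, hyU', rfl⟩, T, i ≫ eL, ?_, ?_⟩
  · ext w
    constructor
    · rintro ⟨t, rfl⟩
      have h2 : i t ∈ ((f ∣_ V) ⁻¹ᵁ U').ι ⁻¹' ((f ⁻¹ᵁ V).ι ⁻¹' Z) := by
        rw [← hrange]
        exact ⟨t, rfl⟩
      change (f ⁻¹ᵁ (V.ι ''ᵁ U')).ι ((i ≫ eL) t) ∈ Z
      rw [Scheme.Hom.comp_apply, ← Scheme.Hom.comp_apply eL, hι, Scheme.Hom.comp_apply]
      exact h2
    · intro hw0
      have hw' : (f ⁻¹ᵁ (V.ι ''ᵁ U')).ι w ∈ Z := hw0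
      have h2 : eLinv w ∈ Set.range i := by
        rw [hrange]
        change (f ⁻¹ᵁ V).ι (((f ∣_ V) ⁻¹ᵁ U').ι (eLinv w)) ∈ Z
        rw [← Scheme.Hom.comp_apply _ (f ⁻¹ᵁ V).ι, ← hι, Scheme.Hom.comp_apply,
          ← Scheme.Hom.comp_apply eLinv, h3]
        exact hw'
      obtain ⟨t, ht⟩ := h2
      refine ⟨t, ?_⟩
      rw [Scheme.Hom.comp_apply, ht, ← Scheme.Hom.comp_apply, h3]
      rfl
  · rw [Category.assoc, hw, ← Category.assoc]
    haveI := hprop
    infer_instance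

/-- the fibrewise hypotheses of EGA IV 15.7.5 give proper models over henselian DVRs. -/
theorem dvrModelAt_of_fibrewise {X Y : Scheme.{u}} [IsLocallyNoetherian Y] (y : Y)
    (f : X ⟶ Y) [IsSeparated f] [LocallyOfFiniteType f] [QuasiCompact f] (Z : Set X)
    (hconn : ∀ y' : Y, y' ⤳ y → FibGeomConn f Z y')
    (hopen : ∀ y' : Y, y' ⤳ y → IsOpen ((f.fiberι y') ⁻¹' Z))
    (hne : ∀ y' : Y, y' ⤳ y → ∃ x ∈ Z, f x = y')
    (hprop : FibClopenProper f Z y)
    (hsub : ∀ (Y' : Scheme.{u}) (g : Y' ⟶ Y), SubmersiveAlong f Z g) :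
    DvrModelAt f Z y := by
  have step : ∀ y' : Y, y' ⤳ y → FibClopenProper f Z y' := by
    intro y' hy'
    by_cases hyy : y' = y
    · rw [hyy]
      exact hprop
    · obtain ⟨R, _, _, _, _, g, hgc, hgη⟩ := exists_henselian_dvr y y' hyy hy'
      have hnc := exists_mem_closure_of_submersive f Z g (hsub _ g)
        (by rw [hgc]; exact hne y specializes_rfl) (by rw [hgη]; exact hne y' hy')
      have h1 := fibClopenProper_generic_of_dvr f Z g (by rw [hgc]; exact hprop)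
        (by rw [hgη]; exact hconn y' hy') (by rw [hgη]; exact hopen y' hy') hnc
      rw [hgη] at h1
      exact h1
  intro R _ _ _ _ g hgc
  have hgη : g (⟨⊥, Ideal.isPrime_bot⟩ : PrimeSpectrum R) ⤳ y :=
    ((specializes_closedPoint (R := R) _).map g.continuous).trans hgc
  have hnc := exists_mem_closure_of_submersive f Z g (hsub _ g) (hne _ hgc) (hne _ hgη)
  exact exists_proper_model_pullback f Z g (step _ hgc) (hconn _ hgη) hnc

/-- the image of a scheme proper over the base is closed and, with its reduced structure, proper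
over the base. -/
theorem isProper_subschemeι_of_model {X₀ U₀ T : Scheme.{u}} (φ : X₀ ⟶ U₀) [IsSeparated φ]
    [LocallyOfFiniteType φ] (i : T ⟶ X₀) [IsProper (i ≫ φ)] (S : Set X₀)
    (hS : Set.range i = S) :
    ∃ hC : IsClosed S, IsProper ((Scheme.IdealSheafData.vanishingIdeal
      (⟨S, hC⟩ : Closeds X₀)).subschemeι ≫ φ) := by
  haveI : IsProper i := IsProper.of_comp i φ
  have hC : IsClosed S := by
    rw [← hS]
    exact i.isClosedMap.isClosed_range
  refine ⟨hC, ?_⟩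
  let I := Scheme.IdealSheafData.vanishingIdeal (⟨S, hC⟩ : Closeds X₀)
  have hrange : Set.range I.subschemeι = S := by
    rw [Scheme.IdealSheafData.range_subschemeι, Scheme.IdealSheafData.coe_support_vanishingIdeal]
    rfl
  haveI : Surjective (pullback.snd i I.subschemeι) := by
    refine ⟨fun c => ?_⟩
    have h1 : I.subschemeι c ∈ Set.range i := by
      rw [hS, ← hrange]
      exact ⟨c, rfl⟩
    obtain ⟨t, ht⟩ := h1
    obtain ⟨z, -, hz⟩ := Scheme.Pullback.exists_preimage_pullback t c ht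
    exact ⟨z, hz⟩
  haveI : IsProper (pullback.snd i I.subschemeι ≫ I.subschemeι ≫ φ) := by
    rw [← Category.assoc, ← pullback.condition, Category.assoc]
    infer_instance
  haveI : UniversallyClosed (I.subschemeι ≫ φ) :=
    UniversallyClosed.of_comp_surjective (pullback.snd i I.subschemeι) (I.subschemeι ≫ φ)
  exact (isProper_iff _).mpr ⟨inferInstance, inferInstance, inferInstance⟩

/-- **EGA IV 15.7.5.** -/
theorem exists_isProper_reduced_of_fibrewise {X Y : Scheme.{u}} [IsLocallyNoetherian Y] (y : Y)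
    (f : X ⟶ Y) [IsSeparated f] [LocallyOfFiniteType f] [QuasiCompact f] (Z : Set X)
    (hZ : IsLocallyConstructible Z)
    (hconn : ∀ y' : Y, y' ⤳ y → FibGeomConn f Z y')
    (hopen : ∀ y' : Y, y' ⤳ y → IsOpen ((f.fiberι y') ⁻¹' Z))
    (hne : ∀ y' : Y, y' ⤳ y → ∃ x ∈ Z, f x = y')
    (hprop : FibClopenProper f Z y)
    (hsub : ∀ (Y' : Scheme.{u}) (g : Y' ⟶ Y), SubmersiveAlong f Z g) :
    ∃ U : Y.Opens, y ∈ U ∧ ∃ hC : IsClosed ((f ⁻¹ᵁ U).ι ⁻¹' Z),
      IsProper ((Scheme.IdealSheafData.vanishingIdeal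
        (⟨(f ⁻¹ᵁ U).ι ⁻¹' Z, hC⟩ : Closeds ↥(f ⁻¹ᵁ U))).subschemeι ≫ (f ∣_ U)) := by
  obtain ⟨U, hyU, T, i, hrange, hprop'⟩ := exists_proper_model_of_dvrModelAt f Z hZ y
    (dvrModelAt_of_fibrewise y f Z hconn hopen hne hprop hsub)
  refine ⟨U, hyU, ?_⟩
  haveI := hprop'
  haveI : IsSeparated (f ∣_ U) := IsZariskiLocalAtTarget.restrict (P := @IsSeparated) inferInstance U
  haveI : LocallyOfFiniteType (f ∣_ U) :=
    IsZariskiLocalAtTarget.restrict (P := @LocallyOfFiniteType) inferInstance U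
  exact isProper_subschemeι_of_model (f ∣_ U) i _ hrange

end Groth.Agent.Lib.helper9.PropDvr
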