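import Groth.Agent.Lib.Helper9.PropDvr11

/-!
# Connected components of fibres (helper9)

Glue between the set-theoretic fibre `f ⁻¹' {y'}` and the scheme-theoretic fibre `f.fiber y'`, used to
feed `PropDvr11.exists_isProper_reduced_of_fibrewise`.
-/

set_option autoImplicit false
set_option linter.style.haveILetI false
set_option backward.isDefEq.respectTransparency false

universe u

open CategoryTheory CategoryTheory.Limits AlgebraicGeometry TopologicalSpace

namespace Groth.Agent.Lib.helper9.PropDvr

/-- if `Z ∩ f⁻¹(y')` is the connected component of `x` in `f⁻¹(y')` then the trace of `Z` on the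
scheme-theoretic fibre is a connected component of it. -/
theorem exists_connectedComponent_fiber {X Y : Scheme.{u}} (f : X ⟶ Y) (Z : Set X) (y' : Y) (x : X)
    (hfx : f x = y')
    (hcc : Z ∩ f ⁻¹' {y'} = connectedComponentIn (f ⁻¹' {y'}) x) :
    ∃ w : f.fiber y', (f.fiberι y') ⁻¹' Z = connectedComponent w := by
  have hxF : x ∈ f ⁻¹' {y'} := hfx
  obtain ⟨w, hw⟩ : x ∈ Set.range (f.fiberι y') := by
    rw [Scheme.Hom.range_fiberι]
    exact hxF
  refine ⟨w, ?_⟩
  have h0 : (f.fiberι y') ⁻¹' Z = (f.fiberι y') ⁻¹' (connectedComponentIn (f ⁻¹' {y'}) x) := by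
    rw [← hcc]
    ext v
    constructor
    · intro hv
      refine ⟨hv, ?_⟩
      have : (f.fiberι y') v ∈ Set.range (f.fiberι y') := ⟨v, rfl⟩
      rw [Scheme.Hom.range_fiberι] at this
      exact this
    · intro hv
      exact hv.1
  rw [h0]
  apply Set.Subset.antisymm
  · apply IsPreconnected.subset_connectedComponent
    · rw [← (f.fiberι y').isEmbedding.isInducing.isPreconnected_image,
        Set.image_preimage_eq_inter_range, Scheme.Hom.range_fiberι,
        Set.inter_eq_left.mpr (connectedComponentIn_subset _ _)]
      exact isPreconnected_connectedComponentIn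
    · change (f.fiberι y') w ∈ connectedComponentIn (f ⁻¹' {y'}) x
      rw [hw]
      exact mem_connectedComponentIn hxF
  · rw [← Set.image_subset_iff]
    apply IsPreconnected.subset_connectedComponentIn
    · exact isPreconnected_connectedComponent.image _ (f.fiberι y').continuous.continuousOn
    · exact ⟨w, mem_connectedComponent, hw⟩
    · rintro _ ⟨v, -, rfl⟩
      have : (f.fiberι y') v ∈ Set.range (f.fiberι y') := ⟨v, rfl⟩
      rw [Scheme.Hom.range_fiberι] at this
      exact this

/-- connected components of a fibre of a morphism of finite type are open. -/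
theorem isOpen_connectedComponent_fiber {X Y : Scheme.{u}} (f : X ⟶ Y) [LocallyOfFiniteType f]
    [QuasiCompact f] (y' : Y) (w : f.fiber y') : IsOpen (connectedComponent w) := by
  haveI : LocallyOfFiniteType (f.fiberToSpecResidueField y') :=
    MorphismProperty.pullback_snd (P := @LocallyOfFiniteType) _ _ inferInstance
  haveI : IsLocallyNoetherian (f.fiber y') :=
    LocallyOfFiniteType.isLocallyNoetherian (f.fiberToSpecResidueField y')
  haveI : IsNoetherian (f.fiber y') :=
    { toIsLocallyNoetherian := inferInstance, toCompactSpace := inferInstance }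
  exact Groth.Agent.S2277.isOpen_connectedComponent_of_noetherian w

end Groth.Agent.Lib.helper9.PropDvr
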