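import Groth.Agent.Lib.Helper9.PropDvr1
import Groth.Agent.Lib.Helper12.Chow11
import Groth.Agent.Lib.Helper11.HensCouple3
import Groth.Agent.Lib.Helper19.ProjSpaceProper

/-!
# Properness over a henselian discrete valuation ring (helper9)

`isProper_of_henselian_dvr` (EGA IV 15.7.10, DVR case, slightly generalised): let `R` be a henselian
discrete valuation ring and `h : X ⟶ Spec R` separated of finite type, such that the closed fibre is
proper over the residue field, the generic fibre is (pre)connected and is *not closed* in `X`
(e.g. `h` flat with nonempty closed fibre, or `h` submersive). Then `h` is proper.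

Proof: Chow's lemma (helper12) gives `π : X' ⟶ X` proper surjective and an immersion
`j : X' ⟶ P = ℙⁿ_R`.  The closure `T` of `range j` (reduced structure) is proper over `R`; the closed
fibre of `T` is the disjoint union of the closed fibre of `range j` (closed, as the closed fibre of
`X'` is proper) and of its complement.  As `R` is henselian this decomposition lifts to a clopen
decomposition of `T` (helper11 `HensCouple.existsUnique_clopen`), and the topological core
`isClosed_range_of_clopen_split` shows `range j` is closed, i.e. `X'` is proper over `R`.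
-/

set_option autoImplicit false
set_option linter.style.haveILetI false
set_option backward.isDefEq.respectTransparency false

universe u

open CategoryTheory CategoryTheory.Limits AlgebraicGeometry TopologicalSpace IsLocalRing

namespace Groth.Agent.Lib.helper9.PropDvr

/-- In the spectrum of a DVR every point is the closed point or the generic point. -/
theorem eq_closedPoint_or_eq_bot {R : Type u} [CommRing R] [IsDomain R]
    [IsDiscreteValuationRing R] (p : PrimeSpectrum R) :
    p = closedPoint R ∨ p = ⟨⊥, Ideal.isPrime_bot⟩ := by
  by_cases hp : p.asIdeal = ⊥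
  · right
    exact PrimeSpectrum.ext hp
  · left
    apply PrimeSpectrum.ext
    have : p.asIdeal.IsMaximal := Ring.DimensionLEOne.maximalOfPrime hp p.2
    exact IsLocalRing.eq_maximalIdeal this

theorem bot_ne_closedPoint {R : Type u} [CommRing R] [IsDomain R]
    [IsDiscreteValuationRing R] :
    (⟨⊥, Ideal.isPrime_bot⟩ : PrimeSpectrum R) ≠ closedPoint R := by
  intro h
  have h1 : (⊥ : Ideal R) = maximalIdeal R := congrArg PrimeSpectrum.asIdeal h
  exact IsDiscreteValuationRing.not_a_field R h1.symm

/-- every nonempty closed subset of the spectrum of a local ring contains the closed point. -/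
theorem closedPoint_mem_of_isClosed {R : Type u} [CommRing R] [IsLocalRing R]
    (C : Set (PrimeSpectrum R)) (hC : IsClosed C) (hne : C.Nonempty) : closedPoint R ∈ C := by
  obtain ⟨p, hp⟩ := hne
  exact (specializes_closedPoint p).mem_closed hC hp

theorem isProper_of_henselian_dvr {R : Type u} [CommRing R] [IsDomain R]
    [IsDiscreteValuationRing R] [HenselianLocalRing R]
    {X : Scheme.{u}} (h : X ⟶ Spec (CommRingCat.of R)) [IsSeparated h] [LocallyOfFiniteType h]
    [QuasiCompact h]
    (hs : IsProper (h.fiberToSpecResidueField (closedPoint R)))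
    (hconn : _root_.IsPreconnected (h ⁻¹' {(⟨⊥, Ideal.isPrime_bot⟩ : PrimeSpectrum R)}))
    (hncl : ¬ IsClosed (h ⁻¹' {(⟨⊥, Ideal.isPrime_bot⟩ : PrimeSpectrum R)})) : IsProper h := by
  classical
  set s : ↥(Spec (CommRingCat.of R)) := closedPoint R with hs_def
  set η : ↥(Spec (CommRingCat.of R)) := (⟨⊥, Ideal.isPrime_bot⟩ : PrimeSpectrum R) with hη_def
  haveI : IsNoetherianRing (CommRingCat.of R) := (inferInstance : IsNoetherianRing R)
  haveI : IsLocallyNoetherian X := LocallyOfFiniteType.isLocallyNoetherian h
  haveI : CompactSpace X := QuasiCompact.compactSpace_of_compactSpace h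
  haveI : IsNoetherian X := {}
  have hfin : (irreducibleComponents X).Finite :=
    NoetherianSpace.finite_irreducibleComponents
  obtain ⟨n, X', π, j, hjimm, hjq, hπp, hπs, -, -, -⟩ :=
    Groth.Agent.Lib.helper12.Chow11.chow_finite_components' h hfin
  haveI := hjimm
  haveI := hπp
  haveI := hπs
  set q : CohB1.ProjSpaceOver n (Spec (CommRingCat.of R)) ⟶ Spec (CommRingCat.of R) :=
    CohB1.ProjSpaceOver.toBase n (Spec (CommRingCat.of R)) with hq
  haveI : IsProper q := Groth.Agent.Lib.helper19.ProjSpaceProper.proper_toBase n _
  -- it suffices to show that `range j` is closed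
  suffices hcl : IsClosed (Set.range j) by
    haveI : IsClosedImmersion j := IsClosedImmersion.of_isPreimmersion j hcl
    haveI : IsProper (j ≫ q) := inferInstance
    haveI : IsProper (π ≫ h) := hjq ▸ this
    haveI : UniversallyClosed h := UniversallyClosed.of_comp_surjective π h
    exact {}
  -- the closure of `range j`
  let T : Closeds ↥(CohB1.ProjSpaceOver n (Spec (CommRingCat.of R))) := ⟨closure (Set.range j), isClosed_closure⟩
  let ιT := (Scheme.IdealSheafData.vanishingIdeal T).subschemeι
  have hιT : Set.range ιT = closure (Set.range j) := by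
    rw [Scheme.IdealSheafData.range_subschemeι, Scheme.IdealSheafData.coe_support_vanishingIdeal]
    rfl
  have hιTemb : Topology.IsClosedEmbedding ιT := ιT.isClosedEmbedding
  haveI : IsProper (ιT ≫ q) := inferInstance
  -- `range j` is open in its closure
  have hopen : IsClosed (closure (Set.range j) \ Set.range j) := by
    have h1 : IsOpen (coborder (Set.range j)) := j.isLocallyClosed_range.isOpen_coborder
    have h2 : closure (Set.range j) \ Set.range j = (coborder (Set.range j))ᶜ := by
      rw [coborder, compl_compl]
    rw [h2]
    exact h1.isClosed_compl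
  -- the closed fibre of `range j` is closed in `P`
  have hCs : IsClosed (Set.range j ∩ q ⁻¹' {s}) := by
    set F := (π ≫ h).fiber s with hF
    set φ : F ⟶ X' := (π ≫ h).fiberι s with hφ
    set st : F ⟶ Spec ((Spec (CommRingCat.of R)).residueField s) :=
      (π ≫ h).fiberToSpecResidueField s with hst
    -- `st` is proper
    haveI : IsProper st := by
      let e := pullbackRightPullbackFstIso h
        ((Spec (CommRingCat.of R)).fromSpecResidueField s) π
      have h0 : e.hom ≫ st = pullback.snd π (pullback.fst h
          ((Spec (CommRingCat.of R)).fromSpecResidueField s)) ≫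
          h.fiberToSpecResidueField s :=
        pullbackRightPullbackFstIso_hom_snd h
          ((Spec (CommRingCat.of R)).fromSpecResidueField s) π
      have h1 : st = e.inv ≫ pullback.snd π (pullback.fst h
          ((Spec (CommRingCat.of R)).fromSpecResidueField s)) ≫
          h.fiberToSpecResidueField s := by
        rw [Iso.eq_inv_comp]
        exact h0
      rw [h1]
      haveI := hs
      infer_instance
    set G := q.fiber s with hG
    set γ : G ⟶ CohB1.ProjSpaceOver n (Spec (CommRingCat.of R)) := q.fiberι s with hγ
    have hcomm : (φ ≫ j) ≫ q = st ≫ (Spec (CommRingCat.of R)).fromSpecResidueField s := by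
      rw [Category.assoc, hjq]
      exact pullback.condition
    let jF : F ⟶ G := pullback.lift (φ ≫ j) st hcomm
    have hjF1 : jF ≫ γ = φ ≫ j := pullback.lift_fst _ _ _
    have hjF2 : jF ≫ q.fiberToSpecResidueField s = st := pullback.lift_snd _ _ _
    haveI : IsProper (jF ≫ q.fiberToSpecResidueField s) := by rw [hjF2]; infer_instance
    haveI : IsSeparated (q.fiberToSpecResidueField s) :=
      MorphismProperty.pullback_snd (P := @IsSeparated) _ _ inferInstance
    haveI : IsProper jF := IsProper.of_comp jF (q.fiberToSpecResidueField s)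
    have h1 : IsClosed (Set.range jF) := jF.isClosedMap.isClosed_range
    have hγemb : Topology.IsClosedEmbedding γ := by
      refine ⟨γ.isEmbedding, ?_⟩
      rw [hγ, Scheme.Hom.range_fiberι]
      exact (isClosed_singleton_closedPoint (R := R)).preimage q.continuous
    have h2 : IsClosed (γ '' Set.range jF) := hγemb.isClosedMap _ h1
    have h3 : γ '' Set.range jF = Set.range j ∩ q ⁻¹' {s} := by
      rw [← Set.range_comp]
      have h4 : (γ : G → ↥(CohB1.ProjSpaceOver n (Spec (CommRingCat.of R)))) ∘ jF =
          (j : X' → ↥(CohB1.ProjSpaceOver n (Spec (CommRingCat.of R)))) ∘ φ := by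
        ext t
        change (jF ≫ γ) t = (φ ≫ j) t
        rw [hjF1]
      rw [h4, Set.range_comp, hφ, Scheme.Hom.range_fiberι]
      ext p
      constructor
      · rintro ⟨w, hw, rfl⟩
        refine ⟨⟨w, rfl⟩, ?_⟩
        change q (j w) = s
        have : q (j w) = (π ≫ h) w := by
          rw [← Scheme.Hom.comp_apply, hjq]
        rw [this]
        exact hw
      · rintro ⟨⟨w, rfl⟩, hw⟩
        refine ⟨w, ?_, rfl⟩
        change (π ≫ h) w = s
        have : q (j w) = (π ≫ h) w := by
          rw [← Scheme.Hom.comp_apply, hjq]
        rw [← this]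
        exact hw
    rw [← h3]
    exact h2
  -- the closed fibre of `T`
  let Tsch := (Scheme.IdealSheafData.vanishingIdeal T).subscheme
  let Y₀ := {t : Tsch // (ιT ≫ q) t = s}
  let j₀ : Y₀ → Tsch := Subtype.val
  have hsclosed : IsClosed ({s} : Set ↥(Spec (CommRingCat.of R))) :=
    isClosed_singleton_closedPoint (R := R)
  have hj₀ : Topology.IsClosedEmbedding j₀ :=
    (hsclosed.preimage (ιT ≫ q).continuous).isClosedEmbedding_subtypeVal
  have hrange : Set.range j₀ = (ιT ≫ q) ⁻¹'
      (PrimeSpectrum.zeroLocus ((maximalIdeal R : Ideal R) : Set R)) := by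
    have : PrimeSpectrum.zeroLocus ((maximalIdeal R : Ideal R) : Set R) = {closedPoint R} := by
      ext p
      rw [PrimeSpectrum.mem_zeroLocus, Set.mem_singleton_iff]
      constructor
      · intro hp
        apply PrimeSpectrum.ext
        exact (IsLocalRing.eq_maximalIdeal
          (Ideal.IsMaximal.eq_of_le (maximalIdeal.isMaximal R) p.2.ne_top hp ▸
            maximalIdeal.isMaximal R))
      · rintro rfl
        exact le_rfl
    rw [this]
    exact Subtype.range_val
  let A₀ : Set Y₀ := {t | ιT t.1 ∈ Set.range j}
  have hA₀ : IsClopen A₀ := by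
    constructor
    · -- closed
      have : A₀ = j₀ ⁻¹' (ιT ⁻¹' (Set.range j ∩ q ⁻¹' {s})) := by
        ext t
        constructor
        · intro ht
          exact ⟨ht, t.2⟩
        · intro ht
          exact ht.1
      rw [this]
      exact (hCs.preimage ιT.continuous).preimage hj₀.continuous
    · -- open
      have h1 : IsOpen (coborder (Set.range j)) := j.isLocallyClosed_range.isOpen_coborder
      have : A₀ = j₀ ⁻¹' (ιT ⁻¹' (coborder (Set.range j))) := by
        ext t
        constructor
        · intro ht
          exact subset_coborder ht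
        · intro ht
          have h2 : ιT t.1 ∈ closure (Set.range j) := hιT ▸ Set.mem_range_self _
          have h3 : ιT t.1 ∈ coborder (Set.range j) ∩ closure (Set.range j) := ⟨ht, h2⟩
          rw [coborder_inter_closure] at h3
          exact h3
      rw [this]
      exact (h1.preimage ιT.continuous).preimage hj₀.continuous
  obtain ⟨U, ⟨hU, hUA⟩, -⟩ :=
    Groth.Agent.Lib.helper11.HensCouple.existsUnique_clopen (maximalIdeal R)
      (inferInstance : HenselianRing R (maximalIdeal R)) (ιT ≫ q) j₀ hj₀ hrange A₀ hA₀
  -- apply the topological core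
  refine isClosed_range_of_clopen_split π π.continuous π.isClosedMap π.surjective j
    j.isEmbedding.isInducing q q.isClosedMap h ?_ s η ?_ bot_ne_closedPoint ?_ hopen
    (ιT '' U) (ιT '' Uᶜ) (hιTemb.isClosedMap _ hU.1) (hιTemb.isClosedMap _ hU.compl.1) ?_ ?_ ?_
    hconn hncl
  · intro w
    rw [← Scheme.Hom.comp_apply, ← Scheme.Hom.comp_apply, hjq]
  · intro b
    exact eq_closedPoint_or_eq_bot b
  · intro C hC hne
    exact closedPoint_mem_of_isClosed C hC hne
  · rw [← Set.image_union, Set.union_compl_self, Set.image_univ, hιT]
  · rw [Set.disjoint_image_iff hιTemb.injective]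
    exact disjoint_compl_right
  · intro p hp hqp
    rw [← hιT] at hp
    obtain ⟨t, rfl⟩ := hp
    have ht : (ιT ≫ q) t = s := hqp
    rw [hιTemb.injective.mem_set_image]
    have h1 : (⟨t, ht⟩ : Y₀) ∈ j₀ ⁻¹' U ↔ (⟨t, ht⟩ : Y₀) ∈ A₀ := by rw [hUA]
    exact h1

end Groth.Agent.Lib.helper9.PropDvr
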