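import Groth.Agent.Lib.Helper9.PropDvr2
import Groth.Agent.Lib.Helper9.GROpen1
import Groth.Agent.Lib.Helper24.HensDVR
import Groth.Agent.Lib.Helper24.HensNoeth
import Groth.Agent.Lib.Helper24.HenselizationFlat

/-!
# Properness near a point can be tested on henselian discrete valuation rings (helper9)

`exists_isProper_restrict_of_forall_dvr` (EGA IV 15.7.1-type criterion): let `Y` be locally
Noetherian, `f : X ⟶ Y` separated of finite type and `y ∈ Y`.  Suppose that for every henselian
discrete valuation ring `R` and every `g : Spec R ⟶ Y` sending the closed point to `y` and the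
generic point to the image of a maximal point of `X`, the base change `X ×_Y Spec R ⟶ Spec R` is
proper.  Then `f` is proper over an open neighbourhood of `y`.

Proof: Chow's lemma `π : X' ⟶ X`, `j : X' ⟶ ℙⁿ_Y`; let `Z = closure (range j) \ range j`.  If `y` were
in the (closed) image of `Z`, pick `z ∈ Z` over `y`, a maximal point `c` of `X'` with `j c ⤳ z`, and a
henselian DVR `R` realising this specialization; as `X'_R` is proper over `R`, `range j_R` is closed
in `ℙⁿ_R`, which forces `z ∈ range j`.
-/

set_option autoImplicit false
set_option linter.style.haveILetI false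
set_option backward.isDefEq.respectTransparency false

universe u

open CategoryTheory CategoryTheory.Limits AlgebraicGeometry TopologicalSpace IsLocalRing

namespace Groth.Agent.Lib.helper9.PropDvr

/-- In a Noetherian sober space mapping continuously to `P`, every point of the closure of the
image is a specialization of the image of a maximal point, which may be taken in any given dense
open. -/
theorem exists_maximal_specializes {X' P : Type*} [TopologicalSpace X'] [TopologicalSpace P]
    [NoetherianSpace X'] [QuasiSober X'] [T0Space X'] (j : X' → P) (hj : Continuous j)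
    (D : Set X') (hDo : IsOpen D) (hDd : Dense D)
    (z : P) (hz : z ∈ closure (Set.range j)) :
    ∃ c : X', c ∈ D ∧ (∀ c' : X', c' ⤳ c → c' = c) ∧ j c ⤳ z := by
  have hfin : (irreducibleComponents X').Finite := NoetherianSpace.finite_irreducibleComponents
  have h1 : Set.range j = ⋃ C ∈ irreducibleComponents X', j '' C := by
    rw [← Set.image_univ, ← sUnion_irreducibleComponents, Set.image_sUnion, Set.sUnion_image]
  rw [h1, hfin.closure_biUnion] at hz
  simp only [Set.mem_iUnion] at hz
  obtain ⟨C, hC, hzC⟩ := hz
  have hCcl : IsClosed C := isClosed_of_mem_irreducibleComponents C hC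
  obtain ⟨c, hc⟩ := QuasiSober.sober hC.1 hCcl
  refine ⟨c, ?_, ?_, ?_⟩
  · rw [hc.mem_open_set_iff hDo]
    obtain ⟨o, ho, hone, hoC⟩ :=
      NoetherianSpace.exists_isOpen_nonempty_subset_irreducibleComponent C hC
    obtain ⟨x, hxo, hxD⟩ := hDd.inter_open_nonempty o ho hone
    exact ⟨x, hoC hxo, hxD⟩
  · intro c' hc'
    have h2 : C ⊆ closure {c'} := by
      rw [← hc.def]
      exact specializes_iff_closure_subset.mp hc'
    have h3 : IsIrreducible (closure ({c'} : Set X')) := isIrreducible_singleton.closure
    have h4 : closure ({c'} : Set X') ⊆ C := hC.2 h3 h2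
    have h5 : IsGenericPoint c' C := isGenericPoint_def.mpr (subset_antisymm h4 h2)
    exact h5.eq hc
  · rw [specializes_iff_mem_closure]
    have : closure (j '' C) = closure {j c} := by
      rw [← hc.def, closure_image_closure hj, Set.image_singleton]
    rw [← this]
    exact hzC

/-- A specialization in a locally Noetherian scheme is realised by a henselian DVR. -/
theorem exists_henselian_dvr {P : Scheme.{u}} [IsLocallyNoetherian P] (z z' : P) (hne : z' ≠ z)
    (hsp : z' ⤳ z) :
    ∃ (R : Type u) (_ : CommRing R) (_ : IsDomain R) (_ : IsDiscreteValuationRing R)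
      (_ : HenselianLocalRing R) (g : Spec (CommRingCat.of R) ⟶ P),
      g (closedPoint R) = z ∧ g (⟨⊥, Ideal.isPrime_bot⟩ : PrimeSpectrum R) = z' := by
  obtain ⟨A, _, _, _, g, hgc, ψ, hψ⟩ :=
    Groth.Agent.Lib.helper9.GROpen.exists_dvr_with_extension z z' hne hsp (P.residueField z')
  have hgη : g (⟨⊥, Ideal.isPrime_bot⟩ : PrimeSpectrum A) = z' := by
    have h1 := congrArg (fun m => m (closedPoint ((Spec (CommRingCat.of A)).residueField
      (⟨⊥, Ideal.isPrime_bot⟩ : PrimeSpectrum A)))) hψ
    simp only [Scheme.Hom.comp_apply, Scheme.fromSpecResidueField_apply] at h1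
    rw [h1]
    exact Scheme.fromSpecResidueField_apply _ _
  obtain ⟨S, _, _, _, _, hS⟩ := Groth.Agent.Lib.helper24.Henselization.exists_isHenselization A
  haveI := hS
  haveI : HenselianLocalRing S := hS.henselian
  haveI : IsNoetherianRing S :=
    (Groth.Agent.Lib.Helper24.HensNoeth.isNoetherianRing_iff_of_isHenselization A S).1
      inferInstance
  haveI : Module.FaithfullyFlat A S :=
    Groth.Agent.Lib.helper24.Henselization.faithfullyFlat_of_isHenselization A S
  obtain ⟨hdS, hdvrS⟩ := (Groth.Agent.Lib.Helper24.HensDVR.dvr_iff_of_flat A S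
    (Groth.Agent.Lib.Helper24.HensRegular.map_maximalIdeal_of_isHenselization A S)
    (Groth.Agent.Lib.Helper24.HensNormal.normal_iff_of_isHenselization A S)).1
    ⟨inferInstance, inferInstance⟩
  refine ⟨S, inferInstance, hdS, hdvrS, inferInstance,
    Spec.map (CommRingCat.ofHom (algebraMap A S)) ≫ g, ?_, ?_⟩
  · rw [Scheme.Hom.comp_apply]
    have : Spec.map (CommRingCat.ofHom (algebraMap A S)) (closedPoint S) = closedPoint A :=
      IsLocalRing.comap_closedPoint (algebraMap A S)
    rw [this, hgc]
  · rw [Scheme.Hom.comp_apply]
    have : Spec.map (CommRingCat.ofHom (algebraMap A S))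
        (⟨⊥, Ideal.isPrime_bot⟩ : PrimeSpectrum S) =
        (⟨⊥, Ideal.isPrime_bot⟩ : PrimeSpectrum A) := by
      apply PrimeSpectrum.ext
      change Ideal.comap (algebraMap A S) ⊥ = ⊥
      rw [← RingHom.ker_eq_comap_bot, RingHom.ker_eq_bot_iff_eq_zero]
      intro a ha
      exact (FaithfulSMul.algebraMap_injective A S) (by rw [ha, map_zero])
    rw [this, hgη]

end Groth.Agent.Lib.helper9.PropDvr
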