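import Groth.Agent.Lib.Helper9.PropDvr3

/-!
# Properness near a point can be tested on henselian discrete valuation rings, II (helper9)

See `PropDvr3` for the statement and the idea of proof.  Main results:
* `DvrProperAt f y`: the hypothesis (properness after base change to henselian DVRs centred at `y`
  whose generic point goes to the image of a maximal point of the source);
* `exists_isProper_restrict_of_dvrProperAt`: for `Y` locally Noetherian and `f` separated of finite
  type, `DvrProperAt f y` implies that `f` is proper over an open neighbourhood of `y`.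
-/

set_option autoImplicit false
set_option linter.style.haveILetI false
set_option backward.isDefEq.respectTransparency false

universe u

open CategoryTheory CategoryTheory.Limits AlgebraicGeometry TopologicalSpace IsLocalRing

namespace Groth.Agent.Lib.helper9.PropDvr

/-- properness of `f` after base change to every henselian DVR centred at `y` whose generic point
is sent to the image of a maximal point of the source. -/
def DvrProperAt {X Y : Scheme.{u}} (f : X ⟶ Y) (y : Y) : Prop :=
  ∀ (R : Type u) [CommRing R] [IsDomain R] [IsDiscreteValuationRing R] [HenselianLocalRing R]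
    (g : Spec (CommRingCat.of R) ⟶ Y), g (closedPoint R) = y →
    (∃ ξ : X, (∀ ξ' : X, ξ' ⤳ ξ → ξ' = ξ) ∧
      f ξ = g (⟨⊥, Ideal.isPrime_bot⟩ : PrimeSpectrum R)) →
    IsProper (pullback.snd f g)

theorem exists_isProper_restrict_aux {X Y : Scheme.{u}} [IsNoetherian Y] (f : X ⟶ Y)
    [IsSeparated f] [LocallyOfFiniteType f] [QuasiCompact f] (y : Y) (H : DvrProperAt f y) :
    ∃ U : Y.Opens, y ∈ U ∧ IsProper (f ∣_ U) := by
  classical
  haveI : IsLocallyNoetherian X := LocallyOfFiniteType.isLocallyNoetherian f
  haveI : CompactSpace X := QuasiCompact.compactSpace_of_compactSpace f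
  haveI : IsNoetherian X := {}
  have hfin : (irreducibleComponents X).Finite := NoetherianSpace.finite_irreducibleComponents
  obtain ⟨n, X', π, j, hjimm, hjq, hπp, hπs, ⟨U₀, -, hU₀d', hU₀iso⟩, -, -⟩ :=
    Groth.Agent.Lib.helper12.Chow11.chow_finite_components' f hfin
  haveI := hjimm
  haveI := hπp
  haveI := hπs
  haveI := hU₀iso
  set q : CohB1.ProjSpaceOver n Y ⟶ Y := CohB1.ProjSpaceOver.toBase n Y with hq
  haveI : IsProper q := Groth.Agent.Lib.helper19.ProjSpaceProper.proper_toBase n _
  haveI : IsLocallyNoetherian X' := LocallyOfFiniteType.isLocallyNoetherian (π ≫ f)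
  haveI : CompactSpace X' := QuasiCompact.compactSpace_of_compactSpace (π ≫ f)
  haveI : IsNoetherian X' := {}
  haveI : IsLocallyNoetherian (CohB1.ProjSpaceOver n Y) :=
    LocallyOfFiniteType.isLocallyNoetherian q
  have hZcl : IsClosed (closure (Set.range j) \ Set.range j) := by
    have h1 : IsOpen (coborder (Set.range j)) := j.isLocallyClosed_range.isOpen_coborder
    have h2 : closure (Set.range j) \ Set.range j = (coborder (Set.range j))ᶜ := by
      rw [coborder, compl_compl]
    rw [h2]
    exact h1.isClosed_compl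
  have hqj : ∀ w : X', q (j w) = f (π w) := by
    intro w
    rw [← Scheme.Hom.comp_apply, ← Scheme.Hom.comp_apply, hjq]
  by_cases hy : y ∈ q '' (closure (Set.range j) \ Set.range j)
  · exfalso
    obtain ⟨z, ⟨hzT, hzn⟩, hqz⟩ := hy
    obtain ⟨c, hcD, hcmax, hcz⟩ := exists_maximal_specializes j j.continuous
      ((π ⁻¹ᵁ U₀ : X'.Opens) : Set X') (π ⁻¹ᵁ U₀).2 hU₀d' z hzT
    have hne : j c ≠ z := fun h => hzn ⟨c, h⟩
    obtain ⟨R, _, _, _, _, g', hg'c, hg'η⟩ := exists_henselian_dvr z (j c) hne hcz
    set g : Spec (CommRingCat.of R) ⟶ Y := g' ≫ q with hg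
    have hgc : g (closedPoint R) = y := by
      rw [hg, Scheme.Hom.comp_apply, hg'c, hqz]
    -- `π c` is a maximal point of `X`
    have hξmax : ∀ ξ' : X, ξ' ⤳ π c → ξ' = π c := by
      intro ξ' hξ'
      have h1 : π c ∈ U₀ := hcD
      have h2 : ξ' ∈ U₀ := hξ'.mem_open U₀.2 h1
      obtain ⟨c'', hc''⟩ := (π ∣_ U₀).surjective ⟨ξ', h2⟩
      have h0 : (π ∣_ U₀) ⟨c, hcD⟩ = ⟨π c, h1⟩ :=
        Subtype.ext (morphismRestrict_base_coe π U₀ ⟨c, hcD⟩)
      have h3 : (π ∣_ U₀) c'' ⤳ (π ∣_ U₀) ⟨c, hcD⟩ := by
        rw [hc'', h0]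
        exact (subtype_specializes_iff _ _).mpr hξ'
      have h4 : c'' ⤳ ⟨c, hcD⟩ :=
        ((π ∣_ U₀).homeomorph.isInducing.specializes_iff).mp h3
      have h5 : c''.1 ⤳ c := (subtype_specializes_iff _ _).mp h4
      have h6 : c''.1 = c := hcmax _ h5
      have h7 : ξ' = π c''.1 := by
        have := congrArg Subtype.val hc''
        rw [morphismRestrict_base_coe] at this
        exact this.symm
      rw [h7, h6]
    have hfξ : f (π c) = g (⟨⊥, Ideal.isPrime_bot⟩ : PrimeSpectrum R) := by
      rw [hg, Scheme.Hom.comp_apply, hg'η, hqj]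
    haveI hprop : IsProper (pullback.snd f g) := H R g hgc ⟨π c, hξmax, hfξ⟩
    -- `X'_R` is proper over `R`
    haveI : IsProper (pullback.snd (π ≫ f) g) := by
      let e := pullbackRightPullbackFstIso f g π
      have h0 : e.hom ≫ pullback.snd (π ≫ f) g =
          pullback.snd π (pullback.fst f g) ≫ pullback.snd f g :=
        pullbackRightPullbackFstIso_hom_snd f g π
      have h1 : pullback.snd (π ≫ f) g =
          e.inv ≫ pullback.snd π (pullback.fst f g) ≫ pullback.snd f g := by
        rw [Iso.eq_inv_comp]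
        exact h0
      rw [h1]
      infer_instance
    let jR : pullback (π ≫ f) g ⟶ pullback q g :=
      pullback.map (π ≫ f) g q g j (𝟙 _) (𝟙 _) (by rw [Category.comp_id, hjq]) (by simp)
    have hjR1 : jR ≫ pullback.fst q g = pullback.fst (π ≫ f) g ≫ j := pullback.lift_fst _ _ _
    have hjR2 : jR ≫ pullback.snd q g = pullback.snd (π ≫ f) g := by
      simp [jR]
    haveI : IsProper (jR ≫ pullback.snd q g) := by rw [hjR2]; infer_instance
    haveI : IsProper jR := IsProper.of_comp jR (pullback.snd q g)
    have hjRcl : IsClosed (Set.range jR) := jR.isClosedMap.isClosed_range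
    have hsq : IsPullback jR (pullback.fst (π ≫ f) g) (pullback.fst q g) j := by
      have hright : IsPullback (pullback.snd q g) (pullback.fst q g) g q :=
        (IsPullback.of_hasPullback q g).flip
      have houter : IsPullback (jR ≫ pullback.snd q g) (pullback.fst (π ≫ f) g) g (j ≫ q) := by
        rw [hjR2, hjq]
        exact (IsPullback.of_hasPullback (π ≫ f) g).flip
      exact IsPullback.of_right houter hjR1 hright
    let σ : Spec (CommRingCat.of R) ⟶ pullback q g :=
      pullback.lift g' (𝟙 _) (by rw [Category.id_comp])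
    have hσ1 : σ ≫ pullback.fst q g = g' := pullback.lift_fst _ _ _
    have hση : σ (⟨⊥, Ideal.isPrime_bot⟩ : PrimeSpectrum R) ∈ Set.range jR := by
      have h1 : (pullback.fst q g) (σ (⟨⊥, Ideal.isPrime_bot⟩ : PrimeSpectrum R)) = j c := by
        rw [← Scheme.Hom.comp_apply, hσ1, hg'η]
      obtain ⟨o, ho, -⟩ := Scheme.exists_preimage_of_isPullback hsq _ _ h1
      exact ⟨o, ho⟩
    have hsp : σ (⟨⊥, Ideal.isPrime_bot⟩ : PrimeSpectrum R) ⤳ σ (closedPoint R) :=
      (specializes_closedPoint (R := R) _).map σ.continuous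
    obtain ⟨o', ho'⟩ := hsp.mem_closed hjRcl hση
    apply hzn
    refine ⟨(pullback.fst (π ≫ f) g) o', ?_⟩
    rw [← Scheme.Hom.comp_apply, ← hjR1, Scheme.Hom.comp_apply, ho', ← Scheme.Hom.comp_apply, hσ1,
      hg'c]
  · -- `y` is not in the image of `Z`
    let U : Y.Opens := ⟨(q '' (closure (Set.range j) \ Set.range j))ᶜ,
      (q.isClosedMap _ hZcl).isOpen_compl⟩
    refine ⟨U, hy, ?_⟩
    let W : (CohB1.ProjSpaceOver n Y).Opens := q ⁻¹ᵁ U
    haveI : IsImmersion (j ∣_ W) := IsZariskiLocalAtTarget.restrict (P := @IsImmersion) inferInstance W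
    have hclW : IsClosed (Set.range (j ∣_ W)) := by
      rw [W.ι.isEmbedding.isInducing.isClosed_iff]
      refine ⟨closure (Set.range j), isClosed_closure, ?_⟩
      ext x
      constructor
      · intro hx
        have hx' : W.ι x ∈ closure (Set.range j) := hx
        have hxW : W.ι x ∈ W := by
          rw [Scheme.Opens.ι_apply]
          exact x.2
        have h3 : W.ι x ∈ Set.range j := by
          by_contra hn
          exact hxW ⟨W.ι x, ⟨hx', hn⟩, rfl⟩
        obtain ⟨w, hw⟩ := h3
        have hwW : w ∈ j ⁻¹ᵁ W := by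
          change j w ∈ W
          rw [hw]
          exact hxW
        refine ⟨⟨w, hwW⟩, ?_⟩
        apply Subtype.ext
        rw [morphismRestrict_base_coe]
        rw [Scheme.Opens.ι_apply] at hw
        exact hw
      · rintro ⟨w, rfl⟩
        change W.ι ((j ∣_ W) w) ∈ closure (Set.range j)
        apply subset_closure
        refine ⟨w.1, ?_⟩
        rw [Scheme.Opens.ι_apply, morphismRestrict_base_coe]
    haveI : IsClosedImmersion (j ∣_ W) := IsClosedImmersion.of_isPreimmersion _ hclW
    haveI : IsProper (q ∣_ U) := IsZariskiLocalAtTarget.restrict (P := @IsProper) inferInstance U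
    haveI h1 : IsProper ((j ≫ q) ∣_ U) := by
      rw [morphismRestrict_comp]
      infer_instance
    haveI h2 : IsProper ((π ≫ f) ∣_ U) := by
      rw [← hjq]
      exact h1
    haveI : Surjective (π ∣_ f ⁻¹ᵁ U) := IsZariskiLocalAtTarget.restrict (P := @Surjective) inferInstance _
    haveI : IsProper (π ∣_ f ⁻¹ᵁ U ≫ f ∣_ U) := by
      rw [← morphismRestrict_comp]
      exact h2
    haveI : UniversallyClosed (f ∣_ U) := UniversallyClosed.of_comp_surjective (π ∣_ f ⁻¹ᵁ U) _
    haveI : IsSeparated (f ∣_ U) := IsZariskiLocalAtTarget.restrict (P := @IsSeparated) inferInstance U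
    haveI : LocallyOfFiniteType (f ∣_ U) :=
      IsZariskiLocalAtTarget.restrict (P := @LocallyOfFiniteType) inferInstance U
    exact {}

end Groth.Agent.Lib.helper9.PropDvr
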