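import Groth.Agent.Lib.Helper9.PropDvr4

/-!
# Properness near a point can be tested on henselian discrete valuation rings, III (helper9)

`exists_isProper_restrict_of_dvrProperAt`: the criterion of `PropDvr4` over a locally Noetherian
base (reduction to an affine open neighbourhood).
-/

set_option autoImplicit false
set_option linter.style.haveILetI false
set_option backward.isDefEq.respectTransparency false

universe u

open CategoryTheory CategoryTheory.Limits AlgebraicGeometry TopologicalSpace IsLocalRing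

namespace Groth.Agent.Lib.helper9.PropDvr

theorem dvrProperAt_morphismRestrict {X Y : Scheme.{u}} (f : X ⟶ Y) (V : Y.Opens) (y : Y)
    (hyV : y ∈ V) (H : DvrProperAt f y) : DvrProperAt (f ∣_ V) ⟨y, hyV⟩ := by
  intro R _ _ _ _ g hgc hξ
  obtain ⟨ξ, hξmax, hfξ⟩ := hξ
  have hι : ∀ t : ↥(f ⁻¹ᵁ V), f ((f ⁻¹ᵁ V).ι t) = V.ι ((f ∣_ V) t) := by
    intro t
    rw [← Scheme.Hom.comp_apply, ← Scheme.Hom.comp_apply, morphismRestrict_ι]
  have h1 : (g ≫ V.ι) (closedPoint R) = y := by
    rw [Scheme.Hom.comp_apply, hgc, Scheme.Opens.ι_apply]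
  haveI : IsProper (pullback.snd f (g ≫ V.ι)) := by
    refine H R (g ≫ V.ι) h1 ⟨(f ⁻¹ᵁ V).ι ξ, ?_, ?_⟩
    · intro ξ' hξ'
      have h2 : (f ⁻¹ᵁ V).ι ξ ∈ f ⁻¹ᵁ V := by
        rw [Scheme.Opens.ι_apply]
        exact ξ.2
      have h3 : ξ' ∈ f ⁻¹ᵁ V := hξ'.mem_open (f ⁻¹ᵁ V).2 h2
      have h4 : (⟨ξ', h3⟩ : ↥(f ⁻¹ᵁ V)) ⤳ ξ := by
        rw [subtype_specializes_iff]
        rw [Scheme.Opens.ι_apply] at hξ'
        exact hξ'
      have h5 := hξmax _ h4
      rw [← h5, Scheme.Opens.ι_apply]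
    · rw [hι, hfξ, Scheme.Hom.comp_apply]
  have hp : IsPullback (pullback.fst (f ∣_ V) g ≫ (f ⁻¹ᵁ V).ι) (pullback.snd (f ∣_ V) g) f
      (g ≫ V.ι) :=
    (IsPullback.of_hasPullback (f ∣_ V) g).paste_horiz (isPullback_morphismRestrict f V).flip
  rw [← hp.isoPullback_hom_snd]
  infer_instance

/-- **Properness near a point via henselian DVRs** (locally Noetherian base). -/
theorem exists_isProper_restrict_of_dvrProperAt {X Y : Scheme.{u}} [IsLocallyNoetherian Y]
    (f : X ⟶ Y) [IsSeparated f] [LocallyOfFiniteType f] [QuasiCompact f] (y : Y)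
    (H : DvrProperAt f y) : ∃ U : Y.Opens, y ∈ U ∧ IsProper (f ∣_ U) := by
  obtain ⟨V, hV, hyV, -⟩ := exists_isAffineOpen_mem_and_subset (show y ∈ (⊤ : Y.Opens) from trivial)
  haveI : IsLocallyNoetherian (V : Scheme.{u}) := isLocallyNoetherian_of_isOpenImmersion V.ι
  haveI : IsAffine (V : Scheme.{u}) := hV
  haveI : CompactSpace (V : Scheme.{u}) := inferInstance
  haveI : IsNoetherian (V : Scheme.{u}) :=
    { toIsLocallyNoetherian := inferInstance, toCompactSpace := inferInstance }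
  haveI : IsSeparated (f ∣_ V) := IsZariskiLocalAtTarget.restrict (P := @IsSeparated) inferInstance V
  haveI : LocallyOfFiniteType (f ∣_ V) :=
    IsZariskiLocalAtTarget.restrict (P := @LocallyOfFiniteType) inferInstance V
  haveI : QuasiCompact (f ∣_ V) :=
    IsZariskiLocalAtTarget.restrict (P := @QuasiCompact) inferInstance V
  obtain ⟨U', hyU', hU'⟩ := exists_isProper_restrict_aux (f ∣_ V) ⟨y, hyV⟩
    (dvrProperAt_morphismRestrict f V y hyV H)
  refine ⟨V.ι ''ᵁ U', ⟨⟨y, hyV⟩, hyU', rfl⟩, ?_⟩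
  exact (MorphismProperty.arrow_mk_iso_iff @IsProper (morphismRestrictRestrict f V U')).mp hU'

end Groth.Agent.Lib.helper9.PropDvr
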