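import Groth.Agent.Lib.Helper9.PropDvr5

/-!
# Properness near a proper fibre for flat morphisms (EGA IV 15.7.10) (helper9)

`exists_isProper_restrict_of_flat`: `S` locally Noetherian, `f : X ⟶ S` flat, separated, of finite
type, with geometrically connected (nonempty) fibres over the maximal points of `S`.  If the fibre
over `s` is nonempty and proper, `f` is proper over a neighbourhood of `s`.
-/

set_option autoImplicit false
set_option linter.style.haveILetI false
set_option backward.isDefEq.respectTransparency false

universe u

open CategoryTheory CategoryTheory.Limits AlgebraicGeometry TopologicalSpace IsLocalRing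

namespace Groth.Agent.Lib.helper9.PropDvr

/-- a geometrically connected fibre of `f` gives a preconnected fibre of any base change. -/
theorem isPreconnected_preimage_of_geometricallyConnected_fiber {X S T : Scheme.{u}} (f : X ⟶ S)
    (g : T ⟶ S) (t : T) (hc : GeometricallyConnected (f.fiberToSpecResidueField (g t))) :
    _root_.IsPreconnected ((pullback.snd f g) ⁻¹' {t}) := by
  haveI : GeometricallyConnected ((pullback.snd f g).fiberToSpecResidueField t) :=
    MorphismProperty.of_isPullback (P := @GeometricallyConnected)
      (isPullback_fiberToSpecResidueField_of_isPullback (IsPullback.of_hasPullback f g) t) hc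
  haveI : ConnectedSpace ↥((pullback.snd f g).fiber t) :=
    GeometricallyConnected.connectedSpace_of_subsingleton
      (f := (pullback.snd f g).fiberToSpecResidueField t)
  rw [← Scheme.Hom.range_fiberι]
  exact isPreconnected_range ((pullback.snd f g).fiberι t).continuous

theorem isProper_fiber_snd {X S T : Scheme.{u}} (f : X ⟶ S) (g : T ⟶ S) (t : T)
    (hs : IsProper (f.fiberToSpecResidueField (g t))) :
    IsProper ((pullback.snd f g).fiberToSpecResidueField t) :=
  MorphismProperty.of_isPullback (P := @IsProper)
    (isPullback_fiberToSpecResidueField_of_isPullback (IsPullback.of_hasPullback f g) t) hs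

theorem exists_isProper_restrict_of_flat {X S : Scheme.{u}} [IsLocallyNoetherian S] (f : X ⟶ S)
    [Flat f] [IsSeparated f] [LocallyOfFiniteType f] [QuasiCompact f]
    (hgen : ∀ η : S, (∀ η' : S, η' ⤳ η → η' = η) → Nonempty ↥(f.fiber η) →
      GeometricallyConnected (f.fiberToSpecResidueField η))
    (s : S) [hne : Nonempty ↥(f.fiber s)] (hs : IsProper (f.fiberToSpecResidueField s)) :
    ∃ U : S.Opens, s ∈ U ∧ IsProper (f ∣_ U) := by
  apply exists_isProper_restrict_of_dvrProperAt f s
  intro R _ _ _ _ g hgc hξ
  obtain ⟨ξ, hξmax, hfξ⟩ := hξ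
  subst hgc
  set η : ↥(Spec (CommRingCat.of R)) := (⟨⊥, Ideal.isPrime_bot⟩ : PrimeSpectrum R) with hη
  -- the generic fibre
  have hmax : ∀ η' : S, η' ⤳ f ξ → η' = f ξ := by
    intro η' hη'
    obtain ⟨ξ', hξ', rfl⟩ := (Flat.generalizingMap (f := f)) hη'
    rw [hξmax ξ' hξ']
  have hc0 : GeometricallyConnected (f.fiberToSpecResidueField (f ξ)) :=
    hgen (f ξ) hmax ⟨f.asFiber ξ⟩
  have hc : GeometricallyConnected (f.fiberToSpecResidueField (g η)) := hfξ ▸ hc0
  have hconn := isPreconnected_preimage_of_geometricallyConnected_fiber f g η hc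
  have hs' := isProper_fiber_snd f g (closedPoint R) hs
  -- the generic fibre is not closed
  have hncl : ¬ IsClosed ((pullback.snd f g) ⁻¹' {η}) := by
    intro hcl
    obtain ⟨x₀'⟩ := hne
    have hx : f ((f.fiberι _) x₀') = g (closedPoint R) := by
      have : (f.fiberι (g (closedPoint R))) x₀' ∈ f ⁻¹' {g (closedPoint R)} := by
        rw [← Scheme.Hom.range_fiberι]
        exact Set.mem_range_self _
      exact this
    obtain ⟨x₀, -, hx₀⟩ := Scheme.Pullback.exists_preimage_pullback _ _ hx
    have hsp : η ⤳ (pullback.snd f g) x₀ := by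
      rw [hx₀]
      exact specializes_closedPoint (R := R) _
    obtain ⟨x₁, hx₁, hx₁η⟩ := (Flat.generalizingMap (f := pullback.snd f g)) hsp
    have h1 : x₀ ∈ (pullback.snd f g) ⁻¹' {η} := hx₁.mem_closed hcl hx₁η
    have h2 : (pullback.snd f g) x₀ = η := h1
    rw [hx₀] at h2
    exact bot_ne_closedPoint h2.symm
  exact isProper_of_henselian_dvr (pullback.snd f g) hs' hconn hncl

end Groth.Agent.Lib.helper9.PropDvr
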