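import Groth.Agent.Lib.Helper9.PropDvr6

/-!
# A proper model of a fibrewise clopen subset over a henselian DVR (helper9)

`exists_proper_model_of_dvr` (the DVR case of EGA IV 15.7.5/15.7.6): `R` a henselian DVR,
`h : X ⟶ Spec R` separated of finite type, `Z ⊆ X` a subset such that
* `Z ∩ X_s` is open and closed in the closed fibre and, as an open subscheme of it, proper over `κ(s)`;
* `Z ∩ X_η` is closed in the generic fibre and preconnected;
* some point of `Z ∩ X_s` lies in the closure of `Z ∩ X_η`.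
Then `Z` is the image of a morphism `i : T ⟶ X` with `i ≫ h` proper (so `Z` is closed in `X`).
-/

set_option autoImplicit false
set_option linter.style.haveILetI false
set_option backward.isDefEq.respectTransparency false

universe u

open CategoryTheory CategoryTheory.Limits AlgebraicGeometry TopologicalSpace IsLocalRing

namespace Groth.Agent.Lib.helper9.PropDvr

theorem exists_proper_model_of_dvr {R : Type u} [CommRing R] [IsDomain R]
    [IsDiscreteValuationRing R] [HenselianLocalRing R]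
    {X : Scheme.{u}} (h : X ⟶ Spec (CommRingCat.of R)) [IsSeparated h] [LocallyOfFiniteType h]
    [QuasiCompact h] (Z : Set X)
    (hop : IsOpen ((h.fiberι (closedPoint R)) ⁻¹' Z))
    (hcl : IsClosed ((h.fiberι (closedPoint R)) ⁻¹' Z))
    (hprop : IsProper (Scheme.Opens.ι (⟨(h.fiberι (closedPoint R)) ⁻¹' Z, hop⟩ :
      (h.fiber (closedPoint R)).Opens) ≫ h.fiberToSpecResidueField (closedPoint R)))
    (hclK : IsClosed ((h.fiberι (⟨⊥, Ideal.isPrime_bot⟩ : PrimeSpectrum R)) ⁻¹' Z))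
    (hconn : _root_.IsPreconnected (Z ∩ h ⁻¹' {(⟨⊥, Ideal.isPrime_bot⟩ : PrimeSpectrum R)}))
    (hnc : ∃ x₀ ∈ Z, h x₀ = closedPoint R ∧
      x₀ ∈ closure (Z ∩ h ⁻¹' {(⟨⊥, Ideal.isPrime_bot⟩ : PrimeSpectrum R)})) :
    ∃ (T : Scheme.{u}) (i : T ⟶ X), Set.range i = Z ∧ IsProper (i ≫ h) := by
  classical
  set s : ↥(Spec (CommRingCat.of R)) := closedPoint R with hs_def
  set η : ↥(Spec (CommRingCat.of R)) := (⟨⊥, Ideal.isPrime_bot⟩ : PrimeSpectrum R) with hη_def
  haveI : IsNoetherianRing (CommRingCat.of R) := (inferInstance : IsNoetherianRing R)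
  haveI : IsLocallyNoetherian X := LocallyOfFiniteType.isLocallyNoetherian h
  haveI : CompactSpace X := QuasiCompact.compactSpace_of_compactSpace h
  haveI : IsNoetherian X :=
    { toIsLocallyNoetherian := inferInstance, toCompactSpace := inferInstance }
  have hsη : ∀ x : X, h x = s ∨ h x = η := fun x => eq_closedPoint_or_eq_bot (h x)
  have hsemb : Topology.IsClosedEmbedding (h.fiberι s) := by
    refine ⟨(h.fiberι s).isEmbedding, ?_⟩
    rw [Scheme.Hom.range_fiberι]
    exact (isClosed_singleton_closedPoint (R := R)).preimage h.continuous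
  have hZs : IsClosed (Z ∩ h ⁻¹' {s}) := by
    have : Z ∩ h ⁻¹' {s} = (h.fiberι s) '' ((h.fiberι s) ⁻¹' Z) := by
      rw [Set.image_preimage_eq_inter_range, Scheme.Hom.range_fiberι]
    rw [this]
    exact hsemb.isClosedMap _ hcl
  have hD : IsClosed (h ⁻¹' {s} \ Z) := by
    have : h ⁻¹' {s} \ Z = (h.fiberι s) '' ((h.fiberι s) ⁻¹' Z)ᶜ := by
      rw [Set.image_compl_preimage, Scheme.Hom.range_fiberι]
    rw [this]
    exact hsemb.isClosedMap _ hop.isClosed_compl
  have hK : closure (Z ∩ h ⁻¹' {η}) ∩ h ⁻¹' {η} ⊆ Z := by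
    obtain ⟨C, hC, hCZ⟩ := ((h.fiberι η).isEmbedding.isInducing.isClosed_iff).mp hclK
    have h1 : Z ∩ h ⁻¹' {η} ⊆ C := by
      rintro x ⟨hxZ, hxη⟩
      have : x ∈ Set.range (h.fiberι η) := by rw [Scheme.Hom.range_fiberι]; exact hxη
      obtain ⟨t, rfl⟩ := this
      have h2 : t ∈ (h.fiberι η) ⁻¹' C := by rw [hCZ]; exact hxZ
      exact h2
    rintro x ⟨hx1, hxη⟩
    have hxC : x ∈ C := (hC.closure_subset_iff.mpr h1) hx1
    have : x ∈ Set.range (h.fiberι η) := by rw [Scheme.Hom.range_fiberι]; exact hxη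
    obtain ⟨t, rfl⟩ := this
    have h2 : t ∈ (h.fiberι η) ⁻¹' Z := by rw [← hCZ]; exact hxC
    exact h2
  -- the closed subscheme `X₇`
  let C₁ : Closeds X := ⟨closure (Z ∩ h ⁻¹' {η}) ∪ (Z ∩ h ⁻¹' {s}), isClosed_closure.union hZs⟩
  let ι₇ := (Scheme.IdealSheafData.vanishingIdeal C₁).subschemeι
  have hι₇ : Set.range ι₇ = closure (Z ∩ h ⁻¹' {η}) ∪ (Z ∩ h ⁻¹' {s}) := by
    rw [Scheme.IdealSheafData.range_subschemeι, Scheme.IdealSheafData.coe_support_vanishingIdeal]
    rfl
  let O₈ : (Scheme.IdealSheafData.vanishingIdeal C₁).subscheme.Opens :=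
    ⟨ι₇ ⁻¹' (h ⁻¹' {s} \ Z)ᶜ, hD.isOpen_compl.preimage ι₇.continuous⟩
  let i : (O₈ : Scheme.{u}) ⟶ X := O₈.ι ≫ ι₇
  have hrange : Set.range i = Z := by
    have h1 : Set.range i = ι₇ '' (O₈ : Set _) := by
      change Set.range (O₈.ι ≫ ι₇) = _
      rw [Scheme.Hom.comp_base, TopCat.coe_comp, Set.range_comp, Scheme.Opens.range_ι]
    rw [h1]
    change ι₇ '' (ι₇ ⁻¹' (h ⁻¹' {s} \ Z)ᶜ) = Z
    rw [Set.image_preimage_eq_inter_range, hι₇]
    ext x
    constructor
    · rintro ⟨hxD, hx⟩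
      rcases hx with hx | hx
      · rcases hsη x with hxs | hxη
        · by_contra hxZ
          exact hxD ⟨hxs, hxZ⟩
        · exact hK ⟨hx, hxη⟩
      · exact hx.1
    · intro hxZ
      refine ⟨fun hxD => hxD.2 hxZ, ?_⟩
      rcases hsη x with hxs | hxη
      · exact Or.inr ⟨hxZ, hxs⟩
      · exact Or.inl (subset_closure ⟨hxZ, hxη⟩)
  haveI : NoetherianSpace ↥(O₈ : Scheme.{u}) := i.isEmbedding.isInducing.noetherianSpace
  haveI : QuasiCompact (i ≫ h) := inferInstance
  -- (1) the closed fibre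
  have hs₈ : IsProper ((i ≫ h).fiberToSpecResidueField s) := by
    set ρ := (Spec (CommRingCat.of R)).fromSpecResidueField s with hρ
    let e := pullbackRightPullbackFstIso h ρ i
    have h0 : e.hom ≫ (i ≫ h).fiberToSpecResidueField s =
        pullback.snd i (h.fiberι s) ≫ h.fiberToSpecResidueField s :=
      pullbackRightPullbackFstIso_hom_snd h ρ i
    set φ : pullback i (h.fiberι s) ⟶ h.fiber s := pullback.snd i (h.fiberι s) with hφ
    haveI : IsImmersion φ := MorphismProperty.pullback_snd (P := @IsImmersion) _ _ inferInstance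
    have hφr : Set.range φ = (h.fiberι s) ⁻¹' Z := by
      rw [hφ, Scheme.Pullback.range_snd, hrange]
    let Os : (h.fiber s).Opens := ⟨(h.fiberι s) ⁻¹' Z, hop⟩
    have hsub : Set.range φ ⊆ Set.range Os.ι := by
      rw [hφr, Scheme.Opens.range_ι]
      rfl
    let φ' : pullback i (h.fiberι s) ⟶ (Os : Scheme.{u}) := IsOpenImmersion.lift Os.ι φ hsub
    have hφ' : φ' ≫ Os.ι = φ := IsOpenImmersion.lift_fac _ _ _
    haveI : IsImmersion (φ' ≫ Os.ι) := by rw [hφ']; infer_instance
    haveI : IsImmersion φ' := IsImmersion.of_comp φ' Os.ι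
    have hφ'r : Set.range φ' = Set.univ := by
      rw [Set.eq_univ_iff_forall]
      intro t
      have h1 : Os.ι t ∈ Set.range φ := by
        rw [hφr]
        have := t.2
        rw [Scheme.Opens.ι_apply]
        exact this
      obtain ⟨w, hw⟩ := h1
      refine ⟨w, Os.ι.isEmbedding.injective ?_⟩
      rw [← hw, ← hφ', Scheme.Hom.comp_apply]
    haveI : IsClosedImmersion φ' :=
      IsClosedImmersion.of_isPreimmersion φ' (by rw [hφ'r]; exact isClosed_univ)
    haveI := hprop
    have h1 : (i ≫ h).fiberToSpecResidueField s =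
        e.inv ≫ φ' ≫ (Os.ι ≫ h.fiberToSpecResidueField s) := by
      rw [Iso.eq_inv_comp, h0, ← Category.assoc φ', hφ']
    rw [h1]
    infer_instance
  -- (2) the generic fibre
  have hpre : (i ≫ h) ⁻¹' {η} = i ⁻¹' (Z ∩ h ⁻¹' {η}) := by
    ext t
    constructor
    · intro ht
      refine ⟨?_, ht⟩
      rw [← hrange]
      exact Set.mem_range_self t
    · intro ht
      exact ht.2
  have hconn₈ : _root_.IsPreconnected ((i ≫ h) ⁻¹' {η}) := by
    rw [hpre, ← i.isEmbedding.isInducing.isPreconnected_image, Set.image_preimage_eq_inter_range,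
      hrange]
    have : Z ∩ h ⁻¹' {η} ∩ Z = Z ∩ h ⁻¹' {η} := by
      ext x
      constructor
      · intro hx
        exact hx.1
      · intro hx
        exact ⟨hx, hx.1⟩
    rw [this]
    exact hconn
  -- (3) the generic fibre is not closed
  have hncl : ¬ IsClosed ((i ≫ h) ⁻¹' {η}) := by
    intro hcl₈
    obtain ⟨x₀, hx₀Z, hx₀s, hx₀c⟩ := hnc
    have : x₀ ∈ Set.range i := by rw [hrange]; exact hx₀Z
    obtain ⟨t₀, rfl⟩ := this
    have h1 : t₀ ∈ closure (i ⁻¹' (Z ∩ h ⁻¹' {η})) := by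
      rw [i.isEmbedding.isInducing.closure_eq_preimage_closure_image,
        Set.image_preimage_eq_inter_range, hrange]
      refine closure_mono ?_ hx₀c
      intro x hx
      exact ⟨hx, hx.1⟩
    rw [← hpre, hcl₈.closure_eq] at h1
    have h2 : h (i t₀) = η := h1
    rw [hx₀s] at h2
    exact bot_ne_closedPoint h2.symm
  exact ⟨O₈, i, hrange, isProper_of_henselian_dvr (i ≫ h) hs₈ hconn₈ hncl⟩

end Groth.Agent.Lib.helper9.PropDvr
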