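import Groth.Agent.Lib.Helper9.PropDvr7

/-!
# Fibrewise hypotheses and their base change (helper9)

* `FibClopenProper f Z t`: `Z ∩ X_t` is open and closed in the fibre `X_t` and, as an open subscheme
  of it, proper over `κ(t)`.
* `FibGeomConn f Z t`: `Z ∩ X_t` is closed in `X_t` and geometrically preconnected.
* `fiberMap`, `isPullback_fiberMap`, `fiberMap_fiberι`: the map of fibres induced by a base change.
* `fibClopenProper_snd`, `isPreconnected_of_fibGeomConn`: base change of these conditions.
* `exists_proper_model_pullback`: the DVR case of EGA IV 15.7.5 for a base change `X ×_Y Spec R`.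
-/

set_option autoImplicit false
set_option linter.style.haveILetI false
set_option backward.isDefEq.respectTransparency false

universe u

open CategoryTheory CategoryTheory.Limits AlgebraicGeometry TopologicalSpace IsLocalRing

namespace Groth.Agent.Lib.helper9.PropDvr

/-- `Z ∩ X_t` is open and closed in the fibre and proper as an open subscheme of the fibre. -/
def FibClopenProper {X Y : Scheme.{u}} (f : X ⟶ Y) (Z : Set X) (t : Y) : Prop :=
  IsClosed ((f.fiberι t) ⁻¹' Z) ∧ ∃ hop : IsOpen ((f.fiberι t) ⁻¹' Z),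
    IsProper (Scheme.Opens.ι (⟨(f.fiberι t) ⁻¹' Z, hop⟩ : (f.fiber t).Opens) ≫
      f.fiberToSpecResidueField t)

/-- `Z ∩ X_t` is closed in the fibre and geometrically preconnected. -/
def FibGeomConn {X Y : Scheme.{u}} (f : X ⟶ Y) (Z : Set X) (t : Y) : Prop :=
  IsClosed ((f.fiberι t) ⁻¹' Z) ∧ ∀ (K : Type u) [Field K] [Algebra (Y.residueField t) K],
    _root_.IsPreconnected ((pullback.fst (f.fiberToSpecResidueField t)
      (Spec.map (CommRingCat.ofHom (algebraMap (Y.residueField t) K))) ≫ f.fiberι t) ⁻¹' Z)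

section BaseChange

variable {X Y T : Scheme.{u}} (f : X ⟶ Y) (g : T ⟶ Y) (t : T)

/-- the map from the fibre of the base change to the fibre of `f`. -/
noncomputable abbrev fiberMap : (pullback.snd f g).fiber t ⟶ f.fiber (g t) :=
  pullback.map _ _ _ _ (pullback.fst f g) (Spec.map (g.residueFieldMap t)) g
    (IsPullback.of_hasPullback f g).w.symm (by simp)

theorem isPullback_fiberMap :
    IsPullback (fiberMap f g t) ((pullback.snd f g).fiberToSpecResidueField t)
      (f.fiberToSpecResidueField (g t)) (Spec.map (g.residueFieldMap t)) :=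
  isPullback_fiberToSpecResidueField_of_isPullback (IsPullback.of_hasPullback f g) t

theorem fiberMap_fiberι :
    fiberMap f g t ≫ f.fiberι (g t) = (pullback.snd f g).fiberι t ≫ pullback.fst f g :=
  pullback.lift_fst _ _ _

theorem preimage_fiberι_snd (Z : Set X) :
    ((pullback.snd f g).fiberι t) ⁻¹' ((pullback.fst f g) ⁻¹' Z) =
      (fiberMap f g t) ⁻¹' ((f.fiberι (g t)) ⁻¹' Z) := by
  ext w
  change (pullback.fst f g) (((pullback.snd f g).fiberι t) w) ∈ Z ↔
    (f.fiberι (g t)) ((fiberMap f g t) w) ∈ Z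
  rw [← Scheme.Hom.comp_apply, ← Scheme.Hom.comp_apply, fiberMap_fiberι]

theorem fibClopenProper_snd (Z : Set X) (hZ : FibClopenProper f Z (g t)) :
    FibClopenProper (pullback.snd f g) ((pullback.fst f g) ⁻¹' Z) t := by
  obtain ⟨hcl, hop, hprop⟩ := hZ
  refine ⟨?_, ?_⟩
  · rw [preimage_fiberι_snd]
    exact hcl.preimage (fiberMap f g t).continuous
  · have hop' : IsOpen (((pullback.snd f g).fiberι t) ⁻¹' ((pullback.fst f g) ⁻¹' Z)) := by
      rw [preimage_fiberι_snd]
      exact hop.preimage (fiberMap f g t).continuous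
    refine ⟨hop', ?_⟩
    let O : (f.fiber (g t)).Opens := ⟨(f.fiberι (g t)) ⁻¹' Z, hop⟩
    have sq1 := isPullback_morphismRestrict (fiberMap f g t) O
    have sq := sq1.paste_vert (isPullback_fiberMap f g t)
    have h1 : IsProper (((fiberMap f g t) ⁻¹ᵁ O).ι ≫
        (pullback.snd f g).fiberToSpecResidueField t) :=
      MorphismProperty.of_isPullback (P := @IsProper) sq hprop
    have h2 : (⟨((pullback.snd f g).fiberι t) ⁻¹' ((pullback.fst f g) ⁻¹' Z), hop'⟩ :
        ((pullback.snd f g).fiber t).Opens) = (fiberMap f g t) ⁻¹ᵁ O := by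
      apply Opens.ext
      exact preimage_fiberι_snd f g t Z
    rw [h2]
    exact h1

theorem isPreconnected_of_fibGeomConn (Z : Set X) (hZ : FibGeomConn f Z (g t)) :
    IsClosed (((pullback.snd f g).fiberι t) ⁻¹' ((pullback.fst f g) ⁻¹' Z)) ∧
      _root_.IsPreconnected ((pullback.fst f g) ⁻¹' Z ∩ (pullback.snd f g) ⁻¹' {t}) := by
  obtain ⟨hcl, hconn⟩ := hZ
  refine ⟨?_, ?_⟩
  · rw [preimage_fiberι_snd]
    exact hcl.preimage (fiberMap f g t).continuous
  · letI : Algebra (Y.residueField (g t)) (T.residueField t) :=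
      (g.residueFieldMap t).hom.toAlgebra
    have h1 : _root_.IsPreconnected ((pullback.fst (f.fiberToSpecResidueField (g t))
        (Spec.map (g.residueFieldMap t)) ≫ f.fiberι (g t)) ⁻¹' Z) :=
      hconn (T.residueField t)
    let e := (isPullback_fiberMap f g t).isoPullback
    have he : e.hom ≫ pullback.fst (f.fiberToSpecResidueField (g t))
        (Spec.map (g.residueFieldMap t)) = fiberMap f g t :=
      (isPullback_fiberMap f g t).isoPullback_hom_fst
    have h3 : ((pullback.snd f g).fiberι t) ⁻¹' ((pullback.fst f g) ⁻¹' Z) =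
        e.inv '' ((pullback.fst (f.fiberToSpecResidueField (g t))
          (Spec.map (g.residueFieldMap t)) ≫ f.fiberι (g t)) ⁻¹' Z) := by
      rw [preimage_fiberι_snd, ← he]
      ext w
      constructor
      · intro hw
        refine ⟨e.hom w, hw, ?_⟩
        rw [← Scheme.Hom.comp_apply, e.hom_inv_id]
        rfl
      · rintro ⟨v, hv, rfl⟩
        change (f.fiberι (g t)) ((e.hom ≫ pullback.fst _ _) (e.inv v)) ∈ Z
        rw [Scheme.Hom.comp_apply, ← Scheme.Hom.comp_apply e.inv e.hom, e.inv_hom_id]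
        exact hv
    have h4 : _root_.IsPreconnected
        (((pullback.snd f g).fiberι t) ⁻¹' ((pullback.fst f g) ⁻¹' Z)) := by
      rw [h3]
      exact h1.image _ e.inv.continuous.continuousOn
    have h5 : (pullback.fst f g) ⁻¹' Z ∩ (pullback.snd f g) ⁻¹' {t} =
        ((pullback.snd f g).fiberι t) ''
          (((pullback.snd f g).fiberι t) ⁻¹' ((pullback.fst f g) ⁻¹' Z)) := by
      rw [Set.image_preimage_eq_inter_range, Scheme.Hom.range_fiberι]
    rw [h5]
    exact h4.image _ ((pullback.snd f g).fiberι t).continuous.continuousOn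

end BaseChange

/-- **The DVR case for a base change.** -/
theorem exists_proper_model_pullback {X Y : Scheme.{u}} (f : X ⟶ Y) [IsSeparated f]
    [LocallyOfFiniteType f] [QuasiCompact f] (Z : Set X)
    {R : Type u} [CommRing R] [IsDomain R] [IsDiscreteValuationRing R] [HenselianLocalRing R]
    (g : Spec (CommRingCat.of R) ⟶ Y)
    (hs : FibClopenProper f Z (g (closedPoint R)))
    (hη : FibGeomConn f Z (g (⟨⊥, Ideal.isPrime_bot⟩ : PrimeSpectrum R)))
    (hnc : ∃ x₀ ∈ (pullback.fst f g) ⁻¹' Z, (pullback.snd f g) x₀ = closedPoint R ∧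
      x₀ ∈ closure ((pullback.fst f g) ⁻¹' Z ∩
        (pullback.snd f g) ⁻¹' {(⟨⊥, Ideal.isPrime_bot⟩ : PrimeSpectrum R)})) :
    ∃ (T : Scheme.{u}) (i : T ⟶ pullback f g),
      Set.range i = (pullback.fst f g) ⁻¹' Z ∧ IsProper (i ≫ pullback.snd f g) := by
  obtain ⟨hcl, hop, hprop⟩ := fibClopenProper_snd f g (closedPoint R) Z hs
  obtain ⟨hclK, hconn⟩ := isPreconnected_of_fibGeomConn f g
    (⟨⊥, Ideal.isPrime_bot⟩ : PrimeSpectrum R) Z hη
  exact exists_proper_model_of_dvr (pullback.snd f g) ((pullback.fst f g) ⁻¹' Z) hop hcl hprop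
    hclK hconn hnc

end Groth.Agent.Lib.helper9.PropDvr
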