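import Groth.Agent.Lib.Helper9.PropDvr8
import Groth.Agent.Lib.Helper9.EtRad3
import Groth.Agent.S2277

/-!
# Properness of `Z ∩ X_{y'}` at generizations (helper9)

* `exists_mem_closure_of_submersive`: over a DVR, the submersivity hypothesis (iii) of
  EGA IV 15.7.5 gives a point of `Z` over the closed point in the closure of `Z ∩ X_η`.
* `isProper_of_universallyClosed_snd`: descent of properness of the open subscheme `Z ∩ X_t` of a
  fibre along a base change.
* `fibClopenProper_generic_of_dvr`: over a henselian DVR, properness of `Z ∩ X_s` implies properness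
  of `Z ∩ X_η`.
-/

set_option autoImplicit false
set_option linter.style.haveILetI false
set_option backward.isDefEq.respectTransparency false

universe u

open CategoryTheory CategoryTheory.Limits AlgebraicGeometry TopologicalSpace IsLocalRing

namespace Groth.Agent.Lib.helper9.PropDvr

/-- the submersivity hypothesis for one base change `g`. -/
def SubmersiveAlong {X Y Y' : Scheme.{u}} (f : X ⟶ Y) (Z : Set X) (g : Y' ⟶ Y) : Prop :=
  ∀ E : Set Y', E ⊆ g ⁻¹' (f '' Z) →
    (∃ W : Set ↥(pullback f g), IsOpen W ∧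
      W ∩ (pullback.fst f g) ⁻¹' Z = (pullback.snd f g) ⁻¹' E ∩ (pullback.fst f g) ⁻¹' Z) →
    ∃ V : Set Y', IsOpen V ∧ V ∩ g ⁻¹' (f '' Z) = E

theorem exists_mem_closure_of_submersive {X Y : Scheme.{u}} (f : X ⟶ Y) (Z : Set X)
    {R : Type u} [CommRing R] [IsDomain R] [IsDiscreteValuationRing R]
    (g : Spec (CommRingCat.of R) ⟶ Y) (hsub : SubmersiveAlong f Z g)
    (hs : ∃ x ∈ Z, f x = g (closedPoint R))
    (hη : ∃ x ∈ Z, f x = g (⟨⊥, Ideal.isPrime_bot⟩ : PrimeSpectrum R)) :
    ∃ x₀ ∈ (pullback.fst f g) ⁻¹' Z, (pullback.snd f g) x₀ = closedPoint R ∧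
      x₀ ∈ closure ((pullback.fst f g) ⁻¹' Z ∩
        (pullback.snd f g) ⁻¹' {(⟨⊥, Ideal.isPrime_bot⟩ : PrimeSpectrum R)}) := by
  by_contra hcon
  push Not at hcon
  obtain ⟨xs, hxsZ, hxs⟩ := hs
  obtain ⟨xη, hxηZ, hxη⟩ := hη
  set s : ↥(Spec (CommRingCat.of R)) := closedPoint R with hs_def
  set η : ↥(Spec (CommRingCat.of R)) := (⟨⊥, Ideal.isPrime_bot⟩ : PrimeSpectrum R) with hη_def
  have hE : ({s} : Set ↥(Spec (CommRingCat.of R))) ⊆ g ⁻¹' (f '' Z) := by
    intro t ht
    rw [Set.mem_singleton_iff] at ht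
    rw [ht]
    exact ⟨xs, hxsZ, hxs⟩
  obtain ⟨V, hVo, hV⟩ := hsub {s} hE
    ⟨(closure ((pullback.fst f g) ⁻¹' Z ∩ (pullback.snd f g) ⁻¹' {η}))ᶜ,
      isClosed_closure.isOpen_compl, by
        ext w
        constructor
        · rintro ⟨hw1, hw2⟩
          refine ⟨?_, hw2⟩
          rcases eq_closedPoint_or_eq_bot ((pullback.snd f g) w) with h | h
          · exact h
          · exfalso
            exact hw1 (subset_closure ⟨hw2, h⟩)
        · rintro ⟨hw1, hw2⟩
          exact ⟨hcon w hw2 hw1, hw2⟩⟩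
  have hsV : s ∈ V := by
    have : s ∈ V ∩ g ⁻¹' (f '' Z) := by rw [hV]; rfl
    exact this.1
  have hVtop : (⟨V, hVo⟩ : Opens (PrimeSpectrum R)) = ⊤ :=
    (IsLocalRing.closedPoint_mem_iff (R := R) ⟨V, hVo⟩).mp hsV
  have hηV : η ∈ V := by
    have : η ∈ ((⟨V, hVo⟩ : Opens (PrimeSpectrum R)) : Set (PrimeSpectrum R)) := by
      rw [hVtop]; trivial
    exact this
  have : η ∈ V ∩ g ⁻¹' (f '' Z) := ⟨hηV, ⟨xη, hxηZ, hxη⟩⟩
  rw [hV, Set.mem_singleton_iff] at this
  exact bot_ne_closedPoint this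

section Descend

variable {X Y T : Scheme.{u}} (f : X ⟶ Y) [IsSeparated f] [LocallyOfFiniteType f]
  (g : T ⟶ Y) (t : T)

theorem isProper_of_universallyClosed_snd (Z : Set X)
    (hop : IsOpen ((f.fiberι (g t)) ⁻¹' Z))
    (huc : UniversallyClosed
      (((fiberMap f g t) ⁻¹ᵁ (⟨(f.fiberι (g t)) ⁻¹' Z, hop⟩ : (f.fiber (g t)).Opens)).ι ≫
        (pullback.snd f g).fiberToSpecResidueField t)) :
    IsProper (Scheme.Opens.ι (⟨(f.fiberι (g t)) ⁻¹' Z, hop⟩ : (f.fiber (g t)).Opens) ≫
      f.fiberToSpecResidueField (g t)) := by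
  let O : (f.fiber (g t)).Opens := ⟨(f.fiberι (g t)) ⁻¹' Z, hop⟩
  have sq1 := isPullback_morphismRestrict (fiberMap f g t) O
  have sq := sq1.paste_vert (isPullback_fiberMap f g t)
  have h0 : Flat (Spec.map (g.residueFieldMap t)) := by
    rw [HasRingHomProperty.Spec_iff (P := @Flat)]
    letI := (g.residueFieldMap t).hom.toAlgebra
    change Module.Flat _ _
    infer_instance
  have h1 : Surjective (Spec.map (g.residueFieldMap t)) := by
    refine ⟨fun x => ?_⟩
    obtain ⟨w⟩ : Nonempty ↥(Spec (T.residueField t)) :=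
      inferInstanceAs (Nonempty (PrimeSpectrum (T.residueField t)))
    haveI : Subsingleton ↥(Spec (Y.residueField (g t))) :=
      inferInstanceAs (Subsingleton (PrimeSpectrum (Y.residueField (g t))))
    exact ⟨w, Subsingleton.elim (α := ↥(Spec (Y.residueField (g t)))) _ _⟩
  have h2 : QuasiCompact (Spec.map (g.residueFieldMap t)) := inferInstance
  haveI : UniversallyClosed (O.ι ≫ f.fiberToSpecResidueField (g t)) :=
    MorphismProperty.of_isPullback_of_descendsAlong (P := @UniversallyClosed)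
      (Q := @Surjective ⊓ @Flat ⊓ @QuasiCompact) sq.flip ⟨⟨h1, h0⟩, h2⟩ huc
  haveI : IsSeparated (f.fiberToSpecResidueField (g t)) :=
    MorphismProperty.pullback_snd (P := @IsSeparated) _ _ inferInstance
  haveI : LocallyOfFiniteType (f.fiberToSpecResidueField (g t)) :=
    MorphismProperty.pullback_snd (P := @LocallyOfFiniteType) _ _ inferInstance
  exact (isProper_iff _).mpr ⟨inferInstance, inferInstance, inferInstance⟩

end Descend

/-- over a henselian DVR, properness of `Z ∩ X_s` propagates to `Z ∩ X_η`. -/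
theorem fibClopenProper_generic_of_dvr {X Y : Scheme.{u}} (f : X ⟶ Y) [IsSeparated f]
    [LocallyOfFiniteType f] [QuasiCompact f] (Z : Set X)
    {R : Type u} [CommRing R] [IsDomain R] [IsDiscreteValuationRing R] [HenselianLocalRing R]
    (g : Spec (CommRingCat.of R) ⟶ Y)
    (hs : FibClopenProper f Z (g (closedPoint R)))
    (hη : FibGeomConn f Z (g (⟨⊥, Ideal.isPrime_bot⟩ : PrimeSpectrum R)))
    (hop : IsOpen ((f.fiberι (g (⟨⊥, Ideal.isPrime_bot⟩ : PrimeSpectrum R))) ⁻¹' Z))
    (hnc : ∃ x₀ ∈ (pullback.fst f g) ⁻¹' Z, (pullback.snd f g) x₀ = closedPoint R ∧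
      x₀ ∈ closure ((pullback.fst f g) ⁻¹' Z ∩
        (pullback.snd f g) ⁻¹' {(⟨⊥, Ideal.isPrime_bot⟩ : PrimeSpectrum R)})) :
    FibClopenProper f Z (g (⟨⊥, Ideal.isPrime_bot⟩ : PrimeSpectrum R)) := by
  obtain ⟨T, i, hrange, hprop⟩ := exists_proper_model_pullback f Z g hs hη hnc
  refine ⟨hη.1, hop, ?_⟩
  set η : ↥(Spec (CommRingCat.of R)) := (⟨⊥, Ideal.isPrime_bot⟩ : PrimeSpectrum R) with hη_def
  apply isProper_of_universallyClosed_snd f g η Z hop
  let h := pullback.snd f g
  let O : (f.fiber (g η)).Opens := ⟨(f.fiberι (g η)) ⁻¹' Z, hop⟩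
  let O' : (h.fiber η).Opens := (fiberMap f g η) ⁻¹ᵁ O
  let p : pullback i (h.fiberι η) ⟶ h.fiber η := pullback.snd i (h.fiberι η)
  have hp : Set.range p = (O' : Set ↥(h.fiber η)) := by
    rw [Scheme.Pullback.range_snd, hrange]
    exact preimage_fiberι_snd f g η Z
  have hpO : Set.range p ⊆ Set.range O'.ι := by
    rw [Scheme.Opens.range_ι, hp]
  let p' : pullback i (h.fiberι η) ⟶ O'.toScheme := IsOpenImmersion.lift O'.ι p hpO
  have hp' : p' ≫ O'.ι = p := IsOpenImmersion.lift_fac _ _ _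
  haveI : Surjective p' := by
    refine ⟨fun o => ?_⟩
    have : O'.ι o ∈ Set.range p := by
      rw [hp, Scheme.Opens.ι_apply]
      exact o.2
    obtain ⟨w, hw⟩ := this
    refine ⟨w, ?_⟩
    apply O'.ι.isOpenEmbedding.injective
    rw [← Scheme.Hom.comp_apply, hp']
    exact hw
  have sqA : IsPullback p (pullback.fst i (h.fiberι η)) (h.fiberι η) i :=
    (IsPullback.of_hasPullback i (h.fiberι η)).flip
  have sqB : IsPullback (h.fiberToSpecResidueField η) (h.fiberι η)
      ((Spec (CommRingCat.of R)).fromSpecResidueField η) h :=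
    (IsPullback.of_hasPullback h ((Spec (CommRingCat.of R)).fromSpecResidueField η)).flip
  have sqC := sqA.paste_horiz sqB
  haveI : IsProper (i ≫ h) := hprop
  haveI h3 : IsProper (p ≫ h.fiberToSpecResidueField η) :=
    MorphismProperty.of_isPullback (P := @IsProper) sqC.flip inferInstance
  haveI h4 : IsProper (p' ≫ O'.ι ≫ h.fiberToSpecResidueField η) := by
    rw [← Category.assoc, hp']
    exact h3
  exact UniversallyClosed.of_comp_surjective p' (O'.ι ≫ h.fiberToSpecResidueField η)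

end Groth.Agent.Lib.helper9.PropDvr
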