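import Mathlib
import Groth.Agent.Lib.Helper9.PurityFlat

/-!
# Finite flat morphisms étale away from codimension two are étale (helper9)
-/

set_option backward.isDefEq.respectTransparency false
set_option linter.style.haveILetI false

namespace Groth.Agent.Lib.helper9.PurityFlatGeom

open AlgebraicGeometry CategoryTheory CategoryTheory.Limits TopologicalSpace

universe u

/-- If `f` is étale over the open `U` and `D(t) ≤ U` for a section `t` over an affine open `V`,
then `Γ(X, f⁻¹V)[1/t]` is unramified over `Γ(Y, V)`. -/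
theorem formallyUnramified_away {X Y : Scheme.{u}} (f : X ⟶ Y) [IsAffineHom f] (U : Y.Opens)
    [Etale (f ∣_ U)] {V : Y.Opens} (hV : IsAffineOpen V) (t : Γ(Y, V))
    (ht : Y.basicOpen t ≤ U) :
    letI := (f.app V).hom.toAlgebra
    Algebra.FormallyUnramified Γ(Y, V) (Localization.Away ((f.app V).hom t)) := by
  letI := (f.app V).hom.toAlgebra
  have hD : IsAffineOpen (Y.basicOpen t) := hV.basicOpen t
  have hXb : IsAffineOpen (X.basicOpen ((f.app V).hom t)) := (hV.preimage f).basicOpen _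
  have e₁ : X.basicOpen ((f.app V).hom t) ≤ f ⁻¹ᵁ Y.basicOpen t :=
    le_of_eq (Scheme.preimage_basicOpen f t).symm
  have hle : X.basicOpen ((f.app V).hom t) ≤ f ⁻¹ᵁ U :=
    e₁.trans (fun x hx => ht hx)
  have hW : IsAffineOpen ((f ⁻¹ᵁ U).ι ⁻¹ᵁ X.basicOpen ((f.app V).hom t)) :=
    hXb.preimage_of_isOpenImmersion (f ⁻¹ᵁ U).ι (by rw [Scheme.Opens.opensRange_ι]; exact hle)
  have hg : Etale ((f ⁻¹ᵁ U).ι ≫ f) := by
    rw [← morphismRestrict_ι]
    infer_instance
  have hiso : IsIso ((f ⁻¹ᵁ U).ι.app (X.basicOpen ((f.app V).hom t))) :=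
    (f ⁻¹ᵁ U).ι.isIso_app _ (by rw [Scheme.Opens.opensRange_ι]; exact hle)
  have het : (f.appLE (Y.basicOpen t) (X.basicOpen ((f.app V).hom t)) e₁).hom.Etale := by
    have h0 : ((f.appLE (Y.basicOpen t) (X.basicOpen ((f.app V).hom t)) e₁) ≫
        (f ⁻¹ᵁ U).ι.app (X.basicOpen ((f.app V).hom t))).hom.Etale := by
      rw [(f ⁻¹ᵁ U).ι.app_eq_appLE, Scheme.Hom.appLE_comp_appLE]
      exact HasRingHomProperty.appLE (P := @Etale) ((f ⁻¹ᵁ U).ι ≫ f) hg
        ⟨Y.basicOpen t, hD⟩ ⟨_, hW⟩ _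
    exact (RingHom.Etale.respectsIso.cancel_right_isIso _ _).mp h0
  let _ : Algebra Γ(Y, Y.basicOpen t) Γ(X, X.basicOpen ((f.app V).hom t)) :=
    (f.appLE (Y.basicOpen t) (X.basicOpen ((f.app V).hom t)) e₁).hom.toAlgebra
  let _ : Algebra Γ(Y, V) Γ(X, X.basicOpen ((f.app V).hom t)) :=
    ((algebraMap Γ(X, f ⁻¹ᵁ V) Γ(X, X.basicOpen ((f.app V).hom t))).comp
      (algebraMap Γ(Y, V) Γ(X, f ⁻¹ᵁ V))).toAlgebra
  have : IsScalarTower Γ(Y, V) Γ(X, f ⁻¹ᵁ V) Γ(X, X.basicOpen ((f.app V).hom t)) :=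
    IsScalarTower.of_algebraMap_eq (fun _ => rfl)
  have : IsScalarTower Γ(Y, V) Γ(Y, Y.basicOpen t) Γ(X, X.basicOpen ((f.app V).hom t)) := by
    refine IsScalarTower.of_algebraMap_eq (fun a => ?_)
    have h1 : Y.presheaf.map (homOfLE (Y.basicOpen_le t)).op ≫
        f.appLE (Y.basicOpen t) (X.basicOpen ((f.app V).hom t)) e₁ =
        f.app V ≫ X.presheaf.map (homOfLE (X.basicOpen_le ((f.app V).hom t))).op := by
      rw [Scheme.Hom.map_appLE]
      rfl
    exact (congrArg (fun φ => φ.hom a) h1).symm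
  have hloc1 : IsLocalization.Away t Γ(Y, Y.basicOpen t) := hV.isLocalization_basicOpen t
  have hloc2 : IsLocalization.Away ((f.app V).hom t) Γ(X, X.basicOpen ((f.app V).hom t)) :=
    (hV.preimage f).isLocalization_basicOpen _
  have h1 : Algebra.FormallyUnramified Γ(Y, V) Γ(Y, Y.basicOpen t) :=
    Algebra.FormallyUnramified.of_isLocalization (Submonoid.powers t)
  have h2 : Algebra.Etale Γ(Y, Y.basicOpen t) Γ(X, X.basicOpen ((f.app V).hom t)) := het
  have h3 : Algebra.FormallyUnramified Γ(Y, V) Γ(X, X.basicOpen ((f.app V).hom t)) :=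
    Algebra.FormallyUnramified.comp Γ(Y, V) Γ(Y, Y.basicOpen t) _
  let e : Γ(X, X.basicOpen ((f.app V).hom t)) ≃ₐ[Γ(X, f ⁻¹ᵁ V)]
      Localization.Away ((f.app V).hom t) :=
    IsLocalization.algEquiv (Submonoid.powers ((f.app V).hom t)) _ _
  exact Algebra.FormallyUnramified.of_equiv (e.restrictScalars Γ(Y, V))

/-- Let `f : X ⟶ Y` be finite and flat with `Y` locally noetherian, étale over an open `U` whose
complement has codimension at least two. Then `f` is étale. -/
theorem etale_of_finite_flat {X Y : Scheme.{u}} [IsLocallyNoetherian Y]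
    (f : X ⟶ Y) [IsFinite f] [Flat f] (U : Y.Opens)
    (hU : ∀ y : Y, y ∉ U → (2 : WithBot ℕ∞) ≤ ringKrullDim (Y.presheaf.stalk y))
    [Etale (f ∣_ U)] : Etale f := by
  have hfp : LocallyOfFinitePresentation f :=
    LocallyOfFinitePresentation.iff_locallyOfFiniteType.mpr inferInstance
  suffices hun : FormallyUnramified f from Etale.of_formallyUnramified_of_flat (f := f)
  rw [HasRingHomProperty.iff_appLE (P := @FormallyUnramified)]
  intro V W e
  have hV : IsAffineOpen V.1 := V.2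
  have h1 : (f.app V.1).hom.FormallyUnramified := by
    letI := (f.app V.1).hom.toAlgebra
    have : IsNoetherianRing Γ(Y, V.1) := IsLocallyNoetherian.component_noetherian V
    have : Module.Finite Γ(Y, V.1) Γ(X, f ⁻¹ᵁ V.1) := IsFinite.finite_app f V.1 hV
    have : Module.Flat Γ(Y, V.1) Γ(X, f ⁻¹ᵁ V.1) := by
      have := f.flat_appLE hV (hV.preimage f) le_rfl
      rw [Scheme.Hom.appLE_eq_app] at this
      exact this
    refine PurityFlat.formallyUnramified_of_codim_two (R := Γ(Y, V.1))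
      (B := Γ(X, f ⁻¹ᵁ V.1)) ?_
    intro p hp hht
    have hyV : hV.fromSpec ⟨p, hp⟩ ∈ V.1 := by
      have h := Set.mem_range_self (f := hV.fromSpec) ⟨p, hp⟩
      rw [hV.range_fromSpec] at h
      exact h
    letI := TopCat.Presheaf.algebra_section_stalk Y.presheaf ⟨hV.fromSpec ⟨p, hp⟩, hyV⟩
    have hloc : IsLocalization.AtPrime (Y.presheaf.stalk (hV.fromSpec ⟨p, hp⟩)) p :=
      hV.isLocalization_stalk' ⟨p, hp⟩ hyV
    have hdim : ringKrullDim (Y.presheaf.stalk (hV.fromSpec ⟨p, hp⟩)) = p.height :=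
      IsLocalization.AtPrime.ringKrullDim_eq_height p _
    have hyU : hV.fromSpec ⟨p, hp⟩ ∈ U := by
      by_contra hy
      have h2 := hU _ hy
      rw [hdim] at h2
      have h3 : (2 : WithBot ℕ∞) ≤ ((1 : ℕ∞) : WithBot ℕ∞) :=
        h2.trans (WithBot.coe_le_coe.mpr hht)
      have h4 : (2 : ℕ∞) ≤ 1 := WithBot.coe_le_coe.mp h3
      exact absurd h4 (by decide)
    obtain ⟨t, htU, hyt⟩ := hV.exists_basicOpen_le (V := U) ⟨_, hyU⟩ hyV
    refine ⟨t, ?_, formallyUnramified_away f U hV t htU⟩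
    intro htp
    have h5 : (⟨p, hp⟩ : PrimeSpectrum Γ(Y, V.1)) ∈ hV.fromSpec ⁻¹ᵁ (Y.basicOpen t) := hyt
    rw [hV.fromSpec_preimage_basicOpen] at h5
    exact h5 htp
  have h2 : (X.presheaf.map (homOfLE e).op).hom.FormallyUnramified := by
    have h3 := HasRingHomProperty.appLE (P := @FormallyUnramified) (𝟙 X) inferInstance
      ⟨f ⁻¹ᵁ V.1, hV.preimage f⟩ W e
    rw [Scheme.Hom.appLE, Scheme.Hom.id_app] at h3
    simpa using h3
  rw [Scheme.Hom.appLE, CommRingCat.hom_comp]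
  exact RingHom.FormallyUnramified.stableUnderComposition _ _ h1 h2

end Groth.Agent.Lib.helper9.PurityFlatGeom
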