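import Mathlib

/-!
# Base change is generizing inside the fibres (helper9)

`exists_generization_fibre_of_isPullback`: in a cartesian square `P = X ×_Z Y`, a generization
`z` of `fst c` inside the fibre of `f` lifts to a generization of `c` inside the fibre of `snd`
(the map of fibres is a base change of a field extension, hence flat).
-/

set_option autoImplicit false
set_option linter.style.haveILetI false

namespace Groth.Agent.Lib.helper9.QFAff

open AlgebraicGeometry CategoryTheory Limits

universe u

theorem exists_generization_fibre_of_isPullback {P X Y Z : Scheme.{u}} {fst : P ⟶ X}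
    {snd : P ⟶ Y} {f : X ⟶ Z} {g : Y ⟶ Z} (h : IsPullback fst snd f g) (c : P) (z : X)
    (hz : z ⤳ fst c) (hfz : f z = f (fst c)) :
    ∃ c' : P, c' ⤳ c ∧ fst c' = z ∧ snd c' = snd c := by
  set y : Y := snd c with hy
  have hpb := isPullback_fiberToSpecResidueField_of_isPullback h y
  set φ : snd.fiber y ⟶ f.fiber (g y) :=
    pullback.map _ _ _ _ fst (Spec.map (g.residueFieldMap y)) g h.w.symm (by simp) with hφ
  have hφι : φ ≫ f.fiberι (g y) = snd.fiberι y ≫ fst := pullback.lift_fst _ _ _
  have h0 : Flat (Spec.map (g.residueFieldMap y)) := by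
    rw [HasRingHomProperty.Spec_iff (P := @Flat)]
    letI := (g.residueFieldMap y).hom.toAlgebra
    change Module.Flat _ _
    infer_instance
  have hflat : Flat φ := MorphismProperty.of_isPullback (P := @Flat) hpb.flip h0
  have hgen : GeneralizingMap φ := Flat.generalizingMap φ
  have hw : f (fst c) = g y := by
    rw [← Scheme.Hom.comp_apply, h.w, Scheme.Hom.comp_apply]
  obtain ⟨zF, hzF⟩ : z ∈ Set.range (f.fiberι (g y)) := by
    rw [f.range_fiberι (g y)]
    exact hfz.trans hw
  have hcF : snd.fiberι y (snd.asFiber c) = c := snd.fiberι_asFiber c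
  have hφc : f.fiberι (g y) (φ (snd.asFiber c)) = fst c := by
    have := congrArg (fun ψ : snd.fiber y ⟶ X => ψ (snd.asFiber c)) hφι
    simp only [Scheme.Hom.comp_apply] at this
    rw [this, hcF]
  have hsp : zF ⤳ φ (snd.asFiber c) := by
    rw [← (f.fiberι (g y)).isEmbedding.isInducing.specializes_iff, hzF, hφc]
    exact hz
  obtain ⟨c'F, hc'sp, hc'φ⟩ := hgen hsp
  refine ⟨snd.fiberι y c'F, ?_, ?_, ?_⟩
  · have := hc'sp.map (snd.fiberι y).continuous
    rwa [hcF] at this
  · have := congrArg (fun ψ : snd.fiber y ⟶ X => ψ c'F) hφι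
    simp only [Scheme.Hom.comp_apply] at this
    rw [← this, hc'φ, hzF]
  · have : snd.fiberι y c'F ∈ Set.range (snd.fiberι y) := ⟨_, rfl⟩
    rw [snd.range_fiberι y] at this
    exact this

end Groth.Agent.Lib.helper9.QFAff
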