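import Groth.Agent.Lib.Helper9.FinBC8
import Groth.Agent.Lib.Helper4.ValRefined
import Groth.Agent.S3404

/-!
# A valuative criterion for universal openness at a point (helper9)

`isUnivOpenAt_of_valuative`: a morphism locally of finite presentation `u : X ⟶ P` is universally
open at `x` as soon as, for every valuation ring `R` and every `m : Spec R ⟶ P`, every point of
`X ×_P Spec R` lying over `x` and the closed point has a generization over the generic point.
No Noetherian hypotheses.
-/

set_option autoImplicit false
set_option linter.style.haveILetI false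
set_option backward.isDefEq.respectTransparency false

namespace Groth.Agent.Lib.helper9.QFAff

open AlgebraicGeometry CategoryTheory Limits

universe u

theorem isUnivOpenAt_of_valuative {X P : Scheme.{u}} (u : X ⟶ P)
    [LocallyOfFinitePresentation u] (x : X)
    (H : ∀ (R : Type u) [CommRing R] [IsDomain R] [ValuationRing R]
      (m : Spec (CommRingCat.of R) ⟶ P) (q : ↥(pullback u m)),
      (pullback.fst u m).base q = x →
      ∃ q' : ↥(pullback u m), q' ⤳ q ∧
        (pullback.snd u m).base q' = (⟨⊥, Ideal.isPrime_bot⟩ : PrimeSpectrum R)) :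
    EGA43.IsUnivOpenAt u x := by
  intro Y' g x' hx'
  refine ((Groth.Agent.S3404.result (pullback.snd u g) x').2 inferInstance).mpr ?_
  intro y'' hy''
  obtain ⟨R, m, hm1, hm2⟩ :=
    Groth.Agent.Lib.helper4.ValRefined.exists_valuationSubring_of_specializes (𝟙 Y') y''
      ((pullback.snd u g).base x') (by simpa using hy'')
  let ηR : Spec (CommRingCat.of R) :=
    (Spec.map (CommRingCat.ofHom R.subtype)).base (IsLocalRing.closedPoint (Y'.residueField y''))
  have hηs' : m.base ηR = y'' := by
    change m.base ((Spec.map (CommRingCat.ofHom R.subtype)).base _) = y''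
    rw [← Scheme.Hom.comp_apply, hm2, Category.comp_id]
    exact Scheme.fromSpecResidueField_apply _ _
  have hηbot : ηR = (⟨⊥, Ideal.isPrime_bot⟩ : PrimeSpectrum R) := by
    apply PrimeSpectrum.ext
    change Ideal.comap R.subtype (IsLocalRing.maximalIdeal (Y'.residueField y'')) = ⊥
    rw [IsLocalRing.maximalIdeal_eq_bot]
    exact (RingHom.injective_iff_ker_eq_bot _).mp Subtype.val_injective
  obtain ⟨q', hq', hq'p⟩ := FinBC.exists_generization_of_comp_at u g m x
    (p₁ := IsLocalRing.closedPoint R) (p₁' := ηR)
    (fun q₁ hq₁ _ => by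
      obtain ⟨q₁', h1, h2⟩ := H R (m ≫ g) q₁ hq₁
      exact ⟨q₁', h1, h2.trans hηbot.symm⟩)
    x' hx' hm1.symm
  exact ⟨q', hq', hq'p.trans hηs'⟩

end Groth.Agent.Lib.helper9.QFAff
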