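import Mathlib
import Groth.Agent.Lib.Helper9.UOPoint
import Groth.Agent.Lib.Helper3.UnivOpenAffineSpace

/-!
# Universal openness over geometrically unibranch bases without Noetherian hypotheses (helper9)

The Noetherian hypothesis of `UOMain` is replaced by `LocIrr Y`: every point has an irreducible open
neighbourhood (e.g. `Y` has finitely many irreducible components and prime nilradical stalks).
-/

set_option autoImplicit false
set_option linter.style.haveILetI false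
set_option backward.isDefEq.respectTransparency false

namespace Groth.Agent.Lib.helper9.UO

open AlgebraicGeometry CategoryTheory Limits

universe u

/-- Every point has an irreducible open neighbourhood. -/
def LocIrr (Y : Scheme.{u}) : Prop :=
  ∀ y : Y, ∃ U : Y.Opens, y ∈ U ∧ IsIrreducible (U : Set Y)

theorem locIrr_of_finite_irreducibleComponents (Y : Scheme.{u})
    (hfin : (irreducibleComponents ↥Y).Finite)
    (hnil : ∀ y : Y, (nilradical (Y.presheaf.stalk y)).IsPrime) : LocIrr Y := by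
  intro y
  obtain ⟨Z₀, ⟨hZ₀, hyZ₀⟩, huniq⟩ :=
    UnramGeom.existsUnique_irreducibleComponent_of_nilradical_isPrime Y y (hnil y)
  let V : Set ↥Y := (⋃₀ (irreducibleComponents ↥Y \ {Z₀}))ᶜ
  have hVopen : IsOpen V := by
    rw [isOpen_compl_iff, Set.sUnion_eq_biUnion]
    exact hfin.sdiff.isClosed_biUnion fun W hW ↦ isClosed_of_mem_irreducibleComponents W hW.1
  have hyV : y ∈ V := by
    rintro ⟨W, ⟨hW, hWne⟩, hyW⟩
    exact hWne (huniq W ⟨hW, hyW⟩)
  have hVsub : V ⊆ Z₀ := by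
    intro v hv
    by_contra hvZ
    apply hv
    refine ⟨irreducibleComponent v, ⟨irreducibleComponent_mem_irreducibleComponents v, ?_⟩,
      mem_irreducibleComponent⟩
    intro h
    apply hvZ
    rw [← Set.mem_singleton_iff.1 h]
    exact mem_irreducibleComponent
  exact ⟨⟨V, hVopen⟩, hyV, ⟨y, hyV⟩, hZ₀.1.isPreirreducible.open_subset hVopen hVsub⟩

theorem locIrr_affineSpace (n : Type u) (Y : Scheme.{u}) (h : LocIrr Y) : LocIrr 𝔸(n; Y) := by
  intro p
  obtain ⟨U, hpU, hU⟩ := h ((𝔸(n; Y) ↘ Y) p)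
  exact ⟨(𝔸(n; Y) ↘ Y) ⁻¹ᵁ U, hpU,
    (𝔸(n; Y) ↘ Y).isIrreducible_preimage (AffineSpace.isOpenMap_over Y) hU⟩

/-- Variant of `isOpenAt_of_locallyQuasiFinite_of_isUnibranch` with `LocIrr`. -/
theorem isOpenAt_of_locallyQuasiFinite_of_isUnibranch' {X Y : Scheme.{u}} (f : X ⟶ Y)
    [LocallyQuasiFinite f] [LocallyOfFiniteType f] (hirr : LocIrr Y)
    (hdom : ∀ ξ ∈ genericPoints ↥X, f ξ ∈ genericPoints ↥Y) (x : X)
    (hy : CAlg2.IsUnibranch (Y.presheaf.stalk (f x))) : EGA43.IsOpenAt f x := by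
  obtain ⟨U, hyU, hirrU⟩ := hirr (f x)
  haveI : IrreducibleSpace ↥(U : Scheme.{u}) := isIrreducible_iff_irreducibleSpace.1 hirrU
  let x' : ↥(f ⁻¹ᵁ U : Scheme.{u}) := ⟨x, hyU⟩
  have h3 : U.ι ((f ∣_ U) x') = f x := by
    rw [← Scheme.Hom.comp_apply, morphismRestrict_ι]
    rfl
  have hopen : EGA43.IsOpenAt (f ∣_ U) x' := by
    apply UnramGeom.isOpenAt_of_quasiFiniteAt_of_isUnibranch (f ∣_ U) x'
      ((f ∣_ U).quasiFiniteAt x')
    · have hy' : CAlg2.IsUnibranch (Y.presheaf.stalk (U.ι ((f ∣_ U) x'))) := by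
        rw [h3]
        exact hy
      exact UnramCore.isUnibranch_of_ringEquiv
        (asIso (U.ι.stalkMap ((f ∣_ U) x'))).commRingCatIsoToRingEquiv hy'
    · obtain ⟨ξ, hξ, hξx⟩ := exists_mem_genericPoints_specializes x
      have hξU : ξ ∈ f ⁻¹ᵁ U := hξx.mem_open (f ⁻¹ᵁ U).2 hyU
      refine ⟨⟨ξ, hξU⟩, (subtype_specializes_iff _ _).2 hξx, ?_⟩
      have h1 := hdom ξ hξ
      have h4 : U.ι ((f ∣_ U) ⟨ξ, hξU⟩) = f ξ := by
        rw [← Scheme.Hom.comp_apply, morphismRestrict_ι]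
        rfl
      have h5 : U.ι (genericPoint ↥(U : Scheme.{u})) ⤳ U.ι ((f ∣_ U) ⟨ξ, hξU⟩) :=
        (genericPoint_specializes _).map U.ι.continuous
      rw [h4] at h5
      have h6 := eq_of_specializes_of_mem_genericPoints h1 h5
      exact U.ι.isOpenEmbedding.injective (h4.trans h6.symm)
  intro N hN
  have hN' : (f ⁻¹ᵁ U).ι ⁻¹' N ∈ nhds x' :=
    (f ⁻¹ᵁ U).ι.continuous.continuousAt.preimage_mem_nhds hN
  have h1 := hopen _ hN'
  have h2 : U.ι '' ((f ∣_ U) '' ((f ⁻¹ᵁ U).ι ⁻¹' N)) ∈ nhds (U.ι ((f ∣_ U) x')) :=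
    U.ι.isOpenEmbedding.isOpenMap.image_mem_nhds h1
  rw [h3] at h2
  refine Filter.mem_of_superset h2 ?_
  rintro _ ⟨_, ⟨w, hw, rfl⟩, rfl⟩
  refine ⟨(f ⁻¹ᵁ U).ι w, hw, ?_⟩
  rw [← Scheme.Hom.comp_apply, ← morphismRestrict_ι]
  rfl

/-- **EGA IV 14.4.1-type without Noetherian hypotheses**. -/
theorem universallyOpen_of_locallyQuasiFinite_of_geomUnibranch' {X Y : Scheme.{u}} (f : X ⟶ Y)
    [LocallyQuasiFinite f] [LocallyOfFiniteType f] (hirr : LocIrr Y)
    (hY : ∀ y : Y, CAlg2.IsGeomUnibranch (Y.presheaf.stalk y))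
    (hdom : ∀ ξ ∈ genericPoints ↥X, f ξ ∈ genericPoints ↥Y) : UniversallyOpen f := by
  apply Groth.Agent.Lib.helper3.UOA.universallyOpen_of_affineSpace
  intro n _
  rw [isOpenMap_iff_nhds_le]
  intro w
  rw [Filter.le_map_iff]
  intro N hN
  refine isOpenAt_of_locallyQuasiFinite_of_isUnibranch'
    (pullback.snd f (𝔸(ULift.{u} (Fin n); Y) ↘ Y)) (locIrr_affineSpace _ Y hirr)
    (map_mem_genericPoints_pullback_snd f _ hdom) w ?_ N hN
  exact (UnramGeom.isGeomUnibranch_stalk_of_smooth (𝔸(ULift.{u} (Fin n); Y) ↘ Y) _ (hY _)).1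

/-- Chevalley's criterion on a neighbourhood, without Noetherian hypotheses. -/
theorem exists_universallyOpen_nbhd_of_isEquidimAt' {X Y : Scheme.{u}} (hirr : LocIrr Y)
    (hY : ∀ y : Y, CAlg2.IsGeomUnibranch (Y.presheaf.stalk y)) (f : X ⟶ Y) [LocallyOfFiniteType f]
    (x : X) (h : EGA43.IsEquidimAt f x) :
    ∃ U : X.Opens, x ∈ U ∧ UniversallyOpen (U.ι ≫ f) := by
  obtain ⟨e, U, g, hxU, hg, hLQF, hcomp⟩ :=
    (Groth.Agent.Lib.helper3.QFinAffineSpace.equidim_iff_qfin f x).1 h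
  refine ⟨U, hxU, ?_⟩
  haveI : LocallyOfFiniteType (g ≫ (𝔸(ULift.{u} (Fin e); Y) ↘ Y)) := by
    rw [hg]
    infer_instance
  haveI : LocallyOfFiniteType g := locallyOfFiniteType_of_comp g (𝔸(ULift.{u} (Fin e); Y) ↘ Y)
  have hYP : ∀ p : 𝔸(ULift.{u} (Fin e); Y),
      CAlg2.IsGeomUnibranch ((𝔸(ULift.{u} (Fin e); Y)).presheaf.stalk p) := fun p =>
    UnramGeom.isGeomUnibranch_stalk_of_smooth (𝔸(ULift.{u} (Fin e); Y) ↘ Y) p (hY _)
  have hdom : ∀ ξ ∈ genericPoints ↥(U : Scheme.{u}),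
      g ξ ∈ genericPoints ↥𝔸(ULift.{u} (Fin e); Y) := by
    intro ξ hξ
    have h1 := hcomp (closure {ξ}) hξ
    rw [closure_image_closure g.continuous, Set.image_singleton] at h1
    exact h1
  haveI : UniversallyOpen g :=
    universallyOpen_of_locallyQuasiFinite_of_geomUnibranch' g (locIrr_affineSpace _ Y hirr) hYP hdom
  rw [← hg]
  infer_instance

/-- Statement-shaped: universal openness from equidimensionality along components, over a
geometrically unibranch base with finitely many irreducible components. -/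
theorem universallyOpen_of_conditionT {X S : Scheme.{u}}
    (hS : ∀ s : S, CAlg2.IsGeomUnibranch (S.presheaf.stalk s))
    (hfin : (irreducibleComponents (S : Type u)).Finite)
    (f : X ⟶ S) [LocallyOfFiniteType f]
    (hT : ∀ x : X, ∃ W : TopologicalSpace.Closeds X,
      (W : Set X) ∈ irreducibleComponents (X : Type u) ∧
      ∃ w : ↥((Scheme.IdealSheafData.vanishingIdeal W).subscheme),
        (Scheme.IdealSheafData.vanishingIdeal W).subschemeι.base w = x ∧
        EGA43.IsEquidimAt ((Scheme.IdealSheafData.vanishingIdeal W).subschemeι ≫ f) w) :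
    UniversallyOpen f := by
  have hirr : LocIrr S := locIrr_of_finite_irreducibleComponents S hfin
    (fun s => (Ideal.Quotient.isDomain_iff_prime _).1 (hS s).1.1)
  apply Groth.Agent.Lib.helper4.UnivOpenDvr6.universallyOpen_of_isUnivOpenAt
  intro x
  obtain ⟨W, -, w, hwx, hw⟩ := hT x
  obtain ⟨U, hwU, hU⟩ := exists_universallyOpen_nbhd_of_isEquidimAt' hirr hS
    ((Scheme.IdealSheafData.vanishingIdeal W).subschemeι ≫ f) w hw
  have h1 : EGA43.IsUnivOpenAt (U.ι ≫ (Scheme.IdealSheafData.vanishingIdeal W).subschemeι ≫ f)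
      ⟨w, hwU⟩ :=
    Groth.Agent.Lib.helper4.UnivOpenDvr6.isUnivOpenAt_of_universallyOpen _ _
  rw [← Category.assoc] at h1
  have h2 := isUnivOpenAt_of_comp _ f _ h1
  have h3 : (U.ι ≫ (Scheme.IdealSheafData.vanishingIdeal W).subschemeι).base ⟨w, hwU⟩ = x := hwx
  rw [h3] at h2
  exact h2

end Groth.Agent.Lib.helper9.UO
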