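import Groth.Agent.Lib.Helper9.QFAff1
import Groth.Agent.Lib.Helper9.UOLocIrr
import Groth.Agent.Lib.Helper9.StageSquares
import Groth.Agent.Lib.Helper3.UnivOpenGenTd
import Groth.Agent.Lib.Helper3.QFinAffineSpace3

/-!
# Quasi-finite morphisms to affine space over a valuation ring (helper9)

`exists_generization_val`: let `R` be a valuation ring, `uR : XR ⟶ 𝔸ⁿ_R` locally quasi-finite,
`z ⤳ x` points of `XR` such that `XR ⟶ Spec R` is universally open at `z` and the residue field of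
`z` has transcendence degree `≥ n` over that of its image.  Then for every `σ : Spec R ⟶ 𝔸ⁿ_R`,
every point of `XR ×_{𝔸ⁿ_R} Spec R` over `x` has a generization over the generic point of `Spec R`.
-/

set_option autoImplicit false
set_option linter.style.haveILetI false
set_option backward.isDefEq.respectTransparency false

namespace Groth.Agent.Lib.helper9.QFAff

open AlgebraicGeometry CategoryTheory Limits
open Groth.Agent.Lib.helper3 Groth.Agent.Lib.helper3.DimIneq

universe u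

/-- a point of `𝔸ⁿ` over a maximal point of the base with residue transcendence degree `≥ n` is a
maximal point. -/
theorem mem_genericPoints_affineSpace_of_td {T : Scheme.{u}} [IrreducibleSpace T] (n : ℕ)
    (θ : 𝔸(ULift.{u} (Fin n); T))
    (hmax : ∀ t : T, t ⤳ (𝔸(ULift.{u} (Fin n); T) ↘ T) θ → t = (𝔸(ULift.{u} (Fin n); T) ↘ T) θ)
    (htd : (n : Cardinal.{u}) ≤ td ((𝔸(ULift.{u} (Fin n); T) ↘ T).residueFieldMap θ).hom) :
    θ ∈ genericPoints ↥𝔸(ULift.{u} (Fin n); T) := by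
  set θ₀ : 𝔸(ULift.{u} (Fin n); T) := genericPoint ↥𝔸(ULift.{u} (Fin n); T) with hθ₀
  have hsp : θ₀ ⤳ θ := genericPoint_specializes θ
  have hθ₀max : ∀ ω' : 𝔸(ULift.{u} (Fin n); T), ω' ⤳ θ₀ → ω' = θ₀ := fun ω' h =>
    (h.antisymm (genericPoint_specializes ω')).eq
  have h1 := (QFinAffineSpace.maximal_affineSpace T n θ₀ hθ₀max).2
  have hq : (𝔸(ULift.{u} (Fin n); T) ↘ T) θ₀ = (𝔸(ULift.{u} (Fin n); T) ↘ T) θ :=
    hmax _ (hsp.map (𝔸(ULift.{u} (Fin n); T) ↘ T).continuous)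
  have heq : θ₀ = θ := by
    by_contra hne
    have hlt := SecCompDim.td_lt_of_specializes_of_ne (𝔸(ULift.{u} (Fin n); T) ↘ T) θ θ₀ hsp hq hne
    rw [h1] at hlt
    exact absurd (lt_of_le_of_lt htd hlt) (lt_irrefl _)
  rw [← heq]
  exact UO.mem_genericPoints_of_forall θ₀ hθ₀max

section

variable (R : Type u) [CommRing R] [IsDomain R] [ValuationRing R] (n : ℕ)

theorem exists_generization_val
    {XR : Scheme.{u}} (uR : XR ⟶ 𝔸(ULift.{u} (Fin n); Spec (CommRingCat.of R)))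
    [LocallyQuasiFinite uR] [LocallyOfFiniteType uR] (z x : XR) (hzx : z ⤳ x)
    (hopen : EGA43.IsUnivOpenAt (uR ≫ (𝔸(ULift.{u} (Fin n); Spec (CommRingCat.of R)) ↘ Spec (CommRingCat.of R))) z)
    (htd : (n : Cardinal.{u}) ≤ td ((uR ≫ (𝔸(ULift.{u} (Fin n); Spec (CommRingCat.of R)) ↘ Spec (CommRingCat.of R))).residueFieldMap z).hom)
    {Q : Scheme.{u}} {p₁ : Q ⟶ XR} {p₂ : Q ⟶ Spec (CommRingCat.of R)} {σ : Spec (CommRingCat.of R) ⟶ 𝔸(ULift.{u} (Fin n); Spec (CommRingCat.of R))}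
    (hQ : IsPullback p₁ p₂ uR σ) (q : Q) (hq₁ : p₁.base q = x) :
    ∃ q' : Q, q' ⤳ q ∧ p₂.base q' = (⟨⊥, Ideal.isPrime_bot⟩ : PrimeSpectrum R) := by
  let r₁ : Spec (CommRingCat.of R) := (⟨⊥, Ideal.isPrime_bot⟩ : PrimeSpectrum R)
  have hr₁ : ∀ t : Spec (CommRingCat.of R), r₁ ⤳ t := fun t =>
    (PrimeSpectrum.le_iff_specializes (⟨⊥, Ideal.isPrime_bot⟩ : PrimeSpectrum R) t).mp bot_le
  have hr₁max : ∀ t : Spec (CommRingCat.of R), t ⤳ r₁ → t = r₁ := fun t ht => (ht.antisymm (hr₁ t)).eq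
  haveI : LocallyOfFiniteType (uR ≫ (𝔸(ULift.{u} (Fin n); Spec (CommRingCat.of R)) ↘ Spec (CommRingCat.of R))) := inferInstance
  -- (iii) a generization of `z` over the generic point of large transcendence degree
  obtain ⟨ω, hωz, hωr, hωtd⟩ :=
    UnivOpenGenTd.exists_generization_td_ge (uR ≫ (𝔸(ULift.{u} (Fin n); Spec (CommRingCat.of R)) ↘ Spec (CommRingCat.of R))) z hopen r₁ (hr₁ _)
  -- (iv) its image is the generic point of affine space
  have hθ : uR ω ∈ genericPoints ↥𝔸(ULift.{u} (Fin n); Spec (CommRingCat.of R)) := by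
    have hq : (𝔸(ULift.{u} (Fin n); Spec (CommRingCat.of R)) ↘ Spec (CommRingCat.of R)) (uR ω) = r₁ := by
      rw [← Scheme.Hom.comp_apply]; exact hωr
    apply mem_genericPoints_affineSpace_of_td n (uR ω)
    · intro t ht
      rw [hq] at ht ⊢
      exact hr₁max t ht
    · have h1 := FibreComp.td_residueFieldMap_comp uR (𝔸(ULift.{u} (Fin n); Spec (CommRingCat.of R)) ↘ Spec (CommRingCat.of R)) ω
      have h2 := (QFinAffineSpace.fibreDimAt_eq_zero_of_lqf uR ω).2
      rw [h2, add_zero] at h1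
      rw [← h1]
      exact htd.trans hωtd
  -- (v) the closure of `ω`
  set I := Scheme.IdealSheafData.vanishingIdeal (X := XR) ⟨closure {ω}, isClosed_closure⟩ with hI
  set ι := I.subschemeι with hι
  have hιr : Set.range ι.base = closure {ω} := by
    rw [hι, Scheme.IdealSheafData.range_subschemeι, hI,
      Scheme.IdealSheafData.coe_support_vanishingIdeal]
    rfl
  have hemb : Topology.IsEmbedding ι.base := ι.isClosedEmbedding.isEmbedding
  obtain ⟨tω, htω⟩ : ω ∈ Set.range ι.base := by rw [hιr]; exact subset_closure rfl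
  obtain ⟨tx, htx⟩ : x ∈ Set.range ι.base := by
    rw [hιr]; exact specializes_iff_mem_closure.mp (hωz.trans hzx)
  have hgen : ∀ t : ↥I.subscheme, tω ⤳ t := by
    intro t
    rw [← hemb.isInducing.specializes_iff, htω, specializes_iff_mem_closure, ← hιr]
    exact ⟨t, rfl⟩
  have hdom : ∀ ξ ∈ genericPoints ↥I.subscheme, (ι ≫ uR) ξ ∈ genericPoints ↥𝔸(ULift.{u} (Fin n); Spec (CommRingCat.of R)) := by
    intro ξ hξ
    have := UO.eq_of_specializes_of_mem_genericPoints hξ (hgen ξ)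
    rw [← this, Scheme.Hom.comp_apply, htω]
    exact hθ
  have hirrT : UO.LocIrr (Spec (CommRingCat.of R)) := fun t =>
    ⟨⊤, trivial, by
      rw [TopologicalSpace.Opens.coe_top]
      exact (IrreducibleSpace.isIrreducible_univ ↥(Spec (CommRingCat.of R)))⟩
  have hUO : UniversallyOpen (ι ≫ uR) :=
    UO.universallyOpen_of_locallyQuasiFinite_of_geomUnibranch' (ι ≫ uR)
      (UO.locIrr_affineSpace _ (Spec (CommRingCat.of R)) hirrT)
      (fun p => UnramGeom.isGeomUnibranch_stalk_of_smooth (𝔸(ULift.{u} (Fin n); Spec (CommRingCat.of R)) ↘ Spec (CommRingCat.of R)) p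
        (isGeomUnibranch_stalk_spec R _))
      hdom
  -- (vi) base change along `σ`
  have hopen' : IsOpenMap (pullback.snd (ι ≫ uR) σ).base :=
    hUO.universally_isOpenMap _ _ _ (IsPullback.of_hasPullback (ι ≫ uR) σ).flip
  have hgen' : GeneralizingMap (pullback.snd (ι ≫ uR) σ).base :=
    UOImageDim.generalizingMap_of_isOpenMap _ hopen'
  let k : pullback (ι ≫ uR) σ ⟶ Q :=
    hQ.lift (pullback.fst _ _ ≫ ι) (pullback.snd _ _) (by rw [Category.assoc, pullback.condition])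
  have hk1 : k ≫ p₁ = pullback.fst _ _ ≫ ι := hQ.lift_fst _ _ _
  have hk2 : k ≫ p₂ = pullback.snd _ _ := hQ.lift_snd _ _ _
  have hsq : IsPullback k (pullback.fst (ι ≫ uR) σ) p₁ ι := by
    refine IsPullback.of_right ?_ hk1 hQ.flip
    rw [hk2]
    exact (IsPullback.of_hasPullback (ι ≫ uR) σ).flip
  obtain ⟨q₀, hq₀k, hq₀x⟩ :=
    Groth.Agent.Lib.helper9.exists_preimage_of_isPullback hsq q tx (hq₁.trans htx.symm)
  have hsnd : (pullback.snd (ι ≫ uR) σ).base q₀ = p₂.base q := by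
    rw [← hq₀k, ← Scheme.Hom.comp_apply, hk2]
  obtain ⟨q₁, hq₁sp, hq₁r⟩ := hgen' (show r₁ ⤳ (pullback.snd (ι ≫ uR) σ).base q₀ from hr₁ _)
  refine ⟨k.base q₁, ?_, ?_⟩
  · rw [← hq₀k]
    exact hq₁sp.map k.continuous
  · rw [← Scheme.Hom.comp_apply, hk2]
    exact hq₁r

end

end Groth.Agent.Lib.helper9.QFAff
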