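import Groth.Agent.Lib.Helper9.QFAff2
import Groth.Agent.Lib.Helper9.QFAff3
import Groth.Agent.Lib.Helper9.QFAff4
import Groth.Agent.Lib.Helper3.FibreDimBC
import Groth.Agent.Lib.Helper3.DimCriteria
import Groth.Agent.Lib.Helper18.LfpCancel

/-!
# Quasi-finite morphisms to affine space: universal openness from the fibre (helper9)

`main` (= S6083): `f : X ⟶ S` locally of finite presentation, `u : X ⟶ 𝔸ⁿ_S` locally quasi-finite
over `S`, `z` the generic point of an `n`-dimensional irreducible component `Z` of the fibre `X_s`,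
`f` universally open at `z`.  Then `u` is universally open at every point of `Z`.
-/

set_option autoImplicit false
set_option linter.style.haveILetI false
set_option backward.isDefEq.respectTransparency false

namespace Groth.Agent.Lib.helper9.QFAff

open AlgebraicGeometry CategoryTheory Limits Topology
open Groth.Agent.Lib.helper3 Groth.Agent.Lib.helper3.DimIneq

universe u

section generic

variable {X S : Scheme.{u}} (f : X ⟶ S) (s : S) (Z : Set ↥(f.base ⁻¹' {s}))
  (hZ : Z ∈ irreducibleComponents ↥(f.base ⁻¹' {s})) (z : X)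
  (hz : z ∈ Subtype.val '' Z ∧ Subtype.val '' Z ⊆ closure {z})

include hZ hz

theorem generic_aux :
    f.base z = s ∧ (∀ w : X, w ∈ Subtype.val '' Z → z ⤳ w) ∧
      closure {z} ∩ f.base ⁻¹' {f.base z} = Subtype.val '' Z := by
  obtain ⟨⟨zF, hzFZ, hzF⟩, hsub⟩ := hz
  have hzs : f.base z = s := by rw [← hzF]; exact zF.2
  refine ⟨hzs, fun w hw => specializes_iff_mem_closure.mpr (hsub hw), ?_⟩
  apply Set.Subset.antisymm
  · rintro w ⟨hwcl, hwf⟩
    have hws : f.base w = s := hwf.trans hzs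
    refine ⟨⟨w, hws⟩, ?_, rfl⟩
    have hcl : IsClosed Z := isClosed_of_mem_irreducibleComponents Z hZ
    have hsp : zF ⤳ (⟨w, hws⟩ : ↥(f.base ⁻¹' {s})) := by
      rw [← IsInducing.subtypeVal.specializes_iff, hzF]
      exact specializes_iff_mem_closure.mpr hwcl
    exact hsp.mem_closed hcl hzFZ
  · rintro w ⟨wF, hwF, rfl⟩
    exact ⟨hsub ⟨wF, hwF, rfl⟩, wF.2.trans hzs.symm⟩

theorem generic_maximal (z' : X) (hsp : z' ⤳ z) (hf : f.base z' = f.base z) : z' = z := by
  obtain ⟨hzs, hgen, -⟩ := generic_aux f s Z hZ z hz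
  obtain ⟨⟨zF, hzFZ, hzF⟩, hsub⟩ := hz
  have hz's : f.base z' = s := hf.trans hzs
  set z'F : ↥(f.base ⁻¹' {s}) := ⟨z', hz's⟩ with hz'F
  have hsp' : z'F ⤳ zF := by
    rw [← IsInducing.subtypeVal.specializes_iff, hzF]
    exact hsp
  have hZsub : Z ⊆ closure {z'F} := by
    intro w hw
    have h1 : zF ⤳ w := by
      rw [← IsInducing.subtypeVal.specializes_iff, hzF]
      exact specializes_iff_mem_closure.mpr (hsub ⟨w, hw, rfl⟩)
    exact specializes_iff_mem_closure.mp (hsp'.trans h1)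
  have hle : closure {z'F} ⊆ Z := hZ.2 isIrreducible_singleton.closure hZsub
  have hz'Z : z'F ∈ Z := hle (subset_closure rfl)
  have h2 : z ⤳ z' := hgen z' ⟨z'F, hz'Z, rfl⟩
  exact (hsp.antisymm h2).eq

theorem generic_td [LocallyOfFiniteType f] (n : ℕ) (hdimZ : topologicalKrullDim ↥Z = n) :
    td (f.residueFieldMap z).hom = (n : Cardinal.{u}) := by
  obtain ⟨-, -, hset⟩ := generic_aux f s Z hZ z hz
  obtain ⟨k, hk⟩ := exists_nat_td_residueFieldMap f z
  have h1 := DimCriteria.dim_closure_inter_fibre f z k hk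
  have h2 : topologicalKrullDim ↥Z =
      topologicalKrullDim ↥(closure ({z} : Set X) ∩ f.base ⁻¹' {f.base z}) := by
    apply DimCriteria.dim_eq_of_range_eq
      ((Subtype.val : ↥(f.base ⁻¹' {s}) → X) ∘ (Subtype.val : ↥Z → ↥(f.base ⁻¹' {s})))
      (Subtype.val : ↥(closure ({z} : Set X) ∩ f.base ⁻¹' {f.base z}) → X)
      (IsInducing.subtypeVal.comp IsInducing.subtypeVal) IsInducing.subtypeVal
    rw [Set.range_comp, Subtype.range_coe, Subtype.range_coe, hset]
  rw [h2, h1] at hdimZ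
  have : k = n := by exact_mod_cast hdimZ
  rw [hk, this]

end generic

theorem main (X S : Scheme.{u}) (f : X ⟶ S) [LocallyOfFinitePresentation f]
    (s : S) (x : X) (n : ℕ)
    (u : X ⟶ 𝔸(ULift.{u} (Fin n); S)) [LocallyQuasiFinite u]
    (hu : u ≫ (𝔸(ULift.{u} (Fin n); S) ↘ S) = f)
    (Z : Set ↥(f.base ⁻¹' {s})) (hZ : Z ∈ irreducibleComponents ↥(f.base ⁻¹' {s}))
    (hxZ : x ∈ (Subtype.val '' Z))
    (z : X) (hz : z ∈ Subtype.val '' Z ∧ Subtype.val '' Z ⊆ closure {z})
    (hopen : EGA43.IsUnivOpenAt f z)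
    (hdimZ : topologicalKrullDim ↥Z = n) :
    EGA43.IsUnivOpenAt u x := by
  obtain ⟨hzs, hgen, -⟩ := generic_aux f s Z hZ z hz
  have hzx : z ⤳ x := hgen x hxZ
  have hxs : f.base x = s := by
    obtain ⟨xF, -, rfl⟩ := hxZ
    exact xF.2
  have hzmax := generic_maximal f s Z hZ z hz
  have htdz := generic_td f s Z hZ z hz n hdimZ
  haveI : LocallyOfFinitePresentation (u ≫ (𝔸(ULift.{u} (Fin n); S) ↘ S)) := by
    rw [hu]; infer_instance
  haveI : LocallyOfFinitePresentation u :=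
    Groth.Agent.Lib.Helper18.RelSmoothFiber.locallyOfFinitePresentation_of_comp u
      (𝔸(ULift.{u} (Fin n); S) ↘ S) inferInstance inferInstance
  apply isUnivOpenAt_of_valuative u x
  intro R _ _ _ m
  set a : Spec (CommRingCat.of R) ⟶ S := m ≫ (𝔸(ULift.{u} (Fin n); S) ↘ S) with ha
  have hAff := AffineSpace.isPullback_map (n := ULift.{u} (Fin n)) a
  obtain ⟨σ, hσ1, -⟩ : ∃ σ : Spec (CommRingCat.of R) ⟶ 𝔸(ULift.{u} (Fin n); Spec (CommRingCat.of R)),
      σ ≫ AffineSpace.map (ULift.{u} (Fin n)) a = m ∧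
        σ ≫ (𝔸(ULift.{u} (Fin n); Spec (CommRingCat.of R)) ↘ Spec (CommRingCat.of R)) = 𝟙 _ :=
    ⟨hAff.lift m (𝟙 _) (by rw [Category.id_comp]), hAff.lift_fst _ _ _, hAff.lift_snd _ _ _⟩
  clear_value a
  subst hσ1
  set mapA := AffineSpace.map (ULift.{u} (Fin n)) a with hmapA
  set π := pullback.fst u mapA with hπ
  set uR := pullback.snd u mapA with huR
  have hXR : IsPullback π uR u mapA := IsPullback.of_hasPullback u mapA
  have hbig : IsPullback π
      (uR ≫ (𝔸(ULift.{u} (Fin n); Spec (CommRingCat.of R)) ↘ Spec (CommRingCat.of R))) f a := by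
    have := hXR.paste_vert hAff
    rwa [hu] at this
  haveI : LocallyOfFiniteType f := inferInstance
  haveI : LocallyOfFiniteType
      (uR ≫ (𝔸(ULift.{u} (Fin n); Spec (CommRingCat.of R)) ↘ Spec (CommRingCat.of R))) :=
    inferInstance
  have hQ := FinBC.isPullback_baseMap u mapA σ
  intro q hq
  set xt := (FinBC.baseMap u mapA σ).base q with hxt
  have hπx : π.base xt = x := by
    rw [hxt, hπ, FinBC.baseMap_fst_apply]; exact hq
  -- (i) a maximal point of the fibre over `z` specializing to `xt`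
  obtain ⟨z₀, hz₀x, hz₀π, hz₀f⟩ := exists_generization_fibre_of_isPullback hbig xt z
    (by rw [hπx]; exact hzx) (by rw [hπx, hzs, hxs])
  obtain ⟨z₁, N, hz₁z₀, hz₁f, hz₁max, hz₁td, hz₁fd⟩ := EquidimIrr.exists_maximal_fibre_point
    (uR ≫ (𝔸(ULift.{u} (Fin n); Spec (CommRingCat.of R)) ↘ Spec (CommRingCat.of R))) z₀
  have hN : N = n := by
    have h1 := FibreDimBC.fibreDimAt_eq_of_isPullback f a π _ hbig z₀
    rw [hz₀π, RelDim.fibreDimAt_eq_td_of_forall f z hzmax n htdz, hz₁fd] at h1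
    exact_mod_cast h1
  have hz₁π : π.base z₁ = z := by
    apply hzmax
    · rw [← hz₀π]; exact hz₁z₀.map π.continuous
    · have e1 : f.base (π.base z₁) = a.base ((uR ≫ (𝔸(ULift.{u} (Fin n);
          Spec (CommRingCat.of R)) ↘ Spec (CommRingCat.of R))).base z₁) := by
        rw [← Scheme.Hom.comp_apply, ← Scheme.Hom.comp_apply, hbig.w]
      have e2 : f.base (π.base z₀) = a.base ((uR ≫ (𝔸(ULift.{u} (Fin n);
          Spec (CommRingCat.of R)) ↘ Spec (CommRingCat.of R))).base z₀) := by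
        rw [← Scheme.Hom.comp_apply, ← Scheme.Hom.comp_apply, hbig.w]
      rw [e1, hz₁f, ← e2, hz₀π]
  have hopenR := Groth.Agent.Lib.helper8.isUnivOpenAt_of_isPullback hopen hbig z₁ hz₁π
  exact exists_generization_val R n uR z₁ xt (hz₁z₀.trans hz₀x) hopenR
    (by rw [hz₁td, hN]) hQ q rfl

end Groth.Agent.Lib.helper9.QFAff
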