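import Mathlib
import Groth.Prelude.Def_EGA43
import Groth.Agent.Lib.Helper9.QFOpen
import Groth.Agent.Lib.Helper9.UnibrTransport

/-!
# Openness at unibranch points: integral extensions of domains, isolated points (helper9)
-/

set_option autoImplicit false
set_option backward.isDefEq.respectTransparency false

namespace Groth.Agent.Lib.helper9.UnramGeom

open AlgebraicGeometry CategoryTheory Limits Groth.Agent.Lib.helper9.UnramCore

universe u

/-- A point isolated in its fibre is a point where the morphism is quasi-finite. -/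
theorem quasiFiniteAt_of_nhdsWithin_eq_pure {X Y : Scheme.{u}} (f : X ⟶ Y) [LocallyOfFiniteType f]
    (x : X) (hiso : nhdsWithin x (f ⁻¹' {f x}) = pure x) : f.QuasiFiniteAt x := by
  rw [Scheme.Hom.quasiFiniteAt_iff_isOpen_singleton_asFiber,
    ← (f.fiberHomeo (f x)).isOpen_image]
  simp only [Set.image_singleton, Scheme.Hom.asFiber, Homeomorph.apply_symm_apply]
  rw [isOpen_singleton_iff_nhds_eq_pure]
  apply Filter.map_injective Subtype.val_injective
  rw [map_nhds_subtype_val, Filter.map_pure]
  exact hiso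

/-- Dominant, locally of finite type, isolated point over a unibranch point: open there. -/
theorem isOpenAt_of_isolated_of_isUnibranch (X Y : Scheme.{u}) (f : X ⟶ Y) [IrreducibleSpace X]
    [IrreducibleSpace Y] [LocallyOfFiniteType f] (hd : DenseRange f) (x : X)
    (hiso : nhdsWithin x (f ⁻¹' {f x}) = pure x)
    (hy : CAlg2.IsUnibranch (Y.presheaf.stalk (f x))) : EGA43.IsOpenAt f x :=
  isOpenAt_of_quasiFiniteAt_of_isUnibranch f x (quasiFiniteAt_of_nhdsWithin_eq_pure f x hiso) hy
    ⟨genericPoint X, genericPoint_specializes x, map_genericPoint_of_denseRange f hd⟩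

/-- Finite injective extension of domains: open at primes over unibranch points. -/
theorem isOpenAt_comap_of_finite_of_isUnibranch (A B : Type u) [CommRing A] [IsDomain A]
    [CommRing B] [IsDomain B] [Algebra A B] [Module.Finite A B]
    (hinj : Function.Injective (algebraMap A B)) (q : PrimeSpectrum B)
    (hU : CAlg2.IsUnibranch (Localization.AtPrime (q.asIdeal.comap (algebraMap A B)))) :
    EGA43.IsOpenAt (PrimeSpectrum.comap (algebraMap A B)) q := by
  let f : Spec (CommRingCat.of B) ⟶ Spec (CommRingCat.of A) :=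
    Spec.map (CommRingCat.ofHom (algebraMap A B))
  have hfin : IsFinite f :=
    (IsFinite.SpecMap_iff _).2 (RingHom.finite_algebraMap.2 inferInstance)
  have hlft : LocallyOfFiniteType f := inferInstance
  have hlqf : LocallyQuasiFinite f := inferInstance
  have hdomA : IsDomain ↑(CommRingCat.of A) := ‹IsDomain A›
  have hdomB : IsDomain ↑(CommRingCat.of B) := ‹IsDomain B›
  let x : ↥(Spec (CommRingCat.of B)) := q
  have hst : CAlg2.IsUnibranch ((Spec (CommRingCat.of A)).presheaf.stalk (f x)) :=
    isUnibranch_of_ringEquiv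
      (StructureSheaf.stalkIso A (PrimeSpectrum.comap (algebraMap A B) q)).toRingEquiv hU
  let ξ : ↥(Spec (CommRingCat.of B)) := (⊥ : PrimeSpectrum B)
  have hξx : ξ ⤳ x := (PrimeSpectrum.le_iff_specializes _ _).1 bot_le
  have hfξ : f ξ = genericPoint (Spec (CommRingCat.of A)) := by
    rw [genericPoint_eq_bot_of_affine]
    apply PrimeSpectrum.ext
    show Ideal.comap (algebraMap A B) ⊥ = ⊥
    rw [← RingHom.ker_eq_comap_bot]
    exact (RingHom.injective_iff_ker_eq_bot _).1 hinj
  exact isOpenAt_of_quasiFiniteAt_of_isUnibranch f x (f.quasiFiniteAt x) hst ⟨ξ, hξx, hfξ⟩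

/-- Integral injective extension of domains: open at primes over unibranch points. -/
theorem isOpenAt_comap_of_isIntegral_of_isUnibranch (A B : Type u) [CommRing A] [IsDomain A]
    [CommRing B] [IsDomain B] [Algebra A B]
    (hinj : Function.Injective (algebraMap A B)) (hint : Algebra.IsIntegral A B)
    (q : PrimeSpectrum B)
    (hU : CAlg2.IsUnibranch (Localization.AtPrime (q.asIdeal.comap (algebraMap A B)))) :
    EGA43.IsOpenAt (PrimeSpectrum.comap (algebraMap A B)) q := by
  intro N hN
  obtain ⟨_, ⟨b, rfl⟩, hqb, hbN⟩ :=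
    (PrimeSpectrum.isTopologicalBasis_basic_opens).mem_nhds_iff.1 hN
  let A₁ : Subalgebra A B := Algebra.adjoin A {b}
  have hfinA₁ : Module.Finite A A₁ :=
    Module.Finite.iff_fg.2 (Algebra.IsIntegral.isIntegral b).fg_adjoin_singleton
  let b₁ : A₁ := ⟨b, Algebra.subset_adjoin (Set.mem_singleton b)⟩
  have hinj₁ : Function.Injective (algebraMap A A₁) := by
    intro a a' h
    apply hinj
    exact congrArg Subtype.val h
  let q₁ : PrimeSpectrum A₁ := PrimeSpectrum.comap (algebraMap A₁ B) q
  have hq₁ : q₁.asIdeal.comap (algebraMap A A₁) = q.asIdeal.comap (algebraMap A B) := by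
    show (q.asIdeal.comap (algebraMap A₁ B)).comap (algebraMap A A₁) = _
    rw [Ideal.comap_comap]
    rfl
  have hU₁ : CAlg2.IsUnibranch (Localization.AtPrime (q₁.asIdeal.comap (algebraMap A A₁))) := by
    have key : ∀ (P P' : Ideal A) [P.IsPrime] [P'.IsPrime], P = P' →
        CAlg2.IsUnibranch (Localization.AtPrime P) → CAlg2.IsUnibranch (Localization.AtPrime P') := by
      intro P P' _ _ h
      subst h
      exact id
    exact key _ _ hq₁.symm hU
  have h1 := isOpenAt_comap_of_finite_of_isUnibranch A A₁ hinj₁ q₁ hU₁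
  have hq₁b : q₁ ∈ (PrimeSpectrum.basicOpen b₁ : Set (PrimeSpectrum A₁)) := by
    show b₁ ∉ q₁.asIdeal
    exact hqb
  have h2 := h1 _ ((PrimeSpectrum.basicOpen b₁).isOpen.mem_nhds hq₁b)
  have hint₁ : Algebra.IsIntegral A₁ B := Algebra.IsIntegral.tower_top (R := A)
  have hcomp : PrimeSpectrum.comap (algebraMap A A₁) q₁ = PrimeSpectrum.comap (algebraMap A B) q :=
    PrimeSpectrum.ext hq₁
  rw [hcomp] at h2
  refine Filter.mem_of_superset h2 ?_
  rintro _ ⟨Q₁, hQ₁, rfl⟩
  have hker : RingHom.ker (algebraMap A₁ B) ≤ Q₁.asIdeal := by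
    intro z hz
    have hz0 : z = 0 := Subtype.ext (RingHom.mem_ker.1 hz)
    rw [hz0]
    exact Ideal.zero_mem _
  obtain ⟨Q, hQp, hQ⟩ := Ideal.exists_ideal_over_prime_of_isIntegral_of_isDomain
    (R := A₁) (S := B) Q₁.asIdeal hker
  refine ⟨⟨Q, hQp⟩, hbN ?_, ?_⟩
  · show b ∉ Q
    intro hbQ
    apply hQ₁
    show b₁ ∈ Q₁.asIdeal
    rw [← hQ]
    exact hbQ
  · apply PrimeSpectrum.ext
    show Q.comap (algebraMap A B) = Q₁.asIdeal.comap (algebraMap A A₁)
    rw [← hQ, Ideal.comap_comap]
    rfl

end Groth.Agent.Lib.helper9.UnramGeom
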