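/-
Helper library (helper9): quasi-finiteness and base change.
* If a base change `f` of `f₀` (locally of finite type) is quasi-finite and quasi-compact, then
  `f₀` is quasi-finite at every point in the image of the projection.
* If the projection of a base change lands in the quasi-finite locus, the base change is locally
  quasi-finite.
-/
import Groth.Agent.Lib.Helper9.StageSquares
import Mathlib.AlgebraicGeometry.ZariskisMainTheorem
import Mathlib.AlgebraicGeometry.Morphisms.QuasiFinite
import Mathlib.AlgebraicGeometry.Artinian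

set_option autoImplicit false
set_option linter.style.haveILetI false

namespace Groth.Agent.Lib.helper9

open AlgebraicGeometry CategoryTheory Limits

universe u

variable {X Y X₀ Y₀ : Scheme.{u}} {qX : X ⟶ X₀} {f : X ⟶ Y} {f₀ : X₀ ⟶ Y₀} {qY : Y ⟶ Y₀}

/-- Quasi-finiteness at a point descends along an arbitrary base change. -/
theorem quasiFiniteAt_of_isPullback (hX : IsPullback qX f f₀ qY) [LocallyOfFiniteType f₀]
    [LocallyQuasiFinite f] [QuasiCompact f] (x : X) : f₀.QuasiFiniteAt (qX x) := by
  have hcomm : f₀ (qX x) = qY (f x) := by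
    rw [← Scheme.Hom.comp_apply, ← Scheme.Hom.comp_apply, hX.w]
  -- the fibre of `f₀` through `qX x` is finite
  have hfin : (f₀ ⁻¹' {f₀ (qX x)}).Finite := by
    refine ((f.finite_preimage_singleton (f x)).image qX).subset ?_
    intro x₀ hx₀
    have hx₀' : f₀ x₀ = qY (f x) := (Set.mem_singleton_iff.mp hx₀).trans hcomm
    obtain ⟨z, hz1, hz2⟩ := exists_preimage_of_isPullback hX x₀ (f x) hx₀'
    exact ⟨z, hz2, hz1⟩
  haveI : Finite ↥(f₀.fiber (f₀ (qX x))) := by
    haveI := hfin.to_subtype
    exact Finite.of_equiv _ (f₀.fiberHomeo (f₀ (qX x))).toEquiv.symm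
  haveI : LocallyOfFiniteType (f₀.fiberToSpecResidueField (f₀ (qX x))) := by
    unfold Scheme.Hom.fiberToSpecResidueField
    exact MorphismProperty.pullback_snd (P := @LocallyOfFiniteType) _ _ inferInstance
  haveI : LocallyQuasiFinite (f₀.fiberToSpecResidueField (f₀ (qX x))) :=
    LocallyQuasiFinite.of_finite_preimage_singleton _ fun _ => Set.toFinite _
  haveI : IsLocallyArtinian (f₀.fiber (f₀ (qX x))) :=
    IsLocallyArtinian.of_locallyQuasiFinite (f₀.fiberToSpecResidueField (f₀ (qX x)))
  exact Scheme.Hom.quasiFiniteAt_iff_isOpen_singleton_asFiber.mpr (isOpen_discrete _)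

/-- If the projection of a base change of `f₀` lands in the quasi-finite locus of `f₀`, then the
base change is locally quasi-finite. -/
theorem locallyQuasiFinite_of_isPullback_of_forall_quasiFiniteAt
    (hX : IsPullback qX f f₀ qY) [LocallyOfFiniteType f₀]
    (h : ∀ x : X, f₀.QuasiFiniteAt (qX x)) : LocallyQuasiFinite f := by
  let U₀ := f₀.quasiFiniteLocus
  haveI : LocallyQuasiFinite (U₀.ι ≫ f₀) := by
    rw [← Scheme.Hom.quasiFiniteLocus_eq_top_iff, Scheme.Hom.quasiFiniteLocus_comp]
    exact Scheme.Opens.ι_preimage_self _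
  have hrange : Set.range qX ⊆ Set.range U₀.ι := by
    rw [Scheme.Opens.range_ι]
    rintro _ ⟨x, rfl⟩
    exact h x
  let j : X ⟶ U₀ := IsOpenImmersion.lift U₀.ι qX hrange
  have hj : j ≫ U₀.ι = qX := IsOpenImmersion.lift_fac _ _ _
  let k : X ⟶ pullback (U₀.ι ≫ f₀) qY := pullback.lift j f (by rw [reassoc_of% hj, hX.w])
  let m : pullback (U₀.ι ≫ f₀) qY ⟶ X :=
    hX.lift (pullback.fst (U₀.ι ≫ f₀) qY ≫ U₀.ι) (pullback.snd (U₀.ι ≫ f₀) qY)
      (by rw [Category.assoc, pullback.condition])
  have hkm : k ≫ m = 𝟙 X := by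
    apply hX.hom_ext
    · rw [Category.assoc, hX.lift_fst, Category.id_comp, pullback.lift_fst_assoc, hj]
    · rw [Category.assoc, hX.lift_snd, Category.id_comp, pullback.lift_snd]
  have hmk : m ≫ k = 𝟙 _ := by
    apply pullback.hom_ext
    · rw [Category.assoc, pullback.lift_fst, Category.id_comp, ← cancel_mono U₀.ι,
        Category.assoc, hj, hX.lift_fst]
    · rw [Category.assoc, pullback.lift_snd, Category.id_comp, hX.lift_snd]
  haveI : IsIso k := ⟨m, hkm, hmk⟩
  have hf : f = k ≫ pullback.snd (U₀.ι ≫ f₀) qY := (pullback.lift_snd _ _ _).symm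
  rw [hf]
  infer_instance

end Groth.Agent.Lib.helper9
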