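/-
Helper library (helper9): a rational map from a locally integral scheme to a separated scheme
locally of finite type extends across a normal point over which the closure of the graph has an
isolated point in its fibre.
-/
import Groth.Agent.Lib.Helper9.SectionExtend

set_option autoImplicit false

namespace Groth.Agent.Lib.helper9

open AlgebraicGeometry CategoryTheory CategoryTheory.Limits TopologicalSpace

universe u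

theorem exists_extension_of_normal_of_isolated_in_graph_fibre {X Y S : Scheme.{u}}
    (pX : X ⟶ S) (pY : Y ⟶ S) [LocallyOfFiniteType pY] [IsSeparated pY]
    (hX : ∀ y : X, ∃ W : X.Opens, y ∈ W ∧ IsIntegral (W : Scheme.{u}))
    (U : X.Opens) (hU : Dense (U : Set X)) (h : (U : Scheme.{u}) ⟶ Y) (hh : U.ι ≫ pX = h ≫ pY)
    (x : X) (hx : IsIntegrallyClosed (X.presheaf.stalk x))
    (z : ↥(pullback pX pY)) (hz : pullback.fst pX pY z = x)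
    (hzΓ : z ∈ closure (Set.range (pullback.lift U.ι h hh)))
    (hiso : ∃ W : (pullback pX pY).Opens,
      (W : Set ↥(pullback pX pY)) ∩ closure (Set.range (pullback.lift U.ι h hh)) ∩
      (pullback.fst pX pY) ⁻¹' {x} = {z}) :
    ∃ (V : X.Opens) (v : (V : Scheme.{u}) ⟶ Y), x ∈ V ∧ v ≫ pY = V.ι ≫ pX ∧
      X.homOfLE (inf_le_right : U ⊓ V ≤ V) ≫ v = X.homOfLE (inf_le_left : U ⊓ V ≤ U) ≫ h := by
  obtain ⟨W₀, hW₀⟩ := hiso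
  obtain ⟨W₁, hxW₁, hW₁int⟩ := hX x
  obtain ⟨W, hWaff, hxW, hWW₁⟩ : ∃ W : X.Opens, IsAffineOpen W ∧ x ∈ W ∧ W ≤ W₁ := by
    obtain ⟨_, ⟨W, hWaff, rfl⟩, hxW, hWW₁⟩ :=
      X.isBasis_affineOpens.exists_subset_of_mem_open hxW₁ W₁.isOpen
    exact ⟨W, hWaff, hxW, hWW₁⟩
  have hWne : Nonempty (W : Scheme.{u}) := ⟨⟨x, hxW⟩⟩
  have hWint : IsIntegral (W : Scheme.{u}) := isIntegral_of_isOpenImmersion (X.homOfLE hWW₁)
  have hWaff' : IsAffine (W : Scheme.{u}) := hWaff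
  set fst := pullback.fst pX pY with hfst
  set snd := pullback.snd pX pY with hsnd
  set g := pullback.lift U.ι h hh with hg
  have hgfst : g ≫ fst = U.ι := pullback.lift_fst _ _ _
  have hgsnd : g ≫ snd = h := pullback.lift_snd _ _ _
  -- the small affine open `U₁` of `W` inside `U`
  obtain ⟨u₀, hu₀W, hu₀U⟩ : ((W : Set X) ∩ (U : Set X)).Nonempty :=
    hU.inter_open_nonempty W W.isOpen ⟨x, hxW⟩
  obtain ⟨U₁, hU₁aff, hu₀U₁, hU₁U⟩ : ∃ U₁ : (W : Scheme.{u}).Opens, IsAffineOpen U₁ ∧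
      (⟨u₀, hu₀W⟩ : W) ∈ U₁ ∧ U₁ ≤ W.ι ⁻¹ᵁ U := by
    obtain ⟨_, ⟨U₁, hU₁aff, rfl⟩, hu₀U₁, hU₁U⟩ :=
      (W : Scheme.{u}).isBasis_affineOpens.exists_subset_of_mem_open
        (show (⟨u₀, hu₀W⟩ : W) ∈ ((W.ι ⁻¹ᵁ U : (W : Scheme.{u}).Opens) : Set W) from hu₀U)
        (W.ι ⁻¹ᵁ U).isOpen
    exact ⟨U₁, hU₁aff, hu₀U₁, hU₁U⟩
  have hU₁ne : Nonempty U₁ := ⟨⟨_, hu₀U₁⟩⟩
  have hU₁aff' : IsAffine (U₁ : Scheme.{u}) := hU₁aff
  have hU₁qc : QuasiCompact U₁.ι := inferInstance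
  -- the map `k : U₁ ⟶ U`
  have hkrange : Set.range (U₁.ι ≫ W.ι) ⊆ Set.range U.ι := by
    rintro _ ⟨w, rfl⟩
    rw [Scheme.Opens.range_ι]
    exact hU₁U w.2
  set k := IsOpenImmersion.lift U.ι (U₁.ι ≫ W.ι) hkrange with hk
  have hk' : k ≫ U.ι = U₁.ι ≫ W.ι := IsOpenImmersion.lift_fac _ _ _
  -- the section `g₁`
  have hg₁range : Set.range (k ≫ g) ⊆ Set.range (fst ⁻¹ᵁ W).ι := by
    rintro _ ⟨w, rfl⟩
    rw [Scheme.Opens.range_ι]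
    show fst ((k ≫ g) w) ∈ W
    rw [← Scheme.Hom.comp_apply, Category.assoc, hgfst, hk']
    exact (U₁.ι w).2
  set g₁ := IsOpenImmersion.lift (fst ⁻¹ᵁ W).ι (k ≫ g) hg₁range with hg₁
  have hg₁' : g₁ ≫ (fst ⁻¹ᵁ W).ι = k ≫ g := IsOpenImmersion.lift_fac _ _ _
  have hg₁q : g₁ ≫ fst ∣_ W = U₁.ι := by
    rw [← cancel_mono W.ι, Category.assoc, morphismRestrict_ι, ← Category.assoc, hg₁',
      Category.assoc, hgfst, hk']
  -- the normal point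
  have hN : IsIntegrallyClosed ((W : Scheme.{u}).presheaf.stalk (⟨x, hxW⟩ : W)) :=
    IsIntegrallyClosed.of_equiv (W.stalkIso ⟨x, hxW⟩).commRingCatIsoToRingEquiv.symm
  -- the point `z₁`
  have hzW : z ∈ fst ⁻¹ᵁ W := by
    show fst z ∈ W
    rw [hz]; exact hxW
  have hz₁q : (fst ∣_ W) ⟨z, hzW⟩ = (⟨x, hxW⟩ : W) := by
    apply Subtype.ext
    rw [morphismRestrict_base_coe]
    exact hz
  have hιrange : (fst ⁻¹ᵁ W).ι '' Set.range g₁ = Set.range (k ≫ g) := by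
    rw [← Set.range_comp, ← hg₁']
    rfl
  have hzΓ₁ : (⟨z, hzW⟩ : (fst ⁻¹ᵁ W : (pullback pX pY).Opens)) ∈ closure (Set.range g₁) := by
    rw [(fst ⁻¹ᵁ W).ι.isEmbedding.isInducing.closure_eq_preimage_closure_image, hιrange]
    show z ∈ closure (Set.range (k ≫ g))
    rw [mem_closure_iff]
    intro N hNopen hzN
    obtain ⟨_, ⟨hy1, hy2⟩, ⟨u, rfl⟩⟩ := mem_closure_iff.mp hzΓ (N ∩ (fst ⁻¹ᵁ W : Set _))
      (hNopen.inter (fst ⁻¹ᵁ W).isOpen) ⟨hzN, hzW⟩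
    -- the open subset of `W` of points `u'` of `U` with `g u' ∈ N ∩ fst⁻¹ W`
    let M : Set W := W.ι ⁻¹' (U.ι '' (g ⁻¹' (N ∩ (fst ⁻¹ᵁ W : Set _))))
    have hMopen : IsOpen M := by
      refine (U.ι.isOpenEmbedding.isOpenMap _ ?_).preimage W.ι.continuous
      exact (hNopen.inter (fst ⁻¹ᵁ W).isOpen).preimage g.continuous
    have huW : (U.ι u) ∈ W := by
      have : fst (g u) ∈ W := hy2
      rwa [← Scheme.Hom.comp_apply, hgfst] at this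
    have hMne : M.Nonempty := ⟨⟨U.ι u, huW⟩, u, ⟨hy1, hy2⟩, rfl⟩
    obtain ⟨w, hwM, hwU₁⟩ := nonempty_preirreducible_inter hMopen U₁.isOpen hMne
      ⟨_, hu₀U₁⟩
    obtain ⟨u', hu'N, hu'w⟩ := hwM
    refine ⟨g u', hu'N.1, ⟨⟨w, hwU₁⟩, ?_⟩⟩
    rw [Scheme.Hom.comp_apply]
    congr 1
    apply U.ι.isEmbedding.injective
    rw [← Scheme.Hom.comp_apply, hk', hu'w]
    rfl
  have hzmem : z ∈ (W₀ : Set _) ∩ closure (Set.range g) ∩ fst ⁻¹' {x} := by rw [hW₀]; rfl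
  have hO₁ : (((fst ⁻¹ᵁ W).ι ⁻¹ᵁ W₀ : (fst ⁻¹ᵁ W : (pullback pX pY).Opens).toScheme.Opens) :
      Set (fst ⁻¹ᵁ W : (pullback pX pY).Opens)) ∩ closure (Set.range g₁) ∩
      (fst ∣_ W) ⁻¹' {(⟨x, hxW⟩ : W)} = {⟨z, hzW⟩} := by
    apply Set.eq_singleton_iff_unique_mem.mpr
    constructor
    · exact ⟨⟨hzmem.1.1, hzΓ₁⟩, hz₁q⟩
    · rintro w ⟨⟨hwO, hwcl⟩, hwq⟩
      apply (fst ⁻¹ᵁ W).ι.isEmbedding.injective
      show (fst ⁻¹ᵁ W).ι w = z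
      have hw : (fst ⁻¹ᵁ W).ι w ∈ (W₀ : Set _) ∩ closure (Set.range g) ∩ fst ⁻¹' {x} := by
        refine ⟨⟨hwO, ?_⟩, ?_⟩
        · have h1 : (fst ⁻¹ᵁ W).ι w ∈ closure ((fst ⁻¹ᵁ W).ι '' Set.range g₁) :=
            image_closure_subset_closure_image (fst ⁻¹ᵁ W).ι.continuous ⟨w, hwcl, rfl⟩
          rw [hιrange] at h1
          refine closure_mono ?_ h1
          rintro _ ⟨a, rfl⟩
          exact ⟨k a, rfl⟩
        · show fst ((fst ⁻¹ᵁ W).ι w) = x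
          have h2 : W.ι ((fst ∣_ W) w) = W.ι (⟨x, hxW⟩ : W) := congrArg W.ι hwq
          rw [← Scheme.Hom.comp_apply, morphismRestrict_ι, Scheme.Hom.comp_apply] at h2
          exact h2
      rw [hW₀] at hw
      exact hw
  obtain ⟨V, σ, hxV, hσq, hσU⟩ := exists_section_extension_of_normal_point (fst ∣_ W) U₁ g₁ hg₁q
    (⟨x, hxW⟩ : W) hN ⟨z, hzW⟩ hz₁q hzΓ₁ ((fst ⁻¹ᵁ W).ι ⁻¹ᵁ W₀) hO₁
  have hcond : fst ≫ pX = snd ≫ pY := pullback.condition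
  set v : ((W.ι ''ᵁ V : X.Opens) : Scheme.{u}) ⟶ Y :=
    (W.ι.isoImage V).inv ≫ σ ≫ (fst ⁻¹ᵁ W).ι ≫ snd with hv
  have hvS : v ≫ pY = (W.ι ''ᵁ V).ι ≫ pX := by
    rw [hv]
    simp only [Category.assoc]
    rw [← hcond, ← Category.assoc (fst ⁻¹ᵁ W).ι, ← morphismRestrict_ι, Category.assoc,
      ← Category.assoc σ, hσq, Scheme.Hom.isoImage_inv_ι_assoc]
  refine ⟨W.ι ''ᵁ V, v, ⟨⟨x, hxW⟩, hxV, rfl⟩, hvS, ?_⟩
  have hVW : W.ι ''ᵁ V ≤ W := by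
    rintro _ ⟨w, -, rfl⟩
    exact w.2
  have hAW : U ⊓ W.ι ''ᵁ V ≤ W := inf_le_right.trans hVW
  have hAred : IsReduced ((U ⊓ W.ι ''ᵁ V : X.Opens) : Scheme.{u}) :=
    isReduced_of_isOpenImmersion (X.homOfLE hAW)
  have hTrange : Set.range ((U₁ ⊓ V).ι ≫ W.ι) ⊆ Set.range (U ⊓ W.ι ''ᵁ V).ι := by
    rintro _ ⟨w, rfl⟩
    rw [Scheme.Opens.range_ι]
    exact ⟨hU₁U w.2.1, ⟨_, w.2.2, rfl⟩⟩
  set ι' := IsOpenImmersion.lift (U ⊓ W.ι ''ᵁ V).ι ((U₁ ⊓ V).ι ≫ W.ι) hTrange with hι'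
  have hι'fac : ι' ≫ (U ⊓ W.ι ''ᵁ V).ι = (U₁ ⊓ V).ι ≫ W.ι := IsOpenImmersion.lift_fac _ _ _
  have hι'open : IsOpenImmersion ι' := by
    have : IsOpenImmersion (ι' ≫ (U ⊓ W.ι ''ᵁ V).ι) := by rw [hι'fac]; infer_instance
    exact IsOpenImmersion.of_comp ι' (U ⊓ W.ι ''ᵁ V).ι
  have hTne : Nonempty ((U₁ ⊓ V : (W : Scheme.{u}).Opens) : Scheme.{u}) := by
    obtain ⟨w, hw1, hw2⟩ := nonempty_preirreducible_inter U₁.isOpen V.isOpen ⟨_, hu₀U₁⟩ ⟨_, hxV⟩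
    exact ⟨⟨w, hw1, hw2⟩⟩
  have hAne : Nonempty ((U ⊓ W.ι ''ᵁ V : X.Opens) : Scheme.{u}) := hTne.map ι'
  have hAint : IsIntegral ((U ⊓ W.ι ''ᵁ V : X.Opens) : Scheme.{u}) :=
    isIntegral_of_isOpenImmersion (X.homOfLE hAW)
  have hdom : IsDominant ι' :=
    ⟨ι'.isOpenEmbedding.isOpen_range.dense (Set.range_nonempty _)⟩
  refine ext_of_isDominant_of_isSeparated pY ?_ ι' ?_
  · rw [Category.assoc, hvS, Scheme.homOfLE_ι_assoc, Category.assoc, ← hh,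
      Scheme.homOfLE_ι_assoc]
  · have c1 : ι' ≫ X.homOfLE (inf_le_right : U ⊓ W.ι ''ᵁ V ≤ W.ι ''ᵁ V) ≫ (W.ι.isoImage V).inv =
        (W : Scheme.{u}).homOfLE (inf_le_right : U₁ ⊓ V ≤ V) := by
      rw [← cancel_mono (V.ι ≫ W.ι)]
      simp only [Category.assoc]
      rw [Scheme.Hom.isoImage_inv_ι, Scheme.homOfLE_ι, hι'fac, Scheme.homOfLE_ι_assoc]
    have c2 : ι' ≫ X.homOfLE (inf_le_left : U ⊓ W.ι ''ᵁ V ≤ U) =
        (W : Scheme.{u}).homOfLE (inf_le_left : U₁ ⊓ V ≤ U₁) ≫ k := by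
      rw [← cancel_mono U.ι, Category.assoc, Scheme.homOfLE_ι, hι'fac, Category.assoc, hk',
        Scheme.homOfLE_ι_assoc]
    calc ι' ≫ X.homOfLE (inf_le_right : U ⊓ W.ι ''ᵁ V ≤ W.ι ''ᵁ V) ≫ v
        = (ι' ≫ X.homOfLE (inf_le_right : U ⊓ W.ι ''ᵁ V ≤ W.ι ''ᵁ V) ≫ (W.ι.isoImage V).inv) ≫
            σ ≫ (fst ⁻¹ᵁ W).ι ≫ snd := by
          rw [hv]; simp only [Category.assoc]
      _ = ((W : Scheme.{u}).homOfLE (inf_le_right : U₁ ⊓ V ≤ V) ≫ σ) ≫ (fst ⁻¹ᵁ W).ι ≫ snd := by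
          rw [c1, Category.assoc]
      _ = ((W : Scheme.{u}).homOfLE (inf_le_left : U₁ ⊓ V ≤ U₁) ≫ g₁) ≫ (fst ⁻¹ᵁ W).ι ≫ snd := by
          rw [hσU]
      _ = (W : Scheme.{u}).homOfLE (inf_le_left : U₁ ⊓ V ≤ U₁) ≫ k ≫ h := by
          rw [Category.assoc, ← Category.assoc g₁, hg₁', Category.assoc, hgsnd]
      _ = ι' ≫ X.homOfLE (inf_le_left : U ⊓ W.ι ''ᵁ V ≤ U) ≫ h := by
          rw [← Category.assoc, ← c2, Category.assoc]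

end Groth.Agent.Lib.helper9
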