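/-
Helper library (helper9): a rational map from a normal scheme to a separated scheme locally of
finite type is defined at `f x'` as soon as its composite with a universally open morphism `f`
is defined at `x'`.
-/
import Groth.Agent.Lib.Helper9.RationalExtend

set_option autoImplicit false

namespace Groth.Agent.Lib.helper9

open AlgebraicGeometry CategoryTheory CategoryTheory.Limits TopologicalSpace

universe u

/-- The image of a section `γ` over an open `V'` of a separated morphism `a` is closed in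
`a⁻¹ V'`. -/
theorem mem_range_of_mem_closure_range_section {P X : Scheme.{u}} (a : P ⟶ X) [IsSeparated a]
    (V' : X.Opens) (γ : (V' : Scheme.{u}) ⟶ P) (hγ : γ ≫ a = V'.ι)
    (t : P) (ht : t ∈ closure (Set.range γ)) (htV : a t ∈ V') : t ∈ Set.range γ := by
  have hrange : Set.range γ ⊆ Set.range (a ⁻¹ᵁ V').ι := by
    rintro _ ⟨c, rfl⟩
    rw [Scheme.Opens.range_ι]
    show a (γ c) ∈ V'
    rw [← Scheme.Hom.comp_apply, hγ]
    exact c.2
  set γ' := IsOpenImmersion.lift (a ⁻¹ᵁ V').ι γ hrange with hγ'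
  have hfac : γ' ≫ (a ⁻¹ᵁ V').ι = γ := IsOpenImmersion.lift_fac _ _ _
  have hsec : γ' ≫ a ∣_ V' = 𝟙 _ := by
    rw [← cancel_mono V'.ι, Category.assoc, morphismRestrict_ι, ← Category.assoc, hfac, hγ,
      Category.id_comp]
  have h1 : IsClosedImmersion (γ' ≫ a ∣_ V') := by rw [hsec]; infer_instance
  have h2 : IsClosedImmersion γ' := IsClosedImmersion.of_comp γ' (a ∣_ V')
  have hclosed : IsClosed (Set.range γ') := γ'.isClosedEmbedding.isClosed_range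
  have hιrange : (a ⁻¹ᵁ V').ι '' Set.range γ' = Set.range γ := by
    rw [← Set.range_comp, ← hfac]
    rfl
  have ht₁ : (⟨t, htV⟩ : (a ⁻¹ᵁ V' : P.Opens)) ∈ closure (Set.range γ') := by
    rw [(a ⁻¹ᵁ V').ι.isEmbedding.isInducing.closure_eq_preimage_closure_image, hιrange]
    exact ht
  rw [hclosed.closure_eq] at ht₁
  obtain ⟨c, hc⟩ := ht₁
  refine ⟨c, ?_⟩
  rw [← hfac, Scheme.Hom.comp_apply, hc]
  rfl

theorem exists_extension_of_exists_extension_comp_universallyOpen {X X' Y S : Scheme.{u}}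
    (pX : X ⟶ S) (pY : Y ⟶ S) [LocallyOfFiniteType pY] [IsSeparated pY]
    (hX : ∀ y : X, ∃ W : X.Opens, y ∈ W ∧ IsIntegral (W : Scheme.{u}))
    (hXn : ∀ y : X, IsIntegrallyClosed (X.presheaf.stalk y))
    (U : X.Opens) (hU : Dense (U : Set X)) (h : (U : Scheme.{u}) ⟶ Y) (hh : h ≫ pY = U.ι ≫ pX)
    (f : X' ⟶ X) [UniversallyOpen f] (x' : X')
    (V' : X'.Opens) (v' : (V' : Scheme.{u}) ⟶ Y) (hx'V' : x' ∈ V')
    (hv'S : v' ≫ pY = V'.ι ≫ f ≫ pX)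
    (hagree : X'.homOfLE (inf_le_right : f ⁻¹ᵁ U ⊓ V' ≤ V') ≫ v' =
      X'.homOfLE (inf_le_left : f ⁻¹ᵁ U ⊓ V' ≤ f ⁻¹ᵁ U) ≫ (f ∣_ U) ≫ h) :
    ∃ (V : X.Opens) (v : (V : Scheme.{u}) ⟶ Y), f x' ∈ V ∧ v ≫ pY = V.ι ≫ pX ∧
      X.homOfLE (inf_le_right : U ⊓ V ≤ V) ≫ v = X.homOfLE (inf_le_left : U ⊓ V ≤ U) ≫ h := by
  set fst := pullback.fst pX pY with hfst
  set snd := pullback.snd pX pY with hsnd
  set g := pullback.lift U.ι h hh.symm with hg
  have hgfst : g ≫ fst = U.ι := pullback.lift_fst _ _ _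
  have hgsnd : g ≫ snd = h := pullback.lift_snd _ _ _
  have hφc : (V'.ι ≫ f) ≫ pX = v' ≫ pY := by rw [Category.assoc, hv'S]
  set φ : (V' : Scheme.{u}) ⟶ pullback pX pY := pullback.lift (V'.ι ≫ f) v' hφc with hφ
  have hφfst : φ ≫ fst = V'.ι ≫ f := pullback.lift_fst _ _ _
  have hφsnd : φ ≫ snd = v' := pullback.lift_snd _ _ _
  -- agreement of `φ` and `g` over `f⁻¹ U ⊓ V'`
  have hE' : X'.homOfLE (inf_le_right : f ⁻¹ᵁ U ⊓ V' ≤ V') ≫ φ =
      X'.homOfLE (inf_le_left : f ⁻¹ᵁ U ⊓ V' ≤ f ⁻¹ᵁ U) ≫ (f ∣_ U) ≫ g := by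
    apply pullback.hom_ext
    · simp only [Category.assoc]
      rw [← hfst, hφfst, hgfst, morphismRestrict_ι, Scheme.homOfLE_ι_assoc,
        Scheme.homOfLE_ι_assoc]
    · simp only [Category.assoc]
      rw [← hsnd, hφsnd, hgsnd, hagree]
  -- the base change of `P` along `f`
  set a := pullback.fst f fst with ha
  set fP := pullback.snd f fst with hfP
  have hcond : a ≫ f = fP ≫ fst := pullback.condition
  set γ : (V' : Scheme.{u}) ⟶ pullback f fst := pullback.lift V'.ι φ hφfst.symm with hγ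
  have hγa : γ ≫ a = V'.ι := pullback.lift_fst _ _ _
  have hγfP : γ ≫ fP = φ := pullback.lift_snd _ _ _
  have hg'c : (f ⁻¹ᵁ U).ι ≫ f = ((f ∣_ U) ≫ g) ≫ fst := by
    rw [Category.assoc, hgfst, morphismRestrict_ι]
  set g' : ((f ⁻¹ᵁ U : X'.Opens) : Scheme.{u}) ⟶ pullback f fst :=
    pullback.lift (f ⁻¹ᵁ U).ι ((f ∣_ U) ≫ g) hg'c with hg'
  have hg'a : g' ≫ a = (f ⁻¹ᵁ U).ι := pullback.lift_fst _ _ _
  have hg'fP : g' ≫ fP = (f ∣_ U) ≫ g := pullback.lift_snd _ _ _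
  have hE : X'.homOfLE (inf_le_right : f ⁻¹ᵁ U ⊓ V' ≤ V') ≫ γ =
      X'.homOfLE (inf_le_left : f ⁻¹ᵁ U ⊓ V' ≤ f ⁻¹ᵁ U) ≫ g' := by
    apply pullback.hom_ext
    · simp only [Category.assoc]
      rw [← ha, hγa, hg'a, Scheme.homOfLE_ι, Scheme.homOfLE_ι]
    · simp only [Category.assoc]
      rw [← hfP, hγfP, hg'fP, hE']
  have hleft : IsPullback g' (f ∣_ U) fP g := by
    refine IsPullback.of_right ?_ hg'fP (IsPullback.of_hasPullback f fst)
    rw [hg'a, hgfst]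
    exact (isPullback_morphismRestrict f U).flip
  have hfPopen : IsOpenMap fP := fP.isOpenMap
  -- (A') uniqueness of the point of the graph closure over `f x'`
  have hA : ∀ w : ↥(pullback pX pY), w ∈ closure (Set.range g) → fst w = f x' →
      w = φ ⟨x', hx'V'⟩ := by
    intro w hwcl hwx
    obtain ⟨t, ht1, ht2⟩ := Scheme.Pullback.exists_preimage_pullback (f := f) (g := fst) x' w
      hwx.symm
    have ht1' : a t = x' := ht1
    have ht2' : fP t = w := ht2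
    have htcl : t ∈ closure (fP ⁻¹' Set.range g) :=
      hfPopen.preimage_closure_subset_closure_preimage (by rw [Set.mem_preimage, ht2']; exact hwcl)
    have htγ : t ∈ closure (Set.range γ) := by
      rw [mem_closure_iff]
      intro N hNopen htN
      obtain ⟨t', ⟨ht'N, ht'V⟩, u, hu⟩ := mem_closure_iff.mp htcl (N ∩ (a ⁻¹ᵁ V' : Set _))
        (hNopen.inter (a ⁻¹ᵁ V').isOpen) ⟨htN, by show a t ∈ V'; rw [ht1']; exact hx'V'⟩
      obtain ⟨b, hb1, hb2⟩ := Scheme.exists_preimage_of_isPullback hleft t' u hu.symm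
      have hbV : (f ⁻¹ᵁ U).ι b ∈ V' := by
        have : a t' ∈ V' := ht'V
        rwa [← hb1, ← Scheme.Hom.comp_apply, hg'a] at this
      refine ⟨t', ht'N, ⟨(⟨(f ⁻¹ᵁ U).ι b, hbV⟩ : V'), ?_⟩⟩
      have hb' : X'.homOfLE (inf_le_left : f ⁻¹ᵁ U ⊓ V' ≤ f ⁻¹ᵁ U)
          ⟨(f ⁻¹ᵁ U).ι b, b.2, hbV⟩ = b := by
        apply (f ⁻¹ᵁ U).ι.isEmbedding.injective
        rw [← Scheme.Hom.comp_apply, Scheme.homOfLE_ι]
        rfl
      have hb'' : X'.homOfLE (inf_le_right : f ⁻¹ᵁ U ⊓ V' ≤ V')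
          ⟨(f ⁻¹ᵁ U).ι b, b.2, hbV⟩ = (⟨(f ⁻¹ᵁ U).ι b, hbV⟩ : V') := by
        apply V'.ι.isEmbedding.injective
        rw [← Scheme.Hom.comp_apply, Scheme.homOfLE_ι]
        rfl
      rw [← hb'', ← Scheme.Hom.comp_apply, hE, Scheme.Hom.comp_apply, hb']
      exact hb1
    obtain ⟨c, hc⟩ := mem_range_of_mem_closure_range_section a V' γ hγa t htγ
      (by rw [ht1']; exact hx'V')
    have hcx : c = ⟨x', hx'V'⟩ := by
      apply V'.ι.isEmbedding.injective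
      have h3 : V'.ι c = a (γ c) := by rw [← Scheme.Hom.comp_apply, hγa]
      rw [h3, hc, ht1']
      rfl
    rw [← ht2', ← hc, ← Scheme.Hom.comp_apply, hγfP, hcx]
  -- (D) the point lies in the closure of the graph
  have hD : φ ⟨x', hx'V'⟩ ∈ closure (Set.range g) := by
    have hdense : Dense (V'.ι ⁻¹' ((f ⁻¹ᵁ U : X'.Opens) : Set X')) :=
      (hU.preimage f.isOpenMap).preimage V'.ι.isOpenEmbedding.isOpenMap
    have h1 : φ ⟨x', hx'V'⟩ ∈ φ '' closure (V'.ι ⁻¹' ((f ⁻¹ᵁ U : X'.Opens) : Set X')) :=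
      ⟨_, hdense _, rfl⟩
    refine closure_mono ?_ (image_closure_subset_closure_image φ.continuous h1)
    rintro _ ⟨c, hc, rfl⟩
    have hc'' : X'.homOfLE (inf_le_right : f ⁻¹ᵁ U ⊓ V' ≤ V')
        ⟨V'.ι c, hc, c.2⟩ = c := by
      apply V'.ι.isEmbedding.injective
      rw [← Scheme.Hom.comp_apply, Scheme.homOfLE_ι]
      rfl
    rw [← hc'', ← Scheme.Hom.comp_apply, hE']
    exact ⟨_, rfl⟩
  have hzfst : fst (φ ⟨x', hx'V'⟩) = f x' := by
    rw [← Scheme.Hom.comp_apply, hφfst]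
    rfl
  refine exists_extension_of_normal_of_isolated_in_graph_fibre pX pY hX U hU h hh.symm (f x')
    (hXn _) (φ ⟨x', hx'V'⟩) hzfst hD ⟨⊤, ?_⟩
  apply Set.eq_singleton_iff_unique_mem.mpr
  constructor
  · exact ⟨⟨trivial, hD⟩, hzfst⟩
  · rintro w ⟨⟨-, hwcl⟩, hwx⟩
    exact hA w hwcl hwx

theorem exists_extension_comp_of_exists_extension {X X' Y S : Scheme.{u}} (pX : X ⟶ S)
    (pY : Y ⟶ S) (U : X.Opens) (h : (U : Scheme.{u}) ⟶ Y) (f : X' ⟶ X) (x' : X')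
    (V : X.Opens) (v : (V : Scheme.{u}) ⟶ Y) (hxV : f x' ∈ V) (hvS : v ≫ pY = V.ι ≫ pX)
    (hagree : X.homOfLE (inf_le_right : U ⊓ V ≤ V) ≫ v =
      X.homOfLE (inf_le_left : U ⊓ V ≤ U) ≫ h) :
    ∃ (V' : X'.Opens) (v' : (V' : Scheme.{u}) ⟶ Y), x' ∈ V' ∧ v' ≫ pY = V'.ι ≫ f ≫ pX ∧
        X'.homOfLE (inf_le_right : f ⁻¹ᵁ U ⊓ V' ≤ V') ≫ v' =
          X'.homOfLE (inf_le_left : f ⁻¹ᵁ U ⊓ V' ≤ f ⁻¹ᵁ U) ≫ (f ∣_ U) ≫ h := by
  refine ⟨f ⁻¹ᵁ V, (f ∣_ V) ≫ v, hxV, ?_, ?_⟩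
  · rw [Category.assoc, hvS, ← Category.assoc, morphismRestrict_ι, Category.assoc]
  · set r := f.resLE (U ⊓ V) (f ⁻¹ᵁ U ⊓ f ⁻¹ᵁ V) le_rfl with hr
    have h1 : X'.homOfLE (inf_le_right : f ⁻¹ᵁ U ⊓ f ⁻¹ᵁ V ≤ f ⁻¹ᵁ V) ≫ (f ∣_ V) =
        r ≫ X.homOfLE (inf_le_right : U ⊓ V ≤ V) := by
      rw [← cancel_mono V.ι, Category.assoc, morphismRestrict_ι, Scheme.homOfLE_ι_assoc,
        Category.assoc, Scheme.homOfLE_ι, Scheme.Hom.resLE_comp_ι]
    have h2 : X'.homOfLE (inf_le_left : f ⁻¹ᵁ U ⊓ f ⁻¹ᵁ V ≤ f ⁻¹ᵁ U) ≫ (f ∣_ U) =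
        r ≫ X.homOfLE (inf_le_left : U ⊓ V ≤ U) := by
      rw [← cancel_mono U.ι, Category.assoc, morphismRestrict_ι, Scheme.homOfLE_ι_assoc,
        Category.assoc, Scheme.homOfLE_ι, Scheme.Hom.resLE_comp_ι]
    rw [← Category.assoc, h1, Category.assoc, hagree, ← Category.assoc, ← h2, Category.assoc]

end Groth.Agent.Lib.helper9
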