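/-
Helper library (helper9): the reduced locus `{x | O_{X,x} reduced}` of a scheme whose nilradical
is of finite type on affine opens is open.
-/
import Mathlib

set_option autoImplicit false

namespace Groth.Agent.Lib.helper9

open AlgebraicGeometry CategoryTheory TopologicalSpace

universe u

/-- If the nilradical of `Γ(X, U)` (`U` affine) is generated by finitely many sections whose germs
at `y ∈ U` vanish, then the stalk at `y` is reduced. -/
theorem isReduced_stalk_of_germ_eq_zero {X : Scheme.{u}} {U : X.Opens} (hU : IsAffineOpen U)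
    (s : Finset Γ(X, U)) (hs : Ideal.span (s : Set Γ(X, U)) = nilradical Γ(X, U)) (y : X)
    (hy : y ∈ U) (h0 : ∀ f ∈ s, X.presheaf.germ U y hy f = 0) :
    _root_.IsReduced (X.presheaf.stalk y) := by
  letI := X.presheaf.algebra_section_stalk (⟨y, hy⟩ : U)
  haveI := hU.isLocalization_stalk ⟨y, hy⟩
  rw [← nilradical_eq_bot_iff]
  have h1 := IsLocalization.map_radical (hU.primeIdealOf ⟨y, hy⟩).asIdeal.primeCompl
    (S := X.presheaf.stalk y) (⊥ : Ideal Γ(X, U))
  rw [Ideal.map_bot] at h1
  have h2 : nilradical (X.presheaf.stalk y) = Ideal.radical ⊥ := rfl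
  have h3 : Ideal.radical (⊥ : Ideal Γ(X, U)) = Ideal.span (s : Set Γ(X, U)) := hs.symm
  rw [h2, ← h1, h3, Ideal.map_span, Ideal.span_eq_bot]
  rintro _ ⟨f, hf, rfl⟩
  exact h0 f hf

/-- If the nilradical is of finite type on all affine opens, the reduced locus is open. -/
theorem isOpen_setOf_isReduced_stalk (X : Scheme.{u})
    (hN : ∀ U : X.affineOpens, (nilradical Γ(X, U)).FG) :
    IsOpen {x : X | _root_.IsReduced (X.presheaf.stalk x)} := by
  classical
  rw [isOpen_iff_forall_mem_open]
  intro x hx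
  obtain ⟨U, hU, hxU, -⟩ := exists_isAffineOpen_mem_and_subset (X := X) (U := ⊤) (x := x) trivial
  obtain ⟨s, hs⟩ := hN ⟨U, hU⟩
  have key : ∀ t : Finset Γ(X, U), (∀ f ∈ t, f ∈ nilradical Γ(X, U)) →
      ∃ V : X.Opens, x ∈ V ∧ ∃ hVU : V ≤ U, ∀ f ∈ t, X.presheaf.map (homOfLE hVU).op f = 0 := by
    intro t
    induction t using Finset.induction_on with
    | empty => intro _; exact ⟨U, hxU, le_rfl, by simp⟩
    | insert f t hft ih =>
      intro hmem
      obtain ⟨V, hxV, hVU, hV⟩ := ih (fun g hg => hmem g (Finset.mem_insert_of_mem hg))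
      have hfnil : IsNilpotent f := hmem f (Finset.mem_insert_self f t)
      have hgerm : X.presheaf.germ U x hxU f = 0 := by
        have hred : _root_.IsReduced (X.presheaf.stalk x) := hx
        exact (hfnil.map (X.presheaf.germ U x hxU).hom).eq_zero
      have hgerm' : X.presheaf.germ U x hxU f = X.presheaf.germ U x hxU 0 := by
        rw [hgerm, map_zero]
      obtain ⟨W, hxW, iU, iV, hres⟩ := X.presheaf.germ_eq x hxU hxU _ _ hgerm'
      rw [map_zero] at hres
      refine ⟨V ⊓ W, ⟨hxV, hxW⟩, inf_le_left.trans hVU, ?_⟩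
      intro g hg
      rcases Finset.mem_insert.mp hg with rfl | hg
      · have h1 : X.presheaf.map (homOfLE (inf_le_left.trans hVU : V ⊓ W ≤ U)).op g =
            X.presheaf.map (homOfLE inf_le_right : V ⊓ W ⟶ W).op (X.presheaf.map iU.op g) := by
          rw [← CommRingCat.comp_apply, ← Functor.map_comp]; rfl
        rw [h1, hres, map_zero]
      · have h1 : X.presheaf.map (homOfLE (inf_le_left.trans hVU : V ⊓ W ≤ U)).op g =
            X.presheaf.map (homOfLE inf_le_left : V ⊓ W ⟶ V).op
              (X.presheaf.map (homOfLE hVU).op g) := by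
          rw [← CommRingCat.comp_apply, ← Functor.map_comp]; rfl
        rw [h1, hV g hg, map_zero]
  obtain ⟨V, hxV, hVU, hV⟩ := key s (fun f hf => by
    rw [← hs]; exact Ideal.subset_span hf)
  refine ⟨V, ?_, V.isOpen, hxV⟩
  intro y hyV
  refine isReduced_stalk_of_germ_eq_zero hU s hs y (hVU hyV) ?_
  intro f hf
  rw [← TopCat.Presheaf.germ_res_apply X.presheaf (homOfLE hVU) y hyV f, hV f hf, map_zero]

end Groth.Agent.Lib.helper9
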