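/-
Helper library (helper9): Noetherian approximation relative to a quasi-compact open, part 1.
The structure `Rel T Y jV`: an approximation `T'` of `Y` whose stages contain the stages of the
given approximation `T` of the open `V` of `Y` as opens, compatibly.
-/
import Groth.Agent.Lib.Helper9.AbsApprox15

set_option autoImplicit false
set_option linter.style.haveILetI false
set_option backward.isDefEq.respectTransparency false

namespace Groth.Agent.Lib.helper9.AbsApprox

open AlgebraicGeometry CategoryTheory Limits Opposite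

universe u

noncomputable section

/-- An approximation of `Y` relative to the approximation `T` of (the source of) `jV`. -/
structure Rel (T : Sys.{u}) (Y : Scheme.{u}) (jV : T.c.pt ⟶ Y) where
  /-- the approximation of `Y` -/
  T' : Sys.{u}
  /-- its limit is `Y` -/
  e : T'.c.pt ≅ Y
  /-- the map of index sets -/
  α : T'.I →o T.I
  /-- the inclusions of the stages of `T` into the stages of `T'` -/
  ι : ∀ j : T'.I, T.X (α j) ⟶ T'.X j
  open_ι : ∀ j, IsOpenImmersion (ι j)
  pb : ∀ {j j' : T'.I} (h : j' ≤ j), IsPullback (ι j) (T.tr (α.mono h)) (T'.tr h) (ι j')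
  pbinf : ∀ j, IsPullback (jV ≫ e.inv) (T.pr (α j)) (T'.pr j) (ι j)

namespace Rel

variable {T : Sys.{u}} {Y : Scheme.{u}} {jV : T.c.pt ⟶ Y}

instance (R : Rel T Y jV) (j : R.T'.I) : IsOpenImmersion (R.ι j) := R.open_ι j

/-- transport along an isomorphism of the target -/
def ofIso (R : Rel T Y jV) {Y' : Scheme.{u}} (θ : Y ≅ Y') {jV' : T.c.pt ⟶ Y'}
    (h : jV' = jV ≫ θ.hom) : Rel T Y' jV' where
  T' := R.T'
  e := R.e ≪≫ θ
  α := R.α
  ι := R.ι
  open_ι := R.open_ι
  pb := R.pb
  pbinf j := by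
    have : jV' ≫ (R.e ≪≫ θ).inv = jV ≫ R.e.inv := by
      rw [h, Iso.trans_inv, Category.assoc, Iso.hom_inv_id_assoc]
    rw [this]
    exact R.pbinf j

/-- the trivial relative approximation -/
def refl (T : Sys.{u}) {Y : Scheme.{u}} (e : T.c.pt ≅ Y) : Rel T Y e.hom where
  T' := T
  e := e
  α := OrderHom.id
  ι j := 𝟙 _
  open_ι j := inferInstance
  pb h := IsPullback.of_horiz_isIso ⟨by rw [Category.id_comp, Category.comp_id]⟩
  pbinf j := by
    rw [Iso.hom_inv_id]
    exact IsPullback.of_horiz_isIso ⟨by rw [Category.id_comp, Category.comp_id]; rfl⟩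

/-- composition of relative approximations -/
def comp (R₁ : Rel T Y jV) {Y₂ : Scheme.{u}} {j₂ : R₁.T'.c.pt ⟶ Y₂} (R₂ : Rel R₁.T' Y₂ j₂) :
    Rel T Y₂ (jV ≫ R₁.e.inv ≫ j₂) where
  T' := R₂.T'
  e := R₂.e
  α := R₁.α.comp R₂.α
  ι j := R₁.ι (R₂.α j) ≫ R₂.ι j
  open_ι j := inferInstance
  pb h := (R₁.pb (R₂.α.mono h)).paste_horiz (R₂.pb h)
  pbinf j := by
    have := (R₁.pbinf (R₂.α j)).paste_horiz (R₂.pbinf j)
    simp only [Category.assoc] at this ⊢
    exact this

end Rel

end

end Groth.Agent.Lib.helper9.AbsApprox
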