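/-
Helper library (helper9): Noetherian approximation relative to a quasi-compact open, part 2.
The induction step of absolute Noetherian approximation in relative form.
-/
import Groth.Agent.Lib.Helper9.RelApprox1
import Groth.Agent.Lib.Helper9.AbsApprox18

set_option autoImplicit false
set_option linter.style.haveILetI false
set_option backward.isDefEq.respectTransparency false

namespace Groth.Agent.Lib.helper9.AbsApprox

open AlgebraicGeometry CategoryTheory Limits Opposite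

universe u

noncomputable section

namespace StepData

variable (S : StepData.{u})

/-- the approximation of `U` as a `Sys` -/
def sysU : Sys.{u} where
  I := S.I
  D := S.D
  c := S.c
  hc := S.hc
  aff f := S.aff f
  ftz := S.ftz

/-- the approximation of `X = U ∪ V` relative to the approximation of `U` -/
def rel : Rel S.sysU S.Xg (pushout.inl S.Winf.ι S.b) where
  T' := S.toSys
  e := Iso.refl _
  α := ⟨fun j => j.i, fun j j' h => h.fst⟩
  ι j := pushout.inl (S.W j.i).ι (S.g j)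
  open_ι j := inferInstance
  pb {j j'} h := isPullback_inl_map (S.W j'.i).ι (S.g j') (S.W j.i).ι (S.g j) _ _ _
    (S.w_ι h.fst).symm (S.g_comp h) (S.isPullback_g h)
  pbinf j := by
    show IsPullback (pushout.inl S.Winf.ι S.b ≫ 𝟙 _) (S.pr j.i) (S.leg j)
      (pushout.inl (S.W j.i).ι (S.g j))
    rw [Category.comp_id]
    exact isPullback_inl_map (S.W j.i).ι (S.g j) S.Winf.ι S.b _ _ _ (S.winf_ι j.i).symm
      (S.b_comp j) (S.isPullback_b j)

end StepData

namespace PreStep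

variable (P : PreStep.{u})

/-- the restriction of the approximation to the stages above `i₀` -/
def sysJ : Sys.{u} where
  I := P.J
  D := P.incl.op ⋙ P.T.D
  c := P.T.c.whisker P.incl.op
  hc := (Functor.Initial.isLimitWhiskerEquiv P.incl.op P.T.c).symm P.T.hc
  aff f := inferInstanceAs (IsAffineHom (P.T.D.map (P.incl.op.map f)))
  ftz i := P.T.ftz i.1

/-- the restriction to the stages above `i₀` as a relative approximation -/
def relJ : Rel P.T P.T.c.pt (𝟙 _) where
  T' := P.sysJ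
  e := Iso.refl _
  α := ⟨fun j => j.1, fun _ _ h => h⟩
  ι j := 𝟙 _
  open_ι j := inferInstance
  pb h := IsPullback.of_horiz_isIso ⟨by rw [Category.id_comp, Category.comp_id]; rfl⟩
  pbinf j := by
    show IsPullback (𝟙 P.T.c.pt ≫ 𝟙 _) (P.T.pr j.1) (P.T.pr j.1) (𝟙 _)
    rw [Category.comp_id]
    exact IsPullback.of_horiz_isIso ⟨by rw [Category.id_comp, Category.comp_id]⟩

/-- the relative approximation of the gluing -/
def rel (hcov₀ : P.W₀ ≤ ⨆ k, (P.T.X P.i₀).basicOpen (P.f₀ k))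
    (haff₀ : ∀ k, IsAffineOpen ((P.T.X P.i₀).basicOpen (P.f₀ k)))
    (hiso : ∀ k, Function.Bijective (Localization.awayMap P.ρ.hom (P.bk k)))
    (hb : IsOpenImmersion (P.Winf.toSpecΓ ≫ Spec.map P.ρ)) :
    Rel P.T (pushout P.Winf.ι (P.Winf.toSpecΓ ≫ Spec.map P.ρ))
      (pushout.inl P.Winf.ι (P.Winf.toSpecΓ ≫ Spec.map P.ρ)) :=
  haveI := hb
  (P.relJ.comp (j₂ := pushout.inl P.Winf.ι (P.Winf.toSpecΓ ≫ Spec.map P.ρ))
    (P.toStepData hcov₀ haff₀ hiso hb).rel).ofIso (Iso.refl _) (by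
      show pushout.inl P.Winf.ι (P.Winf.toSpecΓ ≫ Spec.map P.ρ) =
        (𝟙 P.T.c.pt ≫ 𝟙 P.T.c.pt ≫ pushout.inl P.Winf.ι (P.Winf.toSpecΓ ≫ Spec.map P.ρ)) ≫ 𝟙 _
      rw [Category.comp_id, Category.id_comp, Category.id_comp])

end PreStep

/-- **The gluing of an approximated scheme with an affine scheme has a relative
approximation.** -/
theorem nonempty_rel_pushout (T : Sys.{u}) (Winf : T.c.pt.Opens)
    (hWinf : IsCompact (Winf : Set T.c.pt))
    (B : CommRingCat.{u}) (ρ : B ⟶ Γ(T.c.pt, Winf)) (κ : Type) [Finite κ] (bk : κ → B)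
    (F1 : Winf ≤ ⨆ k, T.c.pt.basicOpen (ρ.hom (bk k)))
    (F2 : ∀ k, IsAffineOpen (T.c.pt.basicOpen (ρ.hom (bk k))))
    (hiso : ∀ k, Function.Bijective (Localization.awayMap ρ.hom (bk k)))
    (hb : IsOpenImmersion (Winf.toSpecΓ ≫ Spec.map ρ)) :
    Nonempty (Rel T (pushout Winf.ι (Winf.toSpecΓ ≫ Spec.map ρ))
      (pushout.inl Winf.ι (Winf.toSpecΓ ≫ Spec.map ρ))) := by
  obtain ⟨i₁, W₁, hW₁⟩ := T.exists_opens Winf hWinf
  have h1 : ∀ k, ∃ (i' : T.I) (h : i₁ ≤ i') (t : Γ(T.X i', T.tr h ⁻¹ᵁ W₁)),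
      ((T.pr i').appLE (T.tr h ⁻¹ᵁ W₁) Winf (by rw [T.pr_preimage_tr, hW₁])).hom t =
        ρ.hom (bk k) := fun k => T.exists_section W₁ Winf hW₁ _
  choose ik hik tk htk using h1
  obtain ⟨i₂', hi₂'⟩ := Finite.exists_le ik
  obtain ⟨i₂, h12, h22⟩ := exists_ge_ge i₁ i₂'
  let P : PreStep.{u} :=
    { T := T
      i₀ := i₂
      W₀ := T.tr h12 ⁻¹ᵁ W₁
      Winf := Winf
      hWinf₀ := by rw [T.pr_preimage_tr, hW₁]
      κ := κ
      f₀ := fun k => ((T.tr ((hi₂' k).trans h22)).appLE (T.tr (hik k) ⁻¹ᵁ W₁) (T.tr h12 ⁻¹ᵁ W₁)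
        (by rw [T.tr_preimage_tr])).hom (tk k)
      B := B
      ρ := ρ
      bk := bk
      hbk₀ := fun k => by
        rw [← htk k, ← CommRingCat.comp_apply, Scheme.Hom.appLE_comp_appLE]
        exact congrArg (fun φ => (CommRingCat.Hom.hom φ) (tk k))
          (appLE_congr_hom (T.pr_tr _).symm _ _ _) }
  obtain ⟨i, hi1, hi2⟩ := P.exists_shift F1 F2
  exact ⟨(P.shift i).rel hi1 hi2 hiso hb⟩

/-- **The induction step, in relative form.** -/
theorem nonempty_rel_of_cover (Y : Scheme.{u}) [QuasiSeparatedSpace Y] (T : Sys.{u})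
    (jU : T.c.pt ⟶ Y) [IsOpenImmersion jU] (V : Y.Opens) (hV : IsAffineOpen V)
    (hcov : jU.opensRange ⊔ V = ⊤) : Nonempty (Rel T Y jU) := by
  let Winf : T.c.pt.Opens := jU ⁻¹ᵁ V
  have hWinf : IsCompact (Winf : Set T.c.pt) :=
    QuasiCompact.isCompact_preimage (f := jU) _ V.isOpen hV.isCompact
  let ρ : Γ(Y, V) ⟶ Γ(T.c.pt, Winf) := jU.appLE V Winf le_rfl
  have hUV : IsCompact ((jU.opensRange ⊓ V : Y.Opens) : Set Y) :=
    QuasiSeparatedSpace.inter_isCompact _ _ jU.opensRange.isOpen (isCompact_range jU.continuous)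
      V.isOpen hV.isCompact
  obtain ⟨n, bk, hbk⟩ := exists_finite_basicOpen_cover hV (jU.opensRange ⊓ V) inf_le_right hUV
  have hle : ∀ k, Y.basicOpen (bk k) ≤ jU.opensRange := fun k =>
    ((le_iSup (fun k => Y.basicOpen (bk k)) k).trans hbk.ge).trans inf_le_left
  have hbo : ∀ k, T.c.pt.basicOpen (ρ.hom (bk k)) = jU ⁻¹ᵁ Y.basicOpen (bk k) := by
    intro k
    rw [basicOpen_appLE, inf_eq_right]
    exact Scheme.Hom.preimage_mono _ (Y.basicOpen_le _)
  have F1 : Winf ≤ ⨆ k, T.c.pt.basicOpen (ρ.hom (bk k)) := by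
    rw [iSup_congr hbo, ← Scheme.Hom.preimage_iSup, ← hbk]
    intro x hx
    exact ⟨⟨x, rfl⟩, hx⟩
  have F2 : ∀ k, IsAffineOpen (T.c.pt.basicOpen (ρ.hom (bk k))) := fun k => by
    rw [hbo]
    exact (hV.basicOpen (bk k)).preimage_of_isOpenImmersion jU (hle k)
  have hiso : ∀ k, Function.Bijective (Localization.awayMap ρ.hom (bk k)) := fun k => by
    refine awayMap_appLE_bijective jU V Winf le_rfl hV.isCompact (.of_quasiSeparatedSpace _)
      hWinf (.of_quasiSeparatedSpace _) (bk k) ?_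
    haveI := Scheme.Hom.isIso_app jU (Y.basicOpen (bk k)) (hle k)
    exact bijective_appLE_of_eq jU _ _ (hbo k)
  have hb : IsOpenImmersion (Winf.toSpecΓ ≫ Spec.map ρ) := by
    rw [Scheme.Opens.toSpecΓ_SpecMap_appLE]
    haveI : IsIso V.toSpecΓ := hV.isoSpec.isIso_hom
    haveI : IsOpenImmersion (jU ∣_ V) :=
      MorphismProperty.of_isPullback (P := @IsOpenImmersion) (isPullback_morphismRestrict jU V).flip
        inferInstance
    haveI : IsOpenImmersion (jU.resLE V Winf le_rfl) := by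
      delta Scheme.Hom.resLE
      infer_instance
    infer_instance
  obtain ⟨R⟩ := nonempty_rel_pushout T Winf hWinf _ ρ (Fin n) bk F1 F2 hiso hb
  have hpb : IsPullback Winf.ι (Winf.toSpecΓ ≫ Spec.map ρ) jU hV.fromSpec := by
    refine (IsOpenImmersion.isPullback (Winf.toSpecΓ ≫ Spec.map ρ) Winf.ι hV.fromSpec jU
      ?_ ?_).flip
    · rw [Scheme.Opens.toSpecΓ_SpecMap_appLE, Category.assoc, hV.toSpecΓ_fromSpec,
        Scheme.Hom.resLE_comp_ι]
    · rw [hV.opensRange_fromSpec, Scheme.Opens.opensRange_ι]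
  haveI := isIso_pushoutDesc Winf.ι (Winf.toSpecΓ ≫ Spec.map ρ) jU hV.fromSpec hpb (fun x => by
    have hx : x ∈ jU.opensRange ⊔ V := by rw [hcov]; trivial
    rcases hx with hx | hx
    · exact Or.inl hx
    · right
      have : x ∈ Set.range ⇑hV.fromSpec := by rw [hV.range_fromSpec]; exact hx
      exact this)
  exact ⟨R.ofIso (asIso (pushout.desc jU hV.fromSpec hpb.w)) (by
    rw [asIso_hom, pushout.inl_desc])⟩

end

end Groth.Agent.Lib.helper9.AbsApprox
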