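/-
Helper library (helper9): Noetherian approximation relative to a quasi-compact open, part 3.
Every approximation of a quasi-compact open `V` of a qcqs scheme `S` extends to a relative
approximation of `S`.
-/
import Groth.Agent.Lib.Helper9.RelApprox2

set_option autoImplicit false
set_option linter.style.haveILetI false
set_option backward.isDefEq.respectTransparency false

namespace Groth.Agent.Lib.helper9.AbsApprox

open AlgebraicGeometry CategoryTheory Limits Opposite

universe u

/-- In a cartesian square of open immersions, the preimage of the range is the range. -/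
theorem preimage_opensRange_of_isPullback {P X' X U : Scheme.{u}} {a : P ⟶ X'} {b : P ⟶ U}
    {c : X' ⟶ X} {d : U ⟶ X} [IsOpenImmersion a] [IsOpenImmersion d] (h : IsPullback a b c d) :
    c ⁻¹ᵁ d.opensRange = a.opensRange := by
  ext x
  constructor
  · rintro ⟨y, hy⟩
    obtain ⟨z, hz, -⟩ := Scheme.exists_preimage_of_isPullback h x y hy.symm
    exact ⟨z, hz⟩
  · rintro ⟨z, rfl⟩
    refine ⟨b z, ?_⟩
    rw [← Scheme.Hom.comp_apply, ← h.w, Scheme.Hom.comp_apply]

/-- **Noetherian approximation relative to a quasi-compact open.** -/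
theorem nonempty_rel_of_opens (S : Scheme.{u}) [CompactSpace S] [QuasiSeparatedSpace S]
    (V : S.Opens) (T : Sys.{u}) (eV : T.c.pt ≅ (V : Scheme.{u})) :
    Nonempty (Rel T S (eV.hom ≫ V.ι)) := by
  have key : Nonempty (Rel T ((V ⊔ (⊤ : S.Opens) : S.Opens) : Scheme.{u})
      (eV.hom ≫ S.homOfLE (le_sup_left : V ≤ V ⊔ ⊤))) := by
    refine compact_open_induction_on (P := fun U : S.Opens =>
      Nonempty (Rel T ((V ⊔ U : S.Opens) : Scheme.{u})
        (eV.hom ≫ S.homOfLE (le_sup_left : V ≤ V ⊔ U))))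
      (⊤ : S.Opens) isCompact_univ ?_ ?_
    · exact ⟨(Rel.refl T eV).ofIso (S.isoOfEq (sup_bot_eq V).symm) (by rw [Scheme.isoOfEq_hom])⟩
    · rintro U hU W ⟨R⟩
      let Y₂ : Scheme.{u} := (((V ⊔ U) ⊔ W.1 : S.Opens) : Scheme.{u})
      haveI : QuasiSeparatedSpace Y₂ :=
        (isQuasiSeparated_iff_quasiSeparatedSpace _ ((V ⊔ U) ⊔ W.1).2).mp
          (.of_quasiSeparatedSpace _)
      let jU : R.T'.c.pt ⟶ Y₂ :=
        R.e.hom ≫ S.homOfLE (le_sup_left : V ⊔ U ≤ (V ⊔ U) ⊔ W.1)
      obtain ⟨R₂⟩ := nonempty_rel_of_cover Y₂ R.T' jU (((V ⊔ U) ⊔ W.1).ι ⁻¹ᵁ W.1)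
        (by
          refine W.2.preimage_of_isOpenImmersion _ ?_
          rw [Scheme.Opens.opensRange_ι]
          exact le_sup_right)
        (by
          rw [Scheme.Hom.opensRange_comp_of_isIso, Scheme.opensRange_homOfLE,
            ← Scheme.Hom.preimage_sup, Scheme.Opens.ι_preimage_self])
      refine ⟨(R.comp R₂).ofIso (S.isoOfEq (sup_assoc V U W.1)) ?_⟩
      rw [Scheme.isoOfEq_hom]
      simp only [jU, Category.assoc, Iso.inv_hom_id_assoc, Scheme.homOfLE_homOfLE]
  obtain ⟨R⟩ := key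
  exact ⟨R.ofIso (S.isoOfEq (sup_top_eq V) ≪≫ S.topIso) (by
    rw [Iso.trans_hom, Scheme.isoOfEq_hom, Scheme.topIso_hom, Category.assoc,
      Scheme.homOfLE_ι, Scheme.homOfLE_ι])⟩

end Groth.Agent.Lib.helper9.AbsApprox
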