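import Mathlib

/-!
# helper9: gluing the separability idempotent along a regular pair (algebraic Hartogs)

`isIdempotentElem_of_pair`: in a ring `N` with a pair `y₁, y₂` such that `y₁` is a non-zero-divisor
on `N` and on `N ⧸ I`, and `y₂` is a non-zero-divisor on `N ⧸ y₁ N`, a finitely generated ideal `I`
whose cotangent module `I / I²` is killed by powers of `y₁` and of `y₂` is idempotent.
-/

set_option autoImplicit false

open Polynomial

namespace Groth.Agent.Lib.helper9.S2Unram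

variable {N : Type*} [CommRing N]

theorem cancel_pow (y₁ : N) (h1 : ∀ a : N, y₁ * a = 0 → a = 0) :
    ∀ (k : ℕ) (a b : N), y₁ ^ k * a = y₁ ^ k * b → a = b := by
  intro k
  induction k with
  | zero => intro a b h; simpa using h
  | succ k ih =>
    intro a b h
    apply ih
    have : y₁ * (y₁ ^ k * a - y₁ ^ k * b) = 0 := by
      rw [mul_sub, ← mul_assoc, ← mul_assoc, ← pow_succ', h, sub_self]
    exact sub_eq_zero.mp (h1 _ this)

theorem pow_div_one (y₁ y₂ : N) (h1 : ∀ a : N, y₁ * a = 0 → a = 0)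
    (h12 : ∀ a b : N, y₂ * a = y₁ * b → ∃ c, a = y₁ * c) :
    ∀ (k : ℕ) (a b : N), y₂ * a = y₁ ^ k * b → ∃ c, a = y₁ ^ k * c := by
  intro k
  induction k with
  | zero => intro a b _; exact ⟨a, by simp⟩
  | succ k ih =>
    intro a b h
    obtain ⟨a', ha'⟩ := h12 a (y₁ ^ k * b) (by rw [h, pow_succ']; ring)
    have h2 : y₂ * a' = y₁ ^ k * b := by
      have : y₁ * (y₂ * a' - y₁ ^ k * b) = 0 := by
        have e : y₁ * (y₂ * a') = y₂ * a := by rw [ha']; ring
        rw [mul_sub, e, h, pow_succ']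
        ring
      exact sub_eq_zero.mp (h1 _ this)
    obtain ⟨c, hc⟩ := ih a' b h2
    exact ⟨c, by rw [ha', hc, pow_succ']; ring⟩

theorem pow_div (y₁ y₂ : N) (h1 : ∀ a : N, y₁ * a = 0 → a = 0)
    (h12 : ∀ a b : N, y₂ * a = y₁ * b → ∃ c, a = y₁ * c) :
    ∀ (l k : ℕ) (a b : N), y₂ ^ l * a = y₁ ^ k * b → ∃ c, a = y₁ ^ k * c := by
  intro l
  induction l with
  | zero => intro k a b h; exact ⟨b, by simpa using h⟩
  | succ l ih =>
    intro k a b h
    obtain ⟨c', hc'⟩ := pow_div_one y₁ y₂ h1 h12 k (y₂ ^ l * a) b (by rw [← h, pow_succ']; ring)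
    exact ih k a c' hc'

/-- Determinant trick: if `y ^ n • I ⊆ I * I` for a finitely generated ideal `I`, then some
`y ^ k - α` with `α ∈ I` kills `I`. -/
theorem exists_pow_sub_mem_kill (y : N) (I : Ideal N) (hfg : I.FG) (n : ℕ)
    (ht : ∀ x ∈ I, y ^ n * x ∈ I * I) :
    ∃ (k : ℕ) (α : N), α ∈ I ∧ ∀ x ∈ I, y ^ k * x = α * x := by
  have : Module.Finite N I := Module.Finite.iff_fg.mpr hfg
  let f : Module.End N I := algebraMap N (Module.End N I) (y ^ n)
  have hrange : LinearMap.range f ≤ I • (⊤ : Submodule N I) := by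
    rintro _ ⟨x, rfl⟩
    rw [Submodule.mem_smul_top_iff]
    change ((y ^ n) • x : I).1 ∈ I • I
    exact ht x.1 x.2
  obtain ⟨p, hp, -, hcoeff, hpf⟩ :=
    LinearMap.exists_monic_and_natDegree_eq_and_coeff_mem_pow_and_aeval_eq_zero N f I hrange
  have hpf' : ∀ x : I, (p.eval (y ^ n)) • x = 0 := by
    intro x
    have h1 : Polynomial.aeval f p = algebraMap N (Module.End N I) (p.eval (y ^ n)) := by
      rw [Polynomial.aeval_algebraMap_apply, Polynomial.coe_aeval_eq_eval]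
    have h2 := LinearMap.congr_fun hpf x
    rw [h1] at h2
    exact h2
  set d := p.natDegree with hd
  have heval : p.eval (y ^ n) = (∑ i ∈ Finset.range d, p.coeff i * (y ^ n) ^ i) + (y ^ n) ^ d := by
    rw [Polynomial.eval_eq_sum_range, Finset.sum_range_succ, ← hd, hp.coeff_natDegree, one_mul]
  have hα : (∑ i ∈ Finset.range d, p.coeff i * (y ^ n) ^ i) ∈ I := by
    refine I.sum_mem fun i hi => I.mul_mem_right _ ?_
    have hi' : i < d := Finset.mem_range.mp hi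
    exact Ideal.pow_le_self (by omega) (hcoeff i)
  refine ⟨n * d, -(∑ i ∈ Finset.range d, p.coeff i * (y ^ n) ^ i), I.neg_mem hα, fun x hx => ?_⟩
  have h3 := congrArg Subtype.val (hpf' ⟨x, hx⟩)
  change p.eval (y ^ n) * x = 0 at h3
  rw [heval, add_mul] at h3
  rw [pow_mul, neg_mul]
  exact eq_neg_of_add_eq_zero_right h3

/-- **Algebraic Hartogs for idempotent ideals.** -/
theorem isIdempotentElem_of_pair (y₁ y₂ : N) (h1 : ∀ a : N, y₁ * a = 0 → a = 0)
    (h12 : ∀ a b : N, y₂ * a = y₁ * b → ∃ c, a = y₁ * c)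
    (I : Ideal N) (hfg : I.FG) (h3 : ∀ c : N, y₁ * c ∈ I → c ∈ I) (n : ℕ)
    (ht1 : ∀ x ∈ I, y₁ ^ n * x ∈ I * I) (ht2 : ∀ x ∈ I, y₂ ^ n * x ∈ I * I) :
    IsIdempotentElem I := by
  obtain ⟨k₁, α₁, hα₁, hk₁⟩ := exists_pow_sub_mem_kill y₁ I hfg n ht1
  obtain ⟨k₂, α₂, hα₂, hk₂⟩ := exists_pow_sub_mem_kill y₂ I hfg n ht2
  have e : y₂ ^ k₂ * α₁ = y₁ ^ k₁ * α₂ := by
    rw [hk₂ α₁ hα₁, hk₁ α₂ hα₂, mul_comm]
  obtain ⟨c, hc⟩ := pow_div y₁ y₂ h1 h12 k₂ k₁ α₁ α₂ e
  have h3' : ∀ (k : ℕ) (c : N), y₁ ^ k * c ∈ I → c ∈ I := by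
    intro k
    induction k with
    | zero => intro c h; simpa using h
    | succ k ih =>
      intro c h
      apply ih
      apply h3
      rwa [← mul_assoc, ← pow_succ']
  have hcI : c ∈ I := h3' k₁ c (hc ▸ hα₁)
  have hx : ∀ x ∈ I, x = c * x := by
    intro x hx
    apply cancel_pow y₁ h1 k₁
    rw [hk₁ x hx, hc, mul_assoc]
  refine le_antisymm Ideal.mul_le_left fun x hxI => ?_
  rw [hx x hxI]
  exact Ideal.mul_mem_mul hcI hxI

end Groth.Agent.Lib.helper9.S2Unram
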