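import Mathlib
import Groth.Agent.Lib.Helper9.S2Unram1

/-!
# helper9: a finite flat algebra over a Noetherian ring which is unramified away from primes of
depth at least two is unramified.
-/

set_option autoImplicit false
set_option linter.style.haveILetI false

universe u

open RingTheory.Sequence TensorProduct IsLocalRing

namespace Groth.Agent.Lib.helper9.S2Unram

theorem regular_pair_elementwise {N : Type*} [CommRing N] (Y₁ Y₂ : N)
    (h : IsWeaklyRegular N [Y₁, Y₂]) :
    (∀ a : N, Y₁ * a = 0 → a = 0) ∧ (∀ a b : N, Y₂ * a = Y₁ * b → ∃ c, a = Y₁ * c) := by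
  rw [isWeaklyRegular_cons_iff, isWeaklyRegular_cons_iff] at h
  obtain ⟨h1, h2, -⟩ := h
  constructor
  · intro a ha
    exact (isSMulRegular_iff_right_eq_zero_of_smul.mp h1) a ha
  · intro a b hab
    have : Y₂ • (Submodule.Quotient.mk a : QuotSMulTop Y₁ N) = 0 := by
      rw [← Submodule.Quotient.mk_smul, Submodule.Quotient.mk_eq_zero, smul_eq_mul, hab]
      exact Submodule.smul_mem_pointwise_smul _ _ _ trivial
    have h0 := (isSMulRegular_iff_right_eq_zero_of_smul.mp h2) _ this
    rw [Submodule.Quotient.mk_eq_zero] at h0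
    obtain ⟨c, -, hc⟩ := (Submodule.mem_smul_pointwise_iff_exists _ _ _).mp h0
    exact ⟨c, hc.symm⟩

/-- Uniform exponent for a finite module. -/
theorem exists_pow_smul_eq_zero_uniform {R M : Type*} [CommRing R] [AddCommGroup M] [Module R M]
    [Module.Finite R M] (g : R) (h : ∀ m : M, ∃ n : ℕ, g ^ n • m = 0) :
    ∃ n : ℕ, ∀ m : M, g ^ n • m = 0 := by
  classical
  obtain ⟨s, hs⟩ := (Module.Finite.fg_top : (⊤ : Submodule R M).FG)
  choose e he using h
  refine ⟨s.sup e, fun m => ?_⟩
  have hm : m ∈ Submodule.span R (s : Set M) := by rw [hs]; trivial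
  induction hm using Submodule.span_induction with
  | mem x hx =>
    have hle : e x ≤ s.sup e := Finset.le_sup hx
    obtain ⟨k, hk⟩ := Nat.exists_eq_add_of_le hle
    rw [hk, pow_add, mul_comm, mul_smul, he x, smul_zero]
  | zero => exact smul_zero _
  | add x y _ _ hx hy => rw [smul_add, hx, hy, add_zero]
  | smul a x _ hx => rw [smul_comm, hx, smul_zero]

/-- The local step: over a local ring with a regular pair in the maximal ideal, a finite flat
algebra whose differentials are killed by a power of the maximal ideal is unramified. -/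
theorem subsingleton_kaehler_of_regular_pair {A B : Type u} [CommRing A] [CommRing B] [Algebra A B]
    [Module.Flat A B] [Algebra.FiniteType A B]
    (y₁ y₂ : A) (hreg : IsWeaklyRegular A [y₁, y₂]) (n : ℕ)
    (h1 : ∀ ω : Ω[B⁄A], y₁ ^ n • ω = 0) (h2 : ∀ ω : Ω[B⁄A], y₂ ^ n • ω = 0) :
    Subsingleton Ω[B⁄A] := by
  let N := B ⊗[A] B
  let I : Ideal N := KaehlerDifferential.ideal A B
  have hN : IsWeaklyRegular N ([y₁, y₂].map (algebraMap A N)) := hreg.of_flat
  obtain ⟨hr1, hr12⟩ := regular_pair_elementwise (algebraMap A N y₁) (algebraMap A N y₂) hN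
  have hB : IsSMulRegular B (algebraMap A B y₁) := by
    have := hreg.of_flat (S := B)
    rw [List.map_cons, isWeaklyRegular_cons_iff] at this
    exact this.1
  have h3 : ∀ c : N, algebraMap A N y₁ * c ∈ I → c ∈ I := by
    intro c hc
    change Algebra.TensorProduct.lmul' A (algebraMap A N y₁ * c) = 0 at hc
    change Algebra.TensorProduct.lmul' A c = 0
    rw [map_mul, AlgHom.commutes] at hc
    exact (isSMulRegular_iff_right_eq_zero_of_smul.mp hB) _ hc
  have ht : ∀ y : A, (∀ ω : Ω[B⁄A], y ^ n • ω = 0) →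
      ∀ x ∈ I, (algebraMap A N y) ^ n * x ∈ I * I := by
    intro y hy x hx
    have e1 : I.toCotangent ⟨(algebraMap A N y) ^ n * x, I.mul_mem_left _ hx⟩ =
        y ^ n • I.toCotangent ⟨x, hx⟩ := by
      rw [← map_pow, ← algebraMap_smul N (y ^ n) (I.toCotangent ⟨x, hx⟩), ← map_smul]
      rfl
    have e2 : I.toCotangent ⟨(algebraMap A N y) ^ n * x, I.mul_mem_left _ hx⟩ = 0 := by
      rw [e1]; exact hy _
    rw [Ideal.toCotangent_eq_zero, sq] at e2
    exact e2
  have hidem : IsIdempotentElem I :=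
    isIdempotentElem_of_pair (algebraMap A N y₁) (algebraMap A N y₂) hr1 hr12 I
      (KaehlerDifferential.ideal_fg A B) h3 n (ht y₁ h1) (ht y₂ h2)
  exact (Ideal.cotangent_subsingleton_iff I).mpr hidem

/-- **Core.** A finite flat algebra over a Noetherian ring is formally unramified as soon as at each
prime either the differentials vanish nearby or the local ring has a regular pair. -/
theorem formallyUnramified_of_regular_pairs {A₀ B₀ : Type u} [CommRing A₀] [IsNoetherianRing A₀]
    [CommRing B₀] [Algebra A₀ B₀] [Module.Finite A₀ B₀] [Module.Flat A₀ B₀]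
    (H : ∀ (p : Ideal A₀) [p.IsPrime],
        (∃ g : A₀, g ∉ p ∧ ∀ ω : Ω[B₀⁄A₀], ∃ n : ℕ, g ^ n • ω = 0) ∨
        (∃ y₁ y₂ : Localization.AtPrime p, y₁ ∈ maximalIdeal (Localization.AtPrime p) ∧
          y₂ ∈ maximalIdeal (Localization.AtPrime p) ∧
          IsWeaklyRegular (Localization.AtPrime p) [y₁, y₂])) :
    Algebra.FormallyUnramified A₀ B₀ := by
  rw [Algebra.formallyUnramified_iff]
  by_contra hns
  have hfin : Module.Finite A₀ Ω[B₀⁄A₀] := Module.Finite.trans B₀ _
  set J := Module.annihilator A₀ Ω[B₀⁄A₀] with hJdef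
  have hJ : J ≠ ⊤ := by
    intro h
    apply hns
    exact Module.annihilator_eq_top_iff.mp h
  obtain ⟨p, hp⟩ := Ideal.nonempty_minimalPrimes hJ
  haveI hpP : p.IsPrime := hp.1.1
  have hJp : J ≤ p := hp.1.2
  rcases H p with ⟨g, hgp, hg⟩ | ⟨y₁, y₂, hy₁, hy₂, hreg⟩
  · obtain ⟨n, hn⟩ := exists_pow_smul_eq_zero_uniform g hg
    exact hgp (hpP.mem_of_pow_mem n (hJp (Module.mem_annihilator.mpr hn)))
  · let A := Localization.AtPrime p
    let B := A ⊗[A₀] B₀
    have hrad : (J.map (algebraMap A₀ A)).radical = maximalIdeal A := by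
      rw [IsLocalization.AtPrime.radical_map_of_mem_minimalPrimes (A := A) p J hp,
        Localization.AtPrime.map_eq_maximalIdeal]
    obtain ⟨n, hn⟩ := Ideal.exists_pow_le_of_le_radical_of_fg hrad.ge (IsNoetherian.noetherian _)
    have hkill : ∀ z ∈ J.map (algebraMap A₀ A), ∀ t : A ⊗[A₀] Ω[B₀⁄A₀], z • t = 0 := by
      intro z hz
      have : J.map (algebraMap A₀ A) ≤ Module.annihilator A (A ⊗[A₀] Ω[B₀⁄A₀]) := by
        rw [Ideal.map_le_iff_le_comap]
        intro j hj
        rw [Ideal.mem_comap, Module.mem_annihilator]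
        intro t
        induction t with
        | zero => exact smul_zero _
        | add x y hx hy => rw [smul_add, hx, hy, add_zero]
        | tmul a ω =>
          rw [algebraMap_smul, ← TensorProduct.tmul_smul, Module.mem_annihilator.mp hj ω, tmul_zero]
      exact fun t => Module.mem_annihilator.mp (this hz) t
    letI : Algebra B₀ B := Algebra.TensorProduct.rightAlgebra
    let e := KaehlerDifferential.tensorKaehlerEquivBase A₀ A B₀ B
    have hkillΩ : ∀ y ∈ maximalIdeal A, ∀ ω : Ω[B⁄A], y ^ n • ω = 0 := by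
      intro y hy ω
      obtain ⟨t, rfl⟩ := e.surjective ω
      rw [← map_smul, hkill _ (hn (Ideal.pow_mem_pow hy n)) t, map_zero]
    have hsub : Subsingleton Ω[B⁄A] :=
      subsingleton_kaehler_of_regular_pair y₁ y₂ hreg n (hkillΩ y₁ hy₁) (hkillΩ y₂ hy₂)
    have hsub2 : Subsingleton (A ⊗[A₀] Ω[B₀⁄A₀]) := e.toEquiv.subsingleton
    have hsupp : (⟨p, hpP⟩ : PrimeSpectrum A₀) ∈ Module.support A₀ Ω[B₀⁄A₀] := by
      rw [Module.mem_support_iff_of_finite]; exact hJp
    rw [Module.mem_support_iff] at hsupp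
    have : Subsingleton (LocalizedModule p.primeCompl Ω[B₀⁄A₀]) :=
      (LocalizedModule.equivTensorProduct p.primeCompl Ω[B₀⁄A₀]).toEquiv.subsingleton
    exact not_subsingleton _ this

end Groth.Agent.Lib.helper9.S2Unram
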