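import Mathlib
import Groth.Agent.Lib.Helper9.S2Unram2
import Groth.Agent.Lib.Helper24.Hartshorne

/-!
# helper9: geometric input for the S2 purity statement for finite flat morphisms
-/

set_option autoImplicit false
set_option linter.style.haveILetI false
set_option backward.isDefEq.respectTransparency false

universe u

open CategoryTheory AlgebraicGeometry Opposite TopologicalSpace

namespace Groth.Agent.Lib.helper9.S2Unram

/-- If a localization `Bg = B₀[1/b]` is formally unramified over `A₀`, the differentials of `B₀`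
over `A₀` are `b`-power torsion. -/
theorem exists_pow_smul_eq_zero_of_away {A₀ B₀ Bg : Type u} [CommRing A₀] [CommRing B₀]
    [CommRing Bg] [Algebra A₀ B₀] [Algebra B₀ Bg] [Algebra A₀ Bg] [IsScalarTower A₀ B₀ Bg]
    (b : B₀) [IsLocalization.Away b Bg] [Algebra.FormallyUnramified A₀ Bg] (ω : Ω[B₀⁄A₀]) :
    ∃ n : ℕ, b ^ n • ω = 0 := by
  have := KaehlerDifferential.isLocalizedModule_map (R := A₀) (S := B₀) (T := Bg)
    (Submonoid.powers b)
  have h0 : KaehlerDifferential.map A₀ A₀ B₀ Bg ω = 0 := Subsingleton.elim _ _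
  obtain ⟨⟨c, n, rfl⟩, hc⟩ := (IsLocalizedModule.eq_zero_iff (Submonoid.powers b) _).mp h0
  exact ⟨n, hc⟩

/-- Sections over a basic open inside `U`: the ring map is formally unramified. -/
theorem formallyUnramified_appLE_basicOpen {X Y : Scheme.{u}} (π : Y ⟶ X) (U : X.Opens)
    [FormallyUnramified (π ∣_ U)] {V : X.Opens} (hV : IsAffineOpen V) {E : Y.Opens}
    (hE : IsAffineOpen E) (g : Γ(X, V)) (hgU : X.basicOpen g ≤ U)
    (e : E ≤ π ⁻¹ᵁ V) (e' : E ≤ π ⁻¹ᵁ X.basicOpen g) :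
    (π.appLE V E e).hom.FormallyUnramified := by
  have hD : IsAffineOpen (X.basicOpen g) := hV.basicOpen g
  have hEU : E ≤ π ⁻¹ᵁ U := e'.trans (π.preimage_mono hgU)
  -- step 1
  have e₁ : U.ι ''ᵁ (U.ι ⁻¹ᵁ X.basicOpen g) = X.basicOpen g := by
    rw [Scheme.Hom.image_preimage_eq_opensRange_inf, Scheme.Opens.opensRange_ι,
      inf_eq_right.mpr hgU]
  have e₂ : (π ⁻¹ᵁ U).ι ''ᵁ ((π ⁻¹ᵁ U).ι ⁻¹ᵁ E) = E := by
    rw [Scheme.Hom.image_preimage_eq_opensRange_inf, Scheme.Opens.opensRange_ι,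
      inf_eq_right.mpr hEU]
  have hV' : IsAffineOpen (U.ι ⁻¹ᵁ X.basicOpen g) :=
    hD.preimage_of_isOpenImmersion U.ι (by rw [Scheme.Opens.opensRange_ι]; exact hgU)
  have hW' : IsAffineOpen ((π ⁻¹ᵁ U).ι ⁻¹ᵁ E) :=
    hE.preimage_of_isOpenImmersion (π ⁻¹ᵁ U).ι (by rw [Scheme.Opens.opensRange_ι]; exact hEU)
  have eVW : (π ⁻¹ᵁ U).ι ⁻¹ᵁ E ≤ (π ∣_ U) ⁻¹ᵁ (U.ι ⁻¹ᵁ X.basicOpen g) := by
    intro y hy
    have h1 : (π ⁻¹ᵁ U).ι y ∈ π ⁻¹ᵁ X.basicOpen g := e' hy
    have h2 : U.ι ((π ∣_ U) y) = π ((π ⁻¹ᵁ U).ι y) := by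
      rw [← Scheme.Hom.comp_apply, morphismRestrict_ι, Scheme.Hom.comp_apply]
    change U.ι ((π ∣_ U) y) ∈ X.basicOpen g
    rw [h2]
    exact h1
  have h := HasRingHomProperty.appLE (P := @FormallyUnramified) (f := π ∣_ U) inferInstance
    ⟨_, hV'⟩ ⟨_, hW'⟩ eVW
  rw [morphismRestrict_appLE] at h
  have h2 : (π.appLE (X.basicOpen g) E e').hom.FormallyUnramified :=
    (Scheme.Hom.appLE_congr π _ e₁ e₂ (fun φ => φ.hom.FormallyUnramified)).mp h
  -- step 2
  have hle : X.basicOpen g ≤ V := X.basicOpen_le g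
  have h3 : π.appLE V E e = X.presheaf.map (homOfLE hle).op ≫ π.appLE (X.basicOpen g) E e' := by
    rw [Scheme.Hom.map_appLE]
  rw [h3, CommRingCat.hom_comp]
  refine RingHom.FormallyUnramified.stableUnderComposition _ _ ?_ h2
  haveI := hV.isLocalization_basicOpen g
  exact RingHom.FormallyUnramified.holdsForLocalizationAway _ g

/-- Transport of a regular pair in the maximal ideal along a ring isomorphism of local rings. -/
theorem regular_pair_of_ringEquiv {R R' : Type u} [CommRing R] [CommRing R'] [IsLocalRing R]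
    [IsLocalRing R'] (ψ : R ≃+* R') (rs : List R) (hlen : rs.length = 2)
    (hmem : ∀ r ∈ rs, r ∈ IsLocalRing.maximalIdeal R)
    (hreg : RingTheory.Sequence.IsWeaklyRegular R rs) :
    ∃ y₁ y₂ : R', y₁ ∈ IsLocalRing.maximalIdeal R' ∧ y₂ ∈ IsLocalRing.maximalIdeal R' ∧
      RingTheory.Sequence.IsWeaklyRegular R' [y₁, y₂] := by
  obtain ⟨a, b, rfl⟩ := List.length_eq_two.mp hlen
  have hm : ∀ r : R, r ∈ IsLocalRing.maximalIdeal R → ψ r ∈ IsLocalRing.maximalIdeal R' := by
    intro r hr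
    rw [IsLocalRing.mem_maximalIdeal, mem_nonunits_iff] at hr ⊢
    intro hu
    apply hr
    have := hu.map ψ.symm
    rwa [RingEquiv.symm_apply_apply] at this
  refine ⟨ψ a, ψ b, hm a (hmem a (by simp)), hm b (hmem b (by simp)), ?_⟩
  refine (AddEquiv.isWeaklyRegular_congr (e := ψ.toAddEquiv) ?_).mp hreg
  exact List.Forall₂.cons (fun x => map_mul ψ a x)
    (List.Forall₂.cons (fun x => map_mul ψ b x) List.Forall₂.nil)

/-- The affine-local statement: sections over an affine open form a formally unramified map. -/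
theorem formallyUnramified_app_of_depth {X Y : Scheme.{u}} [IsLocallyNoetherian X] (U : X.Opens)
    (hU : ∀ x : X, x ∉ U → (2 : ℕ∞) ≤ LocCoh.depth (X.presheaf.stalk x) (X.presheaf.stalk x))
    (π : Y ⟶ X) [IsFinite π] [Flat π] [FormallyUnramified (π ∣_ U)] {V : X.Opens}
    (hV : IsAffineOpen V) : (π.app V).hom.FormallyUnramified := by
  letI : Algebra Γ(X, V) Γ(Y, π ⁻¹ᵁ V) := (π.app V).hom.toAlgebra
  haveI : IsNoetherianRing Γ(X, V) := IsLocallyNoetherian.component_noetherian ⟨V, hV⟩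
  haveI : Module.Finite Γ(X, V) Γ(Y, π ⁻¹ᵁ V) := π.finite_app V hV
  have hV' : IsAffineOpen (π ⁻¹ᵁ V) := hV.preimage π
  haveI : Module.Flat Γ(X, V) Γ(Y, π ⁻¹ᵁ V) := by
    have := π.flat_appLE hV hV' le_rfl
    rw [Scheme.Hom.appLE_eq_app] at this
    exact this
  change Algebra.FormallyUnramified Γ(X, V) Γ(Y, π ⁻¹ᵁ V)
  apply formallyUnramified_of_regular_pairs
  intro p hp
  let q : Spec Γ(X, V) := ⟨p, hp⟩
  let x : X := hV.fromSpec q
  have hxV : x ∈ V := by
    have : x ∈ hV.fromSpec.opensRange := ⟨q, rfl⟩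
    rwa [hV.opensRange_fromSpec] at this
  have hq : hV.primeIdealOf ⟨x, hxV⟩ = q := by
    apply hV.fromSpec.isOpenEmbedding.injective
    exact hV.fromSpec_primeIdealOf ⟨x, hxV⟩
  by_cases hxU : x ∈ U
  · left
    obtain ⟨g, hgU, hxg⟩ := hV.exists_basicOpen_le ⟨x, hxU⟩ hxV
    refine ⟨g, ?_, fun ω => ?_⟩
    · have h1 : q ∈ hV.fromSpec ⁻¹ᵁ X.basicOpen g := hxg
      rw [hV.fromSpec_preimage_basicOpen] at h1
      exact h1
    · let b : Γ(Y, π ⁻¹ᵁ V) := (π.app V).hom g
      have hE : IsAffineOpen (Y.basicOpen b) := hV'.basicOpen b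
      have e : Y.basicOpen b ≤ π ⁻¹ᵁ V := Y.basicOpen_le b
      have e' : Y.basicOpen b ≤ π ⁻¹ᵁ X.basicOpen g := by
        rw [Scheme.preimage_basicOpen]
      letI : Algebra Γ(X, V) Γ(Y, Y.basicOpen b) := (π.appLE V (Y.basicOpen b) e).hom.toAlgebra
      haveI : IsScalarTower Γ(X, V) Γ(Y, π ⁻¹ᵁ V) Γ(Y, Y.basicOpen b) :=
        IsScalarTower.of_algebraMap_eq' rfl
      haveI : IsLocalization.Away b Γ(Y, Y.basicOpen b) := hV'.isLocalization_basicOpen b
      haveI : Algebra.FormallyUnramified Γ(X, V) Γ(Y, Y.basicOpen b) :=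
        formallyUnramified_appLE_basicOpen π U hV hE g hgU e e'
      obtain ⟨n, hn⟩ := exists_pow_smul_eq_zero_of_away (A₀ := Γ(X, V)) (Bg := Γ(Y, Y.basicOpen b)) b ω
      refine ⟨n, ?_⟩
      rw [← hn, ← algebraMap_smul Γ(Y, π ⁻¹ᵁ V) (g ^ n) ω, map_pow]
      rfl
  · right
    have hd := hU x hxU
    obtain ⟨rs, hlen, hmem, hreg⟩ :=
      Groth.Agent.Lib.Helper24.Hartshorne.hasSeq_of_le_depth (X.presheaf.stalk x) 2 hd
    letI := X.presheaf.algebra_section_stalk ⟨x, hxV⟩
    haveI hloc : IsLocalization.AtPrime (X.presheaf.stalk x) p := by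
      have := hV.isLocalization_stalk ⟨x, hxV⟩
      rw [hq] at this
      exact this
    let ψ : X.presheaf.stalk x ≃+* Localization.AtPrime p :=
      (IsLocalization.algEquiv p.primeCompl (X.presheaf.stalk x)
        (Localization.AtPrime p)).toRingEquiv
    exact regular_pair_of_ringEquiv ψ rs hlen hmem hreg

/-- A finite flat morphism to a locally Noetherian scheme which is unramified over an open `U`
outside of which the local rings have depth at least two is formally unramified. -/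
theorem formallyUnramified_of_depth {X Y : Scheme.{u}} [IsLocallyNoetherian X] (U : X.Opens)
    (hU : ∀ x : X, x ∉ U → (2 : ℕ∞) ≤ LocCoh.depth (X.presheaf.stalk x) (X.presheaf.stalk x))
    (π : Y ⟶ X) [IsFinite π] [Flat π] [FormallyUnramified (π ∣_ U)] : FormallyUnramified π := by
  rw [HasRingHomProperty.iff_appLE (P := @FormallyUnramified)]
  intro V W e
  have h1 := formallyUnramified_app_of_depth U hU π V.2
  have hV' : IsAffineOpen (π ⁻¹ᵁ V.1) := V.2.preimage π
  have h2 := HasRingHomProperty.appLE (P := @FormallyUnramified) (f := 𝟙 Y) inferInstance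
    ⟨_, hV'⟩ W e
  have h3 : π.appLE V.1 W.1 e = π.app V.1 ≫ Scheme.Hom.appLE (𝟙 Y) (π ⁻¹ᵁ V.1) W.1 e := by
    simp [Scheme.Hom.appLE]
  rw [h3, CommRingCat.hom_comp]
  exact RingHom.FormallyUnramified.stableUnderComposition _ _ h1 h2

/-- The étale version, in the form of the milestone. -/
theorem etale_of_flat_of_depth {X Y : Scheme.{u}} [IsLocallyNoetherian X] (U : X.Opens)
    (hU : ∀ x : X, x ∉ U → (2 : ℕ∞) ≤ LocCoh.depth (X.presheaf.stalk x) (X.presheaf.stalk x))
    (π : Y ⟶ X) [IsFinite π] [Flat π] [Etale (Limits.pullback.snd π U.ι)] : Etale π := by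
  haveI : Etale (π ∣_ U) := by
    have h := pullbackRestrictIsoRestrict_hom_morphismRestrict π U
    have : Etale ((pullbackRestrictIsoRestrict π U).hom ≫ π ∣_ U) := by rw [h]; infer_instance
    exact (MorphismProperty.cancel_left_of_respectsIso @Etale
      (pullbackRestrictIsoRestrict π U).hom (π ∣_ U)).mp this
  haveI : FormallyUnramified π := formallyUnramified_of_depth U hU π
  exact Etale.of_formallyUnramified_of_flat π

end Groth.Agent.Lib.helper9.S2Unram
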