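import Mathlib
import Groth.Agent.Lib.Helper9.GUSmoothGeom
import Groth.Agent.Lib.Helper14.GUBirat1
import Groth.Agent.Lib.Helper1.BranchCount
import Groth.Prelude.Def_EGA4b

/-!
# Irreducible components through a point of a smooth scheme over a base with geometrically
unibranch branches (helper9)

`encard_components_le_of_smooth`: for a smooth morphism `f : Y ⟶ X` and `y : Y`, if every quotient
`O_{X, f y} / p` by a minimal prime is geometrically unibranch, then the number of irreducible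
components of `Y` through `y` is at most the number of minimal primes of `O_{X, f y}`.
-/

set_option autoImplicit false
set_option linter.style.haveILetI false
set_option backward.isDefEq.respectTransparency false

universe u

namespace Groth.Agent.Lib.helper9.SmBranch

open AlgebraicGeometry CategoryTheory Limits
open Groth.Agent.Lib.helper9.UnramCore Groth.Agent.Lib.helper9.UnramGeom

section Top

variable {Y : Scheme.{u}}

/-- A point specializing to the generic point of an irreducible component is that generic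
point. -/
theorem eq_of_specializes_genericPoint {T : Set Y} (hT : T ∈ irreducibleComponents Y) {ξ ξ' : Y}
    (hξ : IsGenericPoint ξ T) (h : ξ' ⤳ ξ) : ξ' = ξ := by
  have h1 : T ⊆ closure {ξ'} := by
    rw [← hξ.def]
    exact specializes_iff_closure_subset.1 h
  have h2 : closure {ξ'} = T := le_antisymm (hT.2 isIrreducible_singleton.closure h1) h1
  have h3 : closure {ξ'} = closure {ξ} := h2.trans hξ.def.symm
  exact (inseparable_iff_closure_eq.2 h3).eq

/-- A flat morphism maps generic points of irreducible components to maximal points. -/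
theorem eq_of_specializes_map_genericPoint {X : Scheme.{u}} (f : Y ⟶ X) [Flat f] {T : Set Y}
    (hT : T ∈ irreducibleComponents Y) {ξ : Y} (hξ : IsGenericPoint ξ T) {η : X}
    (h : η ⤳ f ξ) : η = f ξ := by
  obtain ⟨ξ', hξ', rfl⟩ := Flat.generalizingMap f h
  rw [eq_of_specializes_genericPoint hT hξ hξ']

end Top

section Key

variable {X Y : Scheme.{u}}

/-- Over a minimal prime `p` of `O_{X, f y}` with `O_{X, f y} / p` geometrically unibranch there is
at most one generic point of an irreducible component of `Y` through `y`. -/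
theorem exists_unique_genericPoint_over (f : Y ⟶ X) [Smooth f] (y : Y)
    (p : Ideal (X.presheaf.stalk (f y))) [hp : p.IsPrime]
    (hGU : CAlg2.IsGeomUnibranch ((X.presheaf.stalk (f y)) ⧸ p)) :
    ∃ ξ₀ : Y, ∀ T ∈ irreducibleComponents Y, y ∈ T → ∀ ξ, IsGenericPoint ξ T →
      f ξ = X.fromSpecStalk (f y) (⟨p, hp⟩ : PrimeSpectrum (X.presheaf.stalk (f y))) → ξ = ξ₀ := by
  let Ab : CommRingCat.{u} := CommRingCat.of ((X.presheaf.stalk (f y)) ⧸ p)
  let π : X.presheaf.stalk (f y) ⟶ Ab := CommRingCat.ofHom (Ideal.Quotient.mk p)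
  let g : Spec Ab ⟶ X := Spec.map π ≫ X.fromSpecStalk (f y)
  haveI : IsClosedImmersion (Spec.map π) :=
    IsClosedImmersion.spec_of_surjective π Ideal.Quotient.mk_surjective
  haveI : IsPreimmersion g := inferInstance
  -- the closed point
  let c : Spec Ab := IsLocalRing.closedPoint ((X.presheaf.stalk (f y)) ⧸ p)
  have hgc : g c = f y := by
    show (Spec.map π ≫ X.fromSpecStalk (f y)) c = f y
    rw [Scheme.Hom.comp_apply]
    have h1 : Spec.map π c = IsLocalRing.closedPoint (X.presheaf.stalk (f y)) := by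
      haveI : IsLocalHom π.hom :=
        IsLocalHom.of_surjective _ Ideal.Quotient.mk_surjective
      exact IsLocalRing.comap_closedPoint π.hom
    rw [h1]
    exact Scheme.fromSpecStalk_closedPoint
  -- the generic point
  let γ : Spec Ab := (⟨⊥, Ideal.isPrime_bot⟩ : PrimeSpectrum ((X.presheaf.stalk (f y)) ⧸ p))
  have hgγ : g γ = X.fromSpecStalk (f y)
      (⟨p, hp⟩ : PrimeSpectrum (X.presheaf.stalk (f y))) := by
    show (Spec.map π ≫ X.fromSpecStalk (f y)) γ = _
    rw [Scheme.Hom.comp_apply]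
    congr 1
    apply PrimeSpectrum.ext
    show Ideal.comap (Ideal.Quotient.mk p) ⊥ = p
    rw [← RingHom.ker_eq_comap_bot, Ideal.mk_ker]
  -- the point of the pullback over `y` and the closed point
  obtain ⟨yp, hyp1, hyp2⟩ :=
    Scheme.Pullback.exists_preimage_pullback (f := f) (g := g) y c hgc.symm
  haveI : Smooth (pullback.snd f g) := inferInstance
  have hGU' : CAlg2.IsGeomUnibranch ((Spec Ab).presheaf.stalk (pullback.snd f g yp)) := by
    have h1 : ∀ (z : Spec Ab), z = c → CAlg2.IsGeomUnibranch ((Spec Ab).presheaf.stalk z) := by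
      intro z hz
      subst hz
      exact Groth.Agent.Lib.Helper14.GUBirat.isGeomUnibranch_of_ringEquiv
        (stalkClosedPointIso Ab).commRingCatIsoToRingEquiv.symm hGU
    exact h1 _ hyp2
  have hnil := nilradical_isPrime_stalk_of_smooth (pullback.snd f g) yp
    (euLocRedSm_of_isGeomUnibranch _ hGU')
  obtain ⟨T₀, hT₀, huniq⟩ :=
    existsUnique_irreducibleComponent_of_nilradical_isPrime (pullback f g) yp hnil
  obtain ⟨ζ, hζ⟩ := QuasiSober.sober hT₀.1.1 (isClosed_of_mem_irreducibleComponents T₀ hT₀.1)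
  refine ⟨pullback.fst f g ζ, ?_⟩
  intro T hT hyT ξ hξ hfξ
  obtain ⟨ξp, hξp1, hξp2⟩ :=
    Scheme.Pullback.exists_preimage_pullback (f := f) (g := g) ξ γ (hfξ.trans hgγ.symm)
  have hemb := (pullback.fst f g).isEmbedding
  have hξy : ξ ⤳ y := hξ.specializes hyT
  have h1 : ξp ⤳ yp := by
    rw [← hemb.toIsInducing.specializes_iff, hξp1, hyp1]
    exact hξy
  have h2 : ξp ∈ T₀ := by
    obtain ⟨T', hT', hsub⟩ := exists_mem_irreducibleComponents_subset_of_isIrreducible
      (closure {ξp}) isIrreducible_singleton.closure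
    have h3 : yp ∈ T' := hsub (specializes_iff_mem_closure.1 h1)
    have h4 : T' = T₀ := huniq T' ⟨hT', h3⟩
    exact h4 ▸ hsub (subset_closure rfl)
  have h3 : ζ ⤳ ξp := hζ.specializes h2
  have h4 : pullback.fst f g ζ ⤳ ξ := by
    rw [← hξp1]
    exact h3.map (pullback.fst f g).continuous
  exact (eq_of_specializes_genericPoint hT hξ h4).symm

/-- For a smooth morphism `f : Y ⟶ X` and `y : Y`, if every quotient of `O_{X, f y}` by a minimal
prime is geometrically unibranch, then the number of irreducible components of `Y` through `y` is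
at most the number of minimal primes of `O_{X, f y}`. -/
theorem encard_components_le_of_smooth (f : Y ⟶ X) [Smooth f] (y : Y)
    (hGU : ∀ (p : Ideal (X.presheaf.stalk (f y))) (hp : p ∈ minimalPrimes (X.presheaf.stalk (f y))),
      haveI : p.IsPrime := hp.1.1
      CAlg2.IsGeomUnibranch ((X.presheaf.stalk (f y)) ⧸ p)) :
    {T : Set Y | T ∈ irreducibleComponents Y ∧ y ∈ T}.encard ≤
      (minimalPrimes (X.presheaf.stalk (f y))).encard := by
  classical
  haveI : Nonempty Y := ⟨y⟩
  have hex : ∀ T : Set Y, (T ∈ irreducibleComponents Y ∧ y ∈ T) →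
      ∃ (P : PrimeSpectrum (X.presheaf.stalk (f y))) (ξ : Y), IsGenericPoint ξ T ∧
        X.fromSpecStalk (f y) P = f ξ := by
    rintro T ⟨hT, hyT⟩
    obtain ⟨ξ, hξ⟩ := QuasiSober.sober hT.1 (isClosed_of_mem_irreducibleComponents T hT)
    have hξy : ξ ⤳ y := hξ.specializes hyT
    have h1 : f ξ ∈ Set.range (X.fromSpecStalk (f y)) := by
      rw [Scheme.range_fromSpecStalk]
      exact hξy.map f.continuous
    obtain ⟨P, hP⟩ := h1
    exact ⟨P, ξ, hξ, hP⟩
  choose! P ξ hξ hP using hex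
  have hemb := (X.fromSpecStalk (f y)).isEmbedding
  refine Set.encard_le_encard_of_injOn (f := fun T => (P T).asIdeal) ?_ ?_
  · rintro T ⟨hT, hyT⟩
    refine ⟨⟨(P T).isPrime, bot_le⟩, ?_⟩
    rintro P' ⟨hP', -⟩ hle
    have h1 : (⟨P', hP'⟩ : PrimeSpectrum (X.presheaf.stalk (f y))) ⤳ P T :=
      (PrimeSpectrum.le_iff_specializes _ _).1 hle
    have h2 : X.fromSpecStalk (f y) (⟨P', hP'⟩ : PrimeSpectrum (X.presheaf.stalk (f y))) ⤳
        f (ξ T) := by
      rw [← hP T ⟨hT, hyT⟩]
      exact h1.map (X.fromSpecStalk (f y)).continuous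
    have h3 := eq_of_specializes_map_genericPoint f hT (hξ T ⟨hT, hyT⟩) h2
    rw [← hP T ⟨hT, hyT⟩] at h3
    have h4 := hemb.injective h3
    show (P T).asIdeal ≤ P'
    rw [← h4]
  · rintro T₁ ⟨hT₁, hyT₁⟩ T₂ ⟨hT₂, hyT₂⟩ heq
    have heq' : P T₁ = P T₂ := PrimeSpectrum.ext heq
    have hmin : (P T₁).asIdeal ∈ minimalPrimes (X.presheaf.stalk (f y)) := by
      refine ⟨⟨(P T₁).isPrime, bot_le⟩, ?_⟩
      rintro P' ⟨hP', -⟩ hle
      have h1 : (⟨P', hP'⟩ : PrimeSpectrum (X.presheaf.stalk (f y))) ⤳ P T₁ :=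
        (PrimeSpectrum.le_iff_specializes _ _).1 hle
      have h2 : X.fromSpecStalk (f y) (⟨P', hP'⟩ : PrimeSpectrum (X.presheaf.stalk (f y))) ⤳
          f (ξ T₁) := by
        rw [← hP T₁ ⟨hT₁, hyT₁⟩]
        exact h1.map (X.fromSpecStalk (f y)).continuous
      have h3 := eq_of_specializes_map_genericPoint f hT₁ (hξ T₁ ⟨hT₁, hyT₁⟩) h2
      rw [← hP T₁ ⟨hT₁, hyT₁⟩] at h3
      have h4 := hemb.injective h3
      rw [← h4]
    haveI : (P T₁).asIdeal.IsPrime := (P T₁).isPrime
    obtain ⟨ξ₀, hξ₀⟩ := exists_unique_genericPoint_over f y (P T₁).asIdeal (hGU _ hmin)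
    have e1 : ξ T₁ = ξ₀ := hξ₀ T₁ hT₁ hyT₁ (ξ T₁) (hξ T₁ ⟨hT₁, hyT₁⟩) (hP T₁ ⟨hT₁, hyT₁⟩).symm
    have e2 : ξ T₂ = ξ₀ := by
      refine hξ₀ T₂ hT₂ hyT₂ (ξ T₂) (hξ T₂ ⟨hT₂, hyT₂⟩) ?_
      rw [← hP T₂ ⟨hT₂, hyT₂⟩, ← heq']
    rw [← (hξ T₁ ⟨hT₁, hyT₁⟩).def, ← (hξ T₂ ⟨hT₂, hyT₂⟩).def, e1, e2]

end Key

end Groth.Agent.Lib.helper9.SmBranch
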