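import Mathlib
import Groth.Agent.Lib.Helper9.SmBranch1
import Groth.Agent.S9753
import Groth.Agent.S9811
import Groth.Agent.S9236

/-!
# Geometric branches and smooth morphisms (helper9)

* `numGeomBranchesAt_eq_of_etale`: étale morphisms preserve the number of geometric branches.
* `numGeomBranchesAt_le_of_flat`: flat morphisms do not decrease it.
* `numGeomBranchesAt_eq_of_smooth`: smooth morphisms preserve it.
-/

set_option autoImplicit false
set_option linter.style.haveILetI false
set_option backward.isDefEq.respectTransparency false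

universe u

namespace Groth.Agent.Lib.helper9.SmBranch

open AlgebraicGeometry CategoryTheory Limits
open Groth.Agent.H1.EssEtStalk Groth.Agent.H1.BranchCount
open Groth.Agent.Lib.Helper24.StrictHens Groth.Agent.Lib.helper9.GeomBranchCount

section Ring

/-- The number of geometric branches of a local ring is at least one. -/
theorem one_le_numGeomBranches (A : Type u) [CommRing A] [IsLocalRing A] :
    1 ≤ Brnch.numGeomBranches A := by
  rw [← Groth.Agent.S9238.result A (SH A)]
  obtain ⟨P, hP, -⟩ := Ideal.exists_minimalPrimes_le (bot_le : (⊥ : Ideal (SH A)) ≤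
    IsLocalRing.maximalIdeal (SH A))
  haveI : Nonempty (minimalPrimes (SH A)) := ⟨⟨P, hP⟩⟩
  exact ENat.one_le_card_iff_nonempty _ |>.2 inferInstance

/-- If a local ring has `n` minimal primes and `n` geometric branches, every quotient by a minimal
prime is geometrically unibranch. -/
theorem isGeomUnibranch_quotient_of_encard_eq (A : Type u) [CommRing A] [IsLocalRing A] (n : ℕ)
    (h1 : (minimalPrimes A).encard = n) (h2 : Brnch.numGeomBranches A = n)
    (p : Ideal A) (hp : p ∈ minimalPrimes A) :
    haveI : p.IsPrime := hp.1.1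
    CAlg2.IsGeomUnibranch (A ⧸ p) := by
  classical
  haveI : p.IsPrime := hp.1.1
  have hfin : (minimalPrimes A).Finite := Set.finite_of_encard_eq_coe h1
  haveI : Fintype (minimalPrimes A) := hfin.fintype
  have hsum := Groth.Agent.S9811.result A hfin
  rw [finsum_eq_sum_of_fintype, h2] at hsum
  rw [← Groth.Agent.S9236.result]
  -- the summands
  let g : minimalPrimes A → ℕ∞ := fun p' =>
    haveI : p'.1.IsPrime := p'.2.1.1
    Brnch.numGeomBranches (A ⧸ p'.1)
  have hg1 : ∀ p', 1 ≤ g p' := fun p' =>
    haveI : p'.1.IsPrime := p'.2.1.1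
    one_le_numGeomBranches (A ⧸ p'.1)
  have hcard : (Fintype.card (minimalPrimes A) : ℕ∞) = n := by
    rw [← h1, Set.encard_eq_coe_toFinset_card, Set.toFinset_card]
  have hsum' : (n : ℕ∞) = ∑ p', g p' := hsum
  have hdecomp : ∑ p', g p' = n + ∑ p', (g p' - 1) := by
    have : ∀ p', g p' = 1 + (g p' - 1) := fun p' => (add_tsub_cancel_of_le (hg1 p')).symm
    conv_lhs => rw [Finset.sum_congr rfl (fun p' _ => this p')]
    rw [Finset.sum_add_distrib]
    simp only [Finset.sum_const, Finset.card_univ, nsmul_eq_mul, mul_one]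
    rw [hcard]
  have hzero : ∑ p', (g p' - 1) = 0 := by
    have h3 : (n : ℕ∞) + ∑ p', (g p' - 1) = n + 0 := by rw [add_zero, ← hdecomp, ← hsum']
    exact ENat.add_right_injective_of_ne_top (ENat.natCast_ne_top n) h3
  have h4 : g ⟨p, hp⟩ - 1 = 0 :=
    (Finset.sum_eq_zero_iff.1 hzero) ⟨p, hp⟩ (Finset.mem_univ _)
  have h5 : g ⟨p, hp⟩ = 1 := by
    have := add_tsub_cancel_of_le (hg1 ⟨p, hp⟩)
    rw [h4, add_zero] at this
    exact this.symm
  exact h5

end Ring

section Geom

variable {X Y : Scheme.{u}}

/-- Étale morphisms preserve the number of geometric branches. -/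
theorem numGeomBranchesAt_eq_of_etale {U : Scheme.{u}} (g : U ⟶ X) [Etale g] (u : U) :
    Brnch.numGeomBranchesAt U u = Brnch.numGeomBranchesAt X (g u) := by
  rw [Groth.Agent.S9753.numGeomBranchesAt_eq_encard U u]
  let H := SH (U.presheaf.stalk u)
  letI : Algebra ↥(X.presheaf.stalk (g u)) ↥(U.presheaf.stalk u) :=
    (g.stalkMap u).hom.toAlgebra
  haveI : IsLocalHom (algebraMap ↥(X.presheaf.stalk (g u)) ↥(U.presheaf.stalk u)) :=
    inferInstanceAs (IsLocalHom (g.stalkMap u).hom)
  have hess := isEssentiallyEtale_stalkMap g u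
  letI : Algebra ↥(X.presheaf.stalk (g u)) H :=
    ((algebraMap ↥(U.presheaf.stalk u) H).comp
      (algebraMap ↥(X.presheaf.stalk (g u)) ↥(U.presheaf.stalk u))).toAlgebra
  obtain ⟨hloc, hhens⟩ := isStrictHenselization_of_essEtale (X.presheaf.stalk (g u))
    (U.presheaf.stalk u) H hess
  have h1 := Groth.Agent.S9238.result (X.presheaf.stalk (g u)) H
  show _ = Brnch.numGeomBranches (X.presheaf.stalk (g u))
  rw [← h1]
  rfl

/-- A flat morphism does not decrease the number of irreducible components through a point. -/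
theorem encard_components_le_of_flat {V U : Scheme.{u}} (k : V ⟶ U) [Flat k] (v : V) :
    {Z : Set ↑U | Z ∈ irreducibleComponents ↑U ∧ k v ∈ Z}.encard ≤
      {Z : Set ↑V | Z ∈ irreducibleComponents ↑V ∧ v ∈ Z}.encard := by
  rw [← encard_minimalPrimes_stalk_eq U (k v), ← encard_minimalPrimes_stalk_eq V v]
  letI : Algebra ↥(U.presheaf.stalk (k v)) ↥(V.presheaf.stalk v) :=
    (k.stalkMap v).hom.toAlgebra
  haveI : IsLocalHom (algebraMap ↥(U.presheaf.stalk (k v)) ↥(V.presheaf.stalk v)) :=
    inferInstanceAs (IsLocalHom (k.stalkMap v).hom)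
  haveI : Module.Flat ↥(U.presheaf.stalk (k v)) ↥(V.presheaf.stalk v) :=
    (RingHom.flat_algebraMap_iff.1 (Flat.stalkMap k v) : _)
  haveI : Module.FaithfullyFlat ↥(U.presheaf.stalk (k v)) ↥(V.presheaf.stalk v) :=
    Module.FaithfullyFlat.of_flat_of_isLocalHom
  exact encard_minimalPrimes_le_of_faithfullyFlat _ _

/-- A flat morphism does not decrease the number of geometric branches. -/
theorem numGeomBranchesAt_le_of_flat (f : Y ⟶ X) [Flat f] (y : Y) :
    Brnch.numGeomBranchesAt X (f y) ≤ Brnch.numGeomBranchesAt Y y := by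
  rw [Groth.Agent.S9753.result X (f y)]
  refine iSup_le fun U => iSup_le fun g => iSup_le fun u => iSup_le fun hg => ?_
  obtain ⟨het, hgu⟩ := hg
  obtain ⟨v, hv1, hv2⟩ :=
    Scheme.Pullback.exists_preimage_pullback (f := g) (g := f) u y hgu
  have h1 := encard_components_le_of_flat (pullback.fst g f) v
  rw [hv1] at h1
  refine h1.trans ?_
  exact Groth.Agent.S9753.encard_le_numGeomBranchesAt (pullback.snd g f) v y inferInstance hv2

/-- A smooth morphism does not increase the number of geometric branches. -/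
theorem numGeomBranchesAt_le_of_smooth (f : Y ⟶ X) [Smooth f] (y : Y) :
    Brnch.numGeomBranchesAt Y y ≤ Brnch.numGeomBranchesAt X (f y) := by
  rcases eq_or_ne (Brnch.numGeomBranchesAt X (f y)) ⊤ with htop | hne
  · rw [htop]; exact le_top
  obtain ⟨n, hn⟩ := ENat.ne_top_iff_exists.1 hne
  rw [← hn, Groth.Agent.S9753.result Y y]
  refine iSup_le fun V => iSup_le fun h => iSup_le fun v => iSup_le fun hh => ?_
  obtain ⟨heth, hhv⟩ := hh
  -- an étale neighbourhood of `(X, f y)` realising the number of geometric branches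
  obtain ⟨U, g, u, ⟨hetg, hgu⟩, hle⟩ :=
    Groth.Agent.S9753.exists_nbhd_le X (f y) n hn.le
  have hge := Groth.Agent.S9753.encard_le_numGeomBranchesAt g u (f y) hetg hgu
  rw [← hn] at hge
  have hUn : {Z : Set ↑U | Z ∈ irreducibleComponents ↑U ∧ u ∈ Z}.encard = n :=
    le_antisymm hge hle
  have hUg : Brnch.numGeomBranchesAt U u = n := by
    rw [numGeomBranchesAt_eq_of_etale g u, hgu, hn]
  -- the fibre product
  have hcond : (h ≫ f) v = g u := by rw [Scheme.Hom.comp_apply, hhv, hgu]
  obtain ⟨w, hw1, hw2⟩ :=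
    Scheme.Pullback.exists_preimage_pullback (f := h ≫ f) (g := g) v u hcond
  subst hw2
  subst hw1
  have h1 := encard_components_le_of_flat (pullback.fst (h ≫ f) g) w
  refine h1.trans ?_
  haveI : Smooth (pullback.snd (h ≫ f) g) := inferInstance
  have hmin : (minimalPrimes (U.presheaf.stalk (pullback.snd (h ≫ f) g w))).encard = n := by
    rw [encard_minimalPrimes_stalk_eq]
    exact hUn
  have h2 := encard_components_le_of_smooth (pullback.snd (h ≫ f) g) w
    (fun p hp => isGeomUnibranch_quotient_of_encard_eq _ n hmin hUg p hp)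
  rw [hmin] at h2
  exact h2

/-- Smooth morphisms preserve the number of geometric branches. -/
theorem numGeomBranchesAt_eq_of_smooth (f : Y ⟶ X) [Smooth f] (y : Y) :
    Brnch.numGeomBranchesAt Y y = Brnch.numGeomBranchesAt X (f y) :=
  le_antisymm (numGeomBranchesAt_le_of_smooth f y) (numGeomBranchesAt_le_of_flat f y)

end Geom

end Groth.Agent.Lib.helper9.SmBranch
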