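import Mathlib
import Groth.Agent.Lib.Helper9.SmBranch2

/-!
# Geometric branches of localizations of smooth algebras (helper9)

* `numGeomBranches_eq_of_ringEquiv`: the number of geometric branches is invariant under ring
  isomorphisms.
* `numGeomBranchesAt_Spec`: the number of geometric branches of `Spec R` at `x` is that of
  `R_x`.
* `numGeomBranches_localization_eq_of_smooth`: for a smooth ring map `R → S` and a prime `q` over
  `p`, the local rings `R_p` and `S_q` have the same number of geometric branches.
-/

set_option autoImplicit false
set_option linter.style.haveILetI false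
set_option backward.isDefEq.respectTransparency false

universe u

namespace Groth.Agent.Lib.helper9.SmBranch

open AlgebraicGeometry CategoryTheory Limits
open Groth.Agent.Lib.Helper24.StrictHens Groth.Agent.Lib.helper9.GeomBranchCount

/-- A ring isomorphism of local rings makes the target essentially étale over the source. -/
theorem isEssentiallyEtale_of_ringEquiv' {A A' : Type u} [CommRing A] [IsLocalRing A] [CommRing A']
    (e : A ≃+* A') :
    letI : Algebra A A' := (e : A →+* A').toAlgebra
    EGA4loc.IsEssentiallyEtale A A' := by
  letI : Algebra A A' := (e : A →+* A').toAlgebra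
  refine ⟨A, inferInstance, inferInstance, IsLocalRing.maximalIdeal A, inferInstance,
    inferInstance, ?_, ?_⟩
  · ext a
    rfl
  · let e₁ : A' ≃ₐ[A] A :=
      { e.symm with
        commutes' := fun a => by
          show e.symm (e a) = a
          exact e.symm_apply_apply a }
    let e₂ : A ≃ₐ[A] Localization.AtPrime (IsLocalRing.maximalIdeal A) :=
      IsLocalization.atUnits A (IsLocalRing.maximalIdeal A).primeCompl
        (fun x hx => by
          by_contra hnu
          exact hx ((IsLocalRing.mem_maximalIdeal x).2 hnu))
    exact ⟨e₁.trans e₂⟩

/-- The number of geometric branches is invariant under ring isomorphisms. -/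
theorem numGeomBranches_eq_of_ringEquiv {A A' : Type u} [CommRing A] [IsLocalRing A] [CommRing A']
    [IsLocalRing A'] (e : A ≃+* A') : Brnch.numGeomBranches A = Brnch.numGeomBranches A' := by
  letI : Algebra A A' := (e : A →+* A').toAlgebra
  haveI : IsLocalHom (algebraMap A A') := by
    show IsLocalHom (e : A →+* A')
    infer_instance
  have hess := isEssentiallyEtale_of_ringEquiv' e
  letI : Algebra A (SH A') := ((algebraMap A' (SH A')).comp (algebraMap A A')).toAlgebra
  obtain ⟨hloc, hhens⟩ := isStrictHenselization_of_essEtale A A' (SH A') hess
  rw [← Groth.Agent.S9238.result A (SH A'), ← Groth.Agent.S9238.result A' (SH A')]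

/-- The number of geometric branches of `Spec R` at `x` is that of the localization of `R` at
`x`. -/
theorem numGeomBranchesAt_Spec (R : CommRingCat.{u}) (x : Spec R) :
    Brnch.numGeomBranchesAt (Spec R) x =
      Brnch.numGeomBranches (Localization.AtPrime x.asIdeal) := by
  letI : Algebra R ((Spec R).presheaf.stalk x) := StructureSheaf.stalkAlgebra R x
  haveI : IsLocalization.AtPrime ((Spec R).presheaf.stalk x) x.asIdeal :=
    StructureSheaf.IsLocalization.to_stalk R x
  exact numGeomBranches_eq_of_ringEquiv
    (IsLocalization.algEquiv x.asIdeal.primeCompl ((Spec R).presheaf.stalk x)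
      (Localization.AtPrime x.asIdeal)).toRingEquiv

/-- For a smooth ring map `R → S` and a prime `q` of `S`, the local rings `R_{q ∩ R}` and `S_q`
have the same number of geometric branches. -/
theorem numGeomBranches_localization_eq_of_smooth {R S : Type u} [CommRing R] [CommRing S]
    [Algebra R S] [Algebra.Smooth R S] (q : Ideal S) [q.IsPrime] :
    Brnch.numGeomBranches (Localization.AtPrime q) =
      Brnch.numGeomBranches (Localization.AtPrime (q.under R)) := by
  let φ : CommRingCat.of R ⟶ CommRingCat.of S := CommRingCat.ofHom (algebraMap R S)
  haveI : Smooth (Spec.map φ) := by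
    rw [HasRingHomProperty.Spec_iff (P := @Smooth)]
    exact RingHom.smooth_algebraMap.2 inferInstance
  let y : Spec (CommRingCat.of S) := (⟨q, inferInstance⟩ : PrimeSpectrum S)
  have h := numGeomBranchesAt_eq_of_smooth (Spec.map φ) y
  rw [numGeomBranchesAt_Spec, numGeomBranchesAt_Spec] at h
  exact h

end Groth.Agent.Lib.helper9.SmBranch
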