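import Mathlib
import Groth.Agent.Lib.Helper9.SmBranch3
import Groth.Agent.Lib.Helper9.GeomBranchCount1
import Groth.Agent.Lib.Helper24.HensNoeth

/-!
# Primes of the strict henselization containing two minimal primes (helper9)

* `numGeomBranches_localization_comap_ne_one`: if a prime `Q` of the strict henselization `SH A`
  contains two distinct minimal primes, the localization of `A` at `Q ∩ A` has more than one
  geometric branch.
* `encard_minimalPrimes_le_numGeomBranches`.
* `exists_prime_of_connected`: the topological argument.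
-/

set_option autoImplicit false
set_option linter.style.haveILetI false
set_option backward.isDefEq.respectTransparency false

universe u

namespace Groth.Agent.Lib.helper9.SHConn

open IsLocalRing
open Groth.Agent.Lib.Helper24.StrictHens Groth.Agent.Lib.Helper24.StrictHens.SIdx
  Groth.Agent.Lib.Helper24.HensStage

/-- The number of minimal primes of a local ring is at most its number of geometric branches. -/
theorem encard_minimalPrimes_le_numGeomBranches (B : Type u) [CommRing B] [IsLocalRing B] :
    (minimalPrimes B).encard ≤ Brnch.numGeomBranches B := by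
  rw [← Groth.Agent.S9238.result B (SH B)]
  haveI := faithfullyFlat_of_isStrictHenselization B (SH B)
  exact Groth.Agent.Lib.helper17.FFMin.encard_minimalPrimes_le_of_faithfullyFlat B (SH B)

/-- If a prime `r` of a ring `C` contains two distinct minimal primes, the localization at `r` has
at least two minimal primes. -/
theorem one_lt_encard_minimalPrimes_localization {C : Type u} [CommRing C] (r p₁ p₂ : Ideal C)
    [r.IsPrime] (hp₁ : p₁ ∈ minimalPrimes C) (hp₂ : p₂ ∈ minimalPrimes C) (hne : p₁ ≠ p₂)
    (h₁ : p₁ ≤ r) (h₂ : p₂ ≤ r) :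
    1 < (minimalPrimes (Localization.AtPrime r)).encard := by
  have hdisj : ∀ p : Ideal C, p ≤ r → Disjoint (r.primeCompl : Set C) (p : Set C) := by
    intro p hp
    rw [Set.disjoint_left]
    intro x hx hxp
    exact hx (hp hxp)
  have hmem : ∀ p : Ideal C, p ∈ minimalPrimes C → p ≤ r →
      p.map (algebraMap C (Localization.AtPrime r)) ∈ minimalPrimes (Localization.AtPrime r) := by
    intro p hp hpr
    haveI : p.IsPrime := hp.1.1
    have h := IsLocalization.minimalPrimes_map r.primeCompl (Localization.AtPrime r) (⊥ : Ideal C)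
    rw [Ideal.map_bot] at h
    show p.map (algebraMap C (Localization.AtPrime r)) ∈
      (⊥ : Ideal (Localization.AtPrime r)).minimalPrimes
    rw [h]
    show (p.map (algebraMap C (Localization.AtPrime r))).under C ∈ (⊥ : Ideal C).minimalPrimes
    rw [IsLocalization.under_map_of_isPrime_disjoint r.primeCompl (Localization.AtPrime r)
      inferInstance (hdisj p hpr)]
    exact hp
  rw [Set.one_lt_encard_iff]
  refine ⟨_, _, hmem p₁ hp₁ h₁, hmem p₂ hp₂ h₂, ?_⟩
  intro heq
  haveI : p₁.IsPrime := hp₁.1.1
  haveI : p₂.IsPrime := hp₂.1.1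
  have e₁ := IsLocalization.under_map_of_isPrime_disjoint r.primeCompl (Localization.AtPrime r)
    (inferInstance : p₁.IsPrime) (hdisj p₁ h₁)
  have e₂ := IsLocalization.under_map_of_isPrime_disjoint r.primeCompl (Localization.AtPrime r)
    (inferInstance : p₂.IsPrime) (hdisj p₂ h₂)
  rw [heq, e₂] at e₁
  exact hne e₁.symm

/-- If a prime `Q` of the strict henselization of `A` contains two distinct minimal primes, the
localization of `A` at `Q ∩ A` has more than one geometric branch. -/
theorem numGeomBranches_localization_comap_ne_one (A : Type u) [CommRing A] [IsLocalRing A]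
    (Q P₁ P₂ : Ideal (SH A)) [hQ : Q.IsPrime] (hP₁ : P₁ ∈ minimalPrimes (SH A))
    (hP₂ : P₂ ∈ minimalPrimes (SH A)) (hne : P₁ ≠ P₂) (h₁ : P₁ ≤ Q) (h₂ : P₂ ≤ Q) :
    Brnch.numGeomBranches (Localization.AtPrime (Q.comap (algebraMap A (SH A)))) ≠ 1 := by
  classical
  haveI : P₁.IsPrime := hP₁.1.1
  haveI : P₂.IsPrime := hP₂.1.1
  have hex : ∃ f, f ∈ P₁ ∧ f ∉ P₂ := by
    by_contra hcon
    push Not at hcon
    exact hne (le_antisymm hcon (hP₂.2 ⟨hP₁.1.1, bot_le⟩ hcon))
  obtain ⟨f, hf₁, hf₂⟩ := hex
  obtain ⟨k, y, hy⟩ := exists_ofS f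
  let φ : k.C →+* SH A := (ofS k).comp (algebraMap k.C k.G)
  letI algGS : Algebra k.G (SH A) := stageAlgebra k
  letI algCS : Algebra k.C (SH A) := φ.toAlgebra
  haveI : IsScalarTower k.C k.G (SH A) := .of_algebraMap_eq' rfl
  haveI : Module.FaithfullyFlat k.G (SH A) := faithfullyFlat_stage k
  haveI : Module.Flat k.C k.G := IsLocalization.flat k.G k.q.primeCompl
  haveI : Module.Flat k.C (SH A) := Module.Flat.trans k.C k.G (SH A)
  have hAS : ∀ a : A, algebraMap A (SH A) a = φ (algebraMap A k.C a) := by
    intro a
    rw [algebraMap_eq k a]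
    show ofS k (algebraMap A k.G a) = ofS k (algebraMap k.C k.G (algebraMap A k.C a))
    rw [← IsScalarTower.algebraMap_apply A k.C k.G]
  -- the primes of `k.C`
  have hm₁ := Groth.Agent.Lib.helper17.FFMin.mapsTo_minimalPrimes_of_flat k.C (SH A) hP₁
  have hm₂ := Groth.Agent.Lib.helper17.FFMin.mapsTo_minimalPrimes_of_flat k.C (SH A) hP₂
  haveI hr : (Q.comap (algebraMap k.C (SH A))).IsPrime := Ideal.comap_isPrime _ _
  have hne' : Ideal.comap (algebraMap k.C (SH A)) P₁ ≠ Ideal.comap (algebraMap k.C (SH A)) P₂ := by
    obtain ⟨c, s, hcs⟩ := IsLocalization.exists_mk'_eq k.q.primeCompl y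
    have hspec : y * algebraMap k.C k.G s = algebraMap k.C k.G c := by
      rw [← hcs, IsLocalization.mk'_spec]
    have hφc : φ c = f * φ s := by
      show ofS k (algebraMap k.C k.G c) = f * ofS k (algebraMap k.C k.G s)
      rw [← hspec, map_mul, hy]
    have hunit : IsUnit (φ (s : k.C)) := by
      show IsUnit (ofS k (algebraMap k.C k.G s))
      exact (IsLocalization.map_units k.G s).map _
    intro heq
    have hc₁ : c ∈ Ideal.comap (algebraMap k.C (SH A)) P₁ := by
      rw [Ideal.mem_comap]
      show φ c ∈ P₁
      rw [hφc]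
      exact P₁.mul_mem_right _ hf₁
    rw [heq, Ideal.mem_comap] at hc₁
    have hc₂ : f * φ s ∈ P₂ := by
      rw [← hφc]
      exact hc₁
    rcases (Ideal.IsPrime.mem_or_mem inferInstance hc₂) with h | h
    · exact hf₂ h
    · exact (Ideal.IsPrime.ne_top inferInstance) (P₂.eq_top_of_isUnit_mem h hunit)
  have hlt := one_lt_encard_minimalPrimes_localization (Q.comap (algebraMap k.C (SH A)))
    _ _ hm₁ hm₂ hne' (Ideal.comap_mono h₁) (Ideal.comap_mono h₂)
  have hle := encard_minimalPrimes_le_numGeomBranches
    (Localization.AtPrime (Q.comap (algebraMap k.C (SH A))))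
  have hsm := Groth.Agent.Lib.helper9.SmBranch.numGeomBranches_localization_eq_of_smooth
    (R := A) (S := k.C) (Q.comap (algebraMap k.C (SH A)))
  have hunder : (Q.comap (algebraMap k.C (SH A))).under A = Q.comap (algebraMap A (SH A)) := by
    ext a
    show φ (algebraMap A k.C a) ∈ Q ↔ algebraMap A (SH A) a ∈ Q
    rw [hAS]
  intro hone
  have hone' : Brnch.numGeomBranches
      (Localization.AtPrime ((Q.comap (algebraMap k.C (SH A))).under A)) = 1 := by
    have hmot : ∀ (I : Ideal A) [I.IsPrime], I = Q.comap (algebraMap A (SH A)) →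
        ∀ [hI' : (Q.comap (algebraMap A (SH A))).IsPrime],
        Brnch.numGeomBranches (Localization.AtPrime (Q.comap (algebraMap A (SH A)))) = 1 →
        Brnch.numGeomBranches (Localization.AtPrime I) = 1 := by
      intro I _ hI
      subst hI
      intro _ h
      exact h
    exact hmot _ hunder hone
  rw [hsm, hone'] at hle
  exact absurd (hlt.trans_le hle) (lt_irrefl _)

end Groth.Agent.Lib.helper9.SHConn
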