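import Mathlib
import Groth.Agent.Lib.Helper9.SmBranch3
import Groth.Agent.Lib.Helper17.GorStrictHens
import Groth.Agent.Lib.Helper24.HensReduced
import Groth.Agent.Lib.Helper24.SmoothLocalIff

/-!
# Primality of extended ideals in strict henselizations (helper9)

* `nonempty_quotLocEquiv`: localization of a quotient versus quotient of a localization.
* `isDomain_SH_iff`: the strict henselization of `B` is a domain iff `B` is reduced with one
  geometric branch.
* `map_isPrime_iff`: for a strict henselization `T` of `B` and a proper ideal `I`, `I T` is prime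
  iff `B ⧸ I` is reduced with one geometric branch.
* `reduced_unibranch_quotient_of_smooth`: transfer along smooth ring maps.
-/

set_option autoImplicit false
set_option linter.style.haveILetI false
set_option backward.isDefEq.respectTransparency false

universe u

namespace Groth.Agent.Lib.helper9.SHPrime

open IsLocalRing Groth.Agent.Lib.Helper24.StrictHens

section QuotLoc

variable {R' : Type u} [CommRing R']

/-- Localization of a quotient versus quotient of a localization. -/
theorem nonempty_quotLocEquiv (J q : Ideal R') [q.IsPrime] (P : Ideal (R' ⧸ J)) [P.IsPrime]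
    (hP : ∀ x : R', Ideal.Quotient.mk J x ∈ P ↔ x ∈ q) :
    Nonempty (Localization.AtPrime P ≃+*
      (Localization.AtPrime q ⧸ J.map (algebraMap R' (Localization.AtPrime q)))) := by
  have hM : Algebra.algebraMapSubmonoid (R' ⧸ J) q.primeCompl = P.primeCompl := by
    ext x
    constructor
    · rintro ⟨y, hy, rfl⟩
      show ¬ (algebraMap R' (R' ⧸ J) y ∈ P)
      intro h1
      exact hy ((hP y).1 h1)
    · intro hx
      obtain ⟨y, rfl⟩ := Ideal.Quotient.mk_surjective x
      refine ⟨y, ?_, rfl⟩
      intro hy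
      exact hx ((hP y).2 hy)
  haveI hlocq : IsLocalization P.primeCompl
      (Localization.AtPrime q ⧸ J.map (algebraMap R' (Localization.AtPrime q))) :=
    hM ▸ inferInstance
  exact ⟨(IsLocalization.algEquiv P.primeCompl (Localization.AtPrime P)
    (Localization.AtPrime q ⧸ J.map (algebraMap R' (Localization.AtPrime q)))).toRingEquiv⟩

theorem map_ne_top_of_le (J q : Ideal R') [q.IsPrime] (hJq : J ≤ q) :
    J.map (algebraMap R' (Localization.AtPrime q)) ≠ ⊤ := by
  have hIle : J.map (algebraMap R' (Localization.AtPrime q)) ≤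
      maximalIdeal (Localization.AtPrime q) := by
    rw [Ideal.map_le_iff_le_comap]
    intro x hx
    rw [Ideal.mem_comap]
    exact (IsLocalization.AtPrime.to_map_mem_maximal_iff (Localization.AtPrime q) q x).2 (hJq hx)
  intro htop
  rw [htop] at hIle
  exact (IsLocalRing.maximalIdeal.isMaximal _).ne_top (top_le_iff.1 hIle)

theorem mk_mem_map_mk_iff (J q : Ideal R') (hJq : J ≤ q) (x : R') :
    Ideal.Quotient.mk J x ∈ q.map (Ideal.Quotient.mk J) ↔ x ∈ q := by
  constructor
  · intro hx
    rw [Ideal.mem_map_iff_of_surjective _ Ideal.Quotient.mk_surjective] at hx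
    obtain ⟨y, hy, hxy⟩ := hx
    have h1 : x - y ∈ J := by
      rw [← Ideal.Quotient.eq]; exact hxy.symm
    have h2 : x = (x - y) + y := by ring
    rw [h2]
    exact q.add_mem (hJq h1) hy
  · intro hx
    exact Ideal.mem_map_of_mem _ hx

theorem isPrime_map_mk (J q : Ideal R') [q.IsPrime] (hJq : J ≤ q) :
    (q.map (Ideal.Quotient.mk J)).IsPrime :=
  Ideal.map_isPrime_of_surjective Ideal.Quotient.mk_surjective (by rw [Ideal.mk_ker]; exact hJq)

end QuotLoc

section SH

/-- A local ring with exactly one minimal prime which is reduced is a domain. -/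
theorem isDomain_of_isReduced_of_encard_eq_one (T : Type u) [CommRing T] [IsReduced T]
    (h1 : (minimalPrimes T).encard = 1) : IsDomain T := by
  obtain ⟨P, hP⟩ := Set.encard_eq_one.1 h1
  have hPmem : P ∈ minimalPrimes T := hP ▸ Set.mem_singleton P
  haveI : P.IsPrime := hPmem.1.1
  have h2 : nilradical T = P := by
    rw [nilradical_eq_sInf]
    apply le_antisymm
    · exact sInf_le hPmem.1.1
    · refine le_sInf fun Q hQ => ?_
      haveI : Q.IsPrime := hQ
      obtain ⟨Q', hQ', hle⟩ := Ideal.exists_minimalPrimes_le (bot_le : (⊥ : Ideal T) ≤ Q)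
      have : Q' = P := by
        have : Q' ∈ ({P} : Set (Ideal T)) := hP ▸ hQ'
        exact this
      exact this ▸ hle
  have h3 : (⊥ : Ideal T).IsPrime := by
    rw [← nilradical_eq_bot_iff.2 (inferInstance : IsReduced T), h2]
    infer_instance
  exact @IsDomain.of_bot_isPrime T _ h3

/-- A strict henselization of `B` is a domain iff `B` is reduced with one geometric branch. -/
theorem isDomain_iff_of_isStrictHenselization (B T : Type u) [CommRing B] [IsLocalRing B]
    [CommRing T] [IsLocalRing T] [Algebra B T] [IsLocalHom (algebraMap B T)]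
    [Hensel.IsStrictHenselization B T] :
    IsDomain T ↔ IsReduced B ∧ Brnch.numGeomBranches B = 1 := by
  have hcard := Groth.Agent.S9238.result B T
  constructor
  · intro hdom
    refine ⟨(Groth.Agent.Lib.Helper24.HensReduced.isReduced_iff_of_isStrictHenselization B T).1
      inferInstance, ?_⟩
    rw [← hcard]
    show (minimalPrimes T).encard = 1
    rw [IsDomain.minimalPrimes_eq_singleton_bot, Set.encard_singleton]
  · rintro ⟨hred, hnb⟩
    haveI : IsReduced T :=
      (Groth.Agent.Lib.Helper24.HensReduced.isReduced_iff_of_isStrictHenselization B T).2 hred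
    rw [hnb] at hcard
    exact isDomain_of_isReduced_of_encard_eq_one T hcard

/-- For a strict henselization `T` of `B` and a proper ideal `I` of `B`, the extension `I T` is
prime iff `B ⧸ I` is reduced with one geometric branch. -/
theorem map_isPrime_iff (B T : Type u) [CommRing B] [IsLocalRing B]
    [CommRing T] [IsLocalRing T] [Algebra B T] [IsLocalHom (algebraMap B T)]
    [Hensel.IsStrictHenselization B T] (I : Ideal B) (hI : I ≠ ⊤) [IsLocalRing (B ⧸ I)] :
    (I.map (algebraMap B T)).IsPrime ↔ IsReduced (B ⧸ I) ∧ Brnch.numGeomBranches (B ⧸ I) = 1 := by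
  obtain ⟨e⟩ := Groth.Agent.Lib.helper17.GorStrictHens.nonempty_quot_equiv B T I hI (SH (B ⧸ I))
  rw [← isDomain_iff_of_isStrictHenselization (B ⧸ I) (SH (B ⧸ I)),
    ← Ideal.Quotient.isDomain_iff_prime]
  constructor
  · intro h
    exact MulEquiv.isDomain _ e.symm.toMulEquiv
  · intro h
    exact MulEquiv.isDomain _ e.toMulEquiv

/-- "Reduced with one geometric branch" is invariant under ring isomorphisms. -/
theorem reduced_unibranch_of_ringEquiv {A A' : Type u} [CommRing A] [IsLocalRing A] [CommRing A']
    [IsLocalRing A'] (e : A ≃+* A') (h : IsReduced A ∧ Brnch.numGeomBranches A = 1) :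
    IsReduced A' ∧ Brnch.numGeomBranches A' = 1 := by
  obtain ⟨h1, h2⟩ := h
  refine ⟨isReduced_of_injective e.symm.toRingHom e.symm.injective, ?_⟩
  rw [← Groth.Agent.Lib.helper9.SmBranch.numGeomBranches_eq_of_ringEquiv e, h2]

end SH

section Smooth

variable {R R' : Type u} [CommRing R] [CommRing R'] [Algebra R R'] [Algebra.Smooth R R']

/-- Transfer along a smooth ring map: if `R_p ⧸ I₀ R_p` is reduced with one geometric branch
(`p = q ∩ R`, `I₀ ⊆ p`), so is `R'_q ⧸ I₀ R'_q`. -/
theorem reduced_unibranch_quotient_of_smooth (q : Ideal R') [q.IsPrime] (I₀ : Ideal R)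
    (hI₀ : I₀ ≤ q.under R)
    [IsLocalRing (Localization.AtPrime (q.under R) ⧸
      I₀.map (algebraMap R (Localization.AtPrime (q.under R))))]
    [IsLocalRing (Localization.AtPrime q ⧸
      (I₀.map (algebraMap R R')).map (algebraMap R' (Localization.AtPrime q)))]
    (h : IsReduced (Localization.AtPrime (q.under R) ⧸
        I₀.map (algebraMap R (Localization.AtPrime (q.under R)))) ∧
      Brnch.numGeomBranches (Localization.AtPrime (q.under R) ⧸
        I₀.map (algebraMap R (Localization.AtPrime (q.under R)))) = 1) :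
    IsReduced (Localization.AtPrime q ⧸
        (I₀.map (algebraMap R R')).map (algebraMap R' (Localization.AtPrime q))) ∧
      Brnch.numGeomBranches (Localization.AtPrime q ⧸
        (I₀.map (algebraMap R R')).map (algebraMap R' (Localization.AtPrime q))) = 1 := by
  have hJq : I₀.map (algebraMap R R') ≤ q := by
    rw [Ideal.map_le_iff_le_comap]
    exact hI₀
  haveI hsm : Algebra.Smooth (R ⧸ I₀) (R' ⧸ I₀.map (algebraMap R R')) :=
    .of_equiv (Algebra.TensorProduct.quotIdealMapEquivQuotTensor R' I₀).symm
  obtain ⟨qb, hqb⟩ : ∃ qb : Ideal (R' ⧸ I₀.map (algebraMap R R')),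
      qb = q.map (Ideal.Quotient.mk (I₀.map (algebraMap R R'))) := ⟨_, rfl⟩
  haveI hqbp : qb.IsPrime := hqb ▸ isPrime_map_mk _ q hJq
  have hmemqb : ∀ x : R', Ideal.Quotient.mk (I₀.map (algebraMap R R')) x ∈ qb ↔ x ∈ q := by
    intro x
    rw [hqb]
    exact mk_mem_map_mk_iff _ q hJq x
  have hmemp : ∀ r : R, Ideal.Quotient.mk I₀ r ∈ qb.under (R ⧸ I₀) ↔ r ∈ q.under R := by
    intro r
    have h1 : algebraMap (R ⧸ I₀) (R' ⧸ I₀.map (algebraMap R R')) (Ideal.Quotient.mk I₀ r) =
        Ideal.Quotient.mk (I₀.map (algebraMap R R')) (algebraMap R R' r) := rfl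
    show algebraMap (R ⧸ I₀) (R' ⧸ I₀.map (algebraMap R R')) (Ideal.Quotient.mk I₀ r) ∈ qb ↔ _
    rw [h1, hmemqb]
    rfl
  obtain ⟨e₁⟩ := nonempty_quotLocEquiv I₀ (q.under R) (qb.under (R ⧸ I₀)) hmemp
  obtain ⟨e₂⟩ := nonempty_quotLocEquiv (I₀.map (algebraMap R R')) q qb hmemqb
  obtain ⟨h1, h2⟩ := reduced_unibranch_of_ringEquiv e₁.symm h
  have h3 : IsReduced (Localization.AtPrime qb) :=
    (Groth.Agent.Lib.Helper24.SmoothLocalIff.isReduced_atPrime_iff_of_smooth (R ⧸ I₀)
      (R' ⧸ I₀.map (algebraMap R R')) qb).1 h1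
  have h4 : Brnch.numGeomBranches (Localization.AtPrime qb) = 1 := by
    rw [Groth.Agent.Lib.helper9.SmBranch.numGeomBranches_localization_eq_of_smooth
      (R := R ⧸ I₀) (S := R' ⧸ I₀.map (algebraMap R R')) qb]
    exact h2
  exact reduced_unibranch_of_ringEquiv e₂ ⟨h3, h4⟩

end Smooth

end Groth.Agent.Lib.helper9.SHPrime
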