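import Groth.Agent.Lib.Helper9.PropDvr12

/-!
# Fibrewise clopen-and-proper subsets and arbitrary cartesian squares (helper9)

Versions of `PropDvr8.fibClopenProper_snd` and `PropDvr9.isProper_of_universallyClosed_snd` for an
arbitrary cartesian square `IsPullback fst snd f g`:
* `fibClopenProper_of_isPullback`: base change;
* `fibClopenProper_descend`: descent (the residue field extension is faithfully flat).
-/

set_option autoImplicit false
set_option linter.style.haveILetI false
set_option backward.isDefEq.respectTransparency false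

universe u

open CategoryTheory CategoryTheory.Limits AlgebraicGeometry TopologicalSpace

namespace Groth.Agent.Lib.helper9.PropDvr

section General

variable {P X Y T : Scheme.{u}} {fst : P ⟶ X} {snd : P ⟶ T} {f : X ⟶ Y} {g : T ⟶ Y}
  (h : IsPullback fst snd f g) (t : T)

/-- the map from the fibre of `snd` over `t` to the fibre of `f` over `g t`. -/
noncomputable abbrev fiberMapG : snd.fiber t ⟶ f.fiber (g t) :=
  pullback.map _ _ _ _ fst (Spec.map (g.residueFieldMap t)) g h.w.symm (by simp)

theorem isPullback_fiberMapG :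
    IsPullback (fiberMapG h t) (snd.fiberToSpecResidueField t)
      (f.fiberToSpecResidueField (g t)) (Spec.map (g.residueFieldMap t)) :=
  isPullback_fiberToSpecResidueField_of_isPullback h t

theorem fiberMapG_fiberι : fiberMapG h t ≫ f.fiberι (g t) = snd.fiberι t ≫ fst :=
  pullback.lift_fst _ _ _

theorem preimage_fiberι_G (Z : Set X) :
    (snd.fiberι t) ⁻¹' (fst ⁻¹' Z) = (fiberMapG h t) ⁻¹' ((f.fiberι (g t)) ⁻¹' Z) := by
  ext w
  change fst ((snd.fiberι t) w) ∈ Z ↔ (f.fiberι (g t)) ((fiberMapG h t) w) ∈ Z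
  rw [← Scheme.Hom.comp_apply, ← Scheme.Hom.comp_apply, fiberMapG_fiberι]

include h in
theorem fibClopenProper_of_isPullback (Z : Set X) (hZ : FibClopenProper f Z (g t)) :
    FibClopenProper snd (fst ⁻¹' Z) t := by
  obtain ⟨hcl, hop, hprop⟩ := hZ
  refine ⟨?_, ?_⟩
  · rw [preimage_fiberι_G h]
    exact hcl.preimage (fiberMapG h t).continuous
  · have hop' : IsOpen ((snd.fiberι t) ⁻¹' (fst ⁻¹' Z)) := by
      rw [preimage_fiberι_G h]
      exact hop.preimage (fiberMapG h t).continuous
    refine ⟨hop', ?_⟩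
    let O : (f.fiber (g t)).Opens := ⟨(f.fiberι (g t)) ⁻¹' Z, hop⟩
    have sq1 := isPullback_morphismRestrict (fiberMapG h t) O
    have sq := sq1.paste_vert (isPullback_fiberMapG h t)
    have h1 : IsProper (((fiberMapG h t) ⁻¹ᵁ O).ι ≫ snd.fiberToSpecResidueField t) :=
      MorphismProperty.of_isPullback (P := @IsProper) sq hprop
    have h2 : (⟨(snd.fiberι t) ⁻¹' (fst ⁻¹' Z), hop'⟩ : (snd.fiber t).Opens) =
        (fiberMapG h t) ⁻¹ᵁ O := by
      apply Opens.ext
      exact preimage_fiberι_G h t Z
    rw [h2]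
    exact h1

include h in
theorem fibClopenProper_descend [IsSeparated f] [LocallyOfFiniteType f] (Z : Set X)
    (hcl : IsClosed ((f.fiberι (g t)) ⁻¹' Z)) (hop : IsOpen ((f.fiberι (g t)) ⁻¹' Z))
    (H : FibClopenProper snd (fst ⁻¹' Z) t) : FibClopenProper f Z (g t) := by
  obtain ⟨-, hop', hprop'⟩ := H
  refine ⟨hcl, hop, ?_⟩
  let O : (f.fiber (g t)).Opens := ⟨(f.fiberι (g t)) ⁻¹' Z, hop⟩
  have h2 : (⟨(snd.fiberι t) ⁻¹' (fst ⁻¹' Z), hop'⟩ : (snd.fiber t).Opens) =
      (fiberMapG h t) ⁻¹ᵁ O := by
    apply Opens.ext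
    exact preimage_fiberι_G h t Z
  rw [h2] at hprop'
  have huc : UniversallyClosed (((fiberMapG h t) ⁻¹ᵁ O).ι ≫ snd.fiberToSpecResidueField t) :=
    hprop'.toUniversallyClosed
  have sq1 := isPullback_morphismRestrict (fiberMapG h t) O
  have sq := sq1.paste_vert (isPullback_fiberMapG h t)
  have h0 : Flat (Spec.map (g.residueFieldMap t)) := by
    rw [HasRingHomProperty.Spec_iff (P := @Flat)]
    letI := (g.residueFieldMap t).hom.toAlgebra
    change Module.Flat _ _
    infer_instance
  have h1 : Surjective (Spec.map (g.residueFieldMap t)) := by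
    refine ⟨fun x => ?_⟩
    obtain ⟨w⟩ : Nonempty ↥(Spec (T.residueField t)) :=
      inferInstanceAs (Nonempty (PrimeSpectrum (T.residueField t)))
    haveI : Subsingleton ↥(Spec (Y.residueField (g t))) :=
      inferInstanceAs (Subsingleton (PrimeSpectrum (Y.residueField (g t))))
    exact ⟨w, Subsingleton.elim (α := ↥(Spec (Y.residueField (g t)))) _ _⟩
  have h3 : QuasiCompact (Spec.map (g.residueFieldMap t)) := inferInstance
  haveI : UniversallyClosed (O.ι ≫ f.fiberToSpecResidueField (g t)) :=
    MorphismProperty.of_isPullback_of_descendsAlong (P := @UniversallyClosed)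
      (Q := @Surjective ⊓ @Flat ⊓ @QuasiCompact) sq.flip ⟨⟨h1, h0⟩, h3⟩ huc
  haveI : IsSeparated (f.fiberToSpecResidueField (g t)) :=
    MorphismProperty.pullback_snd (P := @IsSeparated) _ _ inferInstance
  haveI : LocallyOfFiniteType (f.fiberToSpecResidueField (g t)) :=
    MorphismProperty.pullback_snd (P := @LocallyOfFiniteType) _ _ inferInstance
  exact (isProper_iff _).mpr ⟨inferInstance, inferInstance, inferInstance⟩

end General

end Groth.Agent.Lib.helper9.PropDvr
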