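import Groth.Agent.Lib.Helper9.SecProper1
import Groth.Agent.Lib.Helper9.SecFlat3
import Groth.Agent.S1324
import Groth.Agent.S1326

/-!
# Section components are proper near a point with proper component: Noetherian case (helper9)

EGA IV 15.7.6-style corollary of 15.7.5 (`PropDvr11`): `f : X ⟶ Y` separated of finite type over a
locally Noetherian base, with a section `g`; `X⁰ = MoreMor.sectionComponents f g`.  If `X⁰_y` is
proper over `κ(y)`, then over a neighbourhood `U` of `y`, `X⁰ ∩ f⁻¹(U)` is the image of a scheme
proper over `U`.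
-/

set_option autoImplicit false
set_option linter.style.haveILetI false
set_option backward.isDefEq.respectTransparency false

universe u

open CategoryTheory CategoryTheory.Limits AlgebraicGeometry TopologicalSpace Topology

namespace Groth.Agent.Lib.helper9.PropDvr

open Groth.Agent.Lib.helper9.SecFlat

section

variable {X Y : Scheme.{u}} (f : X ⟶ Y) (g : Y ⟶ X) (hg : g ≫ f = 𝟙 Y)

include hg in
theorem apply_section (t : Y) : f (g t) = t := by
  rw [← Scheme.Hom.comp_apply, hg]
  rfl

include hg in
theorem section_mem_sectionComponents (t : Y) : g t ∈ MoreMor.sectionComponents f g :=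
  (mem_sectionComponents_iff f g (g t) t (apply_section f g hg t)).mpr
    (mem_connectedComponentIn (apply_section f g hg t))

theorem sectionComponents_inter_fiber (t : Y) :
    MoreMor.sectionComponents f g ∩ f ⁻¹' {t} = connectedComponentIn (f ⁻¹' {t}) (g t) := by
  ext x
  constructor
  · rintro ⟨hx, hxt⟩
    exact (mem_sectionComponents_iff f g x t hxt).mp hx
  · intro hx
    have hxt : f x = t := apply_eq_of_mem_component f g hx
    exact ⟨(mem_sectionComponents_iff f g x t hxt).mpr hx, hxt⟩

theorem isPreconnected_sectionComponents_of_subsingleton {X K : Scheme.{u}} [Subsingleton ↥K]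
    (f : X ⟶ K) (s : K ⟶ X) : _root_.IsPreconnected (MoreMor.sectionComponents f s) := by
  rcases isEmpty_or_nonempty ↥X with hX | ⟨⟨x₀⟩⟩
  · rw [Set.eq_empty_of_isEmpty (MoreMor.sectionComponents f s)]
    exact isPreconnected_empty
  · have h1 : MoreMor.sectionComponents f s =
        connectedComponentIn (f ⁻¹' {f x₀}) (s (f x₀)) := by
      ext x
      exact mem_sectionComponents_iff f s x (f x₀) (Subsingleton.elim _ _)
    rw [h1]
    exact isPreconnected_connectedComponentIn

include hg in
theorem fibGeomConn_sectionComponents (t : Y) :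
    FibGeomConn f (MoreMor.sectionComponents f g) t := by
  refine ⟨?_, ?_⟩
  · obtain ⟨w, hw⟩ := exists_connectedComponent_fiber f (MoreMor.sectionComponents f g) t (g t)
      (apply_section f g hg t) (sectionComponents_inter_fiber f g t)
    rw [hw]
    exact isClosed_connectedComponent
  · intro K _ _
    set φ := CommRingCat.ofHom (algebraMap (Y.residueField t) K) with hφ
    have hsq : IsPullback (pullback.fst (f.fiberToSpecResidueField t) (Spec.map φ) ≫ f.fiberι t)
        (pullback.snd (f.fiberToSpecResidueField t) (Spec.map φ)) f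
        (Spec.map φ ≫ Y.fromSpecResidueField t) :=
      (IsPullback.of_hasPullback (f.fiberToSpecResidueField t) (Spec.map φ)).paste_horiz
        (IsPullback.of_hasPullback f (Y.fromSpecResidueField t))
    let sK : Spec (CommRingCat.of K) ⟶ pullback (f.fiberToSpecResidueField t) (Spec.map φ) :=
      hsq.lift ((Spec.map φ ≫ Y.fromSpecResidueField t) ≫ g) (𝟙 _)
        (by rw [Category.assoc, hg, Category.comp_id, Category.id_comp])
    have h1 := Groth.Agent.S1324.result f g hg
      (pullback.snd (f.fiberToSpecResidueField t) (Spec.map φ))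
      (pullback.fst (f.fiberToSpecResidueField t) (Spec.map φ) ≫ f.fiberι t)
      (Spec.map φ ≫ Y.fromSpecResidueField t) hsq sK (hsq.lift_snd _ _ _) (hsq.lift_fst _ _ _)
    rw [← h1]
    haveI : Subsingleton ↥(Spec (CommRingCat.of K)) :=
      inferInstanceAs (Subsingleton (PrimeSpectrum K))
    exact isPreconnected_sectionComponents_of_subsingleton _ sK

theorem isOpen_fiber_sectionComponents [LocallyOfFiniteType f] [QuasiCompact f] (t : Y)
    (hgt : f (g t) = t) : IsOpen ((f.fiberι t) ⁻¹' MoreMor.sectionComponents f g) := by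
  obtain ⟨w, hw⟩ := exists_connectedComponent_fiber f (MoreMor.sectionComponents f g) t (g t)
    hgt (sectionComponents_inter_fiber f g t)
  rw [hw]
  exact isOpen_connectedComponent_fiber f t w

include hg in
theorem submersiveAlong_sectionComponents {Y' : Scheme.{u}} (h : Y' ⟶ Y) :
    SubmersiveAlong f (MoreMor.sectionComponents f g) h := by
  intro E hE ⟨W, hWo, hW⟩
  let s' : Y' ⟶ pullback f h := pullback.lift (h ≫ g) (𝟙 _)
    (by rw [Category.assoc, hg, Category.comp_id, Category.id_comp])
  have hs'1 : s' ≫ pullback.fst f h = h ≫ g := pullback.lift_fst _ _ _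
  have hs'2 : s' ≫ pullback.snd f h = 𝟙 _ := pullback.lift_snd _ _ _
  have hs'Z : ∀ t : Y', s' t ∈ (pullback.fst f h) ⁻¹' MoreMor.sectionComponents f g := by
    intro t
    change (pullback.fst f h) (s' t) ∈ MoreMor.sectionComponents f g
    rw [← Scheme.Hom.comp_apply, hs'1, Scheme.Hom.comp_apply]
    exact section_mem_sectionComponents f g hg (h t)
  have hs'snd : ∀ t : Y', (pullback.snd f h) (s' t) = t := by
    intro t
    rw [← Scheme.Hom.comp_apply, hs'2]
    rfl
  refine ⟨s' ⁻¹' W, hWo.preimage s'.continuous, ?_⟩
  ext t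
  constructor
  · rintro ⟨ht1, -⟩
    have h1 : s' t ∈ W ∩ (pullback.fst f h) ⁻¹' MoreMor.sectionComponents f g := ⟨ht1, hs'Z t⟩
    rw [hW] at h1
    have h2 : (pullback.snd f h) (s' t) ∈ E := h1.1
    rwa [hs'snd] at h2
  · intro ht
    have h1 : s' t ∈ (pullback.snd f h) ⁻¹' E ∩
        (pullback.fst f h) ⁻¹' MoreMor.sectionComponents f g := by
      refine ⟨?_, hs'Z t⟩
      change (pullback.snd f h) (s' t) ∈ E
      rw [hs'snd]
      exact ht
    rw [← hW] at h1
    exact ⟨h1.1, hE ht⟩

include hg in
/-- **Noetherian case.** -/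
theorem exists_proper_model_sectionComponents_noeth [IsLocallyNoetherian Y] [IsSeparated f]
    [LocallyOfFiniteType f] [QuasiCompact f] (y : Y)
    (hprop : FibClopenProper f (MoreMor.sectionComponents f g) y) :
    ∃ U : Y.Opens, y ∈ U ∧ ∃ (T : Scheme.{u}) (i : T ⟶ (f ⁻¹ᵁ U).toScheme),
      Set.range i = (f ⁻¹ᵁ U).ι ⁻¹' MoreMor.sectionComponents f g ∧ IsProper (i ≫ f ∣_ U) := by
  haveI : LocallyOfFinitePresentation f :=
    LocallyOfFinitePresentation.iff_locallyOfFiniteType.mpr inferInstance
  have hZ : IsLocallyConstructible (MoreMor.sectionComponents f g) :=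
    Groth.Agent.S1326.result f g hg
  refine exists_proper_model_of_dvrModelAt f _ hZ y
    (dvrModelAt_of_fibrewise y f _ ?_ ?_ ?_ hprop ?_)
  · intro y' _
    exact fibGeomConn_sectionComponents f g hg y'
  · intro y' _
    exact isOpen_fiber_sectionComponents f g y' (apply_section f g hg y')
  · intro y' _
    exact ⟨g y', section_mem_sectionComponents f g hg y', apply_section f g hg y'⟩
  · intro Y' h
    exact submersiveAlong_sectionComponents f g hg h

end

end Groth.Agent.Lib.helper9.PropDvr
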