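import Groth.Agent.Lib.Helper9.SecProper2
import Groth.Agent.Lib.Helper9.SecFlat1
import Groth.Agent.Lib.Helper9.QcqsInstances

/-!
# Section components are proper near a point with proper component: general base (helper9)

EGA IV 15.7.6-style statement without Noetherian hypotheses, by Noetherian approximation.
* `exists_separated_model_with_section`;
* `model_baseChange`, `model_of_isOpenImmersion`: transport of "proper models";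
* `exists_proper_model_sectionComponents`: the general statement (model form);
* `exists_isProper_reduced_sectionComponents`: the closed + reduced-structure form.
-/

set_option autoImplicit false
set_option linter.style.haveILetI false
set_option backward.isDefEq.respectTransparency false

universe u

open CategoryTheory CategoryTheory.Limits AlgebraicGeometry TopologicalSpace Topology

namespace Groth.Agent.Lib.helper9.PropDvr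

open Groth.Agent.Lib.helper9 Groth.Agent.Lib.helper9.FGLimitZ Groth.Agent.Lib.helper9.SecFlat

/-- Separated models with a section. -/
theorem exists_separated_model_with_section (A : Type u) [CommRing A]
    {X : Scheme.{u}} (f : X ⟶ Spec (CommRingCat.of A)) [IsSeparated f]
    [LocallyOfFinitePresentation f] [QuasiCompact f] [QuasiSeparated f]
    (g : Spec (CommRingCat.of A) ⟶ X) (hg : g ≫ f = 𝟙 _) :
    ∃ A₀ : Subalgebra ℤ A, A₀.FG ∧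
      ∃ (X₀ : Scheme.{u}) (f₀ : X₀ ⟶ Spec (CommRingCat.of ↥A₀)) (gX : X ⟶ X₀)
        (g₀ : Spec (CommRingCat.of ↥A₀) ⟶ X₀),
        IsSeparated f₀ ∧ LocallyOfFinitePresentation f₀ ∧ QuasiCompact f₀ ∧ QuasiSeparated f₀ ∧
          IsPullback gX f f₀ (Spec.map (CommRingCat.ofHom (algebraMap (↥A₀) A))) ∧
          g₀ ≫ f₀ = 𝟙 _ ∧
          g ≫ gX = Spec.map (CommRingCat.ofHom (algebraMap (↥A₀) A)) ≫ g₀ := by
  refine exists_model_with_section A @IsSeparated f g hg ?_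
  have hlim := isLimitSpecCone A
  let f' : X ⟶ (specCone A).pt := f
  have h1 : LocallyOfFinitePresentation f' := (inferInstance : LocallyOfFinitePresentation f)
  have h2 : QuasiCompact f' := (inferInstance : QuasiCompact f)
  have h3 : QuasiSeparated f' := (inferInstance : QuasiSeparated f)
  have h4 : IsSeparated f' := (inferInstance : IsSeparated f)
  obtain ⟨s, ⟨M⟩⟩ := FPModel.exists_model (D := specDiagram A) (c := specCone A) hlim f'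
  haveI : CompactSpace M.X₀ := M.compactSpace_X₀
  haveI : CompactSpace ↥((specDiagram A).obj s) :=
    inferInstanceAs (CompactSpace ↥(Spec (CommRingCat.of (adj A s.unop))))
  haveI : QuasiSeparatedSpace ↥((specDiagram A).obj s) :=
    inferInstanceAs (QuasiSeparatedSpace ↥(Spec (CommRingCat.of (adj A s.unop))))
  haveI : QuasiSeparatedSpace M.X₀ := M.quasiSeparatedSpace_X₀
  haveI := M.lfp
  obtain ⟨t, a, ht⟩ := M.exists_rebase_of_descent @IsSeparated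
    (fun h => qcqsBaseDescent_isSeparated (specDiagram A) (specCone A) hlim s M.f₀ (𝟙 _)
      (inferInstance : LocallyOfFiniteType M.f₀) h) h4
  exact ⟨t, M.rebase a, ht⟩

/-- base change of a proper model. -/
theorem model_baseChange {X Y X₀ Y₀ : Scheme.{u}} {gX : X ⟶ X₀} {f : X ⟶ Y} {f₀ : X₀ ⟶ Y₀}
    {b : Y ⟶ Y₀} (hc : IsPullback gX f f₀ b) (Z₀ : Set X₀) (U₀ : Y₀.Opens) {T₀ : Scheme.{u}}
    (i₀ : T₀ ⟶ (f₀ ⁻¹ᵁ U₀).toScheme) (hrange : Set.range i₀ = (f₀ ⁻¹ᵁ U₀).ι ⁻¹' Z₀)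
    (hprop : IsProper (i₀ ≫ f₀ ∣_ U₀)) :
    ∃ (T : Scheme.{u}) (i : T ⟶ (f ⁻¹ᵁ (b ⁻¹ᵁ U₀)).toScheme),
      Set.range i = (f ⁻¹ᵁ (b ⁻¹ᵁ U₀)).ι ⁻¹' (gX ⁻¹' Z₀) ∧ IsProper (i ≫ f ∣_ (b ⁻¹ᵁ U₀)) := by
  have sq0 := isPullback_morphismRestrict f₀ U₀
  have hw : (f ∣_ (b ⁻¹ᵁ U₀) ≫ b ∣_ U₀) ≫ U₀.ι = ((f ⁻¹ᵁ (b ⁻¹ᵁ U₀)).ι ≫ gX) ≫ f₀ := by
    simp only [Category.assoc, morphismRestrict_ι]
    rw [morphismRestrict_ι_assoc, hc.w]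
  let r : (f ⁻¹ᵁ (b ⁻¹ᵁ U₀)).toScheme ⟶ (f₀ ⁻¹ᵁ U₀).toScheme :=
    sq0.lift (f ∣_ (b ⁻¹ᵁ U₀) ≫ b ∣_ U₀) ((f ⁻¹ᵁ (b ⁻¹ᵁ U₀)).ι ≫ gX) hw
  have hr1 : r ≫ f₀ ∣_ U₀ = f ∣_ (b ⁻¹ᵁ U₀) ≫ b ∣_ U₀ := sq0.lift_fst _ _ _
  have hr2 : r ≫ (f₀ ⁻¹ᵁ U₀).ι = (f ⁻¹ᵁ (b ⁻¹ᵁ U₀)).ι ≫ gX := sq0.lift_snd _ _ _
  have sqr : IsPullback r (f ∣_ (b ⁻¹ᵁ U₀)) (f₀ ∣_ U₀) (b ∣_ U₀) := by
    have sqA : IsPullback (f ⁻¹ᵁ (b ⁻¹ᵁ U₀)).ι (f ∣_ (b ⁻¹ᵁ U₀)) f (b ⁻¹ᵁ U₀).ι :=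
      (isPullback_morphismRestrict f (b ⁻¹ᵁ U₀)).flip
    have houter := sqA.paste_horiz hc
    rw [← hr2, ← morphismRestrict_ι b U₀] at houter
    exact IsPullback.of_right houter hr1 sq0.flip
  have sqT := (IsPullback.of_hasPullback i₀ r).paste_vert sqr
  refine ⟨pullback i₀ r, pullback.snd i₀ r, ?_, ?_⟩
  · rw [Scheme.Pullback.range_snd, hrange]
    ext w
    change (f₀ ⁻¹ᵁ U₀).ι (r w) ∈ Z₀ ↔ gX ((f ⁻¹ᵁ (b ⁻¹ᵁ U₀)).ι w) ∈ Z₀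
    rw [← Scheme.Hom.comp_apply, hr2, Scheme.Hom.comp_apply]
  · exact MorphismProperty.of_isPullback (P := @IsProper) sqT hprop

/-- transport of a proper model along an open immersion of the base. -/
theorem model_of_isOpenImmersion {X Y X₁ Y₁ : Scheme.{u}} {ι : X₁ ⟶ X} {f₁ : X₁ ⟶ Y₁}
    {f : X ⟶ Y} {j : Y₁ ⟶ Y} [IsOpenImmersion j] (hsq : IsPullback ι f₁ f j) (Z : Set X)
    (U₁ : Y₁.Opens) {T : Scheme.{u}} (i₁ : T ⟶ (f₁ ⁻¹ᵁ U₁).toScheme)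
    (hrange : Set.range i₁ = (f₁ ⁻¹ᵁ U₁).ι ⁻¹' (ι ⁻¹' Z)) (hprop : IsProper (i₁ ≫ f₁ ∣_ U₁)) :
    ∃ (i : T ⟶ (f ⁻¹ᵁ (j ''ᵁ U₁)).toScheme),
      Set.range i = (f ⁻¹ᵁ (j ''ᵁ U₁)).ι ⁻¹' Z ∧ IsProper (i ≫ f ∣_ (j ''ᵁ U₁)) := by
  let k : T ⟶ X := i₁ ≫ (f₁ ⁻¹ᵁ U₁).ι ≫ ι
  have hkapp : ∀ t, k t = ι ((f₁ ⁻¹ᵁ U₁).ι (i₁ t)) := by
    intro t
    change (i₁ ≫ (f₁ ⁻¹ᵁ U₁).ι ≫ ι) t = _
    rw [Scheme.Hom.comp_apply, Scheme.Hom.comp_apply]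
  have hfι : ∀ x₁ : X₁, f (ι x₁) = j (f₁ x₁) := by
    intro x₁
    rw [← Scheme.Hom.comp_apply, ← Scheme.Hom.comp_apply, hsq.w]
  have hk : Set.range k = Z ∩ f ⁻¹' ((j ''ᵁ U₁ : Y.Opens) : Set Y) := by
    ext x
    constructor
    · rintro ⟨t, rfl⟩
      rw [hkapp]
      have h1 : i₁ t ∈ (f₁ ⁻¹ᵁ U₁).ι ⁻¹' (ι ⁻¹' Z) := by
        rw [← hrange]
        exact ⟨t, rfl⟩
      refine ⟨h1, ?_⟩
      change f (ι ((f₁ ⁻¹ᵁ U₁).ι (i₁ t))) ∈ j ''ᵁ U₁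
      rw [hfι]
      refine ⟨f₁ ((f₁ ⁻¹ᵁ U₁).ι (i₁ t)), ?_, rfl⟩
      rw [Scheme.Opens.ι_apply]
      exact (i₁ t).2
    · rintro ⟨hxZ, hxU⟩
      obtain ⟨u₁, hu₁, hu₁x⟩ := hxU
      obtain ⟨x₁, hx₁1, hx₁2⟩ := Scheme.exists_preimage_of_isPullback hsq x u₁ hu₁x.symm
      have hx₁U : x₁ ∈ f₁ ⁻¹ᵁ U₁ := by
        change f₁ x₁ ∈ U₁
        rw [hx₁2]
        exact hu₁
      have h1 : (⟨x₁, hx₁U⟩ : ↥(f₁ ⁻¹ᵁ U₁)) ∈ Set.range i₁ := by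
        rw [hrange]
        change ι ((f₁ ⁻¹ᵁ U₁).ι ⟨x₁, hx₁U⟩) ∈ Z
        rw [Scheme.Opens.ι_apply, hx₁1]
        exact hxZ
      obtain ⟨t, ht⟩ := h1
      refine ⟨t, ?_⟩
      rw [hkapp, ht, Scheme.Opens.ι_apply, hx₁1]
  have hkU : Set.range k ⊆ Set.range (f ⁻¹ᵁ (j ''ᵁ U₁)).ι := by
    rw [Scheme.Opens.range_ι, hk]
    exact Set.inter_subset_right
  let i : T ⟶ (f ⁻¹ᵁ (j ''ᵁ U₁)).toScheme := IsOpenImmersion.lift (f ⁻¹ᵁ (j ''ᵁ U₁)).ι k hkU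
  have hi : i ≫ (f ⁻¹ᵁ (j ''ᵁ U₁)).ι = k := IsOpenImmersion.lift_fac _ _ _
  refine ⟨i, ?_, ?_⟩
  · ext w
    constructor
    · rintro ⟨t, rfl⟩
      have h1 : (f ⁻¹ᵁ (j ''ᵁ U₁)).ι (i t) ∈ Set.range k := ⟨t, by rw [← hi, Scheme.Hom.comp_apply]⟩
      rw [hk] at h1
      exact h1.1
    · intro hw
      have h1 : (f ⁻¹ᵁ (j ''ᵁ U₁)).ι w ∈ Set.range k := by
        rw [hk]
        refine ⟨hw, ?_⟩
        rw [Scheme.Opens.ι_apply]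
        exact w.2
      obtain ⟨t, ht⟩ := h1
      refine ⟨t, (f ⁻¹ᵁ (j ''ᵁ U₁)).ι.isOpenEmbedding.injective ?_⟩
      rw [← Scheme.Hom.comp_apply, hi]
      exact ht
  · have h1 : i ≫ f ∣_ (j ''ᵁ U₁) = (i₁ ≫ f₁ ∣_ U₁) ≫ (j.isoImage U₁).hom := by
      rw [← cancel_mono (j ''ᵁ U₁).ι]
      simp only [Category.assoc, morphismRestrict_ι, Scheme.Hom.isoImage_hom_ι]
      rw [← Category.assoc, hi, morphismRestrict_ι_assoc, ← hsq.w]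
      change (i₁ ≫ (f₁ ⁻¹ᵁ U₁).ι ≫ ι) ≫ f = _
      simp only [Category.assoc]
    rw [h1]
    haveI := hprop
    infer_instance

end Groth.Agent.Lib.helper9.PropDvr
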