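import Groth.Agent.Lib.Helper9.SecProper3

/-!
# Section components are proper near a point with proper component (helper9)

* `exists_proper_model_sectionComponents`: `f : X ⟶ Y` separated of finite presentation with a section
  `g`, `X⁰_y` proper over `κ(y)`; then over an open neighbourhood `U` of `y` the set `X⁰ ∩ f⁻¹(U)` is
  the image of a scheme proper over `U`.
* `exists_isProper_reduced_sectionComponents`: the closed + reduced structure form (EGA IV 15.7.6-type
  statement without Noetherian hypotheses).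
-/

set_option autoImplicit false
set_option linter.style.haveILetI false
set_option backward.isDefEq.respectTransparency false

universe u

open CategoryTheory CategoryTheory.Limits AlgebraicGeometry TopologicalSpace Topology

namespace Groth.Agent.Lib.helper9.PropDvr

open Groth.Agent.Lib.helper9 Groth.Agent.Lib.helper9.SecFlat

/-- affine base. -/
theorem exists_proper_model_sectionComponents_affine {A : Type u} [CommRing A] {X : Scheme.{u}}
    (f : X ⟶ Spec (CommRingCat.of A)) [IsSeparated f] [LocallyOfFinitePresentation f]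
    [QuasiCompact f] [QuasiSeparated f] (g : Spec (CommRingCat.of A) ⟶ X) (hg : g ≫ f = 𝟙 _)
    (y : Spec (CommRingCat.of A))
    (hprop : FibClopenProper f (MoreMor.sectionComponents f g) y) :
    ∃ U : (Spec (CommRingCat.of A)).Opens, y ∈ U ∧
      ∃ (T : Scheme.{u}) (i : T ⟶ (f ⁻¹ᵁ U).toScheme),
        Set.range i = (f ⁻¹ᵁ U).ι ⁻¹' MoreMor.sectionComponents f g ∧ IsProper (i ≫ f ∣_ U) := by
  obtain ⟨A₀, hfg, X₀, f₀, gX, g₀, hsep, hlfp, hqc, hqs, hc, hg₀, hcompat⟩ :=
    exists_separated_model_with_section A f g hg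
  haveI := hsep
  haveI := hlfp
  haveI := hqc
  haveI := hqs
  haveI : Algebra.FiniteType ℤ ↥A₀ := (Subalgebra.fg_iff_finiteType A₀).mp hfg
  haveI : IsNoetherianRing ↥A₀ := Algebra.FiniteType.isNoetherianRing ℤ ↥A₀
  set b := Spec.map (CommRingCat.ofHom (algebraMap (↥A₀) A)) with hb
  have hsc : MoreMor.sectionComponents f g = gX ⁻¹' MoreMor.sectionComponents f₀ g₀ :=
    Groth.Agent.S1324.result f₀ g₀ hg₀ f gX b hc g hg hcompat
  have hprop₀ : FibClopenProper f₀ (MoreMor.sectionComponents f₀ g₀) (b y) := by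
    refine fibClopenProper_descend hc y _ (fibGeomConn_sectionComponents f₀ g₀ hg₀ (b y)).1
      (isOpen_fiber_sectionComponents f₀ g₀ (b y) (apply_section f₀ g₀ hg₀ (b y))) ?_
    rw [← hsc]
    exact hprop
  obtain ⟨U₀, hyU₀, T₀, i₀, hrange₀, hprop₀'⟩ :=
    exists_proper_model_sectionComponents_noeth f₀ g₀ hg₀ (b y) hprop₀
  obtain ⟨T, i, hrange, hprop'⟩ := model_baseChange hc _ U₀ i₀ hrange₀ hprop₀'
  refine ⟨b ⁻¹ᵁ U₀, hyU₀, T, i, ?_, hprop'⟩
  rw [hrange, hsc]

/-- **Section components are proper near a point with proper component** (model form). -/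
theorem exists_proper_model_sectionComponents {X Y : Scheme.{u}} (f : X ⟶ Y) [IsSeparated f]
    [LocallyOfFinitePresentation f] [QuasiCompact f] [QuasiSeparated f] (g : Y ⟶ X)
    (hg : g ≫ f = 𝟙 Y) (y : Y)
    (hprop : FibClopenProper f (MoreMor.sectionComponents f g) y) :
    ∃ U : Y.Opens, y ∈ U ∧ ∃ (T : Scheme.{u}) (i : T ⟶ (f ⁻¹ᵁ U).toScheme),
      Set.range i = (f ⁻¹ᵁ U).ι ⁻¹' MoreMor.sectionComponents f g ∧ IsProper (i ≫ f ∣_ U) := by
  obtain ⟨_, ⟨V, hV, rfl⟩, hyV, -⟩ :=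
    Y.isBasis_affineOpens.exists_subset_of_mem_open (Set.mem_univ y) isOpen_univ
  set j : Spec Γ(Y, V) ⟶ Y := hV.fromSpec with hj
  set f₁ : pullback f j ⟶ Spec Γ(Y, V) := pullback.snd f j with hf₁
  set ι : pullback f j ⟶ X := pullback.fst f j with hι
  have hsq : IsPullback ι f₁ f j := IsPullback.of_hasPullback f j
  let g₁ : Spec Γ(Y, V) ⟶ pullback f j := pullback.lift (j ≫ g) (𝟙 _) (by
    rw [Category.assoc, hg, Category.comp_id, Category.id_comp])
  have hg₁ : g₁ ≫ f₁ = 𝟙 _ := pullback.lift_snd _ _ _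
  have hg₁ι : g₁ ≫ ι = j ≫ g := pullback.lift_fst _ _ _
  have hsc : MoreMor.sectionComponents f₁ g₁ = ι ⁻¹' MoreMor.sectionComponents f g :=
    Groth.Agent.S1324.result f g hg f₁ ι j hsq g₁ hg₁ hg₁ι
  obtain ⟨y₁, hy₁⟩ : ∃ y₁, j y₁ = y := by
    have : y ∈ Set.range j := by
      rw [hj, hV.range_fromSpec]
      exact hyV
    exact this
  have hprop₁ : FibClopenProper f₁ (MoreMor.sectionComponents f₁ g₁) y₁ := by
    rw [hsc]
    exact fibClopenProper_of_isPullback hsq y₁ _ (by rw [hy₁]; exact hprop)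
  obtain ⟨U₁, hyU₁, T, i₁, hrange₁, hprop₁'⟩ :=
    exists_proper_model_sectionComponents_affine (A := Γ(Y, V)) f₁ g₁ hg₁ y₁ hprop₁
  rw [hsc] at hrange₁
  obtain ⟨i, hrange, hprop'⟩ := model_of_isOpenImmersion hsq _ U₁ i₁ hrange₁ hprop₁'
  exact ⟨j ''ᵁ U₁, ⟨y₁, hyU₁, hy₁⟩, T, i, hrange, hprop'⟩

/-- the hypothesis of EGA IV 15.7.6 in terms of `FibClopenProper`. -/
theorem fibClopenProper_sectionComponents_of {X Y : Scheme.{u}} (f : X ⟶ Y) (g : Y ⟶ X)
    (hg : g ≫ f = 𝟙 Y) (y : Y)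
    (hop : IsOpen ((f.fiberι y) ⁻¹' connectedComponentIn (f ⁻¹' {y}) (g y)))
    (hprop : IsProper (Scheme.Opens.ι
      (⟨(f.fiberι y) ⁻¹' connectedComponentIn (f ⁻¹' {y}) (g y), hop⟩ : (f.fiber y).Opens) ≫
      f.fiberToSpecResidueField y)) :
    FibClopenProper f (MoreMor.sectionComponents f g) y := by
  have hset : (f.fiberι y) ⁻¹' MoreMor.sectionComponents f g =
      (f.fiberι y) ⁻¹' connectedComponentIn (f ⁻¹' {y}) (g y) := by
    ext w
    have hw : f ((f.fiberι y) w) = y := by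
      have : (f.fiberι y) w ∈ Set.range (f.fiberι y) := ⟨w, rfl⟩
      rw [Scheme.Hom.range_fiberι] at this
      exact this
    rw [Set.mem_preimage, Set.mem_preimage, mem_sectionComponents_iff f g _ y hw]
  have hop' : IsOpen ((f.fiberι y) ⁻¹' MoreMor.sectionComponents f g) := by
    rw [hset]
    exact hop
  refine ⟨(fibGeomConn_sectionComponents f g hg y).1, hop', ?_⟩
  have h2 : (⟨(f.fiberι y) ⁻¹' MoreMor.sectionComponents f g, hop'⟩ : (f.fiber y).Opens) =
      ⟨(f.fiberι y) ⁻¹' connectedComponentIn (f ⁻¹' {y}) (g y), hop⟩ := Opens.ext hset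
  rw [h2]
  exact hprop

/-- **EGA IV 15.7.6-type statement**: closedness and properness of the reduced structure. -/
theorem exists_isProper_reduced_sectionComponents {X Y : Scheme.{u}} (f : X ⟶ Y) [IsSeparated f]
    [LocallyOfFinitePresentation f] [QuasiCompact f] [QuasiSeparated f] (g : Y ⟶ X)
    (hg : g ≫ f = 𝟙 Y) (y : Y)
    (hprop : FibClopenProper f (MoreMor.sectionComponents f g) y) :
    ∃ U : Y.Opens, y ∈ U ∧ ∃ hC : IsClosed ((f ⁻¹ᵁ U).ι ⁻¹' MoreMor.sectionComponents f g),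
      IsProper ((Scheme.IdealSheafData.vanishingIdeal
        (⟨(f ⁻¹ᵁ U).ι ⁻¹' MoreMor.sectionComponents f g, hC⟩ : Closeds ↥(f ⁻¹ᵁ U))).subschemeι ≫
        (f ∣_ U)) := by
  obtain ⟨U, hyU, T, i, hrange, hprop'⟩ := exists_proper_model_sectionComponents f g hg y hprop
  refine ⟨U, hyU, ?_⟩
  haveI := hprop'
  haveI : IsSeparated (f ∣_ U) := IsZariskiLocalAtTarget.restrict (P := @IsSeparated) inferInstance U
  haveI : LocallyOfFiniteType (f ∣_ U) :=
    IsZariskiLocalAtTarget.restrict (P := @LocallyOfFiniteType) inferInstance U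
  exact isProper_subschemeι_of_model (f ∣_ U) i _ hrange

end Groth.Agent.Lib.helper9.PropDvr
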