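/-
Helper library (helper9): lower semicontinuity of the geometric number of connected components,
part 1: the finite case.

For a finite morphism `π : S' ⟶ Y` which is universally open at all points over `y`, the geometric
number of points of the fibres is `≥ n(y)` in a neighbourhood of `y` (via the étale-local splitting
of finite morphisms, helper5 `FinSplit2`).
-/
import Mathlib
import Groth.Prelude.Def_MoreMor
import Groth.Prelude.Def_EGA43
import Groth.Agent.Lib.Helper5.FinSplit2
import Groth.Agent.Lib.Helper13.GF3
import Groth.Agent.Lib.Helper13.WT8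
import Groth.Agent.Lib.Helper3.GeomFiberBC

set_option autoImplicit false
set_option linter.style.haveILetI false
set_option backward.isDefEq.respectTransparency false

namespace Groth.Agent.Lib.helper9.SemiCont

open AlgebraicGeometry CategoryTheory Limits

universe u

section Count

variable {X Y : Scheme.{u}} (f : X ⟶ Y) [LocallyQuasiFinite f] [LocallyOfFiniteType f]
  [QuasiCompact f]

/-- The geometric number of points of a quasi-finite fibre is at least its number of points. -/
theorem natCard_fibre_le (y : Y) :
    (Nat.card {p : X // f p = y} : ℕ∞) ≤ MoreMor.nGeomConnComp f y := by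
  have hfin : (f ⁻¹' {y}).Finite := f.finite_preimage_singleton y
  obtain ⟨n, hn1, -, hn3⟩ := Groth.Agent.Lib.helper13.GF.nGeom_eq f y hfin
  haveI hF : Finite {p : X // f p = y} := hfin.to_subtype
  have hres : ∀ p, (f.residueFieldMap p).hom.Finite := fun p ↦
    Groth.Agent.Lib.helper13.EL.finite_residueFieldMap_of_quasiFiniteAt (f.quasiFiniteAt p)
  have hone : ∀ p : {p : X // f p = y}, (1 : ℤ) ≤ (1 : ℤ) *
      (letI := (f.residueFieldMap p.1).hom.toAlgebra;
        (Field.finSepDegree (Y.residueField (f p.1)) (X.residueField p.1) : ℤ)) := by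
    intro p
    letI := (f.residueFieldMap p.1).hom.toAlgebra
    haveI : Module.Finite (Y.residueField (f p.1)) (X.residueField p.1) := hres p.1
    have h0 : Field.finSepDegree (Y.residueField (f p.1)) (X.residueField p.1) ≠ 0 := NeZero.ne _
    rw [one_mul]
    exact_mod_cast Nat.one_le_iff_ne_zero.mpr h0
  have hle : (Nat.card {p : X // f p = y} : ℤ) ≤ n := by
    rw [hn3]
    unfold MoreMor.fibreIntegral
    letI := Fintype.ofFinite {p : X // f p = y}
    rw [finsum_eq_sum_of_fintype, Nat.card_eq_fintype_card]
    calc ((Fintype.card {p : X // f p = y} : ℕ) : ℤ)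
        = ∑ _p : {p : X // f p = y}, (1 : ℤ) := by simp
      _ ≤ _ := Finset.sum_le_sum (fun p _ => hone p)
  rw [hn1]
  exact_mod_cast hle

variable {T : Scheme.{u}} (g : T ⟶ Y)

/-- If all points of the base change over `t` have purely inseparable residue field extensions, the
fibre of the base change over `t` has exactly `n(g t)` points. -/
theorem nGeomConnComp_eq_natCard_of_PI (t : T)
    (hPI : ∀ w : ↑(pullback f g), pullback.snd f g w = t →
      ((pullback.snd f g).residueFieldMap w).hom.IsPurelyInseparable) :
    MoreMor.nGeomConnComp f (g t) =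
      (Nat.card {p : ↑(pullback f g) // pullback.snd f g p = t} : ℕ∞) := by
  have hfin : (f ⁻¹' {g t}).Finite := f.finite_preimage_singleton _
  obtain ⟨n, hn1, -, hn3⟩ := Groth.Agent.Lib.helper13.GF.nGeom_eq f (g t) hfin
  have sq : IsPullback (pullback.fst f g) (pullback.snd f g) f g := IsPullback.of_hasPullback f g
  have hres : ∀ p, (f.residueFieldMap p).hom.Finite := fun p ↦
    Groth.Agent.Lib.helper13.EL.finite_residueFieldMap_of_quasiFiniteAt (f.quasiFiniteAt p)
  have hres' : ∀ p, ((pullback.snd f g).residueFieldMap p).hom.Finite := fun p ↦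
    Groth.Agent.Lib.helper13.EL.finite_residueFieldMap_of_quasiFiniteAt
      ((pullback.snd f g).quasiFiniteAt p)
  have hbc := Groth.Agent.Lib.helper13.WT.fibreIntegral_baseChange sq (fun _ ↦ 1) t hfin hres hres'
  have hfin' : ((pullback.snd f g) ⁻¹' {t}).Finite := (pullback.snd f g).finite_preimage_singleton _
  haveI hF : Finite {p : ↑(pullback f g) // pullback.snd f g p = t} := hfin'.to_subtype
  have hone : ∀ p : {p : ↑(pullback f g) // pullback.snd f g p = t},
      (letI := ((pullback.snd f g).residueFieldMap p.1).hom.toAlgebra;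
        Field.finSepDegree (T.residueField (pullback.snd f g p.1))
          ((pullback f g).residueField p.1)) = 1 := by
    intro p
    have hPI' := hPI p.1 p.2
    letI := ((pullback.snd f g).residueFieldMap p.1).hom.toAlgebra
    haveI : IsPurelyInseparable (T.residueField (pullback.snd f g p.1))
      ((pullback f g).residueField p.1) := hPI'
    exact IsPurelyInseparable.finSepDegree_eq_one _ _
  have hL : (∑ᶠ p : {p : ↑(pullback f g) // pullback.snd f g p = t}, (1 : ℤ) *
      (letI := ((pullback.snd f g).residueFieldMap p.1).hom.toAlgebra;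
        (Field.finSepDegree (T.residueField (pullback.snd f g p.1))
          ((pullback f g).residueField p.1) : ℤ))) =
      (Nat.card {p : ↑(pullback f g) // pullback.snd f g p = t} : ℤ) := by
    have h1 : ∀ p : {p : ↑(pullback f g) // pullback.snd f g p = t}, (1 : ℤ) *
      (letI := ((pullback.snd f g).residueFieldMap p.1).hom.toAlgebra;
        (Field.finSepDegree (T.residueField (pullback.snd f g p.1))
          ((pullback f g).residueField p.1) : ℤ)) = 1 := by
      intro p
      rw [one_mul]
      exact_mod_cast hone p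
    rw [finsum_congr h1]
    letI := Fintype.ofFinite {p : ↑(pullback f g) // pullback.snd f g p = t}
    rw [finsum_eq_sum_of_fintype, Finset.sum_const, Finset.card_univ, Nat.card_eq_fintype_card]
    simp
  have hR : (n : ℤ) = (Nat.card {p : ↑(pullback f g) // pullback.snd f g p = t} : ℤ) := by
    rw [hn3, ← hL]
    exact hbc.symm
  have hn : n = Nat.card {p : ↑(pullback f g) // pullback.snd f g p = t} := by exact_mod_cast hR
  rw [hn1, hn]

end Count

/-- **Lower semicontinuity, finite case.** -/
theorem exists_nhds_le_of_isFinite {S' Y : Scheme.{u}} (π : S' ⟶ Y) [IsFinite π] (y : Y)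
    (h : ∀ s : S', π s = y → EGA43.IsUnivOpenAt π s) :
    ∃ V ∈ nhds y, ∀ z ∈ V, MoreMor.nGeomConnComp π y ≤ MoreMor.nGeomConnComp π z := by
  classical
  obtain ⟨Y', e, y', he, hey, Y'', hy'', A, hA, W, zz, hzW, hzy, huniq, hdisj, hcov, hPI, -, -⟩ :=
    Groth.Agent.Lib.helper5.FinSplit.exists_split_pre π (𝟙 S') y (fun x _ => ⟨x, rfl⟩)
      (M := Empty) (fun k => k.elim) (fun k => k.elim)
  haveI := he
  haveI := hA
  set p := pullback.snd π e with hp
  -- the points over `y'`
  have hpts : ∀ w, p w = y' → ∃ a, w = zz a := by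
    intro w hw
    obtain ⟨a, ha⟩ := hcov w (by rw [hw]; exact hy'')
    exact ⟨a, huniq a w ha hw⟩
  have hinj : Function.Injective zz := by
    intro a b hab
    by_contra hne
    refine hdisj a b hne (zz a) (hzW a) (hab ▸ hzW b) ?_
    rw [hzy a]
    exact hy''
  -- the count at `y`
  have hcount : MoreMor.nGeomConnComp π y = (Nat.card A : ℕ∞) := by
    rw [← hey, nGeomConnComp_eq_natCard_of_PI π e y' (fun w hw => by
      obtain ⟨a, rfl⟩ := hpts w hw
      exact hPI a)]
    congr 1
    refine (Nat.card_congr (Equiv.ofBijective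
      (fun a => (⟨zz a, hzy a⟩ : {q : ↑(pullback π e) // pullback.snd π e q = y'})) ⟨?_, ?_⟩)).symm
    · intro a b hab
      exact hinj (congrArg Subtype.val hab)
    · rintro ⟨w, hw⟩
      obtain ⟨a, rfl⟩ := hpts w hw
      exact ⟨a, rfl⟩
  -- openness of the pieces
  have hopen : ∀ a, p '' (W a : Set ↑(pullback π e)) ∈ nhds y' := by
    intro a
    have h1 : π (pullback.fst π e (zz a)) = y := by
      rw [← Scheme.Hom.comp_apply, pullback.condition, Scheme.Hom.comp_apply]
      show e (p (zz a)) = y
      rw [hzy a, hey]
    have h2 := h _ h1 Y' e (zz a) rfl (W a : Set ↑(pullback π e)) ((W a).2.mem_nhds (hzW a))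
    have h3 : (pullback.snd π e) (zz a) = y' := hzy a
    rw [h3] at h2
    exact h2
  set N : Set Y' := (Y'' : Set Y') ∩ ⋂ a, p '' (W a : Set ↑(pullback π e)) with hNdef
  have hN : N ∈ nhds y' :=
    Filter.inter_mem (Y''.2.mem_nhds hy'') ((Filter.iInter_mem).mpr hopen)
  refine ⟨e '' N, ?_, ?_⟩
  · rw [← hey]
    exact e.isOpenMap.image_mem_nhds hN
  rintro _ ⟨z', ⟨hz'1, hz'2⟩, rfl⟩
  rw [hcount]
  have hbc : MoreMor.nGeomConnComp p z' = MoreMor.nGeomConnComp π (e z') :=
    Groth.Agent.Lib.helper3.GeomFiberBC.nGeomConnComp_baseChange π p (pullback.fst π e) e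
      (IsPullback.of_hasPullback π e) z'
  rw [← hbc]
  refine le_trans ?_ (natCard_fibre_le p z')
  have hw : ∀ a, ∃ w ∈ (W a : Set ↑(pullback π e)), p w = z' := fun a =>
    Set.mem_iInter.mp hz'2 a
  choose w hwW hwz using hw
  have hinj' : Function.Injective
      (fun a => (⟨w a, hwz a⟩ : {q : ↑(pullback π e) // p q = z'})) := by
    intro a b hab
    by_contra hne
    have hwab : w a = w b := congrArg Subtype.val hab
    refine hdisj a b hne (w a) (hwW a) (hwab ▸ hwW b) ?_
    have : pullback.snd π e (w a) = z' := hwz a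
    rw [this]
    exact hz'1
  haveI : Finite {q : ↑(pullback π e) // p q = z'} :=
    (p.finite_preimage_singleton z').to_subtype
  exact_mod_cast Nat.card_le_card_of_injective _ hinj'

end Groth.Agent.Lib.helper9.SemiCont
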