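/-
Helper library (helper9): Stein factorization without Noetherian hypotheses, part 8.

* `finite_connectedComponents_of_noetherianSpace`.
* `nGeomConnComp_lt_top`: the geometric number of connected components of a fibre of a
  quasi-compact morphism locally of finite type is finite.
* `nGeomConnComp_comp_eq`: if `t : X ⟶ S'` is universally closed and geometrically connected, then
  `t ≫ π` and `π` have the same geometric numbers of connected components of fibres.
-/
import Mathlib
import Groth.Agent.Lib.Helper9.NGeom7

set_option autoImplicit false
set_option linter.style.haveILetI false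
set_option backward.isDefEq.respectTransparency false

universe u

open CategoryTheory CategoryTheory.Limits AlgebraicGeometry Opposite

namespace Groth.Agent.Lib.helper9.SteinGen

open Groth.Agent.Lib.helper9.NGeom

theorem finite_connectedComponents_of_noetherianSpace (T : Type*) [TopologicalSpace T]
    [TopologicalSpace.NoetherianSpace T] : Finite (ConnectedComponents T) := by
  have hfin : (irreducibleComponents T).Finite :=
    TopologicalSpace.NoetherianSpace.finite_irreducibleComponents
  haveI : Finite ↥(irreducibleComponents T) := hfin.to_subtype
  have hne : ∀ Z : ↥(irreducibleComponents T), (Z.1 : Set T).Nonempty := fun Z => Z.2.1.1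
  let F : ↥(irreducibleComponents T) → ConnectedComponents T := fun Z =>
    ConnectedComponents.mk (hne Z).some
  refine Finite.of_surjective F ?_
  intro c
  obtain ⟨x, rfl⟩ := ConnectedComponents.surjective_coe c
  refine ⟨⟨irreducibleComponent x, irreducibleComponent_mem_irreducibleComponents x⟩, ?_⟩
  show ConnectedComponents.mk _ = ConnectedComponents.mk x
  rw [ConnectedComponents.coe_eq_coe']
  have hirr : IsPreconnected (irreducibleComponent x) :=
    (isIrreducible_irreducibleComponent (x := x)).isPreirreducible.isPreconnected
  set y := (hne ⟨irreducibleComponent x, irreducibleComponent_mem_irreducibleComponents x⟩).some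
    with hy
  have hy' : y ∈ irreducibleComponent x :=
    (hne ⟨irreducibleComponent x, irreducibleComponent_mem_irreducibleComponents x⟩).some_mem
  have hsub := hirr.subset_connectedComponent mem_irreducibleComponent
  exact hsub hy'

theorem nGeomConnComp_lt_top {X S : Scheme.{u}} (f : X ⟶ S) [LocallyOfFiniteType f]
    [QuasiCompact f] (s : S) : MoreMor.nGeomConnComp f s < ⊤ := by
  have hpb := geomFiber_isPullback f s
  haveI : LocallyOfFiniteType (pullback.snd (f.fiberToSpecResidueField s)
      (Spec.map (CommRingCat.ofHom
        (algebraMap (S.residueField s) (SeparableClosure (S.residueField s)))))) :=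
    MorphismProperty.of_isPullback hpb inferInstance
  haveI : QuasiCompact (pullback.snd (f.fiberToSpecResidueField s)
      (Spec.map (CommRingCat.ofHom
        (algebraMap (S.residueField s) (SeparableClosure (S.residueField s)))))) :=
    MorphismProperty.of_isPullback hpb inferInstance
  haveI : IsLocallyNoetherian (MoreMor.geomFiber f s) :=
    LocallyOfFiniteType.isLocallyNoetherian (pullback.snd (f.fiberToSpecResidueField s)
      (Spec.map (CommRingCat.ofHom
        (algebraMap (S.residueField s) (SeparableClosure (S.residueField s))))))
  haveI : CompactSpace ↥(MoreMor.geomFiber f s) :=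
    QuasiCompact.compactSpace_of_compactSpace (pullback.snd (f.fiberToSpecResidueField s)
      (Spec.map (CommRingCat.ofHom
        (algebraMap (S.residueField s) (SeparableClosure (S.residueField s))))))
  haveI : IsNoetherian (MoreMor.geomFiber f s) := {}
  haveI := finite_connectedComponents_of_noetherianSpace ↥(MoreMor.geomFiber f s)
  exact ENat.card_lt_top.mpr inferInstance

theorem nGeomConnComp_comp_eq {X S' S : Scheme.{u}} (t : X ⟶ S') (π : S' ⟶ S)
    [GeometricallyConnected t] [UniversallyClosed t] (s : S) :
    MoreMor.nGeomConnComp (t ≫ π) s = MoreMor.nGeomConnComp π s := by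
  have h1 := geomFiber_isPullback (t ≫ π) s
  have h2 := geomFiber_isPullback π s
  let φ : MoreMor.geomFiber (t ≫ π) s ⟶ MoreMor.geomFiber π s :=
    h2.lift (geomFiberπ (t ≫ π) s ≫ t) (pullback.snd _ _) (by rw [Category.assoc, h1.w])
  have hφ1 : φ ≫ geomFiberπ π s = geomFiberπ (t ≫ π) s ≫ t := h2.lift_fst _ _ _
  have hφ2 : φ ≫ pullback.snd _ _ = pullback.snd _ _ := h2.lift_snd _ _ _
  have hsq : IsPullback φ (geomFiberπ (t ≫ π) s) (geomFiberπ π s) t := by
    refine IsPullback.of_right ?_ hφ1 h2.flip
    rw [hφ2]
    exact h1.flip
  haveI : GeometricallyConnected φ := MorphismProperty.of_isPullback hsq.flip inferInstance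
  haveI : UniversallyClosed φ := MorphismProperty.of_isPullback hsq.flip inferInstance
  have hq : Topology.IsQuotientMap φ :=
    φ.isClosedMap.isQuotientMap φ.continuous φ.surjective
  exact ENat.card_congr
    (hq.isCoinducing.connectedComponentsHomeomorph φ.isConnected_preimage_singleton).toEquiv

end Groth.Agent.Lib.helper9.SteinGen
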