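/-
Helper library (helper9): lower semicontinuity of the geometric number of connected components,
part 2: proper morphisms over locally Noetherian bases, via the Stein factorization.
-/
import Mathlib
import Groth.Agent.Lib.Helper9.SemiCont1
import Groth.Agent.Lib.Helper9.SteinGen8
import Groth.Agent.Lib.Helper9.SteinGen2
import Groth.Agent.Lib.Helper8.ZConn6

set_option autoImplicit false
set_option linter.style.haveILetI false
set_option backward.isDefEq.respectTransparency false

namespace Groth.Agent.Lib.helper9.SemiCont

open AlgebraicGeometry CategoryTheory Limits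
open Groth.Agent.Lib.helper9.SteinGen

universe u

/-- universal openness at a point passes to the second factor of a factorization -/
theorem isUnivOpenAt_of_comp {X S' Y : Scheme.{u}} (t : X ⟶ S') (π : S' ⟶ Y) (x : X)
    (h : EGA43.IsUnivOpenAt (t ≫ π) x) : EGA43.IsUnivOpenAt π (t x) := by
  intro Y' g s'' hs'' U hU
  let T : pullback (t ≫ π) g ⟶ pullback π g := bcMap (t ≫ π) π g t rfl
  have hP : IsPullback T (pullback.fst (t ≫ π) g) (pullback.fst π g) t :=
    isPullback_bcMap _ _ _ _ _
  obtain ⟨w, hw1, hw2⟩ := Scheme.Pullback.exists_preimage_pullback (f := pullback.fst π g)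
    (g := t) s'' x hs''
  let x'' := hP.isoPullback.inv w
  have hx1 : T x'' = s'' := by
    rw [← hw1, ← Scheme.Hom.comp_apply, hP.isoPullback_inv_fst]
  have hx2 : pullback.fst (t ≫ π) g x'' = x := by
    rw [← hw2, ← Scheme.Hom.comp_apply, hP.isoPullback_inv_snd]
  have hT : T ≫ pullback.snd π g = pullback.snd (t ≫ π) g := by
    simp [T, bcMap]
  have h1 := h Y' g x'' hx2 (T ⁻¹' U)
    (T.continuous.continuousAt.preimage_mem_nhds (by rw [hx1]; exact hU))
  have h2 : pullback.snd (t ≫ π) g x'' = pullback.snd π g s'' := by
    rw [← hT, Scheme.Hom.comp_apply, hx1]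
  have h2' : (pullback.snd (t ≫ π) g).base x'' = (pullback.snd π g).base s'' := h2
  rw [h2'] at h1
  refine Filter.mem_of_superset h1 ?_
  rintro _ ⟨a, ha, rfl⟩
  refine ⟨T a, ha, ?_⟩
  show pullback.snd π g (T a) = pullback.snd (t ≫ π) g a
  rw [← Scheme.Hom.comp_apply, hT]

variable {X Y : Scheme.{u}} [IsLocallyNoetherian Y] (f : X ⟶ Y) [IsProper f]

/-- the geometric number of connected components of the fibres of a proper morphism is computed
by the finite part of the Stein factorization -/
theorem nGeomConnComp_eq_fromNormalization (z : Y) :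
    MoreMor.nGeomConnComp f z = MoreMor.nGeomConnComp f.fromNormalization z := by
  haveI := Groth.Agent.Lib.helper8.ZConn.isProper_toNormalization f
  haveI := Groth.Agent.Lib.helper8.ZConn.geometricallyConnected_toNormalization f
  have := nGeomConnComp_comp_eq f.toNormalization f.fromNormalization z
  rwa [f.toNormalization_fromNormalization] at this

/-- **Lower semicontinuity via the Stein factorization.** -/
theorem exists_nhds_le_of_isProper (y : Y)
    (h : ∀ s : ↑f.normalization, f.fromNormalization s = y →
      EGA43.IsUnivOpenAt f.fromNormalization s) :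
    ∃ V ∈ nhds y, ∀ z ∈ V, MoreMor.nGeomConnComp f y ≤ MoreMor.nGeomConnComp f z := by
  haveI := Groth.Agent.Lib.helper8.ZConn.isFinite_fromNormalization f
  obtain ⟨V, hV, hV'⟩ := exists_nhds_le_of_isFinite f.fromNormalization y h
  refine ⟨V, hV, fun z hz => ?_⟩
  rw [nGeomConnComp_eq_fromNormalization f y, nGeomConnComp_eq_fromNormalization f z]
  exact hV' z hz

/-- **EGA IV 15.5.9 (i)** (= S3415). -/
theorem exists_nhds_le_of_isUnivOpenAt (y : Y)
    (h : ∀ x : X, f.base x = y → EGA43.IsUnivOpenAt f x) :
    ∃ V ∈ nhds y, ∀ z ∈ V, MoreMor.nGeomConnComp f y ≤ MoreMor.nGeomConnComp f z := by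
  refine exists_nhds_le_of_isProper f y (fun s hs => ?_)
  haveI := Groth.Agent.Lib.helper8.ZConn.geometricallyConnected_toNormalization f
  obtain ⟨x, rfl⟩ := f.toNormalization.surjective s
  apply isUnivOpenAt_of_comp
  have e : f.toNormalization ≫ f.fromNormalization = f := f.toNormalization_fromNormalization
  have hx : f x = y := by
    rw [← hs, ← Scheme.Hom.comp_apply, e]
  exact (congrArg (fun φ => EGA43.IsUnivOpenAt φ x) e).mpr (h x hx)

end Groth.Agent.Lib.helper9.SemiCont
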