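/-
Helper library (helper9): lower semicontinuity of the geometric number of connected components,
part 3: flat proper morphisms of finite presentation over arbitrary bases (Noetherian
approximation).
-/
import Mathlib
import Groth.Agent.Lib.Helper9.SemiCont2
import Groth.Agent.Lib.Helper9.GROpen3

set_option autoImplicit false
set_option linter.style.haveILetI false
set_option backward.isDefEq.respectTransparency false

namespace Groth.Agent.Lib.helper9.SemiCont

open AlgebraicGeometry CategoryTheory Limits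

universe u

/-- a universally open morphism is universally open at every point -/
theorem isUnivOpenAt_of_universallyOpen {X Y : Scheme.{u}} (f : X ⟶ Y) [UniversallyOpen f]
    (x : X) : EGA43.IsUnivOpenAt f x := by
  intro Y' g x' _ U hU
  exact (pullback.snd f g).isOpenMap.image_mem_nhds hU

/-- **Lower semicontinuity for flat proper morphisms of finite presentation**, pointwise form. -/
theorem exists_nhds_le_of_flat {X S : Scheme.{u}} (f : X ⟶ S) [IsProper f] [Flat f]
    [LocallyOfFinitePresentation f] (s : S) :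
    ∃ V ∈ nhds s, ∀ z ∈ V, MoreMor.nGeomConnComp f s ≤ MoreMor.nGeomConnComp f z := by
  obtain ⟨U, hU, hsU⟩ : ∃ U : S.Opens, IsAffineOpen U ∧ s ∈ U := by
    obtain ⟨_, ⟨U, hU, rfl⟩, hsU, -⟩ :=
      S.isBasis_affineOpens.exists_subset_of_mem_open (Set.mem_univ s) isOpen_univ
    exact ⟨U, hU, hsU⟩
  let A : CommRingCat.{u} := Γ(S, U)
  let fU : (f ⁻¹ᵁ U : Scheme.{u}) ⟶ (U : Scheme.{u}) := f ∣_ U
  have hpbU : IsPullback (f ⁻¹ᵁ U).ι fU f U.ι := (isPullback_morphismRestrict f U).flip
  haveI : IsProper fU := MorphismProperty.of_isPullback hpbU inferInstance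
  haveI : Flat fU := MorphismProperty.of_isPullback hpbU inferInstance
  haveI : LocallyOfFinitePresentation fU := MorphismProperty.of_isPullback hpbU inferInstance
  let ε : (U : Scheme.{u}) ≅ Spec (CommRingCat.of ↑A) := hU.isoSpec
  let f' : (f ⁻¹ᵁ U : Scheme.{u}) ⟶ Spec (CommRingCat.of ↑A) := fU ≫ ε.hom
  haveI : IsProper f' := inferInstanceAs (IsProper (fU ≫ ε.hom))
  haveI : Flat f' := inferInstanceAs (Flat (fU ≫ ε.hom))
  haveI : LocallyOfFinitePresentation f' :=
    inferInstanceAs (LocallyOfFinitePresentation (fU ≫ ε.hom))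
  obtain ⟨A₀, hA₀, X₀, f₀, g, hfl, hpr, hlfp, hpb⟩ :=
    Groth.Agent.Lib.helper9.GROpen.exists_flat_proper_model (↑A) f'
  haveI := hfl
  haveI := hpr
  haveI := hlfp
  haveI : Algebra.FiniteType ℤ ↥A₀ := (Subalgebra.fg_iff_finiteType _).mp hA₀
  haveI : IsNoetherianRing ↥A₀ := Algebra.FiniteType.isNoetherianRing ℤ ↥A₀
  let b : (U : Scheme.{u}) ⟶ Spec (CommRingCat.of ↥A₀) :=
    ε.hom ≫ Spec.map (CommRingCat.ofHom (algebraMap ↥A₀ ↑A))
  have hpb' : IsPullback g fU f₀ b := by
    have hleft : IsPullback (𝟙 _) fU f' ε.hom := IsPullback.of_horiz_isIso ⟨by simp [f']⟩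
    have := hleft.paste_horiz hpb
    rwa [Category.id_comp] at this
  have key : ∀ u : (U : Scheme.{u}),
      MoreMor.nGeomConnComp f (U.ι u) = MoreMor.nGeomConnComp f₀ (b u) := by
    intro u
    rw [← Groth.Agent.Lib.helper3.GeomFiberBC.nGeomConnComp_baseChange f fU _ U.ι hpbU u,
      Groth.Agent.Lib.helper3.GeomFiberBC.nGeomConnComp_baseChange f₀ fU g b hpb' u]
  obtain ⟨V₀, hV₀, hV₀'⟩ := exists_nhds_le_of_isUnivOpenAt f₀ (b ⟨s, hsU⟩)
    (fun x _ => isUnivOpenAt_of_universallyOpen f₀ x)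
  refine ⟨U.ι '' (b ⁻¹' V₀), ?_, ?_⟩
  · have h1 : b ⁻¹' V₀ ∈ nhds (⟨s, hsU⟩ : (U : Scheme.{u})) :=
      b.continuous.continuousAt.preimage_mem_nhds hV₀
    exact U.ι.isOpenEmbedding.isOpenMap.image_mem_nhds h1
  · rintro _ ⟨u, hu, rfl⟩
    have h1 := key ⟨s, hsU⟩
    have h2 := key u
    have h3 : U.ι ⟨s, hsU⟩ = s := rfl
    rw [h3] at h1
    rw [h1, h2]
    exact hV₀' _ hu

/-- **Lower semicontinuity for flat proper morphisms of finite presentation** (= S1363). -/
theorem lowerSemicontinuous_of_flat {X S : Scheme.{u}} (f : X ⟶ S) [IsProper f] [Flat f]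
    [LocallyOfFinitePresentation f] :
    LowerSemicontinuous (fun s : ↑S => MoreMor.nGeomConnComp f s) := by
  intro s a ha
  obtain ⟨V, hV, hV'⟩ := exists_nhds_le_of_flat f s
  exact Filter.mem_of_superset hV (fun z hz => lt_of_lt_of_le ha (hV' z hz))

end Groth.Agent.Lib.helper9.SemiCont
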