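import Mathlib
import Groth.Agent.Lib.Helper9.UOPoint
import Groth.Agent.Lib.Helper3.OpenAtEquidim2
import Groth.Agent.Lib.Helper3.DimCriteria
import Groth.Agent.Lib.Helper3.EquidimCore
import Groth.Agent.Lib.Helper3.EquidimSub
import Groth.Agent.Lib.Helper3.OpenAtFormula

/-!
# Equidimensionality at a point over a geometrically unibranch point (helper9)

EGA IV 14.4.?-type: over a geometrically unibranch point `f x` of a locally Noetherian scheme,
`f` equidimensional at `x` ⇔ `O_{X,x}` equidimensional and `f` (universally) open at the generic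
points of the components of the fibre through `x`.
-/

set_option autoImplicit false
set_option linter.style.haveILetI false
set_option backward.isDefEq.respectTransparency false

namespace Groth.Agent.Lib.helper9.UO

open AlgebraicGeometry CategoryTheory Limits
open Groth.Agent.Lib.helper3.DimIneq Groth.Agent.Lib.helper3.FTField
  Groth.Agent.Lib.helper3.FibreField Groth.Agent.Lib.helper3.DimFibre
  Groth.Agent.Lib.helper3.RelDim Groth.Agent.Lib.helper3.EquidimAt
  Groth.Agent.Lib.helper3.QFinTop Groth.Agent.Lib.helper3.EquidimIrr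
  Groth.Agent.Lib.helper3.OpenAtDim Groth.Agent.Lib.helper3.SubStalk
  Groth.Agent.Lib.helper3.DimCriteria Groth.Agent.Lib.helper3.EquidimSub

universe u

variable {X Y : Scheme.{u}}

theorem isOpenAt_of_isUnivOpenAt (f : X ⟶ Y) (x : X) (h : EGA43.IsUnivOpenAt f x) :
    EGA43.IsOpenAt f.base x :=
  Groth.Agent.Lib.helper8.isOpenAt_snd_of_isPullback h (IsPullback.id_horiz f) x rfl

theorem isEquidimAt_of_specializes {f : X ⟶ Y} {x z : X} (h : EGA43.IsEquidimAt f x) (hz : z ⤳ x)
    (hfz : f.base z = f.base x) : EGA43.IsEquidimAt f z := by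
  obtain ⟨e, U, hxU, hA, hB⟩ := h
  refine ⟨e, U, hz.mem_open U.2 hxU, fun Z hZ => ?_, hB⟩
  obtain ⟨W, hW, hxW, hcl⟩ := hA Z hZ
  exact ⟨W, hW, hfz ▸ hxW, hcl⟩

theorem isGeomUnibranch_congr_point {y y' : Y} (h : y = y')
    (hy : CAlg2.IsGeomUnibranch (Y.presheaf.stalk y)) :
    CAlg2.IsGeomUnibranch (Y.presheaf.stalk y') := by
  subst h
  exact hy

theorem ringKrullDim_stalk_congr_point {y y' : Y} (h : y = y') :
    ringKrullDim (Y.presheaf.stalk y) = ringKrullDim (Y.presheaf.stalk y') := by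
  subst h
  rfl

/-- Universal openness at the generic points of the fibre components through `x`. -/
theorem isUnivOpenAt_fibre_points_of_isEquidimAt [IsLocallyNoetherian Y] (f : X ⟶ Y)
    [LocallyOfFiniteType f] (x : X) (hy : CAlg2.IsGeomUnibranch (Y.presheaf.stalk (f.base x)))
    (h : EGA43.IsEquidimAt f x) (z : ↥(f.fiber (f.base x))) (hz : f.asFiber x ∈ closure {z}) :
    EGA43.IsUnivOpenAt f ((f.fiberι (f.base x)).base z) := by
  have hsp : (f.fiberι (f.base x)).base z ⤳ x := by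
    have h1 : z ⤳ f.asFiber x := specializes_iff_mem_closure.2 hz
    have h2 := h1.map (f.fiberι (f.base x)).continuous
    rwa [f.fiberι_asFiber x] at h2
  have hfz : f.base ((f.fiberι (f.base x)).base z) = f.base x := fiberι_mem f (f.base x) z
  exact isUnivOpenAt_of_isEquidimAt f _ (isGeomUnibranch_congr_point hfz.symm hy)
    (isEquidimAt_of_specializes h hsp hfz)

/-- Over a geometrically unibranch point, equidimensionality of `f` at `x` forces `O_{X,x}` to be
equidimensional (no catenarity hypothesis: the dimension formula comes from openness). -/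
theorem isEquidim_stalk_of_isEquidimAt_of_geomUnibranch [IsLocallyNoetherian Y] (f : X ⟶ Y)
    [LocallyOfFiniteType f] (x : X) (hy : CAlg2.IsGeomUnibranch (Y.presheaf.stalk (f.base x)))
    (h : EGA43.IsEquidimAt f x) : EGA4.IsEquidim (X.presheaf.stalk x) := by
  haveI hXN : IsLocallyNoetherian X := LocallyOfFiniteType.isLocallyNoetherian f
  obtain ⟨e, U, hxU, hA, hB⟩ := h
  have hA' : ∀ Z ∈ irreducibleComponents (↥U : Type u),
      ∃ W ∈ irreducibleComponents (Y : Type u), closure ((U.ι ≫ f).base '' Z) = W := by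
    intro Z hZ
    obtain ⟨W, hW, -, hcl⟩ := hA Z hZ
    exact ⟨W, hW, hcl⟩
  obtain ⟨V, hV, hxV, -⟩ := exists_isAffineOpen_mem_and_subset (x := x) (U := ⊤) trivial
  suffices hkey : ∃ K : WithBot ℕ∞, ∀ 𝔭 ∈ minimalPrimes (X.presheaf.stalk x),
      ringKrullDim (X.presheaf.stalk x ⧸ 𝔭) = K by
    obtain ⟨K, hK⟩ := hkey
    obtain ⟨𝔭', h𝔭', hdim⟩ := exists_minimalPrimes_stalk_dim_eq x
    intro 𝔭 h𝔭
    rw [hK 𝔭 h𝔭, ← hdim, hK 𝔭' h𝔭']
  obtain ⟨N, b, hN, hb, hfd⟩ := fibreDimAt_eq_add f x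
  have hfdx : FlatMor.fibreDimAt f x = (e : WithBot ℕ∞) :=
    fibreDimAt_eq_of_isEquidimAt f U e hB x hxU
  refine ⟨ringKrullDim (Y.presheaf.stalk (f.base x)) + ((e - N : ℕ) : WithBot ℕ∞), ?_⟩
  intro 𝔭 h𝔭
  obtain ⟨ξ, hξV, hξmin, hξle, -, -, hdim𝔭⟩ := exists_point_of_minimalPrimes_stalk hV x hxV 𝔭 h𝔭
  have hξx : ξ ⤳ x := (specializes_iff_primeIdealOf_le hV ξ x hξV hxV).mpr hξle
  have hξc : closure {ξ} ∈ irreducibleComponents X :=
    closure_mem_irreducibleComponents hV ξ hξV hξmin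
  have hξmax : ∀ ω : X, ω ⤳ ξ → ω = ξ := fun ω h =>
    eq_of_specializes_of_closure_mem_irreducibleComponents ξ hξc ω h
  have hξU : ξ ∈ U := hξx.mem_open U.2 hxU
  have hEξ : td (f.residueFieldMap ξ).hom = (e : Cardinal.{u}) :=
    td_eq_of_isEquidimAt f U e hB ξ hξU hξmax
  have hcompξ : closure ({f.base ξ} : Set Y) ∈ irreducibleComponents (Y : Type u) :=
    closure_image_mem_of_isEquidimAt f U hA' ξ hξU hξmax
  -- the reduced closed subscheme on the component
  set Zc : TopologicalSpace.Closeds X := ⟨closure {ξ}, isClosed_closure⟩ with hZc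
  set ι := (Scheme.IdealSheafData.vanishingIdeal Zc).subschemeι with hι
  have hr : Set.range ι = closure {ξ} := by
    rw [hι, Scheme.IdealSheafData.range_subschemeι,
      Scheme.IdealSheafData.coe_support_vanishingIdeal]
    rfl
  have hxr : x ∈ Set.range ι := by
    rw [hr]
    exact hξx.mem_closure
  obtain ⟨w, hw⟩ := hxr
  have ha := dim_stalk_closedImmersion_eq_height' ι w ξ hr x hw hV hxV hξV
  rw [hdim𝔭, ← ha]
  haveI : IsLocallyNoetherian (Scheme.IdealSheafData.vanishingIdeal Zc).subscheme :=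
    LocallyOfFiniteType.isLocallyNoetherian (ι ≫ f)
  -- fibre dimension of the component at `w`
  have hfdw_le : FlatMor.fibreDimAt (ι ≫ f) w ≤ (e : WithBot ℕ∞) := by
    refine (fibreDimAt_comp_le ι f w).trans ?_
    have h1 : FlatMor.fibreDimAt f (ι w) = FlatMor.fibreDimAt f x := by rw [hw]
    rw [h1, hfdx]
  have hfdw_ge : (e : WithBot ℕ∞) ≤ FlatMor.fibreDimAt (ι ≫ f) w :=
    td_le_fibreDimAt_comp ι f ξ hr w e hEξ
  have hfdw : FlatMor.fibreDimAt (ι ≫ f) w = (e : WithBot ℕ∞) := le_antisymm hfdw_le hfdw_ge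
  -- equidimensionality of the component at `w`
  have hgE : EGA43.IsEquidimAt (ι ≫ f) w := by
    apply isEquidimAt_of_forall_maximal (ι ≫ f) w e ?_ hfdw_le
    intro ξ' hξ'c hξ'w
    have hξr : ξ ∈ Set.range ι := by
      rw [hr]
      exact subset_closure rfl
    obtain ⟨ξZ, hξZ⟩ := hξr
    have hsp : ξZ ⤳ ξ' := by
      apply ι.isEmbedding.isInducing.specializes_iff.mp
      rw [hξZ, specializes_iff_mem_closure, ← hr]
      exact ⟨ξ', rfl⟩
    have hEq := eq_of_specializes_of_closure_mem_irreducibleComponents ξ' hξ'c ξZ hsp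
    subst hEq
    refine ⟨?_, ?_⟩
    · rw [td_comp_of_surjectiveOnStalks ι f ξZ, td_congr f hξZ]
      exact hEξ
    · have hgen : (ι ≫ f) ξZ = f.base ξ := by
        change f (ι ξZ) = _
        rw [hξZ]
      rw [hgen]
      exact hcompξ
  -- openness at the generic points of the fibre components
  have hyw : CAlg2.IsGeomUnibranch (Y.presheaf.stalk ((ι ≫ f).base w)) := by
    have h1 : f.base x = (ι ≫ f).base w := by
      change _ = f (ι w)
      rw [hw]
    exact isGeomUnibranch_congr_point h1 hy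
  have hopen : ∀ z : ↥((ι ≫ f).fiber ((ι ≫ f).base w)), (ι ≫ f).asFiber w ∈ closure {z} →
      (∀ z' : ↥((ι ≫ f).fiber ((ι ≫ f).base w)), z ∈ closure {z'} → z' = z) →
      EGA43.IsOpenAt (ι ≫ f).base (((ι ≫ f).fiberι ((ι ≫ f).base w)).base z) := by
    intro z hz _
    exact isOpenAt_of_isUnivOpenAt _ _
      (isUnivOpenAt_fibre_points_of_isEquidimAt (ι ≫ f) w hyw hgE z hz)
  have hform := dim_formula_of_isOpenAt (ι ≫ f) w hopen
  obtain ⟨N', b', hN', hb', hfd'⟩ := fibreDimAt_eq_add (ι ≫ f) w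
  have hNN : N' = N := by
    rw [td_comp_of_surjectiveOnStalks ι f w, td_congr f hw, hN] at hN'
    exact_mod_cast hN'.symm
  have hb'e : b' = e - N := by
    rw [hfdw, hNN] at hfd'
    have : e = N + b' := by exact_mod_cast hfd'
    omega
  rw [hform, hb', hb'e]
  congr 1
  apply ringKrullDim_stalk_congr_point
  change f (ι w) = _
  rw [hw]

/-- EGA IV 14.4.?-type (= S4939). -/
theorem tfae_isEquidimAt_of_geomUnibranch [IsLocallyNoetherian Y] (f : X ⟶ Y)
    [LocallyOfFiniteType f] (x : X) (hy : CAlg2.IsGeomUnibranch (Y.presheaf.stalk (f.base x))) :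
    List.TFAE [EGA43.IsEquidimAt f x,
      EGA4.IsEquidim (X.presheaf.stalk x) ∧ (∀ z : ↥(f.fiber (f.base x)), f.asFiber x ∈ closure {z} →
        (∀ z' : ↥(f.fiber (f.base x)), z ∈ closure {z'} → z' = z) →
          EGA43.IsOpenAt f.base ((f.fiberι (f.base x)).base z)),
      EGA4.IsEquidim (X.presheaf.stalk x) ∧ (∀ z : ↥(f.fiber (f.base x)), f.asFiber x ∈ closure {z} →
        (∀ z' : ↥(f.fiber (f.base x)), z ∈ closure {z'} → z' = z) →
          EGA43.IsUnivOpenAt f ((f.fiberι (f.base x)).base z))] := by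
  tfae_have 1 → 3 := fun h => ⟨isEquidim_stalk_of_isEquidimAt_of_geomUnibranch f x hy h,
    fun z hz _ => isUnivOpenAt_fibre_points_of_isEquidimAt f x hy h z hz⟩
  tfae_have 3 → 2 := fun h => ⟨h.1, fun z hz hmax =>
    isOpenAt_of_isUnivOpenAt _ _ (h.2 z hz hmax)⟩
  tfae_have 2 → 1 := fun h =>
    Groth.Agent.Lib.helper3.OpenAtDim.isEquidimAt_of_isEquidim_stalk f x h.1 h.2
  tfae_finish

end Groth.Agent.Lib.helper9.UO
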