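import Mathlib
import Groth.Agent.Lib.Helper9.UOEqTFAE
import Groth.Agent.Lib.Helper3.OpenAtComp
import Groth.Agent.Lib.Helper3.UnivOpenDimCond2

/-!
# Universal openness at a maximal point of a fibre over a geometrically unibranch point (helper9)

EGA IV 14.4.?-type (= S4934): for `x` maximal in its fibre over a geometrically unibranch point of a
locally Noetherian scheme: universally open at `x` ⇔ dimension condition on a dominating component
⇔ dimension condition on neighbouring fibres ⇔ open at `x`.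
-/

set_option autoImplicit false
set_option linter.style.haveILetI false
set_option backward.isDefEq.respectTransparency false

namespace Groth.Agent.Lib.helper9.UO

open AlgebraicGeometry CategoryTheory Limits Function TopologicalSpace Topology
open Groth.Agent.Lib.helper3.DimIneq Groth.Agent.Lib.helper3.FTField
  Groth.Agent.Lib.helper3.FibreField Groth.Agent.Lib.helper3.DimFibre
  Groth.Agent.Lib.helper3.RelDim Groth.Agent.Lib.helper3.EquidimAt
  Groth.Agent.Lib.helper3.QFinTop Groth.Agent.Lib.helper3.EquidimIrr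
  Groth.Agent.Lib.helper3.OpenAtDim Groth.Agent.Lib.helper3.SubStalk
  Groth.Agent.Lib.helper3.DimCriteria Groth.Agent.Lib.helper3.EquidimSub

universe u

/-- Variant of helper3's `exists_dominating_component` without irreducibility of the base. -/
theorem exists_dominating_component' {X Y : Scheme.{u}} [IsLocallyNoetherian Y]
    (f : X ⟶ Y) [LocallyOfFiniteType f] (ζ : X)
    (hopen : EGA43.IsOpenAt f.base ζ) (hmax : ∀ z' : X, z' ⤳ ζ → f z' = f ζ → z' = ζ) :
    ∃ (ξ' : X) (N : ℕ), closure ({ξ'} : Set X) ∈ irreducibleComponents X ∧ ξ' ⤳ ζ ∧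
      closure ({f.base ξ'} : Set Y) ∈ irreducibleComponents Y ∧
      td (f.residueFieldMap ξ').hom = (N : Cardinal.{u}) ∧
      td (f.residueFieldMap ζ).hom = (N : Cardinal.{u}) := by
  haveI hXN : IsLocallyNoetherian X := LocallyOfFiniteType.isLocallyNoetherian f
  obtain ⟨V, hV, hyV, -⟩ := exists_isAffineOpen_mem_and_subset (x := f ζ) (U := ⊤) trivial
  obtain ⟨U, hU, hζU, e⟩ := exists_isAffineOpen_mem_and_subset (x := ζ) (U := f ⁻¹ᵁ V) hyV
  haveI : IsNoetherianRing Γ(Y, V) := IsLocallyNoetherian.component_noetherian ⟨V, hV⟩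
  haveI : IsNoetherianRing Γ(X, U) := IsLocallyNoetherian.component_noetherian ⟨U, hU⟩
  obtain ⟨q0, hq0min, hq0le, hht⟩ :=
    exists_minimalPrimes_height_map_eq (hU.primeIdealOf ⟨ζ, hζU⟩).asIdeal
  haveI := hq0min.1.1
  obtain ⟨ξ', hξ'U, rfl⟩ := exists_point_of_prime hU q0
  have hξ'c := closure_mem_irreducibleComponents hU ξ' hξ'U hq0min
  have hsp : ξ' ⤳ ζ := (specializes_iff_primeIdealOf_le hU ξ' ζ hξ'U hζU).mpr hq0le
  have hξ'max : ∀ ω : X, ω ⤳ ξ' → ω = ξ' := fun ω h =>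
    eq_of_specializes_of_closure_mem_irreducibleComponents ξ' hξ'c ω h
  obtain ⟨N, b, hN, -, -⟩ := fibreDimAt_eq_add f ζ
  obtain ⟨E, b', hE, -, -⟩ := fibreDimAt_eq_add f ξ'
  have hfdζ := fibreDimAt_eq_td_of_forall f ζ hmax N hN
  have hfdξ := fibreDimAt_eq_td_of_forall f ξ' (fun x' h _ => hξ'max x' h) E hE
  have hEN : E ≤ N := by
    have hopen' := Groth.Agent.S0402.result f N
    have hζ' : ζ ∈ {x : X | FlatMor.fibreDimAt f x ≤ (N : WithBot ℕ∞)} := by
      rw [Set.mem_ofPred_eq, hfdζ]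
    have := hsp.mem_open hopen' hζ'
    rw [Set.mem_ofPred_eq, hfdξ] at this
    exact_mod_cast this
  have hp0p : (hV.primeIdealOf ⟨f ξ', e hξ'U⟩).asIdeal ≤ (hV.primeIdealOf ⟨f ζ, e hζU⟩).asIdeal :=
    (specializes_iff_primeIdealOf_le hV _ _ (e hξ'U) (e hζU)).mp (hsp.map f.continuous)
  have key := dimension_inequality_specializes f hV hU e ξ' ζ hξ'U hζU hq0le N E hN hE
  rw [hht] at key
  have hcore := height_le_of_isOpenAt f hV hU e ζ hζU hopen hmax
  have h2 := Groth.Agent.Lib.helper3.DimIneq.height_map_le _ _ hp0p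
  obtain ⟨a, ha⟩ := ENat.ne_top_iff_exists.mp
    (Ideal.height_ne_top_of_isPrime (I := (hU.primeIdealOf ⟨ζ, hζU⟩).asIdeal))
  obtain ⟨b0, hb0⟩ := ENat.ne_top_iff_exists.mp
    (Ideal.height_ne_top_of_isPrime (I := (hV.primeIdealOf ⟨f ζ, e hζU⟩).asIdeal))
  haveI := map_mk_isPrime _ _ hp0p
  obtain ⟨c, hc⟩ := ENat.ne_top_iff_exists.mp
    (Ideal.height_ne_top_of_isPrime (I := (hV.primeIdealOf ⟨f ζ, e hζU⟩).asIdeal.map
      (Ideal.Quotient.mk (hV.primeIdealOf ⟨f ξ', e hξ'U⟩).asIdeal)))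
  obtain ⟨d0, hd0⟩ := ENat.ne_top_iff_exists.mp
    (Ideal.height_ne_top_of_isPrime (I := (hV.primeIdealOf ⟨f ξ', e hξ'U⟩).asIdeal))
  have hadd := height_add_height_map_le _ _ hp0p c hc.symm
  rw [← ha, ← hc] at key
  rw [← hb0, ← ha] at hcore
  rw [← hc, ← hb0] at h2
  rw [← hd0, ← hb0] at hadd
  have key' : a + N ≤ c + E := by exact_mod_cast key
  have hcore' : b0 ≤ a := by exact_mod_cast hcore
  have h2' : c ≤ b0 := by exact_mod_cast h2
  have hadd' : d0 + c ≤ b0 := by exact_mod_cast hadd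
  have hEN' : E = N := by omega
  have hd00 : d0 = 0 := by omega
  have hmin : (hV.primeIdealOf ⟨f ξ', e hξ'U⟩).asIdeal ∈ minimalPrimes Γ(Y, V) := by
    apply Ideal.height_eq_zero_iff.mp
    rw [← hd0, hd00]; rfl
  refine ⟨ξ', N, hξ'c, hsp, closure_mem_irreducibleComponents hV (f ξ') (e hξ'U) hmin, ?_, hN⟩
  rw [hE, hEN']


/-- `c) ⇒ b)`: openness at a maximal point of the fibre over a geometrically unibranch point gives a
dominating component with the right fibre dimensions. -/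
theorem components_of_isOpenAt {X Y : Scheme.{u}} [IsLocallyNoetherian Y] (f : X ⟶ Y)
    [LocallyOfFiniteType f] (x : X)
    (hmax : ∀ x' : X, f.base x' = f.base x → x ∈ closure {x'} → x' = x)
    (hy : CAlg2.IsGeomUnibranch (Y.presheaf.stalk (f.base x)))
    (hopen : EGA43.IsOpenAt f.base x) :
    ∀ Y₀ ∈ irreducibleComponents (Y : Type u), f.base x ∈ Y₀ →
      ∃ Z ∈ irreducibleComponents (X : Type u), ∃ hx : x ∈ Z, closure (f.base '' Z) = Y₀ ∧
        ∀ η : Y, closure ({η} : Set Y) = Y₀ →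
          FlatMor.localDim ↥(Z ∩ f.base ⁻¹' {f.base x}) ⟨x, ⟨hx, rfl⟩⟩ =
            topologicalKrullDim ↥(Z ∩ f.base ⁻¹' {η}) := by
  intro Y₀ hY₀ hxY₀
  have hmax' : ∀ z' : X, z' ⤳ x → f z' = f x → z' = x :=
    fun z' hsp hf => hmax z' hf hsp.mem_closure
  obtain ⟨ξ', N, hξ'c, hsp, hfξ'c, htdξ', htdx⟩ := exists_dominating_component' f x hopen hmax'
  have hnil : (nilradical (Y.presheaf.stalk (f.base x))).IsPrime :=
    (Ideal.Quotient.isDomain_iff_prime _).1 hy.1.1
  obtain ⟨W, -, huniq⟩ :=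
    UnramGeom.existsUnique_irreducibleComponent_of_nilradical_isPrime Y (f.base x) hnil
  have h1 : closure ({f.base ξ'} : Set Y) = W :=
    huniq _ ⟨hfξ'c, (hsp.map f.continuous).mem_closure⟩
  have h2 : Y₀ = W := huniq _ ⟨hY₀, hxY₀⟩
  have hcl : closure ({f.base ξ'} : Set Y) = Y₀ := h1.trans h2.symm
  have hxZ : x ∈ closure ({ξ'} : Set X) := hsp.mem_closure
  refine ⟨closure {ξ'}, hξ'c, hxZ, ?_, ?_⟩
  · rw [closure_image_closure f.continuous, Set.image_singleton]
    exact hcl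
  · intro η hη
    have hηeq : η = f.base ξ' := by
      have h1 : IsGenericPoint η Y₀ := hη
      have h2 : IsGenericPoint (f.base ξ') Y₀ := hcl
      exact h1.eq h2
    subst hηeq
    rw [Groth.Agent.Lib.helper3.DimCriteria.dim_closure_inter_fibre f ξ' N htdξ']
    apply le_antisymm
    · have hfd : FlatMor.fibreDimAt f x = (N : WithBot ℕ∞) :=
        fibreDimAt_eq_td_of_forall f x hmax' N htdx
      rw [← hfd, Groth.Agent.Lib.helper5.FibreDimLocal.fibreDimAt_eq_localDim_preimage f x]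
      apply Groth.Agent.Lib.helper3.EquidimHyper.localDim_le_of_range_subset
        (Subtype.val : ↥(closure ({ξ'} : Set X) ∩ f.base ⁻¹' {f.base x}) → X)
        (Subtype.val : ↥(f.base ⁻¹' {f.base x}) → X) IsInducing.subtypeVal IsEmbedding.subtypeVal
      · rw [Subtype.range_coe, Subtype.range_coe]
        exact Set.inter_subset_right
      · rfl
    · exact Groth.Agent.Lib.helper3.UnivOpenDimCond.le_localDim_closure_inter_fibre f ξ' x hsp N
        htdξ'

/-- `b) ⇒ a)`: Chevalley's criterion along a dominating component. -/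
theorem isUnivOpenAt_of_components {X Y : Scheme.{u}} [IsLocallyNoetherian Y] (f : X ⟶ Y)
    [LocallyOfFiniteType f] (x : X)
    (hy : CAlg2.IsGeomUnibranch (Y.presheaf.stalk (f.base x)))
    (hb : ∀ Y₀ ∈ irreducibleComponents (Y : Type u), f.base x ∈ Y₀ →
      ∃ Z ∈ irreducibleComponents (X : Type u), ∃ hx : x ∈ Z, closure (f.base '' Z) = Y₀ ∧
        ∀ η : Y, closure ({η} : Set Y) = Y₀ →
          FlatMor.localDim ↥(Z ∩ f.base ⁻¹' {f.base x}) ⟨x, ⟨hx, rfl⟩⟩ =
            topologicalKrullDim ↥(Z ∩ f.base ⁻¹' {η})) :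
    EGA43.IsUnivOpenAt f x := by
  obtain ⟨Z, hZ, hxZ, hclZ, hdim⟩ := hb (irreducibleComponent (f.base x))
    (irreducibleComponent_mem_irreducibleComponents _) mem_irreducibleComponent
  have hZcl : IsClosed Z := isClosed_of_mem_irreducibleComponents Z hZ
  obtain ⟨ξ, hξ⟩ := QuasiSober.sober hZ.1 hZcl
  have hξZ : closure ({ξ} : Set X) = Z := hξ.def
  have hηcl : closure ({f.base ξ} : Set Y) = irreducibleComponent (f.base x) := by
    rw [← hclZ, ← hξZ, closure_image_closure f.continuous, Set.image_singleton]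
  have hd := hdim (f.base ξ) hηcl
  obtain ⟨E, hE⟩ := exists_nat_td_residueFieldMap f ξ
  set Zc : TopologicalSpace.Closeds X := ⟨Z, hZcl⟩ with hZc
  set ι := (Scheme.IdealSheafData.vanishingIdeal Zc).subschemeι with hι
  have hr : Set.range ι = Z := by
    rw [hι, Scheme.IdealSheafData.range_subschemeι,
      Scheme.IdealSheafData.coe_support_vanishingIdeal]
    rfl
  have hr' : Set.range ι = closure {ξ} := hr.trans hξZ.symm
  have hxr : x ∈ Set.range ι := by
    rw [hr]
    exact hxZ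
  obtain ⟨w, rfl⟩ := hxr
  haveI : IsLocallyNoetherian (Scheme.IdealSheafData.vanishingIdeal Zc).subscheme :=
    LocallyOfFiniteType.isLocallyNoetherian (ι ≫ f)
  have hfdw : FlatMor.fibreDimAt (ι ≫ f) w = (E : WithBot ℕ∞) := by
    rw [← localDim_inter_fibre_eq ι f w Z hr ⟨hxZ, rfl⟩, hd, ← hξZ]
    exact Groth.Agent.Lib.helper3.DimCriteria.dim_closure_inter_fibre f ξ E hE
  have hgE : EGA43.IsEquidimAt (ι ≫ f) w := by
    apply isEquidimAt_of_forall_maximal (ι ≫ f) w E ?_ (le_of_eq hfdw)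
    intro ξ' hξ'c hξ'w
    have hξr : ξ ∈ Set.range ι := by
      rw [hr']
      exact subset_closure rfl
    obtain ⟨ξZ, hξZ'⟩ := hξr
    have hsp : ξZ ⤳ ξ' := by
      apply ι.isEmbedding.isInducing.specializes_iff.mp
      rw [hξZ', specializes_iff_mem_closure, ← hr']
      exact ⟨ξ', rfl⟩
    have hEq := eq_of_specializes_of_closure_mem_irreducibleComponents ξ' hξ'c ξZ hsp
    subst hEq
    refine ⟨?_, ?_⟩
    · rw [td_comp_of_surjectiveOnStalks ι f ξZ, td_congr f hξZ']
      exact hE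
    · have hgen : (ι ≫ f) ξZ = f.base ξ := by
        change f (ι ξZ) = _
        rw [hξZ']
      rw [hgen, hηcl]
      exact irreducibleComponent_mem_irreducibleComponents _
  have h1 := isUnivOpenAt_of_isEquidimAt (ι ≫ f) w hy hgE
  exact isUnivOpenAt_of_comp ι f w h1

/-- EGA IV 14.4.?-type (= S4934). -/
theorem tfae_isUnivOpenAt_maximal_point_of_geomUnibranch {X Y : Scheme.{u}}
    [IsLocallyNoetherian Y] (f : X ⟶ Y) [LocallyOfFiniteType f] (x : X)
    (hmax : ∀ x' : X, f.base x' = f.base x → x ∈ closure {x'} → x' = x)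
    (hy : CAlg2.IsGeomUnibranch (Y.presheaf.stalk (f.base x))) :
    List.TFAE [EGA43.IsUnivOpenAt f x,
      (∀ Y₀ ∈ irreducibleComponents (Y : Type u), f.base x ∈ Y₀ →
        ∃ Z ∈ irreducibleComponents (X : Type u), ∃ hx : x ∈ Z, closure (f.base '' Z) = Y₀ ∧
          ∀ η : Y, closure ({η} : Set Y) = Y₀ →
            FlatMor.localDim ↥(Z ∩ f.base ⁻¹' {f.base x}) ⟨x, ⟨hx, rfl⟩⟩ =
              topologicalKrullDim ↥(Z ∩ f.base ⁻¹' {η})),
      (∀ U : X.Opens, x ∈ U → ∀ y' : Y, y' ⤳ f.base x →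
        FlatMor.fibreDimAt f x ≤ topologicalKrullDim ↥((U : Set X) ∩ f.base ⁻¹' {y'})),
      EGA43.IsOpenAt f.base x] := by
  have hS := Groth.Agent.Lib.helper3.UnivOpenDimCond.main f x hmax
  tfae_have 1 → 3 := hS.1
  tfae_have 3 → 2 := fun h Y₀ hY₀ hx => by
    obtain ⟨Z, hZ, hxZ, hcl, hd⟩ := hS.2 h Y₀ hY₀ hx
    exact ⟨Z, hZ, hxZ, hcl, fun η hη => (hd η hη).2⟩
  tfae_have 2 → 1 := isUnivOpenAt_of_components f x hy
  tfae_have 1 → 4 := isOpenAt_of_isUnivOpenAt f x
  tfae_have 4 → 2 := components_of_isOpenAt f x hmax hy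
  tfae_finish

end Groth.Agent.Lib.helper9.UO
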