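import Mathlib
import Groth.Agent.Lib.Helper9.UOMaxTFAE
import Groth.Agent.S0403

/-!
# Universal openness along a fibre over a geometrically unibranch point (helper9)

EGA IV 14.4.?-type (= S4938): for `y` a geometrically unibranch point of a locally Noetherian scheme:
universally open at all points of `X_y` ⇔ dimension condition on dominating components
⇔ dimension condition `dim (U ∩ X_y) ≤ dim (U ∩ X_η)` ⇔ open at all points of `X_y`.
-/

set_option autoImplicit false
set_option linter.style.haveILetI false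
set_option backward.isDefEq.respectTransparency false

namespace Groth.Agent.Lib.helper9.UO

open AlgebraicGeometry CategoryTheory Limits Function TopologicalSpace Topology
open Groth.Agent.Lib.helper3.DimIneq Groth.Agent.Lib.helper3.FTField
  Groth.Agent.Lib.helper3.FibreField Groth.Agent.Lib.helper3.DimFibre
  Groth.Agent.Lib.helper3.RelDim Groth.Agent.Lib.helper3.EquidimAt
  Groth.Agent.Lib.helper3.QFinTop Groth.Agent.Lib.helper3.EquidimIrr
  Groth.Agent.Lib.helper3.OpenAtDim Groth.Agent.Lib.helper3.SubStalk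
  Groth.Agent.Lib.helper3.DimCriteria Groth.Agent.Lib.helper3.EquidimSub

universe u

/-- `c) ⇒ b)` at an arbitrary point of the fibre: if `f` is open at all points of the fibre through
`x` (over a geometrically unibranch point), there is a dominating component through `x` with the
right fibre dimensions. -/
theorem components_of_isOpenAt_fibre {X Y : Scheme.{u}} [IsLocallyNoetherian Y] (f : X ⟶ Y)
    [LocallyOfFiniteType f] (x : X)
    (hy : CAlg2.IsGeomUnibranch (Y.presheaf.stalk (f.base x)))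
    (hopen : ∀ z : X, f.base z = f.base x → EGA43.IsOpenAt f.base z) :
    ∀ Y₀ ∈ irreducibleComponents (Y : Type u), f.base x ∈ Y₀ →
      ∃ Z ∈ irreducibleComponents (X : Type u), ∃ hx : x ∈ Z, closure (f.base '' Z) = Y₀ ∧
        ∀ η : Y, closure ({η} : Set Y) = Y₀ →
          FlatMor.localDim ↥(Z ∩ f.base ⁻¹' {f.base x}) ⟨x, ⟨hx, rfl⟩⟩ =
            topologicalKrullDim ↥(Z ∩ f.base ⁻¹' {η}) := by
  intro Y₀ hY₀ hxY₀
  obtain ⟨z, N, hzx, hfz, hzmax, htdz, hfdx⟩ := exists_maximal_fibre_point f x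
  obtain ⟨ξ', N', hξ'c, hsp, hfξ'c, htdξ', htdz'⟩ :=
    exists_dominating_component' f z (hopen z hfz) hzmax
  have hNN : N' = N := by
    have : (N' : Cardinal.{u}) = (N : Cardinal.{u}) := htdz'.symm.trans htdz
    exact_mod_cast this
  subst hNN
  have hspx : ξ' ⤳ x := hsp.trans hzx
  have hnil : (nilradical (Y.presheaf.stalk (f.base x))).IsPrime :=
    (Ideal.Quotient.isDomain_iff_prime _).1 hy.1.1
  obtain ⟨W, -, huniq⟩ :=
    UnramGeom.existsUnique_irreducibleComponent_of_nilradical_isPrime Y (f.base x) hnil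
  have h1 : closure ({f.base ξ'} : Set Y) = W :=
    huniq _ ⟨hfξ'c, (hspx.map f.continuous).mem_closure⟩
  have h2 : Y₀ = W := huniq _ ⟨hY₀, hxY₀⟩
  have hcl : closure ({f.base ξ'} : Set Y) = Y₀ := h1.trans h2.symm
  have hxZ : x ∈ closure ({ξ'} : Set X) := hspx.mem_closure
  refine ⟨closure {ξ'}, hξ'c, hxZ, ?_, ?_⟩
  · rw [closure_image_closure f.continuous, Set.image_singleton]
    exact hcl
  · intro η hη
    have hηeq : η = f.base ξ' := by
      have h1 : IsGenericPoint η Y₀ := hη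
      have h2 : IsGenericPoint (f.base ξ') Y₀ := hcl
      exact h1.eq h2
    subst hηeq
    rw [Groth.Agent.Lib.helper3.DimCriteria.dim_closure_inter_fibre f ξ' N' htdξ']
    apply le_antisymm
    · rw [← hfdx, Groth.Agent.Lib.helper5.FibreDimLocal.fibreDimAt_eq_localDim_preimage f x]
      apply Groth.Agent.Lib.helper3.EquidimHyper.localDim_le_of_range_subset
        (Subtype.val : ↥(closure ({ξ'} : Set X) ∩ f.base ⁻¹' {f.base x}) → X)
        (Subtype.val : ↥(f.base ⁻¹' {f.base x}) → X) IsInducing.subtypeVal IsEmbedding.subtypeVal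
      · rw [Subtype.range_coe, Subtype.range_coe]
        exact Set.inter_subset_right
      · rfl
    · exact Groth.Agent.Lib.helper3.UnivOpenDimCond.le_localDim_closure_inter_fibre f ξ' x hspx N'
        htdξ'

/-- the local dimension of an open part of a fibre is the fibre dimension. -/
theorem localDim_open_inter_fibre {X Y : Scheme.{u}} (f : X ⟶ Y) (U : X.Opens) (x : X)
    (hxU : x ∈ U) :
    FlatMor.localDim ↥((U : Set X) ∩ f.base ⁻¹' {f.base x}) ⟨x, ⟨hxU, rfl⟩⟩ =
      FlatMor.fibreDimAt f x := by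
  rw [Groth.Agent.Lib.helper5.FibreDimLocal.fibreDimAt_eq_localDim_preimage f x]
  exact Groth.Agent.Lib.helper5.FibreDimLocal.localDim_eq_of_inter_open
    ((U : Set X) ∩ f.base ⁻¹' {f.base x}) (f.base ⁻¹' {f.base x}) (U : Set X) U.2
    (Set.inter_comm _ _) x ⟨hxU, rfl⟩

/-- `fibreDimAt f x ≤ dim (U ∩ X_{f x})` for an open neighbourhood `U` of `x`. -/
theorem fibreDimAt_le_dim_open_inter_fibre {X Y : Scheme.{u}} (f : X ⟶ Y) (U : X.Opens) (x : X)
    (hxU : x ∈ U) :
    FlatMor.fibreDimAt f x ≤ topologicalKrullDim ↥((U : Set X) ∩ f.base ⁻¹' {f.base x}) := by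
  rw [← localDim_open_inter_fibre f U x hxU]
  exact Groth.Agent.Lib.helper3.TopDim.localDim_le_dim _

/-- `a) ⇒ b'')`. -/
theorem dim_cond_fibre_of_isUnivOpenAt {X Y : Scheme.{u}} (f : X ⟶ Y)
    [LocallyOfFiniteType f] (y : Y)
    (ha : ∀ x : X, f.base x = y → EGA43.IsUnivOpenAt f x) (U : X.Opens) (η : Y) (hη : η ⤳ y) :
    topologicalKrullDim ↥((U : Set X) ∩ f.base ⁻¹' {y}) ≤
      topologicalKrullDim ↥((U : Set X) ∩ f.base ⁻¹' {η}) := by
  rw [Groth.Agent.S0403.dim_le_iff_localDim]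
  rintro ⟨x, hxU, hxy⟩
  have hxy' : f.base x = y := hxy
  subst hxy'
  rw [localDim_open_inter_fibre f U x hxU]
  obtain ⟨z, N, hzx, hfz, hzmax, htdz, hfdx⟩ := exists_maximal_fibre_point f x
  have hzU : z ∈ U := hzx.mem_open U.2 hxU
  have hfdz : FlatMor.fibreDimAt f z = (N : WithBot ℕ∞) :=
    fibreDimAt_eq_td_of_forall f z hzmax N htdz
  rw [hfdx, ← hfdz]
  exact Groth.Agent.Lib.helper3.UnivOpenDimCond.dim_cond_of_isUnivOpenAt f z
    (fun x' hf hcl => hzmax x' (specializes_iff_mem_closure.mpr hcl) hf) (ha z hfz) U hzU η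
    (hfz ▸ hη)

/-- `b'') ⇒ b)`. -/
theorem components_of_dim_cond_fibre {X Y : Scheme.{u}} (f : X ⟶ Y) [LocallyOfFiniteType f]
    (x : X) (Y₀ : Set Y) (hY₀ : Y₀ ∈ irreducibleComponents (Y : Type u)) (hxY₀ : f.base x ∈ Y₀)
    (hb : ∀ U : X.Opens, ∀ η : Y, closure ({η} : Set Y) = Y₀ →
      topologicalKrullDim ↥((U : Set X) ∩ f.base ⁻¹' {f.base x}) ≤
        topologicalKrullDim ↥((U : Set X) ∩ f.base ⁻¹' {η})) :
    ∃ Z ∈ irreducibleComponents (X : Type u), ∃ hx : x ∈ Z, closure (f.base '' Z) = Y₀ ∧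
      ∀ η : Y, closure ({η} : Set Y) = Y₀ →
        FlatMor.localDim ↥(Z ∩ f.base ⁻¹' {f.base x}) ⟨x, ⟨hx, rfl⟩⟩ =
          topologicalKrullDim ↥(Z ∩ f.base ⁻¹' {η}) := by
  obtain ⟨η₀, hη₀⟩ := QuasiSober.sober hY₀.1 (isClosed_of_mem_irreducibleComponents _ hY₀)
  have hsp : η₀ ⤳ f.base x := hη₀.specializes hxY₀
  obtain ⟨m, hm⟩ := Groth.Agent.Lib.helper3.NowhereDenseGen.exists_nat_fibreDimAt f x
  obtain ⟨ζ, hζη, hζx, hζmax, hζm⟩ :=
    Groth.Agent.Lib.helper3.UnivOpenDimCond.exists_maximal_generization f x η₀ hsp m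
    (fun U hU => by
      rw [← hm]
      exact (fibreDimAt_le_dim_open_inter_fibre f U x hU).trans (hb U η₀ hη₀.def))
  subst hζη
  have hcl : closure ({f.base ζ} : Set Y) = Y₀ := hη₀.def
  have hηmax : ∀ y : Y, y ⤳ f.base ζ → y = f.base ζ := fun y hy =>
    eq_of_specializes_of_closure_mem_irreducibleComponents (f.base ζ)
      (by rw [hcl]; exact hY₀) y hy
  have hZ : closure ({ζ} : Set X) ∈ irreducibleComponents (X : Type u) :=
    closure_mem_irreducibleComponents_of_forall_specializes ζ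
      (fun t ht => hζmax t ht (hηmax _ (ht.map f.continuous)))
  have hxZ : x ∈ closure ({ζ} : Set X) := specializes_iff_mem_closure.mp hζx
  obtain ⟨e, he⟩ := exists_nat_td_residueFieldMap f ζ
  have hme : m ≤ e := by
    rw [he] at hζm
    exact_mod_cast hζm
  refine ⟨closure {ζ}, hZ, hxZ, ?_, ?_⟩
  · rw [closure_image_closure f.continuous, Set.image_singleton]
    exact hcl
  · intro η hη
    have hηeq : η = f.base ζ := by
      have h1 : IsGenericPoint η Y₀ := hη
      exact h1.eq hη₀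
    subst hηeq
    have h1 : topologicalKrullDim ↥(closure ({ζ} : Set X) ∩ f.base ⁻¹' {f.base ζ}) =
        (e : WithBot ℕ∞) := Groth.Agent.Lib.helper3.DimCriteria.dim_closure_inter_fibre f ζ e he
    have h2 : FlatMor.localDim ↥(closure ({ζ} : Set X) ∩ f.base ⁻¹' {f.base x}) ⟨x, ⟨hxZ, rfl⟩⟩ ≤
        FlatMor.fibreDimAt f x := by
      rw [Groth.Agent.Lib.helper5.FibreDimLocal.fibreDimAt_eq_localDim_preimage f x]
      apply Groth.Agent.Lib.helper3.EquidimHyper.localDim_le_of_range_subset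
        (Subtype.val : ↥(closure ({ζ} : Set X) ∩ f.base ⁻¹' {f.base x}) → X)
        (Subtype.val : ↥(f.base ⁻¹' {f.base x}) → X) IsInducing.subtypeVal IsEmbedding.subtypeVal
      · rw [Subtype.range_coe, Subtype.range_coe]
        exact Set.inter_subset_right
      · rfl
    have h3 := Groth.Agent.Lib.helper3.UnivOpenDimCond.le_localDim_closure_inter_fibre f ζ x hζx e he
    have h4 : (m : WithBot ℕ∞) ≤ (e : WithBot ℕ∞) := by exact_mod_cast hme
    rw [h1]
    rw [hm] at h2
    exact le_antisymm (h2.trans h4) h3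

/-- EGA IV 14.4.?-type (= S4938). -/
theorem tfae_isUnivOpenAt_fibre_of_geomUnibranch {X Y : Scheme.{u}} [IsLocallyNoetherian Y]
    (f : X ⟶ Y) [LocallyOfFiniteType f] (y : Y)
    (hy : CAlg2.IsGeomUnibranch (Y.presheaf.stalk y)) :
    List.TFAE [∀ x : X, f.base x = y → EGA43.IsUnivOpenAt f x,
      ∀ x : X, f.base x = y → ∀ Y₀ ∈ irreducibleComponents (Y : Type u), y ∈ Y₀ →
        ∃ Z ∈ irreducibleComponents (X : Type u), ∃ hx : x ∈ Z, closure (f.base '' Z) = Y₀ ∧
          ∀ η : Y, closure ({η} : Set Y) = Y₀ →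
            FlatMor.localDim ↥(Z ∩ f.base ⁻¹' {f.base x}) ⟨x, ⟨hx, rfl⟩⟩ =
              topologicalKrullDim ↥(Z ∩ f.base ⁻¹' {η}),
      ∀ U : X.Opens, ∀ Y₀ ∈ irreducibleComponents (Y : Type u), y ∈ Y₀ → ∀ η : Y,
        closure ({η} : Set Y) = Y₀ →
        topologicalKrullDim ↥((U : Set X) ∩ f.base ⁻¹' {y}) ≤
          topologicalKrullDim ↥((U : Set X) ∩ f.base ⁻¹' {η}),
      ∀ x : X, f.base x = y → EGA43.IsOpenAt f.base x] := by
  tfae_have 1 → 4 := fun h x hx => isOpenAt_of_isUnivOpenAt f x (h x hx)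
  tfae_have 4 → 2 := by
    intro h x hx
    subst hx
    exact components_of_isOpenAt_fibre f x hy h
  tfae_have 2 → 1 := by
    intro h x hx
    subst hx
    exact isUnivOpenAt_of_components f x hy (h x rfl)
  tfae_have 1 → 3 := by
    intro h U Y₀ hY₀ hyY₀ η hη
    apply dim_cond_fibre_of_isUnivOpenAt f y h U η
    rw [specializes_iff_mem_closure, hη]
    exact hyY₀
  tfae_have 3 → 2 := by
    intro h x hx
    subst hx
    intro Y₀ hY₀ hxY₀
    exact components_of_dim_cond_fibre f x Y₀ hY₀ hxY₀ (fun U η hη => h U Y₀ hY₀ hxY₀ η hη)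
  tfae_finish

end Groth.Agent.Lib.helper9.UO
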