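import Mathlib
import Groth.Agent.Lib.Helper9.UOFibTFAE
import Groth.Agent.Lib.Helper3.QuasiSection

/-!
# Universal openness along a fibre and quasi-sections (helper9)

EGA IV 14.5.9-type (= S4945): over an irreducible locally Noetherian base, at a geometrically
unibranch point `y`: universally open on `X_y` ⇔ open on `X_y` ⇔ dimension condition at maximal
points of `X_y` ⇔ quasi-sections through all closed points of `X_y`.
-/

set_option autoImplicit false
set_option linter.style.haveILetI false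
set_option backward.isDefEq.respectTransparency false

namespace Groth.Agent.Lib.helper9.UO

open AlgebraicGeometry CategoryTheory Limits Function TopologicalSpace Topology
open Groth.Agent.Lib.helper3.DimIneq Groth.Agent.Lib.helper3.FTField
  Groth.Agent.Lib.helper3.FibreField Groth.Agent.Lib.helper3.DimFibre
  Groth.Agent.Lib.helper3.RelDim Groth.Agent.Lib.helper3.EquidimAt
  Groth.Agent.Lib.helper3.QFinTop Groth.Agent.Lib.helper3.EquidimIrr
  Groth.Agent.Lib.helper3.OpenAtDim Groth.Agent.Lib.helper3.SubStalk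
  Groth.Agent.Lib.helper3.DimCriteria Groth.Agent.Lib.helper3.EquidimSub

universe u

/-- A dominating component with the right fibre dimensions, with its reduced structure, is
equidimensional over the base at the given point. -/
theorem exists_closedImmersion_isEquidimAt_of_components {X Y : Scheme.{u}}
    [IsLocallyNoetherian Y] (f : X ⟶ Y) [LocallyOfFiniteType f] (x : X)
    (hb : ∀ Y₀ ∈ irreducibleComponents (Y : Type u), f.base x ∈ Y₀ →
      ∃ Z ∈ irreducibleComponents (X : Type u), ∃ hx : x ∈ Z, closure (f.base '' Z) = Y₀ ∧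
        ∀ η : Y, closure ({η} : Set Y) = Y₀ →
          FlatMor.localDim ↥(Z ∩ f.base ⁻¹' {f.base x}) ⟨x, ⟨hx, rfl⟩⟩ =
            topologicalKrullDim ↥(Z ∩ f.base ⁻¹' {η})) :
    ∃ (Z' : Scheme.{u}) (ι : Z' ⟶ X) (w : Z'), IsClosedImmersion ι ∧ ι.base w = x ∧
      EGA43.IsEquidimAt (ι ≫ f) w := by
  obtain ⟨Z, hZ, hxZ, hclZ, hdim⟩ := hb (irreducibleComponent (f.base x))
    (irreducibleComponent_mem_irreducibleComponents _) mem_irreducibleComponent
  have hZcl : IsClosed Z := isClosed_of_mem_irreducibleComponents Z hZ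
  obtain ⟨ξ, hξ⟩ := QuasiSober.sober hZ.1 hZcl
  have hξZ : closure ({ξ} : Set X) = Z := hξ.def
  have hηcl : closure ({f.base ξ} : Set Y) = irreducibleComponent (f.base x) := by
    rw [← hclZ, ← hξZ, closure_image_closure f.continuous, Set.image_singleton]
  have hd := hdim (f.base ξ) hηcl
  obtain ⟨E, hE⟩ := exists_nat_td_residueFieldMap f ξ
  set Zc : TopologicalSpace.Closeds X := ⟨Z, hZcl⟩ with hZc
  set ι := (Scheme.IdealSheafData.vanishingIdeal Zc).subschemeι with hι
  have hr : Set.range ι = Z := by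
    rw [hι, Scheme.IdealSheafData.range_subschemeι,
      Scheme.IdealSheafData.coe_support_vanishingIdeal]
    rfl
  have hr' : Set.range ι = closure {ξ} := hr.trans hξZ.symm
  have hxr : x ∈ Set.range ι := by
    rw [hr]
    exact hxZ
  obtain ⟨w, rfl⟩ := hxr
  haveI : IsLocallyNoetherian (Scheme.IdealSheafData.vanishingIdeal Zc).subscheme :=
    LocallyOfFiniteType.isLocallyNoetherian (ι ≫ f)
  have hfdw : FlatMor.fibreDimAt (ι ≫ f) w = (E : WithBot ℕ∞) := by
    rw [← localDim_inter_fibre_eq ι f w Z hr ⟨hxZ, rfl⟩, hd, ← hξZ]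
    exact Groth.Agent.Lib.helper3.DimCriteria.dim_closure_inter_fibre f ξ E hE
  have hgE : EGA43.IsEquidimAt (ι ≫ f) w := by
    apply isEquidimAt_of_forall_maximal (ι ≫ f) w E ?_ (le_of_eq hfdw)
    intro ξ' hξ'c hξ'w
    have hξr : ξ ∈ Set.range ι := by
      rw [hr']
      exact subset_closure rfl
    obtain ⟨ξZ, hξZ'⟩ := hξr
    have hsp : ξZ ⤳ ξ' := by
      apply ι.isEmbedding.isInducing.specializes_iff.mp
      rw [hξZ', specializes_iff_mem_closure, ← hr']
      exact ⟨ξ', rfl⟩
    have hEq := eq_of_specializes_of_closure_mem_irreducibleComponents ξ' hξ'c ξZ hsp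
    subst hEq
    refine ⟨?_, ?_⟩
    · rw [td_comp_of_surjectiveOnStalks ι f ξZ, td_congr f hξZ']
      exact hE
    · have hgen : (ι ≫ f) ξZ = f.base ξ := by
        change f (ι ξZ) = _
        rw [hξZ']
      rw [hgen, hηcl]
      exact irreducibleComponent_mem_irreducibleComponents _
  exact ⟨_, ι, w, inferInstance, rfl, hgE⟩

/-- `b) ⇒ d)` pointwise: a dominating component with the right fibre dimensions through a point
closed in its fibre contains a quasi-section through that point. -/
theorem hasQuasiSection_of_components {X Y : Scheme.{u}} [IrreducibleSpace Y]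
    [IsLocallyNoetherian Y] (f : X ⟶ Y) [LocallyOfFiniteType f] (x : X)
    (hcl : ∀ x' : X, f.base x' = f.base x → x ⤳ x' → x' = x)
    (hb : ∀ Y₀ ∈ irreducibleComponents (Y : Type u), f.base x ∈ Y₀ →
      ∃ Z ∈ irreducibleComponents (X : Type u), ∃ hx : x ∈ Z, closure (f.base '' Z) = Y₀ ∧
        ∀ η : Y, closure ({η} : Set Y) = Y₀ →
          FlatMor.localDim ↥(Z ∩ f.base ⁻¹' {f.base x}) ⟨x, ⟨hx, rfl⟩⟩ =
            topologicalKrullDim ↥(Z ∩ f.base ⁻¹' {η})) :
    Groth.Agent.Lib.helper3.QuasiSection.HasQuasiSection f x := by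
  obtain ⟨Z', ι, w, hι, hw, hE⟩ := exists_closedImmersion_isEquidimAt_of_components f x hb
  haveI := hι
  have hcl' : ∀ x' : Z', (ι ≫ f).base x' = (ι ≫ f).base w → w ⤳ x' → x' = w := by
    intro x' hfx' hsp
    have h1 : f.base (ι.base x') = f.base x := by
      have : f.base (ι.base x') = f.base (ι.base w) := hfx'
      rw [this, hw]
    have h2 : x ⤳ ι.base x' := by
      rw [← hw]
      exact hsp.map ι.continuous
    have h3 := hcl _ h1 h2
    exact ι.isEmbedding.injective (h3.trans hw.symm)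
  obtain ⟨T, i, h1, h2, h3, ⟨t, ht⟩, h5, h6, h7, h8⟩ :=
    Groth.Agent.Lib.helper3.QuasiSection.hasQuasiSection (ι ≫ f) w hE hcl'
  haveI := h1
  have hassoc : (i ≫ ι) ≫ f = i ≫ ι ≫ f := Category.assoc _ _ _
  refine ⟨T, i ≫ ι, inferInstance, h2, h3, ⟨t, ?_⟩, ?_, ?_, ?_, ?_⟩
  · change ι.base (i.base t) = x
    rw [ht, hw]
  · rw [hassoc]; exact h5
  · rw [hassoc]; exact h6
  · rw [hassoc]; exact h7
  · rw [hassoc]; exact h8

/-- `d) ⇒ a)` pointwise: a quasi-section through `x` over a geometrically unibranch point makes `f`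
universally open at `x`. -/
theorem isUnivOpenAt_of_hasQuasiSection {X Y : Scheme.{u}} [IrreducibleSpace Y]
    [IsLocallyNoetherian Y] (f : X ⟶ Y) (x : X)
    (hy : CAlg2.IsGeomUnibranch (Y.presheaf.stalk (f.base x)))
    (h : Groth.Agent.Lib.helper3.QuasiSection.HasQuasiSection f x) : EGA43.IsUnivOpenAt f x := by
  obtain ⟨T, i, h1, h2, h3, ⟨t, ht⟩, h5, h6, h7, h8⟩ := h
  haveI := h2
  haveI := h5
  haveI := h6
  haveI := h8
  have hdom : ∀ ξ ∈ genericPoints ↥T, (i ≫ f).base ξ ∈ genericPoints ↥Y := by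
    intro ξ hξ
    have hξ' : closure ({ξ} : Set T) = Set.univ := by
      have := hξ
      rw [genericPoints, irreducibleComponents_eq_singleton] at this
      exact this
    change closure {(i ≫ f).base ξ} ∈ irreducibleComponents ↥Y
    rw [irreducibleComponents_eq_singleton, Set.mem_singleton_iff, ← Set.image_singleton,
      ← closure_image_closure (i ≫ f).continuous, hξ', Set.image_univ]
    exact (i ≫ f).denseRange.closure_eq
  have hy' : CAlg2.IsGeomUnibranch (Y.presheaf.stalk ((i ≫ f).base t)) := by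
    have : (i ≫ f).base t = f.base x := by
      change f.base (i.base t) = _
      rw [ht]
    rw [this]
    exact hy
  have := isUnivOpenAt_of_locallyQuasiFinite_of_geomUnibranch (i ≫ f) hdom t hy'
  have h' := isUnivOpenAt_of_comp i f t this
  rw [ht] at h'
  exact h'

/-- every nonempty open part of a fibre contains a point closed in the fibre. -/
theorem exists_closed_in_fibre_mem_open {X Y : Scheme.{u}} (f : X ⟶ Y) [LocallyOfFiniteType f]
    (U : X.Opens) (w : X) (hw : w ∈ U) :
    ∃ x : X, x ∈ U ∧ f.base x = f.base w ∧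
      ∀ x' : X, f.base x' = f.base w → x ⤳ x' → x' = x := by
  have hne : Nonempty ((U.ι ≫ f).fiber (f.base w)) :=
    ⟨((U.ι ≫ f).fiberHomeo (f.base w)).symm ⟨⟨w, hw⟩, rfl⟩⟩
  obtain ⟨c, hc, htd⟩ := exists_td_eq_zero (U.ι ≫ f) (f.base w) hne
  rw [td_comp_opens_ι f U c] at htd
  refine ⟨c.1, c.2, hc, ?_⟩
  intro x' hfx' hsp
  by_contra hne'
  have hlt : td (f.residueFieldMap x').hom < td (f.residueFieldMap c.1).hom :=
    Groth.Agent.S9381.result f c.1 x' hsp (fun h => hne' h.symm)
      ((show f.base c.1 = f.base w from hc).trans hfx'.symm)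
  have htd' : td (f.residueFieldMap c.1).hom = 0 := htd
  rw [htd'] at hlt
  exact not_lt_zero hlt

/-- openness at all points closed in a fibre gives openness at all points of the fibre. -/
theorem isOpenAt_of_isOpenAt_closed_in_fibre {X Y : Scheme.{u}} (f : X ⟶ Y)
    [LocallyOfFiniteType f] (y : Y)
    (h : ∀ x : X, f.base x = y → (∀ x' : X, f.base x' = y → x ⤳ x' → x' = x) →
      EGA43.IsOpenAt f.base x) :
    ∀ x : X, f.base x = y → EGA43.IsOpenAt f.base x := by
  intro w hw U hU
  subst hw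
  obtain ⟨U', hU'U, hU'o, hwU'⟩ := mem_nhds_iff.mp hU
  obtain ⟨x, hxU', hfx, hcl⟩ := exists_closed_in_fibre_mem_open f ⟨U', hU'o⟩ w hwU'
  have h1 := h x hfx hcl U' (hU'o.mem_nhds hxU')
  rw [hfx] at h1
  exact Filter.mem_of_superset h1 (Set.image_mono hU'U)

/-- openness at a generization in the same fibre gives openness at the point. -/
theorem isOpenAt_of_specializes {X Y : Scheme.{u}} (f : X ⟶ Y) (z x : X) (hzx : z ⤳ x)
    (hf : f.base z = f.base x) (h : EGA43.IsOpenAt f.base z) : EGA43.IsOpenAt f.base x := by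
  intro U hU
  have := h U (hzx hU)
  rw [hf] at this
  exact this

/-- EGA IV 14.5.9-type (= S4945). -/
theorem tfae_isUnivOpenAt_fibre_quasiSections_of_geomUnibranch {X Y : Scheme.{u}}
    [IrreducibleSpace Y] [IsLocallyNoetherian Y] (f : X ⟶ Y) [LocallyOfFiniteType f] (y : Y)
    (hy : CAlg2.IsGeomUnibranch (Y.presheaf.stalk y)) :
    List.TFAE [∀ x : X, f.base x = y → EGA43.IsUnivOpenAt f x,
      ∀ x : X, f.base x = y → EGA43.IsOpenAt f.base x,
      ∀ z : X, ∀ hzy : f.base z = y, (∀ z' : X, f.base z' = y → z ∈ closure {z'} → z' = z) →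
        ∃ Z ∈ irreducibleComponents (X : Type u), ∃ hz : z ∈ Z, Dense (f.base '' Z) ∧
          FlatMor.localDim ↥(Z ∩ f.base ⁻¹' {y}) ⟨z, ⟨hz, hzy⟩⟩ =
            topologicalKrullDim ↥(Z ∩ f.base ⁻¹' {genericPoint Y}),
      ∀ x : X, f.base x = y → (∀ x' : X, f.base x' = y → x ⤳ x' → x' = x) →
        ∃ (T : Scheme.{u}) (i : T ⟶ X), IsImmersion i ∧ IrreducibleSpace ↥T ∧ IsReduced T ∧
        x ∈ Set.range i.base ∧
        LocallyOfFiniteType (i ≫ f) ∧ LocallyQuasiFinite (i ≫ f) ∧ QuasiCompact (i ≫ f) ∧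
        IsDominant (i ≫ f)] := by
  have hS := tfae_isUnivOpenAt_fibre_of_geomUnibranch f y hy
  have hcomp : irreducibleComponents (Y : Type u) = {Set.univ} := irreducibleComponents_eq_singleton
  have hgen : closure ({genericPoint Y} : Set Y) = Set.univ := (genericPoint_spec Y).def
  tfae_have 1 ↔ 2 := hS.out 0 3
  tfae_have 2 → 3 := by
    intro h z hzy _
    have h31 := hS.out 3 1
    obtain ⟨Z, hZ, hz, hcl, hd⟩ := h31.mp h z hzy Set.univ (by rw [hcomp]; rfl) trivial
    subst hzy
    exact ⟨Z, hZ, hz, dense_iff_closure_eq.mpr hcl, hd (genericPoint Y) hgen⟩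
  tfae_have 3 → 2 := by
    intro h x hx
    obtain ⟨z, N, hzx, hfz, hzmax, -, -⟩ := exists_maximal_fibre_point f x
    have hfzy : f.base z = y := hfz.trans hx
    obtain ⟨Z, hZ, hz, hdense, hd⟩ := h z hfzy
      (fun z' hz' hcl => hzmax z' (specializes_iff_mem_closure.mpr hcl) (hz'.trans hfzy.symm))
    subst hfzy
    have hU : EGA43.IsUnivOpenAt f z := by
      apply isUnivOpenAt_of_components f z hy
      intro Y₀ hY₀ _
      rw [hcomp, Set.mem_singleton_iff] at hY₀
      subst hY₀
      refine ⟨Z, hZ, hz, hdense.closure_eq, ?_⟩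
      intro η hη
      have hηeq : η = genericPoint Y := by
        have h1 : IsGenericPoint η Set.univ := hη
        exact h1.eq (genericPoint_spec Y)
      subst hηeq
      exact hd
    exact isOpenAt_of_specializes f z x hzx hfz (isOpenAt_of_isUnivOpenAt f z hU)
  tfae_have 1 → 4 := by
    intro h x hx hcl
    have h01 := hS.out 0 1
    have hb := h01.mp h x hx
    subst hx
    exact hasQuasiSection_of_components f x hcl hb
  tfae_have 4 → 2 := by
    intro h
    apply isOpenAt_of_isOpenAt_closed_in_fibre f y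
    intro x hx hcl
    subst hx
    exact isOpenAt_of_isUnivOpenAt f x (isUnivOpenAt_of_hasQuasiSection f x hy (h x rfl hcl))
  tfae_finish

end Groth.Agent.Lib.helper9.UO
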