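/-
Helper library (helper9): lower semicontinuity of the geometric number of connected components,
part 4: geometrically unibranch points (EGA IV 15.5.7-type statement, = S3414).
-/
import Mathlib
import Groth.Agent.Lib.Helper9.SemiCont2
import Groth.Agent.Lib.Helper9.UOQuasiSec
import Groth.Agent.Lib.Helper9.Strat1

set_option autoImplicit false
set_option linter.style.haveILetI false
set_option backward.isDefEq.respectTransparency false

namespace Groth.Agent.Lib.helper9.SemiCont

open AlgebraicGeometry CategoryTheory Limits TopologicalSpace

universe u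

/-- every irreducible component of the target of a continuous surjection is the closure of the image
of an irreducible component of the source -/
theorem exists_component_closure_image_eq {A B : Type*} [TopologicalSpace A] [TopologicalSpace B]
    [QuasiSober B] (t : A → B) (ht : Continuous t) (hs : Function.Surjective t) (Z' : Set B)
    (hZ' : Z' ∈ irreducibleComponents B) :
    ∃ Z ∈ irreducibleComponents A, closure (t '' Z) = Z' := by
  have hZ'cl : IsClosed Z' := isClosed_of_mem_irreducibleComponents _ hZ'
  obtain ⟨ξ', hξ'⟩ := QuasiSober.sober hZ'.1 hZ'cl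
  obtain ⟨x, hx⟩ := hs ξ'
  refine ⟨irreducibleComponent x, irreducibleComponent_mem_irreducibleComponents x, ?_⟩
  have hirr : IsIrreducible (closure (t '' irreducibleComponent x)) :=
    (isIrreducible_irreducibleComponent.image t ht.continuousOn).closure
  have hsub : Z' ⊆ closure (t '' irreducibleComponent x) := by
    rw [← hξ'.def]
    apply closure_minimal _ isClosed_closure
    rw [Set.singleton_subset_iff]
    exact subset_closure ⟨x, mem_irreducibleComponent, hx⟩
  exact (hZ'.eq_of_subset hirr hsub).symm

/-- **Lower semicontinuity at a geometrically unibranch point** (= S3414). -/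
theorem exists_nhds_le_of_geomUnibranch {X Y : Scheme.{u}} [IrreducibleSpace Y]
    [IsLocallyNoetherian Y] (f : X ⟶ Y) [IsProper f]
    (hdom : ∀ Z ∈ irreducibleComponents (X : Type u), closure (f.base '' Z) = Set.univ) (y₀ : Y)
    (hy : CAlg2.IsGeomUnibranch (Y.presheaf.stalk y₀)) :
    ∃ V ∈ nhds y₀, ∀ z ∈ V, MoreMor.nGeomConnComp f y₀ ≤ MoreMor.nGeomConnComp f z := by
  haveI := Groth.Agent.Lib.helper8.ZConn.isFinite_fromNormalization f
  haveI := Groth.Agent.Lib.helper8.ZConn.geometricallyConnected_toNormalization f
  refine exists_nhds_le_of_isProper f y₀ (fun s hs => ?_)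
  subst hs
  refine Groth.Agent.Lib.helper9.UO.isUnivOpenAt_of_hasQuasiSection f.fromNormalization s hy ?_
  have hZ : irreducibleComponent s ∈ irreducibleComponents ↑f.normalization :=
    irreducibleComponent_mem_irreducibleComponents s
  have hZcl : IsClosed (irreducibleComponent s) := isClosed_of_mem_irreducibleComponents _ hZ
  obtain ⟨ξ, hξ⟩ := QuasiSober.sober hZ.1 hZcl
  let Zc : Closeds ↑f.normalization := ⟨irreducibleComponent s, hZcl⟩
  let ι := (Scheme.IdealSheafData.vanishingIdeal Zc).subschemeι
  have hr : Set.range ι = irreducibleComponent s := by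
    rw [Scheme.IdealSheafData.range_subschemeι, Scheme.IdealSheafData.coe_support_vanishingIdeal]
    rfl
  haveI : IsReduced (Scheme.IdealSheafData.vanishingIdeal Zc).subscheme :=
    Groth.Agent.Lib.helper9.Strat.isReduced_subscheme_vanishingIdeal Zc
  haveI : IrreducibleSpace ↥(Scheme.IdealSheafData.vanishingIdeal Zc).subscheme :=
    Groth.Agent.Lib.helper3.QuasiSection.irreducibleSpace_of_closedImmersion ι ξ
      (hr.trans hξ.def.symm)
  refine ⟨_, ι, inferInstance, inferInstance, inferInstance, ?_, inferInstance, inferInstance,
    inferInstance, ?_⟩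
  · rw [hr]
    exact mem_irreducibleComponent
  · obtain ⟨Z, hZX, hZeq⟩ := exists_component_closure_image_eq f.toNormalization
      f.toNormalization.continuous f.toNormalization.surjective _ hZ
    refine ⟨?_⟩
    rw [DenseRange, dense_iff_closure_eq, Set.eq_univ_iff_forall]
    intro y
    have h1 : closure (f.base '' Z) = Set.univ := hdom Z hZX
    have h2 : f.base '' Z ⊆ Set.range (ι ≫ f.fromNormalization) := by
      rintro _ ⟨x, hx, rfl⟩
      have hx' : f.toNormalization x ∈ Set.range ι := by
        rw [hr, ← hZeq]
        exact subset_closure ⟨x, hx, rfl⟩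
      obtain ⟨w, hw⟩ := hx'
      refine ⟨w, ?_⟩
      rw [Scheme.Hom.comp_apply, hw, ← Scheme.Hom.comp_apply, f.toNormalization_fromNormalization]
    exact closure_mono h2 (h1 ▸ Set.mem_univ y)

end Groth.Agent.Lib.helper9.SemiCont
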