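/-
Helper library (helper9): local constancy of the geometric number of connected components at a
point with geometrically reduced fibre along which the morphism is universally open
(EGA IV 15.5.9 (ii), = S3416).

Strategy: for a generization `z` of `y` choose a discrete valuation ring `R` and
`φ : Spec R ⟶ Y` through `z ⤳ y`; the flat closure `Z` of the generic fibre in `X_R` is a closed
subscheme with the same underlying space (universal openness) and the same closed fibre
(reducedness), so helper18's openness theorem for flat proper families applies to `Z`.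
Then conclude by constructibility.
-/
import Mathlib
import Groth.Agent.Lib.Helper9.SemiCont2
import Groth.Agent.Lib.Helper9.NGeom11
import Groth.Agent.Lib.Helper9.NGeomDvr7
import Groth.Agent.Lib.Helper9.GRGen3
import Groth.Agent.Lib.Helper21.FlatClosure2
import Groth.Agent.Lib.Helper18.EtGR11
import Groth.Agent.Lib.Helper3.ConsNhds
import Groth.Agent.Lib.Helper8.SteinRad1

set_option autoImplicit false
set_option linter.style.haveILetI false
set_option backward.isDefEq.respectTransparency false

namespace Groth.Agent.Lib.helper9.SemiCont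

open AlgebraicGeometry CategoryTheory Limits IsLocalRing
open Groth.Agent.Lib.helper9.SteinGen

universe u

/-- the local rings of the spectrum of a discrete valuation ring are regular of dimension `≤ 1` -/
theorem stalk_spec_dvr (R : Type u) [CommRing R] [IsDomain R] [IsDiscreteValuationRing R]
    (x : Spec (CommRingCat.of R)) :
    IsRegularLocalRing ((Spec (CommRingCat.of R)).presheaf.stalk x) ∧
      ringKrullDim ((Spec (CommRingCat.of R)).presheaf.stalk x) ≤ 1 := by
  letI : Algebra R ((Spec (CommRingCat.of R)).presheaf.stalk x) :=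
    StructureSheaf.stalkAlgebra R x
  haveI hloc : IsLocalization.AtPrime ((Spec (CommRingCat.of R)).presheaf.stalk x) x.asIdeal :=
    StructureSheaf.IsLocalization.to_stalk R x
  haveI : IsDomain ((Spec (CommRingCat.of R)).presheaf.stalk x) :=
    IsLocalization.isDomain_of_atPrime _ x.asIdeal
  haveI : IsDedekindDomain ((Spec (CommRingCat.of R)).presheaf.stalk x) :=
    IsLocalization.isDedekindDomain R x.asIdeal.primeCompl_le_nonZeroDivisors _
  haveI : IsPrincipalIdealRing ((Spec (CommRingCat.of R)).presheaf.stalk x) := inferInstance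
  refine ⟨inferInstance, ?_⟩
  exact Ring.krullDimLE_iff.mp inferInstance

/-- the spectrum of a discrete valuation ring has two points -/
theorem eq_closedPoint_or_eq_genericPoint (R : Type u) [CommRing R] [IsDomain R]
    [IsDiscreteValuationRing R] (t : Spec (CommRingCat.of R)) :
    t = closedPoint R ∨ t = genericPoint (Spec (CommRingCat.of R)) := by
  by_cases h0 : t.asIdeal = ⊥
  · right
    have hgen : IsGenericPoint t (Set.univ : Set (Spec (CommRingCat.of R))) := by
      rw [IsGenericPoint, ← Set.univ_subset_iff]
      intro q _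
      rw [← specializes_iff_mem_closure]
      refine (PrimeSpectrum.le_iff_specializes t q).mp ?_
      show t.asIdeal ≤ q.asIdeal
      rw [h0]
      exact bot_le
    exact (genericPoint_spec (Spec (CommRingCat.of R))).eq hgen |>.symm
  · left
    have hmax : t.asIdeal.IsMaximal := t.isPrime.isMaximal h0
    apply PrimeSpectrum.ext
    exact (IsLocalRing.eq_maximalIdeal hmax)

/-- a surjective closed immersion is geometrically connected -/
theorem geometricallyConnected_of_isClosedImmersion_of_surjective {Z P : Scheme.{u}} (i : Z ⟶ P)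
    [IsClosedImmersion i] [Surjective i] : GeometricallyConnected i := by
  refine ⟨geometrically_iff_of_isClosedUnderIsomorphisms.mpr fun K _ x ↦ ?_⟩
  have hinj : Function.Injective (pullback.snd i x) :=
    (pullback.snd i x).isClosedEmbedding.injective
  haveI : Subsingleton ↑(Spec (CommRingCat.of K)) := inferInstance
  haveI : Subsingleton ↑(pullback i x) := hinj.subsingleton
  haveI : Nonempty ↑(pullback i x) := by
    obtain ⟨a, -⟩ := (pullback.snd i x).surjective (closedPoint K)
    exact ⟨a⟩
  exact { isPreconnected_univ := Set.subsingleton_univ.isPreconnected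
          toNonempty := inferInstance }

section DVR

variable {P : Scheme.{u}} {R : Type u} [CommRing R] [IsDomain R] [IsDiscreteValuationRing R]
  (p : P ⟶ Spec (CommRingCat.of R))

/-- if `p : P ⟶ Spec R` is open at all points of the closed fibre, a closed subscheme containing the
generic fibre is everything (as a set) -/
theorem surjective_of_isOpenAt {Z : Scheme.{u}} (i : Z ⟶ P) [IsClosedImmersion i]
    (w : p.fiber (genericPoint (Spec (CommRingCat.of R))) ⟶ Z)
    (hw : w ≫ i = p.fiberι (genericPoint (Spec (CommRingCat.of R))))
    (hopen : ∀ x : P, p x = closedPoint R → EGA43.IsOpenAt p.base x) : Surjective i := by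
  refine ⟨fun x => ?_⟩
  have hgenfib : ∀ x' : P, p x' = genericPoint (Spec (CommRingCat.of R)) → x' ∈ Set.range i := by
    intro x' hx'
    have : x' ∈ Set.range (p.fiberι (genericPoint (Spec (CommRingCat.of R)))) := by
      rw [Scheme.Hom.range_fiberι]
      exact hx'
    obtain ⟨a, rfl⟩ := this
    exact ⟨w a, by rw [← Scheme.Hom.comp_apply, hw]⟩
  rcases eq_closedPoint_or_eq_genericPoint R (p x) with hx | hx
  · by_contra hnot
    have hN : (Set.range i)ᶜ ∈ nhds x :=
      i.isClosedEmbedding.isClosed_range.isOpen_compl.mem_nhds hnot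
    have h1 := hopen x hx _ hN
    have hx' : (p.base x) = closedPoint R := hx
    rw [hx'] at h1
    have h2 : genericPoint (Spec (CommRingCat.of R)) ⤳ closedPoint R := genericPoint_specializes _
    obtain ⟨x', hx'N, hx'η⟩ := mem_of_mem_nhds (h2 h1)
    exact hx'N (hgenfib x' hx'η)
  · exact hgenfib x hx

end DVR

/-- **Constancy along generizations.** -/
theorem nGeomConnComp_eq_of_specializes {X Y : Scheme.{u}} [IsLocallyNoetherian Y] (f : X ⟶ Y)
    [IsProper f] (y : Y) (h : ∀ x : X, f.base x = y → EGA43.IsUnivOpenAt f x)
    (hred : GeometricallyReduced (f.fiberToSpecResidueField y)) (z : Y) (hz : z ⤳ y) :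
    MoreMor.nGeomConnComp f z = MoreMor.nGeomConnComp f y := by
  by_cases hne : z = y
  · rw [hne]
  obtain ⟨R, _, _, _, φ, hφs, hφη, -, -⟩ :=
    Groth.Agent.Lib.helper9.NGeomDvr.exists_dvr_realizing (𝟙 Y) y z hne hz
  let p : pullback f φ ⟶ Spec (CommRingCat.of R) := pullback.snd f φ
  have hpb : IsPullback (pullback.fst f φ) p f φ := IsPullback.of_hasPullback f φ
  haveI : IsProper p := inferInstance
  have hps : MoreMor.nGeomConnComp p (closedPoint R) = MoreMor.nGeomConnComp f y := by
    rw [Groth.Agent.Lib.helper3.GeomFiberBC.nGeomConnComp_baseChange f p _ φ hpb (closedPoint R)]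
    exact congrArg _ hφs
  have hpη : MoreMor.nGeomConnComp p (genericPoint (Spec (CommRingCat.of R))) =
      MoreMor.nGeomConnComp f z := by
    rw [Groth.Agent.Lib.helper3.GeomFiberBC.nGeomConnComp_baseChange f p _ φ hpb _]
    exact congrArg _ hφη
  -- the flat closure of the generic fibre
  set η := genericPoint (Spec (CommRingCat.of R)) with hη
  have hW : IsPullback (p.fiberι η) (p.fiberToSpecResidueField η) p
      ((Spec (CommRingCat.of R)).fromSpecResidueField η) := IsPullback.of_hasPullback p _
  haveI : Flat (𝟙 (p.fiber η) ≫ p.fiberToSpecResidueField η ≫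
      (Spec (CommRingCat.of R)).fromSpecResidueField η) := by
    rw [Category.id_comp]
    infer_instance
  obtain ⟨Z, i, w, hi, hfl, hpbZ⟩ := Groth.Agent.Lib.helper21.FlatClosure.exists_closure
    ((Spec (CommRingCat.of R)).fromSpecResidueField η) p _ _ hW (𝟙 (p.fiber η))
    (stalk_spec_dvr R)
  haveI := hi
  haveI := hfl
  have hw : w ≫ i = p.fiberι η := by
    rw [hpbZ.w, Category.id_comp]
  -- `i` is surjective
  have hopen : ∀ x : ↑(pullback f φ), p x = closedPoint R → EGA43.IsOpenAt p.base x := by
    intro x hx
    refine h (pullback.fst f φ x) ?_ _ φ x rfl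
    show f (pullback.fst f φ x) = y
    rw [← Scheme.Hom.comp_apply, pullback.condition, Scheme.Hom.comp_apply]
    show φ (p x) = y
    rw [hx]
    exact hφs
  haveI : Surjective i := surjective_of_isOpenAt p i w hw hopen
  haveI : GeometricallyConnected i := geometricallyConnected_of_isClosedImmersion_of_surjective i
  -- counts for `i ≫ p`
  have hZs : MoreMor.nGeomConnComp (i ≫ p) (closedPoint R) =
      MoreMor.nGeomConnComp p (closedPoint R) := nGeomConnComp_comp_eq i p _
  have hZη : MoreMor.nGeomConnComp (i ≫ p) η = MoreMor.nGeomConnComp p η :=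
    nGeomConnComp_comp_eq i p _
  -- the closed fibre of `i ≫ p` is geometrically reduced
  have hredp : GeometricallyReduced (p.fiberToSpecResidueField (closedPoint R)) := by
    rw [Groth.Agent.Lib.helper9.GRGen.geometricallyReduced_fiber_iff_of_isPullback hpb (closedPoint R)]
    have : φ (closedPoint R) = y := hφs
    rw [this]
    exact hred
  have hredZ : GeometricallyReduced ((i ≫ p).fiberToSpecResidueField (closedPoint R)) := by
    rw [Groth.Agent.Lib.helper9.GRGen.geometricallyReduced_fiber_iff] at hredp ⊢
    intro L _ t ht
    haveI : AlgebraicGeometry.IsReduced (pullback p t) := hredp L t ht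
    let bc : pullback (i ≫ p) t ⟶ pullback p t := bcMap (i ≫ p) p t i rfl
    haveI : IsClosedImmersion bc := isClosedImmersion_bcMap _ _ _ _ _
    haveI : Surjective bc :=
      MorphismProperty.of_isPullback (P := @Surjective) (isPullback_bcMap (i ≫ p) p t i rfl).flip
        inferInstance
    haveI : IsIso bc := isIso_of_isClosedImmersion_of_surjective bc
    exact isReduced_of_isOpenImmersion bc
  -- helper18's openness theorem
  haveI : LocallyOfFinitePresentation (i ≫ p) :=
    LocallyOfFinitePresentation.iff_locallyOfFiniteType.mpr inferInstance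
  have hO := Groth.Agent.Lib.Helper18.EtGR.isOpen_setOf_geometricallyReduced_and_nGeomConnComp_eq
    (i ≫ p) (MoreMor.nGeomConnComp (i ≫ p) (closedPoint R))
  have hsO : closedPoint R ∈ {y : ↑(Spec (CommRingCat.of R)) |
      GeometricallyReduced ((i ≫ p).fiberToSpecResidueField y) ∧
      MoreMor.nGeomConnComp (i ≫ p) y = MoreMor.nGeomConnComp (i ≫ p) (closedPoint R)} :=
    ⟨hredZ, rfl⟩
  have hηs : η ⤳ closedPoint R := genericPoint_specializes _
  have hηO := hηs.mem_open hO hsO
  rw [← hpη, ← hps, ← hZη, ← hZs]
  exact hηO.2

/-- **EGA IV 15.5.9 (ii)** (= S3416). -/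
theorem exists_nhds_eq_of_isUnivOpenAt_of_geometricallyReduced {X Y : Scheme.{u}}
    [IsLocallyNoetherian Y] (f : X ⟶ Y) [IsProper f] (y : Y)
    (h : ∀ x : X, f.base x = y → EGA43.IsUnivOpenAt f x)
    (hred : GeometricallyReduced (f.fiberToSpecResidueField y)) :
    ∃ V ∈ nhds y, ∀ z ∈ V, MoreMor.nGeomConnComp f z = MoreMor.nGeomConnComp f y := by
  haveI : LocallyOfFinitePresentation f :=
    LocallyOfFinitePresentation.iff_locallyOfFiniteType.mpr inferInstance
  have hE := Groth.Agent.Lib.helper9.NGeom.isLocallyConstructible_nGeomConnComp f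
    (MoreMor.nGeomConnComp f y)
  exact ⟨_, Groth.Agent.Lib.helper3.ConsNhds.mem_nhds_of_isLocallyConstructible hE y
    (fun z hz => nGeomConnComp_eq_of_specializes f y h hred z hz), fun z hz => hz⟩

end Groth.Agent.Lib.helper9.SemiCont
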