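/-
Helper library (helper9): EGA IV 15.5.? (= S3413).  Over a locally Noetherian scheme with
geometrically unibranch local rings, a separated quasi-finite universally open morphism whose
geometric number of points is locally constant has pairwise disjoint irreducible components.
-/
import Mathlib
import Groth.Agent.Lib.Helper9.SemiCont1
import Groth.Agent.Lib.Helper9.UOTop
import Groth.Agent.Lib.Helper9.UnramGURedGeom
import Groth.Agent.Lib.Helper14.GUBirat1
import Groth.Agent.Lib.Helper13.GF3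

set_option autoImplicit false
set_option linter.style.haveILetI false
set_option backward.isDefEq.respectTransparency false

namespace Groth.Agent.Lib.helper9.SemiCont

open AlgebraicGeometry CategoryTheory Limits

universe u

section Top

variable {T T' : Type*} [TopologicalSpace T] [TopologicalSpace T']

/-- `x` has a least generization -/
def HasLeastGen (x : T) : Prop := ∃ ξ : T, ∀ t : T, t ⤳ x → ξ ⤳ t

theorem HasLeastGen.existsUnique_component [QuasiSober T] {x : T} (h : HasLeastGen x) :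
    ∃! Z, Z ∈ irreducibleComponents T ∧ x ∈ Z := by
  obtain ⟨ξ, hξ⟩ := h
  have hξx : ξ ⤳ x := hξ x specializes_rfl
  have hcomp : closure {ξ} ∈ irreducibleComponents T := by
    refine ⟨isIrreducible_singleton.closure, ?_⟩
    intro s hs hle
    have hη := hs.isGenericPoint_genericPoint_closure
    have h1 : ξ ∈ closure s := subset_closure (hle (subset_closure rfl))
    have h2 : hs.genericPoint ⤳ ξ := hη.specializes h1
    have h3 : ξ ⤳ hs.genericPoint := hξ _ (h2.trans hξx)
    have h4 : closure {hs.genericPoint} ⊆ closure {ξ} :=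
      (specializes_iff_closure_subset.1 h3)
    exact (subset_closure.trans hη.def.symm.subset).trans h4
  refine ⟨closure {ξ}, ⟨hcomp, specializes_iff_mem_closure.1 hξx⟩, ?_⟩
  rintro Z ⟨hZ, hxZ⟩
  have hZcl : IsClosed Z := isClosed_of_mem_irreducibleComponents Z hZ
  have hη := hZ.1.isGenericPoint_genericPoint hZcl
  have h2 : hZ.1.genericPoint ⤳ x := hη.specializes hxZ
  have h3 : ξ ⤳ hZ.1.genericPoint := hξ _ h2
  have h4 : Z ⊆ closure {ξ} := by
    rw [← hη.def]
    exact specializes_iff_closure_subset.1 h3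
  exact subset_antisymm h4 (hZ.2 isIrreducible_singleton.closure h4)

theorem hasLeastGen_of_mem_isIrreducible_open [QuasiSober T] (O : Set T) (hO : IsOpen O)
    (hirr : IsIrreducible O) {x : T} (hx : x ∈ O) : HasLeastGen x := by
  have hη := hirr.isGenericPoint_genericPoint_closure
  refine ⟨hirr.genericPoint, fun t ht => ?_⟩
  have htO : t ∈ O := ht.mem_open hO hx
  exact hη.specializes (subset_closure htO)

theorem HasLeastGen.of_generalizingMap (g : T' → T) (hg : Continuous g)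
    (hgen : GeneralizingMap g) {x' : T'} (h : HasLeastGen x') : HasLeastGen (g x') := by
  obtain ⟨ξ', hξ'⟩ := h
  refine ⟨g ξ', fun t ht => ?_⟩
  obtain ⟨t', ht', rfl⟩ := hgen ht
  exact (hξ' t' ht').map hg

end Top

/-- **Finite case.** -/
theorem hasLeastGen_of_isFinite {S' Y : Scheme.{u}} [IsLocallyNoetherian Y] (π : S' ⟶ Y)
    [IsFinite π] [UniversallyOpen π] (y : Y)
    (hy : CAlg2.IsGeomUnibranch (Y.presheaf.stalk y))
    (hc : ∃ V ∈ nhds y, ∀ z ∈ V, MoreMor.nGeomConnComp π z = MoreMor.nGeomConnComp π y)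
    (s : S') (hs : π s = y) : HasLeastGen s := by
  classical
  obtain ⟨Y', e, y', he, hey, Y'', hy'', A, hA, W, zz, hzW, hzy, huniq, hdisj, hcov, hPI, -, -⟩ :=
    Groth.Agent.Lib.helper5.FinSplit.exists_split_pre π (𝟙 S') y (fun x _ => ⟨x, rfl⟩)
      (M := Empty) (fun k => k.elim) (fun k => k.elim)
  haveI := he
  haveI := hA
  set p := pullback.snd π e with hp
  have hpts : ∀ w, p w = y' → ∃ a, w = zz a := by
    intro w hw
    obtain ⟨a, ha⟩ := hcov w (by rw [hw]; exact hy'')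
    exact ⟨a, huniq a w ha hw⟩
  have hinj : Function.Injective zz := by
    intro a b hab
    by_contra hne
    refine hdisj a b hne (zz a) (hzW a) (hab ▸ hzW b) ?_
    rw [hzy a]
    exact hy''
  have hcount : MoreMor.nGeomConnComp π y = (Nat.card A : ℕ∞) := by
    rw [← hey, nGeomConnComp_eq_natCard_of_PI π e y' (fun w hw => by
      obtain ⟨a, rfl⟩ := hpts w hw
      exact hPI a)]
    congr 1
    refine (Nat.card_congr (Equiv.ofBijective
      (fun a => (⟨zz a, hzy a⟩ : {q : ↑(pullback π e) // pullback.snd π e q = y'})) ⟨?_, ?_⟩)).symm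
    · intro a b hab
      exact hinj (congrArg Subtype.val hab)
    · rintro ⟨w, hw⟩
      obtain ⟨a, rfl⟩ := hpts w hw
      exact ⟨a, rfl⟩
  have hpopen : IsOpenMap p := p.isOpenMap
  -- an irreducible neighbourhood of `y'`
  haveI : IsLocallyNoetherian Y' := LocallyOfFiniteType.isLocallyNoetherian e
  have hy' : CAlg2.IsGeomUnibranch (Y'.presheaf.stalk y') → True := fun _ => trivial
  have hnil : (nilradical (Y'.presheaf.stalk y')).IsPrime := by
    apply Groth.Agent.Lib.helper9.UnramGeom.nilradical_isPrime_stalk_of_etale e y'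
    apply Groth.Agent.Lib.helper9.UnramCore.euLocRed_of_isGeomUnibranch
    rw [hey]
    exact hy
  obtain ⟨U₀, -, hyU₀, hU₀irr⟩ :=
    Groth.Agent.Lib.helper9.UO.exists_isAffineOpen_isIrreducible_nbhd Y' y' hnil
  obtain ⟨V, hV, hVc⟩ := hc
  set N : Set Y' := ((U₀ : Set Y') ∩ (Y'' : Set Y')) ∩
    ((⋂ a, p '' (W a : Set ↑(pullback π e))) ∩ e ⁻¹' (interior V)) with hNdef
  have hNopen : IsOpen N := by
    refine (U₀.2.inter Y''.2).inter (IsOpen.inter ?_ (isOpen_interior.preimage e.continuous))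
    exact isOpen_iInter_of_finite (fun a => hpopen _ (W a).2)
  have hy'N : y' ∈ N := by
    refine ⟨⟨hyU₀, hy''⟩, Set.mem_iInter.mpr (fun a => ⟨zz a, hzW a, hzy a⟩), ?_⟩
    show e y' ∈ interior V
    rw [hey]
    exact mem_interior_iff_mem_nhds.mpr hV
  have hNirr : IsPreirreducible N :=
    hU₀irr.2.open_subset hNopen (fun z hz => hz.1.1)
  -- the fibres over `N`
  have hfib : ∀ z' ∈ N, ∀ a, ∀ t₁ ∈ (W a : Set ↑(pullback π e)),
      ∀ t₂ ∈ (W a : Set ↑(pullback π e)), p t₁ = z' → p t₂ = z' → t₁ = t₂ := by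
    intro z' hz' a t₁ ht₁ t₂ ht₂ h₁ h₂
    have hz'1 : z' ∈ (Y'' : Set Y') := hz'.1.2
    have hw : ∀ a, ∃ w ∈ (W a : Set ↑(pullback π e)), p w = z' := fun a =>
      Set.mem_iInter.mp hz'.2.1 a
    choose w hwW hwz using hw
    haveI : Finite {q : ↑(pullback π e) // p q = z'} :=
      (p.finite_preimage_singleton z').to_subtype
    have hinj' : Function.Injective
        (fun a => (⟨w a, hwz a⟩ : {q : ↑(pullback π e) // p q = z'})) := by
      intro a b hab
      by_contra hne
      have hwab : w a = w b := congrArg Subtype.val hab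
      refine hdisj a b hne (w a) (hwW a) (hwab ▸ hwW b) ?_
      have : pullback.snd π e (w a) = z' := hwz a
      rw [this]
      exact hz'1
    have hbc : MoreMor.nGeomConnComp p z' = MoreMor.nGeomConnComp π (e z') :=
      Groth.Agent.Lib.helper3.GeomFiberBC.nGeomConnComp_baseChange π p (pullback.fst π e) e
        (IsPullback.of_hasPullback π e) z'
    have hez' : e z' ∈ V := interior_subset hz'.2.2
    have hle : (Nat.card {q : ↑(pullback π e) // p q = z'} : ℕ∞) ≤ (Nat.card A : ℕ∞) := by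
      rw [← hcount, ← hVc _ hez', ← hbc]
      exact natCard_fibre_le p z'
    have hle' : Nat.card {q : ↑(pullback π e) // p q = z'} ≤ Nat.card A := by
      exact_mod_cast hle
    have hbij := hinj'.bijective_of_nat_card_le hle'
    have key : ∀ t ∈ (W a : Set ↑(pullback π e)), p t = z' → t = w a := by
      intro t ht htz
      obtain ⟨b, hb⟩ := hbij.2 ⟨t, htz⟩
      have hb' : w b = t := congrArg Subtype.val hb
      by_cases hba : b = a
      · rw [← hb', hba]
      · exfalso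
        refine hdisj b a hba t (hb' ▸ hwW b) ht ?_
        have : pullback.snd π e t = z' := htz
        rw [this]
        exact hz'1
    rw [key t₁ ht₁ h₁, key t₂ ht₂ h₂]
  -- the point over `s`
  obtain ⟨w₀, hw₀1, hw₀2⟩ := Scheme.Pullback.exists_preimage_pullback (f := π) (g := e) s y'
    (by rw [hs, hey])
  obtain ⟨a, rfl⟩ := hpts w₀ hw₀2
  -- the irreducible open
  set O : Set ↑(pullback π e) := (W a : Set ↑(pullback π e)) ∩ p ⁻¹' N with hOdef
  have hOopen : IsOpen O := (W a).2.inter (hNopen.preimage p.continuous)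
  have hzO : zz a ∈ O := ⟨hzW a, by show p (zz a) ∈ N; rw [hzy a]; exact hy'N⟩
  have hOirr : IsIrreducible O := by
    refine ⟨⟨zz a, hzO⟩, ?_⟩
    intro u v hu hv ⟨t₁, ht₁O, ht₁u⟩ ⟨t₂, ht₂O, ht₂v⟩
    have h1 : IsOpen (p '' (O ∩ u)) := hpopen _ (hOopen.inter hu)
    have h2 : IsOpen (p '' (O ∩ v)) := hpopen _ (hOopen.inter hv)
    obtain ⟨z', hz'N, ⟨r₁, ⟨hr₁O, hr₁u⟩, hr₁⟩, ⟨r₂, ⟨hr₂O, hr₂v⟩, hr₂⟩⟩ :=
      hNirr _ _ h1 h2 ⟨p t₁, ht₁O.2, ⟨t₁, ⟨ht₁O, ht₁u⟩, rfl⟩⟩ ⟨p t₂, ht₂O.2, ⟨t₂, ⟨ht₂O, ht₂v⟩, rfl⟩⟩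
    have hr : r₁ = r₂ := hfib z' hz'N a r₁ hr₁O.1 r₂ hr₂O.1 hr₁ hr₂
    exact ⟨r₁, hr₁O, hr₁u, hr ▸ hr₂v⟩
  have h1 : HasLeastGen (zz a) := hasLeastGen_of_mem_isIrreducible_open O hOopen hOirr hzO
  have h2 := h1.of_generalizingMap (pullback.fst π e) (pullback.fst π e).continuous
    (Flat.generalizingMap (f := pullback.fst π e))
  rwa [hw₀1] at h2

/-- **EGA IV 15.5.?** (= S3413). -/
theorem disjoint_irreducibleComponents {X Y : Scheme.{u}} [IsLocallyNoetherian Y]
    (hY : ∀ y : Y, CAlg2.IsGeomUnibranch (Y.presheaf.stalk y)) (f : X ⟶ Y)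
    [IsSeparated f] [LocallyQuasiFinite f] [LocallyOfFiniteType f] [QuasiCompact f]
    [UniversallyOpen f]
    (hn : IsLocallyConstant (fun z : Y => MoreMor.nGeomConnComp f z)) :
    ∀ Z ∈ irreducibleComponents (X : Type u), ∀ Z' ∈ irreducibleComponents (X : Type u),
      Z ≠ Z' → Disjoint Z Z' := by
  have key : ∀ x : X, HasLeastGen x := by
    intro x
    have hc : ∃ V ∈ nhds (f x), ∀ z ∈ V,
        MoreMor.nGeomConnComp f z = MoreMor.nGeomConnComp f (f x) :=
      ⟨_, (hn.isOpen_fiber _).mem_nhds (rfl : f x ∈ {z | MoreMor.nGeomConnComp f z =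
        MoreMor.nGeomConnComp f (f x)}), fun z hz => hz⟩
    obtain ⟨U, hyU, hprop⟩ := Groth.Agent.Lib.helper13.GF.nGeom_proper_at f (f x)
      (fun x' _ => Groth.Agent.Lib.helper13.GF.isUnivOpenAt_of_universallyOpen f x') hc
    haveI := hprop
    have hpbU : IsPullback (f ⁻¹ᵁ U).ι (f ∣_ U) f U.ι := (isPullback_morphismRestrict f U).flip
    haveI : LocallyQuasiFinite (f ∣_ U) := MorphismProperty.of_isPullback hpbU inferInstance
    haveI : UniversallyOpen (f ∣_ U) := MorphismProperty.of_isPullback hpbU inferInstance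
    haveI : IsFinite (f ∣_ U) := IsFinite.of_isProper_of_locallyQuasiFinite _
    let y' : (U : Scheme.{u}) := ⟨f x, hyU⟩
    let x' : (f ⁻¹ᵁ U : Scheme.{u}) := ⟨x, hyU⟩
    have hy' : CAlg2.IsGeomUnibranch ((U : Scheme.{u}).presheaf.stalk y') :=
      Groth.Agent.Lib.Helper14.GUBirat.isGeomUnibranch_of_ringEquiv
        (asIso (U.ι.stalkMap y')).commRingCatIsoToRingEquiv (hY (U.ι y'))
    obtain ⟨V, hV, hVc⟩ := hc
    have hbc : ∀ u : (U : Scheme.{u}),
        MoreMor.nGeomConnComp (f ∣_ U) u = MoreMor.nGeomConnComp f (U.ι u) := fun u =>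
      Groth.Agent.Lib.helper3.GeomFiberBC.nGeomConnComp_baseChange f (f ∣_ U) _ U.ι hpbU u
    have hc' : ∃ V' ∈ nhds y', ∀ z ∈ V', MoreMor.nGeomConnComp (f ∣_ U) z =
        MoreMor.nGeomConnComp (f ∣_ U) y' := by
      refine ⟨U.ι ⁻¹' V, U.ι.continuous.continuousAt.preimage_mem_nhds hV, fun z hz => ?_⟩
      rw [hbc z, hbc y']
      exact hVc _ hz
    have hx'y' : (f ∣_ U) x' = y' := by
      apply U.ι.isEmbedding.injective
      rw [← Scheme.Hom.comp_apply, morphismRestrict_ι]
      rfl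
    have h1 : HasLeastGen x' := hasLeastGen_of_isFinite (f ∣_ U) y' hy' hc' x' hx'y'
    exact h1.of_generalizingMap (f ⁻¹ᵁ U).ι (f ⁻¹ᵁ U).ι.continuous
      (Flat.generalizingMap (f := (f ⁻¹ᵁ U).ι))
  intro Z hZ Z' hZ' hne
  rw [Set.disjoint_iff]
  rintro x ⟨hxZ, hxZ'⟩
  obtain ⟨Z₀, -, huniq⟩ := (key x).existsUnique_component
  exact hne ((huniq Z ⟨hZ, hxZ⟩).trans (huniq Z' ⟨hZ', hxZ'⟩).symm)

end Groth.Agent.Lib.helper9.SemiCont
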