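/-
Helper library (helper9): powers of the Sierpiński space are spectral.
-/
import Groth.Agent.Lib.Helper9.SpectralMap
import Mathlib.Topology.Compactness.Bases

set_option autoImplicit false

namespace Groth.Agent.Lib.helper9

open Topology TopologicalSpace

universe u

/-- Specialization in the Sierpiński space. -/
theorem specializes_Prop_iff {p q : Prop} : p ⤳ q ↔ (q → p) := by
  constructor
  · intro h hq
    have hq' : q = True := eq_true hq
    subst hq'
    have : p ∈ ({True} : Set Prop) := h.mem_open isOpen_singleton_true rfl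
    rw [Set.mem_singleton_iff] at this
    exact this ▸ trivial
  · intro h
    by_cases hq : q
    · have hp : p = True := eq_true (h hq)
      have hq' : q = True := eq_true hq
      subst hp hq'
      exact specializes_rfl
    · have hq' : q = False := eq_false hq
      subst hq'
      rw [Specializes, nhds_false]
      exact le_top

instance t0Space_Prop : T0Space Prop := by
  refine ⟨fun p q h => ?_⟩
  have h1 := specializes_Prop_iff.mp h.specializes
  have h2 := specializes_Prop_iff.mp h.specializes'
  exact propext ⟨h2, h1⟩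

section Pow

variable {I : Type u}

theorem specializes_pow_iff {u v : I → Prop} : u ⤳ v ↔ ∀ i, v i → u i := by
  rw [specializes_pi]
  exact forall_congr' fun i => specializes_Prop_iff

/-- The basic compact opens of a power of the Sierpiński space. -/
def sierpBasic (S : Finset I) : Set (I → Prop) := {u | ∀ i ∈ S, u i}

theorem isOpen_sierpBasic (S : Finset I) : IsOpen (sierpBasic S) := by
  have : sierpBasic S = ⋂ i ∈ S, {u : I → Prop | u i} := by
    ext u
    simp [sierpBasic]
  rw [this]
  exact isOpen_biInter_finset fun i _ => continuous_Prop.mp (continuous_apply i)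

theorem isCompact_sierpBasic (S : Finset I) : IsCompact (sierpBasic S) := by
  refine isCompact_of_finite_subcover fun {ι} U hUo hU => ?_
  have h1 : (fun i => i ∈ S) ∈ sierpBasic S := fun i hi => hi
  obtain ⟨i₀, hi₀⟩ := Set.mem_iUnion.mp (hU h1)
  refine ⟨{i₀}, fun v hv => ?_⟩
  simp only [Finset.mem_singleton, Set.iUnion_iUnion_eq_left]
  have : v ⤳ (fun i => i ∈ S) := specializes_pow_iff.mpr fun i hi => hv i hi
  exact this.mem_open (hUo i₀) hi₀

theorem sierpBasic_inter (S T : Finset I) [DecidableEq I] :
    sierpBasic S ∩ sierpBasic T = sierpBasic (S ∪ T) := by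
  ext u
  simp only [sierpBasic, Set.mem_inter_iff, Set.mem_ofPred_eq, Finset.mem_union]
  constructor
  · rintro ⟨h1, h2⟩ i (hi | hi)
    exacts [h1 i hi, h2 i hi]
  · intro h
    exact ⟨fun i hi => h i (Or.inl hi), fun i hi => h i (Or.inr hi)⟩

theorem isTopologicalBasis_sierpBasic :
    IsTopologicalBasis (Set.range (sierpBasic : Finset I → Set (I → Prop))) := by
  classical
  refine isTopologicalBasis_of_isOpen_of_nhds ?_ ?_
  · rintro _ ⟨S, rfl⟩
    exact isOpen_sierpBasic S
  · intro u O huO hO
    obtain ⟨S₀, w, hw, hS₀⟩ := isOpen_pi_iff.mp hO u huO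
    refine ⟨sierpBasic (S₀.filter fun i => u i), ⟨_, rfl⟩, ?_, ?_⟩
    · intro i hi
      exact (Finset.mem_filter.mp hi).2
    · intro v hv
      apply hS₀
      intro i hi
      have : v i ⤳ u i := specializes_Prop_iff.mpr fun hui =>
        hv i (Finset.mem_filter.mpr ⟨hi, hui⟩)
      exact this.mem_open (hw i hi).1 (hw i hi).2

instance quasiSober_pow : QuasiSober (I → Prop) := by
  classical
  refine ⟨fun {Z} hZ hZc => ?_⟩
  let ξ : I → Prop := fun i => ∃ z ∈ Z, z i
  refine ⟨ξ, ?_⟩
  change closure {ξ} = Z
  apply Set.Subset.antisymm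
  · rw [hZc.closure_subset_iff, Set.singleton_subset_iff, ← hZc.closure_eq,
      isTopologicalBasis_sierpBasic.mem_closure_iff]
    rintro _ ⟨S, rfl⟩ hξS
    have := isIrreducible_iff_sInter.mp hZ (S.image fun i => {u : I → Prop | u i}) ?_ ?_
    · obtain ⟨z, hzZ, hz⟩ := this
      refine ⟨z, fun i hi => ?_, hzZ⟩
      exact hz _ (Finset.mem_coe.mpr (Finset.mem_image_of_mem _ hi))
    · intro s hs
      obtain ⟨i, -, rfl⟩ := Finset.mem_image.mp hs
      exact continuous_Prop.mp (continuous_apply i)
    · intro s hs
      obtain ⟨i, hi, rfl⟩ := Finset.mem_image.mp hs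
      obtain ⟨z, hzZ, hzi⟩ := hξS i hi
      exact ⟨z, hzZ, hzi⟩
  · intro z hzZ
    rw [← specializes_iff_mem_closure, specializes_pow_iff]
    exact fun i hi => ⟨z, hzZ, hi⟩

instance prespectralSpace_pow : PrespectralSpace (I → Prop) :=
  PrespectralSpace.of_isTopologicalBasis' isTopologicalBasis_sierpBasic isCompact_sierpBasic

instance quasiSeparatedSpace_pow : QuasiSeparatedSpace (I → Prop) := by
  classical
  refine QuasiSeparatedSpace.of_isTopologicalBasis isTopologicalBasis_sierpBasic fun S T => ?_
  rw [sierpBasic_inter]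
  exact isCompact_sierpBasic _

instance spectralSpace_pow : SpectralSpace (I → Prop) := { }

end Pow

end Groth.Agent.Lib.helper9
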