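import Mathlib
import Groth.Agent.Lib.Helper9.SmBranch3

/-!
# Geometric branches and flat local homomorphisms (helper9)

* `numGeomBranches_le_of_flat_local`: a flat local homomorphism `A → B` of local rings does not
  decrease the number of geometric branches.
* `isGeomUnibranch_of_flat_local`: geometric unibranchness descends along flat local
  homomorphisms.
-/

set_option autoImplicit false
set_option linter.style.haveILetI false
set_option backward.isDefEq.respectTransparency false

universe u

namespace Groth.Agent.Lib.helper9.SmBranch

open AlgebraicGeometry CategoryTheory Limits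

/-- The number of geometric branches of `Spec A` at the closed point is that of `A`. -/
theorem numGeomBranchesAt_closedPoint (A : CommRingCat.{u}) [IsLocalRing A] :
    Brnch.numGeomBranchesAt (Spec A) (IsLocalRing.closedPoint A) = Brnch.numGeomBranches A :=
  numGeomBranches_eq_of_ringEquiv (stalkClosedPointIso A).commRingCatIsoToRingEquiv

/-- A flat local homomorphism does not decrease the number of geometric branches. -/
theorem numGeomBranches_le_of_flat_local {A B : Type u} [CommRing A] [CommRing B] [IsLocalRing A]
    [IsLocalRing B] (φ : A →+* B) [IsLocalHom φ] (hφ : φ.Flat) :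
    Brnch.numGeomBranches A ≤ Brnch.numGeomBranches B := by
  let φ' : CommRingCat.of A ⟶ CommRingCat.of B := CommRingCat.ofHom φ
  haveI : Flat (Spec.map φ') := by
    rw [HasRingHomProperty.Spec_iff (P := @Flat)]
    exact hφ
  have h := numGeomBranchesAt_le_of_flat (Spec.map φ') (IsLocalRing.closedPoint B)
  have h1 : Spec.map φ' (IsLocalRing.closedPoint B) = IsLocalRing.closedPoint A :=
    IsLocalRing.comap_closedPoint φ
  rw [h1, numGeomBranchesAt_closedPoint (CommRingCat.of A),
    numGeomBranchesAt_closedPoint (CommRingCat.of B)] at h
  exact h

/-- Geometric unibranchness descends along flat local homomorphisms. -/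
theorem isGeomUnibranch_of_flat_local {A B : Type u} [CommRing A] [CommRing B] [IsLocalRing A]
    [IsLocalRing B] (φ : A →+* B) [IsLocalHom φ] (hφ : φ.Flat) (hB : CAlg2.IsGeomUnibranch B) :
    CAlg2.IsGeomUnibranch A := by
  rw [← Groth.Agent.S9236.result] at hB ⊢
  have h := numGeomBranches_le_of_flat_local φ hφ
  rw [hB] at h
  exact le_antisymm h (one_le_numGeomBranches A)

end Groth.Agent.Lib.helper9.SmBranch
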