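import Mathlib
import Groth.Prelude.Def_CAlg2
import Groth.Agent.Lib.Helper9.GUSmoothRed

/-!
# Unibranch local rings: local rings of smooth algebras with purely inseparable residue field
extension have a unique minimal prime (helper9)

* `EULocRedSmPI R`: every local ring `G` of a smooth `R`-algebra dominating `R` whose residue field
  is purely inseparable over that of `R` (elementwise formulation) has prime nilradical.
* `euLocRedSmPI_of_unibranch`, `euLocRedSmPI_of_isUnibranch`: unibranch local rings satisfy it.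
* `transfer_local_sm'`: version of `transfer_local_sm` with a given algebra structure.
-/

set_option autoImplicit false

namespace Groth.Agent.Lib.helper9.UnramCore

universe u

open Algebra TensorProduct

/-- Local rings `G` of smooth `R`-algebras dominating `R`, with residue field purely inseparable
over that of `R`, have prime nilradical. -/
def EULocRedSmPI (R : Type u) [CommRing R] : Prop :=
  ∀ (C G : Type u) [CommRing C] [Algebra R C] [Algebra.Smooth R C] [CommRing G] [Algebra C G]
    [Algebra R G] [IsScalarTower R C G] (M : Submonoid C) [IsLocalization M G] [IsLocalRing G]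
    [IsLocalHom (algebraMap R G)] (p : ℕ)
    (_ : p = 1 ∨ (p.Prime ∧ (p : G) ∈ IsLocalRing.maximalIdeal G))
    (_ : ∀ g : G, ∃ (n : ℕ) (r : R), g ^ p ^ n - algebraMap R G r ∈ IsLocalRing.maximalIdeal G),
    (nilradical G).IsPrime

attribute [local instance] Algebra.TensorProduct.rightAlgebra in
/-- A local ring `R` with a normal local integral extension `R̄` (kernel nil) satisfies
`EULocRedSmPI`. -/
theorem euLocRedSmPI_of_unibranch (R Rb : Type u) [CommRing R] [IsLocalRing R] [CommRing Rb]
    [IsDomain Rb] [IsIntegrallyClosed Rb] [IsLocalRing Rb] [Algebra R Rb]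
    [Algebra.IsIntegral R Rb] (hker : ∀ r : R, algebraMap R Rb r = 0 → IsNilpotent r) :
    EULocRedSmPI R := by
  intro C G _ _ _ _ _ _ _ M _ _ _ p hp hres
  let e : Rb ⊗[R] C ≃ₐ[Rb] C ⊗[R] Rb :=
    { __ := Algebra.TensorProduct.comm R Rb C, commutes' := fun _ => rfl }
  have het : Algebra.Smooth Rb (C ⊗[R] Rb) := .of_equiv e
  let Gb := Localization (Algebra.algebraMapSubmonoid (C ⊗[R] Rb) M)
  let algGGb : Algebra G Gb := localizationAlgebra M (C ⊗[R] Rb)
  have hflat : Module.Flat R C := inferInstance
  have hnilC : ∀ c : C, algebraMap C (C ⊗[R] Rb) c = 0 → IsNilpotent c := fun c hc =>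
    isNilpotent_of_tmul_one_eq_zero hker c hc
  have hιint : (algebraMap G Gb).IsIntegral := by
    rw [localizationAlgebraMap_def]
    exact isIntegral_localization
  -- compatibility
  have hcompat : ∀ c : C, algebraMap G Gb (algebraMap C G c) =
      algebraMap (C ⊗[R] Rb) Gb (c ⊗ₜ[R] (1 : Rb)) := by
    intro c
    rw [localizationAlgebraMap_def, IsLocalization.map_eq]
    rfl
  have hιnil : ∀ g : G, algebraMap G Gb g = 0 → IsNilpotent g := by
    intro g hg
    obtain ⟨c, m, rfl⟩ := IsLocalization.exists_mk'_eq M g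
    have h1 : algebraMap G Gb (algebraMap C G c) = 0 := by
      have h2 : algebraMap C G c = IsLocalization.mk' G c m * algebraMap C G m := by
        rw [IsLocalization.mk'_spec]
      rw [h2, map_mul, hg, zero_mul]
    rw [hcompat] at h1
    obtain ⟨⟨_, ⟨m', hm', rfl⟩⟩, hm''⟩ :=
      (IsLocalization.map_eq_zero_iff (Algebra.algebraMapSubmonoid (C ⊗[R] Rb) M) Gb _).1 h1
    have h3 : algebraMap C (C ⊗[R] Rb) (m' * c) = 0 := by
      rw [map_mul]
      exact hm''
    have h4 : IsNilpotent (m' * c) := hnilC _ h3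
    have h5 : IsNilpotent (algebraMap C G (m' * c)) := h4.map _
    have h6 : IsLocalization.mk' G c m =
        algebraMap C G (m' * c) * IsLocalization.mk' G 1 (⟨m', hm'⟩ * m) := by
      rw [← IsLocalization.mk'_eq_mul_mk'_one, IsLocalization.mk'_eq_iff_eq]
      congr 1
      simp only [Submonoid.coe_mul]
      ring
    rw [h6]
    exact (Commute.all _ _).isNilpotent_mul_right h5
  have hnt : Nontrivial Gb := by
    by_contra hnt
    rw [not_nontrivial_iff_subsingleton] at hnt
    have h1 : IsNilpotent (1 : G) := hιnil 1 (Subsingleton.elim _ _)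
    exact not_isNilpotent_one h1
  have hmax : ∀ N : Ideal Gb, N.IsMaximal → N.comap (algebraMap G Gb) =
      IsLocalRing.maximalIdeal G := by
    intro N hN
    have : (N.comap (algebraMap G Gb)).IsMaximal :=
      Ideal.isMaximal_comap_of_isIntegral_of_isMaximal' _ hιint N
    exact IsLocalRing.eq_maximalIdeal this
  -- the prime of `C` below the maximal ideal of `G`
  let q' : Ideal C := (IsLocalRing.maximalIdeal G).comap (algebraMap C G)
  have hp' : p = 1 ∨ (p.Prime ∧ (p : C) ∈ q') := by
    rcases hp with h | ⟨h1, h2⟩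
    · exact Or.inl h
    · refine Or.inr ⟨h1, ?_⟩
      show algebraMap C G (p : C) ∈ IsLocalRing.maximalIdeal G
      rw [map_natCast]
      exact h2
  have hres' : ∀ x : C, ∃ (n : ℕ) (r : R), x ^ p ^ n - algebraMap R C r ∈ q' := by
    intro x
    obtain ⟨n, r, hr⟩ := hres (algebraMap C G x)
    refine ⟨n, r, ?_⟩
    show algebraMap C G (x ^ p ^ n - algebraMap R C r) ∈ IsLocalRing.maximalIdeal G
    rw [map_sub, map_pow, ← IsScalarTower.algebraMap_apply R C G]
    exact hr
  have huniq : ∀ N₁ N₂ : Ideal Gb, N₁.IsMaximal → N₂.IsMaximal → N₁ = N₂ := by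
    intro N₁ N₂ hN₁ hN₂
    have hcN : ∀ (N : Ideal Gb), N.IsMaximal → ∀ c : C,
        c ⊗ₜ[R] (1 : Rb) ∈ N.comap (algebraMap (C ⊗[R] Rb) Gb) ↔
          algebraMap C G c ∈ IsLocalRing.maximalIdeal G := by
      intro N hN c
      rw [Ideal.mem_comap, ← hcompat, ← hmax N hN, Ideal.mem_comap]
    have hmN : ∀ (N : Ideal Gb), N.IsMaximal → ∀ μ : Rb,
        (1 : C) ⊗ₜ[R] μ ∈ N.comap (algebraMap (C ⊗[R] Rb) Gb) ↔
          μ ∈ IsLocalRing.maximalIdeal Rb := by
      intro N hN μ
      let Q := N.comap (algebraMap (C ⊗[R] Rb) Gb)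
      have hQ : Q.IsPrime := Ideal.comap_isPrime _ _
      let P := Q.comap (algebraMap Rb (C ⊗[R] Rb))
      have hP : P.IsPrime := Ideal.comap_isPrime _ _
      have hPR : P.comap (algebraMap R Rb) = IsLocalRing.maximalIdeal R := by
        ext r
        rw [Ideal.mem_comap, Ideal.mem_comap]
        have h1 : algebraMap Rb (C ⊗[R] Rb) (algebraMap R Rb r) =
            (algebraMap R C r) ⊗ₜ[R] (1 : Rb) := by
          show (1 : C) ⊗ₜ[R] (algebraMap R Rb r) = _
          rw [Algebra.algebraMap_eq_smul_one, Algebra.algebraMap_eq_smul_one,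
            TensorProduct.smul_tmul]
        rw [h1, hcN N hN, ← IsScalarTower.algebraMap_apply R C G,
          ← IsLocalRing.maximalIdeal_comap (algebraMap R G), Ideal.mem_comap]
      have hPmax : P.IsMaximal :=
        Ideal.isMaximal_of_isIntegral_of_isMaximal_comap (R := R) P (by rw [hPR]; infer_instance)
      have hPeq : P = IsLocalRing.maximalIdeal Rb := IsLocalRing.eq_maximalIdeal hPmax
      rw [← hPeq]
      rfl
    have hQ₁ : (N₁.comap (algebraMap (C ⊗[R] Rb) Gb)).IsPrime := Ideal.comap_isPrime _ _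
    have hQ₂ : (N₂.comap (algebraMap (C ⊗[R] Rb) Gb)).IsPrime := Ideal.comap_isPrime _ _
    -- swap the factors
    let σ : Rb ⊗[R] C →+* C ⊗[R] Rb := (Algebra.TensorProduct.comm R Rb C).toRingEquiv.toRingHom
    have hσ : Function.Surjective σ := (Algebra.TensorProduct.comm R Rb C).surjective
    have hσ1 : ∀ (b : Rb) (c : C), σ (b ⊗ₜ[R] c) = c ⊗ₜ[R] b := fun b c => rfl
    have hQ₁' : ((N₁.comap (algebraMap (C ⊗[R] Rb) Gb)).comap σ).IsPrime :=
      Ideal.comap_isPrime _ _
    have hQ₂' : ((N₂.comap (algebraMap (C ⊗[R] Rb) Gb)).comap σ).IsPrime :=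
      Ideal.comap_isPrime _ _
    have hQeq' := prime_eq_of_comap_eq (R := R) (C := Rb) (Rb := C) q' p hp' hres'
      ((N₁.comap (algebraMap (C ⊗[R] Rb) Gb)).comap σ)
      ((N₂.comap (algebraMap (C ⊗[R] Rb) Gb)).comap σ)
      (fun μ hμ => by
        rw [Ideal.mem_comap, hσ1, hcN N₁ hN₁]
        exact hμ)
      (fun μ hμ => by
        rw [Ideal.mem_comap, hσ1, hcN N₂ hN₂]
        exact hμ)
      (fun b => by
        have h1 : ∀ N : Ideal Gb, N.IsMaximal →
            (b ⊗ₜ[R] (1 : C) ∈ (N.comap (algebraMap (C ⊗[R] Rb) Gb)).comap σ ↔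
              b ∈ IsLocalRing.maximalIdeal Rb) := by
          intro N hN
          rw [Ideal.mem_comap (f := σ), hσ1, hmN N hN]
        rw [h1 N₁ hN₁, h1 N₂ hN₂])
    have hQeq : N₁.comap (algebraMap (C ⊗[R] Rb) Gb) = N₂.comap (algebraMap (C ⊗[R] Rb) Gb) :=
      Ideal.comap_injective_of_surjective σ hσ hQeq'
    calc N₁ = Ideal.map (algebraMap (C ⊗[R] Rb) Gb) (N₁.comap (algebraMap (C ⊗[R] Rb) Gb)) :=
          (IsLocalization.map_under (Algebra.algebraMapSubmonoid (C ⊗[R] Rb) M) Gb N₁).symm
      _ = Ideal.map (algebraMap (C ⊗[R] Rb) Gb) (N₂.comap (algebraMap (C ⊗[R] Rb) Gb)) := by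
          rw [hQeq]
      _ = N₂ := IsLocalization.map_under (Algebra.algebraMapSubmonoid (C ⊗[R] Rb) M) Gb N₂
  have hloc : IsLocalRing Gb := by
    obtain ⟨N, hN⟩ := Ideal.exists_maximal Gb
    exact IsLocalRing.of_unique_max_ideal ⟨N, hN, fun N' hN' => huniq N' N hN' hN⟩
  have hdom : IsDomain Gb :=
    (isDomain_isIntegrallyClosed_of_localization_smooth
      Rb (C ⊗[R] Rb) Gb (Algebra.algebraMapSubmonoid (C ⊗[R] Rb) M)).1
  have hkp : (RingHom.ker (algebraMap G Gb)).IsPrime := RingHom.ker_isPrime _
  have hkeq : RingHom.ker (algebraMap G Gb) = nilradical G := by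
    apply le_antisymm
    · intro g hg
      exact mem_nilradical.2 (hιnil g hg)
    · rw [nilradical_eq_sInf]
      exact sInf_le hkp
  exact hkeq ▸ hkp

/-- Unibranch local rings satisfy `EULocRedSmPI`. -/
theorem euLocRedSmPI_of_isUnibranch (R : Type u) [CommRing R] [IsLocalRing R]
    (h : CAlg2.IsUnibranch R) : EULocRedSmPI R := by
  obtain ⟨hdom, hloc⟩ := h
  have hdomRb : IsDomain (CAlg2.normRed R) := inferInstance
  have hic : IsIntegrallyClosed (CAlg2.normRed R) :=
    integralClosure.isIntegrallyClosedOfFiniteExtension (FractionRing (CAlg2.red R))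
  let φ : R →+* CAlg2.normRed R :=
    (algebraMap (CAlg2.red R) (CAlg2.normRed R)).comp (Ideal.Quotient.mk (nilradical R))
  let algRRb : Algebra R (CAlg2.normRed R) := φ.toAlgebra
  have st : IsScalarTower R (CAlg2.red R) (CAlg2.normRed R) := .of_algebraMap_eq' rfl
  have hint1 : Algebra.IsIntegral R (CAlg2.red R) :=
    Algebra.isIntegral_of_surjective Ideal.Quotient.mk_surjective
  have hint : Algebra.IsIntegral R (CAlg2.normRed R) :=
    Algebra.IsIntegral.trans (R := R) (A := CAlg2.red R) (B := CAlg2.normRed R)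
  have hker : ∀ r : R, algebraMap R (CAlg2.normRed R) r = 0 → IsNilpotent r := by
    intro r hr
    have h1 : Function.Injective (algebraMap (CAlg2.red R) (CAlg2.normRed R)) := by
      intro a b hab
      have := congrArg Subtype.val hab
      exact IsFractionRing.injective (CAlg2.red R) (FractionRing (CAlg2.red R)) this
    have h2 : Ideal.Quotient.mk (nilradical R) r = 0 := by
      apply h1
      rw [map_zero]
      exact hr
    exact mem_nilradical.1 (Ideal.Quotient.eq_zero_iff_mem.1 h2)
  exact euLocRedSmPI_of_unibranch R (CAlg2.normRed R) hker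

attribute [local instance] Algebra.TensorProduct.rightAlgebra in
/-- Version of `transfer_local_sm` where the algebra structure of `G = C_{q'}` over `R = A_p` is
given. -/
theorem transfer_local_sm' {A : Type u} [CommRing A] (p : Ideal A) [p.IsPrime] (R : Type u)
    [CommRing R] [Algebra A R] [IsLocalization.AtPrime R p]
    (Φ : ∀ (G : Type u) [CommRing G] [Algebra R G], Prop)
    (h : ∀ (C G : Type u) [CommRing C] [Algebra R C] [Algebra.Smooth R C] [CommRing G]
      [Algebra C G] [Algebra R G] [IsScalarTower R C G] (M : Submonoid C) [IsLocalization M G]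
      [IsLocalRing G] [IsLocalHom (algebraMap R G)], Φ G)
    (C : Type u) [CommRing C] [Algebra A C] [Algebra.Smooth A C] (q' : Ideal C) [q'.IsPrime]
    (hq' : q'.under A = p) (G : Type u) [CommRing G] [Algebra C G]
    [IsLocalization.AtPrime G q'] [Algebra A G] [IsScalarTower A C G] [Algebra R G]
    [IsScalarTower A R G] : Φ G := by
  have hlocG : IsLocalRing G := IsLocalization.AtPrime.isLocalRing G q'
  have hmem : ∀ y : A, y ∉ p → algebraMap A C y ∉ q' := by
    intro y hy hy'
    apply hy
    rw [← hq']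
    exact hy'
  have hunits : ∀ y : p.primeCompl, IsUnit (algebraMap A G y) := by
    intro y
    rw [IsScalarTower.algebraMap_apply A C G]
    exact IsLocalization.map_units G (⟨algebraMap A C y, hmem y y.2⟩ : q'.primeCompl)
  let μ : R ⊗[A] C →ₐ[A] G :=
    Algebra.TensorProduct.productMap (IsScalarTower.toAlgHom A R G) (IsScalarTower.toAlgHom A C G)
  let algCRG : Algebra (R ⊗[A] C) G := μ.toRingHom.toAlgebra
  have st2 : IsScalarTower R (R ⊗[A] C) G := by
    refine .of_algebraMap_eq fun r => ?_
    show algebraMap R G r = μ (r ⊗ₜ 1)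
    simp [μ]
  have st3 : IsScalarTower C (R ⊗[A] C) G := by
    refine .of_algebraMap_eq fun c => ?_
    show algebraMap C G c = μ (1 ⊗ₜ c)
    simp [μ]
  have hloc1 : IsLocalization (Algebra.algebraMapSubmonoid C p.primeCompl) (R ⊗[A] C) :=
    IsLocalization.tensorRight R p.primeCompl
  have hle : Algebra.algebraMapSubmonoid C p.primeCompl ≤ q'.primeCompl := by
    rintro _ ⟨y, hy, rfl⟩
    exact hmem y hy
  have hloc2 : IsLocalization (q'.primeCompl.map (algebraMap C (R ⊗[A] C))) G :=
    IsLocalization.isLocalization_of_submonoid_le (R ⊗[A] C) G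
      (Algebra.algebraMapSubmonoid C p.primeCompl) q'.primeCompl hle
  have hlh : IsLocalHom (algebraMap R G) := by
    constructor
    intro r hr
    obtain ⟨a, s, rfl⟩ := IsLocalization.exists_mk'_eq p.primeCompl r
    rw [IsLocalization.AtPrime.isUnit_mk'_iff R p]
    by_contra hap
    have hap' : a ∈ p := by simpa using hap
    have h1 : algebraMap A C a ∈ q' := by
      have : a ∈ q'.under A := hq' ▸ hap'
      exact this
    have h2 : IsUnit (algebraMap A G a) := by
      have h3 : algebraMap R G (IsLocalization.mk' R a s) * algebraMap A G s =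
          algebraMap A G a := by
        rw [IsScalarTower.algebraMap_apply A R G s, IsScalarTower.algebraMap_apply A R G a,
          ← map_mul, IsLocalization.mk'_spec]
      rw [← h3]
      exact hr.mul (hunits s)
    rw [IsScalarTower.algebraMap_apply A C G,
      IsLocalization.AtPrime.isUnit_to_map_iff G q'] at h2
    exact h2 h1
  exact h (R ⊗[A] C) G (q'.primeCompl.map (algebraMap C (R ⊗[A] C)))

end Groth.Agent.Lib.helper9.UnramCore
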