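import Mathlib
import Groth.Agent.Lib.Helper9.SmBranchPI1
import Groth.Agent.Lib.Helper17.FFMin

/-!
# Counting minimal primes of local rings of smooth algebras with purely inseparable residue
field extension (helper9)

* `nilradical_isPrime_quotient_of_euLocRedSmPI`: for a local ring `G` of a smooth `R`-algebra with
  purely inseparable residue field extension and a prime `𝔭` of `R` with `R ⧸ 𝔭` satisfying
  `EULocRedSmPI` (e.g. unibranch), `G ⧸ 𝔭 G` has prime nilradical.
* `encard_minimalPrimes_le_of_flat_of_nilradical_quotient`: counting lemma.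
-/

set_option autoImplicit false
set_option linter.style.haveILetI false

namespace Groth.Agent.Lib.helper9.UnramCore

universe u

open Algebra TensorProduct

/-- Counting lemma: if `G` is flat over `R` and `G ⧸ 𝔭 G` has prime nilradical for every minimal
prime `𝔭` of `R`, then `G` has at most as many minimal primes as `R`. -/
theorem encard_minimalPrimes_le_of_flat_of_nilradical_quotient (R G : Type u) [CommRing R]
    [CommRing G] [Algebra R G] [Module.Flat R G]
    (h : ∀ 𝔭 ∈ minimalPrimes R, (nilradical (G ⧸ 𝔭.map (algebraMap R G))).IsPrime) :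
    (minimalPrimes G).encard ≤ (minimalPrimes R).encard := by
  refine Set.encard_le_encard_of_injOn (f := Ideal.comap (algebraMap R G))
    (Groth.Agent.Lib.helper17.FFMin.mapsTo_minimalPrimes_of_flat R G) ?_
  intro P₁ hP₁ P₂ hP₂ heq
  have hmin := Groth.Agent.Lib.helper17.FFMin.mapsTo_minimalPrimes_of_flat R G hP₁
  have hnil := h _ hmin
  set J := (Ideal.comap (algebraMap R G) P₁).map (algebraMap R G) with hJ
  let Q : Ideal G := (nilradical (G ⧸ J)).comap (Ideal.Quotient.mk J)
  have hQ : Q.IsPrime := Ideal.comap_isPrime _ _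
  have hJ₁ : J ≤ P₁ := Ideal.map_comap_le
  have hJ₂ : J ≤ P₂ := by
    rw [hJ]
    have heq' : Ideal.comap (algebraMap R G) P₁ = Ideal.comap (algebraMap R G) P₂ := heq
    rw [heq']
    exact Ideal.map_comap_le
  have key : ∀ P : Ideal G, P ∈ minimalPrimes G → J ≤ P → P = Q := by
    intro P hP hJP
    haveI : P.IsPrime := hP.1.1
    have hle : Q ≤ P := by
      intro x hx
      have hx' : IsNilpotent (Ideal.Quotient.mk J x) := mem_nilradical.1 hx
      obtain ⟨n, hn⟩ := hx'
      rw [← map_pow, Ideal.Quotient.eq_zero_iff_mem] at hn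
      exact Ideal.IsPrime.mem_of_pow_mem inferInstance n (hJP hn)
    exact le_antisymm (hP.2 ⟨hQ, bot_le⟩ hle) hle
  rw [key P₁ hP₁ hJ₁, key P₂ hP₂ hJ₂]

/-- For a local ring `G` of a smooth `R`-algebra with purely inseparable residue field extension
and a prime `𝔭` of `R` such that `R ⧸ 𝔭` satisfies `EULocRedSmPI`, the ring `G ⧸ 𝔭 G` has prime
nilradical. -/
theorem nilradical_isPrime_quotient_of_euLocRedSmPI (R C G : Type u) [CommRing R] [IsLocalRing R]
    [CommRing C] [Algebra R C] [Algebra.Smooth R C] [CommRing G] [Algebra C G] [Algebra R G]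
    [IsScalarTower R C G] (M : Submonoid C) [IsLocalization M G] [IsLocalRing G]
    [IsLocalHom (algebraMap R G)] (p : ℕ)
    (hp : p = 1 ∨ (p.Prime ∧ (p : G) ∈ IsLocalRing.maximalIdeal G))
    (hres : ∀ g : G, ∃ (n : ℕ) (r : R), g ^ p ^ n - algebraMap R G r ∈ IsLocalRing.maximalIdeal G)
    (𝔭 : Ideal R) [𝔭.IsPrime] (h𝔭 : EULocRedSmPI (R ⧸ 𝔭)) :
    (nilradical (G ⧸ 𝔭.map (algebraMap R G))).IsPrime := by
  let I : Ideal C := 𝔭.map (algebraMap R C)
  have hIJ : I.map (algebraMap C G) = 𝔭.map (algebraMap R G) := by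
    rw [Ideal.map_map, ← IsScalarTower.algebraMap_eq]
  rw [← hIJ]
  have hsm : Algebra.Smooth (R ⧸ 𝔭) (C ⧸ I) :=
    .of_equiv (Algebra.TensorProduct.quotIdealMapEquivQuotTensor C 𝔭).symm
  let algRG : Algebra (R ⧸ 𝔭) (G ⧸ I.map (algebraMap C G)) :=
    ((algebraMap (C ⧸ I) (G ⧸ I.map (algebraMap C G))).comp
      (algebraMap (R ⧸ 𝔭) (C ⧸ I))).toAlgebra
  have st : IsScalarTower (R ⧸ 𝔭) (C ⧸ I) (G ⧸ I.map (algebraMap C G)) :=
    .of_algebraMap_eq' rfl
  have hJle : I.map (algebraMap C G) ≤ IsLocalRing.maximalIdeal G := by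
    rw [hIJ, Ideal.map_le_iff_le_comap]
    intro r hr
    have h1 : r ∈ IsLocalRing.maximalIdeal R :=
      IsLocalRing.le_maximalIdeal (Ideal.IsPrime.ne_top inferInstance) hr
    rw [Ideal.mem_comap, IsLocalRing.mem_maximalIdeal]
    exact map_nonunit (algebraMap R G) r h1
  have hJne : I.map (algebraMap C G) ≠ ⊤ := by
    intro htop
    rw [htop] at hJle
    exact (IsLocalRing.maximalIdeal.isMaximal G).ne_top (top_le_iff.1 hJle)
  haveI : Nontrivial (G ⧸ I.map (algebraMap C G)) := Ideal.Quotient.nontrivial_iff.2 hJne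
  have hlocG : IsLocalRing (G ⧸ I.map (algebraMap C G)) :=
    IsLocalRing.of_surjective' (Ideal.Quotient.mk (I.map (algebraMap C G)))
      Ideal.Quotient.mk_surjective
  have hlhmk : IsLocalHom (Ideal.Quotient.mk (I.map (algebraMap C G))) :=
    IsLocalHom.of_surjective _ Ideal.Quotient.mk_surjective
  have hmkmem : ∀ g ∈ IsLocalRing.maximalIdeal G,
      Ideal.Quotient.mk (I.map (algebraMap C G)) g ∈
        IsLocalRing.maximalIdeal (G ⧸ I.map (algebraMap C G)) := by
    intro g hg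
    rw [IsLocalRing.mem_maximalIdeal] at hg ⊢
    exact map_nonunit _ g hg
  have hcomm : ∀ r : R, algebraMap (R ⧸ 𝔭) (G ⧸ I.map (algebraMap C G))
      (Ideal.Quotient.mk 𝔭 r) = Ideal.Quotient.mk (I.map (algebraMap C G)) (algebraMap R G r) := by
    intro r
    rw [IsScalarTower.algebraMap_apply R C G]
    rfl
  have hlh : IsLocalHom (algebraMap (R ⧸ 𝔭) (G ⧸ I.map (algebraMap C G))) := by
    constructor
    intro rb hrb
    obtain ⟨r, rfl⟩ := Ideal.Quotient.mk_surjective rb
    rw [hcomm] at hrb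
    have h1 : IsUnit (algebraMap R G r) := isUnit_of_map_unit _ _ hrb
    have h2 : IsUnit r := isUnit_of_map_unit _ _ h1
    exact h2.map _
  have hpb : p = 1 ∨ (p.Prime ∧ (p : G ⧸ I.map (algebraMap C G)) ∈
      IsLocalRing.maximalIdeal (G ⧸ I.map (algebraMap C G))) := by
    rcases hp with h | ⟨h1, h2⟩
    · exact Or.inl h
    · refine Or.inr ⟨h1, ?_⟩
      rw [← map_natCast (Ideal.Quotient.mk (I.map (algebraMap C G)))]
      exact hmkmem _ h2
  have hresb : ∀ g : G ⧸ I.map (algebraMap C G), ∃ (n : ℕ) (r : R ⧸ 𝔭),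
      g ^ p ^ n - algebraMap (R ⧸ 𝔭) (G ⧸ I.map (algebraMap C G)) r ∈
        IsLocalRing.maximalIdeal (G ⧸ I.map (algebraMap C G)) := by
    intro gb
    obtain ⟨g, rfl⟩ := Ideal.Quotient.mk_surjective gb
    obtain ⟨n, r, hr⟩ := hres g
    refine ⟨n, Ideal.Quotient.mk 𝔭 r, ?_⟩
    rw [hcomm, ← map_pow, ← map_sub]
    exact hmkmem _ hr
  exact h𝔭 (C ⧸ I) (G ⧸ I.map (algebraMap C G)) (Algebra.algebraMapSubmonoid (C ⧸ I) M) p hpb hresb

end Groth.Agent.Lib.helper9.UnramCore
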