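import Mathlib
import Groth.Agent.Lib.Helper9.SmBranchPI2
import Groth.Agent.Lib.Helper9.SmBranch2
import Groth.Agent.S9752
import Groth.Agent.S9810
import Groth.Agent.S9235
import Groth.Agent.Lib.Helper13.EL1

/-!
# Branches and smooth morphisms with purely inseparable residue field extension (helper9)

* `PIAt q f y`: every element of `κ(y)` has a `q^n`-th power in the image of `κ(f y)`.
* `encard_components_le_of_smooth_pi`: component count for smooth morphisms which are purely
  inseparable at a point, over a base whose branches at the image point are unibranch.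
* `numBranchesAt_le_of_flat`: flat morphisms do not decrease the number of branches.
* `numBranchesAt_le_of_smooth_pi`, `numBranchesAt_eq_of_smooth_pi`.
-/

set_option autoImplicit false
set_option linter.style.haveILetI false
set_option backward.isDefEq.respectTransparency false

universe u

namespace Groth.Agent.Lib.helper9.SmBranch

open AlgebraicGeometry CategoryTheory Limits
open Groth.Agent.H1.EssEtStalk Groth.Agent.H1.BranchCount
open Groth.Agent.Lib.helper9.UnramCore Groth.Agent.Lib.helper24.Henselization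

section PIAt

/-- `f` is purely inseparable at `y` with exponent `q`: every element of `κ(y)` has a `q^n`-th
power in the image of `κ(f y)`. -/
def PIAt (q : ℕ) {X Y : Scheme.{u}} (f : Y ⟶ X) (y : Y) : Prop :=
  ∀ t : Y.residueField y, ∃ n : ℕ, t ^ q ^ n ∈ (f.residueFieldMap y).hom.range

variable {X Y Z : Scheme.{u}} (q : ℕ)

theorem PIAt.of_bijective (f : Y ⟶ X) (y : Y) (h : Function.Bijective (f.residueFieldMap y)) :
    PIAt q f y := by
  intro t
  obtain ⟨s, hs⟩ := h.2 t
  exact ⟨0, s, by simpa using hs⟩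

theorem PIAt.comp (g : Z ⟶ Y) (f : Y ⟶ X) (z : Z) (hg : PIAt q g z) (hf : PIAt q f (g z)) :
    PIAt q (g ≫ f) z := by
  intro t
  obtain ⟨n, s, hs⟩ := hg t
  obtain ⟨m, r, hr⟩ := hf s
  refine ⟨n + m, r, ?_⟩
  rw [Scheme.residueFieldMap_comp]
  show (g.residueFieldMap z).hom ((f.residueFieldMap (g z)).hom r) = _
  rw [hr, map_pow, hs, ← pow_mul, ← pow_add]

theorem PIAt.of_comp (g : Z ⟶ Y) (f : Y ⟶ X) (z : Z) (h : PIAt q (g ≫ f) z) : PIAt q g z := by
  intro t
  obtain ⟨n, r, hr⟩ := h t
  refine ⟨n, (f.residueFieldMap (g z)).hom r, ?_⟩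
  rw [← hr, Scheme.residueFieldMap_comp]
  rfl

theorem PIAt.congr {f f' : Y ⟶ X} (e : f = f') (y : Y) (h : PIAt q f y) : PIAt q f' y := by
  subst e
  exact h

theorem PIAt.of_eq (f : Y ⟶ X) {y y' : Y} (e : y = y') (h : PIAt q f y) : PIAt q f y' := by
  subst e
  exact h

theorem natCast_residueField_eq_zero_of_eq {x x' : X} (e : x = x')
    (h : (q : X.residueField x) = 0) : (q : X.residueField x') = 0 := by
  subst e
  exact h

theorem natCast_residueField_eq_zero_of_hom (f : Y ⟶ X) (y : Y)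
    (h : (q : X.residueField (f y)) = 0) : (q : Y.residueField y) = 0 := by
  rw [← map_natCast (f.residueFieldMap y).hom, h, map_zero]

/-- The stalk-level formulation of `PIAt`. -/
theorem PIAt.stalk (f : Y ⟶ X) (y : Y) (h : PIAt q f y) (g : Y.presheaf.stalk y) :
    ∃ (n : ℕ) (r : X.presheaf.stalk (f y)),
      ¬ IsUnit (g ^ q ^ n - (f.stalkMap y).hom r) := by
  obtain ⟨n, rb, hrb⟩ := h (IsLocalRing.residue _ g)
  obtain ⟨r, rfl⟩ := IsLocalRing.residue_surjective rb
  refine ⟨n, r, ?_⟩
  have h1 : (f.residueFieldMap y).hom (IsLocalRing.residue _ r) =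
      IsLocalRing.residue _ ((f.stalkMap y).hom r) := rfl
  have h2 : IsLocalRing.residue (Y.presheaf.stalk y) (g ^ q ^ n - (f.stalkMap y).hom r) = 0 := by
    rw [map_sub, map_pow, sub_eq_zero]
    exact hrb.symm.trans h1
  rw [IsLocalRing.residue_eq_zero_iff, IsLocalRing.mem_maximalIdeal] at h2
  exact h2

end PIAt

section Ring

/-- The number of branches of a local ring is at least one. -/
theorem one_le_numBranches (A : Type u) [CommRing A] [IsLocalRing A] :
    1 ≤ Brnch.numBranches A := by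
  rw [← Groth.Agent.S9237.result A (Hens A)]
  obtain ⟨P, hP, -⟩ := Ideal.exists_minimalPrimes_le (bot_le : (⊥ : Ideal (Hens A)) ≤
    IsLocalRing.maximalIdeal (Hens A))
  haveI : Nonempty (minimalPrimes (Hens A)) := ⟨⟨P, hP⟩⟩
  exact ENat.one_le_card_iff_nonempty _ |>.2 inferInstance

/-- If a local ring has `n` minimal primes and `n` branches, every quotient by a minimal prime is
unibranch. -/
theorem isUnibranch_quotient_of_encard_eq (A : Type u) [CommRing A] [IsLocalRing A] (n : ℕ)
    (h1 : (minimalPrimes A).encard = n) (h2 : Brnch.numBranches A = n)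
    (p : Ideal A) (hp : p ∈ minimalPrimes A) :
    haveI : p.IsPrime := hp.1.1
    CAlg2.IsUnibranch (A ⧸ p) := by
  classical
  haveI : p.IsPrime := hp.1.1
  have hfin : (minimalPrimes A).Finite := Set.finite_of_encard_eq_coe h1
  haveI : Fintype (minimalPrimes A) := hfin.fintype
  have hsum := Groth.Agent.S9810.result A hfin
  rw [finsum_eq_sum_of_fintype, h2] at hsum
  rw [← Groth.Agent.S9235.result]
  -- the summands
  let g : minimalPrimes A → ℕ∞ := fun p' =>
    haveI : p'.1.IsPrime := p'.2.1.1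
    Brnch.numBranches (A ⧸ p'.1)
  have hg1 : ∀ p', 1 ≤ g p' := fun p' =>
    haveI : p'.1.IsPrime := p'.2.1.1
    one_le_numBranches (A ⧸ p'.1)
  have hcard : (Fintype.card (minimalPrimes A) : ℕ∞) = n := by
    rw [← h1, Set.encard_eq_coe_toFinset_card, Set.toFinset_card]
  have hsum' : (n : ℕ∞) = ∑ p', g p' := hsum
  have hdecomp : ∑ p', g p' = n + ∑ p', (g p' - 1) := by
    have : ∀ p', g p' = 1 + (g p' - 1) := fun p' => (add_tsub_cancel_of_le (hg1 p')).symm
    conv_lhs => rw [Finset.sum_congr rfl (fun p' _ => this p')]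
    rw [Finset.sum_add_distrib]
    simp only [Finset.sum_const, Finset.card_univ, nsmul_eq_mul, mul_one]
    rw [hcard]
  have hzero : ∑ p', (g p' - 1) = 0 := by
    have h3 : (n : ℕ∞) + ∑ p', (g p' - 1) = n + 0 := by rw [add_zero, ← hdecomp, ← hsum']
    exact ENat.add_right_injective_of_ne_top (ENat.natCast_ne_top n) h3
  have h4 : g ⟨p, hp⟩ - 1 = 0 :=
    (Finset.sum_eq_zero_iff.1 hzero) ⟨p, hp⟩ (Finset.mem_univ _)
  have h5 : g ⟨p, hp⟩ = 1 := by
    have := add_tsub_cancel_of_le (hg1 ⟨p, hp⟩)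
    rw [h4, add_zero] at this
    exact this.symm
  exact h5

end Ring

section Geom

variable {X Y : Scheme.{u}}

/-- For a smooth morphism `f : Y ⟶ X` which is purely inseparable at `y`, if every quotient of
`O_{X, f y}` by a minimal prime is unibranch, then the number of irreducible components of `Y`
through `y` is at most the number of minimal primes of `O_{X, f y}`. -/
theorem encard_components_le_of_smooth_pi (f : Y ⟶ X) [Smooth f] (y : Y) (q : ℕ)
    (hq : q = 1 ∨ (q.Prime ∧ (q : Y.residueField y) = 0)) (hpi : PIAt q f y)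
    (hU : ∀ (p : Ideal (X.presheaf.stalk (f y))) (hp : p ∈ minimalPrimes (X.presheaf.stalk (f y))),
      haveI : p.IsPrime := hp.1.1
      CAlg2.IsUnibranch ((X.presheaf.stalk (f y)) ⧸ p)) :
    {T : Set Y | T ∈ irreducibleComponents Y ∧ y ∈ T}.encard ≤
      (minimalPrimes (X.presheaf.stalk (f y))).encard := by
  rw [← encard_minimalPrimes_stalk_eq Y y]
  letI algRG : Algebra ↥(X.presheaf.stalk (f y)) ↥(Y.presheaf.stalk y) :=
    (f.stalkMap y).hom.toAlgebra
  haveI : IsLocalHom (algebraMap ↥(X.presheaf.stalk (f y)) ↥(Y.presheaf.stalk y)) :=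
    inferInstanceAs (IsLocalHom (f.stalkMap y).hom)
  haveI : Module.Flat ↥(X.presheaf.stalk (f y)) ↥(Y.presheaf.stalk y) :=
    (RingHom.flat_algebraMap_iff.1 (Flat.stalkMap f y) : _)
  refine encard_minimalPrimes_le_of_flat_of_nilradical_quotient _ _ ?_
  intro 𝔭 h𝔭
  haveI : 𝔭.IsPrime := h𝔭.1.1
  -- affine charts
  obtain ⟨V, hV, hfx, -⟩ := TopologicalSpace.Opens.isBasis_iff_nbhd.mp X.isBasis_affineOpens
    (show f y ∈ (⊤ : X.Opens) from trivial)
  obtain ⟨W, hW, hxW, e⟩ := TopologicalSpace.Opens.isBasis_iff_nbhd.mp Y.isBasis_affineOpens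
    (show y ∈ f ⁻¹ᵁ V from hfx)
  let algAB : Algebra Γ(X, V) Γ(Y, W) := (f.appLE V W e).hom.toAlgebra
  have hsm : Algebra.Smooth Γ(X, V) Γ(Y, W) :=
    HasRingHomProperty.appLE (P := @Smooth) f inferInstance ⟨V, hV⟩ ⟨W, hW⟩ e
  have hqA : (hW.primeIdealOf ⟨y, hxW⟩).asIdeal.under Γ(X, V) =
      (hV.primeIdealOf ⟨f y, hfx⟩).asIdeal :=
    congrArg PrimeSpectrum.asIdeal (IsAffineOpen.comap_primeIdealOf_appLE V hV W hW e hxW)
  let algAS : Algebra Γ(X, V) (X.presheaf.stalk (f y)) :=
    TopCat.Presheaf.algebra_section_stalk X.presheaf ⟨f y, hfx⟩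
  have hlocS := hV.isLocalization_stalk ⟨f y, hfx⟩
  let algBS : Algebra Γ(Y, W) (Y.presheaf.stalk y) :=
    TopCat.Presheaf.algebra_section_stalk Y.presheaf ⟨y, hxW⟩
  have hlocX := hW.isLocalization_stalk ⟨y, hxW⟩
  let algAG : Algebra Γ(X, V) (Y.presheaf.stalk y) :=
    ((algebraMap Γ(Y, W) (Y.presheaf.stalk y)).comp (algebraMap Γ(X, V) Γ(Y, W))).toAlgebra
  have st0 : IsScalarTower Γ(X, V) Γ(Y, W) (Y.presheaf.stalk y) := .of_algebraMap_eq' rfl
  have st1 : IsScalarTower Γ(X, V) (X.presheaf.stalk (f y)) (Y.presheaf.stalk y) := by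
    refine .of_algebraMap_eq fun a => ?_
    show (Y.presheaf.germ W y hxW).hom ((f.appLE V W e).hom a) =
      (f.stalkMap y).hom ((X.presheaf.germ V (f y) hfx).hom a)
    simp only [Scheme.Hom.germ_stalkMap_apply, Scheme.Hom.appLE,
      homOfLE_leOfHom, CommRingCat.hom_comp, RingHom.coe_comp, Function.comp_apply,
      Y.presheaf.germ_res_apply]
  have key := transfer_local_sm' (hV.primeIdealOf ⟨f y, hfx⟩).asIdeal
    (X.presheaf.stalk (f y))
    (fun G _ _ => ∀ (p : ℕ), (p = 1 ∨ (p.Prime ∧ ¬ IsUnit (p : G))) →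
      (∀ g : G, ∃ (n : ℕ) (r : X.presheaf.stalk (f y)),
        ¬ IsUnit (g ^ p ^ n - algebraMap (X.presheaf.stalk (f y)) G r)) →
      ∀ (𝔭 : Ideal (X.presheaf.stalk (f y))) [𝔭.IsPrime],
        EULocRedSmPI ((X.presheaf.stalk (f y)) ⧸ 𝔭) →
        (nilradical (G ⧸ 𝔭.map (algebraMap (X.presheaf.stalk (f y)) G))).IsPrime)
    (fun C G _ _ _ _ _ _ _ M _ _ _ p hp hres 𝔭 _ h𝔭 =>
      nilradical_isPrime_quotient_of_euLocRedSmPI (X.presheaf.stalk (f y)) C G M p
        (by
          rcases hp with h | ⟨h1, h2⟩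
          · exact Or.inl h
          · exact Or.inr ⟨h1, (IsLocalRing.mem_maximalIdeal _).2 h2⟩)
        (fun g => by
          obtain ⟨n, r, hr⟩ := hres g
          exact ⟨n, r, (IsLocalRing.mem_maximalIdeal _).2 hr⟩)
        𝔭 h𝔭)
    Γ(Y, W) (hW.primeIdealOf ⟨y, hxW⟩).asIdeal hqA (Y.presheaf.stalk y)
  refine key q ?_ (fun g => PIAt.stalk q f y hpi g) 𝔭 (euLocRedSmPI_of_isUnibranch _ (hU 𝔭 h𝔭))
  rcases hq with h | ⟨h1, h2⟩
  · exact Or.inl h
  · refine Or.inr ⟨h1, ?_⟩
    have h3 : IsLocalRing.residue (Y.presheaf.stalk y) (q : Y.presheaf.stalk y) = 0 := by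
      rw [map_natCast]
      exact h2
    rw [IsLocalRing.residue_eq_zero_iff, IsLocalRing.mem_maximalIdeal] at h3
    exact h3

/-- A flat morphism does not decrease the number of branches. -/
theorem numBranchesAt_le_of_flat (f : Y ⟶ X) [Flat f] (y : Y) :
    Brnch.numBranchesAt X (f y) ≤ Brnch.numBranchesAt Y y := by
  rw [Groth.Agent.S9752.result X (f y)]
  refine iSup_le fun U => iSup_le fun g => iSup_le fun u => iSup_le fun hg => ?_
  obtain ⟨het, hgu, hbij⟩ := hg
  obtain ⟨w, hw1, hw2⟩ :=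
    Scheme.Pullback.exists_preimage_pullback (f := f) (g := g) y u hgu.symm
  have h1 := encard_components_le_of_flat (pullback.snd f g) w
  rw [hw2] at h1
  refine h1.trans ?_
  refine Groth.Agent.S9752.encard_le_numBranchesAt (pullback.fst f g) w y ⟨inferInstance, hw1, ?_⟩
  apply Groth.Agent.Lib.helper13.EL.bijective_residueFieldMap_fst
  rw [hw2]
  exact hbij

/-- A smooth morphism which is purely inseparable at `y` does not increase the number of
branches. -/
theorem numBranchesAt_le_of_smooth_pi (f : Y ⟶ X) [Smooth f] (y : Y) (q : ℕ)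
    (hq : q = 1 ∨ (q.Prime ∧ (q : X.residueField (f y)) = 0)) (hpi : PIAt q f y) :
    Brnch.numBranchesAt Y y ≤ Brnch.numBranchesAt X (f y) := by
  rcases eq_or_ne (Brnch.numBranchesAt X (f y)) ⊤ with htop | hne
  · rw [htop]; exact le_top
  obtain ⟨n, hn⟩ := ENat.ne_top_iff_exists.1 hne
  rw [← hn, Groth.Agent.S9752.result Y y]
  refine iSup_le fun V => iSup_le fun h => iSup_le fun v => iSup_le fun hh => ?_
  obtain ⟨heth, hhv, hhbij⟩ := hh
  -- an elementary étale neighbourhood of `(X, f y)` realising the number of branches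
  obtain ⟨U, g, u, hgnb, hle⟩ := Groth.Agent.S9752.exists_nbhd_le X (f y) n hn.le
  have hge := Groth.Agent.S9752.encard_le_numBranchesAt g u (f y) hgnb
  obtain ⟨hetg, hgu, hgbij⟩ := hgnb
  rw [← hn] at hge
  have hUn : {Z : Set ↑U | Z ∈ irreducibleComponents ↑U ∧ u ∈ Z}.encard = n :=
    le_antisymm hge hle
  have hUg : Brnch.numBranchesAt U u = n := by
    have h1 := numBranchesAt_le_of_flat g u
    rw [hgu, ← hn] at h1
    refine le_antisymm ?_ h1
    rw [Groth.Agent.S9752.result U u]
    refine iSup_le fun U' => iSup_le fun g' => iSup_le fun u' => iSup_le fun hg' => ?_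
    obtain ⟨hetg', hgu', hgbij'⟩ := hg'
    rw [hn]
    refine Groth.Agent.S9752.encard_le_numBranchesAt (g' ≫ g) u' (f y) ⟨inferInstance, ?_, ?_⟩
    · show (g' ≫ g) u' = f y
      rw [Scheme.Hom.comp_apply]
      show g (g' u') = f y
      rw [show g' u' = u from hgu']
      exact hgu
    · rw [Scheme.residueFieldMap_comp]
      have h2 : Function.Bijective (g.residueFieldMap (g' u')) :=
        Groth.Agent.Lib.helper13.EL.bijective_residueFieldMap_of_eq g
          (show u = g' u' from hgu'.symm) hgbij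
      exact hgbij'.comp h2
  -- the fibre product
  have hcond : (h ≫ f) v = g u := by
    rw [Scheme.Hom.comp_apply]
    show f (h v) = g u
    rw [show h v = y from hhv]
    exact hgu.symm
  obtain ⟨w, hw1, hw2⟩ :=
    Scheme.Pullback.exists_preimage_pullback (f := h ≫ f) (g := g) v u hcond
  subst hw2
  subst hw1
  have h1 := encard_components_le_of_flat (pullback.fst (h ≫ f) g) w
  refine h1.trans ?_
  haveI : Smooth (pullback.snd (h ≫ f) g) := inferInstance
  have hmin : (minimalPrimes (U.presheaf.stalk (pullback.snd (h ≫ f) g w))).encard = n := by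
    rw [encard_minimalPrimes_stalk_eq]
    exact hUn
  -- pure inseparability of the second projection at `w`
  have hpi1 : PIAt q (h ≫ f) (pullback.fst (h ≫ f) g w) := by
    refine PIAt.comp q h f _ (PIAt.of_bijective q h _ hhbij) ?_
    exact PIAt.of_eq q f (show y = h (pullback.fst (h ≫ f) g w) from hhv.symm) hpi
  have hpi2 : PIAt q (pullback.fst (h ≫ f) g) w :=
    PIAt.of_bijective q _ w
      (Groth.Agent.Lib.helper13.EL.bijective_residueFieldMap_fst w hgbij)
  have hpi3 : PIAt q (pullback.fst (h ≫ f) g ≫ (h ≫ f)) w := PIAt.comp q _ _ w hpi2 hpi1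
  have hpi4 : PIAt q (pullback.snd (h ≫ f) g ≫ g) w := PIAt.congr q pullback.condition w hpi3
  have hpi5 : PIAt q (pullback.snd (h ≫ f) g) w := PIAt.of_comp q _ g w hpi4
  have hq' : q = 1 ∨ (q.Prime ∧ (q : (pullback (h ≫ f) g).residueField w) = 0) := by
    rcases hq with h0 | ⟨h1, h2⟩
    · exact Or.inl h0
    · refine Or.inr ⟨h1, ?_⟩
      have h3 : (q : X.residueField (g (pullback.snd (h ≫ f) g w))) = 0 :=
        natCast_residueField_eq_zero_of_eq q hgu.symm h2
      have h4 := natCast_residueField_eq_zero_of_hom q g _ h3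
      exact natCast_residueField_eq_zero_of_hom q (pullback.snd (h ≫ f) g) w h4
  have h2 := encard_components_le_of_smooth_pi (pullback.snd (h ≫ f) g) w q hq' hpi5
    (fun p hp => isUnibranch_quotient_of_encard_eq _ n hmin hUg p hp)
  rw [hmin] at h2
  exact h2

/-- Smooth morphisms which are purely inseparable at a point preserve the number of branches
there. -/
theorem numBranchesAt_eq_of_smooth_pi (f : Y ⟶ X) [Smooth f] (y : Y) (q : ℕ)
    (hq : q = 1 ∨ (q.Prime ∧ (q : X.residueField (f y)) = 0)) (hpi : PIAt q f y) :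
    Brnch.numBranchesAt Y y = Brnch.numBranchesAt X (f y) :=
  le_antisymm (numBranchesAt_le_of_smooth_pi f y q hq hpi) (numBranchesAt_le_of_flat f y)

end Geom

end Groth.Agent.Lib.helper9.SmBranch
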