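import Mathlib
import Groth.Agent.Lib.Helper9.SmBranchPI3
import Groth.Agent.Lib.Helper9.SmBranch3

/-!
# Branches of localizations of smooth algebras with purely inseparable residue field extension
(helper9)

* `numBranches_eq_of_ringEquiv`: the number of branches is invariant under ring isomorphisms.
* `numBranchesAt_Spec`: the number of branches of `Spec R` at `x` is that of `R_x`.
* `numBranches_localization_eq_of_smooth_pi`: for a smooth ring map `R → S` and a prime `q` of `S`
  with `κ(q)` purely inseparable over `κ(q ∩ R)`, the local rings `R_{q ∩ R}` and `S_q` have the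
  same number of branches.
-/

set_option autoImplicit false
set_option linter.style.haveILetI false
set_option backward.isDefEq.respectTransparency false

universe u

namespace Groth.Agent.Lib.helper9.SmBranch

open AlgebraicGeometry CategoryTheory Limits
open Groth.Agent.H1.EssEtStalk Groth.Agent.Lib.helper24.Henselization

/-- The number of branches is invariant under ring isomorphisms. -/
theorem numBranches_eq_of_ringEquiv {A A' : Type u} [CommRing A] [IsLocalRing A] [CommRing A']
    [IsLocalRing A'] (e : A ≃+* A') : Brnch.numBranches A = Brnch.numBranches A' := by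
  letI : Algebra A A' := (e : A →+* A').toAlgebra
  haveI : IsLocalHom (algebraMap A A') := by
    show IsLocalHom (e : A →+* A')
    infer_instance
  have hess := isEssentiallyEtale_of_ringEquiv' e
  have hbij : Function.Bijective (IsLocalRing.ResidueField.map (algebraMap A A')) :=
    (IsLocalRing.ResidueField.mapEquiv e).bijective
  letI : Algebra A (Hens A') := ((algebraMap A' (Hens A')).comp (algebraMap A A')).toAlgebra
  obtain ⟨hloc, hhens⟩ := isHenselization_of_strictEssEtale A A' (Hens A') ⟨hess, hbij⟩
  rw [← Groth.Agent.S9237.result A (Hens A'), ← Groth.Agent.S9237.result A' (Hens A')]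

/-- The number of branches of `Spec R` at `x` is that of the localization of `R` at `x`. -/
theorem numBranchesAt_Spec (R : CommRingCat.{u}) (x : Spec R) :
    Brnch.numBranchesAt (Spec R) x =
      Brnch.numBranches (Localization.AtPrime x.asIdeal) := by
  letI : Algebra R ((Spec R).presheaf.stalk x) := StructureSheaf.stalkAlgebra R x
  haveI : IsLocalization.AtPrime ((Spec R).presheaf.stalk x) x.asIdeal :=
    StructureSheaf.IsLocalization.to_stalk R x
  exact numBranches_eq_of_ringEquiv
    (IsLocalization.algEquiv x.asIdeal.primeCompl ((Spec R).presheaf.stalk x)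
      (Localization.AtPrime x.asIdeal)).toRingEquiv

/-- For a smooth ring map `R → S` and a prime `q` of `S` whose residue field is purely
inseparable over that of `q ∩ R`, the local rings `R_{q ∩ R}` and `S_q` have the same number of
branches. -/
theorem numBranches_localization_eq_of_smooth_pi {R S : Type u} [CommRing R] [CommRing S]
    [Algebra R S] [Algebra.Smooth R S] (q : Ideal S) [q.IsPrime]
    (hpi : @IsPurelyInseparable (q.under R).ResidueField q.ResidueField _ _
      (Ideal.ResidueField.mapₐ (q.under R) q (Algebra.ofId R S) rfl).toRingHom.toAlgebra) :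
    Brnch.numBranches (Localization.AtPrime q) =
      Brnch.numBranches (Localization.AtPrime (q.under R)) := by
  let φ : CommRingCat.of R ⟶ CommRingCat.of S := CommRingCat.ofHom (algebraMap R S)
  haveI : Smooth (Spec.map φ) := by
    rw [HasRingHomProperty.Spec_iff (P := @Smooth)]
    exact RingHom.smooth_algebraMap.2 inferInstance
  let y : Spec (CommRingCat.of S) := (⟨q, inferInstance⟩ : PrimeSpectrum S)
  -- the characteristic exponent
  obtain ⟨e, he⟩ : ∃ e, e = ringExpChar (q.under R).ResidueField := ⟨_, rfl⟩
  have hexp : ExpChar (q.under R).ResidueField e := he ▸ inferInstance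
  have he0 : e = 1 ∨ (e.Prime ∧ (e : (q.under R).ResidueField) = 0) := by
    cases hexp with
    | zero => exact Or.inl rfl
    | prime hprime => exact Or.inr ⟨hprime, CharP.cast_eq_zero _ e⟩
  have he1 : e = 1 ∨ (e.Prime ∧
      (e : (Spec (CommRingCat.of R)).residueField (Spec.map φ y)) = 0) := by
    rcases he0 with h | ⟨h1, h2⟩
    · exact Or.inl h
    · refine Or.inr ⟨h1, ?_⟩
      have h3 := map_natCast
        (Scheme.Spec.residueFieldIso (CommRingCat.of R) (Spec.map φ y)).inv.hom e
      rw [← h3]
      have h4 : (e : (Spec.map φ y).asIdeal.ResidueField) = 0 := h2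
      rw [h4, map_zero]
  have hpiAt : PIAt e (Spec.map φ) y := by
    intro t
    letI algκ : Algebra (q.under R).ResidueField q.ResidueField :=
      (Ideal.ResidueField.mapₐ (q.under R) q (Algebra.ofId R S) rfl).toRingHom.toAlgebra
    obtain ⟨n, s, hs⟩ := IsPurelyInseparable.pow_mem (q.under R).ResidueField e
      ((Scheme.Spec.residueFieldIso (CommRingCat.of S) y).hom.hom t)
    refine ⟨n, (Scheme.Spec.residueFieldIso (CommRingCat.of R) (Spec.map φ y)).inv.hom s, ?_⟩
    rw [Groth.Agent.Lib.helper13.EL.Spec_residueFieldMap_eq φ y]
    simp only [CommRingCat.hom_comp, RingHom.coe_comp, Function.comp_apply]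
    have h1 : (Scheme.Spec.residueFieldIso (CommRingCat.of R) (Spec.map φ y)).hom.hom
        ((Scheme.Spec.residueFieldIso (CommRingCat.of R) (Spec.map φ y)).inv.hom s) = s := by
      rw [← CommRingCat.comp_apply, Iso.inv_hom_id]
      rfl
    rw [h1]
    have h2 : (CommRingCat.ofHom (Ideal.ResidueField.map (Spec.map φ y).asIdeal y.asIdeal φ.hom
        rfl)).hom s = (Scheme.Spec.residueFieldIso (CommRingCat.of S) y).hom.hom t ^ e ^ n := hs
    rw [h2, map_pow]
    congr 1
    rw [← CommRingCat.comp_apply, Iso.hom_inv_id]
    rfl
  have h := numBranchesAt_eq_of_smooth_pi (Spec.map φ) y e he1 hpiAt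
  rw [numBranchesAt_Spec, numBranchesAt_Spec] at h
  exact h

end Groth.Agent.Lib.helper9.SmBranch
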