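/-
Helper library (helper9): global smooth stratification: for `f : X ⟶ S` of finite presentation
with `S` qcqs, the base `S` has a thickening with a stratification by pieces over which, after a
finite locally free surjective base change, `f` has a smooth stratification.
-/
import Groth.Agent.Lib.Helper9.SmGlob6
import Groth.Agent.Lib.Helper9.FPModelFG

set_option autoImplicit false
set_option linter.style.haveILetI false
set_option backward.isDefEq.respectTransparency false

namespace Groth.Agent.Lib.helper9.SmGlob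

open AlgebraicGeometry CategoryTheory Limits TopologicalSpace
open Groth.Agent.Lib.helper9.SmStrat Groth.Agent.Lib.helper9

universe u

/-- **Affine case**, by descent to a finitely generated `ℤ`-subalgebra. -/
theorem exists_hasBStrat_spec (A : Type u) [CommRing A] {X : Scheme.{u}}
    (f : X ⟶ Spec (CommRingCat.of A)) [LocallyOfFinitePresentation f] [QuasiCompact f]
    [QuasiSeparated f] : ∃ n, HasBStrat (Good f) n (𝟙 (Spec (CommRingCat.of A))) := by
  obtain ⟨A₀, hfg, X₀, f₀, g, -, hlfp, hqc, hqs, sq⟩ :=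
    exists_model_over_fg (⊤ : MorphismProperty Scheme.{u}) A
      (fun s _ _ _ _ _ => ⟨Over.mk (𝟙 s), trivial⟩) f trivial
  haveI : Algebra.FiniteType ℤ A₀ := A₀.fg_iff_finiteType.mp hfg
  haveI : IsNoetherianRing A₀ := Algebra.FiniteType.isNoetherianRing ℤ A₀
  haveI : IsNoetherian (Spec (CommRingCat.of A₀)) := inferInstance
  obtain ⟨n, hn⟩ := exists_hasBStrat_of_isNoetherian f₀
  let b : Spec (CommRingCat.of A) ⟶ Spec (CommRingCat.of A₀) :=
    Spec.map (CommRingCat.ofHom (algebraMap (↥A₀) A))
  have h1 : HasBStrat (Good f₀) n (𝟙 _ ≫ b) :=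
    (HasBStrat.comp (stableG_good f₀) b hn).congr (by rw [Category.comp_id, Category.id_comp])
  exact ⟨n, HasBStrat.of_base b (fun E g h => (good_iff_of_isPullback sq g).mpr h) h1⟩

variable {X S : Scheme.{u}} (f : X ⟶ S) [LocallyOfFinitePresentation f] [QuasiCompact f]
  [QuasiSeparated f]

/-- The case of an affine open of `S`. -/
theorem exists_hasBStrat_affineOpen (W : S.Opens) (hW : IsAffineOpen W) :
    ∃ n, HasBStrat (Good f) n W.ι := by
  let f' : pullback f hW.fromSpec ⟶ Spec (CommRingCat.of Γ(S, W)) := pullback.snd f hW.fromSpec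
  haveI : LocallyOfFinitePresentation f' :=
    MorphismProperty.pullback_snd (P := @LocallyOfFinitePresentation) _ _ inferInstance
  haveI : QuasiCompact f' := MorphismProperty.pullback_snd (P := @QuasiCompact) _ _ inferInstance
  haveI : QuasiSeparated f' :=
    MorphismProperty.pullback_snd (P := @QuasiSeparated) _ _ inferInstance
  obtain ⟨n, hn⟩ := exists_hasBStrat_spec Γ(S, W) f'
  have sq : IsPullback (pullback.fst f hW.fromSpec) f' f hW.fromSpec :=
    IsPullback.of_hasPullback f hW.fromSpec
  have h1 : HasBStrat (Good f) n (𝟙 _ ≫ hW.fromSpec) :=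
    HasBStrat.to_base hW.fromSpec (fun E g h => (good_iff_of_isPullback sq g).mp h) hn
  have h2 := HasBStrat.comp (stableG_good f) hW.isoSpec.hom h1
  refine ⟨n, h2.congr ?_⟩
  rw [Category.id_comp]
  exact hW.isoSpec_hom_fromSpec

/-- **Global case**: `S` quasi-compact and quasi-separated. -/
theorem exists_hasBStrat [CompactSpace S] [QuasiSeparatedSpace S] :
    ∃ n, HasBStrat (Good f) n (𝟙 S) := by
  have key : ∀ U : S.Opens, IsCompact (U : Set S) → ∃ n, HasBStrat (Good f) n U.ι := by
    intro U hU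
    refine compact_open_induction_on (P := fun U : S.Opens => ∃ n, HasBStrat (Good f) n U.ι) U hU
      ?_ ?_
    · refine ⟨0, BStrat.hasBStrat ?_⟩
      rw [bstrat_zero]
      exact ⟨fun x => x.2.elim⟩
    · intro U hU W ih
      obtain ⟨n, hn⟩ := ih
      obtain ⟨m, hm⟩ := exists_hasBStrat_affineOpen f W.1 W.2
      have hUW : IsCompact ((U ⊔ W.1 : S.Opens) : Set S) := by
        rw [TopologicalSpace.Opens.coe_sup]
        exact hU.union W.2.isCompact
      haveI : CompactSpace ((U ⊔ W.1 : S.Opens) : Scheme.{u}) :=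
        isCompact_iff_compactSpace.mp hUW
      haveI : QuasiCompact (U ⊔ W.1 : S.Opens).ι := inferInstance
      haveI : QuasiSeparatedSpace ((U ⊔ W.1 : S.Opens) : Scheme.{u}) :=
        quasiSeparatedSpace_of_quasiSeparated (U ⊔ W.1 : S.Opens).ι
      let j := (U ⊔ W.1 : S.Opens).ι
      have hn' : HasBStrat (Good f) n ((j ⁻¹ᵁ U).ι ≫ j) :=
        (HasBStrat.comp (stableG_good f) (j ∣_ U) hn).congr (morphismRestrict_ι j U)
      have hm' : HasBStrat (Good f) m ((j ⁻¹ᵁ W.1).ι ≫ j) :=
        (HasBStrat.comp (stableG_good f) (j ∣_ W.1) hm).congr (morphismRestrict_ι j W.1)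
      refine exists_hasBStrat_of_cover (stableG_good f) j (j ⁻¹ᵁ U) (j ⁻¹ᵁ W.1)
        (j.isCompact_preimage hU) (j.isCompact_preimage W.2.isCompact) ?_ hn' hm'
      ext x
      simp only [Set.mem_union, Set.mem_univ, iff_true]
      have hx : j x ∈ (U ⊔ W.1 : S.Opens) := by
        have := Set.mem_range_self (f := ⇑j) x
        rwa [Scheme.Opens.range_ι] at this
      exact hx
  obtain ⟨n, hn⟩ := key ⊤ CompactSpace.isCompact_univ
  have hr : Set.range ⇑(𝟙 S : S ⟶ S) ⊆ Set.range ⇑(⊤ : S.Opens).ι := by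
    rw [Scheme.Opens.range_ι]
    exact Set.subset_univ _
  let l : S ⟶ ((⊤ : S.Opens) : Scheme.{u}) := IsOpenImmersion.lift (⊤ : S.Opens).ι (𝟙 S) hr
  have hl : l ≫ (⊤ : S.Opens).ι = 𝟙 S := IsOpenImmersion.lift_fac _ _ _
  exact ⟨n, (HasBStrat.comp (stableG_good f) l hn).congr hl⟩

end Groth.Agent.Lib.helper9.SmGlob
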