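import Mathlib
import Groth.Agent.Lib.Helper9.SmoothExt1

/-!
# Extending morphisms to a smooth scheme along a closed immersion, étale locally: main theorem
(helper9)
-/

set_option autoImplicit false
set_option linter.style.haveILetI false
set_option backward.isDefEq.respectTransparency false

namespace Groth.Agent.Lib.helper9.SmoothExt

open AlgebraicGeometry CategoryTheory Limits

universe u

theorem exists_etale_extension {S S₀ X Y : Scheme.{u}} (i : S₀ ⟶ S) [IsClosedImmersion i]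
    (p : X ⟶ S) (q : Y ⟶ S) [Smooth q] (f₀ : pullback p i ⟶ Y)
    (hf₀ : f₀ ≫ q = pullback.fst p i ≫ p) (x₀ : ↥(pullback p i)) :
    ∃ (U : Scheme.{u}) (e : U ⟶ X) (f : U ⟶ Y), Etale e ∧ f ≫ q = e ≫ p ∧
      IsOpenImmersion (pullback.snd e (pullback.fst p i)) ∧
      x₀ ∈ Set.range (pullback.snd e (pullback.fst p i)).base ∧
      pullback.snd e (pullback.fst p i) ≫ f₀ = pullback.fst e (pullback.fst p i) ≫ f := by
  set j := pullback.fst p i with hj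
  obtain ⟨S', hS', W, hW, hyW, hWS', n, π, hπ, hπq⟩ := exists_etale_chart q (f₀ x₀)
  -- an open `O₀` of `X` with preimage `f₀⁻¹ W`
  obtain ⟨O₀, hO₀, hO₀W⟩ := j.isClosedEmbedding.isInducing.isOpen_iff.mp (f₀ ⁻¹ᵁ W).2
  have hx₀O : j x₀ ∈ O₀ := by
    have : x₀ ∈ j.base ⁻¹' O₀ := by rw [hO₀W]; exact hyW
    exact this
  have hx₀S : j x₀ ∈ (p ⁻¹ᵁ S' : Set X) := by
    show p (j x₀) ∈ S'
    have h1 : p (j x₀) = q (f₀ x₀) := by
      rw [← Scheme.Hom.comp_apply, ← Scheme.Hom.comp_apply, hf₀]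
    rw [h1]
    exact hWS' hyW
  obtain ⟨_, ⟨(X' : X.Opens), hX', rfl⟩, hxX', hX'O⟩ := X.isBasis_affineOpens.exists_subset_of_mem_open
    (Set.mem_inter hx₀O hx₀S) (hO₀.inter (p ⁻¹ᵁ S').2)
  let X₀' : (pullback p i).Opens := j ⁻¹ᵁ X'
  let j' : (X₀' : Scheme.{u}) ⟶ X' := j ∣_ X'
  haveI : IsAffine (X' : Scheme.{u}) := hX'
  have hX₀'W : ∀ x : (X₀' : Scheme.{u}), f₀ (X₀'.ι x) ∈ W := by
    intro x
    have h1 : j (X₀'.ι x) ∈ O₀ := (hX'O x.2).1
    have h2 : X₀'.ι x ∈ j.base ⁻¹' O₀ := h1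
    rw [hO₀W] at h2
    exact h2
  let f₀' : (X₀' : Scheme.{u}) ⟶ W := IsOpenImmersion.lift W.ι (X₀'.ι ≫ f₀) (by
    rintro _ ⟨x, rfl⟩
    rw [Scheme.Opens.range_ι]
    exact hX₀'W x)
  have hf₀' : f₀' ≫ W.ι = X₀'.ι ≫ f₀ := IsOpenImmersion.lift_fac _ _ _
  let t : (X' : Scheme.{u}) ⟶ Spec Γ(S, S') := IsOpenImmersion.lift hS'.fromSpec (X'.ι ≫ p) (by
    rintro _ ⟨x, rfl⟩
    rw [hS'.range_fromSpec]
    exact (hX'O x.2).2)
  have ht : t ≫ hS'.fromSpec = X'.ι ≫ p := IsOpenImmersion.lift_fac _ _ _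
  have hj' : j' ≫ X'.ι = X₀'.ι ≫ j := morphismRestrict_ι j X'
  obtain ⟨h, hh1, hh2⟩ := exists_extend_affineSpace n j' t (f₀' ≫ π) (by
    rw [← cancel_mono hS'.fromSpec]
    simp only [Category.assoc]
    rw [hπq, ht, reassoc_of% hf₀', hf₀, reassoc_of% hj'])
  -- the étale neighbourhood before shrinking
  let e₁ : pullback h π ⟶ X := pullback.fst h π ≫ X'.ι
  let f₁ : pullback h π ⟶ Y := pullback.snd h π ≫ W.ι
  haveI : Etale (pullback.fst h π) := MorphismProperty.pullback_fst _ _ hπ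
  haveI : Etale e₁ := by dsimp only [e₁]; infer_instance
  have hfe : f₁ ≫ q = e₁ ≫ p := by
    simp only [e₁, f₁, Category.assoc]
    rw [← hπq, ← ht, ← reassoc_of% hh2, pullback.condition_assoc]
  let τ : (X₀' : Scheme.{u}) ⟶ pullback h π := pullback.lift j' f₀' hh1
  have hτ1 : τ ≫ pullback.fst h π = j' := pullback.lift_fst _ _ _
  have hτ2 : τ ≫ pullback.snd h π = f₀' := pullback.lift_snd _ _ _
  have hτ : τ ≫ e₁ = X₀'.ι ≫ j := by
    simp only [e₁]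
    rw [reassoc_of% hτ1, hj']
  let σ : (X₀' : Scheme.{u}) ⟶ pullback e₁ j := pullback.lift τ X₀'.ι hτ
  have hσ1 : σ ≫ pullback.fst e₁ j = τ := pullback.lift_fst _ _ _
  have hσ2 : σ ≫ pullback.snd e₁ j = X₀'.ι := pullback.lift_snd _ _ _
  haveI : IsOpenImmersion (σ ≫ pullback.snd e₁ j) := by rw [hσ2]; infer_instance
  haveI : Etale (pullback.snd e₁ j) := MorphismProperty.pullback_snd _ _ inferInstance
  haveI : IsOpenImmersion σ := isOpenImmersion_of_comp_unramified σ (pullback.snd e₁ j)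
  -- shrink
  haveI : IsClosedImmersion (pullback.fst e₁ j) :=
    MorphismProperty.pullback_fst _ _ (inferInstanceAs (IsClosedImmersion (pullback.fst p i)))
  have hC : IsClosed ((pullback.fst e₁ j).base '' (σ.opensRange : Set ↑(pullback e₁ j))ᶜ) :=
    (pullback.fst e₁ j).isClosedEmbedding.isClosedMap _ σ.opensRange.2.isClosed_compl
  let U : (pullback h π).Opens :=
    ⟨((pullback.fst e₁ j).base '' (σ.opensRange : Set ↑(pullback e₁ j))ᶜ)ᶜ, hC.isOpen_compl⟩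
  have hU : (pullback.fst e₁ j) ⁻¹ᵁ U = σ.opensRange := by
    ext x
    show (pullback.fst e₁ j) x ∈ ((pullback.fst e₁ j).base '' (σ.opensRange : Set _)ᶜ)ᶜ ↔ _
    rw [Set.mem_compl_iff, (pullback.fst e₁ j).isClosedEmbedding.injective.mem_set_image,
      Set.notMem_compl_iff]
  have hpb : IsPullback ((pullback.fst e₁ j) ∣_ U)
      (((pullback.fst e₁ j) ⁻¹ᵁ U).ι ≫ pullback.snd e₁ j) (U.ι ≫ e₁) j :=
    ((isPullback_morphismRestrict (pullback.fst e₁ j) U).flip.paste_horiz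
      (IsPullback.of_hasPullback e₁ j).flip).flip
  let ε : (↑((pullback.fst e₁ j) ⁻¹ᵁ U) : Scheme.{u}) ≅ pullback (U.ι ≫ e₁) j := hpb.isoPullback
  have hε1 : ε.hom ≫ pullback.fst (U.ι ≫ e₁) j = (pullback.fst e₁ j) ∣_ U :=
    hpb.isoPullback_hom_fst
  have hε2 : ε.hom ≫ pullback.snd (U.ι ≫ e₁) j =
      ((pullback.fst e₁ j) ⁻¹ᵁ U).ι ≫ pullback.snd e₁ j := hpb.isoPullback_hom_snd
  let κ : (X₀' : Scheme.{u}) ≅ (↑((pullback.fst e₁ j) ⁻¹ᵁ U) : Scheme.{u}) :=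
    σ.isoOpensRange ≪≫ (pullback e₁ j).isoOfEq hU.symm
  have hκ : κ.hom ≫ ((pullback.fst e₁ j) ⁻¹ᵁ U).ι = σ := by
    simp only [κ, Iso.trans_hom, Category.assoc, Scheme.isoOfEq_hom_ι]
    exact σ.isoOpensRange_hom_ι
  have hsnd : (κ ≪≫ ε).hom ≫ pullback.snd (U.ι ≫ e₁) j = X₀'.ι := by
    simp only [Iso.trans_hom, Category.assoc]
    rw [hε2, reassoc_of% hκ, hσ2]
  have hfst : (κ ≪≫ ε).hom ≫ pullback.fst (U.ι ≫ e₁) j ≫ U.ι = τ := by
    simp only [Iso.trans_hom, Category.assoc]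
    rw [reassoc_of% hε1, morphismRestrict_ι, reassoc_of% hκ, hσ1]
  refine ⟨U, U.ι ≫ e₁, U.ι ≫ f₁, inferInstance, by rw [Category.assoc, hfe]; simp only [e₁, Category.assoc],
    ?_, ?_, ?_⟩
  · have : pullback.snd (U.ι ≫ e₁) j = (κ ≪≫ ε).inv ≫ X₀'.ι := by
      rw [← hsnd, Iso.inv_hom_id_assoc]
    rw [this]
    infer_instance
  · refine ⟨(κ ≪≫ ε).hom ⟨x₀, hxX'⟩, ?_⟩
    rw [← Scheme.Hom.comp_apply, hsnd]
    rfl
  · rw [← cancel_epi (κ ≪≫ ε).hom, reassoc_of% hsnd, reassoc_of% hfst]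
    simp only [f₁]
    rw [reassoc_of% hτ2, hf₀']

end Groth.Agent.Lib.helper9.SmoothExt
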