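/-
Helper library (helper9): the set of connected components of a spectral space, and the fibre
product of a spectral space with a profinite space over the space of connected components.
-/
import Groth.Agent.Lib.Helper9.SpectralConn
import Mathlib.Topology.Connected.TotallyDisconnected
import Mathlib.Topology.Separation.Regular
import Mathlib.Topology.Separation.Profinite
import Mathlib.Topology.Homeomorph.Lemmas
import Mathlib.Topology.Spectral.Basic
import Mathlib.Topology.ContinuousMap.Basic

set_option autoImplicit false
set_option linter.style.haveILetI false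

namespace Groth.Agent.Lib.helper9

open Topology TopologicalSpace Set

universe u

section pi0

variable {X : Type u} [TopologicalSpace X]

/-- The space of connected components of a spectral space is Hausdorff. -/
theorem t2Space_connectedComponents [CompactSpace X] [PrespectralSpace X]
    [QuasiSeparatedSpace X] : T2Space (ConnectedComponents X) := by
  refine ⟨ConnectedComponents.surjective_coe.forall₂.2 fun a b ne => ?_⟩
  rw [ConnectedComponents.coe_ne_coe] at ne
  have h := connectedComponent_disjoint ne
  rw [connectedComponent_eq_iInter_isClopen_of_spectral b, disjoint_iff_inter_eq_empty] at h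
  obtain ⟨U, V, hU, ha, hb, rfl⟩ : ∃ (U : Set X) (V : Set (ConnectedComponents X)),
      IsClopen U ∧ connectedComponent a ∩ U = ∅ ∧ connectedComponent b ⊆ U ∧
        ConnectedComponents.mk ⁻¹' V = U := by
    have h :=
      (isClosed_connectedComponent (α := X)).isCompact.elim_finite_subfamily_closed
        _ (fun s : { s : Set X // IsClopen s ∧ b ∈ s } => s.2.1.1) h
    obtain ⟨fin_a, ha⟩ := h
    set U : Set X := ⋂ (i : { s // IsClopen s ∧ b ∈ s }) (_ : i ∈ fin_a), i
    have hU : IsClopen U := isClopen_biInter_finset fun i _ => i.2.1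
    exact ⟨U, ConnectedComponents.mk '' U, hU, ha,
      subset_iInter₂ fun s _ => s.2.1.connectedComponent_subset s.2.2,
      (connectedComponents_preimage_image U).symm ▸ hU.biUnion_connectedComponent_eq⟩
  rw [ConnectedComponents.isQuotientMap_coe.isClopen_preimage] at hU
  refine ⟨Vᶜ, V, hU.compl.isOpen, hU.isOpen, ?_, hb mem_connectedComponent, disjoint_compl_left⟩
  exact fun h => flip Set.Nonempty.ne_empty ha ⟨a, mem_connectedComponent, h⟩

end pi0

section fibre

variable {X T : Type u} [TopologicalSpace X] [TopologicalSpace T]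
  (g : C(T, ConnectedComponents X))

/-- The fibre product of `X` and `T` over the space of connected components of `X`. -/
abbrev FibreProd : Type u := {p : X × T // ConnectedComponents.mk p.1 = g p.2}

theorem isClosed_fibreProd [T2Space (ConnectedComponents X)] :
    IsClosed {p : X × T | ConnectedComponents.mk p.1 = g p.2} :=
  isClosed_eq (ConnectedComponents.continuous_coe.comp continuous_fst)
    (g.continuous.comp continuous_snd)

theorem isClosedEmbedding_fibreProd_val [T2Space (ConnectedComponents X)] :
    IsClosedEmbedding (Subtype.val : FibreProd g → X × T) :=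
  (isClosed_fibreProd g).isClosedEmbedding_subtypeVal

/-- Basic open sets of the fibre product. -/
def fibreBasic (i : {U : Set X // IsOpen U ∧ IsCompact U} × {V : Set T // IsOpen V ∧ IsCompact V}) :
    Set (FibreProd g) :=
  Subtype.val ⁻¹' (i.1.1 ×ˢ i.2.1)

theorem isTopologicalBasis_fibreBasic [PrespectralSpace X] [PrespectralSpace T] :
    IsTopologicalBasis (Set.range (fibreBasic g)) := by
  apply isTopologicalBasis_of_isOpen_of_nhds
  · rintro _ ⟨i, rfl⟩
    exact (i.1.2.1.prod i.2.2.1).preimage continuous_subtype_val
  · intro y O hy hO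
    obtain ⟨O', hO', rfl⟩ := isOpen_induced_iff.mp hO
    obtain ⟨U₀, V₀, hU₀, hV₀, hyU, hyV, hsub⟩ := isOpen_prod_iff.mp hO' y.1.1 y.1.2 hy
    obtain ⟨U, ⟨hU1, hU2⟩, hyU', hUU⟩ :=
      (PrespectralSpace.isTopologicalBasis (X := X)).exists_subset_of_mem_open hyU hU₀
    obtain ⟨V, ⟨hV1, hV2⟩, hyV', hVV⟩ :=
      (PrespectralSpace.isTopologicalBasis (X := T)).exists_subset_of_mem_open hyV hV₀
    refine ⟨_, ⟨(⟨U, hU1, hU2⟩, ⟨V, hV1, hV2⟩), rfl⟩, ⟨hyU', hyV'⟩, ?_⟩
    intro z hz
    exact hsub ⟨hUU hz.1, hVV hz.2⟩

theorem isCompact_fibreBasic_inter [T2Space (ConnectedComponents X)] [QuasiSeparatedSpace X]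
    [QuasiSeparatedSpace T]
    (i j : {U : Set X // IsOpen U ∧ IsCompact U} × {V : Set T // IsOpen V ∧ IsCompact V}) :
    IsCompact (fibreBasic g i ∩ fibreBasic g j) := by
  have h : fibreBasic g i ∩ fibreBasic g j =
      Subtype.val ⁻¹' ((i.1.1 ∩ j.1.1) ×ˢ (i.2.1 ∩ j.2.1)) := by
    unfold fibreBasic
    rw [← Set.preimage_inter, Set.prod_inter_prod]
  rw [h]
  apply (isClosedEmbedding_fibreProd_val g).isCompact_preimage
  exact (QuasiSeparatedSpace.inter_isCompact _ _ i.1.2.1 i.1.2.2 j.1.2.1 j.1.2.2).prod
    (QuasiSeparatedSpace.inter_isCompact _ _ i.2.2.1 i.2.2.2 j.2.2.1 j.2.2.2)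

theorem quasiSober_fibreProd [T2Space (ConnectedComponents X)] [QuasiSober X] [T2Space T] :
    QuasiSober (FibreProd g) := by
  refine ⟨fun {Z} hZirr hZcl => ?_⟩
  obtain ⟨z₀, hz₀⟩ := hZirr.nonempty
  -- all points of `Z` lie over the same point of `T`
  have hT : ∀ z ∈ Z, z.1.2 = z₀.1.2 := by
    intro z hz
    have hirr : IsPreirreducible ((fun y : FibreProd g => y.1.2) '' Z) :=
      (hZirr.image _ (continuous_snd.comp continuous_subtype_val).continuousOn).isPreirreducible
    exact (isPreirreducible_iff_subsingleton.mp hirr) ⟨z, hz, rfl⟩ ⟨z₀, hz₀, rfl⟩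
  -- the closure of the projection to `X` is irreducible and closed
  have hWirr : IsIrreducible (closure ((fun y : FibreProd g => y.1.1) '' Z)) :=
    (hZirr.image _ (continuous_fst.comp continuous_subtype_val).continuousOn).closure
  obtain ⟨ξ, hξ⟩ := QuasiSober.sober hWirr isClosed_closure
  -- the fibre of `X` over `g t` is closed
  have hCcl : IsClosed {x : X | ConnectedComponents.mk x = g z₀.1.2} :=
    isClosed_eq ConnectedComponents.continuous_coe continuous_const
  have hWC : closure ((fun y : FibreProd g => y.1.1) '' Z) ⊆
      {x : X | ConnectedComponents.mk x = g z₀.1.2} := by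
    apply closure_minimal _ hCcl
    rintro _ ⟨z, hz, rfl⟩
    have := z.2
    rw [hT z hz] at this
    exact this
  have hξC : ConnectedComponents.mk ξ = g z₀.1.2 := hWC hξ.mem
  let η : FibreProd g := ⟨(ξ, z₀.1.2), hξC⟩
  have hηZ : η ∈ Z := by
    rw [← hZcl.closure_eq, mem_closure_iff]
    intro O hO hηO
    obtain ⟨O', hO', rfl⟩ := isOpen_induced_iff.mp hO
    obtain ⟨U, V, hU, hV, hξU, htV, hsub⟩ := isOpen_prod_iff.mp hO' ξ z₀.1.2 hηO
    obtain ⟨_, hzU, ⟨z, hz, rfl⟩⟩ :=
      mem_closure_iff.mp hξ.mem U hU hξU
    refine ⟨z, ?_, hz⟩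
    apply hsub
    exact ⟨hzU, by rw [hT z hz]; exact htV⟩
  refine ⟨η, ?_⟩
  apply subset_antisymm (hZcl.closure_subset_iff.mpr (singleton_subset_iff.mpr hηZ))
  intro z hz
  rw [← specializes_iff_mem_closure, subtype_specializes_iff]
  have h1 : ξ ⤳ z.1.1 := hξ.specializes (subset_closure ⟨z, hz, rfl⟩)
  have h2 : z.1 = (z.1.1, z₀.1.2) := Prod.ext rfl (hT z hz)
  rw [h2]
  exact h1.prod specializes_rfl

/-- The fibre product of a spectral space with a Hausdorff spectral (profinite) space over the
space of connected components is spectral. -/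
theorem spectralSpace_fibreProd [SpectralSpace X] [SpectralSpace T] [T2Space T] :
    SpectralSpace (FibreProd g) := by
  haveI : T2Space (ConnectedComponents X) := t2Space_connectedComponents
  haveI : CompactSpace (FibreProd g) := (isClosedEmbedding_fibreProd_val g).compactSpace
  haveI : QuasiSober (FibreProd g) := quasiSober_fibreProd g
  haveI : QuasiSeparatedSpace (FibreProd g) :=
    QuasiSeparatedSpace.of_isTopologicalBasis (isTopologicalBasis_fibreBasic g)
      (isCompact_fibreBasic_inter g)
  haveI : PrespectralSpace (FibreProd g) :=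
    PrespectralSpace.of_isTopologicalBasis' (isTopologicalBasis_fibreBasic g) fun i => by
      simpa using isCompact_fibreBasic_inter g i i
  exact { }

/-- A profinite space is spectral. -/
theorem spectralSpace_of_profinite [CompactSpace T] [T2Space T] [TotallyDisconnectedSpace T] :
    SpectralSpace T := by
  haveI : PrespectralSpace T :=
    PrespectralSpace.of_isTopologicalBasis isTopologicalBasis_isClopen
      fun U hU => hU.isClosed.isCompact
  exact { }

/-- The fibres of the projection from the fibre product to `T` lie in one connected component. -/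
theorem fibreProd_mk_eq_of_snd_eq (y y' : FibreProd g) (h : y.1.2 = y'.1.2) :
    ConnectedComponents.mk y = ConnectedComponents.mk y' := by
  rw [ConnectedComponents.coe_eq_coe']
  -- the embedding of the connected component of `y'.1.1` into the fibre product
  have hmem : ∀ x ∈ connectedComponent y'.1.1, ConnectedComponents.mk x = g y'.1.2 := by
    intro x hx
    rw [← y'.2, ConnectedComponents.coe_eq_coe']
    exact hx
  let ι : connectedComponent y'.1.1 → FibreProd g := fun x => ⟨(x.1, y'.1.2), hmem x.1 x.2⟩
  have hι : Continuous ι :=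
    Continuous.subtype_mk (continuous_subtype_val.prodMk continuous_const) _
  have hconn : IsPreconnected (Set.range ι) := by
    haveI : PreconnectedSpace (connectedComponent y'.1.1) :=
      isPreconnected_iff_preconnectedSpace.mp isPreconnected_connectedComponent
    exact isPreconnected_range hι
  have hy' : y' ∈ Set.range ι := ⟨⟨y'.1.1, mem_connectedComponent⟩, rfl⟩
  have hy : y ∈ Set.range ι := by
    have h1 : y.1.1 ∈ connectedComponent y'.1.1 := by
      rw [← ConnectedComponents.coe_eq_coe', y.2, y'.2, h]
    refine ⟨⟨y.1.1, h1⟩, ?_⟩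
    apply Subtype.ext
    exact Prod.ext rfl h.symm
  exact hconn.subset_connectedComponent hy' hy

/-- The projection from the fibre product to `T` identifies `T` with the space of connected
components of the fibre product. -/
theorem exists_homeomorph_connectedComponents_fibreProd [CompactSpace X] [PrespectralSpace X]
    [QuasiSeparatedSpace X] [CompactSpace T] [T2Space T] [TotallyDisconnectedSpace T] :
    ∃ e : ConnectedComponents (FibreProd g) ≃ₜ T,
      ∀ y : FibreProd g, e (ConnectedComponents.mk y) = y.1.2 := by
  haveI : T2Space (ConnectedComponents X) := t2Space_connectedComponents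
  haveI : CompactSpace (FibreProd g) := (isClosedEmbedding_fibreProd_val g).compactSpace
  have hφ : Continuous (fun y : FibreProd g => y.1.2) :=
    continuous_snd.comp continuous_subtype_val
  have hbij : Function.Bijective hφ.connectedComponentsLift := by
    constructor
    · intro a b hab
      obtain ⟨y, rfl⟩ := ConnectedComponents.surjective_coe a
      obtain ⟨y', rfl⟩ := ConnectedComponents.surjective_coe b
      exact fibreProd_mk_eq_of_snd_eq g y y' hab
    · intro t
      obtain ⟨x, hx⟩ := ConnectedComponents.surjective_coe (g t)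
      exact ⟨ConnectedComponents.mk (⟨(x, t), hx⟩ : FibreProd g), rfl⟩
  refine ⟨Continuous.homeoOfEquivCompactToT2 (f := Equiv.ofBijective _ hbij)
    hφ.connectedComponentsLift_continuous, fun y => rfl⟩

end fibre

end Groth.Agent.Lib.helper9
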