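/-
Helper library (helper9): a spectral space is a directed inverse limit of finite sober spaces.
-/
import Groth.Agent.Lib.Helper9.SierpinskiPow
import Groth.Agent.Lib.Helper9.SpectralCons
import Mathlib.Topology.Category.TopCat.Limits.Basic
import Mathlib.Topology.Homeomorph.Lemmas

set_option autoImplicit false

namespace Groth.Agent.Lib.helper9

open Topology TopologicalSpace CategoryTheory CategoryTheory.Limits Opposite

universe u

/-- A finite space is quasi-sober. -/
theorem quasiSober_of_finite (Y : Type u) [TopologicalSpace Y] [Finite Y] : QuasiSober Y := by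
  classical
  refine ⟨fun {Z} hZ hZc => ?_⟩
  haveI : Fintype Y := Fintype.ofFinite Y
  have hcover : Z ⊆ ⋃₀ ↑((Finset.univ.filter (· ∈ Z)).image fun z : Y => closure {z}) := by
    intro z hz
    refine ⟨closure {z}, ?_, subset_closure rfl⟩
    exact Finset.mem_coe.mpr (Finset.mem_image.mpr ⟨z, by simpa using hz, rfl⟩)
  obtain ⟨_, hz, hZz⟩ := isIrreducible_iff_sUnion_isClosed.mp hZ _ (by
    intro s hs
    obtain ⟨z, -, rfl⟩ := Finset.mem_image.mp hs
    exact isClosed_closure) hcover
  obtain ⟨z, hzZ, rfl⟩ := Finset.mem_image.mp hz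
  refine ⟨z, Set.Subset.antisymm ?_ hZz⟩
  rw [hZc.closure_subset_iff, Set.singleton_subset_iff]
  simpa using hzZ

section Hochster

variable (X : Type u) [TopologicalSpace X]

/-- The index type: compact opens of `X`. -/
abbrev CO : Type u := {U : Set X // IsOpen U ∧ IsCompact U}

variable {X}

/-- The map recording membership in the members of a finite set `S` of compact opens. -/
def memMap (S : Finset (CO X)) (x : X) : CO X → Prop := fun U => U ∈ S ∧ x ∈ U.1

/-- Restriction to the coordinates in `S`. -/
def restr (S : Finset (CO X)) (u : CO X → Prop) : CO X → Prop := fun U => U ∈ S ∧ u U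

theorem continuous_memMap (S : Finset (CO X)) : Continuous (memMap S) := by
  refine continuous_pi fun U => continuous_Prop.mpr ?_
  by_cases hU : U ∈ S
  · convert U.2.1 using 1
    ext x
    simp [memMap, hU]
  · convert isOpen_empty (X := X) using 1
    ext x
    simp [memMap, hU]

theorem continuous_restr (S : Finset (CO X)) : Continuous (restr (X := X) S) := by
  refine continuous_pi fun U => continuous_Prop.mpr ?_
  by_cases hU : U ∈ S
  · convert continuous_Prop.mp (continuous_apply (A := fun _ : CO X => Prop) U) using 1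
    ext u
    simp [restr, hU]
  · convert isOpen_empty (X := CO X → Prop) using 1
    ext u
    simp [restr, hU]

theorem restr_memMap {S T : Finset (CO X)} (h : S ⊆ T) (x : X) :
    restr S (memMap T x) = memMap S x := by
  funext U
  simp only [restr, memMap, eq_iff_iff]
  exact ⟨fun ⟨h1, _, h3⟩ => ⟨h1, h3⟩, fun ⟨h1, h3⟩ => ⟨h1, h h1, h3⟩⟩

theorem finite_range_memMap (S : Finset (CO X)) : (Set.range (memMap S)).Finite := by
  classical
  let e : (↥S → Prop) → (CO X → Prop) := fun w U => ∃ h : U ∈ S, w ⟨U, h⟩
  refine (Set.finite_range e).subset ?_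
  rintro _ ⟨x, rfl⟩
  refine ⟨fun U => x ∈ U.1.1, ?_⟩
  funext U
  simp only [e, memMap, eq_iff_iff]
  exact ⟨fun ⟨h, hx⟩ => ⟨h, hx⟩, fun ⟨h, hx⟩ => ⟨h, hx⟩⟩

theorem restr_mem_range {S T : Finset (CO X)} (h : T ⊆ S) {u : CO X → Prop}
    (hu : u ∈ Set.range (memMap (X := X) S)) : restr T u ∈ Set.range (memMap (X := X) T) := by
  obtain ⟨x, rfl⟩ := hu
  exact ⟨x, (restr_memMap h x).symm⟩

theorem restr_eq_self {S : Finset (CO X)} {u : CO X → Prop}
    (hu : u ∈ Set.range (memMap (X := X) S)) : restr S u = u := by
  obtain ⟨x, rfl⟩ := hu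
  exact restr_memMap (Finset.Subset.refl _) x

theorem restr_restr {S T R : Finset (CO X)} (h1 : T ⊆ S) (h2 : R ⊆ T) {u : CO X → Prop}
    (hu : u ∈ Set.range (memMap (X := X) S)) : restr R (restr T u) = restr R u := by
  obtain ⟨x, rfl⟩ := hu
  rw [restr_memMap h1, restr_memMap h2, restr_memMap (h2.trans h1)]

/-- The transition maps of the diagram of finite quotients. -/
def restrMap {S T : Finset (CO X)} (h : T ⊆ S) :
    C(↥(Set.range (memMap (X := X) S)), ↥(Set.range (memMap (X := X) T))) :=
  ⟨fun u => ⟨restr T u.1, restr_mem_range h u.2⟩,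
    ((continuous_restr T).comp continuous_subtype_val).subtype_mk _⟩

/-- The diagram of finite quotients of `X`. -/
noncomputable def finQuot : (Finset (CO X))ᵒᵖ ⥤ TopCat.{u} where
  obj S := TopCat.of ↥(Set.range (memMap (X := X) S.unop))
  map {S T} f := TopCat.ofHom (restrMap (leOfHom f.unop))
  map_id S := by
    apply ConcreteCategory.hom_ext
    intro u
    exact Subtype.ext (restr_eq_self u.2)
  map_comp {S T R} f g := by
    apply ConcreteCategory.hom_ext
    intro u
    exact Subtype.ext (restr_restr (leOfHom f.unop) (leOfHom g.unop) u.2).symm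

/-- The comparison map from `X` to the limit of its finite quotients. -/
noncomputable def toLim (x : X) : (TopCat.limitCone.{u, u} (finQuot (X := X))).pt :=
  ⟨fun S => ⟨memMap S.unop x, Set.mem_range_self x⟩,
    fun {S T} f => Subtype.ext (restr_memMap (leOfHom f.unop) x)⟩

theorem toLim_apply (x : X) (S : (Finset (CO X))ᵒᵖ) :
    ((toLim x).1 S).1 = memMap S.unop x := rfl

theorem continuous_toLim : Continuous (toLim (X := X)) := by
  apply continuous_induced_rng.mpr
  apply continuous_pi
  intro S
  apply continuous_induced_rng.mpr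
  exact continuous_memMap S.unop

theorem injective_toLim [T0Space X] [PrespectralSpace X] : Function.Injective (toLim (X := X)) := by
  classical
  intro x y hxy
  by_contra hne
  obtain ⟨U, hUo, hUc, hU⟩ := exists_isCompact_isOpen_xor_mem hne
  have h1 : memMap {(⟨U, hUo, hUc⟩ : CO X)} x = memMap {(⟨U, hUo, hUc⟩ : CO X)} y := by
    have := congrArg (fun w => ((w.1 (op {(⟨U, hUo, hUc⟩ : CO X)})).1)) hxy
    exact this
  have h2 := congrFun h1 ⟨U, hUo, hUc⟩
  simp only [memMap, Finset.mem_singleton, true_and, eq_iff_iff] at h2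
  rcases hU with ⟨hx, hy⟩ | ⟨hy, hx⟩
  · exact hy (h2.mp hx)
  · exact hx (h2.mpr hy)

theorem isInducing_toLim [PrespectralSpace X] : IsInducing (toLim (X := X)) := by
  classical
  refine ⟨le_antisymm continuous_toLim.le_induced ?_⟩
  intro O hO
  obtain ⟨B, hB, rfl⟩ := (PrespectralSpace.isTopologicalBasis (X := X)).open_eq_sUnion hO
  refine @isOpen_sUnion X (induced toLim inferInstance) B fun U hU => ?_
  rw [isOpen_induced_iff]
  let U' : CO X := ⟨U, hB hU⟩
  refine ⟨{w | (w.1 (op {U'})).1 U'}, ?_, ?_⟩
  · apply continuous_Prop.mp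
    have h1 : Continuous (fun w : (TopCat.limitCone.{u, u} (finQuot (X := X))).pt =>
        w.1 (op {U'})) :=
      (continuous_apply (A := fun S => (finQuot (X := X)).obj S) (op {U'})).comp
        continuous_subtype_val
    have h2 : Continuous (fun w : (TopCat.limitCone.{u, u} (finQuot (X := X))).pt =>
        (w.1 (op {U'})).1) := continuous_subtype_val.comp h1
    exact (continuous_apply (A := fun _ : CO X => Prop) U').comp h2
  · ext x
    simp [toLim, memMap, U']

theorem surjective_toLim [SpectralSpace X] : Function.Surjective (toLim (X := X)) := by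
  classical
  intro w
  -- the fibres
  let E : Finset (CO X) → Set X := fun S => {x | memMap S x = (w.1 (op S)).1}
  have hne : ∀ S, (E S).Nonempty := fun S => by
    obtain ⟨x, hx⟩ := (w.1 (op S)).2
    exact ⟨x, hx⟩
  have hcl : ∀ S, @IsClosed X (constructibleTopology X) (E S) := by
    intro S
    have : E S = ⋂ U : CO X, {x | (U ∈ S ∧ x ∈ U.1) ↔ (w.1 (op S)).1 U} := by
      ext x
      simp only [E, Set.mem_ofPred_eq, Set.mem_iInter, memMap, funext_iff, eq_iff_iff]
    rw [this]
    refine @isClosed_iInter X _ (constructibleTopology X) _ fun U => ?_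
    by_cases hUS : U ∈ S
    · by_cases hw : (w.1 (op S)).1 U
      · convert (isClopen_constructibleTopology U.2.1 U.2.2).1 using 1
        ext x
        simp [hUS, hw]
      · convert (@IsOpen.isClosed_compl X (constructibleTopology X) _
          (isClopen_constructibleTopology U.2.1 U.2.2).2) using 1
        ext x
        simp [hUS, hw]
    · by_cases hw : (w.1 (op S)).1 U
      · convert @isClosed_empty X (constructibleTopology X) using 1
        ext x
        simp [hUS, hw]
      · convert @isClosed_univ X (constructibleTopology X) using 1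
        ext x
        simp [hUS, hw]
  have hmono : ∀ {S T : Finset (CO X)}, S ⊆ T → E T ⊆ E S := by
    intro S T hST x hx
    have hcompat := w.2 (homOfLE hST).op
    have h1 : restr S (w.1 (op T)).1 = (w.1 (op S)).1 := congrArg Subtype.val hcompat
    change memMap S x = _
    rw [← h1, ← (show memMap T x = (w.1 (op T)).1 from hx), restr_memMap hST]
  have hdir : Directed (· ⊇ ·) E := fun S T =>
    ⟨S ∪ T, hmono Finset.subset_union_left, hmono Finset.subset_union_right⟩
  obtain ⟨x, hx⟩ := nonempty_iInter_of_directed_isClosed_constructibleTopology E hdir hne hcl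
  refine ⟨x, Subtype.ext (funext fun S => Subtype.ext ?_)⟩
  exact Set.mem_iInter.mp hx S.unop

/-- A spectral space is homeomorphic to the limit of its finite quotients. -/
noncomputable def homeoLim [SpectralSpace X] :
    X ≃ₜ (TopCat.limitCone.{u, u} (finQuot (X := X))).pt :=
  (IsEmbedding.mk isInducing_toLim injective_toLim).toHomeomorphOfSurjective surjective_toLim

end Hochster

end Groth.Agent.Lib.helper9
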