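/-
Helper library (helper9): limits of diagrams of spectral spaces with spectral transition maps.
-/
import Groth.Agent.Lib.Helper9.SpectralCons
import Groth.Agent.Lib.Helper9.SpectralMap
import Mathlib.Topology.Category.TopCat.Limits.Basic
import Mathlib.Topology.Category.TopCat.Limits.Konig
import Mathlib.CategoryTheory.Filtered.Basic

set_option autoImplicit false

namespace Groth.Agent.Lib.helper9

open Topology TopologicalSpace CategoryTheory CategoryTheory.Limits

universe u

section General

variable {J : Type u} [SmallCategory J] (F : J ⥤ TopCat.{u})

/-- The concrete model of the limit: compatible families. -/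
def sections' : Set (∀ j, F.obj j) :=
  {v | ∀ {i j : J} (f : i ⟶ j), F.map f (v i) = v j}

/-- The homeomorphism between the point of a limit cone and the space of compatible families. -/
noncomputable def limHomeo (c : Cone F) (hc : IsLimit c) : c.pt ≃ₜ ↥(sections' F) :=
  TopCat.homeoOfIso (hc.conePointUniqueUpToIso (TopCat.limitConeIsLimit.{u, u} F))

theorem limHomeo_apply (c : Cone F) (hc : IsLimit c) (x : c.pt) (j : J) :
    (limHomeo F c hc x).1 j = c.π.app j x := by
  have := hc.conePointUniqueUpToIso_hom_comp (TopCat.limitConeIsLimit.{u, u} F) j
  exact congrArg (fun g => g.hom x) this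

theorem limHomeo_symm_apply (c : Cone F) (hc : IsLimit c) (v : ↥(sections' F)) (j : J) :
    c.π.app j ((limHomeo F c hc).symm v) = v.1 j := by
  rw [← limHomeo_apply F c hc, Homeomorph.apply_symm_apply]

/-- Every compatible family comes from a point of the limit. -/
theorem exists_of_compatible (c : Cone F) (hc : IsLimit c) (v : ∀ j, F.obj j)
    (hv : ∀ {i j : J} (f : i ⟶ j), F.map f (v i) = v j) : ∃ x : c.pt, ∀ j, c.π.app j x = v j :=
  ⟨(limHomeo F c hc).symm ⟨v, hv⟩, fun j => limHomeo_symm_apply F c hc ⟨v, hv⟩ j⟩

theorem cone_w_apply (c : Cone F) {i j : J} (a : i ⟶ j) (x : c.pt) :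
    F.map a (c.π.app i x) = c.π.app j x := by
  have := c.w a
  exact congrArg (fun g => g.hom x) this

end General

section WithConstr

variable {X : Type u} [tX : TopologicalSpace X] {Y : Type u} [tY : TopologicalSpace Y]

instance t2Space_withConstructibleTopology [T0Space X] [PrespectralSpace X] :
    T2Space (WithConstructibleTopology X) :=
  @Homeomorph.t2Space X (WithConstructibleTopology X) (constructibleTopology X) _
    t2Space_constructibleTopology (withTopologyHomeomorph (constructibleTopology X))

theorem continuous_ofTopology_constructible [PrespectralSpace X] :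
    Continuous (WithTopology.ofTopology : WithConstructibleTopology X → X) := by
  have h1 := WithTopology.continuous_ofTopology (constructibleTopology X)
  have h2 : @Continuous X X (constructibleTopology X) tX id :=
    continuous_id_of_le constructibleTopology_le
  exact @Continuous.comp (WithConstructibleTopology X) X X _ (constructibleTopology X) tX
    _ _ h2 h1

/-- A spectral map induces a continuous map for the constructible topologies. -/
theorem continuous_withConstructibleTopology_map {f : X → Y} (hf : IsSpectralMap f) :
    Continuous (fun x : WithConstructibleTopology X =>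
      WithTopology.toTopology (constructibleTopology Y) (f x.ofTopology)) := by
  have h1 := WithTopology.continuous_ofTopology (constructibleTopology X)
  have h2 := continuous_constructibleTopology_of_isSpectralMap hf
  have h3 := WithTopology.continuous_toTopology (constructibleTopology Y)
  have h4 := @Continuous.comp (WithConstructibleTopology X) X Y _ (constructibleTopology X)
    (constructibleTopology Y) _ _ h2 h1
  exact @Continuous.comp (WithConstructibleTopology X) Y (WithConstructibleTopology Y) _
    (constructibleTopology Y) _ _ _ h3 h4

theorem isClosed_withConstructibleTopology_preimage {Z : Set X}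
    (hZ : @IsClosed X (constructibleTopology X) Z) :
    IsClosed ((WithTopology.ofTopology : WithConstructibleTopology X → X) ⁻¹' Z) := by
  rw [WithConstructibleTopology.isClosed_iff]
  exact hZ

end WithConstr

section Compact

variable {J : Type u} [SmallCategory J] (F : J ⥤ TopCat.{u})

/-- The subset of the product (with constructible topologies) of compatible families lying in
given subsets `Z j`. -/
def constrSections (Z : ∀ j, Set (F.obj j)) :
    Set (∀ j, WithConstructibleTopology (F.obj j)) :=
  {u | (∀ {i j : J} (f : i ⟶ j), F.map f (u i).ofTopology = (u j).ofTopology) ∧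
    ∀ j, (u j).ofTopology ∈ Z j}

theorem isClosed_constrSections [hF : ∀ j, SpectralSpace (F.obj j)]
    (hFm : ∀ {i j : J} (a : i ⟶ j), IsSpectralMap (F.map a : F.obj i → F.obj j))
    (Z : ∀ j, Set (F.obj j))
    (hZ : ∀ j, @IsClosed (F.obj j) (constructibleTopology (F.obj j)) (Z j)) :
    IsClosed (constrSections F Z) := by
  have : constrSections F Z =
      (⋂ (i : J) (j : J) (f : i ⟶ j), {u : ∀ j, WithConstructibleTopology (F.obj j) |
        WithTopology.toTopology (constructibleTopology (F.obj j))
          (F.map f (u i).ofTopology) = u j}) ∩
      ⋂ j : J, (fun u : ∀ j, WithConstructibleTopology (F.obj j) => u j) ⁻¹'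
        ((WithTopology.ofTopology : WithConstructibleTopology (F.obj j) → F.obj j) ⁻¹' Z j) := by
    ext u
    simp only [constrSections, Set.mem_ofPred_eq, Set.mem_inter_iff, Set.mem_iInter,
      Set.mem_preimage]
    constructor
    · rintro ⟨h1, h2⟩
      refine ⟨fun i j f => ?_, h2⟩
      rw [h1 f]
    · rintro ⟨h1, h2⟩
      refine ⟨fun {i j} f => ?_, h2⟩
      have := h1 i j f
      exact congrArg WithTopology.ofTopology this
  rw [this]
  refine IsClosed.inter ?_ ?_
  · refine isClosed_iInter fun i => isClosed_iInter fun j => isClosed_iInter fun f => ?_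
    exact isClosed_eq
      ((continuous_withConstructibleTopology_map (hFm f)).comp (continuous_apply i))
      (continuous_apply j)
  · refine isClosed_iInter fun j => ?_
    exact (isClosed_withConstructibleTopology_preimage (hZ j)).preimage (continuous_apply j)

/-- The set of compatible families lying in constructibly closed `Z j` is compact. -/
theorem isCompact_sections_inter [hF : ∀ j, SpectralSpace (F.obj j)]
    (hFm : ∀ {i j : J} (a : i ⟶ j), IsSpectralMap (F.map a : F.obj i → F.obj j))
    (Z : ∀ j, Set (F.obj j))
    (hZ : ∀ j, @IsClosed (F.obj j) (constructibleTopology (F.obj j)) (Z j)) :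
    IsCompact (sections' F ∩ {v | ∀ j, v j ∈ Z j}) := by
  have hc : IsCompact (constrSections F Z) := (isClosed_constrSections F hFm Z hZ).isCompact
  have hΦ : Continuous (fun (u : ∀ j, WithConstructibleTopology (F.obj j)) (j : J) =>
      (u j).ofTopology) :=
    continuous_pi fun j => continuous_ofTopology_constructible.comp (continuous_apply j)
  have := hc.image hΦ
  convert this using 1
  ext v
  simp only [sections', constrSections, Set.mem_inter_iff, Set.mem_ofPred_eq, Set.mem_image]
  constructor
  · rintro ⟨h1, h2⟩
    exact ⟨fun j => WithTopology.toTopology _ (v j), ⟨fun f => h1 f, h2⟩, rfl⟩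
  · rintro ⟨u, ⟨h1, h2⟩, rfl⟩
    exact ⟨fun f => h1 f, h2⟩

/-- In a limit of spectral spaces along spectral maps, the set of points whose projections lie
in given compatible constructibly closed sets is compact. -/
theorem isCompact_setOf_forall_mem (hF : ∀ j, SpectralSpace (F.obj j))
    (hFm : ∀ {i j : J} (a : i ⟶ j), IsSpectralMap (F.map a : F.obj i → F.obj j))
    (c : Cone F) (hc : IsLimit c) (Z : ∀ j, Set (F.obj j))
    (hZ : ∀ j, @IsClosed (F.obj j) (constructibleTopology (F.obj j)) (Z j)) :
    IsCompact {x : c.pt | ∀ j, c.π.app j x ∈ Z j} := by
  have h1 := isCompact_sections_inter F hFm Z hZ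
  have h2 : IsCompact {w : ↥(sections' F) | ∀ j, w.1 j ∈ Z j} := by
    rw [Subtype.isCompact_iff]
    convert h1 using 1
    ext v
    simp only [Set.mem_image, Set.mem_ofPred_eq, Subtype.exists, exists_and_left, exists_prop,
      exists_eq_right_right, Set.mem_inter_iff]
    tauto
  have h3 := (limHomeo F c hc).isCompact_preimage.mpr h2
  convert h3 using 1
  ext x
  simp only [Set.mem_ofPred_eq, Set.mem_preimage, limHomeo_apply]

end Compact

end Groth.Agent.Lib.helper9
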