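/-
Helper library (helper9): nonemptiness of cofiltered limits of spectral spaces.
-/
import Groth.Agent.Lib.Helper9.SpectralLim

set_option autoImplicit false

namespace Groth.Agent.Lib.helper9

open Topology TopologicalSpace CategoryTheory CategoryTheory.Limits

universe u

section Nonempty

variable {J : Type u} [SmallCategory J] (F : J ⥤ TopCat.{u})

/-- The diagram of the subspaces `Z j`, with constructible topologies. -/
noncomputable def constrFunctor [hF : ∀ j, SpectralSpace (F.obj j)]
    (hFm : ∀ {i j : J} (a : i ⟶ j), IsSpectralMap (F.map a : F.obj i → F.obj j))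
    (Z : ∀ j, Set (F.obj j))
    (hmaps : ∀ {i j : J} (a : i ⟶ j), Set.MapsTo (F.map a) (Z i) (Z j)) : J ⥤ TopCat.{u} where
  obj j := TopCat.of {x : WithConstructibleTopology (F.obj j) // x.ofTopology ∈ Z j}
  map {i j} a := TopCat.ofHom
    ⟨fun x => ⟨WithTopology.toTopology _ (F.map a x.1.ofTopology), hmaps a x.2⟩,
      ((continuous_withConstructibleTopology_map (hFm a)).comp
        continuous_subtype_val).subtype_mk _⟩
  map_id j := by
    ext x
    simp
  map_comp a b := by
    ext x
    simp

/-- Cofiltered limits: compatible nonempty constructibly closed subsets have a compatible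
family of points. -/
theorem exists_compatible_of_nonempty [IsCofiltered J] [hF : ∀ j, SpectralSpace (F.obj j)]
    (hFm : ∀ {i j : J} (a : i ⟶ j), IsSpectralMap (F.map a : F.obj i → F.obj j))
    (Z : ∀ j, Set (F.obj j)) (hne : ∀ j, (Z j).Nonempty)
    (hZ : ∀ j, @IsClosed (F.obj j) (constructibleTopology (F.obj j)) (Z j))
    (hmaps : ∀ {i j : J} (a : i ⟶ j), Set.MapsTo (F.map a) (Z i) (Z j)) :
    ∃ v : ∀ j, F.obj j, (∀ {i j : J} (f : i ⟶ j), F.map f (v i) = v j) ∧ ∀ j, v j ∈ Z j := by
  let G := constrFunctor F hFm Z hmaps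
  haveI : ∀ j, Nonempty (G.obj j) := fun j => by
    obtain ⟨z, hz⟩ := hne j
    exact ⟨⟨WithTopology.toTopology _ z, hz⟩⟩
  haveI : ∀ j, CompactSpace (G.obj j) := fun j =>
    isCompact_iff_compactSpace.mp (isClosed_withConstructibleTopology_preimage (hZ j)).isCompact
  haveI : ∀ j, T2Space (G.obj j) := fun j =>
    inferInstanceAs (T2Space {x : WithConstructibleTopology (F.obj j) // x.ofTopology ∈ Z j})
  obtain ⟨u⟩ := TopCat.nonempty_limitCone_of_compact_t2_cofiltered_system.{u, u} G
  refine ⟨fun j => (u.1 j).1.ofTopology, fun {i j} f => ?_, fun j => (u.1 j).2⟩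
  have := u.2 f
  exact congrArg (fun y : G.obj j => y.1.ofTopology) this

end Nonempty

end Groth.Agent.Lib.helper9
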