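/-
Helper library (helper9): descending inclusions along cofiltered limits of spectral spaces.
-/
import Groth.Agent.Lib.Helper9.SpectralLimNe

set_option autoImplicit false

namespace Groth.Agent.Lib.helper9

open Topology TopologicalSpace CategoryTheory CategoryTheory.Limits

universe u

section Descend

variable {J : Type u} [SmallCategory J] (F : J ⥤ TopCat.{u})

theorem map_comp_apply' {i j k : J} (a : i ⟶ j) (b : j ⟶ k) (x : F.obj i) :
    F.map (a ≫ b) x = F.map b (F.map a x) := by
  rw [F.map_comp]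
  rfl

/-- In a cofiltered category, finitely many parallel morphisms `j ⟶ i` can be simultaneously
equalized, with the common composite a morphism to `i`. -/
theorem exists_equalizing [IsCofiltered J] {i j : J} (u : Finset (j ⟶ i)) :
    ∃ (k : J) (b : k ⟶ j) (a₀ : k ⟶ i), ∀ a ∈ u, b ≫ a = a₀ := by
  classical
  induction u using Finset.induction_on with
  | empty =>
    exact ⟨IsCofiltered.min j i, IsCofiltered.minToLeft j i, IsCofiltered.minToRight j i,
      by simp⟩
  | insert a' u _ ih =>
    obtain ⟨k, b, a₀, h⟩ := ih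
    refine ⟨IsCofiltered.eq (b ≫ a') a₀, IsCofiltered.eqHom (b ≫ a') a₀ ≫ b,
      IsCofiltered.eqHom (b ≫ a') a₀ ≫ a₀, ?_⟩
    intro a ha
    rcases Finset.mem_insert.mp ha with rfl | ha
    · rw [Category.assoc, IsCofiltered.eq_condition]
    · rw [Category.assoc, h a ha]

/-- If the preimage in the limit of a constructibly closed `Z ⊆ X_i` is empty, then already
some preimage `F(a)⁻¹ Z` is empty. -/
theorem exists_preimage_eq_empty [IsCofiltered J] (hF : ∀ j, SpectralSpace (F.obj j))
    (hFm : ∀ {i j : J} (a : i ⟶ j), IsSpectralMap (F.map a : F.obj i → F.obj j))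
    (c : Cone F) (hc : IsLimit c) (i : J) (Z : Set (F.obj i))
    (hZ : @IsClosed (F.obj i) (constructibleTopology (F.obj i)) Z)
    (hempty : c.π.app i ⁻¹' Z = ∅) : ∃ (k : J) (a : k ⟶ i), F.map a ⁻¹' Z = ∅ := by
  haveI := hF
  let Z' : ∀ j, Set (F.obj j) := fun j => ⋂ a : j ⟶ i, F.map a ⁻¹' Z
  have hZ'c : ∀ j (a : j ⟶ i),
      @IsClosed (F.obj j) (constructibleTopology (F.obj j)) (F.map a ⁻¹' Z) := fun j a =>
    @IsClosed.preimage _ _ (constructibleTopology (F.obj j)) (constructibleTopology (F.obj i))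
      _ (continuous_constructibleTopology_of_isSpectralMap (hFm a)) _ hZ
  have hZ' : ∀ j, @IsClosed (F.obj j) (constructibleTopology (F.obj j)) (Z' j) := fun j =>
    @isClosed_iInter _ _ (constructibleTopology (F.obj j)) _ fun a => hZ'c j a
  have hmaps : ∀ {j j' : J} (b : j ⟶ j'), Set.MapsTo (F.map b) (Z' j) (Z' j') := by
    intro j j' b x hx
    simp only [Z', Set.mem_iInter, Set.mem_preimage] at hx ⊢
    intro a
    rw [← map_comp_apply']
    exact hx (b ≫ a)
  -- some `Z' j` is empty
  obtain ⟨j, hj⟩ : ∃ j, Z' j = ∅ := by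
    by_contra hne
    push Not at hne
    obtain ⟨v, hv, hvZ⟩ := exists_compatible_of_nonempty F hFm Z'
      (fun j => hne j) hZ' hmaps
    obtain ⟨x, hx⟩ := exists_of_compatible F c hc v hv
    have hxZ : x ∈ c.π.app i ⁻¹' Z := by
      have := hvZ i
      simp only [Z', Set.mem_iInter, Set.mem_preimage] at this
      have h2 := this (𝟙 i)
      rw [F.map_id] at h2
      change c.π.app i x ∈ Z
      rw [hx i]
      exact h2
    rw [hempty] at hxZ
    exact hxZ
  -- finitely many morphisms suffice
  have hcomp : @IsCompact (F.obj j) (constructibleTopology (F.obj j)) Set.univ :=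
    @isCompact_univ _ (constructibleTopology (F.obj j)) compactSpace_constructibleTopology
  obtain ⟨u, hu⟩ := @IsCompact.elim_finite_subfamily_closed (F.obj j)
    (constructibleTopology (F.obj j)) Set.univ (j ⟶ i) hcomp (fun a => F.map a ⁻¹' Z)
    (hZ'c j) (by rw [Set.univ_inter]; exact hj)
  rw [Set.univ_inter] at hu
  obtain ⟨k, b, a₀, hk⟩ := exists_equalizing u
  refine ⟨k, a₀, ?_⟩
  rw [Set.eq_empty_iff_forall_notMem]
  intro x hx
  have : F.map b x ∈ ⋂ a ∈ u, F.map a ⁻¹' Z := by
    simp only [Set.mem_iInter, Set.mem_preimage]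
    intro a ha
    rw [← map_comp_apply', hk a ha]
    exact hx
  rw [hu] at this
  exact this

/-- Descending an inclusion of preimages from the limit to a finite stage. -/
theorem preimage_subset_preimage_iff [IsCofiltered J] (hF : ∀ j, SpectralSpace (F.obj j))
    (hFm : ∀ {i j : J} (a : i ⟶ j), IsSpectralMap (F.map a : F.obj i → F.obj j))
    (c : Cone F) (hc : IsLimit c) (i : J) (E F' : Set (F.obj i))
    (hE : @IsClosed (F.obj i) (constructibleTopology (F.obj i)) E)
    (hF' : @IsOpen (F.obj i) (constructibleTopology (F.obj i)) F') :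
    (c.π.app i ⁻¹' E ⊆ c.π.app i ⁻¹' F') ↔
      ∃ (j : J) (a : j ⟶ i), F.map a ⁻¹' E ⊆ F.map a ⁻¹' F' := by
  constructor
  · intro h
    have hZ : @IsClosed (F.obj i) (constructibleTopology (F.obj i)) (E ∩ F'ᶜ) :=
      @IsClosed.inter _ _ _ (constructibleTopology (F.obj i)) hE
        (@IsOpen.isClosed_compl _ (constructibleTopology (F.obj i)) _ hF')
    have hempty : c.π.app i ⁻¹' (E ∩ F'ᶜ) = ∅ := by
      rw [Set.eq_empty_iff_forall_notMem]
      rintro x ⟨hxE, hxF⟩
      exact hxF (h hxE)
    obtain ⟨k, a, ha⟩ := exists_preimage_eq_empty F hF hFm c hc i _ hZ hempty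
    refine ⟨k, a, fun x hxE => ?_⟩
    by_contra hxF
    have : x ∈ F.map a ⁻¹' (E ∩ F'ᶜ) := ⟨hxE, hxF⟩
    rw [ha] at this
    exact this
  · rintro ⟨j, a, h⟩ x hx
    have hw := cone_w_apply F c a x
    have : c.π.app j x ∈ F.map a ⁻¹' E := by
      change F.map a (c.π.app j x) ∈ E
      rw [hw]
      exact hx
    have := h this
    change F.map a (c.π.app j x) ∈ F' at this
    rw [hw] at this
    exact this

end Descend

end Groth.Agent.Lib.helper9
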