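/-
Helper library (helper9): the topology of a cofiltered limit of spectral spaces.
-/
import Groth.Agent.Lib.Helper9.SpectralLimDesc

set_option autoImplicit false

namespace Groth.Agent.Lib.helper9

open Topology TopologicalSpace CategoryTheory CategoryTheory.Limits

universe u

section Top

variable {J : Type u} [SmallCategory J] (F : J ⥤ TopCat.{u})

/-- The compatible family of subsets generated by a subset of `X_i`. -/
def pullbackFamily (i : J) (Z : Set (F.obj i)) : ∀ j, Set (F.obj j) :=
  fun j => ⋂ a : j ⟶ i, F.map a ⁻¹' Z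

theorem isClosed_pullbackFamily
    (hFm : ∀ {i j : J} (a : i ⟶ j), IsSpectralMap (F.map a : F.obj i → F.obj j))
    (i : J) (Z : Set (F.obj i)) (hZ : @IsClosed (F.obj i) (constructibleTopology (F.obj i)) Z)
    (j : J) : @IsClosed (F.obj j) (constructibleTopology (F.obj j)) (pullbackFamily F i Z j) :=
  @isClosed_iInter _ _ (constructibleTopology (F.obj j)) _ fun a =>
    @IsClosed.preimage _ _ (constructibleTopology (F.obj j)) (constructibleTopology (F.obj i))
      _ (continuous_constructibleTopology_of_isSpectralMap (hFm a)) _ hZ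

theorem mapsTo_pullbackFamily (i : J) (Z : Set (F.obj i)) {j j' : J} (b : j ⟶ j') :
    Set.MapsTo (F.map b) (pullbackFamily F i Z j) (pullbackFamily F i Z j') := by
  intro x hx
  simp only [pullbackFamily, Set.mem_iInter, Set.mem_preimage] at hx ⊢
  intro a
  rw [← map_comp_apply']
  exact hx (b ≫ a)

theorem setOf_forall_mem_pullbackFamily (c : Cone F) (i : J) (Z : Set (F.obj i)) :
    {x : c.pt | ∀ j, c.π.app j x ∈ pullbackFamily F i Z j} = c.π.app i ⁻¹' Z := by
  ext x
  simp only [pullbackFamily, Set.mem_ofPred_eq, Set.mem_iInter, Set.mem_preimage]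
  constructor
  · intro h
    have := h i (𝟙 i)
    rwa [F.map_id] at this
  · intro h j a
    rw [cone_w_apply]
    exact h

/-- Preimages of constructibly closed sets under the projections are compact. -/
theorem isCompact_preimage_proj (hF : ∀ j, SpectralSpace (F.obj j))
    (hFm : ∀ {i j : J} (a : i ⟶ j), IsSpectralMap (F.map a : F.obj i → F.obj j))
    (c : Cone F) (hc : IsLimit c) (i : J) (E : Set (F.obj i))
    (hE : @IsClosed (F.obj i) (constructibleTopology (F.obj i)) E) :
    IsCompact (c.π.app i ⁻¹' E) := by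
  rw [← setOf_forall_mem_pullbackFamily]
  exact isCompact_setOf_forall_mem F hF hFm c hc _ (isClosed_pullbackFamily F hFm i E hE)

/-- The projections from the limit are spectral. -/
theorem isSpectralMap_proj (hF : ∀ j, SpectralSpace (F.obj j))
    (hFm : ∀ {i j : J} (a : i ⟶ j), IsSpectralMap (F.map a : F.obj i → F.obj j))
    (c : Cone F) (hc : IsLimit c) (i : J) : IsSpectralMap (c.π.app i : c.pt → F.obj i) :=
  ⟨(c.π.app i).hom.continuous, fun _ hso hsc =>
    isCompact_preimage_proj F hF hFm c hc i _ (isClopen_constructibleTopology hso hsc).1⟩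

theorem isInducing_proj (c : Cone F) (hc : IsLimit c) :
    IsInducing (fun (x : c.pt) (j : J) => (c.π.app j x : F.obj j)) := by
  have h1 : IsInducing (Subtype.val : ↥(sections' F) → ∀ j, F.obj j) := IsInducing.subtypeVal
  have h2 := h1.comp (limHomeo F c hc).isInducing
  convert h2 using 1
  ext x j
  exact (limHomeo_apply F c hc x j).symm

theorem t0Space_lim [∀ j, T0Space (F.obj j)] (c : Cone F) (hc : IsLimit c) : T0Space c.pt := by
  haveI : T0Space ↥(sections' F) := inferInstance
  exact (limHomeo F c hc).symm.t0Space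

/-- The preimages of compact opens under the projections form a basis of the limit. -/
theorem isTopologicalBasis_lim [IsCofiltered J] (hF : ∀ j, SpectralSpace (F.obj j))
    (hFm : ∀ {i j : J} (a : i ⟶ j), IsSpectralMap (F.map a : F.obj i → F.obj j))
    (c : Cone F) (hc : IsLimit c) :
    IsTopologicalBasis {s : Set c.pt | ∃ (k : J) (V : Set (F.obj k)),
      IsOpen V ∧ IsCompact V ∧ s = c.π.app k ⁻¹' V} := by
  classical
  haveI := hF
  refine isTopologicalBasis_of_isOpen_of_nhds ?_ ?_
  · rintro _ ⟨k, V, hVo, -, rfl⟩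
    exact hVo.preimage (c.π.app k).hom.continuous
  · intro x O hxO hO
    obtain ⟨O', hO', rfl⟩ := (isInducing_proj F c hc).isOpen_iff.mp hO
    obtain ⟨I, w, hw, hIO⟩ := isOpen_pi_iff.mp hO' _ hxO
    have hU : ∀ j (hj : j ∈ I), ∃ U : Set (F.obj j), (IsOpen U ∧ IsCompact U) ∧
        (c.π.app j x : F.obj j) ∈ U ∧ U ⊆ w j := fun j hj =>
      (PrespectralSpace.isTopologicalBasis (X := F.obj j)).exists_subset_of_mem_open
        (hw j hj).2 (hw j hj).1
    choose U hU using hU
    obtain ⟨k, hk⟩ := IsCofiltered.inf_objs_exists I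
    let a : ∀ j (_ : j ∈ I), k ⟶ j := fun j hj => (hk hj).some
    let V : Set (F.obj k) := ⋂ j ∈ I.attach, F.map (a j.1 j.2) ⁻¹' U j.1 j.2
    have hV := isOpen_isCompact_biInter_finset I.attach
      (fun j : {j // j ∈ I} => F.map (a j.1 j.2) ⁻¹' U j.1 j.2) fun j _ =>
      ⟨(hU j.1 j.2).1.1.preimage (hFm _).continuous,
        (hFm _).isCompact_preimage_of_isOpen (hU j.1 j.2).1.1 (hU j.1 j.2).1.2⟩
    refine ⟨c.π.app k ⁻¹' V, ⟨k, V, hV.1, hV.2, rfl⟩, ?_, ?_⟩
    · simp only [V, Set.mem_preimage, Set.mem_iInter]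
      intro j _
      rw [cone_w_apply]
      exact (hU j.1 j.2).2.1
    · intro y hy
      apply hIO
      intro j hj
      simp only [V, Set.mem_preimage, Set.mem_iInter] at hy
      have := hy ⟨j, hj⟩ (Finset.mem_attach _ _)
      rw [cone_w_apply] at this
      exact (hU j hj).2.2 this

/-- A cofiltered limit of spectral spaces along spectral maps is quasi-sober. -/
theorem quasiSober_lim [IsCofiltered J] (hF : ∀ j, SpectralSpace (F.obj j))
    (hFm : ∀ {i j : J} (a : i ⟶ j), IsSpectralMap (F.map a : F.obj i → F.obj j))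
    (c : Cone F) (hc : IsLimit c) : QuasiSober c.pt := by
  haveI := hF
  refine ⟨fun {T} hT hTc => ?_⟩
  have hirr : ∀ j, IsIrreducible (closure ((c.π.app j : c.pt → F.obj j) '' T)) := fun j =>
    (hT.image _ (c.π.app j).hom.continuous.continuousOn).closure
  choose ξ hξ using fun j => QuasiSober.sober (hirr j) isClosed_closure
  have hcompat : ∀ {i j : J} (a : i ⟶ j), F.map a (ξ i) = ξ j := by
    intro i j a
    have h1 := (hξ i).image (F.map a).hom.continuous
    have h2 : closure ((F.map a : F.obj i → F.obj j) ''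
        closure ((c.π.app i : c.pt → F.obj i) '' T)) =
        closure ((c.π.app j : c.pt → F.obj j) '' T) := by
      rw [closure_image_closure (F.map a).hom.continuous, ← Set.image_comp]
      congr 1
      apply Set.image_congr
      intro x _
      exact cone_w_apply F c a x
    rw [h2] at h1
    exact h1.eq (hξ j)
  obtain ⟨x, hx⟩ := exists_of_compatible F c hc ξ hcompat
  refine ⟨x, ?_⟩
  have hbasis := isTopologicalBasis_lim F hF hFm c hc
  change closure {x} = T
  apply Set.Subset.antisymm
  · rw [hTc.closure_subset_iff, Set.singleton_subset_iff, ← hTc.closure_eq,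
      hbasis.mem_closure_iff]
    rintro _ ⟨k, V, hVo, -, rfl⟩ hxV
    have hξV : ξ k ∈ V := hx k ▸ hxV
    obtain ⟨_, hyV, ⟨t, htT, rfl⟩⟩ := mem_closure_iff.mp (hξ k).mem V hVo hξV
    exact ⟨t, hyV, htT⟩
  · intro t htT
    rw [hbasis.mem_closure_iff]
    rintro _ ⟨k, V, hVo, -, rfl⟩ htV
    refine ⟨x, ?_, rfl⟩
    have h1 : (c.π.app k t : F.obj k) ∈ closure ((c.π.app k : c.pt → F.obj k) '' T) :=
      subset_closure ⟨t, htT, rfl⟩
    have h2 : ξ k ⤳ c.π.app k t := (hξ k).specializes h1
    change (c.π.app k x : F.obj k) ∈ V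
    rw [hx k]
    exact h2.mem_open hVo htV

/-- A cofiltered limit of spectral spaces along spectral maps is spectral. -/
theorem spectralSpace_lim [IsCofiltered J] (hF : ∀ j, SpectralSpace (F.obj j))
    (hFm : ∀ {i j : J} (a : i ⟶ j), IsSpectralMap (F.map a : F.obj i → F.obj j))
    (c : Cone F) (hc : IsLimit c) : SpectralSpace c.pt := by
  haveI := hF
  haveI : T0Space c.pt := t0Space_lim F c hc
  haveI : QuasiSober c.pt := quasiSober_lim F hF hFm c hc
  haveI : CompactSpace c.pt := by
    rw [← isCompact_univ_iff]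
    have := isCompact_setOf_forall_mem F hF hFm c hc (fun _ => Set.univ)
      (fun j => @isClosed_univ _ (constructibleTopology (F.obj j)))
    simpa using this
  have hbasis := isTopologicalBasis_lim F hF hFm c hc
  haveI : PrespectralSpace c.pt := PrespectralSpace.of_isTopologicalBasis hbasis (by
    rintro _ ⟨k, V, hVo, hVc, rfl⟩
    exact isCompact_preimage_proj F hF hFm c hc k V (isClopen_constructibleTopology hVo hVc).1)
  haveI : QuasiSeparatedSpace c.pt := by
    let b : (Σ k : J, {V : Set (F.obj k) // IsOpen V ∧ IsCompact V}) → Set c.pt :=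
      fun p => c.π.app p.1 ⁻¹' (p.2 : Set (F.obj p.1))
    have hb : IsTopologicalBasis (Set.range b) := by
      convert hbasis using 1
      ext s
      simp only [Set.mem_range, Sigma.exists, Subtype.exists, b, Set.mem_ofPred_eq]
      constructor
      · rintro ⟨k, V, ⟨hVo, hVc⟩, rfl⟩
        exact ⟨k, V, hVo, hVc, rfl⟩
      · rintro ⟨k, V, hVo, hVc, rfl⟩
        exact ⟨k, V, ⟨hVo, hVc⟩, rfl⟩
    refine QuasiSeparatedSpace.of_isTopologicalBasis hb ?_
    rintro ⟨i, U, hUo, hUc⟩ ⟨j, V, hVo, hVc⟩
    let k := IsCofiltered.min i j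
    let a : k ⟶ i := IsCofiltered.minToLeft i j
    let a' : k ⟶ j := IsCofiltered.minToRight i j
    have heq : b ⟨i, U, hUo, hUc⟩ ∩ b ⟨j, V, hVo, hVc⟩ =
        c.π.app k ⁻¹' (F.map a ⁻¹' U ∩ F.map a' ⁻¹' V) := by
      ext x
      simp only [b, Set.mem_inter_iff, Set.mem_preimage]
      rw [cone_w_apply, cone_w_apply]
    rw [heq]
    refine isCompact_preimage_proj F hF hFm c hc k _ ?_
    refine @IsClosed.inter _ _ _ (constructibleTopology (F.obj k)) ?_ ?_
    · exact (isClopen_constructibleTopology (hUo.preimage (hFm a).continuous)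
        ((hFm a).isCompact_preimage_of_isOpen hUo hUc)).1
    · exact (isClopen_constructibleTopology (hVo.preimage (hFm a').continuous)
        ((hFm a').isCompact_preimage_of_isOpen hVo hVc)).1
  exact { }

end Top

end Groth.Agent.Lib.helper9
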