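/-
Helper library (helper9): descending quasi-compact opens along cofiltered limits of spectral
spaces.
-/
import Groth.Agent.Lib.Helper9.SpectralLimTop
import Mathlib.Topology.Compactness.Bases

set_option autoImplicit false

namespace Groth.Agent.Lib.helper9

open Topology TopologicalSpace CategoryTheory CategoryTheory.Limits

universe u

section Opens

variable {J : Type u} [SmallCategory J] (F : J ⥤ TopCat.{u})

theorem preimage_proj_eq_preimage_map (c : Cone F) {k i : J} (a : k ⟶ i) (V : Set (F.obj i)) :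
    c.π.app i ⁻¹' V = c.π.app k ⁻¹' (F.map a ⁻¹' V) := by
  ext x
  simp only [Set.mem_preimage]
  rw [cone_w_apply]

theorem preimage_map_comp {k j i : J} (b : k ⟶ j) (a : j ⟶ i) (V : Set (F.obj i)) :
    F.map (b ≫ a) ⁻¹' V = F.map b ⁻¹' (F.map a ⁻¹' V) := by
  ext x
  simp only [Set.mem_preimage]
  rw [map_comp_apply']

/-- Every compact open of the limit comes from a compact open at a finite stage. -/
theorem exists_isCompact_isOpen_preimage_eq [IsCofiltered J] (hF : ∀ j, SpectralSpace (F.obj j))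
    (hFm : ∀ {i j : J} (a : i ⟶ j), IsSpectralMap (F.map a : F.obj i → F.obj j))
    (c : Cone F) (hc : IsLimit c) (U : Set c.pt) (hUo : IsOpen U) (hUc : IsCompact U) :
    ∃ (i : J) (Ui : Set (F.obj i)), IsOpen Ui ∧ IsCompact Ui ∧ c.π.app i ⁻¹' Ui = U := by
  let b : (Σ k : J, {V : Set (F.obj k) // IsOpen V ∧ IsCompact V}) → Set c.pt :=
    fun p => c.π.app p.1 ⁻¹' (p.2 : Set (F.obj p.1))
  have hb : IsTopologicalBasis (Set.range b) := by
    convert isTopologicalBasis_lim F hF hFm c hc using 1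
    ext s
    simp only [Set.mem_range, Sigma.exists, Subtype.exists, b, Set.mem_ofPred_eq]
    constructor
    · rintro ⟨k, V, ⟨hVo, hVc⟩, rfl⟩
      exact ⟨k, V, hVo, hVc, rfl⟩
    · rintro ⟨k, V, hVo, hVc, rfl⟩
      exact ⟨k, V, ⟨hVo, hVc⟩, rfl⟩
  obtain ⟨s, hs, rfl⟩ := eq_finite_iUnion_of_isTopologicalBasis_of_isCompact_open b hb U hUc hUo
  clear hUo hUc
  induction s, hs using Set.Finite.induction_on with
  | empty =>
    obtain ⟨i⟩ := IsCofiltered.nonempty (C := J)
    exact ⟨i, ∅, isOpen_empty, isCompact_empty, by simp⟩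
  | insert _ _ ih =>
    rename_i p s _ _
    obtain ⟨i, Ui, hUio, hUic, hUi⟩ := ih
    obtain ⟨j, V, hVo, hVc⟩ := p
    let k := IsCofiltered.min i j
    let a : k ⟶ i := IsCofiltered.minToLeft i j
    let a' : k ⟶ j := IsCofiltered.minToRight i j
    refine ⟨k, F.map a' ⁻¹' V ∪ F.map a ⁻¹' Ui, ?_, ?_, ?_⟩
    · exact (hVo.preimage (hFm a').continuous).union (hUio.preimage (hFm a).continuous)
    · exact ((hFm a').isCompact_preimage_of_isOpen hVo hVc).union
        ((hFm a).isCompact_preimage_of_isOpen hUio hUic)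
    · rw [Set.biUnion_insert, ← hUi, Set.preimage_union,
        ← preimage_proj_eq_preimage_map, ← preimage_proj_eq_preimage_map]

/-- Descending an inclusion between preimages of constructibly closed/open sets at different
stages. -/
theorem exists_preimage_subset_preimage [IsCofiltered J] (hF : ∀ j, SpectralSpace (F.obj j))
    (hFm : ∀ {i j : J} (a : i ⟶ j), IsSpectralMap (F.map a : F.obj i → F.obj j))
    (c : Cone F) (hc : IsLimit c) (i j : J) (E : Set (F.obj i)) (E' : Set (F.obj j))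
    (hE : @IsClosed (F.obj i) (constructibleTopology (F.obj i)) E)
    (hE' : @IsOpen (F.obj j) (constructibleTopology (F.obj j)) E')
    (h : c.π.app i ⁻¹' E ⊆ c.π.app j ⁻¹' E') :
    ∃ (k : J) (a : k ⟶ i) (b : k ⟶ j), F.map a ⁻¹' E ⊆ F.map b ⁻¹' E' := by
  let k₀ := IsCofiltered.min i j
  let a₀ : k₀ ⟶ i := IsCofiltered.minToLeft i j
  let b₀ : k₀ ⟶ j := IsCofiltered.minToRight i j
  have h1 : @IsClosed (F.obj k₀) (constructibleTopology (F.obj k₀)) (F.map a₀ ⁻¹' E) :=
    @IsClosed.preimage _ _ (constructibleTopology (F.obj k₀)) (constructibleTopology (F.obj i))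
      _ (continuous_constructibleTopology_of_isSpectralMap (hFm a₀)) _ hE
  have h2 : @IsOpen (F.obj k₀) (constructibleTopology (F.obj k₀)) (F.map b₀ ⁻¹' E') :=
    @IsOpen.preimage _ _ (constructibleTopology (F.obj k₀)) (constructibleTopology (F.obj j))
      _ (continuous_constructibleTopology_of_isSpectralMap (hFm b₀)) _ hE'
  have h3 : c.π.app k₀ ⁻¹' (F.map a₀ ⁻¹' E) ⊆ c.π.app k₀ ⁻¹' (F.map b₀ ⁻¹' E') := by
    rw [← preimage_proj_eq_preimage_map, ← preimage_proj_eq_preimage_map]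
    exact h
  obtain ⟨k, e, he⟩ := (preimage_subset_preimage_iff F hF hFm c hc k₀ _ _ h1 h2).mp h3
  refine ⟨k, e ≫ a₀, e ≫ b₀, ?_⟩
  rw [preimage_map_comp, preimage_map_comp]
  exact he

/-- Descending an equality between preimages of constructibly clopen sets. -/
theorem exists_preimage_eq_preimage [IsCofiltered J] (hF : ∀ j, SpectralSpace (F.obj j))
    (hFm : ∀ {i j : J} (a : i ⟶ j), IsSpectralMap (F.map a : F.obj i → F.obj j))
    (c : Cone F) (hc : IsLimit c) (i : J) (E E' : Set (F.obj i))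
    (hE : @IsClopen (F.obj i) (constructibleTopology (F.obj i)) E)
    (hE' : @IsClopen (F.obj i) (constructibleTopology (F.obj i)) E')
    (h : c.π.app i ⁻¹' E = c.π.app i ⁻¹' E') :
    ∃ (j : J) (a : j ⟶ i), F.map a ⁻¹' E = F.map a ⁻¹' E' := by
  obtain ⟨j₁, a₁, h₁⟩ := (preimage_subset_preimage_iff F hF hFm c hc i E E' hE.1 hE'.2).mp h.le
  obtain ⟨j₂, a₂, h₂⟩ := (preimage_subset_preimage_iff F hF hFm c hc i E' E hE'.1 hE.2).mp h.ge
  let k₀ := IsCofiltered.min j₁ j₂
  let b₁ : k₀ ⟶ j₁ := IsCofiltered.minToLeft j₁ j₂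
  let b₂ : k₀ ⟶ j₂ := IsCofiltered.minToRight j₁ j₂
  let k := IsCofiltered.eq (b₁ ≫ a₁) (b₂ ≫ a₂)
  let e : k ⟶ k₀ := IsCofiltered.eqHom (b₁ ≫ a₁) (b₂ ≫ a₂)
  have hcond : e ≫ b₁ ≫ a₁ = e ≫ b₂ ≫ a₂ := IsCofiltered.eq_condition _ _
  refine ⟨k, e ≫ b₁ ≫ a₁, Set.Subset.antisymm ?_ ?_⟩
  · rw [← Category.assoc, preimage_map_comp, preimage_map_comp (F := F) (e ≫ b₁) a₁ E']
    exact Set.preimage_mono h₁
  · rw [hcond, ← Category.assoc, preimage_map_comp, preimage_map_comp (F := F) (e ≫ b₂) a₂ E]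
    exact Set.preimage_mono h₂

end Opens

end Groth.Agent.Lib.helper9
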