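/-
Helper library (helper9): descending constructible sets along cofiltered limits of spectral
spaces.
-/
import Groth.Agent.Lib.Helper9.SpectralLimOpens

set_option autoImplicit false

namespace Groth.Agent.Lib.helper9

open Topology TopologicalSpace CategoryTheory CategoryTheory.Limits

universe u

/-- Preimages of constructible sets under spectral maps of spectral spaces are constructible. -/
theorem isConstructible_preimage_of_isSpectralMap {X Y : Type u} [TopologicalSpace X]
    [TopologicalSpace Y] [QuasiSeparatedSpace X] [CompactSpace Y] {f : X → Y}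
    (hf : IsSpectralMap f) {s : Set Y} (hs : IsConstructible s) : IsConstructible (f ⁻¹' s) := by
  refine hs.preimage hf.continuous fun t hto htr => ?_
  have htc : IsCompact t := by simpa using htr isCompact_univ isOpen_univ
  exact isRetrocompact_of_isCompact_isOpen (hto.preimage hf.continuous)
    (hf.isCompact_preimage_of_isOpen hto htc)

section Cons

variable {J : Type u} [SmallCategory J] (F : J ⥤ TopCat.{u})

theorem exists_isConstructible_preimage_eq [IsCofiltered J]
    (hF : ∀ j, SpectralSpace (F.obj j))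
    (hFm : ∀ {i j : J} (a : i ⟶ j), IsSpectralMap (F.map a : F.obj i → F.obj j))
    (c : Cone F) (hc : IsLimit c) (E : Set c.pt) (hE : IsConstructible E) :
    ∃ (i : J) (Ei : Set (F.obj i)), IsConstructible Ei ∧ c.π.app i ⁻¹' Ei = E := by
  haveI := hF
  haveI : SpectralSpace c.pt := spectralSpace_lim F hF hFm c hc
  induction hE using IsConstructible.empty_union_induction with
  | open_retrocompact U hUo hUc =>
    have hc' : IsCompact U := by simpa using hUc isCompact_univ isOpen_univ
    obtain ⟨i, Ui, hUio, hUic, h⟩ :=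
      exists_isCompact_isOpen_preimage_eq F hF hFm c hc U hUo hc'
    exact ⟨i, Ui, isConstructible_of_isCompact_isOpen hUio hUic, h⟩
  | union s hs t ht hs' ht' =>
    obtain ⟨i, Ei, hEi, rfl⟩ := hs'
    obtain ⟨j, Ej, hEj, rfl⟩ := ht'
    let k := IsCofiltered.min i j
    let a : k ⟶ i := IsCofiltered.minToLeft i j
    let a' : k ⟶ j := IsCofiltered.minToRight i j
    refine ⟨k, F.map a ⁻¹' Ei ∪ F.map a' ⁻¹' Ej, ?_, ?_⟩
    · exact (isConstructible_preimage_of_isSpectralMap (hFm a) hEi).union
        (isConstructible_preimage_of_isSpectralMap (hFm a') hEj)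
    · rw [Set.preimage_union, ← preimage_proj_eq_preimage_map, ← preimage_proj_eq_preimage_map]
  | compl s hs hs' =>
    obtain ⟨i, Ei, hEi, rfl⟩ := hs'
    exact ⟨i, Eiᶜ, hEi.compl, rfl⟩

theorem exists_isConstructible_isOpen_preimage_eq [IsCofiltered J]
    (hF : ∀ j, SpectralSpace (F.obj j))
    (hFm : ∀ {i j : J} (a : i ⟶ j), IsSpectralMap (F.map a : F.obj i → F.obj j))
    (c : Cone F) (hc : IsLimit c) (E : Set c.pt) (hE : IsConstructible E) (hEo : IsOpen E) :
    ∃ (i : J) (Ei : Set (F.obj i)), IsConstructible Ei ∧ IsOpen Ei ∧ c.π.app i ⁻¹' Ei = E := by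
  haveI := hF
  haveI : SpectralSpace c.pt := spectralSpace_lim F hF hFm c hc
  have hc' : IsCompact E := isCompact_of_isClosed_constructibleTopology
    (isClopen_constructibleTopology_of_isConstructible hE).1
  obtain ⟨i, Ui, hUio, hUic, h⟩ := exists_isCompact_isOpen_preimage_eq F hF hFm c hc E hEo hc'
  exact ⟨i, Ui, isConstructible_of_isCompact_isOpen hUio hUic, hUio, h⟩

theorem exists_isConstructible_isClosed_preimage_eq [IsCofiltered J]
    (hF : ∀ j, SpectralSpace (F.obj j))
    (hFm : ∀ {i j : J} (a : i ⟶ j), IsSpectralMap (F.map a : F.obj i → F.obj j))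
    (c : Cone F) (hc : IsLimit c) (E : Set c.pt) (hE : IsConstructible E) (hEc : IsClosed E) :
    ∃ (i : J) (Ei : Set (F.obj i)), IsConstructible Ei ∧ IsClosed Ei ∧
      c.π.app i ⁻¹' Ei = E := by
  obtain ⟨i, Ui, hUi, hUio, h⟩ := exists_isConstructible_isOpen_preimage_eq F hF hFm c hc Eᶜ
    hE.compl hEc.isOpen_compl
  refine ⟨i, Uiᶜ, hUi.compl, hUio.isClosed_compl, ?_⟩
  rw [Set.preimage_compl, h, compl_compl]

end Cons

end Groth.Agent.Lib.helper9
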