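/-
Helper library (helper9): quasi-compact maps and properness for the constructible topology
(on locally spectral spaces).
-/
import Groth.Agent.Lib.Helper9.SpectralMap
import Mathlib.Topology.Maps.Proper.CompactlyGenerated

set_option autoImplicit false
set_option linter.style.haveILetI false

namespace Groth.Agent.Lib.helper9

open Topology TopologicalSpace

universe u v

variable {X : Type u} {Y : Type v} [tX : TopologicalSpace X] [tY : TopologicalSpace Y]

/-- The inclusion of a compact open subset of a quasi-separated space is continuous for the
constructible topologies. -/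
theorem continuous_constructibleTopology_val [QuasiSeparatedSpace X] {U : Set X} (hUo : IsOpen U)
    (hUc : IsCompact U) :
    @Continuous U X (constructibleTopology U) (constructibleTopology X) Subtype.val := by
  refine continuous_generateFrom_iff.mpr fun s hs => ?_
  have key : ∀ K : Set X, IsOpen K → IsCompact K →
      @IsClopen U (constructibleTopology U) (Subtype.val ⁻¹' K) := by
    intro K hKo hKc
    refine isClopen_constructibleTopology (hKo.preimage continuous_subtype_val) ?_
    have h1 : IsCompact (K ∩ U) := QuasiSeparatedSpace.inter_isCompact K U hKo hKc hUo hUc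
    rw [Subtype.isCompact_iff]
    rwa [Subtype.image_preimage_coe, Set.inter_comm]
  rcases hs with hs | hs
  · exact (key s hs.1 hs.2).2
  · have := (key sᶜ hs.1.isOpen_compl hs.2).1
    rw [Set.preimage_compl] at this
    exact @isClosed_compl_iff U (constructibleTopology U) _ |>.mp this
  
/-- A compact open subset of a quasi-separated, quasi-sober, prespectral space is compact for the
constructible topology. -/
theorem isCompact_constructibleTopology_of_isCompact_isOpen [QuasiSober X] [PrespectralSpace X]
    [QuasiSeparatedSpace X] {U : Set X} (hUo : IsOpen U) (hUc : IsCompact U) :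
    @IsCompact X (constructibleTopology X) U := by
  haveI : CompactSpace U := isCompact_iff_compactSpace.mp hUc
  haveI : QuasiSober U := hUo.isOpenEmbedding_subtypeVal.quasiSober
  haveI : PrespectralSpace U := hUo.isOpenEmbedding_subtypeVal.prespectralSpace
  haveI : QuasiSeparatedSpace U := hUo.isOpenEmbedding_subtypeVal.quasiSeparatedSpace
  have hc : @CompactSpace U (constructibleTopology U) := compactSpace_constructibleTopology
  have hcont := continuous_constructibleTopology_val hUo hUc
  have := @IsCompact.image U X (constructibleTopology U) (constructibleTopology X) _ _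
    (@isCompact_univ U (constructibleTopology U) hc) hcont
  simpa using this

/-- The constructible topology of a quasi-separated, quasi-sober, prespectral space is (weakly)
locally compact. -/
theorem weaklyLocallyCompactSpace_constructibleTopology [QuasiSober X] [PrespectralSpace X]
    [QuasiSeparatedSpace X] : @WeaklyLocallyCompactSpace X (constructibleTopology X) := by
  refine @WeaklyLocallyCompactSpace.mk X (constructibleTopology X) fun x => ?_
  obtain ⟨U, ⟨hUo, hUc⟩, hxU, -⟩ :=
    (PrespectralSpace.isTopologicalBasis (X := X)).exists_subset_of_mem_open (Set.mem_univ x)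
      (@isOpen_univ X tX)
  exact ⟨U, isCompact_constructibleTopology_of_isCompact_isOpen hUo hUc,
    @IsOpen.mem_nhds X (constructibleTopology X) x U (isClopen_constructibleTopology hUo hUc).2 hxU⟩

/-- A continuous map with quasi-compact preimages of compact opens is continuous for the
constructible topologies. -/
theorem continuous_constructibleTopology_of_isCompact_preimage {f : X → Y} (hf : Continuous f)
    (h : ∀ V : Set Y, IsOpen V → IsCompact V → IsCompact (f ⁻¹' V)) :
    @Continuous X Y (constructibleTopology X) (constructibleTopology Y) f :=
  continuous_constructibleTopology_of_isSpectralMap ⟨hf, fun _ hVo hVc => h _ hVo hVc⟩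

/-- A quasi-compact continuous map of quasi-separated locally spectral spaces is proper for the
constructible topologies. -/
theorem isProperMap_constructibleTopology_of_isCompact_preimage
    [QuasiSober X] [PrespectralSpace X] [QuasiSeparatedSpace X]
    [QuasiSober Y] [T0Space Y] [PrespectralSpace Y] [QuasiSeparatedSpace Y]
    {f : X → Y} (hf : Continuous f)
    (h : ∀ V : Set Y, IsOpen V → IsCompact V → IsCompact (f ⁻¹' V)) :
    @IsProperMap X Y (constructibleTopology X) (constructibleTopology Y) f := by
  have hcont := continuous_constructibleTopology_of_isCompact_preimage hf h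
  have hT2 : @T2Space Y (constructibleTopology Y) := t2Space_constructibleTopology
  have hlc : @WeaklyLocallyCompactSpace Y (constructibleTopology Y) :=
    weaklyLocallyCompactSpace_constructibleTopology
  have hcc : @CompactlyCoherentSpace Y (constructibleTopology Y) :=
    @CompactlyCoherentSpace.of_weaklyLocallyCompactSpace Y (constructibleTopology Y) hlc
  refine (@isProperMap_iff_isCompact_preimage X Y (constructibleTopology X)
    (constructibleTopology Y) hT2 hcc f).mpr ⟨hcont, fun K hK => ?_⟩
  -- cover `K` by finitely many compact opens
  have hcov : ∀ y ∈ K, ∃ V : Set Y, (IsOpen V ∧ IsCompact V) ∧ y ∈ V := by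
    intro y _
    obtain ⟨V, hV, hyV, -⟩ :=
      (PrespectralSpace.isTopologicalBasis (X := Y)).exists_subset_of_mem_open (Set.mem_univ y)
        (@isOpen_univ Y tY)
    exact ⟨V, hV, hyV⟩
  choose! V hV hyV using hcov
  obtain ⟨t, hKt⟩ := @IsCompact.elim_nhds_subcover' Y (constructibleTopology Y) K hK
    (fun y _ => V y)
    (fun y hy => @IsOpen.mem_nhds Y (constructibleTopology Y) y (V y)
      (isClopen_constructibleTopology (hV y hy).1 (hV y hy).2).2 (hyV y hy))
  -- the preimage of the union is compact open, hence compact for the constructible topology
  have hWo : IsOpen (⋃ x ∈ t, f ⁻¹' V (x : Y)) :=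
    isOpen_biUnion fun x _ => (hV x x.2).1.preimage hf
  have hWc : IsCompact (⋃ x ∈ t, f ⁻¹' V (x : Y)) :=
    t.isCompact_biUnion fun x _ => h _ (hV x x.2).1 (hV x x.2).2
  have hWcc := isCompact_constructibleTopology_of_isCompact_isOpen hWo hWc
  have hKcl : @IsClosed Y (constructibleTopology Y) K :=
    @IsCompact.isClosed Y (constructibleTopology Y) hT2 K hK
  have hpre : @IsClosed X (constructibleTopology X) (f ⁻¹' K) :=
    @IsClosed.preimage X Y (constructibleTopology X) (constructibleTopology Y) f hcont K hKcl
  refine @IsCompact.of_isClosed_subset X (constructibleTopology X) _ _ hWcc hpre ?_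
  intro x hx
  have := hKt hx
  simpa using this

/-- A map that is proper for the constructible topologies is quasi-compact. -/
theorem isCompact_preimage_of_isProperMap_constructibleTopology
    [PrespectralSpace X] [QuasiSober Y] [PrespectralSpace Y] [QuasiSeparatedSpace Y]
    {f : X → Y} (hf : @IsProperMap X Y (constructibleTopology X) (constructibleTopology Y) f)
    {V : Set Y} (hVo : IsOpen V) (hVc : IsCompact V) : IsCompact (f ⁻¹' V) :=
  isCompact_of_isCompact_constructibleTopology
    (@IsProperMap.isCompact_preimage X Y (constructibleTopology X) (constructibleTopology Y) f hf V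
      (isCompact_constructibleTopology_of_isCompact_isOpen hVo hVc))

end Groth.Agent.Lib.helper9
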