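/-
Helper library (helper9): separation properties in spectral spaces.
-/
import Groth.Agent.Lib.Helper9.SpectralSub

set_option autoImplicit false

namespace Groth.Agent.Lib.helper9

open Topology TopologicalSpace

universe u

variable {X : Type u} [tX : TopologicalSpace X]

/-- In a spectral space, two points either have a common generalization or can be separated by
disjoint compact open neighbourhoods. -/
theorem exists_common_generalization_or_disjoint_compact_opens [CompactSpace X] [QuasiSober X]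
    [PrespectralSpace X] [QuasiSeparatedSpace X] (x y : X) :
    (∃ z : X, z ⤳ x ∧ z ⤳ y) ∨
    (∃ U V : Set X, IsOpen U ∧ IsCompact U ∧ IsOpen V ∧ IsCompact V ∧ x ∈ U ∧ y ∈ V ∧
      Disjoint U V) := by
  by_cases h : ∃ U V : Set X, IsOpen U ∧ IsCompact U ∧ IsOpen V ∧ IsCompact V ∧ x ∈ U ∧ y ∈ V ∧
      Disjoint U V
  · exact Or.inr h
  left
  push Not at h
  let t : Set (Set X) := {W | IsOpen W ∧ IsCompact W ∧ (x ∈ W ∨ y ∈ W)}
  have hcomp : @IsCompact X (constructibleTopology X) Set.univ :=
    @isCompact_univ X (constructibleTopology X) compactSpace_constructibleTopology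
  have key := @IsCompact.nonempty_inter_sInter X (constructibleTopology X) Set.univ hcomp t
    (fun W hW => (isClopen_constructibleTopology hW.1 hW.2.1).1) ?_
  · obtain ⟨z, -, hz⟩ := key
    refine ⟨z, specializes_iff_forall_open.mpr fun s hs hxs => ?_,
      specializes_iff_forall_open.mpr fun s hs hys => ?_⟩
    · obtain ⟨U, ⟨hUo, hUc⟩, hxU, hUs⟩ :=
        (PrespectralSpace.isTopologicalBasis (X := X)).exists_subset_of_mem_open hxs hs
      exact hUs (hz U ⟨hUo, hUc, Or.inl hxU⟩)
    · obtain ⟨U, ⟨hUo, hUc⟩, hyU, hUs⟩ :=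
        (PrespectralSpace.isTopologicalBasis (X := X)).exists_subset_of_mem_open hys hs
      exact hUs (hz U ⟨hUo, hUc, Or.inr hyU⟩)
  · intro a hat hafin
    let A : Set X := ⋂₀ {W ∈ a | x ∈ W}
    let B : Set X := ⋂₀ {W ∈ a | y ∈ W}
    have hA : IsOpen A := (hafin.subset (Set.sep_subset _ _)).isOpen_sInter
      fun W hW => (hat hW.1).1
    have hB : IsOpen B := (hafin.subset (Set.sep_subset _ _)).isOpen_sInter
      fun W hW => (hat hW.1).1
    have hxA : x ∈ A := fun W hW => hW.2
    have hyB : y ∈ B := fun W hW => hW.2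
    obtain ⟨U, ⟨hUo, hUc⟩, hxU, hUA⟩ :=
      (PrespectralSpace.isTopologicalBasis (X := X)).exists_subset_of_mem_open hxA hA
    obtain ⟨V, ⟨hVo, hVc⟩, hyV, hVB⟩ :=
      (PrespectralSpace.isTopologicalBasis (X := X)).exists_subset_of_mem_open hyB hB
    obtain ⟨z, hzU, hzV⟩ := Set.not_disjoint_iff.mp (h U V hUo hUc hVo hVc hxU hyV)
    refine ⟨z, Set.mem_univ z, fun W hW => ?_⟩
    rcases (hat hW).2.2 with hx | hy
    · exact hUA hzU W ⟨hW, hx⟩
    · exact hVB hzV W ⟨hW, hy⟩

end Groth.Agent.Lib.helper9
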