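/-
Helper library (helper9): a spectral space without nontrivial specializations is profinite.
-/
import Groth.Agent.Lib.Helper9.SpectralSub
import Mathlib.Topology.Connected.TotallyDisconnected
import Mathlib.Topology.Separation.Hausdorff
import Mathlib.Topology.Spectral.Basic

set_option autoImplicit false

namespace Groth.Agent.Lib.helper9

open Topology TopologicalSpace Set

universe u

variable {X : Type u} [TopologicalSpace X]

/-- A spectral space in which there are no nontrivial specializations is totally separated. -/
theorem totallySeparatedSpace_of_forall_specializes_eq [SpectralSpace X]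
    (h : ∀ x y : X, x ⤳ y → x = y) : TotallySeparatedSpace X := by
  rw [totallySeparatedSpace_iff_exists_isClopen]
  intro x y hxy
  obtain ⟨U, hUo, hUc, hU⟩ := exists_isCompact_isOpen_xor_mem hxy
  have hUcl : IsClosed U :=
    isClosed_of_isClosed_constructibleTopology_of_stableUnderSpecialization
      (isClopen_constructibleTopology hUo hUc).1
      (fun a b hab ha => by rw [← h a b hab]; exact ha)
  rcases hU with ⟨hx, hy⟩ | ⟨hy, hx⟩
  · exact ⟨U, ⟨hUcl, hUo⟩, hx, hy⟩
  · have hcl : IsClopen U := ⟨hUcl, hUo⟩
    exact ⟨Uᶜ, hcl.compl, hx, not_not.mpr hy⟩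

end Groth.Agent.Lib.helper9
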