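/-
Helper library (helper9): a morphism of schemes which is an open embedding on underlying spaces
and bijective on sections over affine opens of the target is bijective on stalks; if moreover it is
a homeomorphism it is an isomorphism.
-/
import Mathlib

set_option autoImplicit false

namespace Groth.Agent.Lib.helper9

open AlgebraicGeometry CategoryTheory TopologicalSpace

universe u

/-- If `f` is an open embedding of spaces and bijective on sections over all affine opens of the
target, then all stalk maps of `f` are bijective. -/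
theorem bijective_stalkMap_of_bijective_app {X Y : Scheme.{u}} (f : X ⟶ Y)
    (hemb : Topology.IsOpenEmbedding f)
    (h : ∀ U : Y.Opens, IsAffineOpen U → Function.Bijective (f.app U).hom) (x : X) :
    Function.Bijective (f.stalkMap x).hom := by
  -- small affine neighbourhoods of `f x` inside images of opens
  have hnhd : ∀ (U' : X.Opens) (W₀ : Y.Opens), x ∈ U' → f x ∈ W₀ →
      ∃ W : Y.Opens, IsAffineOpen W ∧ f x ∈ W ∧ W ≤ W₀ ∧ f ⁻¹ᵁ W ≤ U' := by
    intro U' W₀ hxU' hxW₀
    let fU : Y.Opens := ⟨f '' U', hemb.isOpenMap _ U'.isOpen⟩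
    have hfx : f x ∈ W₀ ⊓ fU := ⟨hxW₀, x, hxU', rfl⟩
    obtain ⟨W, hW, hfxW, hWsub⟩ := exists_isAffineOpen_mem_and_subset hfx
    refine ⟨W, hW, hfxW, fun y hy => (hWsub hy).1, fun y hy => ?_⟩
    obtain ⟨y', hy', hyy'⟩ := (hWsub (show f y ∈ W from hy)).2
    rw [← hemb.injective hyy']
    exact hy'
  constructor
  · rw [injective_iff_map_eq_zero]
    intro z hz
    obtain ⟨W₀, hxW₀, t₀, rfl⟩ := Y.presheaf.exists_germ_eq z
    obtain ⟨W, hW, hfxW, hWW₀, -⟩ := hnhd ⊤ W₀ trivial hxW₀
    have hgerm : Y.presheaf.germ W₀ (f x) hxW₀ t₀ =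
        Y.presheaf.germ W (f x) hfxW (Y.presheaf.map (homOfLE hWW₀).op t₀) :=
      (TopCat.Presheaf.germ_res_apply Y.presheaf (homOfLE hWW₀) (f x) hfxW t₀).symm
    rw [hgerm] at hz ⊢
    set t := Y.presheaf.map (homOfLE hWW₀).op t₀ with ht
    have hz' : X.presheaf.germ (f ⁻¹ᵁ W) x hfxW ((f.app W).hom t) =
        X.presheaf.germ (f ⁻¹ᵁ W) x hfxW 0 := by
      rw [map_zero, ← hz]
      exact (Scheme.Hom.germ_stalkMap_apply f W x hfxW t).symm
    obtain ⟨U'', hxU'', iU, iV, hres⟩ := X.presheaf.germ_eq x hfxW hfxW _ _ hz'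
    rw [map_zero] at hres
    obtain ⟨W'', hW'', hfxW'', hW''W, hpre⟩ := hnhd U'' W hxU'' hfxW
    have hnat : (f.app W'').hom (Y.presheaf.map (homOfLE hW''W).op t) =
        X.presheaf.map (homOfLE hpre).op (X.presheaf.map iU.op ((f.app W).hom t)) := by
      have h1 := f.naturality (homOfLE hW''W).op
      have h2 : (f.app W'').hom ((Y.presheaf.map (homOfLE hW''W).op).hom t) =
          (X.presheaf.map ((Opens.map f.base).map (homOfLE hW''W)).op).hom ((f.app W).hom t) := by
        rw [← CommRingCat.comp_apply, ← CommRingCat.comp_apply, h1]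
        rfl
      rw [h2, ← CommRingCat.comp_apply (X.presheaf.map iU.op), ← Functor.map_comp]
      rfl
    rw [hres, map_zero] at hnat
    have hzero : Y.presheaf.map (homOfLE hW''W).op t = 0 := by
      apply (h W'' hW'').1
      rw [hnat, map_zero]
    rw [← TopCat.Presheaf.germ_res_apply Y.presheaf (homOfLE hW''W) (f x) hfxW'' t, hzero, map_zero]
  · intro z
    obtain ⟨U', hxU', s, rfl⟩ := X.presheaf.exists_germ_eq z
    obtain ⟨W, hW, hfxW, -, hpre⟩ := hnhd U' ⊤ hxU' trivial
    obtain ⟨t, ht⟩ := (h W hW).2 (X.presheaf.map (homOfLE hpre).op s)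
    refine ⟨Y.presheaf.germ W (f x) hfxW t, ?_⟩
    have h1 := Scheme.Hom.germ_stalkMap_apply f W x hfxW t
    refine h1.trans ?_
    have h2 : (f.app W) t = X.presheaf.map (homOfLE hpre).op s := ht
    rw [h2]
    exact TopCat.Presheaf.germ_res_apply X.presheaf (homOfLE hpre) x hfxW s

/-- A morphism of schemes which is a homeomorphism and bijective on sections over affine opens of
the target is an isomorphism. -/
theorem isIso_of_isHomeomorph_of_bijective_app {X Y : Scheme.{u}} (f : X ⟶ Y)
    (hf : IsHomeomorph f)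
    (h : ∀ U : Y.Opens, IsAffineOpen U → Function.Bijective (f.app U).hom) : IsIso f := by
  rw [← MorphismProperty.isomorphisms.iff, isomorphisms_eq_stalkwise]
  refine ⟨?_, fun x => bijective_stalkMap_of_bijective_app f hf.isOpenEmbedding h x⟩
  exact (TopCat.isIso_iff_isHomeomorph f.base).mpr hf

end Groth.Agent.Lib.helper9
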