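/-
Helper library (helper9): Stein factorization without Noetherian hypotheses, part 5.

`isPurelyInseparable_residueFieldMap_of_geometricallyConnected`: let `X ⟶ S' ⟶ S` be morphisms
with `S' ⟶ S` affine and `X ⟶ S` proper, and `x` a point of `X` whose fibre over `S` is
geometrically connected.  Then the residue field of the image of `x` in `S'` is purely
inseparable over the residue field of its image in `S`.
-/
import Mathlib
import Groth.Agent.Lib.Helper9.SteinGen4

set_option autoImplicit false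
set_option linter.style.haveILetI false
set_option backward.isDefEq.respectTransparency false

universe u

open CategoryTheory CategoryTheory.Limits AlgebraicGeometry Opposite

namespace Groth.Agent.Lib.helper9.SteinGen

/-- elements of the residue field at a point of an affine open are fractions of values of
sections -/
theorem exists_evaluation_mul_eq {Z : Scheme.{u}} (V : Z.Opens) (hV : IsAffineOpen V) (z : Z)
    (hz : z ∈ V) (l : Z.residueField z) :
    ∃ b₁ b₂ : Γ(Z, V), Z.evaluation V z hz b₂ ≠ 0 ∧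
      l * Z.evaluation V z hz b₂ = Z.evaluation V z hz b₁ := by
  obtain ⟨l', rfl⟩ := Z.residue_surjective z l
  letI := TopCat.Presheaf.algebra_section_stalk Z.presheaf (⟨z, hz⟩ : V)
  haveI : IsLocalization.AtPrime (Z.presheaf.stalk z) (hV.primeIdealOf ⟨z, hz⟩).asIdeal :=
    hV.isLocalization_stalk ⟨z, hz⟩
  obtain ⟨⟨b₁, b₂⟩, hb⟩ := IsLocalization.surj (hV.primeIdealOf ⟨z, hz⟩).asIdeal.primeCompl l'
  have hunit : IsUnit (algebraMap Γ(Z, V) (Z.presheaf.stalk z) b₂.1) :=
    IsLocalization.map_units (Z.presheaf.stalk z) b₂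
  refine ⟨b₁, b₂.1, ?_, ?_⟩
  · have h1 : IsUnit ((Z.residue z).hom (algebraMap Γ(Z, V) (Z.presheaf.stalk z) b₂.1)) :=
      hunit.map _
    exact h1.ne_zero
  · have h2 := congrArg (Z.residue z).hom hb
    rw [map_mul] at h2
    exact h2

theorem isPurelyInseparable_residueFieldMap_of_geometricallyConnected {X S' S : Scheme.{u}}
    (t : X ⟶ S') (p : S' ⟶ S) [IsProper (t ≫ p)] [IsAffineHom p] (x : X)
    (hx : GeometricallyConnected ((t ≫ p).fiberToSpecResidueField ((t ≫ p) x))) :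
    (p.residueFieldMap (t x)).hom.IsPurelyInseparable := by
  obtain ⟨_, ⟨U, hUaff, rfl⟩, hU, -⟩ := S.isBasis_affineOpens.exists_subset_of_mem_open
    (Set.mem_univ (p (t x))) isOpen_univ
  have hU : p (t x) ∈ U := hU
  have hV : IsAffineOpen (p ⁻¹ᵁ U) := hUaff.preimage p
  have hz : t x ∈ p ⁻¹ᵁ U := hU
  set q := ringExpChar (S.residueField (p (t x))) with hq
  haveI : ExpChar (S.residueField (p (t x))) q := ringExpChar.expChar _
  -- values of sections are radicial
  have hsec : ∀ b : Γ(S', p ⁻¹ᵁ U), ∃ (n : ℕ) (c : S.residueField (p (t x))),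
      (S'.evaluation (p ⁻¹ᵁ U) (t x) hz b) ^ (q ^ n) = (p.residueFieldMap (t x)).hom c := by
    intro b
    obtain ⟨n, c, hc⟩ := exists_pow_evaluation_eq (t ≫ p) x hx U hU (t.app (p ⁻¹ᵁ U) b)
    refine ⟨n, c, ?_⟩
    apply (t.residueFieldMap x).hom.injective
    rw [map_pow]
    have h1 : (t.residueFieldMap x).hom (S'.evaluation (p ⁻¹ᵁ U) (t x) hz b) =
        X.evaluation (t ⁻¹ᵁ (p ⁻¹ᵁ U)) x hz (t.app (p ⁻¹ᵁ U) b) :=
      Scheme.evaluation_naturality_apply t x hz b
    have h2 : (t.residueFieldMap x).hom ((p.residueFieldMap (t x)).hom c) =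
        ((t ≫ p).residueFieldMap x).hom c := by
      rw [Scheme.residueFieldMap_comp]
      rfl
    rw [h1, h2]
    exact hc
  algebraize [(p.residueFieldMap (t x)).hom]
  rw [RingHom.IsPurelyInseparable, isPurelyInseparable_iff_pow_mem _ q]
  intro l
  obtain ⟨b₁, b₂, hb₂, hl⟩ := exists_evaluation_mul_eq (p ⁻¹ᵁ U) hV (t x) hz l
  obtain ⟨n₁, c₁, h₁⟩ := hsec b₁
  obtain ⟨n₂, c₂, h₂⟩ := hsec b₂
  have hl' : l = S'.evaluation (p ⁻¹ᵁ U) (t x) hz b₁ / S'.evaluation (p ⁻¹ᵁ U) (t x) hz b₂ := by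
    rw [eq_div_iff hb₂]
    exact hl
  refine ⟨n₁ + n₂, c₁ ^ (q ^ n₂) / c₂ ^ (q ^ n₁), ?_⟩
  show (p.residueFieldMap (t x)).hom (c₁ ^ (q ^ n₂) / c₂ ^ (q ^ n₁)) = l ^ q ^ (n₁ + n₂)
  rw [hl', map_div₀, map_pow, map_pow, ← h₁, ← h₂, div_pow, ← pow_mul, ← pow_mul, ← pow_add,
    ← pow_add, add_comm n₂ n₁]

end Groth.Agent.Lib.helper9.SteinGen
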