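/-
Helper library (helper9): Stein factorization without Noetherian hypotheses, part 6.

`universallyInjective_of_isPurelyInseparable_genericPoint`: an integral dominant morphism
`p : S' ⟶ S` of integral schemes, with `S` geometrically unibranch and `κ(η') / κ(η)` purely
inseparable at the generic points, is universally injective.
-/
import Mathlib
import Groth.Prelude.Def_ega3
import Groth.Agent.Lib.Helper9.PINormUH2

set_option autoImplicit false
set_option linter.style.haveILetI false
set_option backward.isDefEq.respectTransparency false

universe u

open CategoryTheory CategoryTheory.Limits AlgebraicGeometry Opposite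

namespace Groth.Agent.Lib.helper9.SteinGen

lemma isPurelyInseparable_of_comp {F E K : Type*} [Field F] [Field E] [Field K] {f : F →+* E}
    {g : E →+* K} (h : (g.comp f).IsPurelyInseparable) : f.IsPurelyInseparable := by
  algebraize [f, g, g.comp f]
  exact IsPurelyInseparable.tower_bot F E K

lemma stalkSpecializes_bijective_of_eq {S : Scheme.{u}} {x y : S} (e : x = y) (h : x ⤳ y) :
    Function.Bijective (S.presheaf.stalkSpecializes h).hom := by
  subst e
  have : S.presheaf.stalkSpecializes h = 𝟙 _ := TopCat.Presheaf.stalkSpecializes_refl _ _
  rw [this]
  exact Function.bijective_id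

open Groth.Agent.Lib.helper13.Normal in
theorem universallyInjective_of_isPurelyInseparable_genericPoint {S' S : Scheme.{u}}
    [IsIntegral S'] [IsIntegral S] (p : S' ⟶ S) [IsIntegralHom p]
    (hS : ∀ s : S, CAlg2.IsGeomUnibranch (S.presheaf.stalk s))
    (hgen : p (genericPoint S') = genericPoint S)
    (hpi : (p.residueFieldMap (genericPoint S')).hom.IsPurelyInseparable) :
    UniversallyInjective p := by
  have hsp : p (genericPoint S') ⤳ genericPoint S := hgen ▸ specializes_rfl
  -- the extension of function fields
  let φ : S.functionField →+* S'.functionField :=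
    CohIII.stalkToFunctionField p (genericPoint S) hsp
  letI algKL : Algebra S.functionField S'.functionField := φ.toAlgebra
  have hφ : ∀ c, algebraMap S.functionField S'.functionField c =
      (p.stalkMap (genericPoint S')).hom ((S.presheaf.stalkSpecializes hsp).hom c) := fun c => rfl
  -- exponents
  set q := ringExpChar (S.residueField (p (genericPoint S'))) with hq
  haveI : ExpChar (S.residueField (p (genericPoint S'))) q := ringExpChar.expChar _
  let r : S.functionField →+* S.residueField (p (genericPoint S')) :=
    (S.residue (p (genericPoint S'))).hom.comp (S.presheaf.stalkSpecializes hsp).hom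
  have hrinj : Function.Injective r := r.injective
  have hrsurj : Function.Surjective r :=
    (S.residue_surjective _).comp (stalkSpecializes_bijective_of_eq hgen hsp).2
  haveI : ExpChar S.functionField q := RingHom.expChar r hrinj q
  haveI hKL : IsPurelyInseparable S.functionField S'.functionField := by
    rw [isPurelyInseparable_iff_pow_mem _ q]
    intro l
    have hpi' := hpi
    algebraize [(p.residueFieldMap (genericPoint S')).hom]
    rw [RingHom.IsPurelyInseparable, isPurelyInseparable_iff_pow_mem _ q] at hpi'
    obtain ⟨n, c', hc'⟩ := hpi' ((S'.residue (genericPoint S')).hom l)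
    obtain ⟨c, rfl⟩ := hrsurj c'
    refine ⟨n, c, ?_⟩
    have hinj : Function.Injective (S'.residue (genericPoint S')).hom :=
      RingHom.injective ((S'.residue (genericPoint S')).hom :
        S'.functionField →+* S'.residueField (genericPoint S'))
    apply hinj
    rw [map_pow, ← hc', hφ]
    exact (congr($(Scheme.residue_residueFieldMap p (genericPoint S')).hom
      ((S.presheaf.stalkSpecializes hsp).hom c))).symm
  -- the two morphisms from `Spec K(S')`
  set fK := S.fromSpecStalk (genericPoint S) with hfK
  set j := Spec.map (CommRingCat.ofHom (algebraMap S.functionField S'.functionField)) with hj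
  have H : j ≫ fK = S'.fromSpecStalk (genericPoint S') ≫ p := by
    have h1 : CommRingCat.ofHom (algebraMap S.functionField S'.functionField) =
        S.presheaf.stalkSpecializes hsp ≫ p.stalkMap (genericPoint S') := rfl
    rw [hj, h1, Spec.map_comp, Category.assoc, hfK,
      Scheme.SpecMap_stalkSpecializes_fromSpecStalk hsp,
      Scheme.SpecMap_stalkMap_fromSpecStalk]
  haveI : QuasiCompact fK := quasiCompact_fromSpecStalk_genericPoint S
  haveI : QuasiCompact (j ≫ fK) := inferInstance
  haveI : QuasiSeparated (j ≫ fK) := inferInstance
  have hT : UniversallyInjective (j ≫ fK).fromNormalization :=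
    Groth.Agent.Lib.helper9.PINormUH.universallyInjective_fromNormalization_of_pi S hS
      S'.functionField
  -- the comparison morphism
  let h := (j ≫ fK).normalizationDesc (S'.fromSpecStalk (genericPoint S')) p H
  have hh1 : h ≫ p = (j ≫ fK).fromNormalization := (j ≫ fK).normalizationDesc_comp _ _ H
  have hh2 : (j ≫ fK).toNormalization ≫ h = S'.fromSpecStalk (genericPoint S') :=
    (j ≫ fK).toNormalization_normalizationDesc _ _ H
  haveI : IsIntegralHom h := inferInstance
  have hsurj : Function.Surjective h := by
    have hcl : IsClosed (Set.range h) := h.isClosedMap.isClosed_range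
    have hmem : genericPoint S' ∈ Set.range h := by
      refine ⟨(j ≫ fK).toNormalization (IsLocalRing.closedPoint _), ?_⟩
      rw [← Scheme.Hom.comp_apply, hh2]
      exact Scheme.fromSpecStalk_closedPoint
    have h1 : closure {genericPoint S'} ⊆ Set.range h :=
      hcl.closure_subset_iff.mpr (Set.singleton_subset_iff.mpr hmem)
    rw [(genericPoint_spec S').def] at h1
    exact fun y => h1 (Set.mem_univ y)
  have hT' : UniversallyInjective (h ≫ p) := by rw [hh1]; exact hT
  obtain ⟨hinj, hres⟩ := ((tfae_universallyInjective (h ≫ p)).out 0 2).mp hT'
  refine ((tfae_universallyInjective p).out 0 2).mpr ?_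
  refine ⟨?_, ?_⟩
  · intro s₁ s₂ hs
    obtain ⟨t₁, rfl⟩ := hsurj s₁
    obtain ⟨t₂, rfl⟩ := hsurj s₂
    have : t₁ = t₂ := hinj hs
    rw [this]
  · intro s
    obtain ⟨t, rfl⟩ := hsurj s
    have h1 := hres t
    rw [Scheme.residueFieldMap_comp] at h1
    exact isPurelyInseparable_of_comp (g := (h.residueFieldMap t).hom) h1

end Groth.Agent.Lib.helper9.SteinGen
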