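/-
Helper library (helper9): Stein factorization without Noetherian hypotheses, part 7.

`geometricallyConnected_of_geomUnibranch`: a proper dominant morphism `f : X ⟶ S` of integral
schemes, with `S` geometrically unibranch and geometrically connected generic fibre, has
geometrically connected fibres; moreover the finite part `S' ⟶ S` of its Stein factorization is
universally injective (`universallyInjective_fromNormalization_of_geomUnibranch`).
-/
import Mathlib
import Groth.Agent.Lib.Helper9.SteinGen3
import Groth.Agent.Lib.Helper9.SteinGen5
import Groth.Agent.Lib.Helper9.SteinGen6
import Groth.Agent.Lib.Helper8.SteinRad1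

set_option autoImplicit false
set_option linter.style.haveILetI false
set_option backward.isDefEq.respectTransparency false

universe u

open CategoryTheory CategoryTheory.Limits AlgebraicGeometry Opposite

namespace Groth.Agent.Lib.helper9.SteinGen

lemma apply_genericPoint_of_denseRange {X Y : Scheme.{u}} [IrreducibleSpace X] [IrreducibleSpace Y]
    (f : X ⟶ Y) (hf : DenseRange f) : f (genericPoint X) = genericPoint Y := by
  have h1 : IsGenericPoint (f (genericPoint X)) (closure (f '' Set.univ)) :=
    (genericPoint_spec X).image f.continuous
  rw [Set.image_univ, hf.closure_range] at h1
  exact h1.eq (genericPoint_spec Y)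

theorem universallyInjective_fromNormalization_of_geomUnibranch {X S : Scheme.{u}} (f : X ⟶ S)
    [IsProper f] [IsDominant f] [IsIntegral X] [IsIntegral S]
    (hS : ∀ s : S, CAlg2.IsGeomUnibranch (S.presheaf.stalk s))
    (hη : GeometricallyConnected (f.fiberToSpecResidueField (genericPoint S))) :
    UniversallyInjective f.fromNormalization := by
  have hgen : f (genericPoint X) = genericPoint S :=
    apply_genericPoint_of_denseRange f f.denseRange
  have hgen' : f.toNormalization (genericPoint X) = genericPoint f.normalization :=
    apply_genericPoint_of_denseRange f.toNormalization f.toNormalization.denseRange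
  have hgen'' : f.fromNormalization (genericPoint f.normalization) = genericPoint S := by
    rw [← hgen', ← Scheme.Hom.comp_apply, f.toNormalization_fromNormalization, hgen]
  haveI : IsProper (f.toNormalization ≫ f.fromNormalization) := by
    rw [f.toNormalization_fromNormalization]
    infer_instance
  have hx : GeometricallyConnected ((f.toNormalization ≫ f.fromNormalization).fiberToSpecResidueField
      ((f.toNormalization ≫ f.fromNormalization) (genericPoint X))) := by
    rw [f.toNormalization_fromNormalization, hgen]
    exact hη
  have hpi := isPurelyInseparable_residueFieldMap_of_geometricallyConnected f.toNormalization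
    f.fromNormalization (genericPoint X) hx
  rw [hgen'] at hpi
  exact universallyInjective_of_isPurelyInseparable_genericPoint f.fromNormalization hS hgen'' hpi

theorem geometricallyConnected_of_geomUnibranch {X S : Scheme.{u}} (f : X ⟶ S)
    [IsProper f] [IsDominant f] [IsIntegral X] [IsIntegral S]
    (hS : ∀ s : S, CAlg2.IsGeomUnibranch (S.presheaf.stalk s))
    (hη : GeometricallyConnected (f.fiberToSpecResidueField (genericPoint S))) :
    GeometricallyConnected f := by
  haveI := universallyInjective_fromNormalization_of_geomUnibranch f hS hη
  haveI := geometricallyConnected_toNormalization f
  haveI : Surjective f.fromNormalization :=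
    Groth.Agent.Lib.helper9.PINormUH.surjective_fromNormalization_of_genericPoint_mem f
      (genericPoint X) (apply_genericPoint_of_denseRange f f.denseRange)
  have := Groth.Agent.Lib.helper8.SteinRad.geometricallyConnected_comp_of_universallyInjective
    f.toNormalization f.fromNormalization
  rwa [f.toNormalization_fromNormalization] at this

end Groth.Agent.Lib.helper9.SteinGen
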