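/-
Helper library (helper9): finite stratifications from finite families of closed sets.
-/
import Mathlib.Topology.Constructible
import Mathlib.Topology.LocallyClosed
import Mathlib.Order.Interval.Set.Basic

set_option autoImplicit false
set_option linter.style.haveILetI false

namespace Groth.Agent.Lib.helper9

open Topology TopologicalSpace Set

universe u

variable {X : Type u} [TopologicalSpace X]

/-- The stratification of a space by the atoms of a finite family of closed subsets. -/
theorem exists_stratification_of_closed_family {L : Type} [Fintype L]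
    (C : L → Set X) (hC : ∀ l, IsClosed (C l)) :
    ∃ (I : Type) (_ : Fintype I) (_ : PartialOrder I) (S : I → Set X),
      (∀ i, IsLocallyClosed (S i)) ∧ (⋃ i, S i = Set.univ) ∧
      (∀ i j, i ≠ j → Disjoint (S i) (S j)) ∧
      (∀ j, closure (S j) ⊆ ⋃ i ∈ Set.Iic j, S i) ∧
      (∀ i, ∀ x ∈ S i, ∀ y ∈ S i, ∀ l, x ∈ C l ↔ y ∈ C l) ∧
      ((∀ l, IsRetrocompact (C l)ᶜ) → ∀ i, Topology.IsConstructible (S i)) := by
  classical
  set sig : X → Finset L := fun x => Finset.univ.filter (fun l => x ∈ C l) with hsig
  have hmem : ∀ x l, l ∈ sig x ↔ x ∈ C l := fun x l => by simp [hsig]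
  have hS : ∀ σ : Finset L, {x | sig x = σ} = (⋂ l ∈ σ, C l) ∩ (⋂ l ∈ σᶜ, (C l)ᶜ) := by
    intro σ
    ext x
    simp only [Set.mem_ofPred_eq, Set.mem_inter_iff, Set.mem_iInter, Finset.mem_compl,
      Set.mem_compl_iff]
    constructor
    · rintro rfl
      exact ⟨fun l hl => (hmem x l).mp hl, fun l hl h => hl ((hmem x l).mpr h)⟩
    · rintro ⟨h1, h2⟩
      ext l
      rw [hmem]
      exact ⟨fun h => by_contra fun hl => h2 l hl h, fun h => h1 l h⟩
  refine ⟨(Finset L)ᵒᵈ, inferInstance, inferInstance,
    fun i => {x | sig x = OrderDual.ofDual i}, ?_, ?_, ?_, ?_, ?_, ?_⟩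
  · intro i
    show IsLocallyClosed {x | sig x = OrderDual.ofDual i}
    rw [hS]
    refine IsLocallyClosed.inter ?_ ?_
    · exact (isClosed_biInter fun l _ => hC l).isLocallyClosed
    · exact (isOpen_biInter_finset fun l _ => (hC l).isOpen_compl).isLocallyClosed
  · rw [Set.eq_univ_iff_forall]
    intro x
    exact Set.mem_iUnion.mpr ⟨OrderDual.toDual (sig x), rfl⟩
  · intro i j hij
    rw [Set.disjoint_left]
    intro x hx hx'
    simp only [Set.mem_ofPred_eq] at hx hx'
    exact hij (OrderDual.ofDual.injective (hx.symm.trans hx'))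
  · intro j
    have h1 : closure {x | sig x = OrderDual.ofDual j} ⊆ ⋂ l ∈ OrderDual.ofDual j, C l := by
      refine closure_minimal ?_ (isClosed_biInter fun l _ => hC l)
      intro x hx
      simp only [Set.mem_ofPred_eq] at hx
      simp only [Set.mem_iInter]
      intro l hl
      rw [← hx] at hl
      exact (hmem x l).mp hl
    intro y hy
    have hy' := h1 hy
    simp only [Set.mem_iInter] at hy'
    refine Set.mem_iUnion₂.mpr ⟨OrderDual.toDual (sig y), ?_, rfl⟩
    rw [Set.mem_Iic]
    intro l hl
    exact (hmem y l).mpr (hy' l hl)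
  · intro i x hx y hy l
    simp only [Set.mem_ofPred_eq] at hx hy
    rw [← hmem x l, ← hmem y l, hx, hy]
  · intro hr i
    show Topology.IsConstructible {x | sig x = OrderDual.ofDual i}
    rw [hS]
    refine Topology.IsConstructible.inter ?_ ?_
    · refine Topology.IsConstructible.biInter (Finset.finite_toSet _) fun l _ => ?_
      exact ((hr l).isConstructible (hC l).isOpen_compl).of_compl
    · refine Topology.IsConstructible.biInter (Finset.finite_toSet _) fun l _ => ?_
      exact (hr l).isConstructible (hC l).isOpen_compl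

/-- A constructible set is a union of atoms of a finite family of closed sets with retrocompact
open complements. -/
theorem exists_finset_closed_of_isConstructible {T : Set X} (hT : Topology.IsConstructible T) :
    ∃ 𝒞 : Finset (Set X), (∀ C ∈ 𝒞, IsClosed C ∧ IsRetrocompact Cᶜ) ∧
      ∀ x y, (∀ C ∈ 𝒞, x ∈ C ↔ y ∈ C) → (x ∈ T → y ∈ T) := by
  classical
  induction hT using Topology.IsConstructible.empty_union_induction with
  | open_retrocompact U hUo hUr =>
    refine ⟨{Uᶜ}, ?_, ?_⟩
    · intro C hC
      rw [Finset.mem_singleton] at hC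
      subst hC
      exact ⟨hUo.isClosed_compl, by rwa [compl_compl]⟩
    · intro x y h hx
      have := h Uᶜ (Finset.mem_singleton_self _)
      by_contra hy
      exact (this.mpr hy) hx
  | union s hs t ht ihs iht =>
    obtain ⟨𝒞₁, h1, h1'⟩ := ihs
    obtain ⟨𝒞₂, h2, h2'⟩ := iht
    refine ⟨𝒞₁ ∪ 𝒞₂, ?_, ?_⟩
    · intro C hC
      rcases Finset.mem_union.mp hC with h | h
      · exact h1 C h
      · exact h2 C h
    · intro x y h hx
      rcases hx with hx | hx
      · exact Or.inl (h1' x y (fun C hC => h C (Finset.mem_union_left _ hC)) hx)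
      · exact Or.inr (h2' x y (fun C hC => h C (Finset.mem_union_right _ hC)) hx)
  | compl s hs ih =>
    obtain ⟨𝒞, h1, h1'⟩ := ih
    refine ⟨𝒞, h1, ?_⟩
    intro x y h hx hy
    exact hx (h1' y x (fun C hC => (h C hC).symm) hy)

end Groth.Agent.Lib.helper9
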