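/-
Helper library (helper9): a subobject `Z₁ ×_{S₀} T` of `T` factors through `Z₂ ×_{S₀} T` iff the
base change to `T` of the projection `Z₁ ×_{S₀} Z₂ ⟶ Z₁` is an isomorphism.
-/
import Groth.Agent.Lib.Helper9.StageSquares

set_option autoImplicit false

namespace Groth.Agent.Lib.helper9

open CategoryTheory Limits

variable {C : Type*} [Category C] [HasPullbacks C]

theorem exists_fac_iff_isIso_stageMap {S₀ Z₁ Z₂ T : C} (ι₁ : Z₁ ⟶ S₀) (ι₂ : Z₂ ⟶ S₀) [Mono ι₂]
    (π : T ⟶ S₀) :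
    (∃ k : pullback ι₁ π ⟶ pullback ι₂ π, k ≫ pullback.snd ι₂ π = pullback.snd ι₁ π) ↔
      IsIso (stageMap π (pullback.fst ι₁ ι₂) ι₁) := by
  constructor
  · rintro ⟨k, hk⟩
    -- the symmetry `T ×_{S₀} Z₁ ⟶ Z₁ ×_{S₀} T`
    let σ : pullback π ι₁ ⟶ pullback ι₁ π :=
      pullback.lift (pullback.snd π ι₁) (pullback.fst π ι₁) pullback.condition.symm
    have hσ1 : σ ≫ pullback.fst ι₁ π = pullback.snd π ι₁ := pullback.lift_fst _ _ _
    have hσ2 : σ ≫ pullback.snd ι₁ π = pullback.fst π ι₁ := pullback.lift_snd _ _ _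
    have hwcond : pullback.snd π ι₁ ≫ ι₁ = (σ ≫ k ≫ pullback.fst ι₂ π) ≫ ι₂ := by
      rw [Category.assoc, Category.assoc, pullback.condition, reassoc_of% hk, reassoc_of% hσ2,
        pullback.condition]
    let w : pullback π ι₁ ⟶ pullback ι₁ ι₂ :=
      pullback.lift (pullback.snd π ι₁) (σ ≫ k ≫ pullback.fst ι₂ π) hwcond
    have hw1 : w ≫ pullback.fst ι₁ ι₂ = pullback.snd π ι₁ := pullback.lift_fst _ _ _
    have hw2 : w ≫ pullback.snd ι₁ ι₂ = σ ≫ k ≫ pullback.fst ι₂ π := pullback.lift_snd _ _ _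
    have hbcond : pullback.fst π ι₁ ≫ π = w ≫ pullback.fst ι₁ ι₂ ≫ ι₁ := by
      rw [reassoc_of% hw1, pullback.condition]
    let b : pullback π ι₁ ⟶ pullback π (pullback.fst ι₁ ι₂ ≫ ι₁) :=
      pullback.lift (pullback.fst π ι₁) w hbcond
    have hb1 : b ≫ pullback.fst π (pullback.fst ι₁ ι₂ ≫ ι₁) = pullback.fst π ι₁ :=
      pullback.lift_fst _ _ _
    have hb2 : b ≫ pullback.snd π (pullback.fst ι₁ ι₂ ≫ ι₁) = w := pullback.lift_snd _ _ _
    refine ⟨b, ?_, ?_⟩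
    · apply pullback.hom_ext
      · rw [Category.assoc, hb1, stageMap_fst, Category.id_comp]
      · rw [Category.assoc, hb2, Category.id_comp]
        apply pullback.hom_ext
        · rw [Category.assoc, hw1, stageMap_snd]
        · have e1 : pullback.fst ι₂ π ≫ ι₂ = pullback.snd ι₂ π ≫ π := pullback.condition
          have e2 : pullback.snd ι₁ ι₂ ≫ ι₂ = pullback.fst ι₁ ι₂ ≫ ι₁ := pullback.condition.symm
          have e3 : pullback.fst π (pullback.fst ι₁ ι₂ ≫ ι₁) ≫ π =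
              pullback.snd π (pullback.fst ι₁ ι₂ ≫ ι₁) ≫ pullback.fst ι₁ ι₂ ≫ ι₁ :=
            pullback.condition
          rw [← cancel_mono ι₂]
          simp only [Category.assoc]
          rw [reassoc_of% hw2, e1, reassoc_of% hk, reassoc_of% hσ2, stageMap_fst_assoc, e2, e3]
    · apply pullback.hom_ext
      · rw [Category.assoc, stageMap_fst, hb1, Category.id_comp]
      · rw [Category.assoc, stageMap_snd, reassoc_of% hb2, hw1, Category.id_comp]
  · intro h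
    let a := inv (stageMap π (pullback.fst ι₁ ι₂) ι₁)
    have ha : a ≫ pullback.fst π (pullback.fst ι₁ ι₂ ≫ ι₁) = pullback.fst π ι₁ := by
      rw [← stageMap_fst π (pullback.fst ι₁ ι₂) ι₁, IsIso.inv_hom_id_assoc]
    let σ' : pullback ι₁ π ⟶ pullback π ι₁ :=
      pullback.lift (pullback.snd ι₁ π) (pullback.fst ι₁ π) pullback.condition.symm
    have hσ' : σ' ≫ pullback.fst π ι₁ = pullback.snd ι₁ π := pullback.lift_fst _ _ _
    have hcond : (pullback.snd π (pullback.fst ι₁ ι₂ ≫ ι₁) ≫ pullback.snd ι₁ ι₂) ≫ ι₂ =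
        pullback.fst π (pullback.fst ι₁ ι₂ ≫ ι₁) ≫ π := by
      rw [Category.assoc, ← pullback.condition (f := ι₁) (g := ι₂), pullback.condition (f := π)]
    let t : pullback π (pullback.fst ι₁ ι₂ ≫ ι₁) ⟶ pullback ι₂ π :=
      pullback.lift (pullback.snd π (pullback.fst ι₁ ι₂ ≫ ι₁) ≫ pullback.snd ι₁ ι₂)
        (pullback.fst π (pullback.fst ι₁ ι₂ ≫ ι₁)) hcond
    have ht : t ≫ pullback.snd ι₂ π = pullback.fst π (pullback.fst ι₁ ι₂ ≫ ι₁) :=
      pullback.lift_snd _ _ _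
    refine ⟨σ' ≫ a ≫ t, ?_⟩
    rw [Category.assoc, Category.assoc, ht, ha, hσ']

end Groth.Agent.Lib.helper9
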