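import Mathlib
import Groth.Agent.Lib.Helper9.UHomEt1
import Groth.Agent.Lib.Helper12.HenselPair
import Groth.Agent.S0532

/-!
# helper9: finiteness of étale lifts along thickenings
-/

set_option autoImplicit false
set_option linter.style.haveILetI false
set_option backward.isDefEq.respectTransparency false

universe u

open AlgebraicGeometry CategoryTheory Limits MorphismProperty TensorProduct

namespace Groth.Agent.Lib.helper9.ThickLift

open Groth.Agent.Lib.helper9.UHomEt

/-- A nil ideal defines a Henselian pair. -/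
theorem henselianRing_of_le_nilradical {R : Type*} [CommRing R] (I : Ideal R)
    (hI : I ≤ nilradical R) : HenselianRing R I := by
  have h0 : HenselianRing R ⊥ :=
    ⟨bot_le, fun f _ a₀ h₁ _ => ⟨a₀, by simpa using h₁, by simp⟩⟩
  exact Groth.Agent.Lib.helper12.henselianRing_of_le
    (Groth.Agent.Lib.helper12.henselianRing_radical h0) hI

/-- Finite étale algebras lift along surjective ring maps with nil kernel, in pushout form. -/
theorem exists_pushout_lift_finite {A Ab C : CommRingCat.{u}} (φ : A ⟶ Ab)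
    (hφ : Function.Surjective φ.hom) (hnil : RingHom.ker φ.hom ≤ nilradical A)
    (χ : Ab ⟶ C) (hχ : χ.hom.Etale) (hχf : χ.hom.Finite) :
    ∃ (B : CommRingCat.{u}) (β : A ⟶ B) (π : B ⟶ C), β.hom.Etale ∧ β.hom.Finite ∧
      IsPushout φ β χ π := by
  let I : Ideal A := RingHom.ker φ.hom
  haveI : HenselianRing A I := henselianRing_of_le_nilradical I hnil
  let eb : (A ⧸ I) ≃+* Ab := RingHom.quotientKerEquivOfSurjective hφ
  letI : Algebra (A ⧸ I) C := (χ.hom.comp eb.toRingHom).toAlgebra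
  have het : Algebra.Etale (A ⧸ I) C := by
    rw [← RingHom.etale_algebraMap]
    exact RingHom.Etale.stableUnderComposition _ _ (RingHom.Etale.of_bijective eb.bijective) hχ
  have hfin : Module.Finite (A ⧸ I) C := by
    rw [← RingHom.finite_algebraMap]
    exact RingHom.Finite.comp hχf (RingHom.Finite.of_surjective _ eb.surjective)
  obtain ⟨B, _, _, hBf, hB, ⟨ε⟩⟩ := Groth.Agent.S0532.result A I C
  refine ⟨CommRingCat.of B, CommRingCat.ofHom (algebraMap A B),
    CommRingCat.ofHom ((ε : (A ⧸ I) ⊗[A] B →+* C).comp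
      (Algebra.TensorProduct.includeRight : B →ₐ[A] (A ⧸ I) ⊗[A] B).toRingHom), ?_, ?_, ?_⟩
  · exact RingHom.etale_algebraMap.mpr hB
  · exact RingHom.finite_algebraMap.mpr hBf
  · refine (CommRingCat.isPushout_tensorProduct A (A ⧸ I) B).of_iso (Iso.refl _)
      eb.toCommRingCatIso (Iso.refl _) ε.toRingEquiv.toCommRingCatIso ?_ ?_ ?_ ?_
    · ext a
      simp [eb, RingHom.quotientKerEquivOfSurjective, I]
    · simp
    · ext k
      show ε (k ⊗ₜ[A] (1 : B)) = χ.hom (eb k)
      have := ε.commutes k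
      rw [Algebra.TensorProduct.algebraMap_apply] at this
      exact this
    · ext b
      rfl

/-- The kernel of a surjective closed immersion into an affine scheme is nil. -/
theorem ker_appTop_le_nilradical {Z Z' : Scheme.{u}} (i : Z ⟶ Z') [Surjective i]
    [CompactSpace Z'] :
    RingHom.ker i.appTop.hom ≤ nilradical Γ(Z', ⊤) := by
  intro a ha
  rw [mem_nilradical, Scheme.isNilpotent_iff_basicOpen_eq_bot]
  have h1 : i ⁻¹ᵁ Z'.basicOpen a = ⊥ := by
    rw [Scheme.preimage_basicOpen_top, (RingHom.mem_ker.mp ha)]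
    exact Scheme.basicOpen_zero _ _
  ext z
  simp only [TopologicalSpace.Opens.coe_bot, Set.mem_empty_iff_false, iff_false]
  intro hz
  obtain ⟨y, rfl⟩ := i.surjective z
  have : y ∈ i ⁻¹ᵁ Z'.basicOpen a := hz
  rw [h1] at this
  exact this

/-- Finite étale schemes lift along thickenings of affine schemes. -/
theorem exists_affine_lift_finite {Z Z' T : Scheme.{u}} (i : Z ⟶ Z') [IsClosedImmersion i]
    [Surjective i] [IsAffine Z'] (t : T ⟶ Z) [Etale t] [IsFinite t] :
    ∃ (T' : Scheme.{u}) (t' : T' ⟶ Z') (_ : Etale t') (_ : IsFinite t') (p : T ⟶ T'),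
      IsPullback p t t' i := by
  obtain ⟨hZ, hφ⟩ := IsClosedImmersion.isAffine_surjective_of_isAffine i
  have hT : IsAffine T := isAffine_of_isAffineHom t
  have hχ : t.appTop.hom.Etale := (HasRingHomProperty.iff_of_isAffine (P := @Etale)).mp ‹_›
  have hχf : t.appTop.hom.Finite :=
    ((HasAffineProperty.iff_of_isAffine (P := @IsFinite)).mp ‹_›).2
  obtain ⟨B, β, π, hβ, hβf, hpo⟩ :=
    exists_pushout_lift_finite i.appTop hφ (ker_appTop_le_nilradical i) t.appTop hχ hχf
  have hpb := (isPullback_SpecMap_of_isPushout _ _ _ _ hpo).flip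
  have hβ' : Etale (Spec.map β) := (HasRingHomProperty.Spec_iff (P := @Etale)).mpr hβ
  have hβf' : IsFinite (Spec.map β) := (IsFinite.SpecMap_iff β).mpr hβf
  refine ⟨Spec B, Spec.map β ≫ Z'.isoSpec.inv, inferInstance, inferInstance,
    T.isoSpec.hom ≫ Spec.map π, ?_⟩
  refine hpb.of_iso T.isoSpec.symm (Iso.refl _) Z.isoSpec.symm Z'.isoSpec.symm ?_ ?_ ?_ ?_
  · simp
  · simp only [Iso.symm_hom]
    exact Scheme.isoSpec_inv_naturality t
  · simp
  · simp only [Iso.symm_hom]
    exact Scheme.isoSpec_inv_naturality i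

/-- Étale lifts along a universal homeomorphism are unique up to isomorphism. -/
theorem exists_iso_of_isPullback {Z Z' T U' T' : Scheme.{u}} (i : Z ⟶ Z') [IsIntegralHom i]
    [UniversallyInjective i] [Surjective i] (t : T ⟶ Z) (u' : U' ⟶ Z') [Etale u']
    (t' : T' ⟶ Z') [Etale t'] (p₁ : T ⟶ U') (p₂ : T ⟶ T')
    (h₁ : IsPullback p₁ t u' i) (h₂ : IsPullback p₂ t t' i) :
    ∃ e : U' ≅ T', e.hom ≫ t' = u' := by
  have hI₁ : IsIntegralHom p₁ := MorphismProperty.of_isPullback (P := @IsIntegralHom) h₁.flip ‹_›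
  have hU₁ : UniversallyInjective p₁ :=
    MorphismProperty.of_isPullback (P := @UniversallyInjective.{u}) h₁.flip ‹_›
  have hS₁ : Surjective p₁ := MorphismProperty.of_isPullback (P := @Surjective.{u}) h₁.flip ‹_›
  have hI₂ : IsIntegralHom p₂ := MorphismProperty.of_isPullback (P := @IsIntegralHom) h₂.flip ‹_›
  have hU₂ : UniversallyInjective p₂ :=
    MorphismProperty.of_isPullback (P := @UniversallyInjective.{u}) h₂.flip ‹_›
  have hS₂ : Surjective p₂ := MorphismProperty.of_isPullback (P := @Surjective.{u}) h₂.flip ‹_›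
  obtain ⟨φ, ⟨hφ1, hφ2⟩, -⟩ := existsUnique_descent t' u' p₁ p₂ (by rw [h₂.w, h₁.w])
  obtain ⟨φ', ⟨hφ'1, hφ'2⟩, -⟩ := existsUnique_descent u' t' p₂ p₁ (by rw [h₂.w, h₁.w])
  refine ⟨⟨φ, φ', ?_, ?_⟩, hφ1⟩
  · refine eq_of_comp_surjective u' u' (φ ≫ φ') (𝟙 _) ?_ (Category.id_comp _) p₁ ?_
    · rw [Category.assoc, hφ'1, hφ1]
    · rw [reassoc_of% hφ2, hφ'2, Category.comp_id]
  · refine eq_of_comp_surjective t' t' (φ' ≫ φ) (𝟙 _) ?_ (Category.id_comp _) p₂ ?_
    · rw [Category.assoc, hφ1, hφ'1]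
    · rw [reassoc_of% hφ'2, hφ2, Category.comp_id]

end Groth.Agent.Lib.helper9.ThickLift
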