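import Mathlib
import Groth.Agent.Lib.Helper9.ThickLift7

/-!
# helper9: an étale scheme over `X'` whose restriction to a thickening `X` is finite is finite
-/

set_option autoImplicit false
set_option linter.style.haveILetI false
set_option backward.isDefEq.respectTransparency false

universe u

open AlgebraicGeometry CategoryTheory Limits MorphismProperty

namespace Groth.Agent.Lib.helper9.ThickLift

/-- Restricting to an open of the base commutes with restricting to the thickening. -/
theorem isPullback_snd_snd {X X' U' V' : Scheme.{u}} (i : X ⟶ X') (u' : U' ⟶ X') (g : V' ⟶ X') :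
    ∃ v : pullback (pullback.snd u' g) (pullback.snd i g) ⟶ pullback u' i,
      IsPullback (pullback.snd (pullback.snd u' g) (pullback.snd i g)) v
        (pullback.fst i g) (pullback.snd u' i) := by
  have sq1 : IsPullback (pullback.snd (pullback.snd u' g) (pullback.snd i g))
      (pullback.fst (pullback.snd u' g) (pullback.snd i g)) (pullback.snd i g)
      (pullback.snd u' g) := (IsPullback.of_hasPullback _ _).flip
  have sq2 : IsPullback (pullback.snd u' g) (pullback.fst u' g) g u' :=
    (IsPullback.of_hasPullback u' g).flip
  have sq3 := sq1.paste_vert sq2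
  have sq4 : IsPullback (pullback.snd u' i) (pullback.fst u' i) i u' :=
    (IsPullback.of_hasPullback u' i).flip
  have hcond : (pullback.fst (pullback.snd u' g) (pullback.snd i g) ≫ pullback.fst u' g) ≫ u' =
      (pullback.snd (pullback.snd u' g) (pullback.snd i g) ≫ pullback.fst i g) ≫ i := by
    rw [Category.assoc, Category.assoc, pullback.condition, pullback.condition,
      pullback.condition_assoc]
  refine ⟨pullback.lift _ _ hcond, ?_⟩
  refine IsPullback.of_bot ?_ (pullback.lift_snd _ _ _).symm sq4
  rw [pullback.lift_fst, pullback.condition]
  exact sq3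

theorem isFinite_of_thickening {X X' U' : Scheme.{u}} (i : X ⟶ X') [IsClosedImmersion i]
    [Surjective i] (u' : U' ⟶ X') [Etale u'] [IsFinite (pullback.snd u' i)] : IsFinite u' := by
  rw [IsZariskiLocalAtTarget.iff_of_openCover (P := @IsFinite) X'.affineCover]
  intro k
  show IsFinite (pullback.snd u' (X'.affineCover.f k))
  obtain ⟨v, hv⟩ := isPullback_snd_snd i u' (X'.affineCover.f k)
  have hfin : IsFinite (pullback.snd (pullback.snd u' (X'.affineCover.f k))
      (pullback.snd i (X'.affineCover.f k))) :=
    MorphismProperty.of_isPullback (P := @IsFinite) hv.flip ‹_›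
  obtain ⟨T', t', ht', htf', p, hpb⟩ := exists_affine_lift_finite
    (pullback.snd i (X'.affineCover.f k))
    (pullback.snd (pullback.snd u' (X'.affineCover.f k)) (pullback.snd i (X'.affineCover.f k)))
  obtain ⟨e, he⟩ := exists_iso_of_isPullback (pullback.snd i (X'.affineCover.f k))
    (pullback.snd (pullback.snd u' (X'.affineCover.f k)) (pullback.snd i (X'.affineCover.f k)))
    (pullback.snd u' (X'.affineCover.f k)) t'
    (pullback.fst (pullback.snd u' (X'.affineCover.f k)) (pullback.snd i (X'.affineCover.f k))) p
    (IsPullback.of_hasPullback _ _) hpb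
  rw [← he]
  infer_instance

end Groth.Agent.Lib.helper9.ThickLift
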