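import Mathlib
import Groth.Agent.Lib.Helper9.TotFrac1

/-!
# Total rings of fractions of flat quasi-finite algebras, II (helper9)

`A` is a reduced ring with finitely many minimal primes, `K = FractionRing A`.

* `isLocalization_fractionRing_of_finite_tensor`: if `K ⊗ D` is finite over `K` and nonzerodivisors
  of `A` are nonzerodivisors of `D`, then `FractionRing D` is the localization of `D` at the image
  of the nonzerodivisors of `A`, and is finite over `K`.
* `isLocalization_fractionRing_of_injective`: this applies to any `A`-algebra `D` with an injective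
  `A`-algebra map to a flat quasi-finite `A`-algebra `E`.
* `exists_algEquiv_fractionRing`: `K ⊗ E ≃ FractionRing E`.
* `exists_mul_eq_one_of_isUnit`: an `A`-subalgebra of `FractionRing E` containing the inverses of
  the nonzerodivisors of `A` is closed under inverses.
* `exists_mem_adjoin_mul_eq_zero`: a zero divisor `w` of `E` is killed by a nonzero element of
  `A[w]`.
-/

set_option autoImplicit false
set_option linter.style.haveILetI false

universe u

namespace Groth.Agent.Lib.helper9.TotFrac

open scoped nonZeroDivisors TensorProduct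

/-- An element of a subalgebra of a finite algebra over an Artinian ring which is a unit in the
ambient algebra is a unit in the subalgebra. -/
theorem isUnit_subalgebra_of_isUnit {K T : Type u} [CommRing K] [IsArtinianRing K] [CommRing T]
    [Algebra K T] [Module.Finite K T] (B : Subalgebra K T) (b : B) (hb : IsUnit (b : T)) :
    IsUnit b := by
  haveI : IsNoetherian K T := inferInstance
  haveI : Module.Finite K B := Module.Finite.of_injective B.val.toLinearMap Subtype.val_injective
  haveI : IsArtinianRing B := IsArtinianRing.of_finite K B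
  apply IsArtinianRing.isUnit_of_mem_nonZeroDivisors
  rw [mem_nonZeroDivisors_iff_right]
  intro x hx
  have h1 : x.1 * b.1 = 0 := by
    have h0 := congrArg B.val hx
    rw [map_mul, map_zero] at h0
    exact h0
  have h2 : x.1 = 0 := (hb.mul_left_eq_zero).1 h1
  have h3 : B.val x = B.val 0 := by rw [map_zero]; exact h2
  exact Subtype.val_injective h3

/-- A non-unit of a subalgebra of a finite algebra over an Artinian ring is a zero divisor of the
subalgebra. -/
theorem exists_mul_eq_zero_of_not_isUnit {K T : Type u} [CommRing K] [IsArtinianRing K]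
    [CommRing T] [Algebra K T] [Module.Finite K T] (B : Subalgebra K T) (b : B)
    (hb : ¬ IsUnit b) : ∃ g : B, g ≠ 0 ∧ g * b = 0 := by
  haveI : IsNoetherian K T := inferInstance
  haveI : Module.Finite K B := Module.Finite.of_injective B.val.toLinearMap Subtype.val_injective
  haveI : IsArtinianRing B := IsArtinianRing.of_finite K B
  have h : b ∉ B⁰ := fun h => hb (IsArtinianRing.isUnit_of_mem_nonZeroDivisors h)
  rw [mem_nonZeroDivisors_iff_right] at h
  push Not at h
  obtain ⟨g, hg0, hgne⟩ := h
  exact ⟨g, hgne, hg0⟩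

section General

variable (A D : Type u) [CommRing A] [IsReduced A] (hmin : (minimalPrimes A).Finite)
  [CommRing D] [Algebra A D]

include hmin in
/-- If `K ⊗ D` is finite over `K = FractionRing A` and nonzerodivisors of `A` stay nonzerodivisors
in `D`, then `FractionRing D` is the localization of `D` at the nonzerodivisors of `A`, there is
an `A`-algebra isomorphism `K ⊗ D ≃ FractionRing D`, and `FractionRing D` is finite over `K`. -/
theorem exists_algEquiv_of_finite_tensor
    (hfin : Module.Finite (FractionRing A) (FractionRing A ⊗[A] D))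
    (hMle : Algebra.algebraMapSubmonoid D A⁰ ≤ D⁰) :
    IsLocalization ((nonZeroDivisors A).map (algebraMap A D)) (FractionRing D) ∧
      ∃ ψ : (FractionRing A ⊗[A] D) ≃ₐ[A] FractionRing D,
        ∀ x : D, ψ (1 ⊗ₜ x) = algebraMap D (FractionRing D) x := by
  classical
  let K := FractionRing A
  haveI : IsArtinianRing K := isArtinianRing_fractionRing A hmin
  haveI : IsArtinianRing (K ⊗[A] D) := IsArtinianRing.of_finite K _
  haveI : IsArtinianRing (D ⊗[A] K) :=
    (Algebra.TensorProduct.comm A K D).toRingEquiv.isArtinianRing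
  let M : Submonoid D := Algebra.algebraMapSubmonoid D A⁰
  haveI hlocM : IsLocalization M (D ⊗[A] K) := IsLocalization.tensor K A⁰
  haveI hlocE : IsLocalization D⁰ (D ⊗[A] K) := by
    refine IsLocalization.of_le M D⁰ hMle ?_
    intro r hr
    apply IsArtinianRing.isUnit_of_mem_nonZeroDivisors
    exact IsLocalization.map_nonZeroDivisors_le M (D ⊗[A] K) ⟨r, hr, rfl⟩
  let e : (D ⊗[A] K) ≃ₐ[D] FractionRing D := IsLocalization.algEquiv D⁰ _ _
  refine ⟨IsLocalization.isLocalization_of_algEquiv M e,
    (Algebra.TensorProduct.comm A K D).trans (e.restrictScalars A), ?_⟩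
  intro x
  show e ((Algebra.TensorProduct.comm A K D) ((1 : K) ⊗ₜ[A] x)) = _
  rw [Algebra.TensorProduct.comm_tmul]
  have : x ⊗ₜ[A] (1 : K) = algebraMap D (D ⊗[A] K) x := by
    rw [Algebra.TensorProduct.algebraMap_apply]
    rfl
  rw [this, e.commutes]

include hmin in
/-- Under the hypotheses of `exists_algEquiv_of_finite_tensor`, `FractionRing D` is finite over
`FractionRing A`. -/
theorem isLocalization_fractionRing_of_finite_tensor
    (hfin : Module.Finite (FractionRing A) (FractionRing A ⊗[A] D))
    (hMle : Algebra.algebraMapSubmonoid D A⁰ ≤ D⁰) :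
    IsLocalization ((nonZeroDivisors A).map (algebraMap A D)) (FractionRing D) ∧
      ∃ t : Finset (FractionRing D), ∀ x : FractionRing D, ∃ a ∈ nonZeroDivisors A,
        algebraMap A (FractionRing D) a * x ∈ Submodule.span A (t : Set (FractionRing D)) := by
  classical
  obtain ⟨hloc, ψ', -⟩ := exists_algEquiv_of_finite_tensor A D hmin hfin hMle
  refine ⟨hloc, ?_⟩
  let K := FractionRing A
  obtain ⟨t₀, ht₀⟩ := (Module.finite_def.1 hfin)
  let ψ : (K ⊗[A] D) →ₗ[A] FractionRing D := ψ'.toLinearMap
  have hψsurj : Function.Surjective ψ := ψ'.surjective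
  have hψA : ∀ (a : A) (y : K ⊗[A] D), ψ (a • y) = algebraMap A (FractionRing D) a * ψ y := by
    intro a y
    rw [map_smul, Algebra.smul_def]
  refine ⟨t₀.image ψ, ?_⟩
  intro x
  obtain ⟨y, rfl⟩ := hψsurj x
  have hy : y ∈ Submodule.span K (t₀ : Set (K ⊗[A] D)) := ht₀ ▸ Submodule.mem_top
  obtain ⟨c, hc⟩ := (Submodule.mem_span_finset (R := K)).1 hy
  obtain ⟨b, hb⟩ := IsLocalization.exist_integer_multiples_of_finset A⁰ (t₀.image c)
  refine ⟨b.1, b.2, ?_⟩
  rw [← hψA]
  have h3 : (b.1 : A) • y ∈ Submodule.span A (t₀ : Set (K ⊗[A] D)) := by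
    rw [← hc.2, Finset.smul_sum]
    refine Submodule.sum_mem _ (fun i hi => ?_)
    obtain ⟨a', ha'⟩ := hb (c i) (Finset.mem_image_of_mem _ hi)
    have h4 : (b.1 : A) • (c i • i) = a' • i := by
      rw [← smul_assoc, ← ha', algebraMap_smul]
    rw [h4]
    exact Submodule.smul_mem _ _ (Submodule.subset_span hi)
  have h5 : ∀ z ∈ Submodule.span A (t₀ : Set (K ⊗[A] D)),
      ψ z ∈ Submodule.span A ((t₀.image ψ : Finset (FractionRing D)) : Set (FractionRing D)) := by
    intro z hz
    induction hz using Submodule.span_induction with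
    | mem z hz =>
      apply Submodule.subset_span
      rw [Finset.coe_image]
      exact ⟨z, hz, rfl⟩
    | zero => rw [map_zero]; exact Submodule.zero_mem _
    | add z w _ _ hz hw => rw [map_add]; exact Submodule.add_mem _ hz hw
    | smul a z _ hz =>
      rw [map_smul]
      exact Submodule.smul_mem _ _ hz
  exact h5 _ h3

end General

section Flat

variable (A E : Type u) [CommRing A] [IsReduced A] (hmin : (minimalPrimes A).Finite)
  [CommRing E] [Algebra A E] [Module.Flat A E] [Algebra.QuasiFinite A E]

omit [IsReduced A] [Algebra.QuasiFinite A E] in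
/-- Nonzerodivisors of `A` stay nonzerodivisors in a flat `A`-algebra. -/
theorem algebraMapSubmonoid_le_of_flat : Algebra.algebraMapSubmonoid E A⁰ ≤ E⁰ := by
  rintro _ ⟨a, ha, rfl⟩
  have h1 : IsSMulRegular E a := Module.Flat.isSMulRegular_of_nonZeroDivisors ha
  rw [mem_nonZeroDivisors_iff_right]
  intro x hx
  apply h1
  show a • x = a • 0
  rw [smul_zero, Algebra.smul_def, mul_comm]
  exact hx

omit [Module.Flat A E] in
include hmin in
theorem finite_tensor : Module.Finite (FractionRing A) (FractionRing A ⊗[A] E) := by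
  haveI : IsArtinianRing (FractionRing A) := isArtinianRing_fractionRing A hmin
  exact Module.Finite.of_quasiFinite

include hmin in
/-- `K ⊗ E ≃ FractionRing E` as `A`-algebras, compatibly with `E`. -/
theorem exists_algEquiv_fractionRing :
    ∃ ψ : (FractionRing A ⊗[A] E) ≃ₐ[A] FractionRing E,
      ∀ x : E, ψ (1 ⊗ₜ x) = algebraMap E (FractionRing E) x :=
  (exists_algEquiv_of_finite_tensor A E hmin (finite_tensor A E hmin)
    (algebraMapSubmonoid_le_of_flat A E)).2

omit [Module.Flat A E] in
include hmin in
/-- For an `A`-algebra `D` with an injective `A`-algebra map to a flat quasi-finite `A`-algebra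
`E`, `K ⊗ D` is finite over `K`. -/
theorem finite_tensor_of_injective (D : Type u) [CommRing D] [Algebra A D] (ι : D →ₐ[A] E)
    (hι : Function.Injective ι) : Module.Finite (FractionRing A) (FractionRing A ⊗[A] D) := by
  let K := FractionRing A
  haveI : IsArtinianRing K := isArtinianRing_fractionRing A hmin
  haveI : Module.Finite K (K ⊗[A] E) := finite_tensor A E hmin
  haveI : IsNoetherian K (K ⊗[A] E) := inferInstance
  let φ : (K ⊗[A] D) →ₗ[K] (K ⊗[A] E) :=
    (Algebra.TensorProduct.map (AlgHom.id K K) ι).toLinearMap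
  have hφ : Function.Injective φ := by
    have h1 : Function.Injective (ι.toLinearMap.lTensor K) :=
      Module.Flat.lTensor_preserves_injective_linearMap ι.toLinearMap hι
    intro x y hxy
    apply h1
    have h2 : ∀ z : K ⊗[A] D, ι.toLinearMap.lTensor K z = φ z := by
      intro z
      induction z using TensorProduct.induction_on with
      | zero => simp
      | tmul k d => rfl
      | add z w hz hw => rw [map_add, map_add, hz, hw]
    rw [h2, h2]
    exact hxy
  exact Module.Finite.of_injective φ hφ

omit [IsReduced A] [Module.Flat A E] [Algebra.QuasiFinite A E] in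
theorem algebraMapSubmonoid_le_of_injective (hE : Algebra.algebraMapSubmonoid E A⁰ ≤ E⁰)
    (D : Type u) [CommRing D] [Algebra A D] (ι : D →ₐ[A] E)
    (hι : Function.Injective ι) : Algebra.algebraMapSubmonoid D A⁰ ≤ D⁰ := by
  rintro _ ⟨a, ha, rfl⟩
  rw [mem_nonZeroDivisors_iff_right]
  intro x hx
  apply hι
  rw [map_zero]
  have h1 : algebraMap A E a ∈ E⁰ := hE ⟨a, ha, rfl⟩
  rw [mem_nonZeroDivisors_iff_right] at h1
  apply h1
  rw [← ι.commutes, ← map_mul, hx, map_zero]

include hmin in
/-- For an `A`-algebra `D` with an injective `A`-algebra map to a flat quasi-finite `A`-algebra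
`E`, the total ring of fractions of `D` is the localization of `D` at the nonzerodivisors of `A`
and is finite over `FractionRing A`. -/
theorem isLocalization_fractionRing_of_injective (D : Type u) [CommRing D] [Algebra A D]
    (ι : D →ₐ[A] E) (hι : Function.Injective ι) :
    IsLocalization ((nonZeroDivisors A).map (algebraMap A D)) (FractionRing D) ∧
      ∃ t : Finset (FractionRing D), ∀ x : FractionRing D, ∃ a ∈ nonZeroDivisors A,
        algebraMap A (FractionRing D) a * x ∈ Submodule.span A (t : Set (FractionRing D)) :=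
  isLocalization_fractionRing_of_finite_tensor A D hmin
    (finite_tensor_of_injective A E hmin D ι hι)
    (algebraMapSubmonoid_le_of_injective A E (algebraMapSubmonoid_le_of_flat A E) D ι hι)

include hmin in
/-- An `A`-subalgebra `L` of `FractionRing E` containing inverses of the nonzerodivisors of `A` is
closed under inverses (of elements invertible in `FractionRing E`). -/
theorem exists_mul_eq_one_of_isUnit (L : Subalgebra A (FractionRing E))
    (hL : ∀ s ∈ A⁰, ∃ y ∈ L, algebraMap A (FractionRing E) s * y = 1) (l : FractionRing E)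
    (hl : l ∈ L) (hu : IsUnit l) : ∃ l' ∈ L, l * l' = 1 := by
  classical
  let K := FractionRing A
  haveI : IsArtinianRing K := isArtinianRing_fractionRing A hmin
  haveI : Module.Finite K (K ⊗[A] E) := finite_tensor A E hmin
  haveI : IsNoetherian K (K ⊗[A] E) := inferInstance
  obtain ⟨ψ, -⟩ := exists_algEquiv_fractionRing A E hmin
  let m : K ⊗[A] E := ψ.symm l
  have hm : ψ m = l := ψ.apply_symm_apply l
  have hmu : IsUnit m := hu.map ψ.symm
  obtain ⟨B, hB⟩ : ∃ B : Subalgebra K (K ⊗[A] E), B = Algebra.adjoin K {m} := ⟨_, rfl⟩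
  have hmB : m ∈ B := hB ▸ Algebra.subset_adjoin rfl
  obtain ⟨n, hn⟩ := (isUnit_subalgebra_of_isUnit B ⟨m, hmB⟩ hmu).exists_right_inv
  have hn' : m * n.1 = 1 := by
    have h0 := congrArg B.val hn
    rw [map_mul, map_one] at h0
    exact h0
  -- every element of `B` maps into `L`
  have hBL : ∀ b ∈ B, ψ b ∈ L := by
    intro b hb
    rw [hB] at hb
    induction hb using Algebra.adjoin_induction with
    | mem x hx =>
      rw [Set.mem_singleton_iff] at hx
      rw [hx, hm]
      exact hl
    | algebraMap k =>
      obtain ⟨a, s, rfl⟩ := IsLocalization.exists_mk'_eq A⁰ k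
      obtain ⟨y, hyL, hy⟩ := hL s.1 s.2
      let z := ψ (algebraMap K (K ⊗[A] E) (IsLocalization.mk' K a s))
      have h1 : z * algebraMap A (FractionRing E) s.1 = algebraMap A (FractionRing E) a := by
        have h2 : algebraMap A (FractionRing E) s.1 = ψ (algebraMap A (K ⊗[A] E) s.1) :=
          (ψ.commutes s.1).symm
        rw [h2, ← map_mul, IsScalarTower.algebraMap_apply A K (K ⊗[A] E), ← map_mul,
          IsLocalization.mk'_spec, ← IsScalarTower.algebraMap_apply, ψ.commutes]
      have h3 : z = algebraMap A (FractionRing E) a * y := by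
        calc z = z * (algebraMap A (FractionRing E) s.1 * y) := by rw [hy, mul_one]
          _ = (z * algebraMap A (FractionRing E) s.1) * y := (mul_assoc _ _ _).symm
          _ = algebraMap A (FractionRing E) a * y := by rw [h1]
      show z ∈ L
      rw [h3]
      exact L.mul_mem (L.algebraMap_mem a) hyL
    | add x y _ _ hx hy => rw [map_add]; exact L.add_mem hx hy
    | mul x y _ _ hx hy => rw [map_mul]; exact L.mul_mem hx hy
  refine ⟨ψ n.1, hBL n.1 n.2, ?_⟩
  rw [← hm, ← map_mul, hn', map_one]

include hmin in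
/-- A zero divisor `w` of `E` is killed by a nonzero element of `A[w]`. -/
theorem exists_mem_adjoin_mul_eq_zero (w : E) (hw : w ∉ E⁰) :
    ∃ G ∈ Algebra.adjoin A {w}, G ≠ 0 ∧ G * w = 0 := by
  classical
  let K := FractionRing A
  haveI : IsArtinianRing K := isArtinianRing_fractionRing A hmin
  haveI : Module.Finite K (K ⊗[A] E) := finite_tensor A E hmin
  haveI : IsNoetherian K (K ⊗[A] E) := inferInstance
  obtain ⟨ψ, hψ⟩ := exists_algEquiv_fractionRing A E hmin
  have hinj : Function.Injective (algebraMap E (FractionRing E)) :=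
    IsFractionRing.injective E (FractionRing E)
  let m : K ⊗[A] E := (1 : K) ⊗ₜ[A] w
  obtain ⟨B, hB⟩ : ∃ B : Subalgebra K (K ⊗[A] E), B = Algebra.adjoin K {m} := ⟨_, rfl⟩
  have hmB : m ∈ B := hB ▸ Algebra.subset_adjoin rfl
  have hnu : ¬ IsUnit (⟨m, hmB⟩ : B) := by
    intro h1
    have h2 : IsUnit m := h1.map B.val
    have h3 : IsUnit (algebraMap E (FractionRing E) w) := by
      rw [← hψ w]
      exact h2.map ψ
    apply hw
    rw [mem_nonZeroDivisors_iff_right]
    intro x hx
    apply hinj
    rw [map_zero]
    apply (h3.mul_left_eq_zero).1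
    rw [← map_mul, hx, map_zero]
  obtain ⟨g, hgne, hg0⟩ := exists_mul_eq_zero_of_not_isUnit B ⟨m, hmB⟩ hnu
  have hg0' : g.1 * m = 0 := by
    have h0 := congrArg B.val hg0
    rw [map_mul, map_zero] at h0
    exact h0
  -- clearing denominators
  have hclear : ∀ b ∈ B, ∃ a ∈ A⁰, ∃ G ∈ Algebra.adjoin A {w},
      a • b = (1 : K) ⊗ₜ[A] G := by
    intro b hb
    rw [hB] at hb
    induction hb using Algebra.adjoin_induction with
    | mem x hx =>
      rw [Set.mem_singleton_iff] at hx
      exact ⟨1, one_mem _, w, Algebra.subset_adjoin rfl, by rw [one_smul, hx]⟩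
    | algebraMap k =>
      obtain ⟨c, s, rfl⟩ := IsLocalization.exists_mk'_eq A⁰ k
      refine ⟨s.1, s.2, algebraMap A E c, Subalgebra.algebraMap_mem _ c, ?_⟩
      rw [Algebra.TensorProduct.algebraMap_apply, TensorProduct.smul_tmul', Algebra.smul_def,
        Algebra.algebraMap_self, RingHom.id_apply, IsLocalization.mk'_spec',
        Algebra.algebraMap_eq_smul_one, TensorProduct.smul_tmul, ← Algebra.algebraMap_eq_smul_one]
    | add x y _ _ hx hy =>
      obtain ⟨a₁, ha₁, G₁, hG₁, h₁⟩ := hx
      obtain ⟨a₂, ha₂, G₂, hG₂, h₂⟩ := hy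
      refine ⟨a₁ * a₂, mul_mem ha₁ ha₂, a₂ • G₁ + a₁ • G₂,
        Subalgebra.add_mem _ (Subalgebra.smul_mem _ hG₁ _) (Subalgebra.smul_mem _ hG₂ _), ?_⟩
      rw [smul_add, TensorProduct.tmul_add, TensorProduct.tmul_smul, TensorProduct.tmul_smul,
        ← h₁, ← h₂, smul_smul, smul_smul, mul_comm a₂ a₁]
    | mul x y _ _ hx hy =>
      obtain ⟨a₁, ha₁, G₁, hG₁, h₁⟩ := hx
      obtain ⟨a₂, ha₂, G₂, hG₂, h₂⟩ := hy
      refine ⟨a₁ * a₂, mul_mem ha₁ ha₂, G₁ * G₂, Subalgebra.mul_mem _ hG₁ hG₂, ?_⟩
      rw [← smul_mul_smul_comm, h₁, h₂, Algebra.TensorProduct.tmul_mul_tmul, mul_one]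
  obtain ⟨a, ha, G, hG, haG⟩ := hclear g.1 g.2
  refine ⟨G, hG, ?_, ?_⟩
  · rintro rfl
    apply hgne
    rw [TensorProduct.tmul_zero] at haG
    have hau : IsUnit (algebraMap A K a) := IsLocalization.map_units K ⟨a, ha⟩
    have h4 : (algebraMap A K a) • g.1 = 0 := by rw [algebraMap_smul]; exact haG
    have h6 : g.1 = 0 := (hau.smul_eq_zero).1 h4
    have h7 : B.val g = B.val 0 := by rw [map_zero]; exact h6
    exact Subtype.val_injective h7
  · apply hinj
    rw [map_zero, ← hψ (G * w)]
    have h5 : (1 : K) ⊗ₜ[A] (G * w) = (a • g.1) * m := by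
      rw [haG, Algebra.TensorProduct.tmul_mul_tmul, mul_one]
    rw [h5, smul_mul_assoc, hg0', smul_zero, map_zero]

end Flat

end Groth.Agent.Lib.helper9.TotFrac
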