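import Mathlib

/-!
# helper9: universal finite opens, part 1 — coordinates for a base-changed finitely presented module

`f : (Fin N → A) →ₗ B` surjective with `Exact gK f`; for an `A`-algebra `A'` the map
`pm f A' : (Fin N → A') →ₗ[A'] A' ⊗[A] B`, `x ↦ ∑ x k • (1 ⊗ f (single k 1))` is surjective with
kernel spanned by the images of the relations.
-/

set_option autoImplicit false
set_option linter.style.haveILetI false

universe u

open TensorProduct

namespace Groth.Agent.Lib.helper9.UFO

variable {A : Type u} [CommRing A] {B : Type u} [CommRing B] [Algebra A B]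
variable {N r : ℕ} (f : (Fin N → A) →ₗ[A] B) (gK : (Fin r → A) →ₗ[A] (Fin N → A))

/-- The coordinate map of the base change. -/
noncomputable def pm (A' : Type u) [CommRing A'] [Algebra A A'] :
    (Fin N → A') →ₗ[A'] A' ⊗[A] B :=
  Fintype.linearCombination A' (fun k => (1 : A') ⊗ₜ[A] f (Pi.single k 1))

variable (A' : Type u) [CommRing A'] [Algebra A A']

theorem pm_apply (x : Fin N → A') :
    pm f A' x = ∑ k, x k • ((1 : A') ⊗ₜ[A] f (Pi.single k 1)) :=
  Fintype.linearCombination_apply _ _ _

theorem pm_apply' (x : Fin N → A') :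
    pm f A' x = ∑ k, x k ⊗ₜ[A] f (Pi.single k 1) := by
  rw [pm_apply]
  refine Finset.sum_congr rfl fun k _ => ?_
  rw [TensorProduct.smul_tmul', smul_eq_mul, mul_one]

theorem pm_single (k : Fin N) (a : A') :
    pm f A' (Pi.single k a) = a ⊗ₜ[A] f (Pi.single k 1) := by
  classical
  rw [pm_apply']
  rw [Finset.sum_eq_single k]
  · rw [Pi.single_eq_same]
  · intro l _ hl
    rw [Pi.single_eq_of_ne hl, TensorProduct.zero_tmul]
  · intro h; exact absurd (Finset.mem_univ k) h

theorem pm_eq (x : Fin N → A') :
    pm f A' x = LinearMap.lTensor A' f ((TensorProduct.piScalarRight A A A' (Fin N)).symm x) := by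
  classical
  have h : ((pm f A').restrictScalars A) =
      (LinearMap.lTensor A' f) ∘ₗ
        ((TensorProduct.piScalarRight A A A' (Fin N)).symm.toLinearMap) := by
    apply LinearMap.pi_ext
    intro k a
    simp only [LinearMap.restrictScalars_apply, LinearMap.comp_apply, LinearEquiv.coe_coe]
    rw [pm_single, TensorProduct.piScalarRight_symm_single, LinearMap.lTensor_tmul]
  exact LinearMap.congr_fun h x

theorem pm_map (x : Fin N → A) :
    pm f A' (fun k => algebraMap A A' (x k)) = (1 : A') ⊗ₜ[A] f x := by
  classical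
  rw [pm_apply']
  have hx : x = ∑ k, x k • (Pi.single k (1 : A) : Fin N → A) := by
    ext n
    simp [Finset.sum_apply, Pi.single_apply]
  conv_rhs => rw [hx, map_sum, TensorProduct.tmul_sum]
  refine Finset.sum_congr rfl fun k _ => ?_
  rw [map_smul, TensorProduct.tmul_smul, TensorProduct.smul_tmul', Algebra.smul_def, mul_one]

theorem pm_surjective (hf : Function.Surjective f) : Function.Surjective (pm f A') := by
  intro z
  induction z with
  | zero => exact ⟨0, map_zero _⟩
  | add x y hx hy =>
    obtain ⟨x', rfl⟩ := hx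
    obtain ⟨y', rfl⟩ := hy
    exact ⟨x' + y', map_add _ _ _⟩
  | tmul a b =>
    obtain ⟨x, rfl⟩ := hf b
    refine ⟨a • (fun k => algebraMap A A' (x k)), ?_⟩
    rw [map_smul, pm_map, TensorProduct.smul_tmul', smul_eq_mul, mul_one]

theorem pm_relation (hex : Function.Exact gK f) (w : Fin r → A) :
    pm f A' (fun k => algebraMap A A' (gK w k)) = 0 := by
  rw [pm_map, hex.apply_apply_eq_zero, TensorProduct.tmul_zero]

/-- Right exactness in coordinates. -/
theorem pm_ker (hf : Function.Surjective f) (hex : Function.Exact gK f) (x : Fin N → A')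
    (hx : pm f A' x = 0) :
    ∃ c : Fin r → A', x = ∑ j, c j • (fun k => algebraMap A A' (gK (Pi.single j 1) k)) := by
  classical
  rw [pm_eq] at hx
  have hexT := lTensor_exact A' hex hf
  obtain ⟨w, hw⟩ := (hexT _).mp hx
  refine ⟨TensorProduct.piScalarRight A A' A' (Fin r) w, ?_⟩
  have hx' : x = TensorProduct.piScalarRight A A' A' (Fin N) (LinearMap.lTensor A' gK w) := by
    rw [hw]
    exact ((TensorProduct.piScalarRight A A A' (Fin N)).apply_symm_apply x).symm
  rw [hx']
  clear hx' hw hx
  induction w with
  | zero => simp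
  | add y z hy hz =>
    rw [map_add, map_add, hy, hz, map_add, ← Finset.sum_add_distrib]
    refine Finset.sum_congr rfl fun j _ => ?_
    rw [Pi.add_apply, add_smul]
  | tmul a v =>
    rw [LinearMap.lTensor_tmul, TensorProduct.piScalarRight_apply,
      TensorProduct.piScalarRightHom_tmul, TensorProduct.piScalarRight_apply,
      TensorProduct.piScalarRightHom_tmul]
    have hv : v = ∑ j, v j • (Pi.single j (1 : A) : Fin r → A) := by
      ext n
      simp [Finset.sum_apply, Pi.single_apply]
    ext n
    conv_lhs => rw [hv, map_sum]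
    simp only [map_smul, Finset.sum_apply, Pi.smul_apply, smul_eq_mul, Finset.sum_smul]
    refine Finset.sum_congr rfl fun j _ => ?_
    rw [Algebra.smul_def, Algebra.smul_def, map_mul]
    ring

end Groth.Agent.Lib.helper9.UFO
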