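import Mathlib
import Groth.Agent.Lib.Helper9.UFO1

/-!
# helper9: universal finite opens, part 2 — multiplication in coordinates and the versal algebra of
idempotents lying in a finitely generated ideal.
-/

set_option autoImplicit false
set_option linter.style.haveILetI false

universe u

open TensorProduct MvPolynomial

namespace Groth.Agent.Lib.helper9.UFO

variable {A : Type u} [CommRing A] {B : Type u} [CommRing B] [Algebra A B]
variable {N r : ℕ} (f : (Fin N → A) →ₗ[A] B) (gK : (Fin r → A) →ₗ[A] (Fin N → A))
variable (s : Fin N → Fin N → (Fin N → A))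

/-- Multiplication in coordinates. -/
def star (A' : Type u) [CommRing A'] [Algebra A A'] (x y : Fin N → A') : Fin N → A' :=
  fun n => ∑ k, ∑ l, x k * y l * algebraMap A A' (s k l n)

variable (A' : Type u) [CommRing A'] [Algebra A A']

theorem star_eq (x y : Fin N → A') :
    star s A' x y = ∑ k, ∑ l, (x k * y l) • (fun n => algebraMap A A' (s k l n)) := by
  ext n
  simp [star, Finset.sum_apply]

theorem pm_mul (hs : ∀ k l, f (s k l) = f (Pi.single k 1) * f (Pi.single l 1))
    (x y : Fin N → A') : pm f A' x * pm f A' y = pm f A' (star s A' x y) := by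
  rw [star_eq, map_sum]
  simp_rw [map_sum, map_smul, pm_map, hs]
  rw [pm_apply', pm_apply', Finset.sum_mul_sum]
  refine Finset.sum_congr rfl fun k _ => Finset.sum_congr rfl fun l _ => ?_
  rw [Algebra.TensorProduct.tmul_mul_tmul, TensorProduct.smul_tmul', smul_eq_mul, mul_one]

theorem pm_natural {A'' : Type u} [CommRing A''] [Algebra A A''] (ψ : A' →ₐ[A] A'')
    (x : Fin N → A') :
    Algebra.TensorProduct.map ψ (AlgHom.id A B) (pm f A' x) = pm f A'' (fun k => ψ (x k)) := by
  rw [pm_apply', pm_apply', map_sum]
  refine Finset.sum_congr rfl fun k _ => ?_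
  rw [Algebra.TensorProduct.map_tmul, AlgHom.id_apply]

section Versal

variable {m : ℕ} (γ : Fin m → (Fin N → A))

/-- The index type of the variables of the versal algebra. -/
abbrev Var (N m r : ℕ) : Type := Fin N ⊕ (Fin m × Fin N) ⊕ Fin r ⊕ Fin r

/-- variables for the coordinates of the idempotent -/
abbrev va (k : Fin N) : Var N m r := Sum.inl k
/-- variables for the coordinates of the coefficients -/
abbrev vb (i : Fin m) (l : Fin N) : Var N m r := Sum.inr (Sum.inl (i, l))
/-- witnesses for idempotency -/
abbrev vc (j : Fin r) : Var N m r := Sum.inr (Sum.inr (Sum.inl j))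
/-- witnesses for membership in the ideal -/
abbrev vd (j : Fin r) : Var N m r := Sum.inr (Sum.inr (Sum.inr j))

/-- The idempotency equations. -/
noncomputable def eq1 (n : Fin N) : MvPolynomial (Var N m r) A :=
  (∑ k, ∑ l, X (va k) * X (va l) * C (s k l n)) - X (va n) -
    ∑ j, X (vc j) * C (gK (Pi.single j 1) n)

/-- The membership equations. -/
noncomputable def eq2 (n : Fin N) : MvPolynomial (Var N m r) A :=
  X (va n) - (∑ i, ∑ k, ∑ l, C (γ i k) * X (vb i l) * C (s k l n)) -
    ∑ j, X (vd j) * C (gK (Pi.single j 1) n)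

/-- The ideal of equations. -/
noncomputable def eqIdeal : Ideal (MvPolynomial (Var N m r) A) :=
  Ideal.span (Set.range (eq1 (m := m) gK s) ∪ Set.range (eq2 gK s γ))

theorem aeval_eq1 (v : Var N m r → A') (n : Fin N) :
    aeval v (eq1 (m := m) gK s n) =
      star s A' (fun k => v (va k)) (fun k => v (va k)) n - v (va n) -
        ∑ j, v (vc j) * algebraMap A A' (gK (Pi.single j 1) n) := by
  simp [eq1, star]

theorem aeval_eq2 (v : Var N m r → A') (n : Fin N) :
    aeval v (eq2 gK s γ n) =
      v (va n) - (∑ i, star s A' (fun k => algebraMap A A' (γ i k)) (fun l => v (vb i l)) n) -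
        ∑ j, v (vd j) * algebraMap A A' (gK (Pi.single j 1) n) := by
  simp [eq2, star]

end Versal

end Groth.Agent.Lib.helper9.UFO
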