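import Mathlib
import Groth.Agent.Lib.Helper9.UFO2

/-!
# helper9: universal finite opens, part 3 — the versal algebra of idempotents of a finite finitely
presented algebra lying in a finitely generated ideal (tensor product form).
-/

set_option autoImplicit false
set_option linter.style.haveILetI false

universe u

open TensorProduct MvPolynomial

namespace Groth.Agent.Lib.helper9.UFO

variable {A : Type u} [CommRing A] {B : Type u} [CommRing B] [Algebra A B]
variable {N r : ℕ} (f : (Fin N → A) →ₗ[A] B) (gK : (Fin r → A) →ₗ[A] (Fin N → A))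
variable (s : Fin N → Fin N → (Fin N → A))
variable {m : ℕ} (γ : Fin m → (Fin N → A))

/-- The versal algebra. -/
abbrev VA : Type u := MvPolynomial (Var N m r) A ⧸ eqIdeal gK s γ

theorem eqIdeal_fg : (eqIdeal gK s γ).FG :=
  Submodule.fg_span ((Set.finite_range _).union (Set.finite_range _))

instance : Algebra.FinitePresentation A (VA gK s γ) :=
  Algebra.FinitePresentation.quotient (eqIdeal_fg gK s γ)

/-- The universal values of the variables. -/
noncomputable def uv (i : Var N m r) : VA gK s γ := Ideal.Quotient.mk _ (X i)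

theorem mk_eq_aeval (p : MvPolynomial (Var N m r) A) :
    (Ideal.Quotient.mk (eqIdeal gK s γ) p : VA gK s γ) = aeval (uv gK s γ) p := by
  have h : (Ideal.Quotient.mkₐ A (eqIdeal gK s γ)) = aeval (uv gK s γ) := by
    apply MvPolynomial.algHom_ext
    intro i
    simp [uv]
  exact DFunLike.congr_fun h p

theorem uv_eq1 (n : Fin N) :
    star s (VA gK s γ) (fun k => uv gK s γ (va k)) (fun k => uv gK s γ (va k)) n
      = uv gK s γ (va n) +
        ∑ j, uv gK s γ (vc j) * algebraMap A (VA gK s γ) (gK (Pi.single j 1) n) := by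
  have h0 : (Ideal.Quotient.mk (eqIdeal gK s γ) (eq1 (m := m) gK s n) : VA gK s γ) = 0 :=
    Ideal.Quotient.eq_zero_iff_mem.mpr (Ideal.subset_span (Or.inl ⟨n, rfl⟩))
  rw [mk_eq_aeval, aeval_eq1] at h0
  linear_combination h0

theorem uv_eq2 (n : Fin N) :
    uv gK s γ (va n) =
      (∑ i, star s (VA gK s γ) (fun k => algebraMap A (VA gK s γ) (γ i k))
        (fun l => uv gK s γ (vb i l)) n) +
        ∑ j, uv gK s γ (vd j) * algebraMap A (VA gK s γ) (gK (Pi.single j 1) n) := by
  have h0 : (Ideal.Quotient.mk (eqIdeal gK s γ) (eq2 gK s γ n) : VA gK s γ) = 0 :=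
    Ideal.Quotient.eq_zero_iff_mem.mpr (Ideal.subset_span (Or.inr ⟨n, rfl⟩))
  rw [mk_eq_aeval, aeval_eq2] at h0
  linear_combination h0

/-- The universal coordinates. -/
noncomputable def ua : Fin N → VA gK s γ := fun k => uv gK s γ (va k)

/-- The universal element. -/
noncomputable def ue : VA gK s γ ⊗[A] B := pm f (VA gK s γ) (ua gK s γ)

theorem ue_idem (hex : Function.Exact gK f)
    (hs : ∀ k l, f (s k l) = f (Pi.single k 1) * f (Pi.single l 1)) :
    IsIdempotentElem (ue f gK s γ) := by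
  unfold IsIdempotentElem ue
  rw [pm_mul f s _ hs]
  have h : star s (VA gK s γ) (ua gK s γ) (ua gK s γ) = ua gK s γ +
      ∑ j, uv gK s γ (vc j) • (fun n => algebraMap A (VA gK s γ) (gK (Pi.single j 1) n)) := by
    ext n
    show star s (VA gK s γ) (fun k => uv gK s γ (va k)) (fun k => uv gK s γ (va k)) n = _
    rw [uv_eq1]
    simp [ua, Finset.sum_apply]
  rw [h, map_add, map_sum]
  simp_rw [map_smul, pm_relation f gK _ hex, smul_zero]
  simp

theorem ue_mem (hex : Function.Exact gK f)
    (hs : ∀ k l, f (s k l) = f (Pi.single k 1) * f (Pi.single l 1)) :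
    ue f gK s γ ∈ Ideal.span (Set.range fun i => (1 : VA gK s γ) ⊗ₜ[A] f (γ i)) := by
  have h : ua gK s γ = (∑ i, star s (VA gK s γ) (fun k => algebraMap A (VA gK s γ) (γ i k))
        (fun l => uv gK s γ (vb i l))) +
      ∑ j, uv gK s γ (vd j) • (fun n => algebraMap A (VA gK s γ) (gK (Pi.single j 1) n)) := by
    ext n
    show uv gK s γ (va n) = _
    rw [uv_eq2]
    simp [Finset.sum_apply]
  unfold ue
  rw [h, map_add, map_sum, map_sum]
  simp_rw [map_smul, pm_relation f gK _ hex, smul_zero, ← pm_mul f s _ hs, pm_map]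
  rw [Finset.sum_const_zero, add_zero]
  refine Ideal.sum_mem _ fun i _ => ?_
  rw [mul_comm]
  exact Ideal.mul_mem_left _ _ (Ideal.subset_span ⟨i, rfl⟩)

theorem versal_tensor (hf : Function.Surjective f) (hex : Function.Exact gK f)
    (hs : ∀ k l, f (s k l) = f (Pi.single k 1) * f (Pi.single l 1))
    (A' : Type u) [CommRing A'] [Algebra A A'] (e' : A' ⊗[A] B) (he : IsIdempotentElem e')
    (hmem : e' ∈ Ideal.span (Set.range fun i => (1 : A') ⊗ₜ[A] f (γ i))) :
    ∃ ψ : VA gK s γ →ₐ[A] A', pm f A' (fun k => ψ (ua gK s γ k)) = e' := by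
  classical
  obtain ⟨a, ha⟩ := pm_surjective f A' hf e'
  obtain ⟨t, ht⟩ := (Ideal.mem_span_range_iff_exists_fun).mp hmem
  choose bb hbb using fun i => pm_surjective f A' hf (t i)
  have h1 : pm f A' (star s A' a a - a) = 0 := by
    rw [map_sub, ← pm_mul f s A' hs, ha, he.eq, sub_self]
  obtain ⟨c, hc⟩ := pm_ker f gK A' hf hex _ h1
  have h2 : pm f A' (a - ∑ i, star s A' (fun k => algebraMap A A' (γ i k)) (bb i)) = 0 := by
    rw [map_sub, map_sum]
    simp_rw [← pm_mul f s A' hs, pm_map, hbb]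
    rw [ha, ← ht, sub_eq_zero]
    refine Finset.sum_congr rfl fun i _ => mul_comm _ _
  obtain ⟨d, hd⟩ := pm_ker f gK A' hf hex _ h2
  let v : Var N m r → A' := Sum.elim a (Sum.elim (fun p => bb p.1 p.2) (Sum.elim c d))
  have hker : eqIdeal gK s γ ≤
      RingHom.ker (aeval v : MvPolynomial (Var N m r) A →ₐ[A] A') := by
    rw [eqIdeal, Ideal.span_le]
    rintro _ (⟨n, rfl⟩ | ⟨n, rfl⟩)
    · rw [SetLike.mem_coe, RingHom.mem_ker, aeval_eq1]
      have h := congr_fun hc n
      simp only [Pi.sub_apply, Finset.sum_apply, Pi.smul_apply, smul_eq_mul] at h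
      show star s A' a a n - a n - ∑ j, c j * _ = 0
      rw [h, sub_self]
    · rw [SetLike.mem_coe, RingHom.mem_ker, aeval_eq2]
      have h := congr_fun hd n
      simp only [Pi.sub_apply, Finset.sum_apply, Pi.smul_apply, smul_eq_mul] at h
      show a n - (∑ i, star s A' (fun k => algebraMap A A' (γ i k)) (bb i) n) - ∑ j, d j * _ = 0
      rw [h, sub_self]
  have hker' : ∀ x ∈ eqIdeal gK s γ,
      (aeval v : MvPolynomial (Var N m r) A →ₐ[A] A') x = 0 :=
    fun x hx => (RingHom.mem_ker).mp (hker hx)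
  refine ⟨Ideal.Quotient.liftₐ _ (aeval v) hker', ?_⟩
  have hva : (fun k => (Ideal.Quotient.liftₐ (eqIdeal gK s γ) (aeval v) hker')
      (ua gK s γ k)) = a := by
    ext k
    show (Ideal.Quotient.liftₐ (eqIdeal gK s γ) (aeval v) hker')
      ((Ideal.Quotient.mk (eqIdeal gK s γ)) (X (va k))) = a k
    have h := AlgHom.congr_fun
      (Ideal.Quotient.liftₐ_comp (eqIdeal gK s γ) (aeval v) hker') (X (va k))
    refine h.trans ?_
    simp [v]
  rw [hva, ha]

end Groth.Agent.Lib.helper9.UFO
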