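import Mathlib
import Groth.Agent.Lib.Helper9.UFO3

/-!
# helper9: universal finite opens, part 4 — the versal algebra, in ring-hom form.
-/

set_option autoImplicit false
set_option linter.style.haveILetI false

universe u

open TensorProduct MvPolynomial

namespace Groth.Agent.Lib.helper9.UFO

/-- For a finite, finitely presented `A`-algebra `B` and finitely many elements `g i` of `B`, there
is a finitely presented `A`-algebra `Au` with a tuple `au`, such that `∑ au k ⊗ bb k` is an
idempotent of every "base change" of `B` to `Au` lying in the ideal generated by the `g i`, and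
versal for this property among pushouts. -/
theorem exists_versal (A B : Type u) [CommRing A] [CommRing B] [Algebra A B]
    [Module.Finite A B] [Module.FinitePresentation A B] {m : ℕ} (g : Fin m → B) :
    ∃ (Au : Type u) (_ : CommRing Au) (_ : Algebra A Au) (_ : Algebra.FinitePresentation A Au)
      (N : ℕ) (bb : Fin N → B) (au : Fin N → Au),
      (∀ (Bu : Type u) [CommRing Bu] (ι₁ : Au →+* Bu) (ι₂ : B →+* Bu),
        ι₁.comp (algebraMap A Au) = ι₂.comp (algebraMap A B) →
        IsIdempotentElem (∑ k, ι₁ (au k) * ι₂ (bb k)) ∧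
        (∑ k, ι₁ (au k) * ι₂ (bb k)) ∈ Ideal.span (Set.range fun i => ι₂ (g i))) ∧
      (∀ (A' B' : Type u) [CommRing A'] [CommRing B'] (β : A →+* A') (ι₁ : A' →+* B')
        (ι₂ : B →+* B'),
        CategoryTheory.IsPushout (CommRingCat.ofHom β) (CommRingCat.ofHom (algebraMap A B))
          (CommRingCat.ofHom ι₁) (CommRingCat.ofHom ι₂) →
        ∀ e' : B', IsIdempotentElem e' → e' ∈ Ideal.span (Set.range fun i => ι₂ (g i)) →
        ∃ ψ : Au →+* A', ψ.comp (algebraMap A Au) = β ∧
          ∑ k, ι₁ (ψ (au k)) * ι₂ (bb k) = e') := by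
  classical
  obtain ⟨N, r, f, gK, hf, hex⟩ := Module.FinitePresentation.exists_fin' A B
  choose s hs using fun k l : Fin N => hf (f (Pi.single k 1) * f (Pi.single l 1))
  choose γ hγ using fun i => hf (g i)
  refine ⟨VA gK s γ, inferInstance, inferInstance, inferInstance, N, fun k => f (Pi.single k 1),
    ua gK s γ, ?_, ?_⟩
  · intro Bu _ ι₁ ι₂ hcomp
    letI : Algebra A Bu := (ι₂.comp (algebraMap A B)).toAlgebra
    let ι₁' : VA gK s γ →ₐ[A] Bu :=
      { ι₁ with commutes' := fun a => RingHom.congr_fun hcomp a }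
    let ι₂' : B →ₐ[A] Bu := { ι₂ with commutes' := fun a => rfl }
    let Θ : VA gK s γ ⊗[A] B →ₐ[A] Bu := Algebra.TensorProduct.productMap ι₁' ι₂'
    have hΘ : Θ (ue f gK s γ) = ∑ k, ι₁ (ua gK s γ k) * ι₂ (f (Pi.single k 1)) := by
      unfold ue
      rw [pm_apply', map_sum]
      refine Finset.sum_congr rfl fun k _ => ?_
      exact Algebra.TensorProduct.productMap_apply_tmul _ _ _ _
    rw [← hΘ]
    refine ⟨(ue_idem f gK s γ hex hs).map Θ, ?_⟩
    have h1 := Ideal.mem_map_of_mem Θ.toRingHom (ue_mem f gK s γ hex hs)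
    rw [Ideal.map_span, ← Set.range_comp] at h1
    convert h1 using 3
    swap
    · rfl
    ext i
    show ι₂ (g i) = Θ ((1 : VA gK s γ) ⊗ₜ[A] f (γ i))
    rw [hγ]
    show _ = ι₁ 1 * ι₂ (g i)
    rw [map_one, one_mul]
  · intro A' B' _ _ β ι₁ ι₂ hpo e' he hmem
    letI : Algebra A A' := β.toAlgebra
    letI : Algebra A' B' := ι₁.toAlgebra
    letI : Algebra B B' := ι₂.toAlgebra
    letI : Algebra A B' := (ι₁.comp β).toAlgebra
    have : IsScalarTower A A' B' := .of_algebraMap_eq' rfl
    have hw : ι₁.comp β = ι₂.comp (algebraMap A B) := by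
      have := hpo.w
      exact congr_arg CommRingCat.Hom.hom this
    have : IsScalarTower A B B' := .of_algebraMap_eq' hw
    have hP : Algebra.IsPushout A A' B B' := CommRingCat.isPushout_iff_isPushout.mp hpo
    let E := Algebra.IsPushout.equiv A A' B B'
    have hE : ∀ (x : A') (y : B), E (x ⊗ₜ y) = ι₁ x * ι₂ y :=
      fun x y => Algebra.IsPushout.equiv_tmul A A' B B' x y
    have hEs : ∀ y : B, E.symm (ι₂ y) = 1 ⊗ₜ y :=
      fun y => Algebra.IsPushout.equiv_symm_algebraMap_right A A' B B' y
    have he'' : IsIdempotentElem (E.symm e') := he.map E.symm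
    have hmem'' : E.symm e' ∈ Ideal.span (Set.range fun i => (1 : A') ⊗ₜ[A] f (γ i)) := by
      have h1 := Ideal.mem_map_of_mem E.symm.toAlgHom.toRingHom hmem
      rw [Ideal.map_span, ← Set.range_comp] at h1
      convert h1 using 3
      swap
      · rfl
      ext i
      show (1 : A') ⊗ₜ[A] f (γ i) = E.symm (ι₂ (g i))
      rw [hEs, hγ]
    obtain ⟨ψ, hψ⟩ := versal_tensor f gK s γ hf hex hs A' (E.symm e') he'' hmem''
    refine ⟨ψ.toRingHom, ψ.comp_algebraMap, ?_⟩
    have h2 := congr_arg E hψ
    rw [E.apply_symm_apply, pm_apply', map_sum] at h2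
    rw [← h2]
    refine Finset.sum_congr rfl fun k _ => ?_
    exact (hE _ _).symm

end Groth.Agent.Lib.helper9.UFO
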