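import Mathlib

/-!
# helper9: universal finite opens, part 5 — geometric preliminaries.

* clopen subsets of affine schemes and idempotents,
* global sections of a fibre product of affine schemes form a pushout,
* an open of the source of an open immersion into a finite scheme is finite over the base iff its
  image is closed.
-/

set_option autoImplicit false
set_option linter.style.haveILetI false
set_option backward.isDefEq.respectTransparency false

universe u

open AlgebraicGeometry CategoryTheory Limits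

namespace Groth.Agent.Lib.helper9.UFO

section Prime

variable {R : Type u} [CommRing R]

theorem prime_basicOpen_le_iff (e : R) (he : IsIdempotentElem e) {m : ℕ} (h : Fin m → R) :
    ((PrimeSpectrum.basicOpen e : Set (PrimeSpectrum R)) ⊆
      ⋃ i, (PrimeSpectrum.basicOpen (h i) : Set (PrimeSpectrum R))) ↔
      e ∈ Ideal.span (Set.range h) := by
  constructor
  · intro hle
    have hrad : e ∈ (Ideal.span (Set.range h)).radical := by
      rw [Ideal.radical_eq_sInf, Ideal.mem_sInf]
      rintro J ⟨hJ, hJp⟩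
      by_contra heJ
      have h1 : (⟨J, hJp⟩ : PrimeSpectrum R) ∈
          (PrimeSpectrum.basicOpen e : Set (PrimeSpectrum R)) := heJ
      obtain ⟨i, hi⟩ := Set.mem_iUnion.mp (hle h1)
      exact hi (hJ (Ideal.subset_span ⟨i, rfl⟩))
    obtain ⟨n, hn⟩ := hrad
    rcases n with _ | n
    · rw [pow_zero] at hn
      rw [(Ideal.eq_top_iff_one _).mpr hn]
      trivial
    · rwa [he.pow_succ_eq] at hn
  · intro hmem p hp
    by_contra hnot
    rw [Set.mem_iUnion] at hnot
    push Not at hnot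
    have h2 : Ideal.span (Set.range h) ≤ p.asIdeal := by
      rw [Ideal.span_le]
      rintro _ ⟨i, rfl⟩
      by_contra hi
      exact hnot i hi
    exact hp (h2 hmem)

end Prime

section Affine

variable {X : Scheme.{u}} [IsAffine X]

theorem fromSpec_top_surjective :
    Function.Surjective (isAffineOpen_top X).fromSpec := by
  rw [← Set.range_eq_univ, (isAffineOpen_top X).range_fromSpec]
  rfl

theorem opens_le_of_fromSpec {V W : X.Opens}
    (h : (isAffineOpen_top X).fromSpec ⁻¹ᵁ V ≤ (isAffineOpen_top X).fromSpec ⁻¹ᵁ W) :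
    V ≤ W := by
  intro x hx
  obtain ⟨y, rfl⟩ := fromSpec_top_surjective x
  exact h hx

theorem exists_idempotent_of_isClopen (V : X.Opens) (hV : IsClosed (V : Set X)) :
    ∃ e : Γ(X, ⊤), IsIdempotentElem e ∧ V = X.basicOpen e := by
  have hcl : IsClopen (((isAffineOpen_top X).fromSpec ⁻¹ᵁ V : (Spec Γ(X, ⊤)).Opens) :
      Set ↥(Spec Γ(X, ⊤))) :=
    ⟨hV.preimage (isAffineOpen_top X).fromSpec.continuous,
      ((isAffineOpen_top X).fromSpec ⁻¹ᵁ V).2⟩
  obtain ⟨e, he, heq⟩ := PrimeSpectrum.isClopen_iff.mp hcl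
  have heq' : (isAffineOpen_top X).fromSpec ⁻¹ᵁ V = PrimeSpectrum.basicOpen e :=
    TopologicalSpace.Opens.ext heq
  refine ⟨e, he, le_antisymm (opens_le_of_fromSpec ?_) (opens_le_of_fromSpec ?_)⟩
  · rw [(isAffineOpen_top X).fromSpec_preimage_basicOpen, heq']
  · rw [(isAffineOpen_top X).fromSpec_preimage_basicOpen, heq']

theorem isClosed_basicOpen_of_idempotent (e : Γ(X, ⊤)) (he : IsIdempotentElem e) :
    IsClosed (X.basicOpen e : Set X) := by
  have hq : Topology.IsQuotientMap (isAffineOpen_top X).fromSpec :=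
    (isAffineOpen_top X).fromSpec.isOpenEmbedding.isOpenMap.isQuotientMap
      (isAffineOpen_top X).fromSpec.continuous fromSpec_top_surjective
  rw [← hq.isClosed_preimage]
  have h1 := congr_arg (fun U : (Spec Γ(X, ⊤)).Opens => (U : Set ↥(Spec Γ(X, ⊤))))
    ((isAffineOpen_top X).fromSpec_preimage_basicOpen e)
  have h2 : IsClopen ((PrimeSpectrum.basicOpen e : Set (PrimeSpectrum Γ(X, ⊤)))) :=
    PrimeSpectrum.isClopen_iff.mpr ⟨e, he, rfl⟩
  show IsClosed (((isAffineOpen_top X).fromSpec ⁻¹ᵁ X.basicOpen e : (Spec Γ(X, ⊤)).Opens) :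
    Set ↥(Spec Γ(X, ⊤)))
  rw [(isAffineOpen_top X).fromSpec_preimage_basicOpen e]
  exact h2.1

theorem basicOpen_le_iSup_iff (e : Γ(X, ⊤)) (he : IsIdempotentElem e) {m : ℕ}
    (h : Fin m → Γ(X, ⊤)) :
    X.basicOpen e ≤ ⨆ i, X.basicOpen (h i) ↔ e ∈ Ideal.span (Set.range h) := by
  rw [← prime_basicOpen_le_iff e he h]
  have key : (isAffineOpen_top X).fromSpec ⁻¹ᵁ (⨆ i, X.basicOpen (h i)) =
      ⨆ i, (PrimeSpectrum.basicOpen (h i) : TopologicalSpace.Opens (PrimeSpectrum Γ(X, ⊤))) := by
    rw [Scheme.Hom.preimage_iSup]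
    simp only [(isAffineOpen_top X).fromSpec_preimage_basicOpen]
  have key2 : (isAffineOpen_top X).fromSpec ⁻¹ᵁ (X.basicOpen e) =
      (PrimeSpectrum.basicOpen e : TopologicalSpace.Opens (PrimeSpectrum Γ(X, ⊤))) :=
    (isAffineOpen_top X).fromSpec_preimage_basicOpen e
  have key3 : ((PrimeSpectrum.basicOpen e : Set (PrimeSpectrum Γ(X, ⊤))) ⊆
      ⋃ i, (PrimeSpectrum.basicOpen (h i) : Set (PrimeSpectrum Γ(X, ⊤)))) ↔
      (PrimeSpectrum.basicOpen e : TopologicalSpace.Opens (PrimeSpectrum Γ(X, ⊤))) ≤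
        ⨆ i, (PrimeSpectrum.basicOpen (h i) : TopologicalSpace.Opens (PrimeSpectrum Γ(X, ⊤))) := by
    simp only [SetLike.le_def, Set.subset_def, Set.mem_iUnion, TopologicalSpace.Opens.mem_iSup,
      SetLike.mem_coe]
  rw [key3, ← key, ← key2]
  constructor
  · intro hle
    exact (Scheme.Hom.preimage_mono _ hle)
  · intro hle
    exact opens_le_of_fromSpec hle

end Affine

section Pushout

variable {S T X Y : Scheme.{u}} {f : T ⟶ S} {g : Y ⟶ X} {iX : X ⟶ S} {iY : Y ⟶ T}

theorem appLE_top' (h : X ⟶ S) (e : (⊤ : X.Opens) ≤ h ⁻¹ᵁ ⊤) : h.appLE ⊤ ⊤ e = h.appTop := by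
  rw [Scheme.Hom.appTop, Scheme.Hom.app_eq_appLE]
  rfl

/-- Global sections of a fibre product of affine schemes form a pushout. -/
theorem isPushout_appTop_of_isAffine [IsAffine S] [IsAffine T] [IsAffine X]
    (H : IsPullback g iY iX f) : IsPushout iX.appTop f.appTop g.appTop iY.appTop := by
  have hiso := isIso_pushoutSection_of_isAffineOpen H (US := ⊤) (UT := ⊤) (UX := ⊤)
    (UY := ⊤) le_top le_top (by simp) (isAffineOpen_top S) (isAffineOpen_top T)
    (isAffineOpen_top X)
  have hpo := (isIso_pushoutSection_iff H (US := ⊤) (UT := ⊤) (UX := ⊤) (UY := ⊤)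
    le_top le_top (by simp)).mp hiso
  rw [appLE_top', appLE_top', appLE_top', appLE_top'] at hpo
  exact hpo

end Pushout

section FiniteOpen

variable {X' T' Y' : Scheme.{u}} (j' : X' ⟶ T') [IsOpenImmersion j'] (p' : T' ⟶ Y') [IsFinite p']

theorem isFinite_iff_isClosed_image (U' : X'.Opens) :
    IsFinite (U'.ι ≫ j' ≫ p') ↔ IsClosed ((j' ''ᵁ U' : T'.Opens) : Set T') := by
  have hr : Set.range (U'.ι ≫ j') = ((j' ''ᵁ U' : T'.Opens) : Set T') := by
    rw [Scheme.Hom.comp_base, TopCat.coe_comp, Set.range_comp, Scheme.Opens.range_ι]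
    rfl
  rw [← Category.assoc, IsFinite.comp_iff]
  constructor
  · intro hfin
    rw [← hr]
    exact (U'.ι ≫ j').isClosedMap.isClosed_range
  · intro hcl
    rw [← hr] at hcl
    have : IsClosedImmersion (U'.ι ≫ j') := .of_isPreimmersion _ hcl
    infer_instance

end FiniteOpen

end Groth.Agent.Lib.helper9.UFO
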