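import Mathlib
import Groth.Agent.Lib.Helper9.UFO5

/-!
# helper9: universal finite opens, part 6 — pullback bookkeeping.
-/

set_option autoImplicit false
set_option linter.style.haveILetI false
set_option backward.isDefEq.respectTransparency false

universe u

open AlgebraicGeometry CategoryTheory Limits

namespace Groth.Agent.Lib.helper9.UFO

theorem isoSpec_inv_appTop' (Y : Scheme.{u}) [IsAffine Y] :
    Y.isoSpec.inv.appTop = (Scheme.ΓSpecIso Γ(Y, ⊤)).inv := by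
  have h := congr_arg Scheme.Hom.appTop (Scheme.isoSpec_inv_toSpecΓ Y)
  rw [Scheme.Hom.comp_appTop, Scheme.toSpecΓ_appTop, Scheme.Hom.id_appTop] at h
  rw [← cancel_epi (Scheme.ΓSpecIso Γ(Y, ⊤)).hom, h, Iso.hom_inv_id]

theorem structure_appTop (Y : Scheme.{u}) [IsAffine Y] {R : CommRingCat.{u}} (α : Γ(Y, ⊤) ⟶ R) :
    (Spec.map α ≫ Y.isoSpec.inv).appTop = α ≫ (Scheme.ΓSpecIso R).inv := by
  rw [Scheme.Hom.comp_appTop, isoSpec_inv_appTop', Scheme.ΓSpecIso_inv_naturality]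

theorem lift_appTop (Y' : Scheme.{u}) {R : CommRingCat.{u}} (ψ : R ⟶ Γ(Y', ⊤)) :
    (Scheme.ΓSpecIso R).inv ≫ (Y'.toSpecΓ ≫ Spec.map ψ).appTop = ψ := by
  rw [Scheme.Hom.comp_appTop, Scheme.toSpecΓ_appTop, ← Category.assoc,
    ← Scheme.ΓSpecIso_inv_naturality, Category.assoc, Iso.inv_hom_id, Category.comp_id]

theorem lift_comp (Y : Scheme.{u}) [IsAffine Y] {Y' : Scheme.{u}} (b : Y' ⟶ Y) {R : CommRingCat.{u}}
    (α : Γ(Y, ⊤) ⟶ R) (ψ : R ⟶ Γ(Y', ⊤)) (h : α ≫ ψ = b.appTop) :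
    (Y'.toSpecΓ ≫ Spec.map ψ) ≫ (Spec.map α ≫ Y.isoSpec.inv) = b := by
  rw [Category.assoc, ← Category.assoc (Spec.map ψ), ← Spec.map_comp, h,
    ← Scheme.toSpecΓ_naturality_assoc, Scheme.toSpecΓ_isoSpec_inv, Category.comp_id]

section Jmap

variable {X Y T : Scheme.{u}} (f : X ⟶ Y) (j : X ⟶ T) (π : T ⟶ Y) (hjπ : j ≫ π = f)

/-- The base change of `j`. -/
noncomputable abbrev jmap {Y' : Scheme.{u}} (b : Y' ⟶ Y) : pullback f b ⟶ pullback π b :=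
  pullback.map f b π b j (𝟙 Y') (𝟙 Y) (by rw [Category.comp_id, hjπ])
    (by rw [Category.comp_id, Category.id_comp])

theorem jmap_snd {Y' : Scheme.{u}} (b : Y' ⟶ Y) :
    jmap f j π hjπ b ≫ pullback.snd π b = pullback.snd f b := by
  simp [jmap]

theorem jmap_fst {Y' : Scheme.{u}} (b : Y' ⟶ Y) :
    jmap f j π hjπ b ≫ pullback.fst π b = pullback.fst f b ≫ j := by
  simp [jmap]

theorem jmap_opensRange [IsOpenImmersion j] {Y' : Scheme.{u}} (b : Y' ⟶ Y) :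
    (jmap f j π hjπ b).opensRange = pullback.fst π b ⁻¹ᵁ j.opensRange := by
  apply TopologicalSpace.Opens.ext
  show Set.range (jmap f j π hjπ b) = _
  rw [jmap, Scheme.Pullback.range_map]
  simp

/-- Base change of `T` along a morphism of bases. -/
noncomputable abbrev gmap {Y' Yu : Scheme.{u}} (b : Y' ⟶ Y) (a : Yu ⟶ Y) (c : Y' ⟶ Yu)
    (hc : c ≫ a = b) : pullback π b ⟶ pullback π a :=
  pullback.map π b π a (𝟙 T) c (𝟙 Y) (by rw [Category.comp_id, Category.id_comp])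
    (by rw [Category.comp_id, hc])

theorem gmap_fst {Y' Yu : Scheme.{u}} (b : Y' ⟶ Y) (a : Yu ⟶ Y) (c : Y' ⟶ Yu)
    (hc : c ≫ a = b) : gmap π b a c hc ≫ pullback.fst π a = pullback.fst π b := by
  simp [gmap]

theorem gmap_snd {Y' Yu : Scheme.{u}} (b : Y' ⟶ Y) (a : Yu ⟶ Y) (c : Y' ⟶ Yu)
    (hc : c ≫ a = b) : gmap π b a c hc ≫ pullback.snd π a = pullback.snd π b ≫ c := by
  simp [gmap]

theorem fmap_jmap {Y' Yu : Scheme.{u}} (b : Y' ⟶ Y) (a : Yu ⟶ Y) (c : Y' ⟶ Yu)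
    (hc : c ≫ a = b) :
    gmap f b a c hc ≫ jmap f j π hjπ a = jmap f j π hjπ b ≫ gmap π b a c hc := by
  apply pullback.hom_ext <;> simp [gmap, jmap]

/-- The transfer of versality from `T` to `X`. -/
theorem transfer [IsOpenImmersion j] {Y' Yu : Scheme.{u}} (b : Y' ⟶ Y) (a : Yu ⟶ Y) (c : Y' ⟶ Yu)
    (hc : c ≫ a = b) (Vu : (pullback π a).Opens) (U' : (pullback f b).Opens)
    (h : gmap π b a c hc ⁻¹ᵁ Vu = jmap f j π hjπ b ''ᵁ U') :
    gmap f b a c hc ⁻¹ᵁ (jmap f j π hjπ a ⁻¹ᵁ Vu) = U' := by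
  rw [← Scheme.Hom.comp_preimage, fmap_jmap f j π hjπ b a c hc, Scheme.Hom.comp_preimage, h,
    Scheme.Hom.preimage_image_eq]

end Jmap

end Groth.Agent.Lib.helper9.UFO
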