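import Mathlib
import Groth.Agent.Lib.Helper9.UFO4
import Groth.Agent.Lib.Helper9.UFO6
import Groth.Agent.Lib.Helper9.AbsApprox31

/-!
# helper9: universal finite opens, part 7 — the universal finite open of a quasi-finite morphism
of finite presentation between affine schemes.
-/

set_option autoImplicit false
set_option linter.style.haveILetI false
set_option backward.isDefEq.respectTransparency false

universe u

open AlgebraicGeometry CategoryTheory Limits

namespace Groth.Agent.Lib.helper9.UFO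

theorem universal_finite_open {X Y : Scheme.{u}} (f : X ⟶ Y) [IsAffine X] [IsAffine Y]
    [LocallyQuasiFinite f] [LocallyOfFinitePresentation f] :
    ∃ (Yu : Scheme.{u}) (a : Yu ⟶ Y) (Uu : (pullback f a).Opens),
      LocallyOfFinitePresentation a ∧ QuasiCompact a ∧ QuasiSeparated a ∧
      IsFinite (Uu.ι ≫ pullback.snd f a) ∧
      ∀ (Y' : Scheme.{u}) (b : Y' ⟶ Y) (U' : (pullback f b).Opens), IsAffine Y' →
        IsFinite (U'.ι ≫ pullback.snd f b) →
        ∃ (c : Y' ⟶ Yu) (hc : c ≫ a = b),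
          (pullback.map f b f a (𝟙 X) c (𝟙 Y)
            ((Category.comp_id f).trans (Category.id_comp f).symm)
            ((Category.comp_id b).trans hc.symm)) ⁻¹ᵁ Uu = U' := by
  obtain ⟨T, j, π, hj, hjqc, hπ, hπfp, hjπ⟩ := Groth.Agent.Lib.helper9.AbsApprox.zmt_fp f
  have hTaff : IsAffine T := isAffine_of_isAffineHom π
  letI : Algebra Γ(Y, ⊤) Γ(T, ⊤) := π.appTop.hom.toAlgebra
  have hfin : Module.Finite Γ(Y, ⊤) Γ(T, ⊤) :=
    ((HasAffineProperty.iff_of_isAffine (P := @IsFinite)).mp hπ).2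
  have hfp : Algebra.FinitePresentation Γ(Y, ⊤) Γ(T, ⊤) :=
    (HasRingHomProperty.iff_of_isAffine (P := @LocallyOfFinitePresentation)).mp hπfp
  have hmfp : Module.FinitePresentation Γ(Y, ⊤) Γ(T, ⊤) :=
    Module.FinitePresentation.of_finite_of_finitePresentation _ _
  obtain ⟨s, hs, hsU⟩ := (isCompact_and_isOpen_iff_finite_and_eq_biUnion_basicOpen (X := T)
    (U := (j.opensRange : Set T))).mp ⟨isCompact_range j.continuous, j.opensRange.2⟩
  obtain ⟨m, g, -, rfl⟩ := hs.fin_param
  have hrange : j.opensRange = ⨆ i, T.basicOpen (g i) := by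
    apply TopologicalSpace.Opens.ext
    rw [hsU]
    simp
  obtain ⟨Au, _, _, hAfp, N, bb, au, H1, H2⟩ := exists_versal Γ(Y, ⊤) Γ(T, ⊤) g
  let α : Γ(Y, ⊤) ⟶ CommRingCat.of Au := CommRingCat.ofHom (algebraMap Γ(Y, ⊤) Au)
  let a : Spec (CommRingCat.of Au) ⟶ Y := Spec.map α ≫ Y.isoSpec.inv
  have ha_app : a.appTop = α ≫ (Scheme.ΓSpecIso (CommRingCat.of Au)).inv := structure_appTop Y α
  let ι₁ : Au →+* Γ(pullback π a, ⊤) :=
    (pullback.snd π a).appTop.hom.comp (Scheme.ΓSpecIso (CommRingCat.of Au)).inv.hom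
  let ι₂ : Γ(T, ⊤) →+* Γ(pullback π a, ⊤) := (pullback.fst π a).appTop.hom
  have hcomp : ι₁.comp (algebraMap Γ(Y, ⊤) Au) = ι₂.comp (algebraMap Γ(Y, ⊤) Γ(T, ⊤)) := by
    have h := congr_arg Scheme.Hom.appTop (pullback.condition (f := π) (g := a))
    rw [Scheme.Hom.comp_appTop, Scheme.Hom.comp_appTop, ha_app] at h
    exact congr_arg CommRingCat.Hom.hom h.symm
  obtain ⟨heu_idem, heu_mem⟩ := H1 Γ(pullback π a, ⊤) ι₁ ι₂ hcomp
  obtain ⟨eu, heu⟩ : ∃ eu : Γ(pullback π a, ⊤), eu = ∑ k, ι₁ (au k) * ι₂ (bb k) := ⟨_, rfl⟩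
  rw [← heu] at heu_idem heu_mem
  have hVu_closed : IsClosed ((pullback π a).basicOpen eu : Set ↥(pullback π a)) :=
    isClosed_basicOpen_of_idempotent eu heu_idem
  have hVu_le : (pullback π a).basicOpen eu ≤ (jmap f j π hjπ a).opensRange := by
    rw [jmap_opensRange, hrange, Scheme.Hom.preimage_iSup]
    simp only [Scheme.preimage_basicOpen_top]
    exact (basicOpen_le_iSup_iff eu heu_idem _).mpr heu_mem
  refine ⟨Spec (CommRingCat.of Au), a, jmap f j π hjπ a ⁻¹ᵁ (pullback π a).basicOpen eu,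
    ?_, inferInstance, inferInstance, ?_, ?_⟩
  · have : LocallyOfFinitePresentation (Spec.map α) :=
      (HasRingHomProperty.Spec_iff (P := @LocallyOfFinitePresentation)).mpr
        (RingHom.finitePresentation_algebraMap.mpr hAfp)
    infer_instance
  · rw [← jmap_snd f j π hjπ a, isFinite_iff_isClosed_image,
      Scheme.Hom.image_preimage_eq_opensRange_inf, inf_eq_right.mpr hVu_le]
    exact hVu_closed
  · intro Y' b U' hY' hU'
    rw [← jmap_snd f j π hjπ b, isFinite_iff_isClosed_image] at hU'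
    obtain ⟨e', he', hV'⟩ := exists_idempotent_of_isClopen (jmap f j π hjπ b ''ᵁ U') hU'
    have hle : (pullback π b).basicOpen e' ≤
        ⨆ i, (pullback π b).basicOpen ((pullback.fst π b).appTop (g i)) := by
      rw [← hV']
      have h1 : jmap f j π hjπ b ''ᵁ U' ≤ (jmap f j π hjπ b).opensRange :=
        Scheme.Hom.image_le_opensRange _ _
      rw [jmap_opensRange, hrange, Scheme.Hom.preimage_iSup] at h1
      simpa only [Scheme.preimage_basicOpen_top] using h1
    have hmem := (basicOpen_le_iSup_iff e' he' _).mp hle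
    have hpo := (isPushout_appTop_of_isAffine (IsPullback.of_hasPullback π b)).flip
    obtain ⟨ψ, hψ1, hψ2⟩ := H2 Γ(Y', ⊤) Γ(pullback π b, ⊤) b.appTop.hom
      (pullback.snd π b).appTop.hom (pullback.fst π b).appTop.hom hpo e' he' hmem
    have hc : (Y'.toSpecΓ ≫ Spec.map (CommRingCat.ofHom ψ)) ≫ a = b :=
      lift_comp Y b α (CommRingCat.ofHom ψ) (by ext x; exact RingHom.congr_fun hψ1 x)
    refine ⟨Y'.toSpecΓ ≫ Spec.map (CommRingCat.ofHom ψ), hc, ?_⟩
    apply transfer f j π hjπ b a _ hc ((pullback π a).basicOpen eu) U'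
    rw [hV', Scheme.preimage_basicOpen_top]
    congr 1
    rw [heu, map_sum, ← hψ2]
    refine Finset.sum_congr rfl fun k _ => ?_
    rw [map_mul]
    congr 1
    · have h1 := congr_arg Scheme.Hom.appTop (gmap_snd π b a _ hc)
      rw [Scheme.Hom.comp_appTop, Scheme.Hom.comp_appTop] at h1
      have h2 := lift_appTop Y' (CommRingCat.ofHom ψ)
      have h3 : (Scheme.ΓSpecIso (CommRingCat.of Au)).inv ≫ (pullback.snd π a).appTop ≫
          (gmap π b a _ hc).appTop = CommRingCat.ofHom ψ ≫ (pullback.snd π b).appTop := by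
        rw [h1, ← Category.assoc, h2]
      exact congr_arg (fun φ : CommRingCat.of Au ⟶ Γ(pullback π b, ⊤) => φ.hom (au k)) h3
    · have h1 := congr_arg Scheme.Hom.appTop (gmap_fst π b a _ hc)
      rw [Scheme.Hom.comp_appTop] at h1
      exact congr_arg (fun φ : Γ(T, ⊤) ⟶ Γ(pullback π b, ⊤) => φ.hom (bb k)) h1

end Groth.Agent.Lib.helper9.UFO
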