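import Mathlib
import Groth.Agent.Lib.Helper9.UOLocIrr
import Groth.Agent.Lib.Helper3.OpenAtEquidim

/-!
# Chevalley's criterion, irreducible case with constant fibre dimension (helper9)
-/

set_option autoImplicit false
set_option linter.style.haveILetI false
set_option backward.isDefEq.respectTransparency false

namespace Groth.Agent.Lib.helper9.UO

open AlgebraicGeometry CategoryTheory Limits
open Groth.Agent.Lib.helper3.DimIneq Groth.Agent.Lib.helper3.FTField
  Groth.Agent.Lib.helper3.FibreField Groth.Agent.Lib.helper3.DimFibre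
  Groth.Agent.Lib.helper3.RelDim Groth.Agent.Lib.helper3.EquidimAt
  Groth.Agent.Lib.helper3.EquidimIrr

universe u

/-- Chevalley's criterion from pointwise equidimensionality, `LocIrr` base. -/
theorem universallyOpen_of_isEquidimAt_of_locIrr {X Y : Scheme.{u}} (hirr : LocIrr Y)
    (hY : ∀ y : Y, CAlg2.IsGeomUnibranch (Y.presheaf.stalk y)) (f : X ⟶ Y) [LocallyOfFiniteType f]
    (h : ∀ x : X, EGA43.IsEquidimAt f x) : UniversallyOpen f := by
  choose U hxU hU using fun x => exists_universallyOpen_nbhd_of_isEquidimAt' hirr hY f x (h x)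
  refine IsZariskiLocalAtSource.of_iSup_eq_top (P := @UniversallyOpen) U ?_ hU
  rw [eq_top_iff]
  intro x _
  exact TopologicalSpace.Opens.mem_iSup.2 ⟨x, hxU x⟩

theorem universallyOpen_of_fibreDim_const_of_geomUnibranch {X Y : Scheme.{u}} [IrreducibleSpace X]
    [IrreducibleSpace Y] (hY : ∀ y : Y, CAlg2.IsGeomUnibranch (Y.presheaf.stalk y)) (f : X ⟶ Y)
    [LocallyOfFiniteType f] [IsDominant f]
    (h : ∀ x : X, FlatMor.fibreDimAt f x =
      topologicalKrullDim ↥(f.fiber (f.base (genericPoint X)))) :
    UniversallyOpen f := by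
  obtain ⟨E, b, hE, -, -⟩ := fibreDimAt_eq_add f (genericPoint X)
  have hξmax : ∀ ω : X, ω ⤳ genericPoint X → f ω = f (genericPoint X) → ω = genericPoint X :=
    fun ω h _ => (h.antisymm (genericPoint_specializes ω)).eq
  have hfdξ : FlatMor.fibreDimAt f (genericPoint X) = (E : WithBot ℕ∞) :=
    fibreDimAt_eq_td_of_forall f _ hξmax E hE
  have hD : topologicalKrullDim ↥(f.fiber (f.base (genericPoint X))) = (E : WithBot ℕ∞) :=
    (h (genericPoint X)).symm.trans hfdξ
  have hcl : closure ({f (genericPoint X)} : Set Y) = Set.univ := by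
    have h1 : closure (f '' closure ({genericPoint X} : Set X)) =
        closure ({f (genericPoint X)} : Set Y) := by
      rw [closure_image_closure f.continuous, Set.image_singleton]
    rw [← h1, (genericPoint_spec X).def, Set.image_univ]
    exact f.denseRange.closure_range
  have hcomp : closure ({f (genericPoint X)} : Set Y) ∈ irreducibleComponents Y := by
    rw [hcl, irreducibleComponents_eq_singleton]
    exact Set.mem_singleton _
  have heq : ∀ x, EGA43.IsEquidimAt f x := fun x =>
    isEquidimAt_of_irreducible f x E hE hcomp (by rw [h x, hD])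
  have hirr : LocIrr Y := fun y =>
    ⟨⊤, trivial, by
      rw [TopologicalSpace.Opens.coe_top]
      exact IrreducibleSpace.isIrreducible_univ _⟩
  exact universallyOpen_of_isEquidimAt_of_locIrr hirr hY f heq

end Groth.Agent.Lib.helper9.UO
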