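import Mathlib
import Groth.Agent.Lib.Helper9.UOMain
import Groth.Agent.Lib.Helper3.QFinAffineSpace3

/-!
# Chevalley's criterion for universal openness (helper9)

EGA IV 14.4.1: a morphism locally of finite type, equidimensional at all points, over a locally
Noetherian scheme with geometrically unibranch local rings is universally open.
-/

set_option autoImplicit false
set_option linter.style.haveILetI false
set_option backward.isDefEq.respectTransparency false

namespace Groth.Agent.Lib.helper9.UO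

open AlgebraicGeometry CategoryTheory Limits

universe u

/-- Chevalley's criterion, on the open neighbourhood provided by equidimensionality at a point. -/
theorem exists_universallyOpen_nbhd_of_isEquidimAt {X Y : Scheme.{u}} [IsLocallyNoetherian Y]
    (hY : ∀ y : Y, CAlg2.IsGeomUnibranch (Y.presheaf.stalk y)) (f : X ⟶ Y) [LocallyOfFiniteType f]
    (x : X) (h : EGA43.IsEquidimAt f x) :
    ∃ U : X.Opens, x ∈ U ∧ UniversallyOpen (U.ι ≫ f) := by
  obtain ⟨e, U, g, hxU, hg, hLQF, hcomp⟩ :=
    (Groth.Agent.Lib.helper3.QFinAffineSpace.equidim_iff_qfin f x).1 h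
  refine ⟨U, hxU, ?_⟩
  haveI : IsLocallyNoetherian 𝔸(ULift.{u} (Fin e); Y) :=
    LocallyOfFiniteType.isLocallyNoetherian (𝔸(ULift.{u} (Fin e); Y) ↘ Y)
  haveI : LocallyOfFiniteType (g ≫ (𝔸(ULift.{u} (Fin e); Y) ↘ Y)) := by
    rw [hg]
    infer_instance
  haveI : LocallyOfFiniteType g := locallyOfFiniteType_of_comp g (𝔸(ULift.{u} (Fin e); Y) ↘ Y)
  have hYP : ∀ p : 𝔸(ULift.{u} (Fin e); Y),
      CAlg2.IsGeomUnibranch ((𝔸(ULift.{u} (Fin e); Y)).presheaf.stalk p) := fun p =>
    UnramGeom.isGeomUnibranch_stalk_of_smooth (𝔸(ULift.{u} (Fin e); Y) ↘ Y) p (hY _)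
  have hdom : ∀ ξ ∈ genericPoints ↥(U : Scheme.{u}),
      g ξ ∈ genericPoints ↥𝔸(ULift.{u} (Fin e); Y) := by
    intro ξ hξ
    have h1 := hcomp (closure {ξ}) hξ
    rw [closure_image_closure g.continuous, Set.image_singleton] at h1
    exact h1
  haveI : UniversallyOpen g :=
    universallyOpen_of_locallyQuasiFinite_of_geomUnibranch g hYP hdom
  rw [← hg]
  infer_instance

/-- **Chevalley's criterion for universal openness** (EGA IV 14.4.1). -/
theorem universallyOpen_of_isEquidimAt_of_geomUnibranch {X Y : Scheme.{u}} [IsLocallyNoetherian Y]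
    (hY : ∀ y : Y, CAlg2.IsGeomUnibranch (Y.presheaf.stalk y)) (f : X ⟶ Y) [LocallyOfFiniteType f]
    (h : ∀ x : X, EGA43.IsEquidimAt f x) : UniversallyOpen f := by
  choose U hxU hU using fun x => exists_universallyOpen_nbhd_of_isEquidimAt hY f x (h x)
  refine IsZariskiLocalAtSource.of_iSup_eq_top (P := @UniversallyOpen) U ?_ hU
  rw [eq_top_iff]
  intro x _
  exact TopologicalSpace.Opens.mem_iSup.2 ⟨x, hxU x⟩

end Groth.Agent.Lib.helper9.UO
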