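import Mathlib
import Groth.Agent.Lib.Helper9.UOPoint
import Groth.Agent.Lib.Helper9.UOMain
import Groth.Agent.Lib.Helper3.SecCompConst6
import Groth.Prelude.Def_SGA1

/-!
# qfh-coverings of a geometrically unibranch scheme (helper9)

(= S13736) A finite family of quasi-finite morphisms with irreducible sources over an irreducible
Noetherian scheme with geometrically unibranch local rings is universally submersive iff the
dominant members are jointly surjective.
-/

set_option autoImplicit false
set_option linter.style.haveILetI false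
set_option backward.isDefEq.respectTransparency false

namespace Groth.Agent.Lib.helper9.UO

open AlgebraicGeometry CategoryTheory Limits TopologicalSpace Topology

universe u

/-- A surjective universally open morphism is universally submersive. -/
theorem univSubmersive_of_universallyOpen_of_surjective {X Y : Scheme.{u}} (f : X ⟶ Y)
    [UniversallyOpen f] [Surjective f] : SGA1.UnivSubmersive f := by
  intro X' Y' i₁ i₂ f' h
  haveI : UniversallyOpen f' := MorphismProperty.of_isPullback h.flip inferInstance
  haveI : Surjective f' := MorphismProperty.of_isPullback h.flip inferInstance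
  exact f'.isOpenMap.isQuotientMap f'.continuous f'.surjective

/-- If `h ≫ g` is universally submersive then so is `g`. -/
theorem univSubmersive_of_comp {W X Y : Scheme.{u}} (h : W ⟶ X) (g : X ⟶ Y)
    (H : SGA1.UnivSubmersive (h ≫ g)) : SGA1.UnivSubmersive g := by
  intro X' Y' i₁ i₂ g' sq
  have sq2 : IsPullback (pullback.snd h i₁) (pullback.fst h i₁) i₁ h :=
    (IsPullback.of_hasPullback h i₁).flip
  have sq3 : IsPullback (pullback.snd h i₁ ≫ g') (pullback.fst h i₁) i₂ (h ≫ g) :=
    sq2.paste_horiz sq
  have hq := H _ _ _ sq3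
  have hq' : IsQuotientMap (g' ∘ (pullback.snd h i₁)) := by
    have : ⇑(pullback.snd h i₁ ≫ g') = g' ∘ (pullback.snd h i₁) := by
      ext w
      simp
    rw [← this]
    exact hq
  exact IsQuotientMap.of_comp (pullback.snd h i₁).continuous g'.continuous hq'

/-- A dominant morphism from an irreducible scheme to an irreducible scheme maps generic points to
generic points. -/
theorem map_mem_genericPoints_of_isDominant {T Y : Scheme.{u}} [IrreducibleSpace T]
    [IrreducibleSpace Y] (h : T ⟶ Y) [IsDominant h] :
    ∀ ξ ∈ genericPoints ↥T, h ξ ∈ genericPoints ↥Y := by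
  intro ξ hξ
  have hξ' : closure ({ξ} : Set T) = Set.univ := by
    have := hξ
    rw [genericPoints, irreducibleComponents_eq_singleton] at this
    exact this
  change closure {h ξ} ∈ irreducibleComponents ↥Y
  rw [irreducibleComponents_eq_singleton, Set.mem_singleton_iff, ← Set.image_singleton,
    ← closure_image_closure h.continuous, hξ', Set.image_univ]
  exact h.denseRange.closure_eq

/-- A morphism to an irreducible scheme hitting the generic point is dominant. -/
theorem isDominant_of_genericPoint_mem_range {T Y : Scheme.{u}} [IrreducibleSpace Y] (h : T ⟶ Y)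
    (hη : genericPoint Y ∈ Set.range h) : IsDominant h := by
  refine ⟨?_⟩
  rw [DenseRange, dense_iff_closure_eq]
  apply Set.eq_univ_of_univ_subset
  rw [← (genericPoint_spec Y).def]
  exact closure_mono (Set.singleton_subset_iff.mpr hη)

/-- The closed point of the spectrum of a discrete valuation ring is not open. -/
theorem not_isOpen_singleton_closedPoint (R : Type u) [CommRing R] [IsDomain R]
    [IsDiscreteValuationRing R] :
    ¬ IsOpen ({IsLocalRing.closedPoint R} : Set (PrimeSpectrum R)) := by
  intro h
  have hsp : (⟨⊥, Ideal.isPrime_bot⟩ : PrimeSpectrum R) ⤳ IsLocalRing.closedPoint R :=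
    (PrimeSpectrum.le_iff_specializes _ _).mp bot_le
  have hmem := hsp.mem_open h rfl
  rw [Set.mem_singleton_iff] at hmem
  have h2 : (⊥ : Ideal R) = IsLocalRing.maximalIdeal R := congrArg PrimeSpectrum.asIdeal hmem
  exact IsDiscreteValuationRing.not_a_field R h2.symm

/-- A point of the spectrum of a discrete valuation ring is the closed or the generic point. -/
theorem eq_closedPoint_or_eq_bot (R : Type u) [CommRing R] [IsDomain R]
    [IsDiscreteValuationRing R] (p : PrimeSpectrum R) :
    p = IsLocalRing.closedPoint R ∨ p = ⟨⊥, Ideal.isPrime_bot⟩ := by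
  by_cases hp : p.asIdeal = ⊥
  · right
    exact PrimeSpectrum.ext hp
  · left
    have hmax : p.asIdeal.IsMaximal := Ring.DimensionLEOne.maximalOfPrime hp p.2
    exact PrimeSpectrum.ext (IsLocalRing.eq_maximalIdeal hmax)

/-- (= S13736) -/
theorem univSubmersive_iff_dominant_members_cover {X : Scheme.{u}} [IsNoetherian X]
    [IrreducibleSpace ↥X] (hX : ∀ x : X, CAlg2.IsGeomUnibranch (X.presheaf.stalk x))
    (E : PreZeroHypercover.{u} X) [∀ i, LocallyOfFiniteType (E.f i)]
    [∀ i, LocallyQuasiFinite (E.f i)] [∀ i, IrreducibleSpace ↥(E.X i)] :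
    (SGA1.UnivSubmersive (Sigma.desc E.f) ↔
      ∀ x : X, ∃ (i : E.I₀) (u : E.X i), IsDominant (E.f i) ∧ E.f i u = x) ∧
    ((∀ x : X, ∃ (i : E.I₀) (u : E.X i), IsDominant (E.f i) ∧ E.f i u = x) →
      SGA1.UnivSubmersive (Sigma.desc fun j : {i : E.I₀ // IsDominant (E.f i)} => E.f j.1)) := by
  have part2 : (∀ x : X, ∃ (i : E.I₀) (u : E.X i), IsDominant (E.f i) ∧ E.f i u = x) →
      SGA1.UnivSubmersive (Sigma.desc fun j : {i : E.I₀ // IsDominant (E.f i)} => E.f j.1) := by
    intro hcov
    set g := Sigma.desc fun j : {i : E.I₀ // IsDominant (E.f i)} => E.f j.1 with hg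
    haveI : UniversallyOpen g := by
      apply Groth.Agent.Lib.helper4.UnivOpenDvr6.universallyOpen_of_isUnivOpenAt
      intro w
      obtain ⟨⟨j, u⟩, rfl⟩ := (sigmaMk fun j : {i : E.I₀ // IsDominant (E.f i)} => E.X j.1).surjective w
      rw [sigmaMk_mk]
      haveI := j.2
      haveI : UniversallyOpen (E.f j.1) :=
        universallyOpen_of_locallyQuasiFinite_of_geomUnibranch (E.f j.1) hX
          (map_mem_genericPoints_of_isDominant (E.f j.1))
      have h1 := Groth.Agent.Lib.helper4.UnivOpenDvr6.isUnivOpenAt_of_universallyOpen (E.f j.1) u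
      have h2 : Sigma.ι (fun j : {i : E.I₀ // IsDominant (E.f i)} => E.X j.1) j ≫ g = E.f j.1 := by
        rw [hg, Sigma.ι_desc]
      rw [← h2] at h1
      exact isUnivOpenAt_of_comp _ g u h1
    haveI : Surjective g := by
      refine ⟨fun x => ?_⟩
      obtain ⟨i, u, hi, hu⟩ := hcov x
      refine ⟨Sigma.ι (fun j : {i : E.I₀ // IsDominant (E.f i)} => E.X j.1) ⟨i, hi⟩ u, ?_⟩
      rw [← Scheme.Hom.comp_apply, hg, Sigma.ι_desc]
      exact hu
    exact univSubmersive_of_universallyOpen_of_surjective g
  refine ⟨⟨?_, ?_⟩, part2⟩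
  · -- universally submersive ⇒ dominant members cover
    intro H x
    by_contra hcon
    push Not at hcon
    have hsp : genericPoint X ⤳ x := genericPoint_specializes x
    obtain ⟨R, _, _, _, m, hm1, hm2⟩ :=
      Groth.Agent.Lib.helper3.SecCompConst.exists_dvr_of_specializes_of_isNoetherianRing_stalk
        X x (genericPoint X) hsp
    have sq : IsPullback (pullback.snd (Sigma.desc E.f) m) (pullback.fst (Sigma.desc E.f) m) m
        (Sigma.desc E.f) := (IsPullback.of_hasPullback _ _).flip
    have hq : IsQuotientMap (pullback.snd (Sigma.desc E.f) m) := H _ _ _ sq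
    set O : Set ↥(∐ E.X) := ⋃ i ∈ {i : E.I₀ | ¬ IsDominant (E.f i)}, Set.range (Sigma.ι E.X i)
      with hO
    have hOo : IsOpen O :=
      isOpen_biUnion fun i _ => (Sigma.ι E.X i).isOpenEmbedding.isOpen_range
    have hpre : (pullback.snd (Sigma.desc E.f) m) ⁻¹' {IsLocalRing.closedPoint R} =
        (pullback.fst (Sigma.desc E.f) m) ⁻¹' O := by
      ext w
      obtain ⟨⟨i, u⟩, hiu⟩ := (sigmaMk E.X).surjective (pullback.fst (Sigma.desc E.f) m w)
      rw [sigmaMk_mk] at hiu
      have hcond : E.f i u = m (pullback.snd (Sigma.desc E.f) m w) := by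
        have h1 : Sigma.desc E.f (pullback.fst (Sigma.desc E.f) m w) =
            m (pullback.snd (Sigma.desc E.f) m w) := by
          rw [← Scheme.Hom.comp_apply, ← Scheme.Hom.comp_apply, pullback.condition]
        rw [← hiu, ← Scheme.Hom.comp_apply, Sigma.ι_desc] at h1
        exact h1
      constructor
      · intro hw
        rw [Set.mem_preimage, Set.mem_singleton_iff] at hw
        rw [hw, hm1] at hcond
        have hnd : ¬ IsDominant (E.f i) := fun hd => hcon i u hd hcond
        rw [Set.mem_preimage, ← hiu, hO]
        exact Set.mem_biUnion hnd ⟨u, rfl⟩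
      · intro hw
        rw [Set.mem_preimage, hO] at hw
        simp only [Set.mem_iUnion] at hw
        obtain ⟨i', hi', u', hu'⟩ := hw
        rw [← hiu] at hu'
        have hii : i' = i := by
          have := (sigmaι_eq_iff E.X i' i u' u).mp hu'
          exact (Sigma.mk.inj_iff.mp this).1
        rw [hii] at hi'
        rcases eq_closedPoint_or_eq_bot R (pullback.snd (Sigma.desc E.f) m w) with h | h
        · exact h
        · exfalso
          rw [h, hm2] at hcond
          exact hi' (isDominant_of_genericPoint_mem_range (E.f i) ⟨u, hcond⟩)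
    have h1 : IsOpen ((pullback.snd (Sigma.desc E.f) m) ⁻¹' {IsLocalRing.closedPoint R}) := by
      rw [hpre]
      exact hOo.preimage (pullback.fst (Sigma.desc E.f) m).continuous
    exact not_isOpen_singleton_closedPoint R (hq.isOpen_preimage.mp h1)
  · -- dominant members cover ⇒ universally submersive
    intro hcov
    have h2 := part2 hcov
    have hfac : Sigma.desc (fun j : {i : E.I₀ // IsDominant (E.f i)} => Sigma.ι E.X j.1) ≫
        Sigma.desc E.f = Sigma.desc fun j : {i : E.I₀ // IsDominant (E.f i)} => E.f j.1 := by
      apply Sigma.hom_ext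
      intro j
      simp
    rw [← hfac] at h2
    exact univSubmersive_of_comp _ _ h2

end Groth.Agent.Lib.helper9.UO
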