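import Mathlib
import Groth.Agent.S1451
import Groth.Agent.Lib.Helper1.ESDLfp

/-!
# EGA IV 18.10.4: `g ∘ f` étale near `x`, `Y` integral and geometrically unibranch at `f x`
-/

set_option autoImplicit false
set_option backward.isDefEq.respectTransparency false

universe u

open AlgebraicGeometry CategoryTheory Limits

namespace Groth.Agent.Lib.helper9.UnramGeom

/-- Transport an étale neighbourhood inside an open subscheme to the ambient scheme. -/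
theorem exists_etale_nhd_of_opens {X Y : Scheme.{u}} (f : X ⟶ Y) (x : X) (U : X.Opens) (hxU : x ∈ U)
    (h : ∃ U' : U.toScheme.Opens, (⟨x, hxU⟩ : U) ∈ U' ∧ Etale (U'.ι ≫ U.ι ≫ f)) :
    ∃ W : X.Opens, x ∈ W ∧ W ≤ U ∧ Etale (W.ι ≫ f) := by
  obtain ⟨U', hxU', hU'⟩ := h
  refine ⟨U.ι ''ᵁ U', ⟨⟨x, hxU⟩, hxU', rfl⟩, U.ι_image_le U', ?_⟩
  have e : (U.ι ''ᵁ U').ι ≫ f = (U.ι.isoImage U').inv ≫ (U'.ι ≫ U.ι ≫ f) := by
    rw [← Scheme.Hom.isoImage_inv_ι]; simp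
  rw [e]
  infer_instance

theorem etale_nhd_of_comp {X Y Z : Scheme.{u}} (f : X ⟶ Y) (g : Y ⟶ Z) [IsIntegral Y] (x : X)
    (hY : CAlg2.IsGeomUnibranch (Y.presheaf.stalk (f x)))
    (het : ∃ U : X.Opens, x ∈ U ∧ Etale (U.ι ≫ f ≫ g))
    (hsp : ∃ x' : X, x' ⤳ x ∧ f x' = genericPoint ↑Y) :
    (∃ U : X.Opens, x ∈ U ∧ Etale (U.ι ≫ f)) ∧ ∃ V : Y.Opens, f x ∈ V ∧ Etale (V.ι ≫ g) := by
  obtain ⟨U, hxU, hU⟩ := het
  obtain ⟨x', hx'x, hx'⟩ := hsp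
  have hx'U : x' ∈ U := hx'x.mem_open U.2 hxU
  have hcomp : Etale ((U.ι ≫ f) ≫ g) := by rwa [Category.assoc]
  have hlft : LocallyOfFiniteType (U.ι ≫ f) := locallyOfFiniteType_of_comp (U.ι ≫ f) g
  have hunr : FormallyUnramified (U.ι ≫ f) := FormallyUnramified.of_comp (U.ι ≫ f) g
  have key : ∃ U' : U.toScheme.Opens, (⟨x, hxU⟩ : U) ∈ U' ∧ Etale (U'.ι ≫ U.ι ≫ f) := by
    refine Groth.Agent.S1451.result (U.ι ≫ f) (⟨x, hxU⟩ : U) hY ⟨⟨x', hx'U⟩, ?_, hx'⟩ ⟨⊤, trivial, ?_⟩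
    · exact (subtype_specializes_iff _ _).mpr hx'x
    · exact MorphismProperty.comp_mem @FormallyUnramified _ _ inferInstance hunr
  obtain ⟨W, hxW, hWU, hW⟩ := exists_etale_nhd_of_opens f x U hxU key
  refine ⟨⟨W, hxW, hW⟩, ?_⟩
  -- the image of `W` in `Y`
  let h : W.toScheme ⟶ Y := W.ι ≫ f
  have hopen : IsOpen (Set.range h) := h.isOpenMap.isOpen_range
  let V : Y.Opens := ⟨Set.range h, hopen⟩
  refine ⟨V, ⟨⟨x, hxW⟩, rfl⟩, ?_⟩
  have hr : Set.range h ⊆ Set.range V.ι := by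
    rw [Scheme.Opens.range_ι]; exact subset_rfl
  let h' : W.toScheme ⟶ V.toScheme := IsOpenImmersion.lift V.ι h hr
  have hh' : h' ≫ V.ι = h := IsOpenImmersion.lift_fac _ _ _
  have : Etale (h' ≫ V.ι) := by rw [hh']; exact hW
  have : Etale h' := Etale.of_comp h' V.ι
  have : Surjective h' := by
    refine ⟨fun v => ?_⟩
    obtain ⟨w, hw⟩ := v.2
    refine ⟨w, Subtype.ext ?_⟩
    have h1 : (h' ≫ V.ι) w = h w := by rw [hh']
    rw [Scheme.Hom.comp_apply] at h1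
    rw [← hw]; exact h1
  have : Etale (h' ≫ V.ι ≫ g) := by
    have e : h' ≫ V.ι ≫ g = X.homOfLE hWU ≫ (U.ι ≫ f ≫ g) := by
      rw [← Category.assoc, hh']; simp [h]
    rw [e]; infer_instance
  exact Groth.Agent.H1.ESDLfp.etale_of_etale_comp h' (V.ι ≫ g)

end Groth.Agent.Lib.helper9.UnramGeom
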