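import Mathlib
import Groth.Agent.Lib.Helper9.UnramGUSmooth

/-!
# Ascent of the prelude's `CAlg2.IsGeomUnibranch` along smooth local algebras (helper9)
-/

set_option autoImplicit false

namespace Groth.Agent.Lib.helper9.UnramCore

universe u

open Algebra TensorProduct

theorem isGeomUnibranch_of_smooth_local (R : Type u) [CommRing R] [IsLocalRing R] [IsDomain R]
    (h : CAlg2.IsGeomUnibranch R)
    (C G : Type u) [CommRing C] [Algebra R C] [Algebra.Smooth R C] [CommRing G] [Algebra C G]
    [Algebra R G] [IsScalarTower R C G] (M : Submonoid C) [IsLocalization M G] [IsLocalRing G]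
    [IsLocalHom (algebraMap R G)] :
    IsDomain G ∧ CAlg2.IsGeomUnibranch G := by
  obtain ⟨⟨hdom, hloc⟩, hres⟩ := h
  have hdomRb : IsDomain (CAlg2.normRed R) := inferInstance
  have hic : IsIntegrallyClosed (CAlg2.normRed R) :=
    integralClosure.isIntegrallyClosedOfFiniteExtension (FractionRing (CAlg2.red R))
  let φ : R →+* CAlg2.normRed R :=
    (algebraMap (CAlg2.red R) (CAlg2.normRed R)).comp (Ideal.Quotient.mk (nilradical R))
  let algRRb : Algebra R (CAlg2.normRed R) := φ.toAlgebra
  have st : IsScalarTower R (CAlg2.red R) (CAlg2.normRed R) := .of_algebraMap_eq' rfl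
  have hint1 : Algebra.IsIntegral R (CAlg2.red R) :=
    Algebra.isIntegral_of_surjective Ideal.Quotient.mk_surjective
  have hint : Algebra.IsIntegral R (CAlg2.normRed R) :=
    Algebra.IsIntegral.trans (R := R) (A := CAlg2.red R) (B := CAlg2.normRed R)
  have h2 : Function.Injective (Ideal.Quotient.mk (nilradical R)) := by
    rw [RingHom.injective_iff_ker_eq_bot, Ideal.mk_ker, nilradical_eq_zero]
    rfl
  have hinj : Function.Injective (algebraMap R (CAlg2.normRed R)) := by
    have h1 : Function.Injective (algebraMap (CAlg2.red R) (CAlg2.normRed R)) := by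
      intro a b hab
      have := congrArg Subtype.val hab
      exact IsFractionRing.injective (CAlg2.red R) (FractionRing (CAlg2.red R)) this
    show Function.Injective φ
    simp only [φ, RingHom.coe_comp]
    exact h1.comp h2
  have hres' := hres (IsLocalRing.maximalIdeal (CAlg2.normRed R))
  obtain ⟨q, hq⟩ : ∃ q, q = ringExpChar
      (CAlg2.normRed R ⧸ IsLocalRing.maximalIdeal (CAlg2.normRed R)) := ⟨_, rfl⟩
  rw [← hq] at hres'
  have hexp : ExpChar (CAlg2.normRed R ⧸ IsLocalRing.maximalIdeal (CAlg2.normRed R)) q :=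
    hq ▸ inferInstance
  refine isGeomUnibranch_of_unibranch_smooth R (CAlg2.normRed R) hinj q hexp ?_ ?_ C G M
  · intro x
    obtain ⟨n, r, hr⟩ := hres' (Ideal.Quotient.mk _ x)
    refine ⟨n, r, ?_⟩
    rw [← Ideal.Quotient.eq, map_pow]
    exact hr.symm
  · intro x
    obtain ⟨⟨a, s⟩, hx⟩ := IsLocalization.surj (nonZeroDivisors (CAlg2.red R))
      (x : FractionRing (CAlg2.red R))
    obtain ⟨a₀, rfl⟩ := Ideal.Quotient.mk_surjective a
    obtain ⟨s₀, hs₀⟩ := Ideal.Quotient.mk_surjective (s : CAlg2.red R)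
    have hs₀0 : s₀ ≠ 0 := by
      rintro rfl
      exact nonZeroDivisors.ne_zero s.2 (hs₀.symm.trans (map_zero _))
    refine ⟨s₀, hs₀0, a₀, ?_⟩
    apply Subtype.ext
    show (algebraMap (CAlg2.red R) (FractionRing (CAlg2.red R)) (Ideal.Quotient.mk _ s₀)) *
      (x : FractionRing (CAlg2.red R)) =
      algebraMap (CAlg2.red R) (FractionRing (CAlg2.red R)) (Ideal.Quotient.mk _ a₀)
    rw [hs₀, mul_comm]
    exact hx

end Groth.Agent.Lib.helper9.UnramCore
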