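import Mathlib
import Groth.Prelude.Def_CAlg2
import Groth.Prelude.Def_Hensel
import Groth.Agent.Lib.Helper9.UnramGUSmooth2
import Groth.Agent.Lib.Helper24.Unibranch

/-!
# Strictly henselian local domains are geometrically unibranch; smooth algebras over them (helper9)
-/

set_option autoImplicit false

namespace Groth.Agent.Lib.helper9.UnramCore

universe u

open Algebra TensorProduct IsLocalRing

/-- A henselian local ring is its own henselization. -/
theorem isHenselization_self (R : Type u) [CommRing R] [HenselianLocalRing R] :
    Hensel.IsHenselization R R where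
  henselian := inferInstance
  universal := by
    intro T _ _ f _
    refine ⟨f, ?_, ?_⟩
    · ext x; simp
    · intro g hg
      rw [← hg]
      ext x; simp

/-- A unibranch local ring with separably closed residue field is geometrically unibranch. -/
theorem isGeomUnibranch_of_isUnibranch_of_isSepClosed (R : Type u) [CommRing R] [IsLocalRing R]
    [IsSepClosed (ResidueField R)] (h : CAlg2.IsUnibranch R) : CAlg2.IsGeomUnibranch R := by
  refine ⟨h, ?_⟩
  intro m' hm' x
  obtain ⟨g, hg⟩ : ∃ g : R →+* CAlg2.normRed R,
      g = (algebraMap (CAlg2.red R) (CAlg2.normRed R)).comp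
          (Ideal.Quotient.mk (nilradical R)) := ⟨_, rfl⟩
  have hgint : g.IsIntegral := by
    rw [hg]
    refine RingHom.IsIntegral.trans _ _ ?_ ?_
    · exact RingHom.isIntegral_of_surjective _ Ideal.Quotient.mk_surjective
    · exact algebraMap_isIntegral_iff.mpr inferInstance
  let _ : Field (CAlg2.normRed R ⧸ m') := Ideal.Quotient.field m'
  obtain ⟨f, hf⟩ : ∃ f : R →+* CAlg2.normRed R ⧸ m', f = (Ideal.Quotient.mk m').comp g := ⟨_, rfl⟩
  have hfint : f.IsIntegral := by
    rw [hf]
    exact RingHom.IsIntegral.trans _ _ hgint
      (RingHom.isIntegral_of_surjective _ Ideal.Quotient.mk_surjective)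
  have hcomap : m'.comap g = maximalIdeal R := by
    have := Ideal.isMaximal_comap_of_isIntegral_of_isMaximal' g hgint m'
    exact IsLocalRing.eq_maximalIdeal this
  have hfker : ∀ a ∈ maximalIdeal R, f a = 0 := by
    intro a ha
    rw [hf, RingHom.comp_apply, Ideal.Quotient.eq_zero_iff_mem]
    rw [← hcomap] at ha
    exact ha
  let r : ResidueField R →+* CAlg2.normRed R ⧸ m' :=
    Ideal.Quotient.lift (maximalIdeal R) f hfker
  have hr : r.comp (residue R) = f := by
    ext a; rfl
  have hrint : r.IsIntegral := by
    have : (r.comp (residue R)).IsIntegral := hr ▸ hfint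
    exact RingHom.IsIntegral.tower_top _ _ this
  let algk : Algebra (ResidueField R) (CAlg2.normRed R ⧸ m') := r.toAlgebra
  have : Algebra.IsIntegral (ResidueField R) (CAlg2.normRed R ⧸ m') :=
    algebraMap_isIntegral_iff.mp hrint
  have : Algebra.IsAlgebraic (ResidueField R) (CAlg2.normRed R ⧸ m') :=
    Algebra.IsIntegral.isAlgebraic
  have : IsPurelyInseparable (ResidueField R) (CAlg2.normRed R ⧸ m') :=
    Algebra.IsAlgebraic.isPurelyInseparable_of_isSepClosed
  have : ExpChar (ResidueField R) (ringExpChar (CAlg2.normRed R ⧸ m')) := by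
    have e0 : ExpChar (ResidueField R) (ringExpChar (ResidueField R)) :=
      ringExpChar.expChar (ResidueField R)
    have e1 : ExpChar (CAlg2.normRed R ⧸ m') (ringExpChar (ResidueField R)) :=
      expChar_of_injective_algebraMap
        (algebraMap (ResidueField R) (CAlg2.normRed R ⧸ m')).injective _
    have e2 : ExpChar (CAlg2.normRed R ⧸ m') (ringExpChar (CAlg2.normRed R ⧸ m')) :=
      ringExpChar.expChar _
    rw [ExpChar.eq e2 e1]
    exact e0
  obtain ⟨n, c, hc⟩ := (isPurelyInseparable_iff_pow_mem (ResidueField R)
    (ringExpChar (CAlg2.normRed R ⧸ m'))).mp inferInstance x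
  obtain ⟨c₀, rfl⟩ := residue_surjective c
  refine ⟨n, c₀, ?_⟩
  rw [← hc]
  show _ = r (residue R c₀)
  show _ = f _
  rw [hf, hg]

/-- A strictly henselian local domain is geometrically unibranch. -/
theorem isGeomUnibranch_of_strictlyHenselian_domain (R : Type u) [CommRing R] [IsDomain R]
    [HenselianLocalRing R] [IsSepClosed (ResidueField R)] : CAlg2.IsGeomUnibranch R := by
  have hH : Hensel.IsHenselization R R := isHenselization_self R
  have h1 : IsLocalRing (CAlg2.normRed R) :=
    Groth.Agent.Lib.Helper24.Unibranch.isLocalRing_normRed_of_isDomain R R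
  have h2 : IsDomain (CAlg2.red R) := Groth.Agent.Lib.Helper24.Unibranch.isDomain_red_of_isDomain R
  exact isGeomUnibranch_of_isUnibranch_of_isSepClosed R ⟨h2, h1⟩

/-- Smooth algebras over a strictly henselian local domain: local rings at primes over the closed
point are geometrically unibranch domains. -/
theorem isGeomUnibranch_localization_of_smooth (R R' : Type u) [CommRing R] [IsDomain R]
    [HenselianLocalRing R] [IsSepClosed (ResidueField R)]
    [CommRing R'] [Algebra R R'] [Algebra.Smooth R R']
    (p : Ideal R') [p.IsPrime] (hp : (maximalIdeal R).map (algebraMap R R') ≤ p) :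
    IsDomain (Localization.AtPrime p) ∧ CAlg2.IsGeomUnibranch (Localization.AtPrime p) := by
  have hGU := isGeomUnibranch_of_strictlyHenselian_domain R
  have hlh : IsLocalHom (algebraMap R (Localization.AtPrime p)) := by
    constructor
    intro r hr
    by_contra hru
    have h1 : r ∈ maximalIdeal R := (mem_maximalIdeal r).2 hru
    have h2 : algebraMap R R' r ∈ p := hp (Ideal.mem_map_of_mem _ h1)
    rw [IsScalarTower.algebraMap_apply R R' (Localization.AtPrime p)] at hr
    have h3 := (IsLocalization.AtPrime.isUnit_to_map_iff (Localization.AtPrime p) p _).1 hr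
    exact h3 h2
  exact isGeomUnibranch_of_smooth_local R hGU R' (Localization.AtPrime p) p.primeCompl

end Groth.Agent.Lib.helper9.UnramCore
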