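import Mathlib
import Groth.Agent.S1451
import Groth.Agent.S9799
import Groth.Agent.S2285
import Groth.Agent.Lib.Helper9.RationalExtendOpen
import Groth.Agent.Lib.Helper9.UnramComp
import Groth.Agent.Lib.Helper9.UnramConn
import Groth.Agent.Lib.Helper9.UnramGUGeom
import Groth.Agent.Lib.Helper18.FiberUnram

/-!
# Rational sections of unramified morphisms at geometrically unibranch points (helper9)

EGA IV 18.10.?-type (= S5994, S5995, S5996): a section `u` over a dense open `U` of a separated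
unramified morphism `f : X ⟶ Y` extends across a geometrically unibranch point `y` as soon as the
closure of `u(U)` meets the fibre over `y`.
-/

set_option autoImplicit false
set_option linter.style.haveILetI false
set_option backward.isDefEq.respectTransparency false

namespace Groth.Agent.Lib.helper9.UnramSec

open AlgebraicGeometry CategoryTheory Limits TopologicalSpace Topology

universe u

/-- A morphism from a reduced scheme factors through the reduced closed subscheme on the closure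
of its image. -/
theorem exists_lift_closure {U X : Scheme.{u}} [IsReduced U] (u : U ⟶ X)
    (Zc : Closeds X) (hZc : (Zc : Set X) = closure (Set.range u)) :
    ∃ u' : U ⟶ (Scheme.IdealSheafData.vanishingIdeal Zc).subscheme,
      u' ≫ (Scheme.IdealSheafData.vanishingIdeal Zc).subschemeι = u := by
  have hker : (Scheme.IdealSheafData.vanishingIdeal Zc).subschemeι.ker ≤ u.ker := by
    rw [Scheme.IdealSheafData.ker_subschemeι]
    have h1 : u.ker = (Scheme.IdealSheafData.vanishingIdeal (X := U) ⊤).map u := by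
      rw [Scheme.IdealSheafData.vanishingIdeal_top, Scheme.nilradical_eq_bot,
        Scheme.IdealSheafData.map_bot]
    rw [h1, Scheme.IdealSheafData.map_vanishingIdeal]
    apply Scheme.IdealSheafData.vanishingIdeal_antimono
    intro z hz
    change z ∈ (Zc : Set X)
    rw [hZc]
    have hz' : z ∈ closure (u '' ((⊤ : Closeds U) : Set U)) := hz
    rw [Closeds.coe_top, Set.image_univ] at hz'
    exact hz'
  exact ⟨IsClosedImmersion.lift _ u hker, IsClosedImmersion.lift_fac _ _ _⟩

/-- Over `U`, the closure of the image of a section `u` of a separated unramified morphism maps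
isomorphically to `U`: in particular `(f' ⁻¹ᵁ U).ι ≫ f'` is a monomorphism. -/
theorem mono_restrict_of_section {X' X Y : Scheme.{u}} (f : X ⟶ Y) [IsSeparated f]
    [LocallyOfFiniteType f] [FormallyUnramified f]
    (U : Y.Opens) (u : U.toScheme ⟶ X) (hu : u ≫ f = U.ι)
    (ι : X' ⟶ X) [IsClosedImmersion ι] (hι : Set.range ι = closure (Set.range u))
    (u' : U.toScheme ⟶ X') (hu' : u' ≫ ι = u) :
    Mono (((ι ≫ f) ⁻¹ᵁ U).ι ≫ ι ≫ f) := by
  set f' := ι ≫ f with hf'
  set T := f' ⁻¹ᵁ U with hT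
  have hu'f : u' ≫ f' = U.ι := by rw [hf', ← Category.assoc, hu', hu]
  have hrange : Set.range u' ⊆ Set.range T.ι := by
    rintro _ ⟨c, rfl⟩
    rw [Scheme.Opens.range_ι]
    show f' (u' c) ∈ U
    rw [← Scheme.Hom.comp_apply, hu'f]
    exact c.2
  set u'' := IsOpenImmersion.lift T.ι u' hrange with hu''
  have hfac : u'' ≫ T.ι = u' := IsOpenImmersion.lift_fac _ _ _
  have hsec : u'' ≫ f' ∣_ U = 𝟙 _ := by
    rw [← cancel_mono U.ι, Category.assoc, morphismRestrict_ι, ← Category.assoc, hfac, hu'f,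
      Category.id_comp]
  haveI : FormallyUnramified ι := inferInstance
  haveI : FormallyUnramified f' :=
    MorphismProperty.comp_mem @FormallyUnramified _ _ inferInstance inferInstance
  haveI : LocallyOfFiniteType f' := by rw [hf']; infer_instance
  haveI : FormallyUnramified (f' ∣_ U) :=
    MorphismProperty.of_isPullback (P := @FormallyUnramified)
      (isPullback_morphismRestrict f' U).flip inferInstance
  haveI : IsOpenImmersion u'' :=
    Groth.Agent.Lib.Helper18.FiberUnram.isOpenImmersion_of_section (f' ∣_ U) u'' hsec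
  have hsurj : u''.opensRange = ⊤ := by
    apply TopologicalSpace.Opens.ext
    apply Set.eq_univ_of_forall
    intro t
    have h1 : ι (T.ι t) ∈ closure (Set.range u) := by
      rw [← hι]
      exact ⟨_, rfl⟩
    have h2 : f (ι (T.ι t)) ∈ U := t.2
    obtain ⟨c, hc⟩ := mem_range_of_mem_closure_range_section f U u hu _ h1 h2
    refine ⟨c, ?_⟩
    apply T.ι.isOpenEmbedding.injective
    apply ι.isClosedEmbedding.injective
    have e1 : T.ι (u'' c) = u' c := by rw [← Scheme.Hom.comp_apply, hfac]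
    have e2 : ι (u' c) = u c := by rw [← Scheme.Hom.comp_apply, hu']
    rw [e1, e2]
    exact hc
  haveI : IsIso u'' := isIso_of_isOpenImmersion_of_opensRange_eq_top u'' hsurj
  have hθ : u'' ≫ (T.ι ≫ f') = U.ι := by rw [← Category.assoc, hfac, hu'f]
  have hθ' : T.ι ≫ f' = inv u'' ≫ U.ι := (IsIso.eq_inv_comp u'').mpr hθ
  rw [hθ']
  infer_instance


/-- An étale separated morphism which is a monomorphism over an open `U` meeting every nonempty
open subset of its image is a monomorphism. -/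
theorem mono_of_etale_of_mono_over_dense {W Y : Scheme.{u}} (h : W ⟶ Y) [Etale h] [IsSeparated h]
    (U : Y.Opens) (hU : Mono ((h ⁻¹ᵁ U).ι ≫ h))
    (hdense : ∀ O : Set Y, IsOpen O → O ⊆ Set.range h → O.Nonempty → (O ∩ (U : Set Y)).Nonempty) :
    Mono h := by
  rw [← pullback.isIso_diagonal_iff]
  haveI : IsOpenImmersion (pullback.diagonal h) := inferInstance
  apply isIso_of_isOpenImmersion_of_opensRange_eq_top
  by_contra hne
  have hclosed : IsClosed (Set.range (pullback.diagonal h)) :=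
    (pullback.diagonal h).isClosedEmbedding.isClosed_range
  set C : Set ↥(pullback h h) := (Set.range (pullback.diagonal h))ᶜ with hC
  have hCopen : IsOpen C := hclosed.isOpen_compl
  have hCne : C.Nonempty := by
    rw [Set.nonempty_compl]
    intro hr
    apply hne
    apply TopologicalSpace.Opens.ext
    exact hr
  set π := pullback.fst h h ≫ h with hπ
  have hπopen : IsOpenMap π := π.isOpenMap
  have h1 : (π '' C ∩ (U : Set Y)).Nonempty := by
    refine hdense (π '' C) (hπopen C hCopen) ?_ (hCne.image _)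
    rintro _ ⟨c, -, rfl⟩
    exact ⟨pullback.fst h h c, by rw [hπ, Scheme.Hom.comp_apply]⟩
  obtain ⟨_, ⟨c', hc'C, rfl⟩, hc'U⟩ := h1
  apply hc'C
  set j := (pullback h h).fromSpecResidueField c' with hj
  set T := h ⁻¹ᵁ U with hT
  have hr1 : Set.range (j ≫ pullback.fst h h) ⊆ Set.range T.ι := by
    rintro _ ⟨s, rfl⟩
    rw [Scheme.Opens.range_ι]
    have hs : j s = c' := by
      have : j s ∈ Set.range j := ⟨s, rfl⟩
      rw [hj, Scheme.range_fromSpecResidueField] at this
      exact this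
    show h ((j ≫ pullback.fst h h) s) ∈ U
    rw [Scheme.Hom.comp_apply, hs]
    rw [hπ, Scheme.Hom.comp_apply] at hc'U
    exact hc'U
  have hr2 : Set.range (j ≫ pullback.snd h h) ⊆ Set.range T.ι := by
    rintro _ ⟨s, rfl⟩
    rw [Scheme.Opens.range_ι]
    have hs : j s = c' := by
      have : j s ∈ Set.range j := ⟨s, rfl⟩
      rw [hj, Scheme.range_fromSpecResidueField] at this
      exact this
    show h ((j ≫ pullback.snd h h) s) ∈ U
    rw [Scheme.Hom.comp_apply, hs, ← Scheme.Hom.comp_apply, ← pullback.condition]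
    rw [hπ] at hc'U
    exact hc'U
  set t₁ := IsOpenImmersion.lift T.ι (j ≫ pullback.fst h h) hr1 with ht₁
  set t₂ := IsOpenImmersion.lift T.ι (j ≫ pullback.snd h h) hr2 with ht₂
  have e1 : t₁ ≫ T.ι = j ≫ pullback.fst h h := IsOpenImmersion.lift_fac _ _ _
  have e2 : t₂ ≫ T.ι = j ≫ pullback.snd h h := IsOpenImmersion.lift_fac _ _ _
  have e12 : t₁ = t₂ := by
    rw [← cancel_mono (T.ι ≫ h), ← Category.assoc, ← Category.assoc, e1, e2, Category.assoc,
      Category.assoc, pullback.condition]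
  have hjΔ : j = (j ≫ pullback.fst h h) ≫ pullback.diagonal h := by
    apply pullback.hom_ext
    · rw [Category.assoc, pullback.diagonal_fst, Category.comp_id]
    · rw [Category.assoc, pullback.diagonal_snd, Category.comp_id, ← e1, e12, e2]
  have hc'j : c' ∈ Set.range j := by
    rw [hj, Scheme.range_fromSpecResidueField]; rfl
  obtain ⟨s, hs⟩ := hc'j
  refine ⟨(j ≫ pullback.fst h h) s, ?_⟩
  rw [← Scheme.Hom.comp_apply, ← hjΔ, hs]

/-- If `T.ι ≫ f'` is a monomorphism, two morphisms into `X'` landing in `T` and agreeing after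
composition with `f'` are equal. -/
theorem eq_of_comp_eq_of_range_subset {A X' Y : Scheme.{u}} (f' : X' ⟶ Y) (T : X'.Opens)
    (hT : Mono (T.ι ≫ f')) (a b : A ⟶ X') (ha : Set.range a ⊆ (T : Set X'))
    (hb : Set.range b ⊆ (T : Set X')) (hab : a ≫ f' = b ≫ f') : a = b := by
  have ha' : Set.range a ⊆ Set.range T.ι := by rwa [Scheme.Opens.range_ι]
  have hb' : Set.range b ⊆ Set.range T.ι := by rwa [Scheme.Opens.range_ι]
  have e1 : IsOpenImmersion.lift T.ι a ha' ≫ T.ι = a := IsOpenImmersion.lift_fac _ _ _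
  have e2 : IsOpenImmersion.lift T.ι b hb' ≫ T.ι = b := IsOpenImmersion.lift_fac _ _ _
  have e12 : IsOpenImmersion.lift T.ι a ha' = IsOpenImmersion.lift T.ι b hb' := by
    rw [← cancel_mono (T.ι ≫ f'), ← Category.assoc, ← Category.assoc, e1, e2, hab]
  rw [← e1, e12, e2]

theorem mono_comp_of_range_subset {A X' Y : Scheme.{u}} (f' : X' ⟶ Y) (T : X'.Opens)
    (hT : Mono (T.ι ≫ f')) (m : A ⟶ X') [Mono m] (hm : Set.range m ⊆ (T : Set X')) :
    Mono (m ≫ f') := by
  constructor
  intro Z a b hab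
  rw [← cancel_mono m]
  apply eq_of_comp_eq_of_range_subset f' T hT
  · rintro _ ⟨z, rfl⟩
    rw [Scheme.Hom.comp_apply]
    exact hm ⟨_, rfl⟩
  · rintro _ ⟨z, rfl⟩
    rw [Scheme.Hom.comp_apply]
    exact hm ⟨_, rfl⟩
  · rw [Category.assoc, Category.assoc, hab]

/-- Step 4: from an étale neighbourhood in the closure of the image of the section to an
extension of the section. -/
theorem exists_section_of_etale_nhd {X' X Y : Scheme.{u}}
    (f : X ⟶ Y) [IsSeparated f] [LocallyOfFiniteType f] [FormallyUnramified f]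
    (U : Y.Opens) (u : U.toScheme ⟶ X) (hu : u ≫ f = U.ι)
    (ι : X' ⟶ X) [IsClosedImmersion ι] (hι : Set.range ι = closure (Set.range u))
    (u' : U.toScheme ⟶ X') (hu' : u' ≫ ι = u)
    (W : X'.Opens) (hW : Etale (W.ι ≫ ι ≫ f))
    (hdense : ∀ O : Set Y, IsOpen O → O ⊆ Set.range (W.ι ≫ ι ≫ f) → O.Nonempty →
      (O ∩ (U : Set Y)).Nonempty)
    (y : Y) (hy : y ∈ Set.range (W.ι ≫ ι ≫ f)) :
    ∃ (V : Y.Opens) (v : V.toScheme ⟶ X), y ∈ V ∧ v ≫ f = V.ι ∧
      Y.homOfLE (inf_le_left : U ⊓ V ≤ U) ≫ u = Y.homOfLE (inf_le_right : U ⊓ V ≤ V) ≫ v := by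
  set f' := ι ≫ f with hf'
  set h := W.ι ≫ f' with hh
  have hu'f : u' ≫ f' = U.ι := by rw [hf', ← Category.assoc, hu', hu]
  haveI : IsSeparated f' := by rw [hf']; infer_instance
  haveI : IsSeparated h := by rw [hh]; infer_instance
  have hθ : Mono ((f' ⁻¹ᵁ U).ι ≫ f') := mono_restrict_of_section f U u hu ι hι u' hu'
  have hmono_hU : Mono ((h ⁻¹ᵁ U).ι ≫ h) := by
    have e : (h ⁻¹ᵁ U).ι ≫ h = ((h ⁻¹ᵁ U).ι ≫ W.ι) ≫ f' := by rw [hh, Category.assoc]
    rw [e]
    apply mono_comp_of_range_subset f' (f' ⁻¹ᵁ U) hθ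
    rintro _ ⟨s, rfl⟩
    show f' (((h ⁻¹ᵁ U).ι ≫ W.ι) s) ∈ U
    rw [← Scheme.Hom.comp_apply, Category.assoc, ← hh]
    exact s.2
  haveI : Mono h := mono_of_etale_of_mono_over_dense h U hmono_hU hdense
  haveI : IsOpenImmersion h := IsOpenImmersion.of_flat_of_mono h
  refine ⟨h.opensRange, h.isoOpensRange.inv ≫ W.ι ≫ ι, hy, ?_, ?_⟩
  · rw [Category.assoc, Category.assoc]
    exact Scheme.Hom.isoOpensRange_inv_comp h
  · have key : Y.homOfLE (inf_le_left : U ⊓ h.opensRange ≤ U) ≫ u' =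
        Y.homOfLE (inf_le_right : U ⊓ h.opensRange ≤ h.opensRange) ≫ h.isoOpensRange.inv ≫ W.ι := by
      apply eq_of_comp_eq_of_range_subset f' (f' ⁻¹ᵁ U) hθ
      · rintro _ ⟨s, rfl⟩
        show f' ((Y.homOfLE _ ≫ u') s) ∈ U
        rw [← Scheme.Hom.comp_apply, Category.assoc, hu'f, Scheme.homOfLE_ι]
        exact s.2.1
      · rintro _ ⟨s, rfl⟩
        show f' ((Y.homOfLE _ ≫ h.isoOpensRange.inv ≫ W.ι) s) ∈ U
        rw [← Scheme.Hom.comp_apply, Category.assoc, Category.assoc, ← hh,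
          Scheme.Hom.isoOpensRange_inv_comp, Scheme.homOfLE_ι]
        exact s.2.1
      · rw [Category.assoc, hu'f, Scheme.homOfLE_ι, Category.assoc, Category.assoc, ← hh,
          Scheme.Hom.isoOpensRange_inv_comp, Scheme.homOfLE_ι]
    rw [← hu', ← Category.assoc, key]
    simp only [Category.assoc]


theorem isGeomUnibranch_congr_point' {Y : Scheme.{u}} {y y' : Y} (h : y = y')
    (hy : CAlg2.IsGeomUnibranch (Y.presheaf.stalk y)) :
    CAlg2.IsGeomUnibranch (Y.presheaf.stalk y') := by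
  subst h
  exact hy

theorem isDomain_stalk_congr_point {Y : Scheme.{u}} {y y' : Y} (h : y = y')
    (hy : IsDomain (Y.presheaf.stalk y)) : IsDomain (Y.presheaf.stalk y') := by
  subst h
  exact hy

/-- Step 2: étale neighbourhood of a point over a geometrically unibranch point which has a
generization over the generic point of an integral open neighbourhood. -/
theorem exists_etale_nhd_of_generization {X' Y : Scheme.{u}} [IsReduced Y] (f' : X' ⟶ Y)
    [LocallyOfFiniteType f'] [FormallyUnramified f']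
    (Y₁ : Y.Opens) [IsIntegral Y₁.toScheme] (x' : X') (hx' : f' x' ∈ Y₁)
    (hy : CAlg2.IsGeomUnibranch (Y.presheaf.stalk (f' x')))
    (z : X') (hz : z ⤳ x') (hfz : f' z = (genericPoint Y₁.toScheme).1) :
    ∃ W : X'.Opens, x' ∈ W ∧ W ≤ f' ⁻¹ᵁ Y₁ ∧ Etale (W.ι ≫ f') := by
  set T := f' ⁻¹ᵁ Y₁ with hT
  set g := f' ∣_ Y₁ with hg
  haveI : LocallyOfFiniteType g :=
    MorphismProperty.of_isPullback (P := @LocallyOfFiniteType)
      (isPullback_morphismRestrict f' Y₁).flip inferInstance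
  haveI : FormallyUnramified g :=
    MorphismProperty.of_isPullback (P := @FormallyUnramified)
      (isPullback_morphismRestrict f' Y₁).flip inferInstance
  have hxT : x' ∈ T := hx'
  have hzT : z ∈ T := by
    show f' z ∈ Y₁
    rw [hfz]
    exact (genericPoint Y₁.toScheme).2
  have hpt : Y₁.ι (g ⟨x', hxT⟩) = f' x' := morphismRestrict_base_coe f' Y₁ ⟨x', hxT⟩
  have hdomY : IsDomain (Y.presheaf.stalk (f' x')) :=
    UnramGeom.isDomain_of_isReduced_of_isGeomUnibranch _ hy
  have hGU₁ : CAlg2.IsGeomUnibranch (Y₁.toScheme.presheaf.stalk (g ⟨x', hxT⟩)) :=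
    (UnramGeom.isGeomUnibranch_stalk_of_etale_nhd Y₁.ι (g ⟨x', hxT⟩)
      (isDomain_stalk_congr_point hpt.symm hdomY)
      (isGeomUnibranch_congr_point' hpt.symm hy) ⟨⊤, trivial, inferInstance⟩).2
  have hgz : g ⟨z, hzT⟩ = genericPoint Y₁.toScheme := by
    apply Subtype.ext
    rw [morphismRestrict_base_coe]
    exact hfz
  obtain ⟨U', hxU', hU'⟩ := Groth.Agent.S1451.result g ⟨x', hxT⟩ hGU₁
    ⟨⟨z, hzT⟩, (subtype_specializes_iff _ _).mpr hz, hgz⟩
    ⟨⊤, trivial, MorphismProperty.comp_mem @FormallyUnramified _ _ inferInstance inferInstance⟩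
  apply UnramGeom.exists_etale_nhd_of_opens f' x' T hxT
  refine ⟨U', hxU', ?_⟩
  have e : U'.ι ≫ T.ι ≫ f' = (U'.ι ≫ g) ≫ Y₁.ι := by
    rw [Category.assoc, hg, morphismRestrict_ι]
  rw [e]
  infer_instance

/-- The generic point of an integral open subscheme lies in every open meeting it. -/
theorem genericPoint_mem_of_inter_nonempty {Y : Scheme.{u}} (Y₁ : Y.Opens) [IsIntegral Y₁.toScheme]
    (O : Set Y) (hO : IsOpen O) (h : (O ∩ (Y₁ : Set Y)).Nonempty) :
    (genericPoint Y₁.toScheme).1 ∈ O := by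
  have h1 := (genericPoint_spec Y₁.toScheme).mem_open_set_iff
    (U := (Subtype.val : Y₁ → Y) ⁻¹' O) (hO.preimage continuous_subtype_val)
  have h2 : genericPoint Y₁.toScheme ∈ (Subtype.val : Y₁ → Y) ⁻¹' O := by
    rw [h1]
    obtain ⟨p, hpO, hpY⟩ := h
    exact ⟨⟨p, hpY⟩, trivial, hpO⟩
  exact h2

/-- Lemma A': extension of a section across a geometrically unibranch point having an integral
open neighbourhood which meets the domain of the section. -/
theorem exists_section_nhd_of_integral_nhd {X Y : Scheme.{u}} [IsReduced Y]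
    (f : X ⟶ Y) [IsSeparated f] [LocallyOfFiniteType f] [FormallyUnramified f]
    (U : Y.Opens) (u : U.toScheme ⟶ X) (hu : u ≫ f = U.ι)
    (y : Y) (hy : CAlg2.IsGeomUnibranch (Y.presheaf.stalk y))
    (Y₁ : Y.Opens) (hyY₁ : y ∈ Y₁) [IsIntegral Y₁.toScheme]
    (hUY₁ : ((U : Set Y) ∩ (Y₁ : Set Y)).Nonempty)
    (x : X) (hx : x ∈ closure (Set.range u)) (hfx : f x = y) :
    ∃ (V : Y.Opens) (v : V.toScheme ⟶ X), y ∈ V ∧ v ≫ f = V.ι ∧
      Y.homOfLE (inf_le_left : U ⊓ V ≤ U) ≫ u = Y.homOfLE (inf_le_right : U ⊓ V ≤ V) ≫ v := by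
  set Zc : Closeds X := ⟨closure (Set.range u), isClosed_closure⟩ with hZc
  set I := Scheme.IdealSheafData.vanishingIdeal Zc with hI
  set ι := I.subschemeι with hιdef
  obtain ⟨u', hu'⟩ := exists_lift_closure u Zc rfl
  have hι : Set.range ι = closure (Set.range u) := by
    rw [hιdef, Scheme.IdealSheafData.range_subschemeι, hI,
      Scheme.IdealSheafData.coe_support_vanishingIdeal]
    rfl
  obtain ⟨x', hx'⟩ : x ∈ Set.range ι := by rw [hι]; exact hx
  set f' := ι ≫ f with hf'
  have hu'f : u' ≫ f' = U.ι := by rw [hf', ← Category.assoc, hu', hu]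
  haveI : FormallyUnramified ι := inferInstance
  haveI : FormallyUnramified f' :=
    MorphismProperty.comp_mem @FormallyUnramified _ _ inferInstance inferInstance
  haveI : LocallyOfFiniteType f' := by rw [hf']; infer_instance
  have hf'x' : f' x' = y := by rw [hf', Scheme.Hom.comp_apply, hx', hfx]
  -- the generic point of `Y₁`
  set η := (genericPoint Y₁.toScheme).1 with hη
  have hηU : η ∈ U := genericPoint_mem_of_inter_nonempty Y₁ U U.2 hUY₁
  have hηY₁ : η ∈ Y₁ := (genericPoint Y₁.toScheme).2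
  set z := u' ⟨η, hηU⟩ with hz
  have hfz : f' z = η := by
    rw [hz, ← Scheme.Hom.comp_apply, hu'f]
    rfl
  -- `z ⤳ x'`
  have hspec : u ⟨η, hηU⟩ ⤳ x := by
    rw [specializes_iff_mem_closure]
    have h1 : x ∈ closure ((f ⁻¹' (Y₁ : Set Y)) ∩ Set.range u) := by
      apply (Y₁.2.preimage f.continuous).inter_closure
      exact ⟨by show f x ∈ Y₁; rw [hfx]; exact hyY₁, hx⟩
    refine closure_minimal ?_ isClosed_closure h1
    rintro _ ⟨hcY, c, rfl⟩
    rw [← specializes_iff_mem_closure]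
    apply Specializes.map _ u.continuous
    refine (subtype_specializes_iff (p := fun a => a ∈ U) ⟨η, hηU⟩ c).mpr ?_
    have hc : f (u c) = c.1 := by
      rw [← Scheme.Hom.comp_apply, hu]
      rfl
    have hcY₁ : c.1 ∈ Y₁ := by
      have : f (u c) ∈ Y₁ := hcY
      rwa [hc] at this
    have h2 : genericPoint Y₁.toScheme ⤳ (⟨c.1, hcY₁⟩ : Y₁) :=
      genericPoint_specializes _
    exact (subtype_specializes_iff (p := fun a => a ∈ Y₁) (genericPoint Y₁.toScheme)
      ⟨c.1, hcY₁⟩).mp h2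
  have hzx' : z ⤳ x' := by
    rw [← ι.isClosedEmbedding.isInducing.specializes_iff]
    have e1 : ι z = u ⟨η, hηU⟩ := by rw [hz, ← Scheme.Hom.comp_apply, hu']
    rw [e1, hx']
    exact hspec
  obtain ⟨W, hx'W, hWle, hW⟩ := exists_etale_nhd_of_generization f' Y₁ x'
    (by rw [hf'x']; exact hyY₁) (isGeomUnibranch_congr_point' hf'x'.symm hy) z hzx' hfz
  have hrange : Set.range (W.ι ≫ ι ≫ f) ⊆ (Y₁ : Set Y) := by
    rintro _ ⟨w, rfl⟩
    exact hWle w.2
  refine exists_section_of_etale_nhd f U u hu ι hι u' hu' W hW ?_ y ?_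
  · intro O hO hOr hOne
    refine ⟨η, ?_, hηU⟩
    apply genericPoint_mem_of_inter_nonempty Y₁ O hO
    obtain ⟨p, hp⟩ := hOne
    exact ⟨p, hp, hrange (hOr hp)⟩
  · refine ⟨⟨x', hx'W⟩, ?_⟩
    rw [Scheme.Hom.comp_apply]
    exact hf'x'


/-- On a reduced scheme with locally finite irreducible components, a point whose local ring is a
domain has an integral open neighbourhood. -/
theorem exists_integral_open_nhd {Y : Scheme.{u}} [IsReduced Y]
    (hcomp : LocallyFinite (fun Z : ↥(irreducibleComponents ↥Y) => (Z : Set ↥Y)))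
    (y : Y) (hdom : IsDomain (Y.presheaf.stalk y)) :
    ∃ Y₁ : Y.Opens, y ∈ Y₁ ∧ IsIntegral Y₁.toScheme := by
  obtain ⟨N, hN, hfin⟩ := hcomp y
  obtain ⟨O, hON, hO, hyO⟩ := mem_nhds_iff.mp hN
  set Z₀ : Set Y := irreducibleComponent y with hZ₀
  have hZ₀mem : Z₀ ∈ irreducibleComponents Y := irreducibleComponent_mem_irreducibleComponents y
  have hyZ₀ : y ∈ Z₀ := mem_irreducibleComponent
  set F : Set ↥(irreducibleComponents ↥Y) := {Z | ((Z : Set Y) ∩ N).Nonempty} with hF
  set B : Set Y := ⋃ Z ∈ F ∩ {Z | (Z : Set Y) ≠ Z₀}, (Z : Set Y) with hB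
  have hBclosed : IsClosed B := by
    apply Set.Finite.isClosed_biUnion (hfin.subset Set.inter_subset_left)
    intro Z _
    exact isClosed_of_mem_irreducibleComponents Z.1 Z.2
  have hyB : y ∉ B := by
    intro hy
    simp only [hB, Set.mem_iUnion] at hy
    obtain ⟨Z, ⟨-, hZne⟩, hyZ⟩ := hy
    haveI := hdom
    exact hZne (Groth.Agent.S9799.eq_of_mem_irreducibleComponents Y y Z.2 hZ₀mem hyZ hyZ₀)
  set Y₁ : Y.Opens := ⟨O ∩ Bᶜ, hO.inter hBclosed.isOpen_compl⟩ with hY₁
  have hyY₁ : y ∈ Y₁ := ⟨hyO, hyB⟩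
  have hsub : (Y₁ : Set Y) ⊆ Z₀ := by
    rintro p ⟨hpO, hpB⟩
    by_contra hpZ₀
    apply hpB
    have hZp : irreducibleComponent p ∈ irreducibleComponents Y :=
      irreducibleComponent_mem_irreducibleComponents p
    simp only [hB, Set.mem_iUnion]
    refine ⟨⟨irreducibleComponent p, hZp⟩, ⟨⟨p, mem_irreducibleComponent, hON hpO⟩, ?_⟩,
      mem_irreducibleComponent⟩
    intro he
    apply hpZ₀
    have : p ∈ irreducibleComponent p := mem_irreducibleComponent
    have he' : irreducibleComponent p = Z₀ := he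
    rwa [he'] at this
  have hirr : IsIrreducible (Y₁ : Set Y) :=
    ⟨⟨y, hyY₁⟩, hZ₀mem.1.isPreirreducible.open_subset Y₁.2 hsub⟩
  haveI : IrreducibleSpace ↥Y₁.toScheme := Subtype.irreducibleSpace hirr
  exact ⟨Y₁, hyY₁, isIntegral_of_irreducibleSpace_of_isReduced _⟩

/-- Statement-shaped: S5994. -/
theorem exists_section_nhd_of_closure_image_meets_fibre {X Y : Scheme.{u}} [IsReduced Y]
    (hcomp : LocallyFinite (fun Z : ↥(irreducibleComponents ↥Y) => (Z : Set ↥Y)))
    (f : X ⟶ Y) [IsSeparated f] [LocallyOfFiniteType f] [FormallyUnramified f]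
    (U : Y.Opens) (hU : Dense (U : Set ↥Y)) (u : (U : Scheme.{u}) ⟶ X) (hu : u ≫ f = U.ι)
    (y : Y) (hy : CAlg2.IsGeomUnibranch (Y.presheaf.stalk y))
    (hZ : (closure (Set.range u) ∩ f ⁻¹' {y}).Nonempty) :
    ∃ (V : Y.Opens) (v : (V : Scheme.{u}) ⟶ X), y ∈ V ∧ v ≫ f = V.ι ∧
      Y.homOfLE (inf_le_left : U ⊓ V ≤ U) ≫ u = Y.homOfLE (inf_le_right : U ⊓ V ≤ V) ≫ v := by
  obtain ⟨x, hx, hfx⟩ := hZ
  have hdom := UnramGeom.isDomain_of_isReduced_of_isGeomUnibranch _ hy
  obtain ⟨Y₁, hyY₁, hint⟩ := exists_integral_open_nhd hcomp y hdom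
  haveI := hint
  have hUY₁ : ((U : Set Y) ∩ (Y₁ : Set Y)).Nonempty := by
    obtain ⟨p, hp1, hp2⟩ := hU.inter_open_nonempty Y₁ Y₁.2 ⟨y, hyY₁⟩
    exact ⟨p, hp2, hp1⟩
  exact exists_section_nhd_of_integral_nhd f U u hu y hy Y₁ hyY₁ hUY₁ x hx hfx

/-- Statement-shaped: S5996. -/
theorem exists_section_nhd_of_image_closed_irreducible_closed {X Y : Scheme.{u}} [IsReduced Y]
    (hcomp : LocallyFinite (fun Z : ↥(irreducibleComponents ↥Y) => (Z : Set ↥Y)))
    (f : X ⟶ Y) [IsSeparated f] [LocallyOfFiniteType f] [FormallyUnramified f]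
    (U : Y.Opens) (hU : Dense (U : Set ↥Y)) (u : (U : Scheme.{u}) ⟶ X) (hu : u ≫ f = U.ι)
    (hcl : ∀ T : Set ↥X, IsClosed T → IsIrreducible T → IsClosed (f '' T))
    (y : Y) (hy : CAlg2.IsGeomUnibranch (Y.presheaf.stalk y)) :
    ∃ (V : Y.Opens) (v : (V : Scheme.{u}) ⟶ X), y ∈ V ∧ v ≫ f = V.ι ∧
      Y.homOfLE (inf_le_left : U ⊓ V ≤ U) ≫ u = Y.homOfLE (inf_le_right : U ⊓ V ≤ V) ≫ v := by
  have hdom := UnramGeom.isDomain_of_isReduced_of_isGeomUnibranch _ hy
  obtain ⟨Y₁, hyY₁, hint⟩ := exists_integral_open_nhd hcomp y hdom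
  haveI := hint
  have hUY₁ : ((U : Set Y) ∩ (Y₁ : Set Y)).Nonempty := by
    obtain ⟨p, hp1, hp2⟩ := hU.inter_open_nonempty Y₁ Y₁.2 ⟨y, hyY₁⟩
    exact ⟨p, hp2, hp1⟩
  set η := (genericPoint Y₁.toScheme).1 with hη
  have hηU : η ∈ U := genericPoint_mem_of_inter_nonempty Y₁ U U.2 hUY₁
  have hηy : η ⤳ y := by
    have h2 : genericPoint Y₁.toScheme ⤳ (⟨y, hyY₁⟩ : Y₁) := genericPoint_specializes _
    exact (subtype_specializes_iff (p := fun a => a ∈ Y₁) (genericPoint Y₁.toScheme)
      ⟨y, hyY₁⟩).mp h2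
  set T : Set X := closure {u ⟨η, hηU⟩} with hT
  have hTcl : IsClosed (f '' T) := hcl T isClosed_closure isIrreducible_singleton.closure
  have hfu : f (u ⟨η, hηU⟩) = η := by
    rw [← Scheme.Hom.comp_apply, hu]
    rfl
  have hηT : η ∈ f '' T := ⟨u ⟨η, hηU⟩, subset_closure rfl, hfu⟩
  have hyT : y ∈ f '' T := by
    have : closure {η} ⊆ f '' T := closure_minimal (Set.singleton_subset_iff.mpr hηT) hTcl
    exact this (specializes_iff_mem_closure.mp hηy)
  obtain ⟨x, hxT, hfx⟩ := hyT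
  have hx : x ∈ closure (Set.range u) :=
    closure_mono (Set.singleton_subset_iff.mpr (Set.mem_range_self (f := u) ⟨η, hηU⟩)) hxT
  exact exists_section_nhd_of_integral_nhd f U u hu y hy Y₁ hyY₁ hUY₁ x hx hfx

/-- Statement-shaped: S5995. -/
theorem isClopen_range_section_of_maximal_of_geomUnibranch {X Y : Scheme.{u}} [IsReduced Y]
    (hcomp : LocallyFinite (fun Z : ↥(irreducibleComponents ↥Y) => (Z : Set ↥Y)))
    (f : X ⟶ Y) [IsSeparated f] [LocallyOfFiniteType f] [FormallyUnramified f]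
    (U : Y.Opens) (hU : Dense (U : Set ↥Y)) (u : (U : Scheme.{u}) ⟶ X) (hu : u ≫ f = U.ι)
    (hY : ∀ y : Y, CAlg2.IsGeomUnibranch (Y.presheaf.stalk y))
    (hmax : ∀ (V : Y.Opens) (v : (V : Scheme.{u}) ⟶ X), v ≫ f = V.ι →
      Y.homOfLE (inf_le_left : U ⊓ V ≤ U) ≫ u = Y.homOfLE (inf_le_right : U ⊓ V ≤ V) ≫ v → V ≤ U) :
    IsOpen (Set.range u) ∧ IsClosed (Set.range u) := by
  constructor
  · -- `u` is an open immersion
    set T := f ⁻¹ᵁ U with hT
    have hrange : Set.range u ⊆ Set.range T.ι := by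
      rintro _ ⟨c, rfl⟩
      rw [Scheme.Opens.range_ι]
      show f (u c) ∈ U
      rw [← Scheme.Hom.comp_apply, hu]
      exact c.2
    set u'' := IsOpenImmersion.lift T.ι u hrange with hu''
    have hfac : u'' ≫ T.ι = u := IsOpenImmersion.lift_fac _ _ _
    have hsec : u'' ≫ f ∣_ U = 𝟙 _ := by
      rw [← cancel_mono U.ι, Category.assoc, morphismRestrict_ι, ← Category.assoc, hfac, hu,
        Category.id_comp]
    haveI : LocallyOfFiniteType (f ∣_ U) :=
      MorphismProperty.of_isPullback (P := @LocallyOfFiniteType)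
        (isPullback_morphismRestrict f U).flip inferInstance
    haveI : FormallyUnramified (f ∣_ U) :=
      MorphismProperty.of_isPullback (P := @FormallyUnramified)
        (isPullback_morphismRestrict f U).flip inferInstance
    haveI : IsOpenImmersion u'' :=
      Groth.Agent.Lib.Helper18.FiberUnram.isOpenImmersion_of_section (f ∣_ U) u'' hsec
    haveI : IsOpenImmersion u := by rw [← hfac]; infer_instance
    exact u.isOpenEmbedding.isOpen_range
  · rw [← closure_subset_iff_isClosed]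
    intro x hx
    obtain ⟨V, v, hyV, hv, hagree⟩ := exists_section_nhd_of_closure_image_meets_fibre hcomp f U hU
      u hu (f x) (hY _) ⟨x, hx, rfl⟩
    have hVU : V ≤ U := hmax V v hv hagree
    exact mem_range_of_mem_closure_range_section f U u hu x hx (hVU hyV)

end Groth.Agent.Lib.helper9.UnramSec
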