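/-
Helper library (helper9): w-local spectral spaces. In a w-local space, two distinct closed points
lie in different connected components, and every connected component contains a closed point.
-/
import Groth.Agent.Lib.Helper9.SpectralSub
import Groth.Agent.Lib.Helper9.SpectralT1
import Groth.Agent.Lib.Helper9.SpectralCons
import Mathlib.Topology.Connected.Clopen

set_option autoImplicit false

namespace Groth.Agent.Lib.helper9

open Topology TopologicalSpace Set

universe u

variable {X : Type u} [TopologicalSpace X]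

theorem mk_eq_of_specializes' {x x' : X} (h : x ⤳ x') :
    (ConnectedComponents.mk x' : ConnectedComponents X) = ConnectedComponents.mk x := by
  rw [ConnectedComponents.coe_eq_coe']
  have h1 : IsPreconnected (closure ({x} : Set X)) := isPreconnected_singleton.closure
  exact h1.subset_connectedComponent (subset_closure rfl) (specializes_iff_mem_closure.mp h)

theorem eq_of_specializes_of_isClosed_singleton {x y : X} (hx : IsClosed ({x} : Set X))
    (h : x ⤳ y) : y = x :=
  h.mem_closed hx rfl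

/-- In a w-local space, two closed points in the same connected component are equal. -/
theorem eq_of_isClosed_singleton_of_mk_eq [SpectralSpace X]
    (hc : IsClosed {x : X | IsClosed ({x} : Set X)})
    (hu : ∀ x : X, ∃! y : X, IsClosed ({y} : Set X) ∧ x ⤳ y)
    {x y : X} (hx : IsClosed ({x} : Set X)) (hy : IsClosed ({y} : Set X))
    (hxy : (ConnectedComponents.mk x : ConnectedComponents X) = ConnectedComponents.mk y) :
    x = y := by
  by_contra hne
  -- the subspace of closed points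
  let Xc : Set X := {x : X | IsClosed ({x} : Set X)}
  have : SpectralSpace Xc :=
    spectralSpace_of_isClosed_constructibleTopology (isClosed_constructibleTopology_of_isClosed hc)
  have hT1 : ∀ a b : Xc, a ⤳ b → a = b := by
    intro a b hab
    have h1 : (a : X) ⤳ (b : X) := hab.map continuous_subtype_val
    exact Subtype.ext (eq_of_specializes_of_isClosed_singleton a.2 h1).symm
  have : TotallySeparatedSpace Xc := totallySeparatedSpace_of_forall_specializes_eq hT1
  have hne' : (⟨x, hx⟩ : Xc) ≠ ⟨y, hy⟩ := fun h => hne (congrArg Subtype.val h)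
  obtain ⟨C, hC, hxC, hyC⟩ := exists_isClopen_of_totally_separated hne'
  -- the two closed pieces
  have hemb : IsClosedEmbedding (Subtype.val : Xc → X) := hc.isClosedEmbedding_subtypeVal
  let Z₁ : Set X := Subtype.val '' C
  let Z₂ : Set X := Subtype.val '' Cᶜ
  have hZ₁ : IsClosed Z₁ := hemb.isClosedMap _ hC.1
  have hZ₂ : IsClosed Z₂ := hemb.isClosedMap _ hC.2.isClosed_compl
  have hZ₁c : ∀ z ∈ Z₁, IsClosed ({z} : Set X) := by
    rintro _ ⟨z, -, rfl⟩
    exact z.2
  have hZ₂c : ∀ z ∈ Z₂, IsClosed ({z} : Set X) := by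
    rintro _ ⟨z, -, rfl⟩
    exact z.2
  have hZdisj : ∀ z, z ∈ Z₁ → z ∈ Z₂ → False := by
    rintro _ ⟨z, hz, rfl⟩ ⟨z', hz', h⟩
    have : z' = z := Subtype.ext h
    exact hz' (this ▸ hz)
  have hZcov : ∀ z, IsClosed ({z} : Set X) → z ∈ Z₁ ∨ z ∈ Z₂ := by
    intro z hz
    by_cases h : (⟨z, hz⟩ : Xc) ∈ C
    · exact Or.inl ⟨⟨z, hz⟩, h, rfl⟩
    · exact Or.inr ⟨⟨z, hz⟩, h, rfl⟩
  -- the sets of generalizations
  let W₁ : Set X := {w | ∃ z ∈ Z₁, w ⤳ z}
  let W₂ : Set X := {w | ∃ z ∈ Z₂, w ⤳ z}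
  have hWclosed : ∀ Z : Set X, IsClosed Z → (∀ z ∈ Z, IsClosed ({z} : Set X)) →
      IsClosed {w | ∃ z ∈ Z, w ⤳ z} := by
    intro Z hZ hZc
    apply isClosed_of_isClosed_constructibleTopology_of_stableUnderSpecialization
    · rw [setOf_generalizations_eq_sInter hZ.isCompact]
      apply @isClosed_sInter X (constructibleTopology X)
      rintro U ⟨hUo, hUc, -⟩
      exact (isClopen_constructibleTopology hUo hUc).1
    · rintro w w' hww' ⟨z, hzZ, hwz⟩
      obtain ⟨c', ⟨hc'1, hc'2⟩, -⟩ := hu w'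
      have h1 : w ⤳ c' := hww'.trans hc'2
      obtain ⟨c, -, hcu⟩ := hu w
      have e1 : c' = c := hcu c' ⟨hc'1, h1⟩
      have e2 : z = c := hcu z ⟨hZc z hzZ, hwz⟩
      exact ⟨z, hzZ, by rw [e2, ← e1]; exact hc'2⟩
  have hW₁ : IsClosed W₁ := hWclosed Z₁ hZ₁ hZ₁c
  have hW₂ : IsClosed W₂ := hWclosed Z₂ hZ₂ hZ₂c
  have hWcompl : W₁ᶜ = W₂ := by
    ext w
    constructor
    · intro hw
      obtain ⟨c, ⟨hc1, hc2⟩, -⟩ := hu w
      rcases hZcov c hc1 with h | h
      · exact absurd ⟨c, h, hc2⟩ hw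
      · exact ⟨c, h, hc2⟩
    · rintro ⟨z₂, hz₂, hwz₂⟩ ⟨z₁, hz₁, hwz₁⟩
      obtain ⟨c, -, hcu⟩ := hu w
      have e1 : z₁ = c := hcu z₁ ⟨hZ₁c z₁ hz₁, hwz₁⟩
      have e2 : z₂ = c := hcu z₂ ⟨hZ₂c z₂ hz₂, hwz₂⟩
      exact hZdisj z₁ hz₁ (e1 ▸ e2 ▸ hz₂)
  have hW₁clopen : IsClopen W₁ := ⟨hW₁, by rw [← isClosed_compl_iff, hWcompl]; exact hW₂⟩
  have hxW : x ∈ W₁ := ⟨x, ⟨⟨x, hx⟩, hxC, rfl⟩, specializes_rfl⟩
  have hyW : y ∈ W₂ := ⟨y, ⟨⟨y, hy⟩, hyC, rfl⟩, specializes_rfl⟩
  have hyW₁ : y ∈ W₁ := by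
    have h1 : connectedComponent x ⊆ W₁ := hW₁clopen.connectedComponent_subset hxW
    exact h1 (ConnectedComponents.coe_eq_coe'.mp hxy.symm)
  rw [← hWcompl] at hyW
  exact hyW hyW₁

/-- In a w-local space, every point of `π₀` is the class of a closed point. -/
theorem exists_isClosed_singleton_mk_eq
    (hu : ∀ x : X, ∃! y : X, IsClosed ({y} : Set X) ∧ x ⤳ y) (c : ConnectedComponents X) :
    ∃ y : X, IsClosed ({y} : Set X) ∧ ConnectedComponents.mk y = c := by
  obtain ⟨x, rfl⟩ := ConnectedComponents.surjective_coe c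
  obtain ⟨y, ⟨hy1, hy2⟩, -⟩ := hu x
  exact ⟨y, hy1, mk_eq_of_specializes' hy2⟩

end Groth.Agent.Lib.helper9
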