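/-
Helper library (helper9): weightings and affineness of the maximal locus, part 1.
Elementary lemmas on fibre integrals: restriction to opens, additivity, positivity.
-/
import Mathlib
import Groth.Prelude.Def_MoreMor
import Groth.Agent.Lib.Helper13.EL8

set_option autoImplicit false
set_option linter.style.haveILetI false
set_option backward.isDefEq.respectTransparency false

namespace Groth.Agent.Lib.helper9.WtAff

open AlgebraicGeometry CategoryTheory Limits Groth.Agent.Lib.helper13

universe u

variable {P V : Scheme.{u}} (π : P ⟶ V) (ω : P → ℤ)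

/-- The summand of the fibre integral. -/
noncomputable def term (p : P) : ℤ :=
  ω p * (letI := (π.residueFieldMap p).hom.toAlgebra
    (Field.finSepDegree (V.residueField (π p)) (P.residueField p) : ℤ))

theorem fibreIntegral_eq_finsum_mem (v : V) :
    MoreMor.fibreIntegral π ω v = ∑ᶠ p ∈ π ⁻¹' {v}, term π ω p := by
  unfold MoreMor.fibreIntegral
  exact finsum_set_coe_eq_finsum_mem (s := π ⁻¹' {v}) (f := term π ω)

theorem term_ι (U : P.Opens) (t : U.toScheme) :
    term (U.ι ≫ π) (fun t => ω (U.ι t)) t = term π ω (U.ι t) := by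
  unfold term
  congr 1
  let a1 : Algebra (V.residueField (π (U.ι t))) (U.toScheme.residueField t) :=
    ((U.ι ≫ π).residueFieldMap t).hom.toAlgebra
  let a2 : Algebra (V.residueField (π (U.ι t))) (P.residueField (U.ι t)) :=
    (π.residueFieldMap (U.ι t)).hom.toAlgebra
  let E : (P.residueField (U.ι t)) ≃ₐ[V.residueField (π (U.ι t))] (U.toScheme.residueField t) :=
    { (asIso (U.ι.residueFieldMap t)).commRingCatIsoToRingEquiv with
      commutes' := fun x => by
        change (U.ι.residueFieldMap t).hom ((π.residueFieldMap (U.ι t)).hom x) =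
          ((U.ι ≫ π).residueFieldMap t).hom x
        rw [Scheme.residueFieldMap_comp]
        rfl }
  exact congrArg _ (Field.finSepDegree_eq_of_equiv _ _ _ E).symm

theorem fibreIntegral_ι (U : P.Opens) (v : V) :
    MoreMor.fibreIntegral (U.ι ≫ π) (fun t => ω (U.ι t)) v =
      ∑ᶠ p ∈ π ⁻¹' {v} ∩ (U : Set P), term π ω p := by
  unfold MoreMor.fibreIntegral
  let φ : {t : U.toScheme // (U.ι ≫ π) t = v} → P := fun t => U.ι t.1
  have hφ : Function.Injective φ := fun a b hab =>
    Subtype.ext (U.ι.isOpenEmbedding.injective hab)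
  have hr : Set.range φ = π ⁻¹' {v} ∩ (U : Set P) := by
    ext p
    constructor
    · rintro ⟨t, rfl⟩
      exact ⟨t.2, t.1.2⟩
    · rintro ⟨h1, h2⟩
      exact ⟨⟨⟨p, h2⟩, h1⟩, rfl⟩
  rw [← hr, finsum_mem_range hφ]
  exact finsum_congr fun t => term_ι π ω U t.1

/-- Additivity of the fibre integral over a decomposition into two disjoint opens. -/
theorem fibreIntegral_add (U W : P.Opens) (hdisj : Disjoint (U : Set P) (W : Set P))
    (hcov : (U : Set P) ∪ (W : Set P) = Set.univ) (v : V) (hfin : (π ⁻¹' {v}).Finite) :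
    MoreMor.fibreIntegral π ω v =
      MoreMor.fibreIntegral (U.ι ≫ π) (fun t => ω (U.ι t)) v +
        MoreMor.fibreIntegral (W.ι ≫ π) (fun t => ω (W.ι t)) v := by
  rw [fibreIntegral_eq_finsum_mem, fibreIntegral_ι, fibreIntegral_ι,
    ← finsum_mem_union (hdisj.mono Set.inter_subset_right Set.inter_subset_right)
      (hfin.subset Set.inter_subset_left) (hfin.subset Set.inter_subset_left),
    ← Set.inter_union_distrib_left, hcov, Set.inter_univ]

theorem term_pos [LocallyQuasiFinite π] (p : P) (hp : 0 < ω p) : 0 < term π ω p := by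
  unfold term
  refine mul_pos hp ?_
  letI := (π.residueFieldMap p).hom.toAlgebra
  have : Module.Finite (V.residueField (π p)) (P.residueField p) :=
    EL.finite_residueFieldMap_of_quasiFiniteAt (π.quasiFiniteAt p)
  exact_mod_cast Nat.pos_of_ne_zero (NeZero.ne _)

theorem fibreIntegral_pos [LocallyQuasiFinite π] (hpos : ∀ p, 0 < ω p) (v : V)
    (hfin : (π ⁻¹' {v}).Finite) (p : P) (hp : π p = v) : 0 < MoreMor.fibreIntegral π ω v := by
  rw [fibreIntegral_eq_finsum_mem]
  exact finsum_cond_pos (fun q _ => (term_pos π ω q (hpos q)).le)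
    ⟨p, hp, term_pos π ω p (hpos p)⟩ (hfin.subset Set.inter_subset_right)

theorem fibreIntegral_nonneg [LocallyQuasiFinite π] (hpos : ∀ p, 0 < ω p) (v : V) :
    0 ≤ MoreMor.fibreIntegral π ω v := by
  rw [fibreIntegral_eq_finsum_mem]
  exact finsum_nonneg fun q => finsum_nonneg fun _ => (term_pos π ω q (hpos q)).le

theorem fibreIntegral_eq_zero_of_isEmpty (v : V) (h : π ⁻¹' {v} = ∅) :
    MoreMor.fibreIntegral π ω v = 0 := by
  rw [fibreIntegral_eq_finsum_mem, h, finsum_mem_empty]

end Groth.Agent.Lib.helper9.WtAff
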