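/-
Helper library (helper9): weightings and affineness of the maximal locus, part 2.
Étale-local splitting of a separated quasi-finite morphism with a weighting: a finite part
containing the whole fibre, on which the fibre integral is constant, and a clopen complement.
-/
import Groth.Agent.Lib.Helper9.WtAff1
import Groth.Agent.Lib.Helper13.WT7
import Groth.Agent.Lib.Helper13.WT8
import Groth.Agent.Lib.Helper13.WT9
import Groth.Agent.S1418

set_option autoImplicit false
set_option linter.style.haveILetI false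
set_option backward.isDefEq.respectTransparency false

namespace Groth.Agent.Lib.helper9.WtAff

open AlgebraicGeometry CategoryTheory Limits Groth.Agent.Lib.helper13

universe u

/-- Base changes of morphisms with finite fibres have finite fibres. -/
theorem finite_fibre_snd {X Y V : Scheme.{u}} (f : X ⟶ Y) [LocallyQuasiFinite f]
    [LocallyOfFiniteType f] (hfin : ∀ y : Y, (f ⁻¹' {y}).Finite) (g : V ⟶ Y) (v : V) :
    ((pullback.snd f g) ⁻¹' {v}).Finite :=
  WT.finite_fibre_of_isPullback (IsPullback.of_hasPullback f g) v (hfin _)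
    (fun p => EL.finite_residueFieldMap_of_quasiFiniteAt (f.quasiFiniteAt p))
    (fun p => EL.finite_residueFieldMap_of_quasiFiniteAt ((pullback.snd f g).quasiFiniteAt p))

theorem exists_etale_nbhd_split {X Y : Scheme.{u}} (f : X ⟶ Y) [LocallyQuasiFinite f]
    [LocallyOfFiniteType f] [IsSeparated f] (hfin : ∀ y : Y, (f ⁻¹' {y}).Finite)
    (w : X → ℤ) (hw : MoreMor.IsWeighting f w) (y : Y) :
    ∃ (V : Scheme.{u}) (gV : V ⟶ Y) (v₀ : V), Etale gV ∧ IsAffine V ∧ gV v₀ = y ∧
      ∃ (U W : (pullback f gV).Opens),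
        Disjoint (U : Set ↑(pullback f gV)) (W : Set ↑(pullback f gV)) ∧
        (U : Set ↑(pullback f gV)) ∪ (W : Set ↑(pullback f gV)) = Set.univ ∧
        IsFinite (U.ι ≫ pullback.snd f gV) ∧
        (∀ p, pullback.snd f gV p = v₀ → p ∈ U) ∧
        ∀ v : V, MoreMor.fibreIntegral (U.ι ≫ pullback.snd f gV)
          (fun t => w (pullback.fst f gV (U.ι t))) v = MoreMor.fibreIntegral f w y := by
  classical
  -- enumerate the fibre
  have : Finite (f ⁻¹' {y}) := (hfin y).to_subtype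
  let n := Nat.card (f ⁻¹' {y})
  let eX : (f ⁻¹' {y}) ≃ Fin n := Finite.equivFin _
  let x : Fin n → X := fun i ↦ (eX.symm i).1
  have hxs : ∀ i, f (x i) = y := fun i ↦ (eX.symm i).2
  have hxsurj : ∀ p, f p = y → ∃ i, x i = p := fun p hp ↦ ⟨eX ⟨p, hp⟩, by simp [x]⟩
  obtain ⟨V₀, g, u, hg, hgu, hbij, Vi, vi, hgood⟩ :=
    EL.exists_etale_nbhd_of_quasiFiniteAt_finite (f := f) y x hxs
      (fun i ↦ f.quasiFiniteAt (x i))
  obtain ⟨π, hπ⟩ : ∃ π : pullback f g ⟶ V₀, π = pullback.snd f g := ⟨_, rfl⟩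
  -- the finite part
  let U₀ : (pullback f g).Opens := ⨆ i, Vi i
  have hU₀mem : ∀ p, p ∈ U₀ ↔ ∃ i, p ∈ Vi i := fun p => by
    simp only [U₀, TopologicalSpace.Opens.mem_iSup]
  have hU₀cl : IsClosed (U₀ : Set ↑(pullback f g)) := by
    have h1 : (U₀ : Set ↑(pullback f g)) = ⋃ i, (Vi i : Set ↑(pullback f g)) := by
      ext p
      simp only [SetLike.mem_coe, hU₀mem, Set.mem_iUnion]
    rw [h1]
    exact isClosed_iUnion_of_finite fun i => (hgood i).closed inferInstance
  have hU₀u : ∀ p, π p = u → p ∈ U₀ := by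
    intro p hp
    have h1 : f (pullback.fst f g p) = y := by
      rw [← Scheme.Hom.comp_apply, pullback.condition, Scheme.Hom.comp_apply, ← hπ, hp, hgu]
    obtain ⟨i, hi⟩ := hxsurj _ h1
    have h2 : p = vi i := by
      refine EL.eq_of_fst_eq_of_snd_eq ?_ ?_ ?_
      · rw [← hπ, hp]; exact hbij
      · rw [(hgood i).fst_eq, hi]
      · rw [(hgood i).snd_eq, ← hπ, hp]
    rw [hU₀mem]
    exact ⟨i, h2 ▸ (hgood i).mem⟩
  -- finiteness of the finite part
  have hU₀fin : IsFinite (U₀.ι ≫ pullback.snd f g) := by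
    have hUC : UniversallyClosed (U₀.ι ≫ pullback.snd f g) := by
      refine WT.universallyClosed_of_finite_cover (U₀.ι ≫ pullback.snd f g)
        (fun i => U₀.ι ⁻¹ᵁ Vi i) (fun i => ?_) (fun p => ?_)
      · have himg : U₀.ι ''ᵁ (U₀.ι ⁻¹ᵁ Vi i) = Vi i := by
          rw [Scheme.Hom.image_preimage_eq_opensRange_inf, Scheme.Opens.opensRange_ι]
          exact inf_eq_right.mpr (le_iSup Vi i)
        have h1 : (U₀.ι ⁻¹ᵁ Vi i).ι ≫ U₀.ι ≫ pullback.snd f g =
            (U₀.ι.isoImage (U₀.ι ⁻¹ᵁ Vi i)).hom ≫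
              (U₀.ι ''ᵁ (U₀.ι ⁻¹ᵁ Vi i)).ι ≫ pullback.snd f g := by
          rw [← Category.assoc, ← Scheme.Hom.isoImage_hom_ι, Category.assoc]
        rw [h1]
        have h2 : IsFinite ((U₀.ι ''ᵁ (U₀.ι ⁻¹ᵁ Vi i)).ι ≫ pullback.snd f g) := by
          rw [himg]; exact (hgood i).finite
        infer_instance
      · obtain ⟨i, hi⟩ := (hU₀mem (U₀.ι p)).mp p.2
        exact ⟨i, hi⟩
    haveI : IsProper (U₀.ι ≫ pullback.snd f g) :=
      { toIsSeparated := inferInstance
        toUniversallyClosed := hUC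
        toLocallyOfFiniteType := inferInstance }
    exact IsFinite.of_isProper_of_locallyQuasiFinite _
  -- the complement
  let W₀ : (pullback f g).Opens := ⟨(U₀ : Set ↑(pullback f g))ᶜ, hU₀cl.isOpen_compl⟩
  -- local constancy
  let G : V₀ → ℤ := MoreMor.fibreIntegral (U₀.ι ≫ pullback.snd f g)
    (fun t => w (pullback.fst f g (U₀.ι t)))
  have hG : IsLocallyConstant G := hw V₀ g U₀ hU₀fin
  have hGu : G u = MoreMor.fibreIntegral f w y := by
    have h1 := Groth.Agent.S1418.result f hfin (pullback.snd f g) (pullback.fst f g) g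
      (IsPullback.of_hasPullback f g) w u
    rw [hgu] at h1
    rw [← h1]
    have h2 := fibreIntegral_add (pullback.snd f g) (w ∘ ⇑(pullback.fst f g)) U₀ W₀
      (by
        show Disjoint (U₀ : Set ↑(pullback f g)) (U₀ : Set ↑(pullback f g))ᶜ
        exact disjoint_compl_right)
      (by
        show (U₀ : Set ↑(pullback f g)) ∪ (U₀ : Set ↑(pullback f g))ᶜ = Set.univ
        exact Set.union_compl_self _) u (finite_fibre_snd f hfin g u)
    rw [h2]
    have h3 : MoreMor.fibreIntegral (W₀.ι ≫ pullback.snd f g)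
        (fun t => (w ∘ ⇑(pullback.fst f g)) (W₀.ι t)) u = 0 := by
      apply fibreIntegral_eq_zero_of_isEmpty
      rw [Set.eq_empty_iff_forall_notMem]
      intro t ht
      have ht' : π (W₀.ι t) = u := by rw [hπ]; exact ht
      exact t.2 (hU₀u _ ht')
    rw [h3, add_zero]
    rfl
  -- shrink
  have hNopen : IsOpen (G ⁻¹' {G u}) := hG.isOpen_fiber _
  obtain ⟨V, hV, huV, hVN⟩ : ∃ V : V₀.Opens, IsAffineOpen V ∧ u ∈ V ∧
      (V : Set V₀) ⊆ G ⁻¹' {G u} := by
    obtain ⟨_, ⟨V, hV, rfl⟩, huV, hVN⟩ := V₀.isBasis_affineOpens.exists_subset_of_mem_open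
      (show u ∈ G ⁻¹' {G u} from rfl) hNopen
    exact ⟨V, hV, huV, hVN⟩
  haveI : IsAffine V.toScheme := hV
  refine ⟨V.toScheme, V.ι ≫ g, ⟨u, huV⟩, inferInstance, inferInstance, hgu,
    (EL.refineMap f g V.ι (V.ι ≫ g) rfl) ⁻¹ᵁ U₀, (EL.refineMap f g V.ι (V.ι ≫ g) rfl) ⁻¹ᵁ W₀,
    ?_, ?_, EL.isFinite_refine f g V.ι (V.ι ≫ g) rfl U₀ hU₀fin, ?_, ?_⟩
  · rw [Set.disjoint_left]
    intro p hp hp'
    exact hp' hp
  · ext p
    simp only [Set.mem_union, Set.mem_univ, iff_true]
    by_cases hp : EL.refineMap f g V.ι (V.ι ≫ g) rfl p ∈ U₀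
    · exact Or.inl hp
    · exact Or.inr hp
  · intro p hp
    apply hU₀u
    rw [hπ, EL.refineMap_snd_apply, hp]
    rfl
  · intro v
    rw [WT.fibreIntegral_refine f w g V.ι (V.ι ≫ g) rfl U₀ hU₀fin v]
    have : V.ι v ∈ G ⁻¹' {G u} := hVN v.2
    exact this.trans hGu

end Groth.Agent.Lib.helper9.WtAff
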