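/-
Helper library (helper9): weightings and affineness of the maximal locus, part 3.
Étale-local criterion for an open immersion to be affine; the maximal locus of the fibre integral
of a positive weighting on a quasi-finite morphism of affine schemes is affine.
-/
import Groth.Agent.Lib.Helper9.WtAff2
import Groth.Agent.Lib.Helper9.ChevAff2
import Groth.Agent.Lib.Helper4.AffineDescent
import Groth.Agent.S1419
import Groth.Agent.S7185
import Groth.Agent.S1428

set_option autoImplicit false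
set_option linter.style.haveILetI false
set_option backward.isDefEq.respectTransparency false

namespace Groth.Agent.Lib.helper9.WtAff

open AlgebraicGeometry CategoryTheory Limits Groth.Agent.Lib.helper13

universe u

/-- If an open `A` of `X` becomes affine over `P` after pulling back along an étale morphism
`q : P ⟶ X`, then `A ⟶ X` is affine over the (open) image of `q`. -/
theorem exists_isAffineHom_morphismRestrict {X P : Scheme.{u}} (A : X.Opens) (q : P ⟶ X)
    [Etale q] (h : IsAffineHom (q ⁻¹ᵁ A).ι) (x : X) (hx : x ∈ Set.range q) :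
    ∃ O : X.Opens, x ∈ O ∧ IsAffineHom (A.ι ∣_ O) := by
  let O : X.Opens := ⟨Set.range q, q.isOpenMap.isOpen_range⟩
  refine ⟨O, hx, ?_⟩
  have hrange : Set.range q ⊆ Set.range O.ι := by
    rw [Scheme.Opens.range_ι]
    exact subset_rfl
  obtain ⟨q', hq'⟩ : ∃ q' : P ⟶ O.toScheme, q' ≫ O.ι = q :=
    ⟨IsOpenImmersion.lift O.ι q hrange, IsOpenImmersion.lift_fac _ _ _⟩
  haveI : Etale (q' ≫ O.ι) := hq' ▸ inferInstance
  haveI : Etale q' := Etale.of_comp q' O.ι
  have hqsurj : Surjective q' := by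
    refine ⟨fun o ↦ ?_⟩
    obtain ⟨p, hp⟩ := o.2
    refine ⟨p, ?_⟩
    apply O.ι.isOpenEmbedding.injective
    rw [← Scheme.Hom.comp_apply, hq']
    exact hp
  have sqR := (isPullback_morphismRestrict A.ι O).flip
  have sqB := isPullback_morphismRestrict q A
  obtain ⟨t, ht1, ht2⟩ : ∃ t : (q ⁻¹ᵁ A).toScheme ⟶ (A.ι ⁻¹ᵁ O).toScheme,
      t ≫ (A.ι ⁻¹ᵁ O).ι = q ∣_ A ∧ t ≫ (A.ι ∣_ O) = (q ⁻¹ᵁ A).ι ≫ q' :=
    ⟨sqR.lift (q ∣_ A) ((q ⁻¹ᵁ A).ι ≫ q') (by rw [sqB.w, Category.assoc, hq']),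
      sqR.lift_fst _ _ _, sqR.lift_snd _ _ _⟩
  have sqD : IsPullback t (q ⁻¹ᵁ A).ι (A.ι ∣_ O) q' := by
    refine IsPullback.of_right (h₁₂ := (A.ι ⁻¹ᵁ O).ι) (h₂₂ := O.ι) (v₁₃ := A.ι) ?_ ht2 sqR
    rw [ht1, hq']
    exact sqB
  exact MorphismProperty.of_isPullback_of_descendsAlong (P := @IsAffineHom)
    (Q := @Surjective ⊓ @Flat ⊓ @LocallyOfFinitePresentation) sqD.flip
    ⟨⟨hqsurj, inferInstance⟩, inferInstance⟩ h

/-- The inductive step: étale-locally on `X` the inclusion of the preimage of the maximal locus is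
affine, given the result for smaller maxima. -/
theorem step (n : ℕ)
    (ih : ∀ m < n, ∀ {X Y : Scheme.{u}} (f : X ⟶ Y) [LocallyQuasiFinite f] [LocallyOfFiniteType f]
      [IsAffine X] [IsAffine Y] (w : X → ℤ), MoreMor.IsWeighting f w → (∀ x, 0 < w x) →
      (∀ y, MoreMor.fibreIntegral f w y ≤ m) → ∀ Yd : Y.Opens,
      (∀ y, y ∈ Yd ↔ MoreMor.fibreIntegral f w y = m) → IsAffineOpen Yd)
    {X Y : Scheme.{u}} (f : X ⟶ Y) [LocallyQuasiFinite f] [LocallyOfFiniteType f]
    [IsAffine X] [IsAffine Y] (w : X → ℤ) (hw : MoreMor.IsWeighting f w) (hpos : ∀ x, 0 < w x)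
    (hmax : ∀ y, MoreMor.fibreIntegral f w y ≤ n) (Yd : Y.Opens)
    (hYd : ∀ y, y ∈ Yd ↔ MoreMor.fibreIntegral f w y = n) (x : X) :
    ∃ O : X.Opens, x ∈ O ∧ IsAffineHom ((f ⁻¹ᵁ Yd).ι ∣_ O) := by
  have hfin : ∀ y : Y, (f ⁻¹' {y}).Finite := fun y => f.finite_preimage_singleton y
  obtain ⟨e, he⟩ : ∃ e : ℤ, e = MoreMor.fibreIntegral f w (f x) := ⟨_, rfl⟩
  have he1 : 0 < e := he ▸ fibreIntegral_pos f w hpos (f x) (hfin _) x rfl
  have he2 : e ≤ n := he ▸ hmax (f x)
  obtain ⟨V, gV, v₀, hgV, hVaff, hgv, U, W, hdisj, hcov, hUfin, hUv₀, hUconst⟩ :=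
    exists_etale_nbhd_split f hfin w hw (f x)
  -- `W` is clopen, hence affine
  have hWcl : IsClosed (W : Set ↑(pullback f gV)) := by
    have h1 : (W : Set ↑(pullback f gV)) = (U : Set ↑(pullback f gV))ᶜ := by
      ext p
      constructor
      · intro hp hp'
        exact Set.disjoint_left.mp hdisj hp' hp
      · intro hp
        have : p ∈ (U : Set ↑(pullback f gV)) ∪ (W : Set ↑(pullback f gV)) := hcov ▸ Set.mem_univ p
        exact this.resolve_left hp
    rw [h1]
    exact U.2.isClosed_compl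
  haveI : IsClosedImmersion W.ι :=
    IsClosedImmersion.of_isPreimmersion _ (by rw [Scheme.Opens.range_ι]; exact hWcl)
  haveI : IsAffine W.toScheme := isAffine_of_isAffineHom W.ι
  -- the weighting on `W`
  have hw1 : MoreMor.IsWeighting (pullback.snd f gV) (w ∘ ⇑(pullback.fst f gV)) :=
    Groth.Agent.S1419.result f w hw (pullback.snd f gV) (pullback.fst f gV) gV
      (IsPullback.of_hasPullback f gV)
  have hw2 : MoreMor.IsWeighting (W.ι ≫ pullback.snd f gV)
      (fun t => (w ∘ ⇑(pullback.fst f gV)) (W.ι t)) :=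
    Groth.Agent.S7185.result (pullback.snd f gV) _ hw1 W
  -- the integral on `W`
  have hW : ∀ v : V, MoreMor.fibreIntegral (W.ι ≫ pullback.snd f gV)
      (fun t => (w ∘ ⇑(pullback.fst f gV)) (W.ι t)) v =
      MoreMor.fibreIntegral f w (gV v) - e := by
    intro v
    have hadd := fibreIntegral_add (pullback.snd f gV) (w ∘ ⇑(pullback.fst f gV)) U W hdisj hcov v
      (finite_fibre_snd f hfin gV v)
    have hbc := Groth.Agent.S1418.result f hfin (pullback.snd f gV) (pullback.fst f gV) gV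
      (IsPullback.of_hasPullback f gV) w v
    have hU := hUconst v
    rw [← he] at hU
    have hU' : MoreMor.fibreIntegral (U.ι ≫ pullback.snd f gV)
        (fun t => (w ∘ ⇑(pullback.fst f gV)) (U.ι t)) v = e := hU
    rw [hbc, hU'] at hadd
    linarith
  -- apply the induction hypothesis
  obtain ⟨m, hm⟩ : ∃ m : ℕ, (m : ℤ) = n - e := ⟨(n - e).toNat, Int.toNat_of_nonneg (by linarith)⟩
  have hmn : m < n := by
    have : (m : ℤ) < n := by rw [hm]; linarith
    exact_mod_cast this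
  have hVd : IsAffineOpen (gV ⁻¹ᵁ Yd) := by
    refine ih m hmn (W.ι ≫ pullback.snd f gV) _ hw2 (fun t => hpos _) (fun v => ?_) (gV ⁻¹ᵁ Yd)
      (fun v => ?_)
    · rw [hW v, hm]
      linarith [hmax (gV v)]
    · rw [hW v, hm]
      show gV v ∈ Yd ↔ _
      rw [hYd]
      constructor
      · intro h; rw [h]
      · intro h; linarith
  -- conclude by descent
  have hpre : (pullback.fst f gV) ⁻¹ᵁ (f ⁻¹ᵁ Yd) = (pullback.snd f gV) ⁻¹ᵁ (gV ⁻¹ᵁ Yd) := by
    rw [← Scheme.Hom.comp_preimage, ← Scheme.Hom.comp_preimage, pullback.condition]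
  have haffopen : IsAffineOpen ((pullback.fst f gV) ⁻¹ᵁ (f ⁻¹ᵁ Yd)) := by
    rw [hpre]
    exact hVd.preimage (pullback.snd f gV)
  haveI : IsAffine ((pullback.fst f gV) ⁻¹ᵁ (f ⁻¹ᵁ Yd)).toScheme := haffopen
  have haffhom : IsAffineHom ((pullback.fst f gV) ⁻¹ᵁ (f ⁻¹ᵁ Yd)).ι := inferInstance
  obtain ⟨p, hp1, -⟩ := Scheme.Pullback.exists_preimage_pullback x v₀ hgv.symm
  exact exists_isAffineHom_morphismRestrict (f ⁻¹ᵁ Yd) (pullback.fst f gV) haffhom x ⟨p, hp1⟩

/-- The preimage of the maximal locus is affine over `X` when `X` and `Y` are affine. -/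
theorem isAffineOpen_max_locus (n : ℕ) : ∀ {X Y : Scheme.{u}} (f : X ⟶ Y) [LocallyQuasiFinite f]
    [LocallyOfFiniteType f] [IsAffine X] [IsAffine Y] (w : X → ℤ), MoreMor.IsWeighting f w →
    (∀ x, 0 < w x) → (∀ y, MoreMor.fibreIntegral f w y ≤ n) → ∀ Yd : Y.Opens,
    (∀ y, y ∈ Yd ↔ MoreMor.fibreIntegral f w y = n) → IsAffineOpen Yd := by
  induction n using Nat.strong_induction_on with
  | _ n ih =>
  intro X Y f _ _ _ _ w hw hpos hmax Yd hYd
  have hfin : ∀ y : Y, (f ⁻¹' {y}).Finite := fun y => f.finite_preimage_singleton y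
  by_cases hatt : ∃ y, MoreMor.fibreIntegral f w y = n
  swap
  · have h0 : Yd = ⊥ := by
      ext y
      simp only [SetLike.mem_coe, hYd, TopologicalSpace.Opens.coe_bot, Set.mem_empty_iff_false,
        iff_false]
      exact fun h => hatt ⟨y, h⟩
    rw [h0]
    exact isAffineOpen_bot Y
  by_cases hn : n = 0
  · subst hn
    have h0 : Yd = ⊤ := by
      ext y
      simp only [SetLike.mem_coe, hYd, TopologicalSpace.Opens.coe_top, Set.mem_univ, iff_true]
      exact le_antisymm (hmax y) (fibreIntegral_nonneg f w hpos y)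
    rw [h0]
    exact isAffineOpen_top Y
  obtain ⟨hYopen, hfinite⟩ := Groth.Agent.S1428.result f hfin w hw hpos n hmax hatt
  have hYdeq : Yd = ⟨{y | MoreMor.fibreIntegral f w y = n}, hYopen⟩ := by
    ext y
    exact hYd y
  haveI : IsFinite (f ∣_ Yd) := by rw [hYdeq]; exact hfinite
  have haff : IsAffineHom (f ⁻¹ᵁ Yd).ι :=
    IsZariskiLocalAtTarget.of_forall_exists_morphismRestrict (P := @IsAffineHom)
      (fun x => step n ih f w hw hpos hmax Yd hYd x)
  haveI : IsAffine (f ⁻¹ᵁ Yd).toScheme := isAffine_of_isAffineHom (f ⁻¹ᵁ Yd).ι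
  haveI : Surjective (f ∣_ Yd) := by
    refine ⟨fun y => ?_⟩
    have hy : MoreMor.fibreIntegral f w y.1 = n := (hYd y.1).mp y.2
    have hne : (f ⁻¹' {y.1}).Nonempty := by
      by_contra hempty
      rw [Set.not_nonempty_iff_eq_empty] at hempty
      have := fibreIntegral_eq_zero_of_isEmpty f w y.1 hempty
      rw [hy] at this
      exact hn (by exact_mod_cast this)
    obtain ⟨x, hx⟩ := hne
    have hx' : f x = y.1 := hx
    refine ⟨⟨x, by show f x ∈ Yd; rw [hx']; exact y.2⟩, ?_⟩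
    apply Yd.ι.isOpenEmbedding.injective
    rw [← Scheme.Hom.comp_apply, morphismRestrict_ι]
    exact hx'
  exact ChevAff.isAffine_of_surjective_universallyClosed (f ∣_ Yd)

end Groth.Agent.Lib.helper9.WtAff
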