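/-
Helper library (helper9): weightings and affineness of the maximal locus, part 4.
The maximal locus is affine over the base for affine morphisms; it is affine when the source is.
-/
import Groth.Agent.Lib.Helper9.WtAff3

set_option autoImplicit false
set_option linter.style.haveILetI false
set_option backward.isDefEq.respectTransparency false

namespace Groth.Agent.Lib.helper9.WtAff

open AlgebraicGeometry CategoryTheory Limits Groth.Agent.Lib.helper13

universe u

variable {X Y : Scheme.{u}} (f : X ⟶ Y) [IsAffineHom f] [LocallyQuasiFinite f]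
  [LocallyOfFiniteType f] (w : X → ℤ) (hw : MoreMor.IsWeighting f w) (hpos : ∀ x, 0 < w x)
  (n : ℕ) (hmax : ∀ y, MoreMor.fibreIntegral f w y ≤ n) (Yd : Y.Opens)
  (hYd : ∀ y, y ∈ Yd ↔ MoreMor.fibreIntegral f w y = n)

include hw hpos hmax hYd in
/-- The inclusion of the maximal locus is an affine morphism. -/
theorem isAffineHom_max_locus : IsAffineHom Yd.ι := by
  have hfin : ∀ y : Y, (f ⁻¹' {y}).Finite := fun y => f.finite_preimage_singleton y
  refine IsZariskiLocalAtTarget.of_forall_exists_morphismRestrict (P := @IsAffineHom) fun y => ?_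
  obtain ⟨Y', hY', hyY'⟩ : ∃ Y' : Y.Opens, IsAffineOpen Y' ∧ y ∈ Y' := by
    obtain ⟨_, ⟨Y', hY', rfl⟩, hyY', -⟩ := Y.isBasis_affineOpens.exists_subset_of_mem_open
      (Set.mem_univ y) isOpen_univ
    exact ⟨Y', hY', hyY'⟩
  refine ⟨Y', hyY', ?_⟩
  haveI : IsAffine Y'.toScheme := hY'
  haveI : IsAffine (f ⁻¹ᵁ Y').toScheme := hY'.preimage f
  have sq : IsPullback (f ⁻¹ᵁ Y').ι (f ∣_ Y') f Y'.ι := (isPullback_morphismRestrict f Y').flip
  have hw' : MoreMor.IsWeighting (f ∣_ Y') (w ∘ ⇑(f ⁻¹ᵁ Y').ι) :=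
    Groth.Agent.S1419.result f w hw (f ∣_ Y') (f ⁻¹ᵁ Y').ι Y'.ι sq
  have hint : ∀ y' : Y'.toScheme, MoreMor.fibreIntegral (f ∣_ Y') (w ∘ ⇑(f ⁻¹ᵁ Y').ι) y' =
      MoreMor.fibreIntegral f w (Y'.ι y') := fun y' =>
    Groth.Agent.S1418.result f hfin (f ∣_ Y') (f ⁻¹ᵁ Y').ι Y'.ι sq w y'
  have h1 : IsAffineOpen (Y'.ι ⁻¹ᵁ Yd) :=
    isAffineOpen_max_locus n (f ∣_ Y') (w ∘ ⇑(f ⁻¹ᵁ Y').ι) hw' (fun x => hpos _)
      (fun y' => by rw [hint]; exact hmax _) (Y'.ι ⁻¹ᵁ Yd)
      (fun y' => by rw [hint]; exact hYd _)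
  -- the source of `Yd.ι ∣_ Y'` is affine
  have h2 : IsAffineOpen (Yd.ι ⁻¹ᵁ Y') := by
    have h3 : IsAffineOpen (Y'.ι ''ᵁ (Y'.ι ⁻¹ᵁ Yd)) := h1.image_of_isOpenImmersion Y'.ι
    have h4 : Y'.ι ''ᵁ (Y'.ι ⁻¹ᵁ Yd) = Y' ⊓ Yd := by
      rw [Scheme.Hom.image_preimage_eq_opensRange_inf, Scheme.Opens.opensRange_ι]
    rw [h4] at h3
    have h5 : Yd.ι ⁻¹ᵁ Y' = Yd.ι ⁻¹ᵁ (Y' ⊓ Yd) := by
      ext z
      simp only [Scheme.Hom.coe_preimage, TopologicalSpace.Opens.coe_inf, Set.mem_preimage,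
        Set.mem_inter_iff, SetLike.mem_coe]
      exact ⟨fun h => ⟨h, z.2⟩, fun h => h.1⟩
    rw [h5]
    exact h3.preimage_of_isOpenImmersion Yd.ι (by
      rw [Scheme.Opens.opensRange_ι]; exact inf_le_right)
  haveI : IsAffine (Yd.ι ⁻¹ᵁ Y').toScheme := h2
  infer_instance

include hw hpos hmax hYd in
/-- The maximal locus is affine when the source is affine (and the maximum is positive or `f`
is surjective). -/
theorem isAffineOpen_max_locus_of_isAffine [IsAffine X] (hn : n ≠ 0 ∨ Surjective f) :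
    IsAffineOpen Yd := by
  have hfin : ∀ y : Y, (f ⁻¹' {y}).Finite := fun y => f.finite_preimage_singleton y
  haveI : IsSeparated f := IsSeparated.of_isAffineHom f
  by_cases hatt : ∃ y, MoreMor.fibreIntegral f w y = n
  swap
  · have h0 : Yd = ⊥ := by
      ext y
      simp only [SetLike.mem_coe, hYd, TopologicalSpace.Opens.coe_bot, Set.mem_empty_iff_false,
        iff_false]
      exact fun h => hatt ⟨y, h⟩
    rw [h0]
    exact isAffineOpen_bot Y
  obtain ⟨hYopen, hfinite⟩ := Groth.Agent.S1428.result f hfin w hw hpos n hmax hatt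
  have hYdeq : Yd = ⟨{y | MoreMor.fibreIntegral f w y = n}, hYopen⟩ := by
    ext y
    exact hYd y
  haveI : IsFinite (f ∣_ Yd) := by rw [hYdeq]; exact hfinite
  haveI : IsAffineHom Yd.ι := isAffineHom_max_locus f w hw hpos n hmax Yd hYd
  haveI : IsAffineHom (f ⁻¹ᵁ Yd).ι :=
    MorphismProperty.of_isPullback (P := @IsAffineHom) (isPullback_morphismRestrict f Yd)
      inferInstance
  haveI : IsAffine (f ⁻¹ᵁ Yd).toScheme := isAffine_of_isAffineHom (f ⁻¹ᵁ Yd).ι
  haveI : Surjective (f ∣_ Yd) := by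
    refine ⟨fun y => ?_⟩
    have hy : MoreMor.fibreIntegral f w y.1 = n := (hYd y.1).mp y.2
    have hne : (f ⁻¹' {y.1}).Nonempty := by
      rcases hn with hn | hn
      · by_contra hempty
        rw [Set.not_nonempty_iff_eq_empty] at hempty
        have := fibreIntegral_eq_zero_of_isEmpty f w y.1 hempty
        rw [hy] at this
        exact hn (by exact_mod_cast this)
      · obtain ⟨x, hx⟩ := hn.surj y.1
        exact ⟨x, hx⟩
    obtain ⟨x, hx⟩ := hne
    have hx' : f x = y.1 := hx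
    refine ⟨⟨x, by show f x ∈ Yd; rw [hx']; exact y.2⟩, ?_⟩
    apply Yd.ι.isOpenEmbedding.injective
    rw [← Scheme.Hom.comp_apply, morphismRestrict_ι]
    exact hx'
  exact ChevAff.isAffine_of_surjective_universallyClosed (f ∣_ Yd)

end Groth.Agent.Lib.helper9.WtAff
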