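/-
Helper library (helper9): weightings and affineness of the maximal locus, part 5.
Affine stratification from the values of the fibre integral of a positive weighting.
-/
import Groth.Agent.Lib.Helper9.WtAff4

set_option autoImplicit false
set_option linter.style.haveILetI false
set_option backward.isDefEq.respectTransparency false

namespace Groth.Agent.Lib.helper9.WtAff

open AlgebraicGeometry CategoryTheory Limits Groth.Agent.Lib.helper13

universe u

theorem exists_max_locus {X Y : Scheme.{u}} (f : X ⟶ Y) [Surjective f]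
    [LocallyQuasiFinite f] [LocallyOfFiniteType f] [QuasiCompact f] [IsAffine X] [Y.IsSeparated]
    (w : X → ℤ) (hw : MoreMor.IsWeighting f w) (hpos : ∀ x, 0 < w x)
    (hRfin : (Set.range (MoreMor.fibreIntegral f w)).Finite) [Nonempty Y] :
    ∃ n : ℕ, (∀ y, MoreMor.fibreIntegral f w y ≤ n) ∧ (∃ y, MoreMor.fibreIntegral f w y = n) ∧
      ∃ Yd : Y.Opens, (∀ y, y ∈ Yd ↔ MoreMor.fibreIntegral f w y = n) ∧ IsAffineOpen Yd ∧
        IsAffineHom Yd.ι := by
  haveI : IsAffineHom (f ≫ terminal.from Y) := by rw [terminal.comp_from]; infer_instance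
  haveI : IsAffineHom f := IsAffineHom.of_comp f (terminal.from Y)
  haveI : IsSeparated f := IsSeparated.of_isAffineHom f
  have hfin : ∀ y : Y, (f ⁻¹' {y}).Finite := fun y => f.finite_preimage_singleton y
  obtain ⟨d, ⟨y₀, hy₀⟩, hd⟩ := Set.exists_max_image (Set.range (MoreMor.fibreIntegral f w)) id hRfin
    (Set.range_nonempty _)
  have hd0 : 0 ≤ d := hy₀ ▸ fibreIntegral_nonneg f w hpos y₀
  obtain ⟨n, hn⟩ : ∃ n : ℕ, (n : ℤ) = d := ⟨d.toNat, Int.toNat_of_nonneg hd0⟩
  have hmax : ∀ y, MoreMor.fibreIntegral f w y ≤ n := fun y => by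
    rw [hn]; exact hd _ ⟨y, rfl⟩
  have hatt : ∃ y, MoreMor.fibreIntegral f w y = n := ⟨y₀, by rw [hn]; exact hy₀⟩
  obtain ⟨hYopen, -⟩ := Groth.Agent.S1428.result f hfin w hw hpos n hmax hatt
  refine ⟨n, hmax, hatt, ⟨_, hYopen⟩, fun y => Iff.rfl, ?_, ?_⟩
  · exact isAffineOpen_max_locus_of_isAffine f w hw hpos n hmax _ (fun y => Iff.rfl)
      (Or.inr inferInstance)
  · exact isAffineHom_max_locus f w hw hpos n hmax _ (fun y => Iff.rfl)

theorem hasAffineStratification (k : ℕ) : ∀ {X Y : Scheme.{u}} (f : X ⟶ Y) [Surjective f]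
    [LocallyQuasiFinite f] [LocallyOfFiniteType f] [QuasiCompact f] [IsAffine X] [Y.IsSeparated]
    (w : X → ℤ), MoreMor.IsWeighting f w → (∀ x, 0 < w x) →
    (Set.range (MoreMor.fibreIntegral f w)).Finite →
    (Set.range (MoreMor.fibreIntegral f w)).ncard = k + 1 →
    MoreMor.HasAffineStratification Y k := by
  induction k with
  | zero =>
    intro X Y f _ _ _ _ _ _ w hw hpos hRfin hk
    have hRne : (Set.range (MoreMor.fibreIntegral f w)).Nonempty := by
      rw [← Set.ncard_pos hRfin, hk]; exact Nat.succ_pos 0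
    haveI : Nonempty Y := by
      obtain ⟨_, y, -⟩ := hRne
      exact ⟨y⟩
    obtain ⟨n, hmax, hatt, Yd, hYd, hYdaff, -⟩ := exists_max_locus f w hw hpos hRfin
    obtain ⟨a, ha⟩ := Set.ncard_eq_one.mp hk
    have hall : ∀ y, MoreMor.fibreIntegral f w y = n := by
      intro y
      obtain ⟨y₀, hy₀⟩ := hatt
      have h1 : MoreMor.fibreIntegral f w y ∈ ({a} : Set ℤ) := ha ▸ ⟨y, rfl⟩
      have h2 : MoreMor.fibreIntegral f w y₀ ∈ ({a} : Set ℤ) := ha ▸ ⟨y₀, rfl⟩
      rw [Set.mem_singleton_iff] at h1 h2
      rw [h1, ← h2, hy₀]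
    have htop : Yd = ⊤ := by
      ext y
      simp only [SetLike.mem_coe, hYd, hall, TopologicalSpace.Opens.coe_top, Set.mem_univ]
    rw [htop] at hYdaff
    haveI : IsAffine ((⊤ : Y.Opens) : Scheme.{u}) := hYdaff
    haveI : IsAffine Y := IsAffine.of_isIso Y.topIso.inv
    refine ⟨fun _ => 0, fun i => ?_, fun i => ⟨Y, 𝟙 Y, inferInstance, inferInstance,
      inferInstance, ?_⟩⟩
    · have : {x : Y | (0 : Fin (0 + 1)) ≤ i} = Set.univ := by
        ext x; simp
      rw [this]; exact isClosed_univ
    · ext x
      constructor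
      · intro _
        exact (Fin.fin_one_eq_zero i).symm
      · intro _
        exact ⟨x, rfl⟩
  | succ k ih =>
    intro X Y f _ _ _ _ _ _ w hw hpos hRfin hk
    have hRne : (Set.range (MoreMor.fibreIntegral f w)).Nonempty := by
      rw [← Set.ncard_pos hRfin, hk]; exact Nat.succ_pos _
    haveI : Nonempty Y := by
      obtain ⟨_, y, -⟩ := hRne
      exact ⟨y⟩
    obtain ⟨n, hmax, ⟨y₀, hy₀⟩, Yd, hYd, hYdaff, hYdhom⟩ := exists_max_locus f w hw hpos hRfin
    haveI : IsAffineHom (f ≫ terminal.from Y) := by rw [terminal.comp_from]; infer_instance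
    haveI : IsAffineHom f := IsAffineHom.of_comp f (terminal.from Y)
    have hfin : ∀ y : Y, (f ⁻¹' {y}).Finite := fun y => f.finite_preimage_singleton y
    -- the closed complement
    let Zc : TopologicalSpace.Closeds Y := ⟨(Yd : Set Y)ᶜ, Yd.2.isClosed_compl⟩
    obtain ⟨I, hI⟩ : ∃ I : Y.IdealSheafData, I = Scheme.IdealSheafData.vanishingIdeal Zc :=
      ⟨_, rfl⟩
    have hri : Set.range I.subschemeι = (Yd : Set Y)ᶜ := by
      rw [I.range_subschemeι, hI]
      exact Scheme.IdealSheafData.coe_support_vanishingIdeal Zc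
    haveI : I.subscheme.IsSeparated :=
      ⟨by rw [← terminal.comp_from I.subschemeι]; infer_instance⟩
    -- the base change
    have hwZ : MoreMor.IsWeighting (pullback.snd f I.subschemeι)
        (w ∘ ⇑(pullback.fst f I.subschemeι)) :=
      Groth.Agent.S1419.result f w hw _ _ I.subschemeι (IsPullback.of_hasPullback f I.subschemeι)
    have hintZ : ∀ z, MoreMor.fibreIntegral (pullback.snd f I.subschemeι)
        (w ∘ ⇑(pullback.fst f I.subschemeι)) z = MoreMor.fibreIntegral f w (I.subschemeι z) :=
      fun z => Groth.Agent.S1418.result f hfin _ _ I.subschemeι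
        (IsPullback.of_hasPullback f I.subschemeι) w z
    have hRZ : Set.range (MoreMor.fibreIntegral (pullback.snd f I.subschemeι)
        (w ∘ ⇑(pullback.fst f I.subschemeι))) =
        Set.range (MoreMor.fibreIntegral f w) \ {(n : ℤ)} := by
      ext r
      constructor
      · rintro ⟨z, rfl⟩
        rw [hintZ]
        refine ⟨⟨I.subschemeι z, rfl⟩, fun h => ?_⟩
        have h1 : I.subschemeι z ∈ Yd := (hYd _).mpr h
        have h2 : I.subschemeι z ∈ (Yd : Set Y)ᶜ := hri ▸ ⟨z, rfl⟩
        exact h2 h1
      · rintro ⟨⟨y, rfl⟩, hne⟩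
        have h1 : y ∈ Set.range I.subschemeι := by
          rw [hri]
          intro hy
          exact hne ((hYd y).mp hy)
        obtain ⟨z, rfl⟩ := h1
        exact ⟨z, hintZ z⟩
    have hRZfin : (Set.range (MoreMor.fibreIntegral (pullback.snd f I.subschemeι)
        (w ∘ ⇑(pullback.fst f I.subschemeι)))).Finite := by
      rw [hRZ]; exact hRfin.subset Set.sdiff_subset
    have hRZcard : (Set.range (MoreMor.fibreIntegral (pullback.snd f I.subschemeι)
        (w ∘ ⇑(pullback.fst f I.subschemeι)))).ncard = k + 1 := by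
      have hmem : (n : ℤ) ∈ Set.range (MoreMor.fibreIntegral f w) := ⟨y₀, hy₀⟩
      rw [hRZ, Set.ncard_sdiff_singleton_of_mem hmem, hk]
      rfl
    obtain ⟨sZ, hsZcl, hsZstr⟩ := ih (pullback.snd f I.subschemeι)
      (w ∘ ⇑(pullback.fst f I.subschemeι)) hwZ (fun x => hpos _) hRZfin hRZcard
    -- the stratification
    have hex : ∀ y, y ∉ Yd → ∃ z, I.subschemeι z = y := fun y hy => by
      have : y ∈ Set.range I.subschemeι := hri ▸ hy
      exact this
    classical
    let s : Y → Fin (k + 1 + 1) := fun y =>
      if h : y ∈ Yd then Fin.last (k + 1) else (sZ (hex y h).choose).castSucc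
    have hs_i : ∀ z, s (I.subschemeι z) = (sZ z).castSucc := by
      intro z
      have hz : I.subschemeι z ∉ Yd := by
        have : I.subschemeι z ∈ (Yd : Set Y)ᶜ := hri ▸ ⟨z, rfl⟩
        exact this
      simp only [s, dif_neg hz]
      congr 2
      exact I.subschemeι.isClosedEmbedding.injective (hex (I.subschemeι z) hz).choose_spec
    have hs_d : ∀ y ∈ Yd, s y = Fin.last (k + 1) := fun y hy => by simp only [s, dif_pos hy]
    refine ⟨s, fun j => ?_, fun j => ?_⟩
    · induction j using Fin.lastCases with
      | last =>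
        have : {y : Y | s y ≤ Fin.last (k + 1)} = Set.univ := by
          ext y
          simp [Fin.le_last]
        rw [this]
        exact isClosed_univ
      | cast j' =>
        have : {y : Y | s y ≤ j'.castSucc} = I.subschemeι '' {z | sZ z ≤ j'} := by
          ext y
          constructor
          · intro hy
            have hyd : y ∉ Yd := fun h => by
              have hy' : s y ≤ j'.castSucc := hy
              rw [hs_d y h] at hy'
              exact absurd hy' (not_le.mpr (Fin.castSucc_lt_last j'))
            obtain ⟨z, rfl⟩ := hex y hyd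
            have hy' : s (I.subschemeι z) ≤ j'.castSucc := hy
            rw [hs_i] at hy'
            exact ⟨z, Fin.castSucc_le_castSucc_iff.mp hy', rfl⟩
          · rintro ⟨z, hz, rfl⟩
            show s (I.subschemeι z) ≤ j'.castSucc
            rw [hs_i]
            exact Fin.castSucc_le_castSucc_iff.mpr hz
        rw [this]
        exact I.subschemeι.isClosedEmbedding.isClosedMap _ (hsZcl j')
    · induction j using Fin.lastCases with
      | last =>
        haveI : IsAffine Yd.toScheme := hYdaff
        refine ⟨Yd.toScheme, Yd.ι, inferInstance, inferInstance, hYdhom, ?_⟩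
        rw [Scheme.Opens.range_ι]
        ext y
        constructor
        · intro hy
          exact hs_d y hy
        · intro hy
          by_contra hyd
          obtain ⟨z, rfl⟩ := hex y hyd
          have hy' : s (I.subschemeι z) = Fin.last (k + 1) := hy
          rw [hs_i] at hy'
          exact (Fin.castSucc_lt_last _).ne hy'
      | cast j' =>
        obtain ⟨Z', ι', h1, h2, h3, h4⟩ := hsZstr j'
        haveI := h1
        haveI := h2
        haveI := h3
        refine ⟨Z', ι' ≫ I.subschemeι, inferInstance, inferInstance, inferInstance, ?_⟩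
        ext y
        constructor
        · rintro ⟨z', rfl⟩
          show s (I.subschemeι (ι' z')) = j'.castSucc
          rw [hs_i]
          have : ι' z' ∈ {z | sZ z = j'} := h4 ▸ ⟨z', rfl⟩
          exact congrArg _ this
        · intro hy
          have hy' : s y = j'.castSucc := hy
          have hyd : y ∉ Yd := fun h => by
            rw [hs_d y h] at hy'
            exact (Fin.castSucc_lt_last j').ne' hy'
          obtain ⟨z, rfl⟩ := hex y hyd
          rw [hs_i] at hy'
          have hz : z ∈ Set.range ι' := by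
            rw [h4]
            exact Fin.castSucc_injective _ hy'
          obtain ⟨z', rfl⟩ := hz
          exact ⟨z', rfl⟩

end Groth.Agent.Lib.helper9.WtAff
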