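/-
Helper library (helper9): charts for weightings.  A chart of `f : X ⟶ Y` is an étale `g : V ⟶ Y`
together with finitely many opens `B s` of `X ×_Y V` which are finite over `V`.  We define good
points of a chart, the integrals of a function over the pieces of the chart and the pullback of
charts along base change squares.
-/
import Mathlib
import Groth.Prelude.Def_MoreMor
import Groth.Agent.Lib.Helper13.EL8
import Groth.Agent.Lib.Helper13.WT2
import Groth.Agent.Lib.Helper13.WT3
import Groth.Agent.Lib.Helper13.WT4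
import Groth.Agent.Lib.Helper13.WT5
import Groth.Agent.Lib.Helper13.WT8

set_option autoImplicit false
set_option linter.style.haveILetI false
set_option backward.isDefEq.respectTransparency false

namespace Groth.Agent.Lib.helper9.WtLim

open AlgebraicGeometry CategoryTheory Limits Groth.Agent.Lib.helper13

universe u

variable {X Y : Scheme.{u}}

/-- A chart of `f`: an étale `g : V ⟶ Y` with finitely many opens of `X ×_Y V` finite over
`V`. -/
structure Chart (f : X ⟶ Y) where
  /-- the étale neighbourhood -/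
  V : Scheme.{u}
  /-- its structure map -/
  g : V ⟶ Y
  et : Etale g
  /-- the index type of the pieces -/
  σ : Type
  fin : Finite σ
  /-- the pieces -/
  B : σ → (pullback f g).Opens
  hB : ∀ s, IsFinite ((B s).ι ≫ pullback.snd f g)

namespace Chart

variable {f : X ⟶ Y}

/-- A point `v` of a chart is good if over `v` the pieces cover the fibre, are pairwise disjoint
and each piece carries at most one geometric point. -/
structure Good (C : Chart f) (v : C.V) : Prop where
  cov : ∀ p, pullback.snd f C.g p = v → ∃ s, p ∈ C.B s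
  disj : ∀ p, pullback.snd f C.g p = v → ∀ s s', p ∈ C.B s → p ∈ C.B s' → s = s'
  uniq : ∀ (s : C.σ) (Ω : Type u) [Field Ω] (ℓ₁ ℓ₂ : Spec (.of Ω) ⟶ pullback f C.g),
    ℓ₁ (IsLocalRing.closedPoint Ω) ∈ C.B s → ℓ₂ (IsLocalRing.closedPoint Ω) ∈ C.B s →
    ℓ₁ ≫ pullback.snd f C.g = ℓ₂ ≫ pullback.snd f C.g →
    pullback.snd f C.g (ℓ₁ (IsLocalRing.closedPoint Ω)) = v → ℓ₁ = ℓ₂

/-- The integral of `w` over the piece `B s` of the chart, as a function on `V`. -/
noncomputable def G (C : Chart f) (w : X → ℤ) (s : C.σ) : C.V → ℤ :=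
  MoreMor.fibreIntegral ((C.B s).ι ≫ pullback.snd f C.g)
    (fun t ↦ w (pullback.fst f C.g ((C.B s).ι t)))

section Pull

variable {X' Y' : Scheme.{u}} {f' : X' ⟶ Y'} {h : X' ⟶ X} {g₀ : Y' ⟶ Y}

/-- The comparison map `X' ×_{Y'} V' ⟶ X ×_Y V`. -/
noncomputable def pullMap (C : Chart f) (hc : IsPullback h f' f g₀) {V' : Scheme.{u}}
    (g' : V' ⟶ Y') (d : V' ⟶ C.V) (comm : d ≫ C.g = g' ≫ g₀) :
    pullback f' g' ⟶ pullback f C.g :=
  pullback.map f' g' f C.g h d g₀ hc.w.symm comm.symm

variable (C : Chart f) (hc : IsPullback h f' f g₀) {V' : Scheme.{u}}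
    (g' : V' ⟶ Y') (d : V' ⟶ C.V) (comm : d ≫ C.g = g' ≫ g₀)

@[reassoc]
lemma pullMap_fst : C.pullMap hc g' d comm ≫ pullback.fst f C.g = pullback.fst f' g' ≫ h := by
  unfold pullMap pullback.map
  rw [pullback.lift_fst]

@[reassoc]
lemma pullMap_snd : C.pullMap hc g' d comm ≫ pullback.snd f C.g = pullback.snd f' g' ≫ d := by
  unfold pullMap pullback.map
  rw [pullback.lift_snd]

lemma pullMap_fst_apply (p : ↑(pullback f' g')) :
    pullback.fst f C.g (C.pullMap hc g' d comm p) = h (pullback.fst f' g' p) := by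
  rw [← Scheme.Hom.comp_apply, pullMap_fst, Scheme.Hom.comp_apply]

lemma pullMap_snd_apply (p : ↑(pullback f' g')) :
    pullback.snd f C.g (C.pullMap hc g' d comm p) = d (pullback.snd f' g' p) := by
  rw [← Scheme.Hom.comp_apply, pullMap_snd, Scheme.Hom.comp_apply]

lemma isPullback_pullMap :
    IsPullback (C.pullMap hc g' d comm) (pullback.snd f' g') (pullback.snd f C.g) d := by
  refine IsPullback.of_right (h₁₂ := pullback.fst f C.g) (h₂₂ := C.g) (v₁₃ := f) ?_
    (C.pullMap_snd hc g' d comm) (IsPullback.of_hasPullback f C.g)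
  rw [pullMap_fst, comm]
  exact (IsPullback.of_hasPullback f' g').paste_horiz hc

/-- The pullback of a chart along a base change square and a map of étale neighbourhoods. -/
noncomputable def pull [Etale g'] : Chart f' where
  V := V'
  g := g'
  et := inferInstance
  σ := C.σ
  fin := C.fin
  B s := (C.pullMap hc g' d comm) ⁻¹ᵁ (C.B s)
  hB s := WT.isFinite_preimage_of_isPullback (C.isPullback_pullMap hc g' d comm) _ (C.hB s)

lemma pull_good [Etale g'] (v' : V') (hv : C.Good (d v')) :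
    (C.pull hc g' d comm).Good v' := by
  have hcov : ∀ p : ↑(pullback f' g'), pullback.snd f' g' p = v' →
      ∃ s, C.pullMap hc g' d comm p ∈ C.B s := fun p hp ↦
    hv.cov (C.pullMap hc g' d comm p) (by rw [pullMap_snd_apply]; exact congrArg d hp)
  have hdisj : ∀ p : ↑(pullback f' g'), pullback.snd f' g' p = v' → ∀ s s',
      C.pullMap hc g' d comm p ∈ C.B s → C.pullMap hc g' d comm p ∈ C.B s' → s = s' :=
    fun p hp s s' hs hs' ↦ hv.disj (C.pullMap hc g' d comm p) (by
      rw [pullMap_snd_apply]; exact congrArg d hp) s s' hs hs'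
  have huniq : ∀ (s : C.σ) (Ω : Type u) [Field Ω] (ℓ₁ ℓ₂ : Spec (.of Ω) ⟶ pullback f' g'),
      C.pullMap hc g' d comm (ℓ₁ (IsLocalRing.closedPoint Ω)) ∈ C.B s →
      C.pullMap hc g' d comm (ℓ₂ (IsLocalRing.closedPoint Ω)) ∈ C.B s →
      ℓ₁ ≫ pullback.snd f' g' = ℓ₂ ≫ pullback.snd f' g' →
      pullback.snd f' g' (ℓ₁ (IsLocalRing.closedPoint Ω)) = v' → ℓ₁ = ℓ₂ := by
    intro s Ω _ ℓ₁ ℓ₂ h₁ h₂ he hp
    have key : ℓ₁ ≫ C.pullMap hc g' d comm = ℓ₂ ≫ C.pullMap hc g' d comm := by
      refine hv.uniq s Ω _ _ h₁ h₂ ?_ ?_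
      · rw [Category.assoc, Category.assoc, pullMap_snd, ← Category.assoc, ← Category.assoc]
        exact congrArg (· ≫ d) he
      · rw [Scheme.Hom.comp_apply, pullMap_snd_apply]
        exact congrArg d hp
    exact (C.isPullback_pullMap hc g' d comm).hom_ext key he
  exact ⟨hcov, hdisj, huniq⟩

/-- The integrals over the pieces of a pulled back chart. -/
lemma pull_G [Etale g'] (w : X → ℤ) (w' : X' → ℤ) (hw' : ∀ x', w' x' = w (h x')) (s : C.σ)
    (v' : V') : (C.pull hc g' d comm).G w' s v' = C.G w s (d v') := by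
  obtain ⟨Ω, _, _, xb, hxb⟩ := WT.exists_geometric_point v'
  haveI : IsFinite ((C.B s).ι ≫ pullback.snd f C.g) := C.hB s
  haveI : IsFinite (((C.pullMap hc g' d comm) ⁻¹ᵁ (C.B s)).ι ≫ pullback.snd f' g') :=
    (C.pull hc g' d comm).hB s
  have e1 := WT.geomIntegral_of_isPullback Ω (C.isPullback_pullMap hc g' d comm) (C.B s)
    (fun q ↦ w (pullback.fst f C.g q)) xb
  have e2 := WT.fibreIntegral_eq_geomIntegral (pullback.snd f C.g) Ω (C.B s)
    (fun q ↦ w (pullback.fst f C.g q)) (xb ≫ d) (d v') (by rw [Scheme.Hom.comp_apply, hxb])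
  have e3 := WT.fibreIntegral_eq_geomIntegral (pullback.snd f' g') Ω
    ((C.pullMap hc g' d comm) ⁻¹ᵁ (C.B s)) (fun q ↦ w' (pullback.fst f' g' q)) xb v' hxb
  have hfun : (fun p : ↑(pullback f' g') ↦ w (pullback.fst f C.g (C.pullMap hc g' d comm p))) =
      fun p ↦ w' (pullback.fst f' g' p) := by
    funext p
    rw [pullMap_fst_apply, hw']
  rw [hfun] at e1
  exact e3.trans (e1.trans e2.symm)

end Pull

/-- Over a good point every piece has at most one point. -/
lemma Good.eq_of_mem [LocallyQuasiFinite f] [LocallyOfFiniteType f] {C : Chart f} {v : C.V}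
    (hv : C.Good v) {s : C.σ} {p p' : ↑(pullback f C.g)} (hp : p ∈ C.B s) (hp' : p' ∈ C.B s)
    (h : pullback.snd f C.g p = v) (h' : pullback.snd f C.g p' = v) : p = p' := by
  obtain ⟨Ω, _, _, xb, hxb⟩ := WT.exists_geometric_point v
  have hres : ∀ q : ↑(pullback f C.g), ((pullback.snd f C.g).residueFieldMap q).hom.Finite :=
    fun q ↦ EL.finite_residueFieldMap_of_quasiFiniteAt ((pullback.snd f C.g).quasiFiniteAt q)
  obtain ⟨ℓ, hℓ⟩ := WT.exists_lift_of_mem_fibre (pullback.snd f C.g) Ω xb p (h.trans hxb.symm)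
    (hres p)
  obtain ⟨ℓ', hℓ'⟩ := WT.exists_lift_of_mem_fibre (pullback.snd f C.g) Ω xb p' (h'.trans hxb.symm)
    (hres p')
  have := hv.uniq s Ω ℓ.1 ℓ'.1 (hℓ ▸ hp) (hℓ' ▸ hp') (ℓ.2.trans ℓ'.2.symm) (hℓ ▸ h)
  rw [← hℓ, ← hℓ', this]

end Chart

end Groth.Agent.Lib.helper9.WtLim
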