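/-
Helper library (helper9): a function is a weighting as soon as every point of the base is the
image of a good point of a chart near which the integrals over the pieces are constant.
-/
import Groth.Agent.Lib.Helper9.WtLim1

set_option autoImplicit false
set_option linter.style.haveILetI false
set_option backward.isDefEq.respectTransparency false

namespace Groth.Agent.Lib.helper9.WtLim

open AlgebraicGeometry CategoryTheory Limits Groth.Agent.Lib.helper13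

universe u

variable {X Y : Scheme.{u}}

/-- The local criterion at a point `y` of the base. -/
def LocCrit (f : X ⟶ Y) (w : X → ℤ) (y : Y) : Prop :=
  ∃ (C : Chart f) (v : C.V), C.g v = y ∧ C.Good v ∧
    ∀ s, ∃ O : Set C.V, IsOpen O ∧ v ∈ O ∧ ∀ v' ∈ O, C.G w s v' = C.G w s v

theorem isWeighting_of_locCrit (f : X ⟶ Y) [LocallyQuasiFinite f] [LocallyOfFiniteType f]
    (w : X → ℤ) (H : ∀ y : Y, LocCrit f w y) : MoreMor.IsWeighting f w := by
  classical
  intro V' g' _ U' hfinU'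
  rw [IsLocallyConstant.iff_exists_open]
  intro v'₀
  obtain ⟨C, v₀, hv₀, hgood, hconst⟩ := H (g' v'₀)
  haveI := C.et
  haveI := C.fin
  obtain ⟨v''₀, hcv, hdv⟩ := Scheme.Pullback.exists_preimage_pullback (f := g') (g := C.g)
    v'₀ v₀ hv₀.symm
  obtain ⟨c, hcdef⟩ : ∃ c : pullback g' C.g ⟶ V', c = pullback.fst g' C.g := ⟨_, rfl⟩
  obtain ⟨d, hddef⟩ : ∃ d : pullback g' C.g ⟶ C.V, d = pullback.snd g' C.g := ⟨_, rfl⟩
  rw [← hcdef] at hcv
  rw [← hddef] at hdv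
  haveI : Etale c := hcdef ▸ inferInstance
  have hcopen : IsOpenMap c := c.isOpenMap
  obtain ⟨g'', hg''⟩ : ∃ g'' : pullback g' C.g ⟶ Y, g'' = c ≫ g' := ⟨_, rfl⟩
  haveI : Etale g'' := hg'' ▸ inferInstance
  have comm : d ≫ C.g = g'' ≫ 𝟙 Y := by
    rw [Category.comp_id, hg'', hcdef, hddef]; exact pullback.condition.symm
  have hc₀ : IsPullback (𝟙 X) f f (𝟙 Y) := IsPullback.id_horiz f
  -- the pulled back chart
  obtain ⟨ρ, hρ⟩ : ∃ ρ : pullback f g'' ⟶ pullback f C.g, ρ = C.pullMap hc₀ g'' d comm := ⟨_, rfl⟩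
  obtain ⟨π, hπ⟩ : ∃ π : pullback f g'' ⟶ pullback g' C.g, π = pullback.snd f g'' := ⟨_, rfl⟩
  let B : C.σ → (pullback f g'').Opens := fun s ↦ ρ ⁻¹ᵁ (C.B s)
  have hgood'' : (C.pull hc₀ g'' d comm).Good v''₀ := C.pull_good hc₀ g'' d comm v''₀ (hdv ▸ hgood)
  have hcov'' : ∀ p : ↑(pullback f g''), π p = v''₀ → ∃ s, p ∈ B s := by
    intro p hp
    subst hρ hπ
    exact hgood''.cov p hp
  have hdisj'' : ∀ p : ↑(pullback f g''), π p = v''₀ → ∀ s s', p ∈ B s → p ∈ B s' → s = s' := by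
    intro p hp s s' hs hs'
    subst hρ hπ
    exact hgood''.disj p hp s s' hs hs'
  have huniq'' : ∀ s, ∀ p ∈ B s, ∀ p' ∈ B s, π p = v''₀ → π p' = v''₀ → p = p' := by
    intro s p hp p' hp' h h'
    subst hρ hπ
    exact hgood''.eq_of_mem (s := s) hp hp' h h'
  have hfinB : ∀ s, IsFinite ((B s).ι ≫ π) := by
    intro s
    subst hρ hπ
    exact (C.pull hc₀ g'' d comm).hB s
  have hGB : ∀ s (v'' : ↑(pullback g' C.g)),
      MoreMor.fibreIntegral ((B s).ι ≫ π) (fun t ↦ w (pullback.fst f g'' ((B s).ι t))) v'' =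
        C.G w s (d v'') := by
    intro s v''
    subst hρ hπ
    exact C.pull_G hc₀ g'' d comm w w (fun _ ↦ rfl) s v''
  -- the pulled back test open
  obtain ⟨r₁, hr₁⟩ : ∃ r₁ : pullback f g'' ⟶ pullback f g', r₁ = EL.refineMap f g' c g'' hg''.symm :=
    ⟨_, rfl⟩
  have sq₁ : IsPullback r₁ π (pullback.snd f g') c := by
    rw [hr₁, hπ]; exact EL.isPullback_refineMap f g' c g'' hg''.symm
  have hr₁fst : ∀ p, pullback.fst f g' (r₁ p) = pullback.fst f g'' p := by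
    intro p; rw [hr₁]; exact EL.refineMap_fst_apply f g' c g'' hg''.symm p
  obtain ⟨A, hA⟩ : ∃ A : (pullback f g'').Opens, A = r₁ ⁻¹ᵁ U' := ⟨_, rfl⟩
  haveI hfinA : IsFinite (A.ι ≫ π) := by
    rw [hA]; exact WT.isFinite_preimage_of_isPullback sq₁ U' hfinU'
  -- the decomposition
  let σ' := {s : C.σ // ∃ p, p ∈ B s ∧ π p = v''₀ ∧ p ∈ A}
  have : Finite σ' := inferInstanceAs (Finite {s : C.σ // ∃ p, p ∈ B s ∧ π p = v''₀ ∧ p ∈ A})
  have ha : ∀ s : σ', ∀ p ∈ B s.1, π p = v''₀ → p ∈ A := by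
    rintro ⟨s, p₀, hp₀B, hp₀π, hp₀A⟩ p hp hπp
    rw [huniq'' s p hp p₀ hp₀B hπp hp₀π]; exact hp₀A
  have hb : ∀ s s' : σ', ∀ p, π p = v''₀ → p ∈ B s.1 → p ∈ B s'.1 → s = s' := by
    rintro ⟨s, hs⟩ ⟨s', hs'⟩ p hπp hp hp'
    exact Subtype.ext (hdisj'' p hπp s s' hp hp')
  have hc' : ∀ p ∈ A, π p = v''₀ → ∃ s : σ', p ∈ B s.1 := by
    intro p hpA hπp
    obtain ⟨s, hs⟩ := hcov'' p hπp
    exact ⟨⟨s, p, hs, hπp, hpA⟩, hs⟩
  obtain ⟨N, hN₀, hN⟩ := WT.exists_nbhd_decomposition π A (fun s : σ' ↦ B s.1)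
    (fun s ↦ hfinB s.1) v''₀ ha hb hc'
  have := Fintype.ofFinite σ'
  -- the sum formula
  have hkey : ∀ v'' : ↑(pullback g' C.g), v'' ∈ N →
      MoreMor.fibreIntegral (U'.ι ≫ pullback.snd f g')
        (fun u ↦ w (pullback.fst f g' (U'.ι u))) (c v'') = ∑ s : σ', C.G w s.1 (d v'') := by
    intro v'' hv''
    obtain ⟨Ω, _, _, xb, hxb⟩ := WT.exists_geometric_point v''
    haveI := hfinU'
    have hL := WT.fibreIntegral_eq_geomIntegral (pullback.snd f g') Ω U'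
      (fun p ↦ w (pullback.fst f g' p)) (xb ≫ c) (c v'') (by rw [Scheme.Hom.comp_apply, hxb])
    have hL2 : WT.geomIntegral (pullback.snd f g') Ω U' (fun p ↦ w (pullback.fst f g' p))
        (xb ≫ c) = WT.geomIntegral π Ω A (fun p ↦ w (pullback.fst f g' (r₁ p))) xb := by
      rw [hA]
      exact (WT.geomIntegral_of_isPullback Ω sq₁ U' (fun p ↦ w (pullback.fst f g' p)) xb).symm
    have hdec : WT.geomIntegral π Ω A (fun p ↦ w (pullback.fst f g' (r₁ p))) xb =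
        ∑ s : σ', WT.geomIntegral π Ω (B s.1) (fun p ↦ w (pullback.fst f g' (r₁ p))) xb := by
      refine WT.geomIntegral_eq_sum π Ω A (fun s : σ' ↦ B s.1) _ xb (fun s ↦ ?_) ?_ ?_
      · haveI := hfinB s.1
        exact WT.finite_lifts_open π Ω (B s.1) xb
      · intro p hp
        exact (hN p (by rw [hp, hxb]; exact hv'')).1
      · intro p hp
        exact (hN p (by rw [hp, hxb]; exact hv'')).2
    have hfun : (fun p : ↑(pullback f g'') ↦ w (pullback.fst f g' (r₁ p))) =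
        fun p ↦ w (pullback.fst f g'' p) := by
      funext p
      rw [hr₁fst]
    have hR : ∀ s : σ', WT.geomIntegral π Ω (B s.1) (fun p ↦ w (pullback.fst f g'' p)) xb =
        C.G w s.1 (d v'') := by
      intro s
      haveI := hfinB s.1
      have e2 := WT.fibreIntegral_eq_geomIntegral π Ω (B s.1)
        (fun q ↦ w (pullback.fst f g'' q)) xb v'' hxb
      exact e2.symm.trans (hGB s.1 v'')
    exact hL.trans (hL2.trans (hdec.trans (by
      rw [hfun]; exact Finset.sum_congr rfl fun s _ ↦ hR s)))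
  -- constancy of the pieces
  have hH : ∃ O : Set ↑(pullback g' C.g), IsOpen O ∧ v''₀ ∈ O ∧ ∀ v'' ∈ O,
      (∑ s : σ', C.G w s.1 (d v'')) = ∑ s : σ', C.G w s.1 (d v''₀) := by
    have hs : ∀ s : σ', ∃ O : Set ↑(pullback g' C.g), IsOpen O ∧ v''₀ ∈ O ∧
        ∀ v'' ∈ O, C.G w s.1 (d v'') = C.G w s.1 (d v''₀) := by
      intro s
      obtain ⟨O, hO, hvO, hOc⟩ := hconst s.1
      refine ⟨d ⁻¹' O, hO.preimage d.continuous, ?_, ?_⟩
      · show d v''₀ ∈ O
        rw [hdv]; exact hvO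
      · intro v'' hv''
        rw [hOc _ hv'', hdv]
    choose O hO1 hO2 hO3 using hs
    exact ⟨⋂ s, O s, isOpen_iInter_of_finite hO1, Set.mem_iInter.mpr hO2, fun v'' hv'' ↦
      Finset.sum_congr rfl fun s _ ↦ hO3 s v'' (Set.mem_iInter.mp hv'' s)⟩
  obtain ⟨N', hN'open, hN'mem, hN'const⟩ := hH
  refine ⟨c '' ((N : Set ↑(pullback g' C.g)) ∩ N'), ?_, ?_, ?_⟩
  · exact hcopen _ (N.2.inter hN'open)
  · exact ⟨v''₀, ⟨hN₀, hN'mem⟩, hcv⟩
  · rintro _ ⟨v'', ⟨hv''N, hv''N'⟩, rfl⟩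
    rw [hkey v'' hv''N, hN'const v'' hv''N', ← hcv, hkey v''₀ hN₀]

end Groth.Agent.Lib.helper9.WtLim
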