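/-
Helper library (helper9): existence of charts around a point of the base, with a constructible
set of good points containing the base point.
-/
import Groth.Agent.Lib.Helper9.WtLim2
import Groth.Agent.Lib.Helper13.PC3
import Groth.Agent.Lib.Helper13.PC5

set_option autoImplicit false
set_option linter.style.haveILetI false
set_option backward.isDefEq.respectTransparency false

namespace Groth.Agent.Lib.helper9.WtLim

open AlgebraicGeometry CategoryTheory Limits Topology Groth.Agent.Lib.helper13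

universe u

variable {X Y : Scheme.{u}}

theorem exists_chart (f : X ⟶ Y) [LocallyQuasiFinite f] [LocallyOfFinitePresentation f]
    [QuasiCompact f] [QuasiSeparated f] (y : Y) :
    ∃ (C : Chart f) (v₀ : C.V) (E : Set C.V), IsAffine C.V ∧ C.g v₀ = y ∧
      IsConstructible E ∧ v₀ ∈ E ∧ ∀ v ∈ E, C.Good v := by
  classical
  have hfin : ∀ y : Y, (f ⁻¹' {y}).Finite := fun y => Scheme.Hom.finite_preimage_singleton f y
  have : Finite (f ⁻¹' {y}) := (hfin y).to_subtype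
  let n := Nat.card (f ⁻¹' {y})
  let eX : (f ⁻¹' {y}) ≃ Fin n := Finite.equivFin _
  let x : Fin n → X := fun i ↦ (eX.symm i).1
  have hxinj : Function.Injective x := fun i i' hii ↦ eX.symm.injective (Subtype.ext hii)
  have hxs : ∀ i, f (x i) = y := fun i ↦ (eX.symm i).2
  have hxsurj : ∀ p, f p = y → ∃ i, x i = p := fun p hp ↦ ⟨eX ⟨p, hp⟩, by simp [x]⟩
  obtain ⟨V, gV, v₀, hgV, hgv, J, hJ, Vo, vp, hgood, hPI, hvinj, hex⟩ :=
    EL.exists_etale_nbhd_purelyInseparable (f := f) y x hxs (fun i ↦ f.quasiFiniteAt (x i))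
  obtain ⟨π, hπ⟩ : ∃ π : pullback f gV ⟶ V, π = pullback.snd f gV := ⟨_, rfl⟩
  have sq : IsPullback (pullback.fst f gV) π f gV := hπ ▸ IsPullback.of_hasPullback f gV
  haveI : QuasiCompact π := hπ ▸ inferInstance
  haveI : QuasiSeparated π := hπ ▸ inferInstance
  haveI : LocallyOfFinitePresentation π := hπ ▸ inferInstance
  have hcomm : ∀ p, f (pullback.fst f gV p) = gV (π p) := by
    intro p
    rw [← Scheme.Hom.comp_apply, ← Scheme.Hom.comp_apply, sq.w]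
  let B : (Σ i, J i) → (pullback f gV).Opens := fun s ↦ Vo s.1 s.2
  have hBfin : ∀ s, IsFinite ((B s).ι ≫ π) := fun s ↦ hπ ▸ (hgood s.1 s.2).finite
  have hBpt : ∀ s, ∀ p ∈ B s, π p = v₀ → p = vp s.1 s.2 := fun s p hp hπp ↦
    (hgood s.1 s.2).uniq p hp (hπ ▸ hπp)
  have hdisj₀ : ∀ p, π p = v₀ → ∀ s s', p ∈ B s → p ∈ B s' → s = s' := by
    rintro p hπp ⟨i, j⟩ ⟨i', j'⟩ hp hp'
    have e3 : vp i j = vp i' j' := (hBpt ⟨i, j⟩ p hp hπp).symm.trans (hBpt ⟨i', j'⟩ p hp' hπp)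
    have hi : i = i' := hxinj (by rw [← (hgood i j).fst_eq, ← (hgood i' j').fst_eq, e3])
    subst hi
    have hj : j = j' := hvinj i e3
    subst hj
    rfl
  have hcov₀ : ∀ p, π p = v₀ → ∃ s, p ∈ B s := by
    intro p hπp
    obtain ⟨i, hi⟩ := hxsurj (pullback.fst f gV p) (by rw [hcomm, hπp, hgv])
    obtain ⟨j, hj⟩ := hex p i (hπ ▸ hπp) hi.symm
    exact ⟨⟨i, j⟩, by show p ∈ Vo i j; rw [hj]; exact (hgood i j).mem⟩
  have := Fintype.ofFinite (Σ i, J i)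
  -- an affine open neighbourhood
  obtain ⟨V₀, hV₀, hv₀V₀⟩ : ∃ V₀ : V.Opens, IsAffineOpen V₀ ∧ v₀ ∈ V₀ := by
    obtain ⟨_, ⟨V₀, hV₀, rfl⟩, hv, -⟩ := V.isBasis_affineOpens.exists_subset_of_mem_open
      (Set.mem_univ v₀) isOpen_univ
    exact ⟨V₀, hV₀, hv⟩
  haveI : IsAffine V₀.toScheme := hV₀
  haveI : CompactSpace (π ⁻¹ᵁ V₀).toScheme :=
    (HasAffineProperty.iff_of_isAffine (P := @QuasiCompact)).mp
      (inferInstance : QuasiCompact (π ∣_ V₀))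
  haveI : QuasiSeparatedSpace (π ⁻¹ᵁ V₀).toScheme :=
    (HasAffineProperty.iff_of_isAffine (P := @QuasiSeparated)).mp
      (inferInstance : QuasiSeparated (π ∣_ V₀))
  have hπ₀ : ∀ z : (π ⁻¹ᵁ V₀).toScheme, V₀.ι ((π ∣_ V₀) z) = π ((π ⁻¹ᵁ V₀).ι z) := by
    intro z
    rw [← Scheme.Hom.comp_apply, morphismRestrict_ι, Scheme.Hom.comp_apply]
  -- the pieces in `P₀`
  let B₀ : (Σ i, J i) → Set (π ⁻¹ᵁ V₀).toScheme := fun s ↦ (π ⁻¹ᵁ V₀).ι ⁻¹' (B s : Set _)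
  have hB₀c : ∀ s, IsConstructible (B₀ s) := by
    intro s
    have hopen : IsOpen (B₀ s) := (B s).2.preimage (π ⁻¹ᵁ V₀).ι.continuous
    refine IsCompact.isConstructible ?_ hopen
    haveI := hBfin s
    have haff : IsAffineOpen (((B s).ι ≫ π) ⁻¹ᵁ V₀) := hV₀.preimage ((B s).ι ≫ π)
    have hc1 : IsCompact ((B s).ι '' ((((B s).ι ≫ π) ⁻¹ᵁ V₀ : (B s).toScheme.Opens) : Set _)) :=
      haff.isCompact.image (B s).ι.continuous
    have heq : (π ⁻¹ᵁ V₀).ι '' (B₀ s) =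
        (B s).ι '' ((((B s).ι ≫ π) ⁻¹ᵁ V₀ : (B s).toScheme.Opens) : Set _) := by
      ext p
      constructor
      · rintro ⟨z, hz, rfl⟩
        exact ⟨⟨(π ⁻¹ᵁ V₀).ι z, hz⟩, z.2, rfl⟩
      · rintro ⟨t, ht, rfl⟩
        exact ⟨⟨(B s).ι t, ht⟩, t.2, rfl⟩
    rw [(π ⁻¹ᵁ V₀).ι.isOpenEmbedding.isEmbedding.isCompact_iff, heq]
    exact hc1
  let Bad : Set (π ⁻¹ᵁ V₀).toScheme := (⋃ s, B₀ s)ᶜ ∪
    ⋃ ss : (Σ i, J i) × (Σ i, J i), if ss.1 = ss.2 then ∅ else B₀ ss.1 ∩ B₀ ss.2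
  have hBad : IsConstructible Bad := by
    refine IsConstructible.union ?_ ?_
    · rw [isConstructible_compl]
      exact IsConstructible.iUnion hB₀c
    · refine IsConstructible.iUnion fun ss ↦ ?_
      split_ifs
      · exact IsConstructible.empty
      · exact (hB₀c _).inter (hB₀c _)
  have hE : IsConstructible ((π ∣_ V₀) '' Bad)ᶜ :=
    ((π ∣_ V₀).isConstructible_image hBad).compl
  -- points of `E`
  have hEpt : ∀ v' : V₀.toScheme, v' ∈ ((π ∣_ V₀) '' Bad)ᶜ →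
      (∀ p, π p = V₀.ι v' → ∃ s, p ∈ B s) ∧
      (∀ p, π p = V₀.ι v' → ∀ s s', p ∈ B s → p ∈ B s' → s = s') := by
    intro v' hv'
    have key : ∀ p, π p = V₀.ι v' → ∃ z : (π ⁻¹ᵁ V₀).toScheme, (π ⁻¹ᵁ V₀).ι z = p ∧ z ∉ Bad := by
      intro p hp
      have hpm : p ∈ π ⁻¹ᵁ V₀ := by
        show π p ∈ V₀
        rw [hp]; exact v'.2
      refine ⟨⟨p, hpm⟩, rfl, fun hz ↦ hv' ⟨⟨p, hpm⟩, hz, ?_⟩⟩
      apply V₀.ι.injective
      rw [hπ₀]
      exact hp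
    constructor
    · intro p hp
      obtain ⟨z, rfl, hz⟩ := key p hp
      have : z ∈ ⋃ s, B₀ s := by
        by_contra h
        exact hz (Or.inl h)
      obtain ⟨s, hs⟩ := Set.mem_iUnion.mp this
      exact ⟨s, hs⟩
    · intro p hp s s' hs hs'
      obtain ⟨z, rfl, hz⟩ := key p hp
      by_contra hne
      apply hz
      refine Or.inr (Set.mem_iUnion.mpr ⟨(s, s'), ?_⟩)
      simp only [hne, if_false]
      exact ⟨hs, hs'⟩
  have hv₀E : (⟨v₀, hv₀V₀⟩ : V₀.toScheme) ∈ ((π ∣_ V₀) '' Bad)ᶜ := by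
    rintro ⟨z, hz, hzv⟩
    have hπz : π ((π ⁻¹ᵁ V₀).ι z) = v₀ := by
      rw [← hπ₀, hzv]; rfl
    rcases hz with hz | hz
    · obtain ⟨s, hs⟩ := hcov₀ _ hπz
      exact hz (Set.mem_iUnion.mpr ⟨s, hs⟩)
    · obtain ⟨⟨s, s'⟩, hss⟩ := Set.mem_iUnion.mp hz
      by_cases hne : s = s'
      · simp [hne] at hss
      · simp only [hne, if_false] at hss
        exact hne (hdisj₀ _ hπz s s' hss.1 hss.2)
  -- unique lifts
  have hU : ∀ s : (Σ i, J i), ∃ Eu : Set V₀.toScheme, IsConstructible Eu ∧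
      (⟨v₀, hv₀V₀⟩ : V₀.toScheme) ∈ Eu ∧
      ∀ (Ω : Type u) [Field Ω] (xb : Spec (.of Ω) ⟶ V)
        (h : xb (IsLocalRing.closedPoint Ω) ∈ V₀),
        (⟨xb (IsLocalRing.closedPoint Ω), h⟩ : V₀) ∈ Eu →
        ∀ ℓ₁ ℓ₂ : Spec (.of Ω) ⟶ (B s).toScheme, ℓ₁ ≫ ((B s).ι ≫ π) = xb →
          ℓ₂ ≫ ((B s).ι ≫ π) = xb → ℓ₁ = ℓ₂ := by
    intro s
    haveI := hBfin s
    let u' : (B s).toScheme := ⟨vp s.1 s.2, (hgood s.1 s.2).mem⟩
    have hu'ι : (B s).ι u' = vp s.1 s.2 := rfl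
    have hπapp : ∀ t, ((B s).ι ≫ π) t = π ((B s).ι t) := fun t ↦ Scheme.Hom.comp_apply _ _ _
    have hπu' : ((B s).ι ≫ π) u' = v₀ := by
      rw [hπapp, hu'ι, hπ, (hgood s.1 s.2).snd_eq]
    have huniq : ∀ t, ((B s).ι ≫ π) t = ((B s).ι ≫ π) u' → t = u' := by
      intro t ht
      apply (B s).ι.injective
      rw [hu'ι]
      exact hBpt s _ t.2 (by rw [← hπapp, ht, hπu'])
    have hPIπ : (((B s).ι ≫ π).residueFieldMap u').hom.IsPurelyInseparable :=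
      PC.isPurelyInseparable_of_comm (B s).ι ((B s).ι ≫ π) (pullback.snd f gV) (𝟙 V)
        (by rw [Category.comp_id, hπ]) u'
        (PC.isPurelyInseparable_residueFieldMap_of_isOpenImmersion _ _) (hPI s.1 s.2)
    have hu'V₀ : ((B s).ι ≫ π) u' ∈ V₀ := by rw [hπu']; exact hv₀V₀
    obtain ⟨Eu, hEu, hmem, hlift⟩ := PC.exists_constructible_unique_lift' ((B s).ι ≫ π) V₀ hV₀ u'
      hu'V₀ huniq hPIπ
    refine ⟨Eu, hEu, ?_, hlift⟩
    have : (⟨((B s).ι ≫ π) u', hu'V₀⟩ : V₀.toScheme) = ⟨v₀, hv₀V₀⟩ := Subtype.ext hπu'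
    rw [← this]; exact hmem
  choose Eu hEu hmemEu hliftEu using hU
  -- the big chart
  let C₀ : Chart f :=
    { V := V
      g := gV
      et := hgV
      σ := Σ i, J i
      fin := inferInstance
      B := B
      hB := fun s ↦ hπ ▸ hBfin s }
  have hgood₀ : ∀ v' : V₀.toScheme, v' ∈ ((π ∣_ V₀) '' Bad)ᶜ ∩ ⋂ s, Eu s → C₀.Good (V₀.ι v') := by
    rintro v' ⟨hv'1, hv'2⟩
    obtain ⟨hc, hd⟩ := hEpt v' hv'1
    refine ⟨fun p hp ↦ hc p (hπ ▸ hp), fun p hp ↦ hd p (hπ ▸ hp), ?_⟩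
    intro s Ω _ ℓ₁ ℓ₂ h₁ h₂ he hp
    have hr : ∀ ℓ : Spec (.of Ω) ⟶ pullback f gV, ℓ (IsLocalRing.closedPoint Ω) ∈ B s →
        Set.range ℓ ⊆ Set.range (B s).ι := by
      rintro ℓ hℓ _ ⟨z, rfl⟩
      rw [WT.eq_closedPoint Ω z, Scheme.Opens.range_ι]
      exact hℓ
    have hxbmem : (ℓ₁ ≫ π) (IsLocalRing.closedPoint Ω) ∈ V₀ := by
      rw [Scheme.Hom.comp_apply, hπ]
      change pullback.snd f gV (ℓ₁ (IsLocalRing.closedPoint Ω)) ∈ V₀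
      rw [hp]; exact v'.2
    have hmemE : (⟨(ℓ₁ ≫ π) (IsLocalRing.closedPoint Ω), hxbmem⟩ : V₀.toScheme) ∈ Eu s := by
      have : (⟨(ℓ₁ ≫ π) (IsLocalRing.closedPoint Ω), hxbmem⟩ : V₀.toScheme) = v' := by
        apply Subtype.ext
        show (ℓ₁ ≫ π) (IsLocalRing.closedPoint Ω) = V₀.ι v'
        exact (Scheme.Hom.comp_apply _ _ _).trans (hπ ▸ hp)
      rw [this]; exact Set.mem_iInter.mp hv'2 s
    have key := hliftEu s Ω (ℓ₁ ≫ π) hxbmem hmemE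
      (IsOpenImmersion.lift (B s).ι ℓ₁ (hr ℓ₁ h₁)) (IsOpenImmersion.lift (B s).ι ℓ₂ (hr ℓ₂ h₂))
      (by rw [← Category.assoc, IsOpenImmersion.lift_fac])
      (by rw [← Category.assoc, IsOpenImmersion.lift_fac, hπ]; exact he.symm)
    have := congrArg (· ≫ (B s).ι) key
    simpa only [IsOpenImmersion.lift_fac] using this
  -- the restricted chart
  obtain ⟨g₀, hg₀⟩ : ∃ g₀ : V₀.toScheme ⟶ Y, g₀ = V₀.ι ≫ gV := ⟨_, rfl⟩
  haveI : Etale g₀ := hg₀ ▸ inferInstance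
  have comm : V₀.ι ≫ C₀.g = g₀ ≫ 𝟙 Y := by rw [Category.comp_id, hg₀]
  refine ⟨C₀.pull (IsPullback.id_horiz f) g₀ V₀.ι comm, ⟨v₀, hv₀V₀⟩,
    ((π ∣_ V₀) '' Bad)ᶜ ∩ ⋂ s, Eu s, hV₀, ?_, hE.inter (IsConstructible.iInter hEu),
    ⟨hv₀E, Set.mem_iInter.mpr hmemEu⟩, fun v hv ↦ C₀.pull_good _ g₀ V₀.ι comm v (hgood₀ v hv)⟩
  show g₀ ⟨v₀, hv₀V₀⟩ = y
  rw [hg₀, Scheme.Hom.comp_apply]
  exact hgv

end Groth.Agent.Lib.helper9.WtLim
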