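/-
Helper library (helper9): integrals at good points of a chart, and constructibility of the level
sets of fibre integrals of functions with constructible level sets.
-/
import Groth.Agent.Lib.Helper9.WtLim3
import Groth.Agent.Lib.Helper13.PC4

set_option autoImplicit false
set_option linter.style.haveILetI false
set_option backward.isDefEq.respectTransparency false

namespace Groth.Agent.Lib.helper9.WtLim

open AlgebraicGeometry CategoryTheory Limits Topology Groth.Agent.Lib.helper13

universe u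

variable {X Y : Scheme.{u}} {f : X ⟶ Y}

namespace Chart

/-- At a good point the fibre integral of `f` is the sum of the integrals over the pieces. -/
lemma Good.fibreIntegral_eq_sum [LocallyQuasiFinite f] [LocallyOfFiniteType f] [QuasiCompact f]
    {C : Chart f} [Fintype C.σ] {v : C.V} (hv : C.Good v) (w : X → ℤ) :
    MoreMor.fibreIntegral f w (C.g v) = ∑ s, C.G w s v := by
  have hfin : ∀ y : Y, (f ⁻¹' {y}).Finite := fun y => Scheme.Hom.finite_preimage_singleton f y
  have hres : ∀ p : X, (f.residueFieldMap p).hom.Finite := fun p ↦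
    EL.finite_residueFieldMap_of_quasiFiniteAt (f.quasiFiniteAt p)
  have sq : IsPullback (pullback.fst f C.g) (pullback.snd f C.g) f C.g :=
    IsPullback.of_hasPullback f C.g
  obtain ⟨Ω, _, _, xb, hxb⟩ := WT.exists_geometric_point v
  have hxb' : (xb ≫ C.g) (IsLocalRing.closedPoint Ω) = C.g v := by
    rw [Scheme.Hom.comp_apply, hxb]
  have e1 := WT.fibreIntegral_eq_geomIntegral_top Ω f w (xb ≫ C.g) (C.g v) hxb' (hfin _)
    (fun p _ ↦ hres p)
  have e2 := WT.geomIntegral_of_isPullback Ω sq ⊤ w xb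
  have e3 : MoreMor.fibreIntegral f w (C.g v) =
      WT.geomIntegral (pullback.snd f C.g) Ω ((pullback.fst f C.g) ⁻¹ᵁ ⊤)
        (fun p ↦ w (pullback.fst f C.g p)) xb :=
    e1.trans e2.symm
  rw [e3, WT.geomIntegral_eq_sum (pullback.snd f C.g) Ω _ C.B _ xb]
  · refine Finset.sum_congr rfl fun s _ ↦ ?_
    haveI := C.hB s
    exact (WT.fibreIntegral_eq_geomIntegral (pullback.snd f C.g) Ω (C.B s)
      (fun p ↦ w (pullback.fst f C.g p)) xb v hxb).symm
  · intro s
    haveI := C.hB s
    exact WT.finite_lifts_open (pullback.snd f C.g) Ω (C.B s) xb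
  · intro p hp
    exact ⟨fun _ ↦ hv.cov p (by rw [hp, hxb]), fun _ ↦ trivial⟩
  · intro p hp
    exact hv.disj p (by rw [hp, hxb])

/-- At a good point, the integral over a piece is the value at the unique point of the piece. -/
lemma Good.G_eq {C : Chart f} {v : C.V} (hv : C.Good v) (w : X → ℤ) (s : C.σ)
    (p : ↑(pullback f C.g)) (hp : p ∈ C.B s) (hpv : pullback.snd f C.g p = v) :
    C.G w s v = w (pullback.fst f C.g p) := by
  haveI := C.hB s
  have hπt : ((C.B s).ι ≫ pullback.snd f C.g) ⟨p, hp⟩ = v := by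
    rw [Scheme.Hom.comp_apply]; exact hpv
  have := PC.fibreIntegral_eq_of_unique_lift ((C.B s).ι ≫ pullback.snd f C.g)
    (fun t ↦ w (pullback.fst f C.g ((C.B s).ι t))) ⟨p, hp⟩ (by
      intro Ω _ xb hxb ℓ₁ ℓ₂ h₁ h₂
      have key := hv.uniq s Ω (ℓ₁ ≫ (C.B s).ι) (ℓ₂ ≫ (C.B s).ι)
        (by rw [Scheme.Hom.comp_apply]; exact (ℓ₁ (IsLocalRing.closedPoint Ω)).2)
        (by rw [Scheme.Hom.comp_apply]; exact (ℓ₂ (IsLocalRing.closedPoint Ω)).2)
        (by rw [Category.assoc, Category.assoc, h₁, h₂])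
        (by
          rw [← Scheme.Hom.comp_apply, Category.assoc, h₁, hxb, hπt])
      exact (cancel_mono (C.B s).ι).mp key)
  rw [hπt] at this
  exact this

/-- The integral over a piece vanishes at points over which the piece is empty. -/
lemma G_eq_zero (C : Chart f) (w : X → ℤ) (s : C.σ) (v : C.V)
    (h : ∀ p ∈ C.B s, pullback.snd f C.g p ≠ v) : C.G w s v = 0 := by
  unfold G MoreMor.fibreIntegral
  haveI : IsEmpty {u : (C.B s).toScheme // ((C.B s).ι ≫ pullback.snd f C.g) u = v} :=
    ⟨fun u ↦ h ((C.B s).ι u.1) u.1.2 (by rw [← Scheme.Hom.comp_apply]; exact u.2)⟩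
  exact finsum_of_isEmpty _

end Chart

/-- A function which is constant on constructible neighbourhoods has fibre integrals which are
constant on constructible neighbourhoods. -/
theorem exists_constructible_nbhd_const_integral (f : X ⟶ Y) [LocallyQuasiFinite f]
    [LocallyOfFinitePresentation f] [QuasiCompact f] [QuasiSeparated f] [IsAffine Y]
    (w : X → ℤ)
    (hw : ∀ x : X, ∃ O : Set X, IsConstructible O ∧ x ∈ O ∧ ∀ x' ∈ O, w x' = w x) (y : Y) :
    ∃ C : Set Y, IsConstructible C ∧ y ∈ C ∧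
      ∀ y' ∈ C, MoreMor.fibreIntegral f w y' = MoreMor.fibreIntegral f w y := by
  classical
  obtain ⟨C, v₀, E, hVaff, hv₀, hE, hv₀E, hgoodE⟩ := exists_chart f y
  haveI := C.et
  haveI := C.fin
  have := Fintype.ofFinite C.σ
  obtain ⟨π, hπ⟩ : ∃ π : pullback f C.g ⟶ C.V, π = pullback.snd f C.g := ⟨_, rfl⟩
  haveI : QuasiCompact π := hπ ▸ inferInstance
  haveI : QuasiSeparated π := hπ ▸ inferInstance
  haveI : LocallyOfFinitePresentation π := hπ ▸ inferInstance
  haveI : CompactSpace ↑(pullback f C.g) :=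
    (HasAffineProperty.iff_of_isAffine (P := @QuasiCompact)).mp (inferInstance : QuasiCompact π)
  haveI : QuasiSeparatedSpace ↑(pullback f C.g) :=
    (HasAffineProperty.iff_of_isAffine (P := @QuasiSeparated)).mp
      (inferInstance : QuasiSeparated π)
  -- the pieces are constructible
  have hBc : ∀ s, IsConstructible ((C.B s : (pullback f C.g).Opens) : Set ↑(pullback f C.g)) := by
    intro s
    refine IsCompact.isConstructible ?_ (C.B s).2
    haveI := C.hB s
    haveI : IsAffine (C.B s).toScheme :=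
      isAffine_of_isAffineHom ((C.B s).ι ≫ pullback.snd f C.g)
    have : IsCompact (Set.range (C.B s).ι) := isCompact_range (C.B s).ι.continuous
    rwa [Scheme.Opens.range_ι] at this
  -- the constructible conditions
  have hEs : ∀ s : C.σ, ∃ Es : Set C.V, IsConstructible Es ∧ v₀ ∈ Es ∧
      ∀ v ∈ Es, C.Good v → C.G w s v = C.G w s v₀ := by
    intro s
    by_cases hs : ∃ p ∈ C.B s, π p = v₀
    · obtain ⟨p₀, hp₀, hp₀v⟩ := hs
      obtain ⟨O, hO, hxO, hOc⟩ := hw (pullback.fst f C.g p₀)
      refine ⟨π '' ((C.B s : Set ↑(pullback f C.g)) ∩ (pullback.fst f C.g) ⁻¹' O),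
        π.isConstructible_image ((hBc s).inter ((pullback.fst f C.g).isConstructible_preimage hO)),
        ⟨p₀, ⟨hp₀, hxO⟩, hp₀v⟩, ?_⟩
      rintro _ ⟨p, ⟨hp, hpO⟩, rfl⟩ hgood
      rw [hgood.G_eq w s p hp (hπ ▸ rfl), (hgoodE v₀ hv₀E).G_eq w s p₀ hp₀ (hπ ▸ hp₀v)]
      exact hOc _ hpO
    · push Not at hs
      refine ⟨(π '' (C.B s : Set ↑(pullback f C.g)))ᶜ, (π.isConstructible_image (hBc s)).compl,
        ?_, ?_⟩
      · rintro ⟨p, hp, hpv⟩
        exact hs p hp hpv
      · intro v hv _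
        rw [C.G_eq_zero w s v (fun p hp hpv ↦ hv ⟨p, hp, hπ ▸ hpv⟩),
          C.G_eq_zero w s v₀ (fun p hp hpv ↦ hs p hp (hπ ▸ hpv))]
  choose Es hEsc hEsmem hEsconst using hEs
  haveI : QuasiCompact C.g := (HasAffineProperty.iff_of_isAffine (P := @QuasiCompact)).mpr
    inferInstance
  refine ⟨C.g '' (E ∩ ⋂ s, Es s), C.g.isConstructible_image (hE.inter (IsConstructible.iInter hEsc)),
    ⟨v₀, ⟨hv₀E, Set.mem_iInter.mpr hEsmem⟩, hv₀⟩, ?_⟩
  rintro _ ⟨v, ⟨hvE, hvEs⟩, rfl⟩
  rw [← hv₀, (hgoodE v hvE).fibreIntegral_eq_sum w, (hgoodE v₀ hv₀E).fibreIntegral_eq_sum w]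
  exact Finset.sum_congr rfl fun s _ ↦ hEsconst s v (Set.mem_iInter.mp hvEs s) (hgoodE v hvE)

/-- Level sets of fibre integrals of functions with constructible level sets are
constructible. -/
theorem isConstructible_fibreIntegral_eq (f : X ⟶ Y) [LocallyQuasiFinite f]
    [LocallyOfFinitePresentation f] [QuasiCompact f] [QuasiSeparated f] [IsAffine Y]
    (w : X → ℤ)
    (hw : ∀ x : X, ∃ O : Set X, IsConstructible O ∧ x ∈ O ∧ ∀ x' ∈ O, w x' = w x) (n : ℤ) :
    IsConstructible {y : Y | MoreMor.fibreIntegral f w y = n} := by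
  classical
  choose C hC hmem hconst using exists_constructible_nbhd_const_integral f w hw
  obtain ⟨s, hs⟩ := PC.exists_finset_cover_of_isConstructible C hC (fun y' => ⟨y', hmem y'⟩)
  have heq : {y : Y | MoreMor.fibreIntegral f w y = n} =
      ⋃ t ∈ (s.filter (fun t => MoreMor.fibreIntegral f w t = n) : Finset Y), C t := by
    ext t'
    simp only [Set.mem_ofPred_eq, Set.mem_iUnion, Finset.mem_filter, exists_prop]
    constructor
    · intro ht'
      obtain ⟨t, hts, ht't⟩ := hs t'
      exact ⟨t, ⟨hts, (hconst t t' ht't).symm.trans ht'⟩, ht't⟩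
    · rintro ⟨t, ⟨_, htn⟩, ht't⟩
      exact (hconst t t' ht't).trans htn
  rw [heq]
  exact IsConstructible.biUnion (Finset.finite_toSet _) (fun t _ => hC t)

end Groth.Agent.Lib.helper9.WtLim
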