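/-
Helper library (helper9): the local criterion for weightings is stable under base change.
-/
import Groth.Agent.Lib.Helper9.WtLim4

set_option autoImplicit false
set_option linter.style.haveILetI false
set_option backward.isDefEq.respectTransparency false

namespace Groth.Agent.Lib.helper9.WtLim

open AlgebraicGeometry CategoryTheory Limits Topology Groth.Agent.Lib.helper13

universe u

variable {X Y : Scheme.{u}} {f : X ⟶ Y}

theorem LocCrit.baseChange {w : X → ℤ} {y : Y} (H : LocCrit f w y) {X' Y' : Scheme.{u}}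
    {f' : X' ⟶ Y'} {h : X' ⟶ X} {g₀ : Y' ⟶ Y} (hc : IsPullback h f' f g₀) (w' : X' → ℤ)
    (hw' : ∀ x', w' x' = w (h x')) (y' : Y') (hy' : g₀ y' = y) : LocCrit f' w' y' := by
  obtain ⟨C, v, hv, hgood, hconst⟩ := H
  haveI := C.et
  obtain ⟨v', hv'1, hv'2⟩ := Scheme.Pullback.exists_preimage_pullback (f := C.g) (g := g₀) v y'
    (hv.trans hy'.symm)
  have comm : pullback.fst C.g g₀ ≫ C.g = pullback.snd C.g g₀ ≫ g₀ := pullback.condition
  refine ⟨C.pull hc (pullback.snd C.g g₀) (pullback.fst C.g g₀) comm, v', hv'2,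
    C.pull_good hc _ _ comm v' (hv'1 ▸ hgood), fun s ↦ ?_⟩
  obtain ⟨O, hO, hvO, hOc⟩ := hconst s
  refine ⟨(pullback.fst C.g g₀) ⁻¹' O, hO.preimage (pullback.fst C.g g₀).continuous, ?_, ?_⟩
  · show pullback.fst C.g g₀ v' ∈ O
    rw [hv'1]; exact hvO
  · intro v'' hv''
    have e1 := C.pull_G hc (pullback.snd C.g g₀) (pullback.fst C.g g₀) comm w w' hw' s v''
    have e2 := C.pull_G hc (pullback.snd C.g g₀) (pullback.fst C.g g₀) comm w w' hw' s v'
    exact e1.trans ((hOc _ hv'').trans ((congrArg (C.G w s) hv'1).symm.trans e2.symm))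

end Groth.Agent.Lib.helper9.WtLim
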