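/-
Helper library (helper9): descent of weightings along a tower of base changes (abstract form).
-/
import Groth.Agent.Lib.Helper9.WtLim5
import Groth.Agent.Lib.Helper9.LimBaseChange
import Groth.Agent.S4761

set_option autoImplicit false
set_option linter.style.haveILetI false
set_option backward.isDefEq.respectTransparency false

namespace Groth.Agent.Lib.helper9.WtLim

open AlgebraicGeometry CategoryTheory Limits Topology Groth.Agent.Lib.helper13
open Groth.Agent.Lib.helper9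

universe u

lemma apply_eq_of_comp_eq {A B C : Scheme.{u}} {a : A ⟶ B} {b : B ⟶ C} {c : A ⟶ C}
    (h : a ≫ b = c) (x : A) : b (a x) = c x := by
  rw [← h, Scheme.Hom.comp_apply]

section Tower

variable {I : Type u} [SmallCategory I] [IsCofiltered I]
  (DX DY : I ⥤ Scheme.{u}) (φ : DX ⟶ DY)
  (hφ : ∀ {i j : I} (a : i ⟶ j), IsPullback (DX.map a) (φ.app i) (φ.app j) (DY.map a))
  (cX : Cone DX) (cY : Cone DY) (hcY : IsLimit cY)
  (f : cX.pt ⟶ cY.pt) (hf : ∀ i, IsPullback (cX.π.app i) f (φ.app i) (cY.π.app i))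
  [∀ i, IsAffine (DY.obj i)]
  [∀ i, LocallyQuasiFinite (φ.app i)] [∀ i, LocallyOfFinitePresentation (φ.app i)]
  [∀ i, QuasiCompact (φ.app i)] [∀ i, QuasiSeparated (φ.app i)]

include hφ hcY hf in
theorem exists_constructible_locCrit (t : I) (wt : DX.obj t → ℤ)
    (hwt : ∀ x, ∃ O : Set (DX.obj t), IsConstructible O ∧ x ∈ O ∧ ∀ x' ∈ O, wt x' = wt x)
    (hw : MoreMor.IsWeighting f (fun x ↦ wt (cX.π.app t x))) (y : cY.pt) :
    ∃ (j : Over t) (T : Set (DY.obj j.left)), IsConstructible T ∧ cY.π.app j.left y ∈ T ∧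
      ∀ y' ∈ T, LocCrit (φ.app j.left) (fun x ↦ wt (DX.map j.hom x)) y' := by
  classical
  haveI hDYaff : ∀ (i j : I) (a : i ⟶ j), IsAffineHom (DY.map a) := fun i j a ↦ inferInstance
  obtain ⟨C, v₀, E, hVaff, hv₀, hE, hv₀E, hgoodE⟩ := exists_chart (φ.app t) (cY.π.app t y)
  haveI := C.et
  haveI := C.fin
  haveI := hVaff
  -- the level sets of the integrals over the pieces
  have hZ : ∀ s, IsConstructible {v : C.V | C.G wt s v = C.G wt s v₀} := by
    intro s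
    haveI := C.hB s
    refine isConstructible_fibreIntegral_eq ((C.B s).ι ≫ pullback.snd (φ.app t) C.g)
      (fun u ↦ wt (pullback.fst (φ.app t) C.g ((C.B s).ι u))) ?_ (C.G wt s v₀)
    intro u
    obtain ⟨O, hO, huO, hOc⟩ := hwt (pullback.fst (φ.app t) C.g ((C.B s).ι u))
    refine ⟨((C.B s).ι ≫ pullback.fst (φ.app t) C.g) ⁻¹' O,
      ((C.B s).ι ≫ pullback.fst (φ.app t) C.g).isConstructible_preimage hO, ?_, ?_⟩
    · show ((C.B s).ι ≫ pullback.fst (φ.app t) C.g) u ∈ O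
      rw [Scheme.Hom.comp_apply]; exact huO
    · intro u' hu'
      have : ((C.B s).ι ≫ pullback.fst (φ.app t) C.g) u' ∈ O := hu'
      rw [Scheme.Hom.comp_apply] at this
      exact hOc _ this
  obtain ⟨Z, hZdef⟩ : ∃ Z : Set C.V, Z = ⋂ s, {v : C.V | C.G wt s v = C.G wt s v₀} := ⟨_, rfl⟩
  have hZc : IsConstructible Z := hZdef ▸ IsConstructible.iInter hZ
  have hZmem : ∀ v, v ∈ Z ↔ ∀ s, C.G wt s v = C.G wt s v₀ := by
    intro v; rw [hZdef]; simp
  -- the limit of the étale neighbourhoods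
  have hcv : IsLimit (bcCone DY cY t C.g) := isLimitBcCone DY cY t C.g hcY
  obtain ⟨vI, hvI1, hvI2⟩ := Scheme.Pullback.exists_preimage_pullback (f := cY.π.app t)
    (g := C.g) y v₀ hv₀.symm
  -- the chart over the limit
  have commI : pullback.snd (cY.π.app t) C.g ≫ C.g = pullback.fst (cY.π.app t) C.g ≫ cY.π.app t :=
    pullback.condition.symm
  have hGI : ∀ (s : C.σ) (v : ↑(pullback (cY.π.app t) C.g)), (C.pull (hf t) (pullback.fst (cY.π.app t) C.g)
      (pullback.snd (cY.π.app t) C.g) commI).G (fun x ↦ wt (cX.π.app t x)) s v =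
      C.G wt s (pullback.snd (cY.π.app t) C.g v) := fun s v ↦
    C.pull_G (hf t) _ _ commI wt _ (fun _ ↦ rfl) s v
  have hlc : ∀ s : C.σ, IsLocallyConstant ((C.pull (hf t) (pullback.fst (cY.π.app t) C.g)
      (pullback.snd (cY.π.app t) C.g) commI).G (fun x ↦ wt (cX.π.app t x)) s) := fun s ↦
    hw _ (pullback.fst (cY.π.app t) C.g) _
      ((C.pull (hf t) (pullback.fst (cY.π.app t) C.g)
        (pullback.snd (cY.π.app t) C.g) commI).hB s)
  have hopenI : IsOpen ((pullback.snd (cY.π.app t) C.g) ⁻¹' Z) := by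
    have : (pullback.snd (cY.π.app t) C.g) ⁻¹' Z = ⋂ s : C.σ, ((C.pull (hf t)
        (pullback.fst (cY.π.app t) C.g) (pullback.snd (cY.π.app t) C.g) commI).G
        (fun x ↦ wt (cX.π.app t x)) s) ⁻¹' {C.G wt s v₀} := by
      ext v
      simp only [Set.mem_preimage, hZmem, Set.mem_iInter, Set.mem_singleton_iff, hGI]
    rw [this]
    exact isOpen_iInter_of_finite fun s ↦ (hlc s).isOpen_fiber _
  -- openness at a finite stage
  haveI : IsAffine ((bcDiagram DY t C.g).obj (Over.mk (𝟙 t))) := by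
    dsimp [bcDiagram]; infer_instance
  obtain ⟨j, ψ, hopenj⟩ := (Groth.Agent.S4761.result (bcDiagram DY t C.g) (bcCone DY cY t C.g) hcv
    (Over.mk (𝟙 t)) ((pullback.snd (DY.map (Over.mk (𝟙 t)).hom) C.g) ⁻¹' Z)
    ((pullback.snd (DY.map (Over.mk (𝟙 t)).hom) C.g).isConstructible_preimage hZc)).mp (by
      have e : (bcCone DY cY t C.g).π.app (Over.mk (𝟙 t)) ≫
          pullback.snd (DY.map (Over.mk (𝟙 t)).hom) C.g = pullback.snd (cY.π.app t) C.g := by
        simp [pullback.map]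
      have hset : (⇑((bcCone DY cY t C.g).π.app (Over.mk (𝟙 t))) ⁻¹'
          ((pullback.snd (DY.map (Over.mk (𝟙 t)).hom) C.g) ⁻¹' Z) :
            Set ↑(bcCone DY cY t C.g).pt) = (pullback.snd (cY.π.app t) C.g) ⁻¹' Z := by
        ext v
        exact iff_of_eq (congrArg (· ∈ Z) (apply_eq_of_comp_eq e v))
      rw [hset]; exact hopenI)
  -- the stage `j`
  obtain ⟨gj, hgj⟩ : ∃ gj : pullback (DY.map j.hom) C.g ⟶ DY.obj j.left,
    gj = pullback.fst (DY.map j.hom) C.g := ⟨_, rfl⟩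
  obtain ⟨dj, hdj⟩ : ∃ dj : pullback (DY.map j.hom) C.g ⟶ C.V,
    dj = pullback.snd (DY.map j.hom) C.g := ⟨_, rfl⟩
  haveI : Etale gj := hgj ▸ inferInstance
  haveI : QuasiCompact gj := hgj ▸ inferInstance
  have hopenj' : IsOpen (dj ⁻¹' Z) := by
    have e : (bcDiagram DY t C.g).map ψ ≫ pullback.snd (DY.map (Over.mk (𝟙 t)).hom) C.g = dj := by
      rw [hdj]; simp [pullback.map]
    have hset : (⇑((bcDiagram DY t C.g).map ψ) ⁻¹'
        ((pullback.snd (DY.map (Over.mk (𝟙 t)).hom) C.g) ⁻¹' Z) :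
          Set ↑((bcDiagram DY t C.g).obj j)) = dj ⁻¹' Z := by
      ext v
      exact iff_of_eq (congrArg (· ∈ Z) (apply_eq_of_comp_eq e v))
    rw [← hset]; exact hopenj
  have commj : dj ≫ C.g = gj ≫ DY.map j.hom := by
    rw [hgj, hdj]; exact pullback.condition.symm
  refine ⟨j, gj '' (dj ⁻¹' (Z ∩ E)),
    gj.isConstructible_image (dj.isConstructible_preimage (hZc.inter hE)), ?_, ?_⟩
  · have e1 : (bcCone DY cY t C.g).π.app j ≫ dj = pullback.snd (cY.π.app t) C.g := by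
      rw [hdj]; simp [pullback.map]
    have e2 : (bcCone DY cY t C.g).π.app j ≫ gj =
        pullback.fst (cY.π.app t) C.g ≫ cY.π.app j.left := by
      rw [hgj]; simp [pullback.map]
    obtain ⟨vj, hvj⟩ : ∃ vj : ↑(pullback (DY.map j.hom) C.g),
      vj = (bcCone DY cY t C.g).π.app j vI := ⟨_, rfl⟩
    have h1 : dj vj = v₀ := by
      rw [hvj]; exact (apply_eq_of_comp_eq e1 vI).trans hvI2
    have h2 : gj vj = cY.π.app j.left y := by
      rw [hvj]
      exact (apply_eq_of_comp_eq e2 vI).trans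
        ((Scheme.Hom.comp_apply _ _ _).trans (congrArg (cY.π.app j.left) hvI1))
    refine ⟨vj, ?_, h2⟩
    show dj vj ∈ Z ∩ E
    rw [h1]
    exact ⟨(hZmem v₀).mpr fun _ ↦ rfl, hv₀E⟩
  · rintro _ ⟨v, ⟨hvZ, hvE⟩, rfl⟩
    have hGj : ∀ (s : C.σ) (v' : ↑(pullback (DY.map j.hom) C.g)),
        (C.pull (hφ j.hom) gj dj commj).G (fun x ↦ wt (DX.map j.hom x)) s v' =
          C.G wt s (dj v') := fun s v' ↦
      C.pull_G (hφ j.hom) gj dj commj wt _ (fun _ ↦ rfl) s v'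
    refine ⟨C.pull (hφ j.hom) gj dj commj, v, rfl, C.pull_good (hφ j.hom) gj dj commj v
      (hgoodE _ hvE), fun s ↦ ⟨dj ⁻¹' Z, hopenj', hvZ, fun v' hv' ↦ ?_⟩⟩
    exact (hGj s v').trans ((((hZmem _).mp hv') s).trans ((((hZmem _).mp hvZ) s).symm.trans
      (hGj s v).symm))

include hφ hcY hf in
theorem exists_isWeighting_stage (t : I) (wt : DX.obj t → ℤ)
    (hwt : ∀ x, ∃ O : Set (DX.obj t), IsConstructible O ∧ x ∈ O ∧ ∀ x' ∈ O, wt x' = wt x)
    (hw : MoreMor.IsWeighting f (fun x ↦ wt (cX.π.app t x))) :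
    ∃ j : Over t, MoreMor.IsWeighting (φ.app j.left) (fun x ↦ wt (DX.map j.hom x)) := by
  classical
  haveI hDYaff : ∀ (i j : I) (a : i ⟶ j), IsAffineHom (DY.map a) := fun i j a ↦ inferInstance
  haveI hDYaff' : ∀ {i j : I} (a : i ⟶ j), IsAffineHom (DY.map a) := fun {i j} a ↦ inferInstance
  haveI : IsAffine cY.pt := Scheme.isAffine_of_isLimit cY hcY
  choose j T hT hmem hLC using exists_constructible_locCrit DX DY φ hφ cX cY hcY f hf t wt hwt hw
  obtain ⟨S, hS⟩ := PC.exists_finset_cover_of_isConstructible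
    (fun y : cY.pt ↦ (cY.π.app (j y).left) ⁻¹' (T y))
    (fun y ↦ (cY.π.app (j y).left).isConstructible_preimage (hT y))
    (fun y ↦ ⟨y, Set.mem_preimage.mpr (hmem y)⟩)
  obtain ⟨k, hk⟩ := IsCofiltered.inf_objs_exists (S.image j)
  have b : ∀ y : {y // y ∈ S}, k ⟶ j y.1 := fun y ↦
    (hk (Finset.mem_image_of_mem j y.2)).some
  -- persistence of the local criterion
  have hpers : ∀ (y : cY.pt) (k' : Over t) (β : k' ⟶ j y) (y'' : DY.obj k'.left),
      DY.map β.left y'' ∈ T y → LocCrit (φ.app k'.left) (fun x ↦ wt (DX.map k'.hom x)) y'' := by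
    intro y k' β y'' hy''
    refine (hLC y _ hy'').baseChange (hφ β.left) _ (fun x' ↦ ?_) y'' rfl
    have e : DX.map k'.hom = DX.map β.left ≫ DX.map (j y).hom := by
      rw [← DX.map_comp, Over.w β]
    show wt (DX.map k'.hom x') = wt (DX.map (j y).hom (DX.map β.left x'))
    rw [e, Scheme.Hom.comp_apply]
  obtain ⟨Tk, hTkdef⟩ : ∃ Tk : Set (DY.obj k.left),
      Tk = ⋃ y : {y // y ∈ S}, (DY.map (b y).left) ⁻¹' (T y.1) := ⟨_, rfl⟩
  have hTkc : IsConstructible Tk := by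
    rw [hTkdef]
    exact IsConstructible.iUnion fun y ↦ (DY.map (b y).left).isConstructible_preimage (hT y.1)
  have hTkLC : ∀ y'' ∈ Tk, LocCrit (φ.app k.left) (fun x ↦ wt (DX.map k.hom x)) y'' := by
    intro y'' hy''
    rw [hTkdef] at hy''
    obtain ⟨y, hy⟩ := Set.mem_iUnion.mp hy''
    exact hpers y.1 k (b y) y'' hy
  have hWmem : ∀ z : DY.obj k.left, z ∈ ((((⊤ : (DY.obj k.left).Opens) : Set (DY.obj k.left)) ∩
      Tkᶜ) \ ((⊥ : (DY.obj k.left).Opens) : Set (DY.obj k.left))) ↔ z ∉ Tk := by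
    intro z
    constructor
    · rintro ⟨⟨-, hz⟩, -⟩
      exact hz
    · intro hz
      exact ⟨⟨trivial, hz⟩, fun h ↦ h⟩
  have hpre : (⇑(cY.π.app k.left) ⁻¹' ((((⊤ : (DY.obj k.left).Opens) : Set (DY.obj k.left)) ∩
      Tkᶜ) \ ((⊥ : (DY.obj k.left).Opens) : Set (DY.obj k.left))) : Set cY.pt) = ∅ := by
    rw [Set.eq_empty_iff_forall_notMem]
    intro y₀ hy₀
    have hy₀' : cY.π.app k.left y₀ ∉ Tk := (hWmem _).mp hy₀
    apply hy₀'
    obtain ⟨y, hyS, hy⟩ := hS y₀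
    rw [hTkdef]
    refine Set.mem_iUnion.mpr ⟨⟨y, hyS⟩, ?_⟩
    have e := apply_eq_of_comp_eq (cY.w (b ⟨y, hyS⟩).left) y₀
    show DY.map (b ⟨y, hyS⟩).left (cY.π.app k.left y₀) ∈ T y
    exact e ▸ hy
  obtain ⟨k', ψ, hk'⟩ := Groth.Agent.S4761.lemE DY cY hcY k.left ⊤
    (by simpa using isCompact_univ) ⊥ Tkᶜ hTkc.compl hpre
  refine ⟨Over.mk (ψ ≫ k.hom), ?_⟩
  refine isWeighting_of_locCrit _ _ fun y' ↦ ?_
  have hy' : DY.map ψ y' ∈ Tk := by
    by_contra hno
    have : y' ∈ (⇑(DY.map ψ) ⁻¹' ((((⊤ : (DY.obj k.left).Opens) : Set (DY.obj k.left)) ∩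
        Tkᶜ) \ ((⊥ : (DY.obj k.left).Opens) : Set (DY.obj k.left))) : Set (DY.obj k')) :=
      (hWmem _).mpr hno
    rw [hk'] at this
    exact this
  refine (hTkLC _ hy').baseChange (hφ ψ) _ (fun x' ↦ ?_) y' rfl
  show wt (DX.map (ψ ≫ k.hom) x') = wt (DX.map k.hom (DX.map ψ x'))
  rw [DX.map_comp, Scheme.Hom.comp_apply]

end Tower

end Groth.Agent.Lib.helper9.WtLim
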