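/-
Helper library (helper9): descent of weightings along a tower of base changes of affine schemes.
-/
import Groth.Agent.Lib.Helper9.WtLim6
import Groth.Agent.S4759
import Groth.Agent.S1423

set_option autoImplicit false
set_option linter.style.haveILetI false
set_option backward.isDefEq.respectTransparency false

namespace Groth.Agent.Lib.helper9.WtLim

open AlgebraicGeometry CategoryTheory Limits Topology Groth.Agent.Lib.helper13
open Groth.Agent.Lib.helper9

universe u

section Main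

variable {I : Type u} [SmallCategory I] [IsCofiltered I]
  (DX DY : I ⥤ Scheme.{u}) (φ : DX ⟶ DY)
  (hφ : ∀ {i j : I} (a : i ⟶ j), IsPullback (DX.map a) (φ.app i) (φ.app j) (DY.map a))
  (cX : Cone DX) (hcX : IsLimit cX) (cY : Cone DY) (hcY : IsLimit cY)
  (f : cX.pt ⟶ cY.pt) (hf : ∀ i, IsPullback (cX.π.app i) f (φ.app i) (cY.π.app i))
  [∀ i, IsAffine (DX.obj i)] [∀ i, IsAffine (DY.obj i)]
  [∀ i, LocallyQuasiFinite (φ.app i)] [∀ i, LocallyOfFinitePresentation (φ.app i)]

include hφ hcX hcY hf in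
theorem exists_isWeighting_descend (w : cX.pt → ℤ) (hw : MoreMor.IsWeighting f w) :
    ∃ (i : I) (wi : DX.obj i → ℤ), MoreMor.IsWeighting (φ.app i) wi ∧
      ∀ x, wi (cX.π.app i x) = w x := by
  classical
  obtain ⟨i₀⟩ := IsCofiltered.nonempty (C := I)
  haveI : LocallyQuasiFinite f := MorphismProperty.of_isPullback (hf i₀) inferInstance
  haveI : LocallyOfFinitePresentation f := MorphismProperty.of_isPullback (hf i₀) inferInstance
  haveI : IsAffine cX.pt := Scheme.isAffine_of_isLimit cX hcX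
  haveI hDXaff : ∀ (i j : I) (a : i ⟶ j), IsAffineHom (DX.map a) := fun i j a ↦ inferInstance
  have hlev : ∀ n : ℤ, IsConstructible {x : cX.pt | w x = n} := fun n ↦
    (Groth.Agent.S1423.result f w hw n).isConstructible
  obtain ⟨S, hS⟩ := PC.exists_finset_cover_of_isConstructible
    (fun n : ℤ ↦ {x : cX.pt | w x = n}) hlev (fun x ↦ ⟨w x, rfl⟩)
  have hwS : ∀ x, w x ∈ S := by
    intro x
    obtain ⟨n, hn, hx⟩ := hS x
    have : w x = n := hx
    rw [this]; exact hn
  -- descend the level sets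
  have hdesc : ∀ n : ℤ, ∃ (i : I) (Zi : Set (DX.obj i)), IsConstructible Zi ∧
      (⇑(cX.π.app i) ⁻¹' Zi : Set cX.pt) = {x : cX.pt | w x = n} := by
    intro n
    obtain ⟨i, -, Zi, h1, h2⟩ := Groth.Agent.S4759.result DX cX hcX i₀ _ (hlev n)
    exact ⟨i, Zi, h1, h2⟩
  choose ι Zn hZn hZpre using hdesc
  obtain ⟨t, ht⟩ := IsCofiltered.inf_objs_exists (S.image ι)
  have a : ∀ n : {n // n ∈ S}, t ⟶ ι n.1 := fun n ↦ (ht (Finset.mem_image_of_mem ι n.2)).some
  obtain ⟨Z', hZ'def⟩ : ∃ Z' : {n // n ∈ S} → Set (DX.obj t),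
      Z' = fun n ↦ (DX.map (a n)) ⁻¹' (Zn n.1) := ⟨_, rfl⟩
  have hZ'c : ∀ n, IsConstructible (Z' n) := by
    intro n
    rw [hZ'def]
    exact (DX.map (a n)).isConstructible_preimage (hZn n.1)
  have hZ'pre : ∀ (n : {n // n ∈ S}) (x : cX.pt), cX.π.app t x ∈ Z' n ↔ w x = n.1 := by
    intro n x
    rw [hZ'def]
    have e := apply_eq_of_comp_eq (cX.w (a n)) x
    have h1 : x ∈ (⇑(cX.π.app (ι n.1)) ⁻¹' Zn n.1 : Set cX.pt) ↔ w x = n.1 := by
      rw [hZpre n.1]; exact Iff.rfl
    show DX.map (a n) (cX.π.app t x) ∈ Zn n.1 ↔ _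
    exact (iff_of_eq (congrArg (· ∈ Zn n.1) e)).trans h1
  -- the function at stage `t`
  obtain ⟨wt, hwtdef⟩ : ∃ wt : DX.obj t → ℤ, wt = fun x ↦
      ∑ n ∈ (Finset.univ.filter (fun n : {n // n ∈ S} ↦ x ∈ Z' n)), n.1 := ⟨_, rfl⟩
  have hwt_pull : ∀ x : cX.pt, wt (cX.π.app t x) = w x := by
    intro x
    rw [hwtdef]
    have hfilter : (Finset.univ.filter (fun n : {n // n ∈ S} ↦ cX.π.app t x ∈ Z' n)) =
        {⟨w x, hwS x⟩} := by
      ext n
      simp only [Finset.mem_filter, Finset.mem_univ, true_and, Finset.mem_singleton]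
      rw [hZ'pre n x]
      constructor
      · intro h
        exact Subtype.ext h.symm
      · intro h
        rw [h]
    show ∑ n ∈ (Finset.univ.filter (fun n : {n // n ∈ S} ↦ cX.π.app t x ∈ Z' n)), n.1 = w x
    rw [hfilter, Finset.sum_singleton]
  have hwt : ∀ x, ∃ O : Set (DX.obj t), IsConstructible O ∧ x ∈ O ∧ ∀ x' ∈ O, wt x' = wt x := by
    intro x
    refine ⟨⋂ n : {n // n ∈ S}, (if x ∈ Z' n then Z' n else (Z' n)ᶜ),
      IsConstructible.iInter fun n ↦ ?_, Set.mem_iInter.mpr fun n ↦ ?_, fun x' hx' ↦ ?_⟩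
    · split_ifs
      · exact hZ'c n
      · exact (hZ'c n).compl
    · split_ifs with h
      · exact h
      · exact h
    · have hiff : ∀ n, x' ∈ Z' n ↔ x ∈ Z' n := by
        intro n
        have := Set.mem_iInter.mp hx' n
        by_cases h : x ∈ Z' n
        · rw [if_pos h] at this
          exact ⟨fun _ ↦ h, fun _ ↦ this⟩
        · rw [if_neg h] at this
          exact ⟨fun h' ↦ absurd h' this, fun h' ↦ absurd h' h⟩
      rw [hwtdef]
      show ∑ n ∈ (Finset.univ.filter (fun n : {n // n ∈ S} ↦ x' ∈ Z' n)), n.1 =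
        ∑ n ∈ (Finset.univ.filter (fun n : {n // n ∈ S} ↦ x ∈ Z' n)), n.1
      congr 1
      ext n
      simp only [Finset.mem_filter, Finset.mem_univ, true_and]
      exact hiff n
  have hw' : MoreMor.IsWeighting f (fun x ↦ wt (cX.π.app t x)) := by
    have : (fun x ↦ wt (cX.π.app t x)) = w := funext hwt_pull
    exact Eq.mpr (congrArg (MoreMor.IsWeighting f) this) hw
  obtain ⟨j, hj⟩ := exists_isWeighting_stage DX DY φ hφ cX cY hcY f hf t wt hwt hw'
  refine ⟨j.left, fun x ↦ wt (DX.map j.hom x), hj, fun x ↦ ?_⟩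
  show wt (DX.map j.hom (cX.π.app j.left x)) = w x
  exact (congrArg wt (apply_eq_of_comp_eq (cX.w j.hom) x)).trans (hwt_pull x)

end Main

end Groth.Agent.Lib.helper9.WtLim
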