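import Groth.Agent.Lib.Helper9.ZMTFin1
import Groth.Agent.Lib.Helper16.QCAlg10
import Groth.Agent.Lib.Helper16.QCAlg2
import Groth.Agent.Lib.Helper28.RelSpecLocal
import Groth.Agent.Lib.Helper12.FiniteProj

/-!
# ZMT, finite form (helper9), part 2: the relative spectrum of a finite type subalgebra of an
integral algebra

`ν : N ⟶ S` integral, `𝒩 = ν_* O_N`, `E` a quasi-coherent module of finite type with
`i : E ⟶ 𝒩`, `ℬ = subAlg 𝒩 i ⊆ 𝒩` the subalgebra generated by `E`.

* `mT ν i : N ⟶ Spec ℬ`, `mT_π : mT ≫ π = ν`.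
* `fromSpec_mT`: on the chart over an affine open `U`, `mT` is `Spec` of the inclusion
  `ℬ(U) ⊆ Γ(N, ν⁻¹ U)`.
* `isFinite_π`: `Spec ℬ ⟶ S` is finite.
-/

set_option autoImplicit false
set_option linter.style.haveILetI false
universe u

open CategoryTheory CategoryTheory.Limits AlgebraicGeometry TopologicalSpace Opposite

namespace Groth.Agent.Lib.helper9.ZMTFin

open Groth.Agent.Lib.helper16.QCAlg Groth.Agent.Lib.helper12.FiniteProj

variable {N S : Scheme.{u}} (ν : N ⟶ S) [IsIntegralHom ν]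

/-- the direct image algebra -/
noncomputable abbrev dN : RelSpec.QCAlg S := RelSpec.QCAlg.directImage ν

/-- `Spec ν_* O_N ⟶ N` -/
noncomputable def cInv : (dN ν).spec ⟶ N := (exists_specToX ν).choose

theorem ι_cInv (U : S.Opens) (hU : IsAffineOpen U) :
    (dN ν).ι U hU ≫ cInv ν = chartToX ν U hU :=
  (exists_specToX ν).choose_spec U hU

instance : IsIso (cInv ν) := isIso_specToX ν (cInv ν) (ι_cInv ν)

theorem cInv_comp : cInv ν ≫ ν = (dN ν).π := specToX_comp ν (cInv ν) (ι_cInv ν)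

variable {E : S.Modules} [E.IsQuasicoherent] (i : E ⟶ (dN ν).toModule)

/-- the subalgebra generated by `E` -/
noncomputable abbrev sB : RelSpec.QCAlg S := subAlg (dN ν) i

/-- `N ⟶ Spec ℬ` -/
noncomputable def mT : N ⟶ (sB ν i).spec :=
  inv (cInv ν) ≫ RelSpec.QCAlg.specMap (subAlgι (dN ν) i)

theorem mT_π : mT ν i ≫ (sB ν i).π = ν := by
  rw [mT, Category.assoc, RelSpec.QCAlg.specMap_π, IsIso.inv_comp_eq, cInv_comp]

/-- the inclusion `ℬ(U) ⊆ Γ(N, ν⁻¹ U)` -/
noncomputable abbrev ψ (U : S.Opens) :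
    (sB ν i).presheaf.obj (op U) ⟶ (dN ν).presheaf.obj (op U) :=
  (subAlgι (dN ν) i).hom.app (op U)

theorem ψ_injective (U : S.Opens) : Function.Injective (ψ ν i U).hom :=
  subPresheafι_injective (dN ν) i U

theorem chartToX_mT (U : S.Opens) (hU : IsAffineOpen U) :
    chartToX ν U hU ≫ mT ν i = Spec.map (ψ ν i U) ≫ (sB ν i).ι U hU := by
  rw [mT, ← ι_cInv ν U hU, Category.assoc, IsIso.hom_inv_id_assoc]
  exact RelSpec.QCAlg.ι_specMap U hU (subAlgι (dN ν) i)

theorem str_comp_ψ (U : S.Opens) : (sB ν i).str.app (op U) ≫ ψ ν i U = (dN ν).str.app (op U) := by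
  have := (subAlgι (dN ν) i).comm
  exact congr($(this).app (op U))

set_option backward.isDefEq.respectTransparency false in
theorem isFinite_π (hE : CohB1.IsFT E) : IsFinite (sB ν i).π := by
  refine Groth.Agent.Lib.helper28.RelSpecLocal.π_of_affine (sB ν i) @IsFinite fun U => ?_
  rw [IsFinite.SpecMap_iff]
  have hft : ((sB ν i).str.app (op U.1)).hom.FiniteType := subAlg_finiteType (dN ν) i hE ⟨U.1, U.2⟩
  refine RingHom.Finite.of_isIntegral_of_finiteType ?_ hft
  intro x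
  have hint : ((dN ν).str.app (op U.1)).hom.IsIntegralElem ((ψ ν i U.1).hom x) :=
    IsIntegralHom.isIntegral_app ν U.1 U.2 _
  obtain ⟨p, hp, hpx⟩ := hint
  refine ⟨p, hp, ψ_injective ν i U.1 ?_⟩
  rw [map_zero, Polynomial.hom_eval₂]
  rw [← str_comp_ψ ν i U.1] at hpx
  exact hpx

end Groth.Agent.Lib.helper9.ZMTFin
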