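import Groth.Agent.Lib.Helper9.ZMTFin2

/-!
# ZMT, finite form (helper9), part 3: local analysis of `mT : N ⟶ Spec ℬ` over an affine open
-/

set_option autoImplicit false
set_option linter.style.haveILetI false
universe u

open CategoryTheory CategoryTheory.Limits AlgebraicGeometry TopologicalSpace Opposite

namespace Groth.Agent.Lib.helper9.ZMTFin

open Groth.Agent.Lib.helper16.QCAlg Groth.Agent.Lib.helper12.FiniteProj

variable {N S : Scheme.{u}} (ν : N ⟶ S) [IsIntegralHom ν]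
variable {E : S.Modules} [E.IsQuasicoherent] (i : E ⟶ (dN ν).toModule)
variable (U : S.Opens) (hU : IsAffineOpen U)

/-- the chart `Spec Γ(N, ν⁻¹U)[1/n̄] ⟶ N` -/
noncomputable def uN (nb : (dN ν).presheaf.obj (op U)) :
    Spec (.of (Localization.Away nb)) ⟶ N :=
  Spec.map (CommRingCat.ofHom (algebraMap ((dN ν).presheaf.obj (op U)) (Localization.Away nb))) ≫
    chartToX ν U hU

instance : IsOpenImmersion (chartToX ν U hU) :=
  inferInstanceAs (IsOpenImmersion (hU.preimage ν).fromSpec)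

instance (nb : (dN ν).presheaf.obj (op U)) : IsOpenImmersion (Spec.map (CommRingCat.ofHom
    (algebraMap ((dN ν).presheaf.obj (op U)) (Localization.Away nb)))) :=
  IsOpenImmersion.of_isLocalization nb

instance (nb : (dN ν).presheaf.obj (op U)) : IsOpenImmersion (uN ν U hU nb) := by
  unfold uN
  infer_instance

theorem opensRange_uN (nb : (dN ν).presheaf.obj (op U)) :
    (uN ν U hU nb).opensRange = N.basicOpen (show Γ(N, ν ⁻¹ᵁ U) from nb) := by
  have h2 := (hU.preimage ν).fromSpec_image_basicOpen (show Γ(N, ν ⁻¹ᵁ U) from nb)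
  rw [← h2]
  have h3 : (uN ν U hU nb).opensRange = chartToX ν U hU ''ᵁ (Spec.map (CommRingCat.ofHom
      (algebraMap ((dN ν).presheaf.obj (op U)) (Localization.Away nb)))).opensRange :=
    Scheme.Hom.opensRange_comp _ _
  rw [h3]
  congr 1
  exact TopologicalSpace.Opens.ext <| PrimeSpectrum.localization_away_comap_range _ _

theorem range_uN (nb : (dN ν).presheaf.obj (op U)) :
    Set.range (uN ν U hU nb).base = (N.basicOpen (show Γ(N, ν ⁻¹ᵁ U) from nb) : Set N) := by
  rw [← opensRange_uN ν U hU nb]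
  rfl

theorem uN_mT (n : (sB ν i).presheaf.obj (op U)) :
    uN ν U hU ((ψ ν i U).hom n) ≫ mT ν i =
      (Spec.map (CommRingCat.ofHom (algebraMap ((dN ν).presheaf.obj (op U))
          (Localization.Away ((ψ ν i U).hom n)))) ≫ Spec.map (ψ ν i U)) ≫ (sB ν i).ι U hU := by
  unfold uN
  rw [Category.assoc, chartToX_mT, Category.assoc]

theorem isOpenImmersion_uN_mT (n : (sB ν i).presheaf.obj (op U))
    (h : Function.Bijective (Localization.awayMap (ψ ν i U).hom n)) :
    IsOpenImmersion (uN ν U hU ((ψ ν i U).hom n) ≫ mT ν i) := by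
  rw [uN_mT]
  haveI := isOpenImmersion_SpecMap_away_comp (ψ ν i U) n h
  infer_instance

include hU in
/-- membership in basic opens of `ν⁻¹U` is detected after `mT`. -/
theorem mem_basicOpen_iff_of_mT_eq (n : (sB ν i).presheaf.obj (op U)) {y y' : N}
    (hy : y ∈ ν ⁻¹ᵁ U) (hy' : y' ∈ ν ⁻¹ᵁ U) (h : (mT ν i).base y = (mT ν i).base y') :
    y ∈ N.basicOpen (show Γ(N, ν ⁻¹ᵁ U) from (ψ ν i U).hom n) ↔
      y' ∈ N.basicOpen (show Γ(N, ν ⁻¹ᵁ U) from (ψ ν i U).hom n) := by
  have hV := hU.preimage ν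
  have key : ∀ y : N, y ∈ ν ⁻¹ᵁ U → ∃ z : Spec ((dN ν).presheaf.obj (op U)),
      (chartToX ν U hU).base z = y ∧
      (y ∈ N.basicOpen (show Γ(N, ν ⁻¹ᵁ U) from (ψ ν i U).hom n) ↔
        n ∉ ((Spec.map (ψ ν i U)).base z).asIdeal) := by
    intro y hy
    have : y ∈ Set.range hV.fromSpec.base := by
      rw [hV.range_fromSpec]; exact hy
    obtain ⟨z, rfl⟩ := this
    refine ⟨z, rfl, ?_⟩
    have h3 := hV.fromSpec_preimage_basicOpen (show Γ(N, ν ⁻¹ᵁ U) from (ψ ν i U).hom n)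
    have h4 : hV.fromSpec.base z ∈ N.basicOpen (show Γ(N, ν ⁻¹ᵁ U) from (ψ ν i U).hom n) ↔
        z ∈ hV.fromSpec ⁻¹ᵁ N.basicOpen (show Γ(N, ν ⁻¹ᵁ U) from (ψ ν i U).hom n) := Iff.rfl
    rw [h4, h3]
    rfl
  obtain ⟨z, rfl, hz⟩ := key y hy
  obtain ⟨z', rfl, hz'⟩ := key y' hy'
  rw [hz, hz']
  have e1 : (mT ν i).base ((chartToX ν U hU).base z) =
      ((sB ν i).ι U hU).base ((Spec.map (ψ ν i U)).base z) := by
    rw [← Scheme.Hom.comp_apply, ← Scheme.Hom.comp_apply, chartToX_mT]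
  have e2 : (mT ν i).base ((chartToX ν U hU).base z') =
      ((sB ν i).ι U hU).base ((Spec.map (ψ ν i U)).base z') := by
    rw [← Scheme.Hom.comp_apply, ← Scheme.Hom.comp_apply, chartToX_mT]
  rw [e1, e2] at h
  have := ((sB ν i).ι U hU).isOpenEmbedding.injective h
  rw [this]

end Groth.Agent.Lib.helper9.ZMTFin
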