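import Groth.Agent.Lib.Helper9.ZMTFin3

/-!
# ZMT, finite form (helper9), part 4: the finite data over an affine open

`ν : N ⟶ S` integral, `O ⊆ N` open with `O ⟶ S` quasi-compact and locally of finite type.
-/

set_option autoImplicit false
set_option linter.style.haveILetI false
universe u

open CategoryTheory CategoryTheory.Limits AlgebraicGeometry TopologicalSpace Opposite

namespace Groth.Agent.Lib.helper9.ZMTFin

open Groth.Agent.Lib.helper16.QCAlg Groth.Agent.Lib.helper12.FiniteProj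

variable {N S : Scheme.{u}} (ν : N ⟶ S) [IsIntegralHom ν] (O : N.Opens)
variable (U : S.Opens) (hU : IsAffineOpen U)

theorem chartToX_comp : chartToX ν U hU ≫ ν = Spec.map ((dN ν).str.app (op U)) ≫ hU.fromSpec := by
  change (hU.preimage ν).fromSpec ≫ ν = Spec.map (ν.app U) ≫ hU.fromSpec
  have h := IsAffineOpen.SpecMap_appLE_fromSpec ν hU (hU.preimage ν) le_rfl
  rw [← h, Scheme.Hom.app_eq_appLE]

theorem finiteType_of_chart {N S : Scheme.{u}} (ν : N ⟶ S) {U : S.Opens} (hU : IsAffineOpen U)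
    (Rb : CommRingCat.{u}) (c : Spec Rb ⟶ N) (σ : Γ(S, U) ⟶ Rb)
    (hc : c ≫ ν = Spec.map σ ≫ hU.fromSpec) (nb : Rb)
    (h1 : LocallyOfFiniteType
      ((Spec.map (CommRingCat.ofHom (algebraMap Rb (Localization.Away nb))) ≫ c) ≫ ν)) :
    ((algebraMap Rb (Localization.Away nb)).comp σ.hom).FiniteType := by
  have h2 : (Spec.map (CommRingCat.ofHom (algebraMap Rb (Localization.Away nb))) ≫ c) ≫ ν =
      Spec.map (σ ≫ CommRingCat.ofHom (algebraMap Rb (Localization.Away nb))) ≫ hU.fromSpec := by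
    rw [Category.assoc, hc, Spec.map_comp, Category.assoc]
  rw [h2] at h1
  have h3 := @locallyOfFiniteType_of_comp _ _ _ _ hU.fromSpec h1
  exact (HasRingHomProperty.Spec_iff (P := @LocallyOfFiniteType)).mp h3

include hU in
theorem finiteType_away [LocallyOfFiniteType (O.ι ≫ ν)] (nb : (dN ν).presheaf.obj (op U))
    (hle : N.basicOpen (show Γ(N, ν ⁻¹ᵁ U) from nb) ≤ O) :
    ((algebraMap ((dN ν).presheaf.obj (op U)) (Localization.Away nb)).comp
      ((dN ν).str.app (op U)).hom).FiniteType := by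
  have hr : Set.range (uN ν U hU nb).base ⊆ Set.range O.ι.base := by
    rw [range_uN, Scheme.Opens.range_ι]
    exact hle
  let u' := IsOpenImmersion.lift O.ι (uN ν U hU nb) hr
  have hu' : u' ≫ O.ι = uN ν U hU nb := IsOpenImmersion.lift_fac _ _ _
  haveI : IsOpenImmersion (u' ≫ O.ι) := by rw [hu']; infer_instance
  haveI : IsOpenImmersion u' := IsOpenImmersion.of_comp u' O.ι
  have h1 : LocallyOfFiniteType (uN ν U hU nb ≫ ν) := by
    rw [← hu', Category.assoc]
    infer_instance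
  exact finiteType_of_chart ν hU ((dN ν).presheaf.obj (op U)) (chartToX ν U hU)
    ((dN ν).str.app (op U)) (chartToX_comp ν U hU) nb h1

include hU in
theorem exists_numerators [LocallyOfFiniteType (O.ι ≫ ν)] (nb : (dN ν).presheaf.obj (op U))
    (hle : N.basicOpen (show Γ(N, ν ⁻¹ᵁ U) from nb) ≤ O) :
    ∃ (T : Finset ((dN ν).presheaf.obj (op U))) (s : Finset (Localization.Away nb)),
      @Algebra.adjoin Γ(S, U) (Localization.Away nb) _ _
        ((algebraMap ((dN ν).presheaf.obj (op U)) (Localization.Away nb)).comp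
          ((dN ν).str.app (op U)).hom).toAlgebra (s : Set (Localization.Away nb)) = ⊤ ∧
      ∀ x ∈ s, ∃ b ∈ T, ∃ e : ℕ,
        x * algebraMap ((dN ν).presheaf.obj (op U)) (Localization.Away nb) nb ^ e =
          algebraMap ((dN ν).presheaf.obj (op U)) (Localization.Away nb) b := by
  classical
  have hft := finiteType_away ν O U hU nb hle
  letI := ((algebraMap ((dN ν).presheaf.obj (op U)) (Localization.Away nb)).comp
          ((dN ν).str.app (op U)).hom).toAlgebra
  obtain ⟨s, hs⟩ := (hft : Algebra.FiniteType Γ(S, U) (Localization.Away nb)).out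
  choose kf af h using IsLocalization.Away.surj (S := Localization.Away nb) nb
  refine ⟨s.image af, s, hs, fun x hx => ⟨af x, Finset.mem_image_of_mem _ hx, kf x, h x⟩⟩

omit [IsIntegralHom ν] in
include hU in
theorem isCompact_inf_preimage [QuasiCompact (O.ι ≫ ν)] :
    IsCompact ((O ⊓ ν ⁻¹ᵁ U : N.Opens) : Set N) := by
  have h1 : IsCompact ((O.ι ≫ ν).base ⁻¹' (U : Set S)) :=
    QuasiCompact.isCompact_preimage (f := O.ι ≫ ν) _ U.isOpen hU.isCompact
  have h2 := h1.image O.ι.continuous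
  convert h2 using 1
  ext y
  simp only [Opens.coe_inf, Set.mem_inter_iff, SetLike.mem_coe, Set.mem_image, Set.mem_preimage]
  constructor
  · rintro ⟨hyO, hyU⟩
    exact ⟨⟨y, hyO⟩, hyU, rfl⟩
  · rintro ⟨z, hz, rfl⟩
    exact ⟨z.2, hz⟩

include hU in
theorem exists_basicOpen_cover [QuasiCompact (O.ι ≫ ν)] :
    ∃ sU : Finset ((dN ν).presheaf.obj (op U)),
      (∀ nb ∈ sU, N.basicOpen (show Γ(N, ν ⁻¹ᵁ U) from nb) ≤ O) ∧
      ∀ y : N, y ∈ O → y ∈ ν ⁻¹ᵁ U →
        ∃ nb ∈ sU, y ∈ N.basicOpen (show Γ(N, ν ⁻¹ᵁ U) from nb) := by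
  classical
  have hV := hU.preimage ν
  have hc := isCompact_inf_preimage ν O U hU
  have hex : ∀ y : (O ⊓ ν ⁻¹ᵁ U : N.Opens), ∃ f : Γ(N, ν ⁻¹ᵁ U),
      N.basicOpen f ≤ (O ⊓ ν ⁻¹ᵁ U : N.Opens) ∧ (y : N) ∈ N.basicOpen f :=
    fun y => hV.exists_basicOpen_le y y.2.2
  choose f hf1 hf2 using hex
  obtain ⟨t, ht⟩ := hc.elim_finite_subcover (fun y => ((N.basicOpen (f y) : N.Opens) : Set N))
    (fun y => (N.basicOpen (f y)).isOpen) (fun y hy => Set.mem_iUnion.mpr ⟨⟨y, hy⟩, hf2 ⟨y, hy⟩⟩)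
  refine ⟨t.image f, ?_, ?_⟩
  · intro nb hnb
    obtain ⟨y, -, rfl⟩ := Finset.mem_image.mp hnb
    exact (hf1 y).trans inf_le_left
  · intro y hyO hyU
    have := ht ⟨hyO, hyU⟩
    simp only [Set.mem_iUnion] at this
    obtain ⟨z, hz, hyz⟩ := this
    exact ⟨f z, Finset.mem_image_of_mem _ hz, hyz⟩

end Groth.Agent.Lib.helper9.ZMTFin
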