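import Groth.Agent.Lib.Helper9.ZMTFin4

/-!
# ZMT, finite form (helper9), part 5: a finite quotient of an integral scheme capturing an open

`exists_finite_factor`: `ν : N ⟶ S` integral, `S` quasi-compact quasi-separated, `O ⊆ N` open with
`O ⟶ S` quasi-compact and locally of finite type.  Then `ν` factors as `N ⟶ T ⟶ S` with `T ⟶ S`
finite and `O ⟶ N ⟶ T` an open immersion.
-/

set_option autoImplicit false
set_option linter.style.haveILetI false
universe u

open CategoryTheory CategoryTheory.Limits AlgebraicGeometry TopologicalSpace Opposite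

namespace Groth.Agent.Lib.helper9.ZMTFin

open Groth.Agent.Lib.helper16.QCAlg Groth.Agent.Lib.helper12.FiniteProj

variable {N S : Scheme.{u}} (ν : N ⟶ S) [IsIntegralHom ν] (O : N.Opens)

omit [IsIntegralHom ν] in
theorem exists_finset_affineOpens_cover [CompactSpace S] :
    ∃ t : Finset S.affineOpens, ∀ x : S, ∃ V ∈ t, x ∈ V.1 := by
  obtain ⟨t, ht⟩ := isCompact_univ.elim_finite_subcover
    (fun V : S.affineOpens => ((V.1 : S.Opens) : Set S)) (fun V => V.1.isOpen) (by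
      intro x _
      obtain ⟨_, ⟨V, hV, rfl⟩, hxV, -⟩ := S.isBasis_affineOpens.exists_subset_of_mem_open
        (Set.mem_univ x) isOpen_univ
      exact Set.mem_iUnion.mpr ⟨⟨V, hV⟩, hxV⟩)
  refine ⟨t, fun x => ?_⟩
  have := ht (Set.mem_univ x)
  simp only [Set.mem_iUnion] at this
  obtain ⟨V, hV, hx⟩ := this
  exact ⟨V, hV, hx⟩

/-- the data over one affine open -/
theorem exists_local_data [QuasiCompact (O.ι ≫ ν)] [LocallyOfFiniteType (O.ι ≫ ν)]
    (V : S.affineOpens) :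
    ∃ (sU T : Finset ((dN ν).presheaf.obj (op V.1))), sU ⊆ T ∧
      (∀ nb ∈ sU, N.basicOpen (show Γ(N, ν ⁻¹ᵁ V.1) from nb) ≤ O) ∧
      (∀ y : N, y ∈ O → y ∈ ν ⁻¹ᵁ V.1 →
        ∃ nb ∈ sU, y ∈ N.basicOpen (show Γ(N, ν ⁻¹ᵁ V.1) from nb)) ∧
      ∀ nb ∈ sU, ∃ s : Finset (Localization.Away nb),
        @Algebra.adjoin Γ(S, V.1) (Localization.Away nb) _ _
          ((algebraMap ((dN ν).presheaf.obj (op V.1)) (Localization.Away nb)).comp
            ((dN ν).str.app (op V.1)).hom).toAlgebra (s : Set (Localization.Away nb)) = ⊤ ∧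
        ∀ x ∈ s, ∃ b ∈ T, ∃ e : ℕ,
          x * algebraMap ((dN ν).presheaf.obj (op V.1)) (Localization.Away nb) nb ^ e =
            algebraMap ((dN ν).presheaf.obj (op V.1)) (Localization.Away nb) b := by
  classical
  obtain ⟨sU, h1, h2⟩ := exists_basicOpen_cover ν O V.1 V.2
  have h3 : ∀ nb : sU, ∃ (T : Finset ((dN ν).presheaf.obj (op V.1)))
      (s : Finset (Localization.Away nb.1)),
      @Algebra.adjoin Γ(S, V.1) (Localization.Away nb.1) _ _
        ((algebraMap ((dN ν).presheaf.obj (op V.1)) (Localization.Away nb.1)).comp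
          ((dN ν).str.app (op V.1)).hom).toAlgebra (s : Set (Localization.Away nb.1)) = ⊤ ∧
      ∀ x ∈ s, ∃ b ∈ T, ∃ e : ℕ,
        x * algebraMap ((dN ν).presheaf.obj (op V.1)) (Localization.Away nb.1) nb.1 ^ e =
          algebraMap ((dN ν).presheaf.obj (op V.1)) (Localization.Away nb.1) b :=
    fun nb => exists_numerators ν O V.1 V.2 nb.1 (h1 nb.1 nb.2)
  choose Tn sn hs hn using h3
  refine ⟨sU, sU ∪ sU.attach.biUnion Tn, Finset.subset_union_left, h1, h2, ?_⟩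
  intro nb hnb
  refine ⟨sn ⟨nb, hnb⟩, hs ⟨nb, hnb⟩, fun x hx => ?_⟩
  obtain ⟨b, hb, e, he⟩ := hn ⟨nb, hnb⟩ x hx
  refine ⟨b, Finset.mem_union_right _ ?_, e, he⟩
  exact Finset.mem_biUnion.mpr ⟨⟨nb, hnb⟩, Finset.mem_attach _ _, hb⟩

section Lift

variable {E : S.Modules} [E.IsQuasicoherent] (i : E ⟶ (dN ν).toModule)

/-- sections in the image of `i` lie in the subalgebra -/
theorem exists_ψ_eq_of_mem_range (U : S.Opens) (b : (dN ν).presheaf.obj (op U))
    (hb : ofB (dN ν) b ∈ Set.range (i.app U)) :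
    ∃ b' : (sB ν i).presheaf.obj (op U), (ψ ν i U).hom b' = b := by
  obtain ⟨e, he⟩ := hb
  refine ⟨⟨jB (dN ν) i U e, jB_mem_subRing (dN ν) i U e⟩, ?_⟩
  exact he

end Lift

set_option maxHeartbeats 2000000 in
theorem exists_finite_factor [CompactSpace S] [QuasiSeparatedSpace S]
    [QuasiCompact (O.ι ≫ ν)] [LocallyOfFiniteType (O.ι ≫ ν)] :
    ∃ (T : Scheme.{u}) (m : N ⟶ T) (π : T ⟶ S),
      IsFinite π ∧ m ≫ π = ν ∧ IsOpenImmersion (O.ι ≫ m) := by
  classical
  obtain ⟨t, ht⟩ := exists_finset_affineOpens_cover (S := S)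
  choose sU TU hsub hle hcov hgen using exists_local_data ν O
  haveI := isQuasicoherent_toModule (dN ν)
  obtain ⟨G, i, hmono, hq, hft, hmem⟩ :=
    Groth.Agent.Lib.helper16.Satur.exists_ft_sub_sections_family (dN ν).toModule t
      (fun V => (TU V).image (ofB (dN ν) (U := V.1)))
  haveI := hq
  -- lifting the chosen sections to the subalgebra
  have hlift : ∀ V ∈ t, ∀ b ∈ TU V,
      ∃ b' : (sB ν i).presheaf.obj (op V.1), (ψ ν i V.1).hom b' = b :=
    fun V hV b hb => exists_ψ_eq_of_mem_range ν i V.1 b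
      (hmem V hV (ofB (dN ν) b) (Finset.mem_image_of_mem _ hb))
  have good : ∀ V ∈ t, ∀ nb ∈ sU V, ∃ n : (sB ν i).presheaf.obj (op V.1),
      (ψ ν i V.1).hom n = nb ∧ Function.Bijective (Localization.awayMap (ψ ν i V.1).hom n) := by
    intro V hV nb hnb
    obtain ⟨n, hn⟩ := hlift V hV nb (hsub V hnb)
    subst hn
    refine ⟨n, rfl, ?_⟩
    obtain ⟨s, hs, hx⟩ := hgen V _ hnb
    refine awayMap_bijective_of_adjoin ((sB ν i).str.app (op V.1)).hom (ψ ν i V.1).hom n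
      (ψ_injective ν i V.1) ((dN ν).str.app (op V.1)).hom ?_ (s : Set _) hs ?_
    · intro r
      have := str_comp_ψ ν i V.1
      exact congr($(this).hom r).symm
    · intro x hxs
      obtain ⟨b, hb, e, he⟩ := hx x hxs
      obtain ⟨b', rfl⟩ := hlift V hV b hb
      exact ⟨b', e, he⟩
  refine ⟨(sB ν i).spec, mT ν i, (sB ν i).π, isFinite_π ν i hft, mT_π ν i, ?_⟩
  -- every point of `O` lies in a good basic open
  have hpt : ∀ y : N, y ∈ O → ∃ V ∈ t, y ∈ ν ⁻¹ᵁ V.1 ∧ ∃ n : (sB ν i).presheaf.obj (op V.1),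
      N.basicOpen (show Γ(N, ν ⁻¹ᵁ V.1) from (ψ ν i V.1).hom n) ≤ O ∧
      y ∈ N.basicOpen (show Γ(N, ν ⁻¹ᵁ V.1) from (ψ ν i V.1).hom n) ∧
      Function.Bijective (Localization.awayMap (ψ ν i V.1).hom n) := by
    intro y hy
    obtain ⟨V, hV, hyV⟩ := ht (ν.base y)
    obtain ⟨nb, hnb, hynb⟩ := hcov V y hy hyV
    obtain ⟨n, rfl, hbij⟩ := good V hV nb hnb
    exact ⟨V, hV, hyV, n, hle V _ hnb, hynb, hbij⟩
  refine IsOpenImmersion.of_forall_source_exists (O.ι ≫ mT ν i) ?_ ?_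
  · -- injectivity
    intro y₁ y₂ h12
    have h12' : (mT ν i).base (O.ι.base y₁) = (mT ν i).base (O.ι.base y₂) := by
      simpa [Scheme.Hom.comp_apply] using h12
    obtain ⟨V, hV, hyV, n, hnO, hyn, hbij⟩ := hpt (O.ι.base y₁) y₁.2
    have hV2 : IsAffineOpen V.1 := V.2
    have hν : ν.base (O.ι.base y₂) = ν.base (O.ι.base y₁) := by
      have e1 : ∀ y : N, ν.base y = (sB ν i).π.base ((mT ν i).base y) := by
        intro y
        rw [← Scheme.Hom.comp_apply, mT_π]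
      rw [e1, e1, h12']
    have hyV₂ : O.ι.base y₂ ∈ ν ⁻¹ᵁ V.1 := by
      change ν.base (O.ι.base y₂) ∈ V.1
      rw [hν]; exact hyV
    have hyn₂ := (mem_basicOpen_iff_of_mT_eq ν i V.1 hV2 n hyV hyV₂ h12').mp hyn
    rw [← SetLike.mem_coe, ← range_uN ν V.1 hV2] at hyn hyn₂
    obtain ⟨w₁, hw₁⟩ := hyn
    obtain ⟨w₂, hw₂⟩ := hyn₂
    haveI := isOpenImmersion_uN_mT ν i V.1 hV2 n hbij
    have hw : w₁ = w₂ := by
      apply (uN ν V.1 hV2 ((ψ ν i V.1).hom n) ≫ mT ν i).isOpenEmbedding.injective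
      rw [Scheme.Hom.comp_apply, Scheme.Hom.comp_apply, hw₁, hw₂, h12']
    apply O.ι.isOpenEmbedding.injective
    rw [← hw₁, ← hw₂, hw]
  · -- local structure
    intro y
    obtain ⟨V, hV, hyV, n, hnO, hyn, hbij⟩ := hpt (O.ι.base y) y.2
    have hV2 : IsAffineOpen V.1 := V.2
    have hr : Set.range (uN ν V.1 hV2 ((ψ ν i V.1).hom n)).base ⊆ Set.range O.ι.base := by
      rw [range_uN ν V.1 hV2, Scheme.Opens.range_ι]
      exact hnO
    let u' := IsOpenImmersion.lift O.ι (uN ν V.1 hV2 ((ψ ν i V.1).hom n)) hr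
    have hu' : u' ≫ O.ι = uN ν V.1 hV2 ((ψ ν i V.1).hom n) := IsOpenImmersion.lift_fac _ _ _
    haveI : IsOpenImmersion (u' ≫ O.ι) := by
      rw [hu']
      infer_instance
    haveI : IsOpenImmersion u' := IsOpenImmersion.of_comp u' O.ι
    refine ⟨_, u', inferInstance, ?_, ?_⟩
    · rw [← SetLike.mem_coe, ← range_uN ν V.1 hV2] at hyn
      obtain ⟨w, hw⟩ := hyn
      refine ⟨w, ?_⟩
      apply O.ι.isOpenEmbedding.injective
      rw [← Scheme.Hom.comp_apply, hu', hw]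
    · rw [← Category.assoc, hu']
      exact isOpenImmersion_uN_mT ν i V.1 hV2 n hbij

end Groth.Agent.Lib.helper9.ZMTFin
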